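import Mathlib

set_option autoImplicit false
set_option linter.style.haveILetI false
set_option linter.unusedSectionVars false

/-!
# Algebraic integers among the complex numbers
-/

namespace Cfsg.Agent.Lib.helper3.AlgInt

/-- A rational number which is an algebraic integer (as a complex number) is an integer. -/
theorem exists_int_of_isIntegral_ratCast {q : ℚ} (h : IsIntegral ℤ (q : ℂ)) : ∃ z : ℤ, (z : ℚ) = q := by
  have h1 : IsIntegral ℤ q := by
    have : (q : ℂ) = algebraMap ℚ ℂ q := rfl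
    rw [this] at h
    exact (isIntegral_algebraMap_iff (algebraMap ℚ ℂ).injective).mp h
  obtain ⟨z, hz⟩ := IsIntegrallyClosed.isIntegral_iff.mp h1
  exact ⟨z, hz⟩

/-- If `a = b * w` with `a b` integers, `b ≠ 0`, `w` an algebraic integer, then `b ∣ a`. -/
theorem int_dvd_of_eq_mul_isIntegral {a b : ℤ} {w : ℂ} (hw : IsIntegral ℤ w)
    (h : (a : ℂ) = (b : ℂ) * w) (hb : b ≠ 0) : b ∣ a := by
  have hbC : (b : ℂ) ≠ 0 := by exact_mod_cast hb
  have hwq : w = (((a : ℚ) / (b : ℚ) : ℚ) : ℂ) := by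
    push_cast
    field_simp
    rw [h]; ring
  rw [hwq] at hw
  obtain ⟨z, hz⟩ := exists_int_of_isIntegral_ratCast hw
  refine ⟨z, ?_⟩
  have hbQ : (b : ℚ) ≠ 0 := by exact_mod_cast hb
  have : (a : ℚ) = (b : ℚ) * (z : ℚ) := by
    rw [hz]; field_simp
  exact_mod_cast this

/-- The key divisibility: if an integer is `(1 - ε)` times an algebraic integer, for `ε` a primitive
`p`-th root of unity, then `p` divides it. -/
theorem prime_dvd_of_eq_one_sub_mul {p : ℕ} (hp : p.Prime) {ε : ℂ} (hε : IsPrimitiveRoot ε p)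
    (n : ℤ) (ω : ℂ) (hω : IsIntegral ℤ ω) (h : (n : ℂ) = (1 - ε) * ω) : (p : ℤ) ∣ n := by
  obtain ⟨r, rfl⟩ : ∃ r, p = r + 1 := ⟨p - 1, (Nat.succ_pred_eq_of_pos hp.pos).symm⟩
  have hεint : IsIntegral ℤ ε := hε.isIntegral (Nat.succ_pos r)
  -- for each `k < r`, `n = (1 - ε^(k+1)) * ω_k` with `ω_k` integral
  have hk : ∀ k ∈ Finset.range r, ∃ w : ℂ, IsIntegral ℤ w ∧ (n : ℂ) = (1 - ε ^ (k + 1)) * w := by
    intro k hk
    have hkr : k + 1 < r + 1 := by
      have := Finset.mem_range.mp hk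
      omega
    have hcop : Nat.Coprime (k + 1) (r + 1) := by
      apply Nat.Coprime.symm
      apply (Nat.Prime.coprime_iff_not_dvd hp).mpr
      intro hdvd
      exact absurd (Nat.le_of_dvd (Nat.succ_pos k) hdvd) (by omega)
    obtain ⟨m, -, hm⟩ := Nat.exists_mul_mod_eq_one_of_coprime hcop hp.one_lt
    have hpow : (ε ^ (k + 1)) ^ m = ε := by
      rw [← pow_mul]
      have h1 : ε ^ ((k + 1) * m) = ε ^ ((k + 1) * m % (r + 1)) := by
        conv_lhs => rw [← Nat.div_add_mod ((k + 1) * m) (r + 1)]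
        rw [pow_add, pow_mul, hε.pow_eq_one, one_pow, one_mul]
      rw [h1, hm, pow_one]
    refine ⟨(∑ i ∈ Finset.range m, (ε ^ (k + 1)) ^ i) * ω, ?_, ?_⟩
    · apply IsIntegral.mul _ hω
      apply IsIntegral.sum
      intro i _
      exact (hεint.pow _).pow _
    · rw [← mul_assoc, mul_neg_geom_sum, hpow, h]
  choose! w hw1 hw2 using hk
  have hprod : (n : ℂ) ^ r = ((r + 1 : ℕ) : ℂ) * ∏ k ∈ Finset.range r, w k := by
    have h1 : (n : ℂ) ^ r = ∏ k ∈ Finset.range r, ((1 - ε ^ (k + 1)) * w k) := by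
      rw [← Finset.card_range r, ← Finset.prod_const]
      simp only [Finset.card_range]
      exact Finset.prod_congr rfl (fun k hk => hw2 k hk)
    rw [h1, Finset.prod_mul_distrib, hε.prod_one_sub_pow_eq_order]
    push_cast
    ring
  have hW : IsIntegral ℤ (∏ k ∈ Finset.range r, w k) := IsIntegral.prod _ (fun k hk => hw1 k hk)
  have hdvd : ((r + 1 : ℕ) : ℤ) ∣ n ^ r := by
    apply int_dvd_of_eq_mul_isIntegral hW
    · push_cast
      push_cast at hprod
      exact hprod
    · exact_mod_cast Nat.succ_ne_zero r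
  exact Int.Prime.dvd_pow' hp hdvd

end Cfsg.Agent.Lib.helper3.AlgInt
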