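import Mathlib
import Cfsg.Prelude.Def_Characters

set_option autoImplicit false
set_option linter.style.haveILetI false
set_option linter.unusedSectionVars false

/-!
# Eigenvalue description of character values
-/

namespace Cfsg.Agent.Lib.helper3.CharBasic

open Cfsg Module
open scoped ComplexConjugate

variable {G : Type*} [Group G] {V : Type*} [AddCommGroup V] [Module ℂ V] [FiniteDimensional ℂ V]

/-- An endomorphism of finite order over `ℂ` is semisimple. -/
theorem isSemisimple_of_pow_eq_one (f : Module.End ℂ V) (n : ℕ) (hn : 0 < n) (hf : f ^ n = 1) :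
    f.IsSemisimple := by
  apply Module.End.isSemisimple_of_squarefree_aeval_eq_zero (p := Polynomial.X ^ n - Polynomial.C 1)
  · apply Polynomial.Separable.squarefree
    apply Polynomial.separable_X_pow_sub_C
    · exact_mod_cast hn.ne'
    · exact one_ne_zero
  · simp [hf]

/-- Eigenbasis for an endomorphism of finite order. -/
theorem exists_eigenbasis_of_pow_eq_one (f : Module.End ℂ V) (n : ℕ) (hn : 0 < n) (hf : f ^ n = 1) :
    ∃ (I : Type) (_ : Fintype I) (v : Basis I ℂ V) (μ : I → ℂ),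
      (∀ i, f (v i) = μ i • v i) ∧ (∀ i, μ i ^ n = 1) := by
  classical
  have hs_ss := isSemisimple_of_pow_eq_one f n hn hf
  let eigenDecomp := DirectSum.isInternal_submodule_of_iSupIndep_of_iSup_eq_top
    f.eigenspaces_iSupIndep hs_ss.iSup_eigenspace_eq_top
  let I := (ν : ℂ) × Fin (finrank ℂ (f.eigenspace ν))
  let v : Basis I ℂ V := eigenDecomp.collectedBasis fun μ ↦ finBasis ℂ (f.eigenspace μ)
  have : Fintype I := FiniteDimensional.fintypeBasisIndex v
  let μ : I → ℂ := Sigma.fst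
  have hsv (i : I) : f (v i) = μ i • v i :=
    Module.End.mem_eigenspace_iff.mp (eigenDecomp.collectedBasis_mem _ i)
  refine ⟨I, this, v, μ, hsv, ?_⟩
  intro i
  have h1 : (f ^ n) (v i) = (μ i) ^ n • v i := by
    have : ∀ k : ℕ, (f ^ k) (v i) = (μ i) ^ k • v i := by
      intro k
      induction k with
      | zero => simp
      | succ k ih =>
        rw [pow_succ', Module.End.mul_apply, ih, map_smul, hsv, smul_smul, pow_succ]
    exact this n
  rw [hf, Module.End.one_apply] at h1
  have hne : v i ≠ 0 := v.ne_zero i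
  have : ((μ i) ^ n - 1) • v i = 0 := by rw [sub_smul, one_smul, ← h1, sub_self]
  rcases smul_eq_zero.mp this with h | h
  · exact sub_eq_zero.mp h
  · exact absurd h hne

/-- Eigenbasis for `ρ g` for an element of a finite group. -/
theorem exists_eigenbasis [Finite G] (ρ : Representation ℂ G V) (g : G) :
    ∃ (I : Type) (_ : Fintype I) (v : Basis I ℂ V) (μ : I → ℂ),
      (∀ i, ρ g (v i) = μ i • v i) ∧ (∀ i, μ i ^ orderOf g = 1) := by
  apply exists_eigenbasis_of_pow_eq_one (ρ g) (orderOf g) (orderOf_pos g)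
  rw [← map_pow, pow_orderOf_eq_one, map_one]

theorem norm_eq_one_of_pow_eq_one {z : ℂ} {n : ℕ} (hn : 0 < n) (h : z ^ n = 1) : ‖z‖ = 1 :=
  Complex.norm_eq_one_of_pow_eq_one h hn.ne'

theorem inv_eq_conj_of_pow_eq_one {z : ℂ} {n : ℕ} (hn : 0 < n) (h : z ^ n = 1) : z⁻¹ = conj z :=
  Complex.inv_eq_conj (norm_eq_one_of_pow_eq_one hn h)

/-- Trace of a diagonal endomorphism. -/
theorem trace_eq_sum_of_eigenbasis {I : Type*} [Fintype I] (v : Basis I ℂ V) (μ : I → ℂ)
    (f : Module.End ℂ V) (hf : ∀ i, f (v i) = μ i • v i) :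
    LinearMap.trace ℂ V f = ∑ i, μ i := by
  classical
  rw [LinearMap.trace_eq_matrix_trace ℂ v, Matrix.trace]
  apply Finset.sum_congr rfl
  intro i _
  rw [Matrix.diag_apply, LinearMap.toMatrix_apply, hf]
  simp

theorem character_eq_sum_of_eigenbasis (ρ : Representation ℂ G V) (g : G) {I : Type*} [Fintype I]
    (v : Basis I ℂ V) (μ : I → ℂ) (hf : ∀ i, ρ g (v i) = μ i • v i) :
    ρ.character g = ∑ i, μ i :=
  trace_eq_sum_of_eigenbasis v μ (ρ g) hf

theorem rho_pow_apply_eigen (ρ : Representation ℂ G V) (g : G) {I : Type*}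
    (v : Basis I ℂ V) (μ : I → ℂ) (hf : ∀ i, ρ g (v i) = μ i • v i) (k : ℕ) (i : I) :
    ρ (g ^ k) (v i) = (μ i) ^ k • v i := by
  induction k with
  | zero => simp
  | succ k ih =>
    rw [pow_succ', map_mul, Module.End.mul_apply, ih, map_smul, hf, smul_smul, pow_succ]

theorem rho_inv_apply_eigen (ρ : Representation ℂ G V) (g : G) {I : Type*}
    (v : Basis I ℂ V) (μ : I → ℂ) (hf : ∀ i, ρ g (v i) = μ i • v i) (hμ : ∀ i, μ i ≠ 0) (i : I) :
    ρ g⁻¹ (v i) = (μ i)⁻¹ • v i := by
  have h1 : ρ g⁻¹ (ρ g (v i)) = v i := by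
    rw [← Module.End.mul_apply, ← map_mul, inv_mul_cancel, map_one, Module.End.one_apply]
  rw [hf, map_smul] at h1
  calc ρ g⁻¹ (v i) = (μ i)⁻¹ • (μ i • ρ g⁻¹ (v i)) := by
        rw [smul_smul, inv_mul_cancel₀ (hμ i), one_smul]
    _ = (μ i)⁻¹ • v i := by rw [h1]

/-- `χ(g⁻¹) = conj χ(g)`. -/
theorem character_inv [Finite G] (ρ : Representation ℂ G V) (g : G) :
    ρ.character g⁻¹ = conj (ρ.character g) := by
  obtain ⟨I, _, v, μ, hf, hμ⟩ := exists_eigenbasis ρ g
  have hne : ∀ i, μ i ≠ 0 := by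
    intro i h
    have := hμ i
    rw [h, zero_pow (orderOf_pos g).ne'] at this
    exact zero_ne_one this
  rw [character_eq_sum_of_eigenbasis ρ g v μ hf,
    character_eq_sum_of_eigenbasis ρ g⁻¹ v (fun i => (μ i)⁻¹) (rho_inv_apply_eigen ρ g v μ hf hne),
    map_sum]
  apply Finset.sum_congr rfl
  intro i _
  exact inv_eq_conj_of_pow_eq_one (orderOf_pos g) (hμ i)

theorem card_eq_finrank_of_basis {I : Type*} [Fintype I] (v : Basis I ℂ V) :
    Fintype.card I = finrank ℂ V :=
  (Module.finrank_eq_card_basis v).symm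

/-- `‖χ(g)‖ ≤ χ(1)`. -/
theorem norm_character_le [Finite G] (ρ : Representation ℂ G V) (g : G) :
    ‖ρ.character g‖ ≤ (finrank ℂ V : ℝ) := by
  obtain ⟨I, _, v, μ, hf, hμ⟩ := exists_eigenbasis ρ g
  rw [character_eq_sum_of_eigenbasis ρ g v μ hf, ← card_eq_finrank_of_basis v]
  calc ‖∑ i, μ i‖ ≤ ∑ i, ‖μ i‖ := norm_sum_le _ _
    _ = ∑ _i : I, (1 : ℝ) := by
        apply Finset.sum_congr rfl
        intro i _
        exact norm_eq_one_of_pow_eq_one (orderOf_pos g) (hμ i)
    _ = (Fintype.card I : ℝ) := by simp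

/-- Character values are algebraic integers. -/
theorem isIntegral_character [Finite G] (ρ : Representation ℂ G V) (g : G) :
    IsIntegral ℤ (ρ.character g) := by
  obtain ⟨I, _, v, μ, hf, hμ⟩ := exists_eigenbasis ρ g
  rw [character_eq_sum_of_eigenbasis ρ g v μ hf]
  apply IsIntegral.sum
  intro i _
  exact IsIntegral.of_pow (orderOf_pos g) (by rw [hμ i]; exact isIntegral_one)

end Cfsg.Agent.Lib.helper3.CharBasic
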