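import Mathlib
import Cfsg.Prelude.Def_Characters
import Cfsg.Agent.Lib.helper3.IndFun
import Cfsg.Agent.Lib.helper3.CharBasic

set_option autoImplicit false
set_option linter.style.haveILetI false
set_option linter.unusedSectionVars false

/-!
# `classInner` API and orthonormality of irreducible characters
-/

namespace Cfsg.Agent.Lib.helper3.Irr

open Cfsg Module Cfsg.Agent.Lib.helper3.IndFun Cfsg.Agent.Lib.helper3.CharBasic
open scoped ComplexConjugate

section inner

variable {G : Type*} [Group G] [Fintype G]

theorem classInner_add_left (φ₁ φ₂ ψ : G → ℂ) :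
    classInner (φ₁ + φ₂) ψ = classInner φ₁ ψ + classInner φ₂ ψ := by
  simp only [classInner_apply, Pi.add_apply, add_mul, Finset.sum_add_distrib, mul_add]

theorem classInner_add_right (φ ψ₁ ψ₂ : G → ℂ) :
    classInner φ (ψ₁ + ψ₂) = classInner φ ψ₁ + classInner φ ψ₂ := by
  simp only [classInner_apply, Pi.add_apply, map_add, mul_add, Finset.sum_add_distrib]

theorem classInner_smul_left (c : ℂ) (φ ψ : G → ℂ) :
    classInner (c • φ) ψ = c * classInner φ ψ := by
  simp only [classInner_apply, Pi.smul_apply, smul_eq_mul, Finset.mul_sum]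
  apply Finset.sum_congr rfl
  intro g _
  ring

theorem classInner_smul_right (c : ℂ) (φ ψ : G → ℂ) :
    classInner φ (c • ψ) = conj c * classInner φ ψ := by
  simp only [classInner_apply, Pi.smul_apply, smul_eq_mul, map_mul, Finset.mul_sum]
  apply Finset.sum_congr rfl
  intro g _
  ring

theorem classInner_zero_left (ψ : G → ℂ) : classInner (0 : G → ℂ) ψ = 0 := by
  simp [classInner_apply]

theorem classInner_zero_right (φ : G → ℂ) : classInner φ (0 : G → ℂ) = 0 := by
  simp [classInner_apply]

theorem classInner_neg_left (φ ψ : G → ℂ) : classInner (-φ) ψ = - classInner φ ψ := by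
  have := classInner_smul_left (-1) φ ψ
  simpa using this

theorem classInner_neg_right (φ ψ : G → ℂ) : classInner φ (-ψ) = - classInner φ ψ := by
  have := classInner_smul_right (-1) φ ψ
  simpa using this

theorem classInner_sub_left (φ₁ φ₂ ψ : G → ℂ) :
    classInner (φ₁ - φ₂) ψ = classInner φ₁ ψ - classInner φ₂ ψ := by
  rw [sub_eq_add_neg, classInner_add_left, classInner_neg_left, sub_eq_add_neg]

theorem classInner_sub_right (φ ψ₁ ψ₂ : G → ℂ) :
    classInner φ (ψ₁ - ψ₂) = classInner φ ψ₁ - classInner φ ψ₂ := by
  rw [sub_eq_add_neg, classInner_add_right, classInner_neg_right, sub_eq_add_neg]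

theorem classInner_sum_left {ι : Type*} (s : Finset ι) (φ : ι → G → ℂ) (ψ : G → ℂ) :
    classInner (∑ i ∈ s, φ i) ψ = ∑ i ∈ s, classInner (φ i) ψ := by
  classical
  induction s using Finset.induction_on with
  | empty => simp [classInner_zero_left]
  | insert a s ha ih => rw [Finset.sum_insert ha, Finset.sum_insert ha, classInner_add_left, ih]

theorem classInner_sum_right {ι : Type*} (s : Finset ι) (φ : G → ℂ) (ψ : ι → G → ℂ) :
    classInner φ (∑ i ∈ s, ψ i) = ∑ i ∈ s, classInner φ (ψ i) := by
  classical
  induction s using Finset.induction_on with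
  | empty => simp [classInner_zero_right]
  | insert a s ha ih => rw [Finset.sum_insert ha, Finset.sum_insert ha, classInner_add_right, ih]

theorem classInner_conj_symm (φ ψ : G → ℂ) : conj (classInner φ ψ) = classInner ψ φ := by
  simp only [classInner_apply, map_mul, map_inv₀, Complex.conj_natCast, map_sum, Complex.conj_conj]
  congr 1
  apply Finset.sum_congr rfl
  intro g _
  ring

/-- `⟨φ, φ⟩ = 0 → φ = 0`. -/
theorem eq_zero_of_classInner_self_eq_zero (φ : G → ℂ) (h : classInner φ φ = 0) : φ = 0 := by
  rw [classInner_apply] at h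
  have hG : (Nat.card G : ℂ)⁻¹ ≠ 0 := inv_ne_zero (card_ne_zero_complex G)
  have h2 : ∑ g : G, φ g * conj (φ g) = 0 := by
    rcases mul_eq_zero.mp h with h | h
    · exact absurd h hG
    · exact h
  have h3 : ∑ g : G, (Complex.normSq (φ g) : ℂ) = 0 := by
    rw [← h2]
    apply Finset.sum_congr rfl
    intro g _
    rw [Complex.mul_conj]
  have h4 : ∑ g : G, Complex.normSq (φ g) = 0 := by
    exact_mod_cast h3
  have h5 := (Finset.sum_eq_zero_iff_of_nonneg (fun g _ => Complex.normSq_nonneg (φ g))).mp h4
  funext g
  exact Complex.normSq_eq_zero.mp (h5 g (Finset.mem_univ g))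

end inner

section char

variable {G : Type*} [Group G] [Fintype G]
variable {V : Type*} [AddCommGroup V] [Module ℂ V] [FiniteDimensional ℂ V]
variable {W : Type*} [AddCommGroup W] [Module ℂ W] [FiniteDimensional ℂ W]

/-- The inner product of two characters is the dimension of the space of intertwiners. -/
theorem classInner_character (ρ : Representation ℂ G V) (σ : Representation ℂ G W) :
    classInner ρ.character σ.character
      = (finrank ℂ (Representation.IntertwiningMap σ ρ) : ℂ) := by
  haveI : Invertible (Nat.card G : ℂ) := invertibleOfNonzero (card_ne_zero_complex G)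
  rw [← Representation.card_inv_mul_sum_char_mul_char_eq_finrank σ ρ, classInner_apply]
  congr 1
  apply Finset.sum_congr rfl
  intro g _
  rw [character_inv σ g]

open scoped Classical in
/-- Orthogonality for irreducible representations. -/
theorem classInner_character_irreducible (ρ : Representation ℂ G V) (σ : Representation ℂ G W)
    [ρ.IsIrreducible] [σ.IsIrreducible] :
    classInner ρ.character σ.character = if Nonempty (Representation.Equiv σ ρ) then 1 else 0 := by
  haveI : Invertible (Nat.card G : ℂ) := invertibleOfNonzero (card_ne_zero_complex G)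
  have := Representation.char_orthonormal ρ σ
  rw [classInner_apply]
  have h2 : ∑ g : G, ρ.character g * conj (σ.character g)
      = ∑ g : G, ρ.character g * σ.character g⁻¹ := by
    apply Finset.sum_congr rfl
    intro g _
    rw [character_inv σ g]
  rw [h2, this]

theorem classInner_character_self (ρ : Representation ℂ G V) [ρ.IsIrreducible] :
    classInner ρ.character ρ.character = 1 := by
  classical
  rw [classInner_character_irreducible ρ ρ, if_pos ⟨Representation.Equiv.refl ρ⟩]

end char

section irr

variable {G : Type*} [Group G] [Fintype G]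

theorem irr_classInner_self {χ : G → ℂ} (hχ : IsIrrCharacter G χ) :
    classInner χ χ = 1 := by
  obtain ⟨n, ρ, hirr, rfl⟩ := hχ
  haveI := hirr
  exact classInner_character_self ρ

theorem irr_classInner_eq_zero {χ ψ : G → ℂ} (hχ : IsIrrCharacter G χ)
    (hψ : IsIrrCharacter G ψ) (hne : χ ≠ ψ) : classInner χ ψ = 0 := by
  classical
  obtain ⟨n, ρ, hirr, rfl⟩ := hχ
  obtain ⟨m, σ, hirr', rfl⟩ := hψ
  haveI := hirr
  haveI := hirr'
  rw [classInner_character_irreducible ρ σ, if_neg]
  rintro ⟨e⟩
  exact hne (Representation.char_iso e).symm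

open scoped Classical in
theorem irr_classInner_eq {χ ψ : G → ℂ} (hχ : IsIrrCharacter G χ)
    (hψ : IsIrrCharacter G ψ) : classInner χ ψ = if χ = ψ then 1 else 0 := by
  split_ifs with h
  · subst h
    exact irr_classInner_self hχ
  · exact irr_classInner_eq_zero hχ hψ h

theorem irr_ne_zero {χ : G → ℂ} (hχ : IsIrrCharacter G χ) : χ ≠ 0 := by
  intro h
  have := irr_classInner_self hχ
  rw [h, classInner_zero_left] at this
  exact zero_ne_one this

end irr

end Cfsg.Agent.Lib.helper3.Irr
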