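import Mathlib
import Cfsg.Prelude.Def_Characters
import Cfsg.Agent.Lib.helper3.Irr1

set_option autoImplicit false
set_option linter.style.haveILetI false
set_option linter.unusedSectionVars false

/-!
# Linear independence and finiteness of the set of irreducible characters
-/

namespace Cfsg.Agent.Lib.helper3.Irr

open Cfsg Module Cfsg.Agent.Lib.helper3.IndFun Cfsg.Agent.Lib.helper3.CharBasic
open scoped ComplexConjugate

variable {G : Type*} [Group G]

theorem irr_linearIndependent [Finite G] :
    LinearIndependent ℂ (fun χ : IrrCharacter G => (χ : G → ℂ)) := by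
  classical
  letI : Fintype G := Fintype.ofFinite G
  rw [linearIndependent_iff']
  intro s c hsum j hj
  have h : classInner (∑ i ∈ s, c i • (i : G → ℂ)) (j : G → ℂ) = classInner 0 (j : G → ℂ) := by
    rw [hsum]
  rw [classInner_sum_left, classInner_zero_left] at h
  have h2 : ∀ i ∈ s, classInner (c i • (i : G → ℂ)) (j : G → ℂ) = if i = j then c i else 0 := by
    intro i _
    rw [classInner_smul_left, irr_classInner_eq i.2 j.2]
    by_cases hij : i = j
    · subst hij
      simp
    · have : (i : G → ℂ) ≠ (j : G → ℂ) := fun h => hij (Subtype.ext h)
      simp [hij, this]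
  rw [Finset.sum_congr rfl h2, Finset.sum_ite_eq' s j, if_pos hj] at h
  exact h

instance irr_finite [Finite G] : Finite (IrrCharacter G) := by
  classical
  letI : Fintype G := Fintype.ofFinite G
  have h := irr_linearIndependent (G := G)
  exact h.finite

noncomputable instance irr_fintype [Finite G] : Fintype (IrrCharacter G) := Fintype.ofFinite _

end Cfsg.Agent.Lib.helper3.Irr
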