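import Mathlib
import Cfsg.Prelude.Def_Characters
import Cfsg.Agent.Lib.helper3.Irr2

set_option autoImplicit false
set_option linter.style.haveILetI false
set_option linter.unusedSectionVars false

/-!
# Transport of representations, atoms of the subrepresentation lattice, an induction principle
-/

namespace Cfsg.Agent.Lib.helper3.Irr

open Cfsg Module Cfsg.Agent.Lib.helper3.IndFun Cfsg.Agent.Lib.helper3.CharBasic
open Representation
open scoped ComplexConjugate

universe u

section transport

variable {G : Type*} [Group G]
variable {V : Type*} [AddCommGroup V] [Module ℂ V]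
variable {W : Type*} [AddCommGroup W] [Module ℂ W]

/-- Transport a representation along a linear equivalence. -/
noncomputable def transport (ρ : Representation ℂ G V) (e : V ≃ₗ[ℂ] W) : Representation ℂ G W where
  toFun g := e.conj (ρ g)
  map_one' := by
    ext w
    simp [LinearEquiv.conj_apply]
  map_mul' g h := by
    ext w
    simp [LinearEquiv.conj_apply]

theorem transport_apply (ρ : Representation ℂ G V) (e : V ≃ₗ[ℂ] W) (g : G) (w : W) :
    transport ρ e g w = e (ρ g (e.symm w)) := by
  simp [transport, LinearEquiv.conj_apply]

/-- The tautological equivalence between a representation and its transport. -/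
noncomputable def transportEquiv (ρ : Representation ℂ G V) (e : V ≃ₗ[ℂ] W) :
    ρ.Equiv (transport ρ e) :=
  Representation.Equiv.mk e (by
    intro g
    ext v
    simp [transport_apply])

theorem isIrreducible_of_equiv {ρ : Representation ℂ G V} {σ : Representation ℂ G W}
    (φ : ρ.Equiv σ) [hρ : ρ.IsIrreducible] : σ.IsIrreducible := by
  rw [Representation.irreducible_iff_isSimpleModule_asModule] at hρ ⊢
  let f := Representation.IntertwiningMap.equivLinearMapAsModule ρ σ φ.toIntertwiningMap
  have hf : Function.Bijective f := φ.toLinearEquiv.bijective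
  exact (LinearEquiv.ofBijective f hf).isSimpleModule_iff.mp hρ

variable [FiniteDimensional ℂ V]

/-- Any finite-dimensional representation yields a character in the sense of the Prelude. -/
theorem isCharacter_of_rep (ρ : Representation ℂ G V) : IsCharacter G ρ.character := by
  let b := Module.finBasis ℂ V
  refine ⟨finrank ℂ V, transport ρ b.equivFun, ?_⟩
  exact (Representation.char_iso (transportEquiv ρ b.equivFun)).symm

theorem isIrrCharacter_of_rep (ρ : Representation ℂ G V) [ρ.IsIrreducible] :
    IsIrrCharacter G ρ.character := by
  let b := Module.finBasis ℂ V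
  refine ⟨finrank ℂ V, transport ρ b.equivFun, ?_, ?_⟩
  · exact isIrreducible_of_equiv (transportEquiv ρ b.equivFun)
  · exact (Representation.char_iso (transportEquiv ρ b.equivFun)).symm

end transport

section atoms

variable {G : Type*} [Group G]
variable {V : Type*} [AddCommGroup V] [Module ℂ V]

/-- Push a subrepresentation of a subrepresentation to the ambient representation. -/
def mapSub {ρ : Representation ℂ G V} (W : Subrepresentation ρ)
    (U : Subrepresentation W.toRepresentation) : Subrepresentation ρ where
  toSubmodule := U.toSubmodule.map W.toSubmodule.subtype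
  apply_mem_toSubmodule g v hv := by
    obtain ⟨u, hu, rfl⟩ := hv
    exact ⟨W.toRepresentation g u, U.apply_mem_toSubmodule g hu, rfl⟩

theorem mapSub_le {ρ : Representation ℂ G V} (W : Subrepresentation ρ)
    (U : Subrepresentation W.toRepresentation) : mapSub W U ≤ W := by
  intro v hv
  obtain ⟨u, _, rfl⟩ := hv
  exact u.2

theorem isIrreducible_of_isAtom {ρ : Representation ℂ G V} (W : Subrepresentation ρ)
    (hW : IsAtom W) : W.toRepresentation.IsIrreducible := by
  have hne : W ≠ ⊥ := hW.1
  refine { exists_pair_ne := ?_, eq_bot_or_eq_top := ?_ }
  · refine ⟨⊥, ⊤, ?_⟩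
    intro h
    apply hne
    apply Subrepresentation.toSubmodule_injective
    have h2 : (⊥ : Subrepresentation W.toRepresentation).toSubmodule
        = (⊤ : Subrepresentation W.toRepresentation).toSubmodule := by rw [h]
    have h3 : (⊥ : Submodule ℂ W.toSubmodule) = ⊤ := h2
    show W.toSubmodule = ⊥
    rw [Submodule.eq_bot_iff]
    intro x hx
    have : (⟨x, hx⟩ : W.toSubmodule) ∈ (⊤ : Submodule ℂ W.toSubmodule) := Submodule.mem_top
    rw [← h3, Submodule.mem_bot] at this
    exact congrArg Subtype.val this
  · intro U
    have hle := mapSub_le W U
    rcases (hW.le_iff).mp hle with h | h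
    · left
      apply Subrepresentation.toSubmodule_injective
      have h2 : (mapSub W U).toSubmodule = (⊥ : Subrepresentation ρ).toSubmodule := by rw [h]
      have h3 : U.toSubmodule.map W.toSubmodule.subtype = ⊥ := h2
      have h4 : U.toSubmodule = ⊥ := by
        rw [Submodule.eq_bot_iff]
        intro x hx
        have : W.toSubmodule.subtype x ∈ U.toSubmodule.map W.toSubmodule.subtype :=
          Submodule.mem_map_of_mem hx
        rw [h3, Submodule.mem_bot] at this
        exact Subtype.ext this
      exact h4
    · right
      apply Subrepresentation.toSubmodule_injective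
      have h2 : (mapSub W U).toSubmodule = W.toSubmodule := by rw [h]
      have h3 : U.toSubmodule.map W.toSubmodule.subtype = W.toSubmodule := h2
      have h4 : U.toSubmodule = ⊤ := by
        rw [Submodule.eq_top_iff']
        intro x
        have : (x : V) ∈ U.toSubmodule.map W.toSubmodule.subtype := by rw [h3]; exact x.2
        obtain ⟨u, hu, hux⟩ := this
        have : u = x := Subtype.ext hux
        rw [← this]
        exact hu
      exact h4

theorem toSubmodule_strictMono (ρ : Representation ℂ G V) :
    StrictMono (Subrepresentation.toSubmodule : Subrepresentation ρ → Submodule ℂ V) := by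
  intro A B hAB
  refine lt_of_le_of_ne (fun x hx => hAB.le hx) ?_
  intro h
  exact hAB.ne (Subrepresentation.toSubmodule_injective h)

variable [FiniteDimensional ℂ V]

theorem exists_isAtom (ρ : Representation ℂ G V) [Nontrivial V] :
    ∃ W : Subrepresentation ρ, IsAtom W := by
  haveI : WellFoundedLT (Subrepresentation ρ) := (toSubmodule_strictMono ρ).wellFoundedLT
  haveI : IsAtomic (Subrepresentation ρ) := isAtomic_of_orderBot_wellFounded_lt wellFounded_lt
  have hne : (⊤ : Subrepresentation ρ) ≠ ⊥ := by
    intro h
    have h2 : (⊤ : Subrepresentation ρ).toSubmodule = (⊥ : Subrepresentation ρ).toSubmodule := by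
      rw [h]
    have h3 : (⊤ : Submodule ℂ V) = ⊥ := h2
    exact top_ne_bot h3
  obtain ⟨W, hW, _⟩ := (eq_bot_or_exists_atom_le (⊤ : Subrepresentation ρ)).resolve_left hne
  exact ⟨W, hW⟩

end atoms

end Cfsg.Agent.Lib.helper3.Irr
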