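import Mathlib
import Cfsg.Prelude.Def_Characters
import Cfsg.Agent.Lib.helper3.Irr3

set_option autoImplicit false
set_option linter.style.haveILetI false
set_option linter.unusedSectionVars false

/-!
# Complete reducibility: an induction principle for finite-dimensional representations
-/

namespace Cfsg.Agent.Lib.helper3.Irr

open Cfsg Module Cfsg.Agent.Lib.helper3.IndFun Cfsg.Agent.Lib.helper3.CharBasic
open Representation
open scoped ComplexConjugate

universe u

section compl

variable {G : Type*} [Group G]
variable {V : Type*} [AddCommGroup V] [Module ℂ V]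

theorem isCompl_toSubmodule {ρ : Representation ℂ G V} {W W' : Subrepresentation ρ}
    (h : IsCompl W W') : IsCompl W.toSubmodule W'.toSubmodule := by
  constructor
  · rw [disjoint_iff]
    have := h.inf_eq_bot
    have h2 : (W ⊓ W').toSubmodule = (⊥ : Subrepresentation ρ).toSubmodule := by rw [this]
    exact h2
  · rw [codisjoint_iff]
    have := h.sup_eq_top
    have h2 : (W ⊔ W').toSubmodule = (⊤ : Subrepresentation ρ).toSubmodule := by rw [this]
    exact h2

/-- A representation is equivalent to the product of two complementary subrepresentations. -/
noncomputable def prodEquivOfIsCompl {ρ : Representation ℂ G V} {W W' : Subrepresentation ρ}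
    (h : IsCompl W W') : (W.toRepresentation.prod W'.toRepresentation).Equiv ρ :=
  Representation.Equiv.mk (Submodule.prodEquivOfIsCompl _ _ (isCompl_toSubmodule h)) (by
    intro g
    ext x
    · simp [Subrepresentation.toRepresentation]
    · simp [Subrepresentation.toRepresentation])

end compl

/-- Induction principle: a property of finite-dimensional complex representations of a finite group
holds as soon as it holds for zero spaces and irreducible representations, and is stable under
products and equivalences. -/
theorem rep_induction {G : Type*} [Group G] [Finite G]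
    (P : ∀ (V : Type u) [AddCommGroup V] [Module ℂ V] [FiniteDimensional ℂ V],
      Representation ℂ G V → Prop)
    (h0 : ∀ (V : Type u) [AddCommGroup V] [Module ℂ V] [FiniteDimensional ℂ V]
      (ρ : Representation ℂ G V), Subsingleton V → P V ρ)
    (hirr : ∀ (V : Type u) [AddCommGroup V] [Module ℂ V] [FiniteDimensional ℂ V]
      (ρ : Representation ℂ G V), ρ.IsIrreducible → P V ρ)
    (hprod : ∀ (V W : Type u) [AddCommGroup V] [Module ℂ V] [FiniteDimensional ℂ V]
      [AddCommGroup W] [Module ℂ W] [FiniteDimensional ℂ W]
      (ρ : Representation ℂ G V) (σ : Representation ℂ G W), P V ρ → P W σ → P (V × W) (ρ.prod σ))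
    (hequiv : ∀ (V W : Type u) [AddCommGroup V] [Module ℂ V] [FiniteDimensional ℂ V]
      [AddCommGroup W] [Module ℂ W] [FiniteDimensional ℂ W]
      (ρ : Representation ℂ G V) (σ : Representation ℂ G W), ρ.Equiv σ → P V ρ → P W σ)
    (V : Type u) [AddCommGroup V] [Module ℂ V] [FiniteDimensional ℂ V]
    (ρ : Representation ℂ G V) : P V ρ := by
  haveI : NeZero (Nat.card G : ℂ) := ⟨card_ne_zero_complex G⟩
  generalize hn : finrank ℂ V = n
  induction n using Nat.strong_induction_on generalizing V with
  | _ n ih =>
    by_cases hsub : Subsingleton V
    · exact h0 V ρ hsub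
    · rw [not_subsingleton_iff_nontrivial] at hsub
      obtain ⟨W, hW⟩ := exists_isAtom ρ
      obtain ⟨W', hW'⟩ := exists_isCompl W
      have hc := isCompl_toSubmodule hW'
      have hfr := Submodule.finrank_add_eq_of_isCompl hc
      have hWpos : 0 < finrank ℂ W.toSubmodule := by
        rw [Module.finrank_pos_iff, Submodule.nontrivial_iff_ne_bot]
        intro h
        apply hW.1
        apply Subrepresentation.toSubmodule_injective
        exact h
      have hlt : finrank ℂ W'.toSubmodule < n := by omega
      have hPW : P W.toSubmodule W.toRepresentation :=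
        hirr _ _ (isIrreducible_of_isAtom W hW)
      have hPW' : P W'.toSubmodule W'.toRepresentation := ih _ hlt _ _ rfl
      exact hequiv _ _ _ _ (prodEquivOfIsCompl hW') (hprod _ _ _ _ hPW hPW')

end Cfsg.Agent.Lib.helper3.Irr
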