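import Mathlib
import Cfsg.Prelude.Def_Characters
import Cfsg.Agent.Lib.helper3.Irr4

set_option autoImplicit false
set_option linter.style.haveILetI false
set_option linter.unusedSectionVars false

/-!
# Decomposition of characters into irreducible characters
-/

namespace Cfsg.Agent.Lib.helper3.Irr

open Cfsg Module Cfsg.Agent.Lib.helper3.IndFun Cfsg.Agent.Lib.helper3.CharBasic
open Representation
open scoped ComplexConjugate

universe u

section basic

variable {G : Type*} [Group G]
variable {V : Type*} [AddCommGroup V] [Module ℂ V] [FiniteDimensional ℂ V]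
variable {W : Type*} [AddCommGroup W] [Module ℂ W] [FiniteDimensional ℂ W]

theorem character_prod (ρ : Representation ℂ G V) (σ : Representation ℂ G W) :
    (ρ.prod σ).character = ρ.character + σ.character := by
  funext g
  simp only [Representation.character, Pi.add_apply]
  have : (ρ.prod σ) g = (ρ g).prodMap (σ g) := rfl
  rw [this]
  exact LinearMap.trace_prodMap' (ρ g) (σ g)

theorem character_eq_zero_of_subsingleton (ρ : Representation ℂ G V) [Subsingleton V] :
    ρ.character = 0 := by
  funext g
  simp only [Representation.character, Pi.zero_apply]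
  have : ρ g = 0 := Subsingleton.elim _ _
  rw [this, map_zero]

theorem isCharacter_of_isIrrCharacter {χ : G → ℂ} (h : IsIrrCharacter G χ) : IsCharacter G χ := by
  obtain ⟨n, ρ, _, rfl⟩ := h
  exact ⟨n, ρ, rfl⟩

theorem isCharacter_zero : IsCharacter G (0 : G → ℂ) := by
  refine ⟨0, 1, ?_⟩
  exact character_eq_zero_of_subsingleton _

theorem isCharacter_add {χ ψ : G → ℂ} (hχ : IsCharacter G χ) (hψ : IsCharacter G ψ) :
    IsCharacter G (χ + ψ) := by
  obtain ⟨n, ρ, rfl⟩ := hχ
  obtain ⟨m, σ, rfl⟩ := hψ
  rw [← character_prod]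
  exact isCharacter_of_rep _

theorem isCharacter_mul {χ ψ : G → ℂ} (hχ : IsCharacter G χ) (hψ : IsCharacter G ψ) :
    IsCharacter G (χ * ψ) := by
  obtain ⟨n, ρ, rfl⟩ := hχ
  obtain ⟨m, σ, rfl⟩ := hψ
  rw [← Representation.char_tensor]
  exact isCharacter_of_rep _

theorem isCharacter_one : IsCharacter G (fun _ => (1 : ℂ)) := by
  have := isCharacter_of_rep (Representation.trivial ℂ G ℂ)
  convert this using 1
  funext g
  simp [Representation.character]

theorem isCharacter_sum {ι : Type*} (s : Finset ι) (f : ι → G → ℂ)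
    (h : ∀ i ∈ s, IsCharacter G (f i)) : IsCharacter G (∑ i ∈ s, f i) := by
  classical
  induction s using Finset.induction_on with
  | empty => simpa using isCharacter_zero
  | insert a s ha ih =>
    rw [Finset.sum_insert ha]
    exact isCharacter_add (h a (Finset.mem_insert_self a s))
      (ih (fun i hi => h i (Finset.mem_insert_of_mem hi)))

theorem isCharacter_nsmul {χ : G → ℂ} (hχ : IsCharacter G χ) (n : ℕ) :
    IsCharacter G ((n : ℂ) • χ) := by
  induction n with
  | zero => simpa using isCharacter_zero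
  | succ n ih =>
    have : ((n + 1 : ℕ) : ℂ) • χ = (n : ℂ) • χ + χ := by
      push_cast
      rw [add_smul, one_smul]
    rw [this]
    exact isCharacter_add ih hχ

theorem isClassFunction_of_isCharacter {χ : G → ℂ} (hχ : IsCharacter G χ) :
    IsClassFunction G χ := by
  obtain ⟨n, ρ, rfl⟩ := hχ
  intro g h
  exact Representation.char_conj ρ g h

/-- Restriction of a character to a subgroup is a character. -/
theorem isCharacter_restrict {χ : G → ℂ} (hχ : IsCharacter G χ) (H : Subgroup G) :
    IsCharacter H (fun h : H => χ h) := by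
  obtain ⟨n, ρ, rfl⟩ := hχ
  exact ⟨n, ρ.comp H.subtype, rfl⟩

/-- Pullback of a character along a group homomorphism is a character. -/
theorem isCharacter_comp {H : Type*} [Group H] {χ : G → ℂ} (hχ : IsCharacter G χ) (f : H →* G) :
    IsCharacter H (fun h : H => χ (f h)) := by
  obtain ⟨n, ρ, rfl⟩ := hχ
  exact ⟨n, ρ.comp f, rfl⟩

end basic

section decomp

variable {G : Type*} [Group G] [Finite G]

/-- Complete reducibility on the level of characters. -/
theorem exists_decomposition {V : Type u} [AddCommGroup V] [Module ℂ V] [FiniteDimensional ℂ V]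
    (ρ : Representation ℂ G V) :
    ∃ m : IrrCharacter G → ℕ, ρ.character = ∑ χ : IrrCharacter G, (m χ : ℂ) • (χ : G → ℂ) := by
  classical
  apply rep_induction (G := G)
    (fun V _ _ _ ρ => ∃ m : IrrCharacter G → ℕ,
      ρ.character = ∑ χ : IrrCharacter G, (m χ : ℂ) • (χ : G → ℂ))
  · intro V _ _ _ ρ hV
    refine ⟨fun _ => 0, ?_⟩
    rw [character_eq_zero_of_subsingleton]
    simp
  · intro V _ _ _ ρ hirr
    have h := isIrrCharacter_of_rep ρ
    refine ⟨fun χ => if χ = ⟨ρ.character, h⟩ then 1 else 0, ?_⟩
    rw [Finset.sum_eq_single ⟨ρ.character, h⟩]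
    · simp
    · intro b _ hb
      simp [hb]
    · intro hb
      exact absurd (Finset.mem_univ _) hb
  · intro V W _ _ _ _ _ _ ρ σ ⟨m₁, h₁⟩ ⟨m₂, h₂⟩
    refine ⟨fun χ => m₁ χ + m₂ χ, ?_⟩
    rw [character_prod, h₁, h₂, ← Finset.sum_add_distrib]
    apply Finset.sum_congr rfl
    intro χ _
    push_cast
    rw [add_smul]
  · intro V W _ _ _ _ _ _ ρ σ e ⟨m, h⟩
    exact ⟨m, by rw [← Representation.char_iso e, h]⟩

theorem exists_decomposition_of_isCharacter {χ : G → ℂ} (hχ : IsCharacter G χ) :
    ∃ m : IrrCharacter G → ℕ, χ = ∑ ψ : IrrCharacter G, (m ψ : ℂ) • (ψ : G → ℂ) := by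
  obtain ⟨n, ρ, rfl⟩ := hχ
  exact exists_decomposition ρ

theorem isCharacter_of_decomposition (m : IrrCharacter G → ℕ) :
    IsCharacter G (∑ ψ : IrrCharacter G, (m ψ : ℂ) • (ψ : G → ℂ)) := by
  apply isCharacter_sum
  intro ψ _
  exact isCharacter_nsmul (isCharacter_of_isIrrCharacter ψ.2) _

theorem isCharacter_iff {χ : G → ℂ} :
    IsCharacter G χ ↔ ∃ m : IrrCharacter G → ℕ, χ = ∑ ψ : IrrCharacter G, (m ψ : ℂ) • (ψ : G → ℂ) :=
  ⟨exists_decomposition_of_isCharacter, fun ⟨m, h⟩ => h ▸ isCharacter_of_decomposition m⟩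

end decomp

section decomp_inner

variable {G : Type*} [Group G] [Fintype G]

/-- The inner product of a decomposition with an irreducible character picks the multiplicity. -/
theorem classInner_decomposition_left (c : IrrCharacter G → ℂ) (ψ : IrrCharacter G) :
    classInner (∑ χ : IrrCharacter G, c χ • (χ : G → ℂ)) (ψ : G → ℂ) = c ψ := by
  classical
  rw [classInner_sum_left]
  have h2 : ∀ i ∈ (Finset.univ : Finset (IrrCharacter G)),
      classInner (c i • (i : G → ℂ)) (ψ : G → ℂ) = if i = ψ then c i else 0 := by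
    intro i _
    rw [classInner_smul_left, irr_classInner_eq i.2 ψ.2]
    by_cases hij : i = ψ
    · subst hij
      simp
    · have : (i : G → ℂ) ≠ (ψ : G → ℂ) := fun h => hij (Subtype.ext h)
      simp [hij, this]
  rw [Finset.sum_congr rfl h2, Finset.sum_ite_eq' Finset.univ ψ, if_pos (Finset.mem_univ _)]

theorem classInner_decomposition (c d : IrrCharacter G → ℂ) :
    classInner (∑ χ : IrrCharacter G, c χ • (χ : G → ℂ)) (∑ χ : IrrCharacter G, d χ • (χ : G → ℂ))
      = ∑ χ : IrrCharacter G, c χ * conj (d χ) := by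
  rw [classInner_sum_right]
  apply Finset.sum_congr rfl
  intro ψ _
  rw [classInner_smul_right, classInner_decomposition_left, mul_comm]

/-- The inner product of a character with an irreducible character is a natural number. -/
theorem exists_nat_classInner_of_isCharacter {χ : G → ℂ} (hχ : IsCharacter G χ)
    (ψ : IrrCharacter G) : ∃ n : ℕ, classInner χ (ψ : G → ℂ) = n := by
  obtain ⟨m, rfl⟩ := exists_decomposition_of_isCharacter hχ
  exact ⟨m ψ, classInner_decomposition_left _ ψ⟩

/-- A character is the sum of its irreducible constituents with multiplicity `⟨χ, ψ⟩`. -/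
theorem isCharacter_eq_sum_classInner {χ : G → ℂ} (hχ : IsCharacter G χ) :
    χ = ∑ ψ : IrrCharacter G, classInner χ (ψ : G → ℂ) • (ψ : G → ℂ) := by
  obtain ⟨m, h⟩ := exists_decomposition_of_isCharacter hχ
  conv_lhs => rw [h]
  apply Finset.sum_congr rfl
  intro ψ _
  rw [h, classInner_decomposition_left]

/-- The inner product of two characters is a natural number. -/
theorem exists_nat_classInner_of_isCharacter_of_isCharacter {χ ψ : G → ℂ} (hχ : IsCharacter G χ)
    (hψ : IsCharacter G ψ) : ∃ n : ℕ, classInner χ ψ = n := by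
  obtain ⟨m, rfl⟩ := exists_decomposition_of_isCharacter hχ
  obtain ⟨m', rfl⟩ := exists_decomposition_of_isCharacter hψ
  rw [classInner_decomposition]
  refine ⟨∑ χ : IrrCharacter G, m χ * m' χ, ?_⟩
  push_cast
  apply Finset.sum_congr rfl
  intro χ _
  rw [Complex.conj_natCast]

end decomp_inner

end Cfsg.Agent.Lib.helper3.Irr
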