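import Mathlib
import Cfsg.Prelude.Def_Characters
import Cfsg.Agent.Lib.helper3.Irr5

set_option autoImplicit false
set_option linter.style.haveILetI false
set_option linter.unusedSectionVars false

/-!
# Completeness of the irreducible characters
-/

namespace Cfsg.Agent.Lib.helper3.Irr

open Cfsg Module Cfsg.Agent.Lib.helper3.IndFun Cfsg.Agent.Lib.helper3.CharBasic
open Representation
open scoped ComplexConjugate

universe u

section opOf

variable {G : Type*} [Group G] [Fintype G]
variable {V : Type*} [AddCommGroup V] [Module ℂ V]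
variable {W : Type*} [AddCommGroup W] [Module ℂ W]

/-- The operator `∑ g, f g • ρ g`. -/
noncomputable def opOf (ρ : Representation ℂ G V) (f : G → ℂ) : V →ₗ[ℂ] V :=
  ∑ g : G, f g • ρ g

theorem opOf_apply (ρ : Representation ℂ G V) (f : G → ℂ) (v : V) :
    opOf ρ f v = ∑ g : G, f g • ρ g v := by
  simp [opOf, LinearMap.sum_apply]

theorem opOf_comm (ρ : Representation ℂ G V) (f : G → ℂ) (hf : IsClassFunction G f) (h : G) :
    opOf ρ f ∘ₗ ρ h = ρ h ∘ₗ opOf ρ f := by
  ext v
  simp only [LinearMap.comp_apply, opOf_apply, map_sum, map_smul]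
  -- LHS: ∑ g, f g • ρ g (ρ h v) ; RHS: ∑ g, f g • ρ h (ρ g v)
  apply Fintype.sum_equiv (MulAut.conj h⁻¹).toEquiv
  intro g
  simp only [MulEquiv.toEquiv_eq_coe, EquivLike.coe_coe, MulAut.conj_apply, inv_inv]
  have h1 := hf g h⁻¹
  rw [inv_inv] at h1
  rw [h1]
  congr 1
  rw [← Module.End.mul_apply, ← Module.End.mul_apply, ← map_mul, ← map_mul]
  congr 2
  group

/-- `opOf ρ f` as an intertwining map, for a class function `f`. -/
noncomputable def opOfIntertwining (ρ : Representation ℂ G V) (f : G → ℂ)
    (hf : IsClassFunction G f) : Representation.IntertwiningMap ρ ρ where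
  toLinearMap := opOf ρ f
  isIntertwining' := opOf_comm ρ f hf

theorem trace_opOf [FiniteDimensional ℂ V] (ρ : Representation ℂ G V) (f : G → ℂ) :
    LinearMap.trace ℂ V (opOf ρ f) = ∑ g : G, f g * ρ.character g := by
  simp [opOf, map_sum, Representation.character]

theorem opOf_prod (ρ : Representation ℂ G V) (σ : Representation ℂ G W) (f : G → ℂ) :
    opOf (ρ.prod σ) f = (opOf ρ f).prodMap (opOf σ f) := by
  ext x
  · simp [opOf_apply, Prod.fst_sum]
  · simp [opOf_apply, Prod.snd_sum]
  · simp [opOf_apply, Prod.fst_sum]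
  · simp [opOf_apply, Prod.snd_sum]

theorem opOf_equiv {ρ : Representation ℂ G V} {σ : Representation ℂ G W} (e : ρ.Equiv σ)
    (f : G → ℂ) (w : W) : opOf σ f w = e (opOf ρ f (e.symm w)) := by
  rw [opOf_apply, opOf_apply, map_sum]
  apply Finset.sum_congr rfl
  intro g _
  rw [map_smul]
  congr 1
  have := LinearMap.congr_fun (e.toIntertwiningMap.isIntertwining' g) (e.symm w)
  simp only [LinearMap.comp_apply] at this
  have h2 : e.toIntertwiningMap.toLinearMap (e.symm w) = w := e.apply_symm_apply w
  rw [h2] at this
  exact this.symm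

end opOf

section killing

variable {G : Type*} [Group G] [Fintype G]

/-- Schur: on an irreducible representation the operator of a class function is a scalar,
determined by the trace. -/
theorem opOf_eq_zero_of_irreducible {V : Type*} [AddCommGroup V] [Module ℂ V]
    [FiniteDimensional ℂ V] (ρ : Representation ℂ G V) [ρ.IsIrreducible] (f : G → ℂ)
    (hf : IsClassFunction G f) (h0 : ∑ g : G, f g * ρ.character g = 0) : opOf ρ f = 0 := by
  have hbij := Representation.IsIrreducible.algebraMap_intertwiningMap_bijective_of_isAlgClosed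
    (ρ := ρ)
  obtain ⟨c, hc⟩ := hbij.2 (opOfIntertwining ρ f hf)
  have hlin : opOf ρ f = c • LinearMap.id := by
    have := congrArg Representation.IntertwiningMap.toLinearMap hc
    rw [Representation.IntertwiningMap.algebraMap_apply] at this
    rw [← show (opOfIntertwining ρ f hf).toLinearMap = opOf ρ f from rfl, ← this]
    rfl
  have htr := trace_opOf ρ f
  rw [h0, hlin, map_smul, LinearMap.trace_id, smul_eq_mul] at htr
  have hnt : Nontrivial V := by
    have hs : IsSimpleModule (MonoidAlgebra ℂ G) ρ.asModule := inferInstance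
    exact IsSimpleModule.nontrivial (MonoidAlgebra ℂ G) ρ.asModule
  have hpos : (finrank ℂ V : ℂ) ≠ 0 := by
    have := Module.finrank_pos (R := ℂ) (M := V)
    exact_mod_cast this.ne'
  have hc0 : c = 0 := by
    rcases mul_eq_zero.mp htr with h | h
    · exact h
    · exact absurd h hpos
  rw [hlin, hc0, zero_smul]

/-- If a class function pairs to zero with all irreducible characters, its operator
vanishes on every finite-dimensional representation. -/
theorem opOf_eq_zero {V : Type u} [AddCommGroup V] [Module ℂ V]
    [FiniteDimensional ℂ V] (ρ : Representation ℂ G V) (f : G → ℂ)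
    (hf : IsClassFunction G f)
    (h0 : ∀ χ : IrrCharacter G, ∑ g : G, f g * (χ : G → ℂ) g = 0) : opOf ρ f = 0 := by
  apply rep_induction (G := G) (fun V _ _ _ ρ => opOf ρ f = 0)
  · intro V _ _ _ ρ hV
    exact Subsingleton.elim _ _
  · intro V _ _ _ ρ hirr
    exact opOf_eq_zero_of_irreducible ρ f hf (h0 ⟨ρ.character, isIrrCharacter_of_rep ρ⟩)
  · intro V W _ _ _ _ _ _ ρ σ h₁ h₂
    rw [opOf_prod, h₁, h₂]
    ext <;> simp
  · intro V W _ _ _ _ _ _ ρ σ e h
    ext w
    rw [opOf_equiv e, h]
    simp

/-- The killing lemma. -/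
theorem eq_zero_of_forall_sum_mul_eq_zero (f : G → ℂ) (hf : IsClassFunction G f)
    (h0 : ∀ χ : IrrCharacter G, ∑ g : G, f g * (χ : G → ℂ) g = 0) : f = 0 := by
  classical
  have h := opOf_eq_zero (Representation.leftRegular ℂ G) f hf h0
  have h1 := congrArg (fun T => T (MonoidAlgebra.single (1 : G) (1 : ℂ))) h
  simp only [opOf_apply, LinearMap.zero_apply, Representation.ofMulAction_single, smul_eq_mul,
    mul_one] at h1
  funext x
  have h2 := congrArg (fun a : MonoidAlgebra ℂ G => a.coeff x) h1
  simp only [MonoidAlgebra.coeff_sum, MonoidAlgebra.coeff_smul, MonoidAlgebra.coeff_single,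
    MonoidAlgebra.coeff_zero, Finsupp.coe_zero, Pi.zero_apply] at h2
  rw [Finsupp.finsetSum_apply] at h2
  have h3 : ∀ i : G, (f i • (Finsupp.single i (1 : ℂ))) x = if i = x then f i else 0 := by
    intro i
    rw [Finsupp.smul_apply, Finsupp.single_apply]
    split_ifs <;> simp
  rw [Finset.sum_congr rfl (fun i _ => h3 i), Finset.sum_ite_eq' Finset.univ x] at h2
  simpa using h2

/-- Completeness: a class function orthogonal to all irreducible characters is zero. -/
theorem eq_zero_of_forall_classInner_eq_zero (f : G → ℂ) (hf : IsClassFunction G f)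
    (h0 : ∀ χ : IrrCharacter G, classInner f (χ : G → ℂ) = 0) : f = 0 := by
  have hconj : (fun g => conj (f g)) = 0 := by
    apply eq_zero_of_forall_sum_mul_eq_zero
    · intro g h
      show conj (f (h * g * h⁻¹)) = conj (f g)
      rw [hf g h]
    · intro χ
      have := h0 χ
      rw [classInner_apply] at this
      have hG : (Nat.card G : ℂ)⁻¹ ≠ 0 := inv_ne_zero (card_ne_zero_complex G)
      have h2 : ∑ g : G, f g * conj ((χ : G → ℂ) g) = 0 := by
        rcases mul_eq_zero.mp this with h | h
        · exact absurd h hG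
        · exact h
      have h3 := congrArg conj h2
      rw [map_sum, map_zero] at h3
      rw [← h3]
      apply Finset.sum_congr rfl
      intro g _
      rw [map_mul, Complex.conj_conj]
  funext g
  have := congrFun hconj g
  simp only [Pi.zero_apply] at this ⊢
  have h4 := congrArg conj this
  rwa [Complex.conj_conj, map_zero] at h4

/-- Every class function is the combination of irreducible characters with
coefficients `⟨ψ, χ⟩`. -/
theorem classFunction_eq_sum (ψ : G → ℂ) (hψ : IsClassFunction G ψ) :
    ψ = ∑ χ : IrrCharacter G, classInner ψ (χ : G → ℂ) • (χ : G → ℂ) := by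
  have hcf : IsClassFunction G
      (ψ - ∑ χ : IrrCharacter G, classInner ψ (χ : G → ℂ) • (χ : G → ℂ)) := by
    intro g h
    simp only [Pi.sub_apply, Finset.sum_apply, Pi.smul_apply, smul_eq_mul]
    rw [hψ g h]
    congr 1
    apply Finset.sum_congr rfl
    intro χ _
    rw [isClassFunction_of_isCharacter (isCharacter_of_isIrrCharacter χ.2) g h]
  have := eq_zero_of_forall_classInner_eq_zero _ hcf (by
    intro χ
    rw [classInner_sub_left, classInner_decomposition_left, sub_self])
  exact sub_eq_zero.mp this

end killing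

end Cfsg.Agent.Lib.helper3.Irr
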