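import Mathlib
import Cfsg.Prelude.Def_Characters
import Cfsg.Agent.Lib.helper3.Irr6

set_option autoImplicit false
set_option linter.style.haveILetI false
set_option linter.unusedSectionVars false

/-!
# Counting irreducible characters; column orthogonality; the regular character
-/

namespace Cfsg.Agent.Lib.helper3.Irr

open Cfsg Module Cfsg.Agent.Lib.helper3.IndFun Cfsg.Agent.Lib.helper3.CharBasic
open Representation
open scoped ComplexConjugate

section count

variable {G : Type*} [Group G]

/-- The submodule of class functions. -/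
def classFunctionSubmodule (G : Type*) [Group G] : Submodule ℂ (G → ℂ) where
  carrier := {f | IsClassFunction G f}
  add_mem' := by
    intro a b ha hb g h
    simp only [Pi.add_apply]
    rw [ha g h, hb g h]
  zero_mem' := by
    intro g h
    rfl
  smul_mem' := by
    intro c a ha g h
    simp only [Pi.smul_apply]
    rw [ha g h]

theorem mem_classFunctionSubmodule {f : G → ℂ} :
    f ∈ classFunctionSubmodule G ↔ IsClassFunction G f := Iff.rfl

theorem isClassFunction_iff_isConj {f : G → ℂ} :
    IsClassFunction G f ↔ ∀ a b : G, IsConj a b → f a = f b := by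
  constructor
  · intro hf a b hab
    obtain ⟨c, rfl⟩ := isConj_iff.mp hab
    exact (hf a c).symm
  · intro h g x
    exact (h g (x * g * x⁻¹) (isConj_iff.mpr ⟨x, rfl⟩)).symm

theorem range_funLeft_mk :
    LinearMap.range (LinearMap.funLeft ℂ ℂ (ConjClasses.mk : G → ConjClasses G))
      = classFunctionSubmodule G := by
  ext f
  constructor
  · rintro ⟨φ, rfl⟩
    rw [mem_classFunctionSubmodule, isClassFunction_iff_isConj]
    intro a b hab
    simp only [LinearMap.funLeft_apply]
    rw [ConjClasses.mk_eq_mk_iff_isConj.mpr hab]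
  · intro hf
    rw [mem_classFunctionSubmodule, isClassFunction_iff_isConj] at hf
    refine ⟨fun c => Quotient.liftOn c f (fun a b hab => hf a b hab), ?_⟩
    funext g
    rfl

theorem span_irr_eq [Finite G] :
    Submodule.span ℂ (Set.range (fun χ : IrrCharacter G => (χ : G → ℂ)))
      = classFunctionSubmodule G := by
  classical
  letI : Fintype G := Fintype.ofFinite G
  apply le_antisymm
  · rw [Submodule.span_le]
    rintro f ⟨χ, rfl⟩
    exact isClassFunction_of_isCharacter (isCharacter_of_isIrrCharacter χ.2)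
  · intro f hf
    rw [classFunction_eq_sum f hf]
    apply Submodule.sum_mem
    intro χ _
    apply Submodule.smul_mem
    exact Submodule.subset_span ⟨χ, rfl⟩

/-- The number of irreducible characters equals the number of conjugacy classes. -/
theorem card_irr_eq_card_conjClasses [Finite G] :
    Nat.card (IrrCharacter G) = Nat.card (ConjClasses G) := by
  classical
  letI : Fintype G := Fintype.ofFinite G
  letI : Fintype (ConjClasses G) := Fintype.ofFinite _
  have h1 := finrank_span_eq_card (irr_linearIndependent (G := G))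
  rw [span_irr_eq, ← range_funLeft_mk] at h1
  have hinj : Function.Injective (LinearMap.funLeft ℂ ℂ (ConjClasses.mk : G → ConjClasses G)) :=
    LinearMap.funLeft_injective_of_surjective ℂ ℂ _ ConjClasses.mk_surjective
  rw [LinearMap.finrank_range_of_inj hinj, Module.finrank_fintype_fun_eq_card] at h1
  rw [Nat.card_eq_fintype_card, Nat.card_eq_fintype_card]
  exact h1.symm

end count

section column

variable {G : Type*} [Group G] [Fintype G]

/-- Column orthogonality, raw form: `∑_χ χ(g) conj χ(h)` counts the `y` with `y h y⁻¹ = g`. -/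
theorem sum_irr_mul_conj (g h : G) :
    ∑ χ : IrrCharacter G, (χ : G → ℂ) g * conj ((χ : G → ℂ) h)
      = (Nat.card {y : G // y * h * y⁻¹ = g} : ℂ) := by
  classical
  set ψ : G → ℂ := fun x => (Nat.card {y : G // y * h * y⁻¹ = x} : ℂ) with hψ
  have hcf : IsClassFunction G ψ := by
    intro x z
    simp only [hψ]
    congr 1
    apply Nat.card_congr
    refine ⟨fun y => ⟨z⁻¹ * y.1, ?_⟩, fun y => ⟨z * y.1, ?_⟩, ?_, ?_⟩
    · have := y.2
      calc z⁻¹ * y.1 * h * (z⁻¹ * y.1)⁻¹ = z⁻¹ * (y.1 * h * y.1⁻¹) * z := by group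
        _ = z⁻¹ * (z * x * z⁻¹) * z := by rw [this]
        _ = x := by group
    · have := y.2
      calc z * y.1 * h * (z * y.1)⁻¹ = z * (y.1 * h * y.1⁻¹) * z⁻¹ := by group
        _ = z * x * z⁻¹ := by rw [this]
    · intro y
      apply Subtype.ext
      simp
    · intro y
      apply Subtype.ext
      simp
  have hinner : ∀ χ : IrrCharacter G, classInner ψ (χ : G → ℂ) = conj ((χ : G → ℂ) h) := by
    intro χ
    rw [classInner_apply]
    have hχcf := isClassFunction_of_isCharacter (isCharacter_of_isIrrCharacter χ.2)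
    -- ∑_x ψ x * conj χ x = ∑_y conj χ (y h y⁻¹)
    have h1 : ∑ x : G, ψ x * conj ((χ : G → ℂ) x)
        = ∑ x : G, ∑ y : G, if y * h * y⁻¹ = x then conj ((χ : G → ℂ) x) else 0 := by
      apply Finset.sum_congr rfl
      intro x _
      simp only [hψ]
      rw [Nat.card_eq_fintype_card, Fintype.card_subtype, Finset.card_filter]
      push_cast
      rw [Finset.sum_mul]
      apply Finset.sum_congr rfl
      intro y _
      split_ifs <;> simp
    rw [h1, Finset.sum_comm]
    have h2 : ∀ y : G, ∑ x : G, (if y * h * y⁻¹ = x then conj ((χ : G → ℂ) x) else 0)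
        = conj ((χ : G → ℂ) h) := by
      intro y
      rw [Finset.sum_ite_eq Finset.univ (y * h * y⁻¹), if_pos (Finset.mem_univ _), hχcf h y]
    simp_rw [h2]
    rw [Finset.sum_const, Finset.card_univ, nsmul_eq_mul, ← Nat.card_eq_fintype_card]
    have hG : (Nat.card G : ℂ) ≠ 0 := card_ne_zero_complex G
    field_simp
  have hdec := classFunction_eq_sum ψ hcf
  have hg := congrFun hdec g
  simp only [Finset.sum_apply, Pi.smul_apply, smul_eq_mul] at hg
  rw [show ψ g = (Nat.card {y : G // y * h * y⁻¹ = g} : ℂ) from rfl] at hg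
  rw [hg]
  apply Finset.sum_congr rfl
  intro χ _
  rw [hinner χ, mul_comm]

theorem card_conj_eq_card_centralizer {g h : G} (hgh : IsConj g h) :
    Nat.card {y : G // y * h * y⁻¹ = g} = Nat.card (Subgroup.centralizer ({g} : Set G)) := by
  obtain ⟨c, hc⟩ := isConj_iff.mp hgh
  apply Nat.card_congr
  refine ⟨fun y => ⟨y.1 * c, ?_⟩, fun z => ⟨z.1 * c⁻¹, ?_⟩, ?_, ?_⟩
  · rw [Subgroup.mem_centralizer_iff]
    simp only [Set.mem_singleton_iff, forall_eq]
    have hy : y.1 * (c * g * c⁻¹) * y.1⁻¹ = g := by rw [hc]; exact y.2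
    calc g * (y.1 * c) = (y.1 * (c * g * c⁻¹) * y.1⁻¹) * (y.1 * c) := by rw [hy]
      _ = y.1 * c * g := by group
  · have hz := z.2
    rw [Subgroup.mem_centralizer_iff] at hz
    simp only [Set.mem_singleton_iff, forall_eq] at hz
    rw [← hc]
    calc z.1 * c⁻¹ * (c * g * c⁻¹) * (z.1 * c⁻¹)⁻¹ = (z.1 * g) * z.1⁻¹ := by group
      _ = (g * z.1) * z.1⁻¹ := by rw [hz]
      _ = g := by group
  · intro y
    apply Subtype.ext
    simp
  · intro z
    apply Subtype.ext
    simp

theorem card_conj_eq_zero {g h : G} (hgh : ¬ IsConj g h) :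
    Nat.card {y : G // y * h * y⁻¹ = g} = 0 := by
  haveI : IsEmpty {y : G // y * h * y⁻¹ = g} := by
    constructor
    rintro ⟨y, hy⟩
    apply hgh
    exact (isConj_iff.mpr ⟨y, hy⟩).symm
  exact Nat.card_of_isEmpty

/-- Column orthogonality. -/
theorem column_orthogonality (g h : G) :
    (IsConj g h → ∑ χ : IrrCharacter G, (χ : G → ℂ) g * conj ((χ : G → ℂ) h)
        = (Nat.card (Subgroup.centralizer ({g} : Set G)) : ℂ)) ∧
    (¬ IsConj g h → ∑ χ : IrrCharacter G, (χ : G → ℂ) g * conj ((χ : G → ℂ) h) = 0) := by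
  constructor
  · intro hgh
    rw [sum_irr_mul_conj, card_conj_eq_card_centralizer hgh]
  · intro hgh
    rw [sum_irr_mul_conj, card_conj_eq_zero hgh]
    simp

end column

end Cfsg.Agent.Lib.helper3.Irr
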