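import Mathlib
import Cfsg.Prelude.Def_Characters
import Cfsg.Agent.Lib.helper3.Irr7

set_option autoImplicit false
set_option linter.style.haveILetI false
set_option linter.unusedSectionVars false

/-!
# The regular character; induced characters are characters
-/

namespace Cfsg.Agent.Lib.helper3.Irr

open Cfsg Module Cfsg.Agent.Lib.helper3.IndFun Cfsg.Agent.Lib.helper3.CharBasic
open Representation
open scoped ComplexConjugate

section regular

variable {G : Type*} [Group G] [Fintype G]

theorem leftRegular_character [DecidableEq G] (g : G) :
    (Representation.leftRegular ℂ G).character g = if g = 1 then (Nat.card G : ℂ) else 0 := by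
  classical
  unfold Representation.character
  rw [LinearMap.trace_eq_matrix_trace ℂ (MonoidAlgebra.basis G ℂ), Matrix.trace]
  have hdiag : ∀ h : G, Matrix.diag ((LinearMap.toMatrix (MonoidAlgebra.basis G ℂ)
      (MonoidAlgebra.basis G ℂ)) ((Representation.leftRegular ℂ G) g)) h
        = if g = 1 then 1 else 0 := by
    intro h
    rw [Matrix.diag_apply, LinearMap.toMatrix_apply, MonoidAlgebra.basis_apply,
      Representation.ofMulAction_single]
    show ((MonoidAlgebra.single (g • h) (1 : ℂ)).coeff) h = _
    rw [MonoidAlgebra.coeff_single, Finsupp.single_apply]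
    simp only [smul_eq_mul, mul_eq_right]
  simp_rw [hdiag]
  split_ifs with hg
  · simp [Nat.card_eq_fintype_card]
  · simp

/-- Multiplicity of `χ` in the regular character is `χ 1`. -/
theorem classInner_leftRegular (χ : IrrCharacter G) :
    classInner (Representation.leftRegular ℂ G).character (χ : G → ℂ) = conj ((χ : G → ℂ) 1) := by
  classical
  rw [classInner_apply]
  simp_rw [leftRegular_character]
  simp only [ite_mul, zero_mul]
  rw [Finset.sum_ite_eq' Finset.univ (1 : G), if_pos (Finset.mem_univ _)]
  have hG : (Nat.card G : ℂ) ≠ 0 := card_ne_zero_complex G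
  field_simp

/-- The degree of a character is a natural number. -/
theorem exists_nat_apply_one {G : Type*} [Group G] {χ : G → ℂ} (hχ : IsCharacter G χ) :
    ∃ n : ℕ, χ 1 = n := by
  obtain ⟨n, ρ, rfl⟩ := hχ
  exact ⟨_, Representation.char_one ρ⟩

theorem conj_apply_one {G : Type*} [Group G] {χ : G → ℂ} (hχ : IsCharacter G χ) :
    conj (χ 1) = χ 1 := by
  obtain ⟨n, hn⟩ := exists_nat_apply_one hχ
  rw [hn, Complex.conj_natCast]

theorem leftRegular_character_eq_sum :
    (Representation.leftRegular ℂ G).character
      = ∑ χ : IrrCharacter G, (χ : G → ℂ) 1 • (χ : G → ℂ) := by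
  have h := isCharacter_eq_sum_classInner (isCharacter_of_rep (Representation.leftRegular ℂ G))
  conv_lhs => rw [h]
  apply Finset.sum_congr rfl
  intro χ _
  rw [classInner_leftRegular, conj_apply_one (isCharacter_of_isIrrCharacter χ.2)]

theorem sum_sq_degree : ∑ χ : IrrCharacter G, (χ : G → ℂ) 1 ^ 2 = (Nat.card G : ℂ) := by
  classical
  have h := congrFun (leftRegular_character_eq_sum (G := G)) 1
  rw [leftRegular_character, if_pos rfl] at h
  rw [h]
  simp only [Finset.sum_apply, Pi.smul_apply, smul_eq_mul]
  apply Finset.sum_congr rfl
  intro χ _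
  ring

end regular

section induced

variable {G : Type*} [Group G] [Fintype G]

/-- The function induced from a character is a character. -/
theorem isCharacter_indFun (H : Subgroup G) (θ : H → ℂ) (hθ : IsCharacter H θ) :
    IsCharacter G (indFun H θ) := by
  classical
  letI : Fintype H := Fintype.ofFinite H
  have hcf := indFun_isClassFunction H θ
  rw [classFunction_eq_sum _ hcf]
  have hnat : ∀ χ : IrrCharacter G, ∃ n : ℕ, classInner (indFun H θ) (χ : G → ℂ) = n := by
    intro χ
    rw [frobenius_reciprocity H θ _
      (isClassFunction_of_isCharacter (isCharacter_of_isIrrCharacter χ.2))]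
    exact exists_nat_classInner_of_isCharacter_of_isCharacter hθ
      (isCharacter_restrict (isCharacter_of_isIrrCharacter χ.2) H)
  choose m hm using hnat
  simp_rw [hm]
  exact isCharacter_of_decomposition m

end induced

end Cfsg.Agent.Lib.helper3.Irr
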