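import Mathlib
import Cfsg.Prelude.Def_Characters
import Cfsg.Agent.Lib.helper3.Irr8

set_option autoImplicit false
set_option linter.style.haveILetI false
set_option linter.unusedSectionVars false

/-!
# Irreducibility criterion, conjugate characters, constituents
-/

namespace Cfsg.Agent.Lib.helper3.Irr

open Cfsg Module Cfsg.Agent.Lib.helper3.IndFun Cfsg.Agent.Lib.helper3.CharBasic
open Representation
open scoped ComplexConjugate

section criterion

variable {G : Type*} [Group G] [Fintype G]

/-- Norm of a decomposition with natural coefficients. -/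
theorem classInner_self_decomposition (m : IrrCharacter G → ℕ) :
    classInner (∑ ψ : IrrCharacter G, (m ψ : ℂ) • (ψ : G → ℂ))
      (∑ ψ : IrrCharacter G, (m ψ : ℂ) • (ψ : G → ℂ))
      = ((∑ ψ : IrrCharacter G, m ψ ^ 2 : ℕ) : ℂ) := by
  rw [classInner_decomposition]
  push_cast
  apply Finset.sum_congr rfl
  intro ψ _
  rw [Complex.conj_natCast]
  ring

/-- A character of norm one is irreducible. -/
theorem isIrrCharacter_of_classInner_self_eq_one {χ : G → ℂ} (hχ : IsCharacter G χ)
    (h1 : classInner χ χ = 1) : IsIrrCharacter G χ := by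
  classical
  obtain ⟨m, rfl⟩ := exists_decomposition_of_isCharacter hχ
  rw [classInner_self_decomposition] at h1
  have h2 : ∑ ψ : IrrCharacter G, m ψ ^ 2 = 1 := by exact_mod_cast h1
  -- exactly one `m ψ` equals `1`, the others vanish
  have hex : ∃ ψ₀, m ψ₀ ≠ 0 := by
    by_contra hne
    push Not at hne
    simp [hne] at h2
  obtain ⟨ψ₀, hψ₀⟩ := hex
  have hsplit := Finset.add_sum_erase Finset.univ (fun ψ => m ψ ^ 2) (Finset.mem_univ ψ₀)
  rw [h2] at hsplit
  have hpos : 1 ≤ m ψ₀ ^ 2 := Nat.one_le_pow _ _ (Nat.pos_of_ne_zero hψ₀)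
  have hrest : ∑ x ∈ Finset.univ.erase ψ₀, m x ^ 2 = 0 := by omega
  have hm0 : m ψ₀ ^ 2 = 1 := by omega
  have hm1 : m ψ₀ = 1 := by
    rcases Nat.pow_eq_one.mp hm0 with h | h
    · exact h
    · omega
  have hzero : ∀ ψ, ψ ≠ ψ₀ → m ψ = 0 := by
    intro ψ hψ
    have := (Finset.sum_eq_zero_iff.mp hrest) ψ (Finset.mem_erase.mpr ⟨hψ, Finset.mem_univ _⟩)
    exact pow_eq_zero_iff (two_ne_zero) |>.mp this
  have : ∑ ψ : IrrCharacter G, (m ψ : ℂ) • (ψ : G → ℂ) = (ψ₀ : G → ℂ) := by
    rw [Finset.sum_eq_single ψ₀]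
    · rw [hm1]; simp
    · intro b _ hb
      rw [hzero b hb]; simp
    · intro h; exact absurd (Finset.mem_univ _) h
  rw [this]
  exact ψ₀.2

theorem isIrrCharacter_iff {χ : G → ℂ} :
    IsIrrCharacter G χ ↔ IsCharacter G χ ∧ classInner χ χ = 1 :=
  ⟨fun h => ⟨isCharacter_of_isIrrCharacter h, irr_classInner_self h⟩,
    fun ⟨h1, h2⟩ => isIrrCharacter_of_classInner_self_eq_one h1 h2⟩

end criterion

section conjugate

variable {G : Type*} [Group G]

/-- The complex conjugate of a character is a character (dual representation). -/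
theorem isCharacter_conj [Finite G] {χ : G → ℂ} (hχ : IsCharacter G χ) :
    IsCharacter G (fun g => conj (χ g)) := by
  obtain ⟨n, ρ, rfl⟩ := hχ
  have := isCharacter_of_rep ρ.dual
  convert this using 1
  funext g
  rw [Representation.char_dual, character_inv]

theorem classInner_conj_conj [Fintype G] (φ ψ : G → ℂ) :
    classInner (fun g => conj (φ g)) (fun g => conj (ψ g)) = conj (classInner φ ψ) := by
  simp only [classInner_apply, map_mul, map_inv₀, Complex.conj_natCast, map_sum]

theorem isIrrCharacter_conj [Finite G] {χ : G → ℂ} (hχ : IsIrrCharacter G χ) :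
    IsIrrCharacter G (fun g => conj (χ g)) := by
  classical
  letI : Fintype G := Fintype.ofFinite G
  apply isIrrCharacter_of_classInner_self_eq_one (isCharacter_conj (isCharacter_of_isIrrCharacter hχ))
  rw [classInner_conj_conj, irr_classInner_self hχ, map_one]

end conjugate

section constituent

variable {G : Type*} [Group G] [Fintype G]

/-- If `ψ` is an irreducible constituent of the character `χ`, then `χ - ψ` is a character. -/
theorem isCharacter_sub_of_classInner_ne_zero {χ : G → ℂ} (hχ : IsCharacter G χ)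
    (ψ : IrrCharacter G) (h : classInner χ (ψ : G → ℂ) ≠ 0) :
    IsCharacter G (χ - (ψ : G → ℂ)) := by
  classical
  obtain ⟨m, rfl⟩ := exists_decomposition_of_isCharacter hχ
  rw [classInner_decomposition_left] at h
  have hm : m ψ ≠ 0 := by
    intro h0
    apply h
    rw [h0]; simp
  have : ∑ φ : IrrCharacter G, (m φ : ℂ) • (φ : G → ℂ) - (ψ : G → ℂ)
      = ∑ φ : IrrCharacter G, ((if φ = ψ then m φ - 1 else m φ : ℕ) : ℂ) • (φ : G → ℂ) := by
    rw [sub_eq_iff_eq_add]
    have h1 : (ψ : G → ℂ) = ∑ φ : IrrCharacter G, ((if φ = ψ then 1 else 0 : ℕ) : ℂ) • (φ : G → ℂ) := by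
      rw [Finset.sum_eq_single ψ]
      · simp
      · intro b _ hb
        simp [hb]
      · intro hb; exact absurd (Finset.mem_univ _) hb
    conv_rhs => rw [h1]
    rw [← Finset.sum_add_distrib]
    apply Finset.sum_congr rfl
    intro φ _
    rw [← add_smul]
    congr 1
    by_cases hφ : φ = ψ
    · subst hφ
      simp only [if_true]
      have : 1 ≤ m φ := Nat.one_le_iff_ne_zero.mpr hm
      push_cast [Nat.cast_sub this]
      ring
    · simp [hφ]
  rw [this]
  exact isCharacter_of_decomposition _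

/-- A nonzero character has an irreducible constituent. -/
theorem exists_constituent {χ : G → ℂ} (hχ : IsCharacter G χ) (h0 : χ ≠ 0) :
    ∃ ψ : IrrCharacter G, classInner χ (ψ : G → ℂ) ≠ 0 := by
  by_contra hne
  push Not at hne
  apply h0
  rw [isCharacter_eq_sum_classInner hχ]
  simp [hne]

/-- The degree of a character, as a natural number. -/
theorem degree_le_of_isCharacter_sub {χ ψ : G → ℂ} (hχ : IsCharacter G χ) (hψ : IsCharacter G ψ)
    (hsub : IsCharacter G (χ - ψ)) : (ψ 1).re ≤ (χ 1).re := by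
  obtain ⟨a, ha⟩ := exists_nat_apply_one hχ
  obtain ⟨b, hb⟩ := exists_nat_apply_one hψ
  obtain ⟨c, hc⟩ := exists_nat_apply_one hsub
  simp only [Pi.sub_apply] at hc
  rw [ha, hb] at hc
  rw [ha, hb]
  simp only [Complex.natCast_re]
  have : (a : ℂ) = b + c := by rw [← hc]; ring
  have h2 : a = b + c := by exact_mod_cast this
  rw [h2]
  push_cast
  have : (0 : ℝ) ≤ c := Nat.cast_nonneg c
  linarith

end constituent

section degree

variable {G : Type*} [Group G]

/-- The degree of an irreducible character is a positive natural number. -/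
theorem exists_pos_nat_apply_one {χ : G → ℂ} (hχ : IsIrrCharacter G χ) :
    ∃ n : ℕ, 0 < n ∧ χ 1 = n := by
  obtain ⟨n, ρ, hirr, rfl⟩ := hχ
  refine ⟨finrank ℂ (Fin n → ℂ), ?_, Representation.char_one ρ⟩
  haveI := hirr
  have hs : IsSimpleModule (MonoidAlgebra ℂ G) ρ.asModule := inferInstance
  have hnt : Nontrivial (Fin n → ℂ) := IsSimpleModule.nontrivial (MonoidAlgebra ℂ G) ρ.asModule
  exact Module.finrank_pos

theorem apply_one_ne_zero {χ : G → ℂ} (hχ : IsIrrCharacter G χ) : χ 1 ≠ 0 := by
  obtain ⟨n, hn, h⟩ := exists_pos_nat_apply_one hχ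
  rw [h]
  exact_mod_cast hn.ne'

end degree

end Cfsg.Agent.Lib.helper3.Irr
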