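import Mathlib
import Cfsg.Prelude.Def_Characters
import Cfsg.Agent.Lib.helper3.Irr9

set_option autoImplicit false
set_option linter.style.haveILetI false
set_option linter.unusedSectionVars false

/-!
# Degrees: induced degree, abelian groups, bound by the index of an abelian subgroup
-/

namespace Cfsg.Agent.Lib.helper3.Irr

open Cfsg Module Cfsg.Agent.Lib.helper3.IndFun Cfsg.Agent.Lib.helper3.CharBasic
open Representation
open scoped ComplexConjugate

section

variable {G : Type*} [Group G]

theorem indFun_apply_one [Fintype G] (H : Subgroup G) (θ : H → ℂ) :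
    indFun H θ 1 = (H.index : ℂ) * θ 1 := by
  rw [indFun_apply]
  have : ∀ x : G, extendByZero H θ (x⁻¹ * 1 * x) = θ 1 := by
    intro x
    have : x⁻¹ * 1 * x = ((1 : H) : G) := by simp
    rw [this, extendByZero_coe]
  simp_rw [this]
  rw [Finset.sum_const, Finset.card_univ, nsmul_eq_mul, ← Nat.card_eq_fintype_card,
    ← H.card_mul_index]
  have hH : (Nat.card H : ℂ) ≠ 0 := card_ne_zero_complex H
  push_cast
  field_simp

/-- Irreducible characters of a commutative group have degree one. -/
theorem apply_one_eq_one_of_comm (hcomm : ∀ a b : G, a * b = b * a) {χ : G → ℂ}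
    (hχ : IsIrrCharacter G χ) : χ 1 = 1 := by
  obtain ⟨n, ρ, hirr, rfl⟩ := hχ
  haveI := hirr
  haveI : IsMulCommutative G := IsMulCommutative.of_comm hcomm
  rw [Representation.char_one, Representation.IsIrreducible.finrank_eq_one_of_isMulCommutative ρ]
  simp

/-- The degree of an irreducible character is at most the index of an abelian subgroup. -/
theorem degree_le_index_of_abelian [Fintype G] {χ : G → ℂ} (hχ : IsIrrCharacter G χ)
    (A : Subgroup G) (hA : ∀ a ∈ A, ∀ b ∈ A, a * b = b * a) : (χ 1).re ≤ (A.index : ℝ) := by
  classical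
  letI : Fintype A := Fintype.ofFinite A
  have hχc := isCharacter_of_isIrrCharacter hχ
  have hres := isCharacter_restrict hχc A
  have hne : (fun a : A => χ a) ≠ 0 := by
    intro h
    have := congrFun h 1
    simp only [Pi.zero_apply, OneMemClass.coe_one] at this
    exact apply_one_ne_zero hχ this
  obtain ⟨lam, hlam⟩ := exists_constituent hres hne
  have hlam1 : (lam : A → ℂ) 1 = 1 := by
    apply apply_one_eq_one_of_comm _ lam.2
    intro a b
    exact Subtype.ext (hA a a.2 b b.2)
  have hind := isCharacter_indFun A (lam : A → ℂ) (isCharacter_of_isIrrCharacter lam.2)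
  have hfr := frobenius_reciprocity A (lam : A → ℂ) χ (isClassFunction_of_isCharacter hχc)
  have hne2 : classInner (indFun A (lam : A → ℂ)) χ ≠ 0 := by
    rw [hfr, ← classInner_conj_symm]
    intro h
    apply hlam
    have := congrArg conj h
    rwa [Complex.conj_conj, map_zero] at this
  have hsub := isCharacter_sub_of_classInner_ne_zero hind ⟨χ, hχ⟩ hne2
  have hle := degree_le_of_isCharacter_sub hind hχc hsub
  rw [indFun_apply_one, hlam1, mul_one] at hle
  simpa using hle

end

end Cfsg.Agent.Lib.helper3.Irr
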