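import Mathlib
import Cfsg.Prelude.Def_Characters
import Cfsg.Agent.Lib.helper3.Irr10

set_option autoImplicit false
set_option linter.style.haveILetI false
set_option linter.unusedSectionVars false

/-!
# The trivial character, fixed points, Brauer's generation criterion
-/

namespace Cfsg.Agent.Lib.helper3.Irr

open Cfsg Module Cfsg.Agent.Lib.helper3.IndFun Cfsg.Agent.Lib.helper3.CharBasic
open Representation
open scoped ComplexConjugate

section trivial

variable {G : Type*} [Group G]

theorem classInner_one_one [Fintype G] :
    classInner (fun _ : G => (1 : ℂ)) (fun _ => 1) = 1 := by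
  rw [classInner_apply]
  simp only [map_one, mul_one, Finset.sum_const, Finset.card_univ, nsmul_eq_mul]
  rw [← Nat.card_eq_fintype_card]
  exact inv_mul_cancel₀ (card_ne_zero_complex G)

theorem isIrrCharacter_one [Finite G] : IsIrrCharacter G (fun _ => (1 : ℂ)) := by
  classical
  letI : Fintype G := Fintype.ofFinite G
  exact isIrrCharacter_of_classInner_self_eq_one isCharacter_one classInner_one_one

end trivial

section invariants

variable {G : Type*} [Group G]
variable {V : Type*} [AddCommGroup V] [Module ℂ V] [FiniteDimensional ℂ V]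

/-- The multiplicity of the trivial character in the restriction to `H` is the dimension of
the space of `H`-fixed vectors. -/
theorem classInner_restrict_one (ρ : Representation ℂ G V) (H : Subgroup G) [Fintype H] :
    classInner (fun h : H => ρ.character h) (fun _ => 1)
      = (finrank ℂ (Representation.invariants (ρ.comp H.subtype)) : ℂ) := by
  haveI : Invertible (Nat.card H : ℂ) := invertibleOfNonzero (card_ne_zero_complex H)
  rw [← Representation.card_inv_mul_sum_char_eq_finrank (ρ.comp H.subtype), classInner_apply]
  congr 1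
  apply Finset.sum_congr rfl
  intro h _
  simp [Representation.character]

theorem invariants_inf_le (ρ : Representation ℂ G V) (H₁ H₂ : Subgroup G)
    (htop : H₁ ⊔ H₂ = ⊤) :
    Representation.invariants (ρ.comp H₁.subtype) ⊓ Representation.invariants (ρ.comp H₂.subtype)
      ≤ Representation.invariants ρ := by
  intro v hv
  rw [Submodule.mem_inf] at hv
  obtain ⟨h1, h2⟩ := hv
  rw [Representation.mem_invariants] at h1 h2 ⊢
  let S : Subgroup G :=
    { carrier := {g | ρ g v = v}
      mul_mem' := by
        intro a b ha hb
        simp only [Set.mem_ofPred_eq] at ha hb ⊢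
        rw [map_mul, Module.End.mul_apply, hb, ha]
      one_mem' := by simp
      inv_mem' := by
        intro a ha
        simp only [Set.mem_ofPred_eq] at ha ⊢
        calc ρ a⁻¹ v = ρ a⁻¹ (ρ a v) := by rw [ha]
          _ = v := by rw [← Module.End.mul_apply, ← map_mul, inv_mul_cancel, map_one,
              Module.End.one_apply] }
  have hS1 : H₁ ≤ S := fun g hg => h1 ⟨g, hg⟩
  have hS2 : H₂ ≤ S := fun g hg => h2 ⟨g, hg⟩
  have : S = ⊤ := by
    rw [eq_top_iff, ← htop]
    exact sup_le hS1 hS2
  intro g
  have hg : g ∈ S := by rw [this]; exact Subgroup.mem_top g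
  exact hg

theorem invariants_sup_le (ρ : Representation ℂ G V) (H₁ H₂ : Subgroup G) :
    Representation.invariants (ρ.comp H₁.subtype) ⊔ Representation.invariants (ρ.comp H₂.subtype)
      ≤ Representation.invariants (ρ.comp (H₁ ⊓ H₂).subtype) := by
  apply sup_le
  · intro v hv
    rw [Representation.mem_invariants] at hv ⊢
    intro g
    exact hv ⟨g.1, (Subgroup.mem_inf.mp g.2).1⟩
  · intro v hv
    rw [Representation.mem_invariants] at hv ⊢
    intro g
    exact hv ⟨g.1, (Subgroup.mem_inf.mp g.2).2⟩

/-- Brauer's generation criterion. -/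
theorem brauer_generation [Fintype G] (H₁ H₂ : Subgroup G) [Fintype H₁] [Fintype H₂]
    [Fintype ↥(H₁ ⊓ H₂)] (χ : G → ℂ) (hχ : IsIrrCharacter G χ) (hχ1 : χ ≠ fun _ => 1)
    (hlt : (classInner (fun x : ↥(H₁ ⊓ H₂) => χ x) (fun _ => 1)).re
      < (classInner (fun x : H₁ => χ x) (fun _ => 1)).re
        + (classInner (fun x : H₂ => χ x) (fun _ => 1)).re) : H₁ ⊔ H₂ ≠ ⊤ := by
  intro htop
  obtain ⟨n, ρ, hirr, rfl⟩ := hχ
  rw [classInner_restrict_one ρ (H₁ ⊓ H₂), classInner_restrict_one ρ H₁,
    classInner_restrict_one ρ H₂] at hlt
  simp only [Complex.natCast_re] at hlt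
  have hlt' : finrank ℂ (Representation.invariants (ρ.comp (H₁ ⊓ H₂).subtype))
      < finrank ℂ (Representation.invariants (ρ.comp H₁.subtype))
        + finrank ℂ (Representation.invariants (ρ.comp H₂.subtype)) := by exact_mod_cast hlt
  have hadd := Submodule.finrank_sup_add_finrank_inf_eq
    (Representation.invariants (ρ.comp H₁.subtype)) (Representation.invariants (ρ.comp H₂.subtype))
  have hle1 := Submodule.finrank_mono (invariants_sup_le ρ H₁ H₂)
  have hle2 := Submodule.finrank_mono (invariants_inf_le ρ H₁ H₂ htop)
  have hpos : 0 < finrank ℂ (Representation.invariants ρ) := by omega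
  -- so the trivial character is a constituent
  have h1 : classInner ρ.character (fun _ : G => (1 : ℂ))
      = (finrank ℂ (Representation.invariants ρ) : ℂ) := by
    haveI : Invertible (Nat.card G : ℂ) := invertibleOfNonzero (card_ne_zero_complex G)
    rw [← Representation.card_inv_mul_sum_char_eq_finrank ρ, classInner_apply]
    simp
  have h2 : classInner ρ.character (fun _ : G => (1 : ℂ)) = 0 :=
    irr_classInner_eq_zero ⟨n, ρ, hirr, rfl⟩ isIrrCharacter_one hχ1
  rw [h2] at h1
  have : finrank ℂ (Representation.invariants ρ) = 0 := by exact_mod_cast h1.symm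
  omega

end invariants

end Cfsg.Agent.Lib.helper3.Irr
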