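import Mathlib
import Cfsg.Prelude.Def_Characters
import Cfsg.Agent.Lib.helper3.Irr11

set_option autoImplicit false
set_option linter.style.haveILetI false
set_option linter.unusedSectionVars false

/-!
# Conjugate characters of a normal subgroup and the norm of an induced character
-/

namespace Cfsg.Agent.Lib.helper3.Irr

open Cfsg Module Cfsg.Agent.Lib.helper3.IndFun Cfsg.Agent.Lib.helper3.CharBasic
open Representation
open scoped ComplexConjugate

section pullback

variable {G : Type*} [Group G] {H : Type*} [Group H]

theorem classInner_comp_mulEquiv [Fintype G] [Fintype H] (e : H ≃* G) (φ ψ : G → ℂ) :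
    classInner (fun h => φ (e h)) (fun h => ψ (e h)) = classInner φ ψ := by
  rw [classInner_apply, classInner_apply, Nat.card_congr e.toEquiv]
  congr 1
  exact Fintype.sum_equiv e.toEquiv _ _ (fun _ => rfl)

theorem isIrrCharacter_comp_mulEquiv [Finite G] (e : H ≃* G) {χ : G → ℂ}
    (hχ : IsIrrCharacter G χ) : IsIrrCharacter H (fun h => χ (e h)) := by
  classical
  letI : Fintype G := Fintype.ofFinite G
  haveI : Finite H := Finite.of_equiv G e.symm.toEquiv
  letI : Fintype H := Fintype.ofFinite H
  apply isIrrCharacter_of_classInner_self_eq_one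
  · exact isCharacter_comp (isCharacter_of_isIrrCharacter hχ) e.toMonoidHom
  · rw [classInner_comp_mulEquiv, irr_classInner_self hχ]

end pullback

section normal

variable {G : Type*} [Group G]

/-- The conjugate of a function on a normal subgroup by an element of the group. -/
def conjFun (H : Subgroup G) [hN : H.Normal] (θ : H → ℂ) (g : G) : H → ℂ :=
  fun h => θ ⟨g * h * g⁻¹, hN.conj_mem h h.2 g⟩

theorem conjFun_eq_comp (H : Subgroup G) [hN : H.Normal] (θ : H → ℂ) (g : G) :
    conjFun H θ g = fun h => θ (MulAut.conjNormal g h) := by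
  funext h
  unfold conjFun
  congr 1

theorem isIrrCharacter_conjFun [Finite G] (H : Subgroup G) [hN : H.Normal] {θ : H → ℂ}
    (hθ : IsIrrCharacter H θ) (g : G) : IsIrrCharacter H (conjFun H θ g) := by
  rw [conjFun_eq_comp]
  exact isIrrCharacter_comp_mulEquiv (MulAut.conjNormal g) hθ

/-- The induced function on a normal subgroup is the normalised sum of the conjugates. -/
theorem indFun_normal_apply [Fintype G] (H : Subgroup G) [hN : H.Normal] (θ : H → ℂ) (h : H) :
    indFun H θ h = (Nat.card H : ℂ)⁻¹ * ∑ x : G, conjFun H θ x h := by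
  rw [indFun_apply]
  congr 1
  apply Fintype.sum_equiv (Equiv.inv G)
  intro x
  simp only [Equiv.inv_apply, conjFun, inv_inv]
  rw [extendByZero_mem H θ (by
    have := hN.conj_mem h h.2 x⁻¹
    simpa using this)]

/-- The induced function vanishes off the normal subgroup. -/
theorem indFun_normal_apply_of_not_mem [Fintype G] (H : Subgroup G) [hN : H.Normal] (θ : H → ℂ)
    {g : G} (hg : g ∉ H) : indFun H θ g = 0 := by
  rw [indFun_apply]
  have : ∀ x : G, extendByZero H θ (x⁻¹ * g * x) = 0 := by
    intro x
    apply extendByZero_not_mem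
    intro hmem
    apply hg
    have := hN.conj_mem _ hmem x
    simpa [mul_assoc] using this
  simp [this]

/-- `|H| ⟨Ind θ, Ind θ⟩` is the order of the stabilizer of `θ`. -/
theorem card_mul_classInner_indFun_normal [Fintype G] (H : Subgroup G) [hN : H.Normal]
    (θ : H → ℂ) (hθ : IsIrrCharacter H θ) :
    (Nat.card H : ℂ) * classInner (indFun H θ) (indFun H θ)
      = (Nat.card {g : G // ∀ h : H, θ ⟨g * h * g⁻¹, hN.conj_mem h h.2 g⟩ = θ h} : ℂ) := by
  classical
  letI : Fintype H := Fintype.ofFinite H
  rw [frobenius_reciprocity H θ _ (indFun_isClassFunction H θ), classInner_apply]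
  have hH : (Nat.card H : ℂ) ≠ 0 := card_ne_zero_complex H
  -- rewrite the restricted induced function
  have h1 : ∑ h : H, θ h * conj (indFun H θ h)
      = (Nat.card H : ℂ)⁻¹ * ∑ x : G, ∑ h : H, θ h * conj (conjFun H θ x h) := by
    simp_rw [indFun_normal_apply, map_mul, map_inv₀, Complex.conj_natCast, map_sum]
    rw [Finset.mul_sum]
    simp_rw [Finset.mul_sum]
    rw [Finset.sum_comm]
    apply Finset.sum_congr rfl
    intro x _
    apply Finset.sum_congr rfl
    intro h _
    ring
  rw [h1]
  have h2 : ∀ x : G, ∑ h : H, θ h * conj (conjFun H θ x h)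
      = (Nat.card H : ℂ) * (if conjFun H θ x = θ then 1 else 0) := by
    intro x
    have := irr_classInner_eq hθ (isIrrCharacter_conjFun H hθ x)
    rw [classInner_apply] at this
    have h3 : ∑ h : H, θ h * conj (conjFun H θ x h)
        = (Nat.card H : ℂ) * ((Nat.card H : ℂ)⁻¹ * ∑ h : H, θ h * conj (conjFun H θ x h)) := by
      field_simp
    rw [h3, this]
    by_cases hx : conjFun H θ x = θ
    · rw [if_pos hx.symm, if_pos hx]
    · rw [if_neg (fun h => hx h.symm), if_neg hx]
  simp_rw [h2]
  rw [← Finset.mul_sum, Finset.sum_boole]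
  have h4 : ((Finset.univ.filter (fun x : G => conjFun H θ x = θ)).card : ℂ)
      = (Nat.card {g : G // ∀ h : H, θ ⟨g * h * g⁻¹, hN.conj_mem h h.2 g⟩ = θ h} : ℂ) := by
    congr 1
    rw [Nat.card_eq_fintype_card, Fintype.card_subtype]
    congr 1
    ext x
    simp only [Finset.mem_filter, Finset.mem_univ, true_and]
    constructor
    · intro hx h
      exact congrFun hx h
    · intro hx
      funext h
      exact hx h
  rw [h4]
  field_simp

end normal

end Cfsg.Agent.Lib.helper3.Irr
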