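import Mathlib
import Cfsg.Prelude.Def_Characters
import Cfsg.Agent.Lib.helper3.Irr12

set_option autoImplicit false
set_option linter.style.haveILetI false
set_option linter.unusedSectionVars false

/-!
# Square roots counting, real characters and real classes
-/

namespace Cfsg.Agent.Lib.helper3.Irr

open Cfsg Module Cfsg.Agent.Lib.helper3.IndFun Cfsg.Agent.Lib.helper3.CharBasic
open Representation
open scoped ComplexConjugate

section inv

variable {G : Type*} [Group G]

theorem isCharacter_apply_inv [Finite G] {χ : G → ℂ} (hχ : IsCharacter G χ) (g : G) :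
    χ g⁻¹ = conj (χ g) := by
  obtain ⟨n, ρ, rfl⟩ := hχ
  exact character_inv ρ g

end inv

section sqrt

variable {G : Type*} [Group G] [Fintype G]

/-- The Frobenius–Schur indicator of a function. -/
noncomputable def fsInd (χ : G → ℂ) : ℂ := (Nat.card G : ℂ)⁻¹ * ∑ s : G, χ (s * s)

theorem conj_fsInd {χ : G → ℂ} (hχ : IsCharacter G χ) : conj (fsInd χ) = fsInd χ := by
  unfold fsInd
  rw [map_mul, map_inv₀, Complex.conj_natCast, map_sum]
  congr 1
  apply Fintype.sum_equiv (Equiv.inv G)
  intro s
  simp only [Equiv.inv_apply]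
  rw [← isCharacter_apply_inv hχ]
  congr 1
  group

/-- The number of square roots of `g`, decomposed along the irreducible characters. -/
theorem card_sqrt_eq_sum (g : G) :
    (Nat.card {s : G // s * s = g} : ℂ)
      = ∑ χ : IrrCharacter G, fsInd (χ : G → ℂ) * (χ : G → ℂ) g := by
  classical
  set θ : G → ℂ := fun x => (Nat.card {s : G // s * s = x} : ℂ) with hθ
  have hcf : IsClassFunction G θ := by
    intro x z
    simp only [hθ]
    congr 1
    apply Nat.card_congr
    refine ⟨fun s => ⟨z⁻¹ * s.1 * z, ?_⟩, fun s => ⟨z * s.1 * z⁻¹, ?_⟩, ?_, ?_⟩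
    · have := s.2
      calc z⁻¹ * s.1 * z * (z⁻¹ * s.1 * z) = z⁻¹ * (s.1 * s.1) * z := by group
        _ = z⁻¹ * (z * x * z⁻¹) * z := by rw [this]
        _ = x := by group
    · have := s.2
      calc z * s.1 * z⁻¹ * (z * s.1 * z⁻¹) = z * (s.1 * s.1) * z⁻¹ := by group
        _ = z * x * z⁻¹ := by rw [this]
    · intro s
      apply Subtype.ext
      simp only
      group
    · intro s
      apply Subtype.ext
      simp only
      group
  have hinner : ∀ χ : IrrCharacter G, classInner θ (χ : G → ℂ) = fsInd (χ : G → ℂ) := by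
    intro χ
    rw [← conj_fsInd (isCharacter_of_isIrrCharacter χ.2), classInner_apply]
    unfold fsInd
    rw [map_mul, map_inv₀, Complex.conj_natCast, map_sum]
    congr 1
    have h1 : ∑ x : G, θ x * conj ((χ : G → ℂ) x)
        = ∑ x : G, ∑ s : G, if s * s = x then conj ((χ : G → ℂ) x) else 0 := by
      apply Finset.sum_congr rfl
      intro x _
      simp only [hθ]
      rw [Nat.card_eq_fintype_card, Fintype.card_subtype, Finset.card_filter]
      push_cast
      rw [Finset.sum_mul]
      apply Finset.sum_congr rfl
      intro y _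
      split_ifs <;> simp
    rw [h1, Finset.sum_comm]
    apply Finset.sum_congr rfl
    intro s _
    rw [Finset.sum_ite_eq Finset.univ (s * s), if_pos (Finset.mem_univ _)]
  have hdec := classFunction_eq_sum θ hcf
  have hg := congrFun hdec g
  simp only [Finset.sum_apply, Pi.smul_apply, smul_eq_mul] at hg
  rw [show θ g = (Nat.card {s : G // s * s = g} : ℂ) from rfl] at hg
  rw [hg]
  apply Finset.sum_congr rfl
  intro χ _
  rw [hinner χ]

end sqrt

section classsum

variable {G : Type*} [Group G] [Fintype G]

/-- The centralizer orders over a conjugacy class add up to the group order. -/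
theorem sum_card_centralizer_of_class [DecidableEq (ConjClasses G)] (C : ConjClasses G) :
    ∑ g ∈ Finset.univ.filter (fun g : G => ConjClasses.mk g = C),
      (Nat.card (Subgroup.centralizer ({g} : Set G)) : ℂ) = (Nat.card G : ℂ) := by
  classical
  obtain ⟨h, rfl⟩ := ConjClasses.mk_surjective C
  have h1 : ∀ g ∈ Finset.univ.filter (fun g : G => ConjClasses.mk g = ConjClasses.mk h),
      (Nat.card (Subgroup.centralizer ({g} : Set G)) : ℂ)
        = ∑ y : G, if y * h * y⁻¹ = g then (1 : ℂ) else 0 := by
    intro g hg
    simp only [Finset.mem_filter, Finset.mem_univ, true_and] at hg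
    rw [← card_conj_eq_card_centralizer (ConjClasses.mk_eq_mk_iff_isConj.mp hg),
      Nat.card_eq_fintype_card, Fintype.card_subtype, Finset.card_filter]
    push_cast
    rfl
  rw [Finset.sum_congr rfl h1, Finset.sum_comm]
  have h2 : ∀ y : G, ∑ g ∈ Finset.univ.filter (fun g : G => ConjClasses.mk g = ConjClasses.mk h),
      (if y * h * y⁻¹ = g then (1 : ℂ) else 0) = 1 := by
    intro y
    rw [Finset.sum_ite_eq, if_pos]
    simp only [Finset.mem_filter, Finset.mem_univ, true_and]
    exact ConjClasses.mk_eq_mk_iff_isConj.mpr (isConj_iff.mpr ⟨y, rfl⟩).symm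
  simp_rw [h2]
  simp [Nat.card_eq_fintype_card]

end classsum

section real

variable {G : Type*} [Group G]

/-- A class is real when its elements are conjugate to their inverses. -/
def IsRealClass (C : ConjClasses G) : Prop := ∀ g : G, ConjClasses.mk g = C → IsConj g g⁻¹

theorem isRealClass_mk_iff (g : G) : IsRealClass (ConjClasses.mk g) ↔ IsConj g g⁻¹ := by
  constructor
  · intro h
    exact h g rfl
  · intro h x hx
    have hxg : IsConj x g := ConjClasses.mk_eq_mk_iff_isConj.mp hx
    obtain ⟨c, hc⟩ := isConj_iff.mp hxg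
    -- x⁻¹ ~ g⁻¹
    have h2 : IsConj x⁻¹ g⁻¹ := isConj_iff.mpr ⟨c, by rw [← hc]; group⟩
    exact hxg.trans (h.trans h2.symm)

/-- The number of real-valued irreducible characters equals the number of real classes. -/
theorem card_real_irr_eq_card_real_classes [Finite G] :
    Nat.card {χ : IrrCharacter G // ∀ g : G, ((χ : G → ℂ) g).im = 0}
      = Nat.card {C : ConjClasses G // IsRealClass C} := by
  classical
  letI : Fintype G := Fintype.ofFinite G
  letI : Fintype (ConjClasses G) := Fintype.ofFinite _
  have hreal_iff : ∀ χ : IrrCharacter G, (∀ g : G, ((χ : G → ℂ) g).im = 0)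
      ↔ (χ : G → ℂ) = (fun g => conj ((χ : G → ℂ) g)) := by
    intro χ
    constructor
    · intro h
      funext g
      exact (Complex.conj_eq_iff_im.mpr (h g)).symm
    · intro h g
      have := congrFun h g
      exact Complex.conj_eq_iff_im.mp this.symm
  -- the count of real characters as a sum of inner products
  have hL : (Nat.card {χ : IrrCharacter G // ∀ g : G, ((χ : G → ℂ) g).im = 0} : ℂ)
      = ∑ χ : IrrCharacter G, classInner (χ : G → ℂ) (fun g => conj ((χ : G → ℂ) g)) := by
    rw [Nat.card_eq_fintype_card, Fintype.card_subtype, Finset.card_filter]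
    push_cast
    apply Finset.sum_congr rfl
    intro χ _
    rw [irr_classInner_eq χ.2 (isIrrCharacter_conj χ.2)]
    by_cases h : ∀ g : G, ((χ : G → ℂ) g).im = 0
    · rw [if_pos h, if_pos ((hreal_iff χ).mp h)]
    · rw [if_neg h, if_neg (fun h' => h ((hreal_iff χ).mpr h'))]
  -- compute the same sum via column orthogonality
  have hR : ∑ χ : IrrCharacter G, classInner (χ : G → ℂ) (fun g => conj ((χ : G → ℂ) g))
      = (Nat.card G : ℂ)⁻¹ * ∑ g : G,
        (if IsConj g g⁻¹ then (Nat.card (Subgroup.centralizer ({g} : Set G)) : ℂ) else 0) := by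
    simp_rw [classInner_apply, ← Finset.mul_sum]
    congr 1
    rw [Finset.sum_comm]
    apply Finset.sum_congr rfl
    intro g _
    have h1 : ∀ χ : IrrCharacter G, (χ : G → ℂ) g * conj (conj ((χ : G → ℂ) g))
        = (χ : G → ℂ) g * conj ((χ : G → ℂ) g⁻¹) := by
      intro χ
      rw [isCharacter_apply_inv (isCharacter_of_isIrrCharacter χ.2)]
    rw [Finset.sum_congr rfl (fun χ _ => h1 χ)]
    split_ifs with hc
    · exact (column_orthogonality g g⁻¹).1 hc
    · exact (column_orthogonality g g⁻¹).2 hc
  -- group the sum over `g` by conjugacy classes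
  have hS : ∑ g : G,
      (if IsConj g g⁻¹ then (Nat.card (Subgroup.centralizer ({g} : Set G)) : ℂ) else 0)
      = (Nat.card G : ℂ) * (Nat.card {C : ConjClasses G // IsRealClass C} : ℂ) := by
    rw [← Finset.sum_fiberwise Finset.univ (ConjClasses.mk : G → ConjClasses G)]
    have h2 : ∀ C : ConjClasses G,
        ∑ g ∈ Finset.univ.filter (fun g : G => ConjClasses.mk g = C),
          (if IsConj g g⁻¹ then (Nat.card (Subgroup.centralizer ({g} : Set G)) : ℂ) else 0)
        = if IsRealClass C then (Nat.card G : ℂ) else 0 := by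
      intro C
      split_ifs with hC
      · rw [← sum_card_centralizer_of_class C]
        apply Finset.sum_congr rfl
        intro g hg
        simp only [Finset.mem_filter, Finset.mem_univ, true_and] at hg
        rw [if_pos (hC g hg)]
      · apply Finset.sum_eq_zero
        intro g hg
        simp only [Finset.mem_filter, Finset.mem_univ, true_and] at hg
        rw [if_neg]
        intro hgg
        apply hC
        rw [← hg]
        exact (isRealClass_mk_iff g).mpr hgg
    rw [Finset.sum_congr rfl (fun C _ => h2 C)]
    rw [Finset.sum_ite, Finset.sum_const_zero, add_zero, Finset.sum_const, nsmul_eq_mul, mul_comm]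
    congr 2
    rw [Nat.card_eq_fintype_card, Fintype.card_subtype]
  have hG : (Nat.card G : ℂ) ≠ 0 := card_ne_zero_complex G
  have : (Nat.card {χ : IrrCharacter G // ∀ g : G, ((χ : G → ℂ) g).im = 0} : ℂ)
      = (Nat.card {C : ConjClasses G // IsRealClass C} : ℂ) := by
    rw [hL, hR, hS]
    field_simp
  exact_mod_cast this

end real

end Cfsg.Agent.Lib.helper3.Irr
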