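import Mathlib
import Cfsg.Prelude.Def_Characters
import Cfsg.Agent.Lib.helper3.Irr13

set_option autoImplicit false
set_option linter.style.haveILetI false
set_option linter.unusedSectionVars false

/-!
# Groups of odd order: real characters
-/

namespace Cfsg.Agent.Lib.helper3.Irr

open Cfsg Module Cfsg.Agent.Lib.helper3.IndFun Cfsg.Agent.Lib.helper3.CharBasic
open Representation
open scoped ComplexConjugate

variable {G : Type*} [Group G]

theorem eq_one_of_isConj_inv_of_odd [Finite G] (hodd : Odd (Nat.card G)) {g : G}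
    (h : IsConj g g⁻¹) : g = 1 := by
  obtain ⟨x, hx⟩ := isConj_iff.mp h
  -- x² commutes with g
  have h2 : x ^ 2 * g = g * x ^ 2 := by
    have : x * g = g⁻¹ * x := by
      calc x * g = (x * g * x⁻¹) * x := by group
        _ = g⁻¹ * x := by rw [hx]
    have h3 : x * g⁻¹ = g * x := by
      have : x * g⁻¹ * x⁻¹ = g := by
        calc x * g⁻¹ * x⁻¹ = (x * g * x⁻¹)⁻¹ := by group
          _ = g := by rw [hx, inv_inv]
      calc x * g⁻¹ = (x * g⁻¹ * x⁻¹) * x := by group
        _ = g * x := by rw [this]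
    calc x ^ 2 * g = x * (x * g) := by rw [pow_two, mul_assoc]
      _ = x * (g⁻¹ * x) := by rw [this]
      _ = (x * g⁻¹) * x := by rw [mul_assoc]
      _ = g * x * x := by rw [h3]
      _ = g * x ^ 2 := by rw [pow_two, mul_assoc]
  -- x is a power of x²
  have hxodd : Odd (orderOf x) := hodd.of_dvd_nat (orderOf_dvd_natCard x)
  obtain ⟨k, hk⟩ := hxodd
  have hxpow : x = (x ^ 2) ^ (k + 1) := by
    rw [← pow_mul]
    have : 2 * (k + 1) = orderOf x + 1 := by omega
    rw [this, pow_succ, pow_orderOf_eq_one, one_mul]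
  have hcomm : x * g = g * x := by
    have : Commute (x ^ 2) g := h2
    have := this.pow_left (k + 1)
    rw [← hxpow] at this
    exact this
  have hg2 : g = g⁻¹ := by
    calc g = (g * x) * x⁻¹ := by group
      _ = (x * g) * x⁻¹ := by rw [hcomm]
      _ = g⁻¹ := hx
  have hgsq : g ^ 2 = 1 := by
    rw [pow_two]
    nth_rewrite 2 [hg2]
    exact mul_inv_cancel g
  have hdvd : orderOf g ∣ 2 := orderOf_dvd_of_pow_eq_one hgsq
  have hgodd : Odd (orderOf g) := hodd.of_dvd_nat (orderOf_dvd_natCard g)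
  have : orderOf g = 1 := by
    rcases (Nat.dvd_prime Nat.prime_two).mp hdvd with h1 | h2
    · exact h1
    · rw [h2] at hgodd
      exact absurd hgodd (by decide)
  exact orderOf_eq_one_iff.mp this

/-- In a group of odd order the only real-valued irreducible character is the trivial one. -/
theorem eq_one_of_real_of_odd [Finite G] (hodd : Odd (Nat.card G)) (χ : IrrCharacter G)
    (hreal : ∀ g : G, ((χ : G → ℂ) g).im = 0) : (χ : G → ℂ) = fun _ => 1 := by
  classical
  have hcard := card_real_irr_eq_card_real_classes (G := G)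
  have hone : Nat.card {C : ConjClasses G // IsRealClass C} = 1 := by
    rw [Nat.card_eq_one_iff_unique]
    refine ⟨⟨?_⟩, ⟨⟨ConjClasses.mk 1, ?_⟩⟩⟩
    · rintro ⟨C, hC⟩ ⟨D, hD⟩
      apply Subtype.ext
      obtain ⟨g, rfl⟩ := ConjClasses.mk_surjective C
      obtain ⟨h, rfl⟩ := ConjClasses.mk_surjective D
      show ConjClasses.mk g = ConjClasses.mk h
      rw [eq_one_of_isConj_inv_of_odd hodd ((isRealClass_mk_iff g).mp hC),
        eq_one_of_isConj_inv_of_odd hodd ((isRealClass_mk_iff h).mp hD)]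
    · rw [isRealClass_mk_iff]
      simp
  rw [hone] at hcard
  rw [Nat.card_eq_one_iff_unique] at hcard
  obtain ⟨hsub, _⟩ := hcard
  let t : {χ : IrrCharacter G // ∀ g : G, ((χ : G → ℂ) g).im = 0} :=
    ⟨⟨fun _ => 1, isIrrCharacter_one⟩, fun g => by simp⟩
  have := hsub.elim ⟨χ, hreal⟩ t
  have h2 := congrArg (fun s : {χ : IrrCharacter G // ∀ g : G, ((χ : G → ℂ) g).im = 0} =>
    ((s : IrrCharacter G) : G → ℂ)) this
  exact h2

end Cfsg.Agent.Lib.helper3.Irr
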