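import Mathlib
import Cfsg.Prelude.Def_Characters
import Cfsg.Agent.Lib.helper3.Irr14

set_option autoImplicit false
set_option linter.style.haveILetI false
set_option linter.unusedSectionVars false

/-!
# Odd order: an induced character from a normal subgroup is orthogonal to its conjugate
-/

namespace Cfsg.Agent.Lib.helper3.Irr

open Cfsg Module Cfsg.Agent.Lib.helper3.IndFun Cfsg.Agent.Lib.helper3.CharBasic
open Representation
open scoped ComplexConjugate

variable {G : Type*} [Group G]

theorem extendByZero_conj (H : Subgroup G) (θ : H → ℂ) (g : G) :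
    extendByZero H (fun h => conj (θ h)) g = conj (extendByZero H θ g) := by
  by_cases hg : g ∈ H
  · rw [extendByZero_mem H _ hg, extendByZero_mem H _ hg]
  · rw [extendByZero_not_mem H _ hg, extendByZero_not_mem H _ hg, map_zero]

theorem indFun_conj [Fintype G] (H : Subgroup G) (θ : H → ℂ) (g : G) :
    indFun H (fun h => conj (θ h)) g = conj (indFun H θ g) := by
  rw [indFun_apply, indFun_apply, map_mul, map_inv₀, Complex.conj_natCast, map_sum]
  simp_rw [extendByZero_conj]

theorem conjFun_mul (H : Subgroup G) [hN : H.Normal] (θ : H → ℂ) (x y : G) :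
    conjFun H (conjFun H θ x) y = conjFun H θ (x * y) := by
  funext h
  unfold conjFun
  congr 1
  apply Subtype.ext
  simp only
  group

theorem conjFun_one (H : Subgroup G) [hN : H.Normal] (θ : H → ℂ) :
    conjFun H θ 1 = θ := by
  funext h
  unfold conjFun
  congr 1
  apply Subtype.ext
  simp

theorem conjFun_conj (H : Subgroup G) [hN : H.Normal] (θ : H → ℂ) (x : G) :
    conjFun H (fun h => conj (θ h)) x = fun h => conj (conjFun H θ x h) := rfl

theorem conjFun_pow_of_fixed (H : Subgroup G) [hN : H.Normal] (θ : H → ℂ) (y : G)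
    (hy : conjFun H θ y = θ) (k : ℕ) : conjFun H θ (y ^ k) = θ := by
  induction k with
  | zero => rw [pow_zero, conjFun_one]
  | succ k ih => rw [pow_succ, ← conjFun_mul, ih, hy]

theorem classInner_conj_indFun_of_odd [Fintype G] (hodd : Odd (Nat.card G)) (H : Subgroup G)
    [hN : H.Normal] (θ : H → ℂ) (hθ : IsIrrCharacter H θ) (hθ1 : θ ≠ fun _ => 1) :
    classInner (fun g => conj (indFun H θ g)) (indFun H θ) = 0 := by
  classical
  letI : Fintype H := Fintype.ofFinite H
  have hoddH : Odd (Nat.card H) := hodd.of_dvd_nat (Subgroup.card_subgroup_dvd_card H)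
  have h0 : (fun g => conj (indFun H θ g)) = indFun H (fun h => conj (θ h)) := by
    funext g
    rw [indFun_conj]
  rw [h0, frobenius_reciprocity H _ _ (indFun_isClassFunction H θ), classInner_apply]
  have hθbar := isIrrCharacter_conj hθ
  -- the conjugate of θ is not a G-conjugate of θ
  have hne : ∀ x : G, (fun h => conj (θ h)) ≠ conjFun H θ x := by
    intro x hx
    have hx2 : conjFun H θ (x ^ 2) = θ := by
      rw [pow_two, ← conjFun_mul, ← hx, conjFun_conj, ← hx]
      funext h
      simp
    have hxodd : Odd (orderOf x) := hodd.of_dvd_nat (orderOf_dvd_natCard x)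
    obtain ⟨k, hk⟩ := hxodd
    have hxpow : x = (x ^ 2) ^ (k + 1) := by
      rw [← pow_mul]
      have : 2 * (k + 1) = orderOf x + 1 := by omega
      rw [this, pow_succ, pow_orderOf_eq_one, one_mul]
    have hfix : conjFun H θ x = θ := by
      rw [hxpow]
      exact conjFun_pow_of_fixed H θ (x ^ 2) hx2 (k + 1)
    rw [hfix] at hx
    have hreal : ∀ h : H, (θ h).im = 0 := by
      intro h
      exact Complex.conj_eq_iff_im.mp (congrFun hx h)
    exact hθ1 (eq_one_of_real_of_odd hoddH ⟨θ, hθ⟩ hreal)
  have h1 : ∑ h : H, conj (θ h) * conj (indFun H θ h)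
      = (Nat.card H : ℂ)⁻¹ * ∑ x : G, ∑ h : H, conj (θ h) * conj (conjFun H θ x h) := by
    simp_rw [indFun_normal_apply, map_mul, map_inv₀, Complex.conj_natCast, map_sum]
    rw [Finset.mul_sum]
    simp_rw [Finset.mul_sum]
    rw [Finset.sum_comm]
    apply Finset.sum_congr rfl
    intro x _
    apply Finset.sum_congr rfl
    intro h _
    ring
  rw [h1]
  have h2 : ∀ x : G, ∑ h : H, conj (θ h) * conj (conjFun H θ x h) = 0 := by
    intro x
    have := irr_classInner_eq_zero hθbar (isIrrCharacter_conjFun H hθ x) (hne x)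
    rw [classInner_apply] at this
    have hH : (Nat.card H : ℂ)⁻¹ ≠ 0 := inv_ne_zero (card_ne_zero_complex H)
    rcases mul_eq_zero.mp this with h | h
    · exact absurd h hH
    · exact h
  simp [h2]

end Cfsg.Agent.Lib.helper3.Irr
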