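import Mathlib
import Cfsg.Prelude.Def_Characters
import Cfsg.Agent.Lib.helper3.Irr15

set_option autoImplicit false
set_option linter.style.haveILetI false
set_option linter.unusedSectionVars false

/-!
# Induction from a normal subgroup: conjugates of a character
-/

namespace Cfsg.Agent.Lib.helper3.Irr

open Cfsg Module Cfsg.Agent.Lib.helper3.IndFun Cfsg.Agent.Lib.helper3.CharBasic
open Representation
open scoped ComplexConjugate

variable {G : Type*} [Group G]

theorem card_fiber_conjFun [Fintype G] (H : Subgroup G) [hN : H.Normal] (θ : H → ℂ) (g : G)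
    [DecidableEq (H → ℂ)] :
    (Finset.univ.filter (fun x : G => conjFun H θ x = conjFun H θ g)).card
      = (Finset.univ.filter (fun x : G => conjFun H θ x = θ)).card := by
  apply Finset.card_equiv (Equiv.mulRight g⁻¹)
  intro x
  simp only [Finset.mem_filter, Finset.mem_univ, true_and, Equiv.coe_mulRight]
  constructor
  · intro hx
    rw [← conjFun_mul, hx, conjFun_mul, mul_inv_cancel, conjFun_one]
  · intro hx
    have : conjFun H (conjFun H θ (x * g⁻¹)) g = conjFun H θ g := by rw [hx]
    rw [conjFun_mul] at this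
    simpa using this

theorem card_stab_conjFun [Fintype G] (H : Subgroup G) [hN : H.Normal] (θ : H → ℂ)
    [DecidableEq (H → ℂ)] :
    (Finset.univ.filter (fun x : G => conjFun H θ x = θ)).card
      = Nat.card {g : G // ∀ h : H, θ ⟨g * h * g⁻¹, hN.conj_mem h h.2 g⟩ = θ h} := by
  classical
  rw [Nat.card_eq_fintype_card, Fintype.card_subtype]
  congr 1
  ext x
  simp only [Finset.mem_filter, Finset.mem_univ, true_and]
  constructor
  · intro hx h
    exact congrFun hx h
  · intro hx
    funext h
    exact hx h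

theorem sum_conjFun_eq [Fintype G] (H : Subgroup G) [hN : H.Normal] (θ : H → ℂ)
    [DecidableEq (H → ℂ)] :
    ∑ x : G, conjFun H θ x
      = (Nat.card {g : G // ∀ h : H, θ ⟨g * h * g⁻¹, hN.conj_mem h h.2 g⟩ = θ h} : ℂ)
        • ∑ ψ ∈ Finset.univ.image (conjFun H θ), ψ := by
  have := Finset.sum_comp (s := (Finset.univ : Finset G)) (fun ψ : H → ℂ => ψ) (conjFun H θ)
  rw [this, Finset.smul_sum]
  apply Finset.sum_congr rfl
  intro ψ hψ
  obtain ⟨g, -, rfl⟩ := Finset.mem_image.mp hψ
  rw [card_fiber_conjFun, card_stab_conjFun, Nat.cast_smul_eq_nsmul]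

theorem setOf_conj_eq [Fintype G] (H : Subgroup G) [hN : H.Normal] (θ : H → ℂ)
    [DecidableEq (H → ℂ)] :
    {ψ : H → ℂ | ∃ g : G, ψ = fun h : H => θ ⟨g * h * g⁻¹, hN.conj_mem h h.2 g⟩}
      = ↑(Finset.univ.image (conjFun H θ)) := by
  ext ψ
  simp only [Set.mem_ofPred_eq, Finset.coe_image, Finset.coe_univ, Set.image_univ, Set.mem_range]
  constructor
  · rintro ⟨g, rfl⟩
    exact ⟨g, rfl⟩
  · rintro ⟨g, rfl⟩
    exact ⟨g, rfl⟩

/-- Restriction of the induced function to the normal subgroup. -/
theorem indFun_normal_restrict [Fintype G] (H : Subgroup G) [hN : H.Normal] (θ : H → ℂ) :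
    (fun h : H => indFun H θ h)
      = ((Nat.card {g : G // ∀ h : H, θ ⟨g * h * g⁻¹, hN.conj_mem h h.2 g⟩ = θ h} : ℂ)
          / (Nat.card H : ℂ))
        • ∑ᶠ ψ ∈ {ψ : H → ℂ | ∃ g : G, ψ = fun h : H => θ ⟨g * h * g⁻¹, hN.conj_mem h h.2 g⟩},
            ψ := by
  classical
  rw [setOf_conj_eq, finsum_mem_coe_finset]
  funext h
  rw [indFun_normal_apply]
  have := congrFun (sum_conjFun_eq H θ) h
  rw [Finset.sum_apply] at this
  rw [this]
  simp only [Pi.smul_apply, smul_eq_mul]
  ring

/-- Induction of a conjugate. -/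
theorem indFun_conjFun [Fintype G] (H : Subgroup G) [hN : H.Normal] (θ : H → ℂ) (g : G) :
    indFun H (conjFun H θ g) = indFun H θ := by
  funext y
  rw [indFun_apply, indFun_apply]
  congr 1
  apply Fintype.sum_equiv (Equiv.mulRight g⁻¹)
  intro x
  simp only [Equiv.coe_mulRight]
  have key : ∀ z : G, extendByZero H (conjFun H θ g) z = extendByZero H θ (g * z * g⁻¹) := by
    intro z
    by_cases hz : z ∈ H
    · rw [extendByZero_mem H _ hz, extendByZero_mem H _ (hN.conj_mem z hz g)]
      rfl
    · rw [extendByZero_not_mem H _ hz, extendByZero_not_mem H θ]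
      intro hmem
      apply hz
      have := hN.conj_mem _ hmem g⁻¹
      simpa [mul_assoc] using this
  rw [key]
  congr 1
  group

/-- Non-conjugate irreducible characters of a normal subgroup induce orthogonal functions. -/
theorem classInner_indFun_of_not_conj [Fintype G] (H : Subgroup G) [hN : H.Normal]
    (θ φ : H → ℂ) (hθ : IsIrrCharacter H θ) (hφ : IsIrrCharacter H φ)
    (hne : ∀ g : G, φ ≠ conjFun H θ g) :
    classInner (indFun H φ) (indFun H θ) = 0 := by
  classical
  letI : Fintype H := Fintype.ofFinite H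
  rw [frobenius_reciprocity H φ _ (indFun_isClassFunction H θ), classInner_apply]
  have h1 : ∑ h : H, φ h * conj (indFun H θ h)
      = (Nat.card H : ℂ)⁻¹ * ∑ x : G, ∑ h : H, φ h * conj (conjFun H θ x h) := by
    simp_rw [indFun_normal_apply, map_mul, map_inv₀, Complex.conj_natCast, map_sum]
    rw [Finset.mul_sum]
    simp_rw [Finset.mul_sum]
    rw [Finset.sum_comm]
    apply Finset.sum_congr rfl
    intro x _
    apply Finset.sum_congr rfl
    intro h _
    ring
  rw [h1]
  have h2 : ∀ x : G, ∑ h : H, φ h * conj (conjFun H θ x h) = 0 := by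
    intro x
    have := irr_classInner_eq_zero hφ (isIrrCharacter_conjFun H hθ x) (hne x)
    rw [classInner_apply] at this
    have hH : (Nat.card H : ℂ) ≠ 0 := card_ne_zero_complex H
    rcases mul_eq_zero.mp this with h | h
    · exact absurd (inv_eq_zero.mp h) hH
    · exact h
  simp_rw [h2]
  simp

end Cfsg.Agent.Lib.helper3.Irr
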