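import Mathlib
import Cfsg.Prelude.Def_Characters
import Cfsg.Agent.Lib.helper3.Irr16

set_option autoImplicit false
set_option linter.style.haveILetI false
set_option linter.unusedSectionVars false

/-!
# Kernels of induced characters, inflation and induction
-/

namespace Cfsg.Agent.Lib.helper3.Irr

open Cfsg Module Cfsg.Agent.Lib.helper3.IndFun Cfsg.Agent.Lib.helper3.CharBasic
open Representation
open scoped ComplexConjugate

/-- If complex numbers of norm at most `c` sum to `card * c` then they are all equal to `c`. -/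
theorem forall_eq_of_sum_eq_card_mul {I : Type*} [Fintype I] (μ : I → ℂ) (c : ℝ)
    (h : ∀ i, ‖μ i‖ ≤ c) (hs : ∑ i, μ i = (Fintype.card I : ℂ) * (c : ℂ)) : ∀ i, μ i = c := by
  have hre : ∑ i, (c - (μ i).re) = 0 := by
    have := congrArg Complex.re hs
    rw [Complex.re_sum] at this
    simp only [Complex.mul_re, Complex.natCast_re, Complex.ofReal_re, Complex.natCast_im,
      Complex.ofReal_im, mul_zero, sub_zero] at this
    rw [Finset.sum_sub_distrib, this]
    simp
  have hle : ∀ i, (μ i).re ≤ c := fun i => le_trans (Complex.re_le_norm _) (h i)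
  have hnonneg : ∀ i ∈ Finset.univ, 0 ≤ c - (μ i).re := fun i _ => sub_nonneg.mpr (hle i)
  have hz := (Finset.sum_eq_zero_iff_of_nonneg hnonneg).mp hre
  intro i
  have hre_i : (μ i).re = c := by
    have := hz i (Finset.mem_univ i)
    linarith
  have hsq : (μ i).re ^ 2 + (μ i).im ^ 2 ≤ c ^ 2 := by
    have h1 := Complex.sq_norm (μ i)
    rw [Complex.normSq_apply] at h1
    have h2 : ‖μ i‖ ^ 2 ≤ c ^ 2 := by
      apply pow_le_pow_left₀ (norm_nonneg _) (h i)
    nlinarith [h1, h2]
  have him : (μ i).im = 0 := by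
    rw [hre_i] at hsq
    have : (μ i).im ^ 2 ≤ 0 := by linarith
    have h3 : (μ i).im ^ 2 = 0 := le_antisymm this (sq_nonneg _)
    exact pow_eq_zero_iff (two_ne_zero) |>.mp h3
  apply Complex.ext
  · simpa using hre_i
  · simpa using him

/-- A character is bounded by its degree, which is a natural number. -/
theorem exists_nat_bound {G : Type*} [Group G] [Finite G] {χ : G → ℂ} (hχ : IsCharacter G χ) :
    ∃ n : ℕ, χ 1 = n ∧ ∀ g, ‖χ g‖ ≤ (n : ℝ) := by
  obtain ⟨n, ρ, rfl⟩ := hχ
  refine ⟨finrank ℂ (Fin n → ℂ), Representation.char_one ρ, fun g => norm_character_le ρ g⟩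

variable {G : Type*} [Group G]

theorem indFun_normal_const_iff [Fintype G] (A H : Subgroup G) [hA : A.Normal] [hN : H.Normal]
    (hAH : A ≤ H) (θ : H → ℂ) (hθ : IsIrrCharacter H θ) :
    (∀ a : H, (a : G) ∈ A → θ a = θ 1) ↔ (∀ a : G, a ∈ A → indFun H θ a = indFun H θ 1) := by
  classical
  have hone : indFun H θ 1 = (Nat.card H : ℂ)⁻¹ * ∑ x : G, θ 1 := by
    have := indFun_normal_apply H θ 1
    rw [show ((1 : H) : G) = 1 from rfl] at this
    rw [this]
    congr 1
    apply Finset.sum_congr rfl
    intro x _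
    unfold conjFun
    congr 1
    apply Subtype.ext
    simp
  constructor
  · intro h a ha
    have := indFun_normal_apply H θ ⟨a, hAH ha⟩
    simp only at this
    rw [this, hone]
    congr 1
    apply Finset.sum_congr rfl
    intro x _
    unfold conjFun
    apply h
    exact hA.conj_mem a ha x
  · intro h a ha
    obtain ⟨n, hn1, hnb⟩ := exists_nat_bound (isCharacter_of_isIrrCharacter hθ)
    have h1 := h a ha
    have h2 := indFun_normal_apply H θ a
    rw [h2, hone] at h1
    have hH : (Nat.card H : ℂ) ≠ 0 := card_ne_zero_complex H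
    have h3 : ∑ x : G, conjFun H θ x a = ∑ x : G, θ 1 := mul_left_cancel₀ (inv_ne_zero hH) h1
    rw [Finset.sum_const, Finset.card_univ, nsmul_eq_mul, hn1] at h3
    have h4 := forall_eq_of_sum_eq_card_mul (fun x : G => conjFun H θ x a) (n : ℝ)
      (fun x => hnb _) (by simpa using h3)
    have h5 := h4 1
    simp only [conjFun_one] at h5
    rw [h5, hn1]
    simp

/-- Induction commutes with inflation from a quotient. -/
theorem indFun_map_mk [Fintype G] (A H : Subgroup G) [hA : A.Normal] (hAH : A ≤ H)
    [Fintype (G ⧸ A)] [Fintype ↥(H.map (QuotientGroup.mk' A))] (θ : H → ℂ)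
    (θ₁ : ↥(H.map (QuotientGroup.mk' A)) → ℂ)
    (hθ : ∀ x : H, θ₁ ⟨QuotientGroup.mk' A x, Subgroup.mem_map_of_mem _ x.2⟩ = θ x) (g : G) :
    indFun (H.map (QuotientGroup.mk' A)) θ₁ (QuotientGroup.mk' A g) = indFun H θ g := by
  classical
  rw [indFun_apply, indFun_apply]
  -- membership transfer
  have hmem : ∀ z : G, QuotientGroup.mk' A z ∈ H.map (QuotientGroup.mk' A) ↔ z ∈ H := by
    intro z
    constructor
    · rintro ⟨w, hw, hwz⟩
      have : w⁻¹ * z ∈ A := by
        rw [← QuotientGroup.eq]
        exact hwz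
      have hz : z = w * (w⁻¹ * z) := by group
      rw [hz]
      exact H.mul_mem hw (hAH this)
    · intro hz
      exact Subgroup.mem_map_of_mem _ hz
  have hext : ∀ z : G, extendByZero (H.map (QuotientGroup.mk' A)) θ₁ (QuotientGroup.mk' A z)
      = extendByZero H θ z := by
    intro z
    by_cases hz : z ∈ H
    · rw [extendByZero_mem H θ hz, extendByZero_mem _ θ₁ ((hmem z).mpr hz)]
      exact hθ ⟨z, hz⟩
    · rw [extendByZero_not_mem H θ hz, extendByZero_not_mem _ θ₁ (fun h => hz ((hmem z).mp h))]
  -- sum over the quotient via fibres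
  have hsum : ∑ x : G, extendByZero H θ (x⁻¹ * g * x)
      = (Nat.card A : ℂ) * ∑ y : G ⧸ A,
          extendByZero (H.map (QuotientGroup.mk' A)) θ₁ (y⁻¹ * QuotientGroup.mk' A g * y) := by
    have h1 : ∀ x : G, extendByZero H θ (x⁻¹ * g * x)
        = extendByZero (H.map (QuotientGroup.mk' A)) θ₁
            ((QuotientGroup.mk' A x)⁻¹ * QuotientGroup.mk' A g * QuotientGroup.mk' A x) := by
      intro x
      rw [← hext]
      simp
    simp_rw [h1]
    rw [← Finset.sum_fiberwise (s := Finset.univ) (g := fun x : G => QuotientGroup.mk' A x)]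
    rw [Finset.mul_sum]
    apply Finset.sum_congr rfl
    intro y _
    have h2 : ∀ x ∈ Finset.univ.filter (fun x : G => QuotientGroup.mk' A x = y),
        extendByZero (H.map (QuotientGroup.mk' A)) θ₁
            ((QuotientGroup.mk' A x)⁻¹ * QuotientGroup.mk' A g * QuotientGroup.mk' A x)
          = extendByZero (H.map (QuotientGroup.mk' A)) θ₁ (y⁻¹ * QuotientGroup.mk' A g * y) := by
      intro x hx
      rw [(Finset.mem_filter.mp hx).2]
    rw [Finset.sum_congr rfl h2, Finset.sum_const, nsmul_eq_mul]
    congr 2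
    -- fibre cardinality
    obtain ⟨y0, rfl⟩ := QuotientGroup.mk'_surjective A y
    rw [Nat.card_eq_fintype_card, ← Finset.card_univ]
    symm
    apply Finset.card_bij (fun (a : A) _ => y0 * a)
    · intro a _
      simp only [Finset.mem_filter, Finset.mem_univ, true_and]
      rw [map_mul]
      have : QuotientGroup.mk' A (a : G) = 1 := by
        rw [QuotientGroup.mk'_apply, QuotientGroup.eq_one_iff]
        exact a.2
      rw [this, mul_one]
    · intro a _ b _ hab
      exact Subtype.ext (mul_left_cancel hab)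
    · intro x hx
      simp only [Finset.mem_filter, Finset.mem_univ, true_and] at hx
      have : y0⁻¹ * x ∈ A := by
        rw [← QuotientGroup.eq]
        exact hx.symm
      exact ⟨⟨y0⁻¹ * x, this⟩, Finset.mem_univ _, by simp⟩
  rw [hsum]
  -- cardinality of the image subgroup
  have hcard : Nat.card H = Nat.card A * Nat.card (H.map (QuotientGroup.mk' A)) := by
    have h1 := Subgroup.card_mul_index (A.subgroupOf H)
    have h2 : Nat.card (A.subgroupOf H) = Nat.card A := by
      exact Nat.card_congr (Subgroup.subgroupOfEquivOfLe hAH).toEquiv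
    have h3 : (A.subgroupOf H).index = Nat.card (H.map (QuotientGroup.mk' A)) := by
      have e := QuotientGroup.quotientKerEquivRange ((QuotientGroup.mk' A).comp H.subtype)
      have hker : ((QuotientGroup.mk' A).comp H.subtype).ker = A.subgroupOf H := by
        ext x
        simp [MonoidHom.mem_ker, Subgroup.mem_subgroupOf]
      have hrange : ((QuotientGroup.mk' A).comp H.subtype).range = H.map (QuotientGroup.mk' A) := by
        rw [MonoidHom.range_comp, Subgroup.range_subtype]
      rw [Subgroup.index, ← hker, Nat.card_congr e.toEquiv, hrange]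
    rw [← h1, h2, h3]
  rw [hcard]
  have hA0 : (Nat.card A : ℂ) ≠ 0 := card_ne_zero_complex A
  have hM0 : (Nat.card (H.map (QuotientGroup.mk' A)) : ℂ) ≠ 0 := card_ne_zero_complex _
  push_cast
  field_simp

end Cfsg.Agent.Lib.helper3.Irr
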