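import Mathlib
import Cfsg.Prelude.Def_Characters
import Cfsg.Agent.Lib.helper3.Irr17

set_option autoImplicit false
set_option linter.style.haveILetI false
set_option linter.unusedSectionVars false

/-!
# Brauer's permutation lemma
-/

namespace Cfsg.Agent.Lib.helper3.Irr

open Cfsg Module Cfsg.Agent.Lib.helper3.IndFun Cfsg.Agent.Lib.helper3.CharBasic
open Representation
open scoped ComplexConjugate

variable {G : Type*} [Group G]

/-- Brauer's permutation lemma in abstract form. -/
theorem brauer_permutation [Finite G] (σ : IrrCharacter G → IrrCharacter G)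
    (τ : Equiv.Perm (ConjClasses G))
    (hcompat : ∀ (χ : IrrCharacter G) (g g' : G), ConjClasses.mk g' = τ (ConjClasses.mk g) →
      ((σ χ : IrrCharacter G) : G → ℂ) g' = (χ : G → ℂ) g) :
    Nat.card {χ : IrrCharacter G // σ χ = χ} = Nat.card {C : ConjClasses G // τ C = C} := by
  classical
  letI : Fintype G := Fintype.ofFinite G
  letI : Fintype (ConjClasses G) := Fintype.ofFinite _
  -- representatives of the preimage classes
  set r : G → G := fun g => Quotient.out (τ.symm (ConjClasses.mk g)) with hr
  have hr1 : ∀ g : G, τ (ConjClasses.mk (r g)) = ConjClasses.mk g := by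
    intro g
    have : ConjClasses.mk (r g) = τ.symm (ConjClasses.mk g) := Quotient.out_eq _
    rw [this, Equiv.apply_symm_apply]
  have hσ : ∀ (χ : IrrCharacter G) (g : G), ((σ χ : IrrCharacter G) : G → ℂ) g
      = (χ : G → ℂ) (r g) := by
    intro χ g
    exact hcompat χ (r g) g (hr1 g).symm
  have hconj_iff : ∀ g : G, IsConj g (r g) ↔ τ (ConjClasses.mk g) = ConjClasses.mk g := by
    intro g
    rw [← ConjClasses.mk_eq_mk_iff_isConj]
    constructor
    · intro h
      rw [h, hr1, ← h]
    · intro h
      have : ConjClasses.mk (r g) = τ.symm (ConjClasses.mk g) := Quotient.out_eq _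
      rw [this, Equiv.eq_symm_apply, h]
  -- count of fixed characters
  have hL : (Nat.card {χ : IrrCharacter G // σ χ = χ} : ℂ)
      = ∑ χ : IrrCharacter G, classInner (χ : G → ℂ) ((σ χ : IrrCharacter G) : G → ℂ) := by
    rw [Nat.card_eq_fintype_card, Fintype.card_subtype, Finset.card_filter]
    push_cast
    apply Finset.sum_congr rfl
    intro χ _
    rw [irr_classInner_eq χ.2 (σ χ).2]
    by_cases h : σ χ = χ
    · rw [if_pos h, if_pos (by rw [h])]
    · rw [if_neg h, if_neg (fun h' => h (Subtype.ext h'.symm))]
  have hR : ∑ χ : IrrCharacter G, classInner (χ : G → ℂ) ((σ χ : IrrCharacter G) : G → ℂ)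
      = (Nat.card G : ℂ)⁻¹ * ∑ g : G,
        (if τ (ConjClasses.mk g) = ConjClasses.mk g
          then (Nat.card (Subgroup.centralizer ({g} : Set G)) : ℂ) else 0) := by
    simp_rw [classInner_apply, ← Finset.mul_sum]
    congr 1
    rw [Finset.sum_comm]
    apply Finset.sum_congr rfl
    intro g _
    simp_rw [hσ]
    split_ifs with hc
    · exact (column_orthogonality g (r g)).1 ((hconj_iff g).mpr hc)
    · exact (column_orthogonality g (r g)).2 (fun h => hc ((hconj_iff g).mp h))
  have hS : ∑ g : G,
      (if τ (ConjClasses.mk g) = ConjClasses.mk g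
        then (Nat.card (Subgroup.centralizer ({g} : Set G)) : ℂ) else 0)
      = (Nat.card G : ℂ) * (Nat.card {C : ConjClasses G // τ C = C} : ℂ) := by
    rw [← Finset.sum_fiberwise Finset.univ (ConjClasses.mk : G → ConjClasses G)]
    have h2 : ∀ C : ConjClasses G,
        ∑ g ∈ Finset.univ.filter (fun g : G => ConjClasses.mk g = C),
          (if τ (ConjClasses.mk g) = ConjClasses.mk g
            then (Nat.card (Subgroup.centralizer ({g} : Set G)) : ℂ) else 0)
        = if τ C = C then (Nat.card G : ℂ) else 0 := by
      intro C
      split_ifs with hC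
      · rw [← sum_card_centralizer_of_class C]
        apply Finset.sum_congr rfl
        intro g hg
        simp only [Finset.mem_filter, Finset.mem_univ, true_and] at hg
        rw [hg, if_pos hC]
      · apply Finset.sum_eq_zero
        intro g hg
        simp only [Finset.mem_filter, Finset.mem_univ, true_and] at hg
        rw [hg, if_neg hC]
    rw [Finset.sum_congr rfl (fun C _ => h2 C)]
    rw [Finset.sum_ite, Finset.sum_const_zero, add_zero, Finset.sum_const, nsmul_eq_mul, mul_comm]
    congr 2
    rw [Nat.card_eq_fintype_card, Fintype.card_subtype]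
  have hG : (Nat.card G : ℂ) ≠ 0 := card_ne_zero_complex G
  have : (Nat.card {χ : IrrCharacter G // σ χ = χ} : ℂ)
      = (Nat.card {C : ConjClasses G // τ C = C} : ℂ) := by
    rw [hL, hR, hS]
    field_simp
  exact_mod_cast this

/-- The permutation of the conjugacy classes induced by an automorphism. -/
noncomputable def conjClassesPerm (α : G ≃* G) : Equiv.Perm (ConjClasses G) where
  toFun := ConjClasses.map α.toMonoidHom
  invFun := ConjClasses.map α.symm.toMonoidHom
  left_inv := by
    intro C
    obtain ⟨g, rfl⟩ := ConjClasses.mk_surjective C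
    show ConjClasses.mk (α.symm (α g)) = ConjClasses.mk g
    rw [MulEquiv.symm_apply_apply]
  right_inv := by
    intro C
    obtain ⟨g, rfl⟩ := ConjClasses.mk_surjective C
    show ConjClasses.mk (α (α.symm g)) = ConjClasses.mk g
    rw [MulEquiv.apply_symm_apply]

theorem conjClassesPerm_mk (α : G ≃* G) (g : G) :
    conjClassesPerm α (ConjClasses.mk g) = ConjClasses.mk (α g) := rfl

theorem conjClassesPerm_apply (α : G ≃* G) (C : ConjClasses G) :
    conjClassesPerm α C = ConjClasses.map α.toMonoidHom C := rfl

/-- Brauer's permutation lemma for an automorphism. -/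
theorem brauer_permutation_aut [Finite G] (α : G ≃* G) :
    Nat.card {C : ConjClasses G // ConjClasses.map α.toMonoidHom C = C}
      = Nat.card {χ : IrrCharacter G // (χ : G → ℂ) ∘ α = (χ : G → ℂ)} := by
  classical
  set σ : IrrCharacter G → IrrCharacter G :=
    fun χ => ⟨fun g => (χ : G → ℂ) (α.symm g), isIrrCharacter_comp_mulEquiv α.symm χ.2⟩ with hσ
  have key := brauer_permutation σ (conjClassesPerm α) (by
    intro χ g g' hgg'
    rw [conjClassesPerm_mk] at hgg'
    have hcf := isClassFunction_of_isCharacter (isCharacter_of_isIrrCharacter (σ χ).2)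
    have h1 := (isClassFunction_iff_isConj.mp hcf) g' (α g)
      (ConjClasses.mk_eq_mk_iff_isConj.mp hgg')
    rw [h1]
    simp [hσ])
  have h1 : Nat.card {C : ConjClasses G // ConjClasses.map α.toMonoidHom C = C}
      = Nat.card {C : ConjClasses G // conjClassesPerm α C = C} := rfl
  rw [h1, ← key]
  apply Nat.card_congr
  apply Equiv.subtypeEquivRight
  intro χ
  constructor
  · intro h
    funext g
    have := congrFun (congrArg Subtype.val h) (α g)
    simp only [hσ, MulEquiv.symm_apply_apply] at this
    rw [Function.comp_apply, this]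
  · intro h
    apply Subtype.ext
    funext g
    simp only [hσ]
    have := congrFun h (α.symm g)
    rw [Function.comp_apply, MulEquiv.apply_symm_apply] at this
    exact this.symm

end Cfsg.Agent.Lib.helper3.Irr
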