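import Mathlib
import Cfsg.Prelude.Def_Characters
import Cfsg.Agent.Lib.helper3.Brauer
import Cfsg.Agent.Lib.helper3.AlgInt

set_option autoImplicit false
set_option linter.style.haveILetI false
set_option linter.unusedSectionVars false

/-!
# Central characters and integrality
-/

namespace Cfsg.Agent.Lib.helper3.Central

open Cfsg Module Cfsg.Agent.Lib.helper3.IndFun Cfsg.Agent.Lib.helper3.CharBasic
open Cfsg.Agent.Lib.helper3.Irr
open scoped ComplexConjugate
open Classical

variable {G : Type*} [Group G] [Fintype G] {V : Type*} [AddCommGroup V] [Module ℂ V]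
  [FiniteDimensional ℂ V]

/-- Schur's lemma: an endomorphism commuting with an irreducible representation is a scalar. -/
theorem exists_eq_smul_id (ρ : Representation ℂ G V) [ρ.IsIrreducible] (T : V →ₗ[ℂ] V)
    (hT : ∀ g v, T (ρ g v) = ρ g (T v)) : ∃ c : ℂ, T = c • LinearMap.id := by
  obtain ⟨c, hc⟩ :=
    (Representation.IsIrreducible.algebraMap_intertwiningMap_bijective_of_isAlgClosed
      (ρ := ρ)).2 (LinearMap.intertwiningMap_of_isIntertwiningMap ρ ρ T hT)
  refine ⟨c, ?_⟩
  have := congrArg Representation.IntertwiningMap.toLinearMap hc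
  rw [Representation.IntertwiningMap.algebraMap_apply] at this
  have h2 : (LinearMap.intertwiningMap_of_isIntertwiningMap ρ ρ T hT).toLinearMap = T := rfl
  rw [h2] at this
  rw [← this]
  ext v
  simp

/-- The class sum operator. -/
noncomputable def classOp (ρ : Representation ℂ G V) (g : G) : V →ₗ[ℂ] V :=
  ∑ x ∈ Finset.univ.filter (fun x : G => IsConj g x), ρ x

theorem classOp_comm (ρ : Representation ℂ G V) (g h : G) :
    ρ h * classOp ρ g = classOp ρ g * ρ h := by
  unfold classOp
  rw [Finset.mul_sum, Finset.sum_mul]
  symm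
  apply Finset.sum_bij (fun x _ => h⁻¹ * x * h)
  · intro x hx
    simp only [Finset.mem_filter, Finset.mem_univ, true_and] at hx ⊢
    exact hx.trans (isConj_iff.mpr ⟨h⁻¹, by simp⟩)
  · intro x _ y _ hxy
    simpa using hxy
  · intro y hy
    simp only [Finset.mem_filter, Finset.mem_univ, true_and] at hy
    refine ⟨h * y * h⁻¹, ?_, by group⟩
    simp only [Finset.mem_filter, Finset.mem_univ, true_and]
    exact hy.trans (isConj_iff.mpr ⟨h, rfl⟩)
  · intro x _
    rw [← map_mul, ← map_mul]
    congr 1
    group

theorem trace_classOp (ρ : Representation ℂ G V) (g : G) :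
    LinearMap.trace ℂ V (classOp ρ g)
      = ((Finset.univ.filter (fun x : G => IsConj g x)).card : ℂ) * ρ.character g := by
  unfold classOp
  rw [map_sum]
  have : ∀ x ∈ Finset.univ.filter (fun x : G => IsConj g x),
      LinearMap.trace ℂ V (ρ x) = ρ.character g := by
    intro x hx
    simp only [Finset.mem_filter, Finset.mem_univ, true_and] at hx
    obtain ⟨c, hc⟩ := isConj_iff.mp hx
    rw [← hc]
    exact Representation.char_conj ρ g c
  rw [Finset.sum_congr rfl this, Finset.sum_const, nsmul_eq_mul]

theorem finrank_ne_zero_of_irreducible (ρ : Representation ℂ G V) [hirr : ρ.IsIrreducible] :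
    (finrank ℂ V : ℂ) ≠ 0 := by
  have hs : IsSimpleModule (MonoidAlgebra ℂ G) ρ.asModule := inferInstance
  have hnt : Nontrivial V := IsSimpleModule.nontrivial (MonoidAlgebra ℂ G) ρ.asModule
  have : 0 < finrank ℂ V := finrank_pos
  exact_mod_cast this.ne'

theorem nontrivial_of_irreducible (ρ : Representation ℂ G V) [hirr : ρ.IsIrreducible] :
    Nontrivial V := by
  have hs : IsSimpleModule (MonoidAlgebra ℂ G) ρ.asModule := inferInstance
  exact IsSimpleModule.nontrivial (MonoidAlgebra ℂ G) ρ.asModule

/-- The class sum acts as the scalar `|K| χ(g) / χ(1)`. -/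
theorem classOp_eq_smul (ρ : Representation ℂ G V) [ρ.IsIrreducible] (g : G) :
    classOp ρ g = (((Finset.univ.filter (fun x : G => IsConj g x)).card : ℂ) * ρ.character g
      / (finrank ℂ V : ℂ)) • LinearMap.id := by
  obtain ⟨c, hc⟩ := exists_eq_smul_id ρ (classOp ρ g) (by
    intro h v
    have := congrArg (fun f : V →ₗ[ℂ] V => f v) (classOp_comm ρ g h)
    simp only [Module.End.mul_apply] at this
    exact this.symm)
  have htr := trace_classOp ρ g
  rw [hc, map_smul, LinearMap.trace_id, smul_eq_mul] at htr
  have hV := finrank_ne_zero_of_irreducible ρ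
  rw [hc]
  congr 1
  field_simp
  exact htr

/-- The class sum operator is integral over `ℤ`. -/
theorem isIntegral_classOp (ρ : Representation ℂ G V) (g : G) :
    IsIntegral ℤ (classOp ρ g) := by
  haveI : Module.Finite ℤ (MonoidAlgebra ℤ G) := Module.Finite.of_basis (MonoidAlgebra.basis G ℤ)
  have h : classOp ρ g = MonoidAlgebra.lift ℤ (Module.End ℂ V) G ρ
      (∑ x ∈ Finset.univ.filter (fun x : G => IsConj g x), MonoidAlgebra.of ℤ G x) := by
    rw [map_sum]
    unfold classOp
    apply Finset.sum_congr rfl
    intro x _
    rw [MonoidAlgebra.lift_of]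
  rw [h]
  exact (IsIntegral.of_finite ℤ _).map _

/-- `|K| χ(g) / χ(1)` is an algebraic integer. -/
theorem isIntegral_central_value (ρ : Representation ℂ G V) [ρ.IsIrreducible] (g : G) :
    IsIntegral ℤ (((Finset.univ.filter (fun x : G => IsConj g x)).card : ℂ) * ρ.character g
      / (finrank ℂ V : ℂ)) := by
  have h1 := isIntegral_classOp ρ g
  rw [classOp_eq_smul ρ g] at h1
  haveI := nontrivial_of_irreducible ρ
  set c := ((Finset.univ.filter (fun x : G => IsConj g x)).card : ℂ) * ρ.character g
      / (finrank ℂ V : ℂ) with hc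
  have h2 : c • (LinearMap.id : V →ₗ[ℂ] V) = algebraMap ℂ (Module.End ℂ V) c := by
    rw [Algebra.algebraMap_eq_smul_one]
    rfl
  rw [h2] at h1
  exact (isIntegral_algebraMap_iff (algebraMap ℂ (Module.End ℂ V)).injective).mp h1

theorem card_class_eq_index (g : G) :
    (Finset.univ.filter (fun x : G => IsConj g x)).card
      = (Subgroup.centralizer ({g} : Set G)).index := by
  have h1 : (Subgroup.centralizer ({g} : Set G)).index
      = (MulAction.stabilizer (ConjAct G) g).index := by
    rw [Subgroup.centralizer_eq_comap_stabilizer]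
    exact Subgroup.index_comap_of_surjective _ (ConjAct.toConjAct (G := G)).surjective
  rw [h1, MulAction.index_stabilizer, ConjAct.orbit_eq_carrier_conjClasses]
  rw [← Set.ncard_coe_finset]
  congr 1
  ext x
  rw [ConjClasses.mem_carrier_iff_mk_eq, ConjClasses.mk_eq_mk_iff_isConj]
  simp only [Finset.coe_filter, Finset.mem_univ, true_and, Set.mem_ofPred_eq]
  exact isConj_comm

/-- `[G : C(g)] χ(g) / χ(1)` is an algebraic integer. -/
theorem isIntegral_index_mul_character_div (ρ : Representation ℂ G V) [ρ.IsIrreducible] (g : G) :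
    IsIntegral ℤ (((Subgroup.centralizer ({g} : Set G)).index : ℂ) * ρ.character g
      / (finrank ℂ V : ℂ)) := by
  rw [← card_class_eq_index]
  exact isIntegral_central_value ρ g

/-- The degree of an irreducible representation divides the group order. -/
theorem finrank_dvd_card (ρ : Representation ℂ G V) [ρ.IsIrreducible] :
    finrank ℂ V ∣ Nat.card G := by
  have hV := finrank_ne_zero_of_irreducible ρ
  have hnorm : classInner ρ.character ρ.character = 1 := classInner_character_self ρ
  rw [classInner_apply] at hnorm
  have hG : (Nat.card G : ℂ) ≠ 0 := card_ne_zero_complex G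
  have hsum : ∑ g : G, ρ.character g * conj (ρ.character g) = (Nat.card G : ℂ) := by
    field_simp at hnorm
    exact hnorm
  -- group the sum by conjugacy classes
  have hint : IsIntegral ℤ ((Nat.card G : ℂ) / (finrank ℂ V : ℂ)) := by
    rw [← hsum, Finset.sum_div,
      ← Finset.sum_fiberwise Finset.univ (ConjClasses.mk : G → ConjClasses G)]
    apply IsIntegral.sum
    intro C _
    obtain ⟨g, rfl⟩ := ConjClasses.mk_surjective C
    have h1 : ∀ x ∈ Finset.univ.filter (fun x : G => ConjClasses.mk x = ConjClasses.mk g),
        ρ.character x * conj (ρ.character x) / (finrank ℂ V : ℂ)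
          = ρ.character g * conj (ρ.character g) / (finrank ℂ V : ℂ) := by
      intro x hx
      simp only [Finset.mem_filter, Finset.mem_univ, true_and] at hx
      obtain ⟨c, hc⟩ := isConj_iff.mp (ConjClasses.mk_eq_mk_iff_isConj.mp hx)
      rw [← hc, Representation.char_conj]
    rw [Finset.sum_congr rfl h1, Finset.sum_const, nsmul_eq_mul]
    have h2 : (Finset.univ.filter (fun x : G => ConjClasses.mk x = ConjClasses.mk g))
        = Finset.univ.filter (fun x : G => IsConj g x) := by
      ext x
      simp only [Finset.mem_filter, Finset.mem_univ, true_and]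
      rw [ConjClasses.mk_eq_mk_iff_isConj]
      exact isConj_comm
    rw [h2]
    have h3 := (isIntegral_central_value ρ g).mul
      (show IsIntegral ℤ (conj (ρ.character g)) by
        rw [← character_inv]
        exact isIntegral_character ρ g⁻¹)
    convert h3 using 1
    ring
  have := Cfsg.Agent.Lib.helper3.AlgInt.int_dvd_of_eq_mul_isIntegral
    (a := (Nat.card G : ℤ)) (b := (finrank ℂ V : ℤ)) hint (by
      push_cast
      field_simp) (by
      have : finrank ℂ V ≠ 0 := by
        intro h
        apply hV
        rw [h]; simp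
      exact_mod_cast this)
  exact_mod_cast this

end Cfsg.Agent.Lib.helper3.Central
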