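import Mathlib
import Cfsg.Prelude.Def_Characters
import Cfsg.Agent.Lib.helper3.Central

set_option autoImplicit false
set_option linter.style.haveILetI false
set_option linter.unusedSectionVars false

/-!
# Averages of roots of unity which are algebraic integers, and Burnside's vanishing lemma
-/

namespace Cfsg.Agent.Lib.helper3.Central

open Cfsg Module Cfsg.Agent.Lib.helper3.IndFun Cfsg.Agent.Lib.helper3.CharBasic
open Cfsg.Agent.Lib.helper3.Irr
open scoped ComplexConjugate

theorem prod_eq_one_imp {J : Type*} [Fintype J] (x : J → ℝ) (h0 : ∀ j, 0 ≤ x j) (h1 : ∀ j, x j ≤ 1)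
    (hp : ∏ j, x j = 1) (j : J) : x j = 1 := by
  classical
  apply le_antisymm (h1 j)
  rw [← Finset.mul_prod_erase Finset.univ x (Finset.mem_univ j)] at hp
  have h2 : ∏ i ∈ Finset.univ.erase j, x i ≤ 1 :=
    Finset.prod_le_one (fun i _ => h0 i) (fun i _ => h1 i)
  have h3 : 0 ≤ ∏ i ∈ Finset.univ.erase j, x i := Finset.prod_nonneg (fun i _ => h0 i)
  nlinarith [h0 j, h1 j]

theorem avg_roots_of_unity {I : Type*} [Fintype I] [Nonempty I] (μ : I → ℂ) (n : ℕ) (hn : 0 < n)
    (hμ : ∀ i, μ i ^ n = 1) (hint : IsIntegral ℤ ((∑ i, μ i) / (Fintype.card I : ℂ))) :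
    (∑ i, μ i) = 0 ∨ ‖∑ i, μ i‖ = Fintype.card I := by
  classical
  haveI : NeZero n := ⟨hn.ne'⟩
  let K := CyclotomicField n ℚ
  haveI : IsCyclotomicExtension {n} ℚ K := CyclotomicField.isCyclotomicExtension n ℚ
  haveI : IsGalois ℚ K := IsCyclotomicExtension.isGalois {n} ℚ K
  haveI : FiniteDimensional ℚ K := IsCyclotomicExtension.finiteDimensional {n} ℚ K
  have hζ := IsCyclotomicExtension.zeta_spec n ℚ K
  set ζ := IsCyclotomicExtension.zeta n ℚ K with hζdef
  -- an embedding into ℂ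
  let φ : K →ₐ[ℚ] ℂ := IsAlgClosed.lift
  have hφinj : Function.Injective φ := φ.toRingHom.injective
  have hζ' : IsPrimitiveRoot (φ ζ) n := hζ.map_of_injective hφinj
  -- exponents
  have hk : ∀ i, ∃ k : ℕ, μ i = φ (ζ ^ k) := by
    intro i
    obtain ⟨k, -, hk⟩ := hζ'.eq_pow_of_pow_eq_one (hμ i)
    exact ⟨k, by rw [map_pow, hk]⟩
  choose k hk using hk
  set d : ℕ := Fintype.card I with hd
  have hdpos : 0 < d := Fintype.card_pos
  have hd0 : (d : ℂ) ≠ 0 := by
    exact_mod_cast hdpos.ne'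
  set a : K := (∑ i, ζ ^ k i) / (d : K) with ha
  have hφa : φ a = (∑ i, μ i) / (d : ℂ) := by
    rw [ha, map_div₀, map_sum, map_natCast]
    congr 1
    exact Finset.sum_congr rfl (fun i _ => (hk i).symm)
  have haint : IsIntegral ℤ a := by
    rw [← hφa] at hint
    exact (isIntegral_algHom_iff (φ.restrictScalars ℤ) hφinj).mp hint
  have hN : IsIntegral ℤ (Algebra.norm ℚ a) := Algebra.isIntegral_norm ℚ haint
  obtain ⟨m, hm⟩ := IsIntegrallyClosed.isIntegral_iff.mp hN
  have hprod := Algebra.norm_eq_prod_automorphisms ℚ a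
  have hprod' : (m : ℂ) = ∏ σ : K ≃ₐ[ℚ] K, φ (σ a) := by
    have := congrArg φ hprod
    rw [map_prod, ← hm] at this
    rw [← this]
    simp
  -- the bound
  have hbound : ∀ σ : K ≃ₐ[ℚ] K, ‖φ (σ a)‖ ≤ 1 := by
    intro σ
    have h1 : φ (σ a) = (∑ i, φ (σ (ζ ^ k i))) / (d : ℂ) := by
      rw [ha, map_div₀, map_div₀, map_sum, map_sum, map_natCast, map_natCast]
    rw [h1, norm_div, Complex.norm_natCast]
    rw [div_le_one (by exact_mod_cast hdpos)]
    calc ‖∑ i, φ (σ (ζ ^ k i))‖ ≤ ∑ i, ‖φ (σ (ζ ^ k i))‖ := norm_sum_le _ _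
      _ = ∑ _i : I, (1 : ℝ) := by
          apply Finset.sum_congr rfl
          intro i _
          apply Complex.norm_eq_one_of_pow_eq_one (n := n) _ hn.ne'
          rw [← map_pow, ← map_pow, ← pow_mul, mul_comm, pow_mul, hζ.pow_eq_one, one_pow,
            map_one, map_one]
      _ = (d : ℝ) := by simp [hd]
  have hmabs : |(m : ℝ)| ≤ 1 := by
    have h1 : ‖(m : ℂ)‖ = ∏ σ : K ≃ₐ[ℚ] K, ‖φ (σ a)‖ := by
      rw [hprod', norm_prod]
    have h2 : ‖(m : ℂ)‖ = |(m : ℝ)| := by
      rw [← Complex.ofReal_intCast, Complex.norm_real, Real.norm_eq_abs]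
    rw [← h2, h1]
    exact Finset.prod_le_one (fun σ _ => norm_nonneg _) (fun σ _ => hbound σ)
  have hm3 : m = 0 ∨ |m| = 1 := by
    have : |m| ≤ 1 := by exact_mod_cast hmabs
    rcases (abs_nonneg m).lt_or_eq' with h | h
    · right; omega
    · left; exact abs_eq_zero.mp h
  rcases hm3 with h0 | h1
  · left
    have hna : Algebra.norm ℚ a = 0 := by rw [← hm, h0]; simp
    have ha0 : a = 0 := Algebra.norm_eq_zero_iff.mp hna
    have := hφa
    rw [ha0, map_zero] at this
    have h2 := this.symm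
    rw [div_eq_zero_iff] at h2
    rcases h2 with h2 | h2
    · exact h2
    · exact absurd h2 hd0
  · right
    have hp1 : ∏ σ : K ≃ₐ[ℚ] K, ‖φ (σ a)‖ = 1 := by
      rw [← norm_prod, ← hprod']
      rw [← Complex.ofReal_intCast, Complex.norm_real, Real.norm_eq_abs]
      exact_mod_cast h1
    have h3 := prod_eq_one_imp (fun σ : K ≃ₐ[ℚ] K => ‖φ (σ a)‖) (fun σ => norm_nonneg _) hbound
      hp1 1
    simp only [AlgEquiv.one_apply] at h3
    rw [hφa, norm_div, Complex.norm_natCast, div_eq_one_iff_eq (by exact_mod_cast hdpos.ne')] at h3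
    exact h3

/-- If `χ(g)/χ(1)` is an algebraic integer then `χ(g) = 0` or `|χ(g)| = χ(1)`. -/
theorem character_eq_zero_or_norm_eq {G : Type*} [Group G] [Finite G] {V : Type*} [AddCommGroup V]
    [Module ℂ V] [FiniteDimensional ℂ V] (ρ : Representation ℂ G V) (g : G)
    (hint : IsIntegral ℤ (ρ.character g / (finrank ℂ V : ℂ))) :
    ρ.character g = 0 ∨ ‖ρ.character g‖ = (finrank ℂ V : ℝ) := by
  obtain ⟨I, _, v, μ, hf, hμ⟩ := exists_eigenbasis ρ g
  rw [character_eq_sum_of_eigenbasis ρ g v μ hf, ← card_eq_finrank_of_basis v] at hint ⊢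
  by_cases hI : Nonempty I
  · exact avg_roots_of_unity μ (orderOf g) (orderOf_pos g) hμ hint
  · left
    rw [not_nonempty_iff] at hI
    simp

/-- Burnside: coprime degree and class size. -/
theorem character_eq_zero_or_norm_eq_of_coprime {G : Type*} [Group G] [Fintype G] {V : Type*}
    [AddCommGroup V] [Module ℂ V] [FiniteDimensional ℂ V] (ρ : Representation ℂ G V)
    [ρ.IsIrreducible] (g : G)
    (hcop : Nat.Coprime (finrank ℂ V) (Subgroup.centralizer ({g} : Set G)).index) :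
    ρ.character g = 0 ∨ ‖ρ.character g‖ = (finrank ℂ V : ℝ) := by
  apply character_eq_zero_or_norm_eq
  have hV := finrank_ne_zero_of_irreducible ρ
  have h1 := isIntegral_index_mul_character_div ρ g
  have h2 := isIntegral_character ρ g
  set d := finrank ℂ V with hd
  set c := (Subgroup.centralizer ({g} : Set G)).index with hc
  have hbez : (1 : ℤ) = (d : ℤ) * Nat.gcdA d c + (c : ℤ) * Nat.gcdB d c := by
    have := Nat.gcd_eq_gcd_ab d c
    rw [hcop] at this
    exact_mod_cast this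
  have hbezC : (1 : ℂ) = (d : ℂ) * (Nat.gcdA d c : ℂ) + (c : ℂ) * (Nat.gcdB d c : ℂ) := by
    exact_mod_cast hbez
  have : ρ.character g / (d : ℂ) = (Nat.gcdA d c : ℂ) * ρ.character g
      + (Nat.gcdB d c : ℂ) * ((c : ℂ) * ρ.character g / (d : ℂ)) := by
    field_simp
    linear_combination (ρ.character g) * hbezC
  rw [this]
  exact (IsIntegral.mul (isIntegral_algebraMap (R := ℤ) (x := Nat.gcdA d c)) h2).add
    (IsIntegral.mul (isIntegral_algebraMap (R := ℤ) (x := Nat.gcdB d c)) h1)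

end Cfsg.Agent.Lib.helper3.Central
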