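import Mathlib
import Cfsg.Prelude.Def_Characters
import Cfsg.Agent.Lib.helper3.CharBasic

set_option autoImplicit false
set_option linter.style.haveILetI false
set_option linter.unusedSectionVars false

/-!
# Extremal character values: kernel and centre of a character
-/

namespace Cfsg.Agent.Lib.helper3.CharBasic

open Cfsg Module
open scoped ComplexConjugate

variable {G : Type*} [Group G] {V : Type*} [AddCommGroup V] [Module ℂ V] [FiniteDimensional ℂ V]

theorem eq_one_of_norm_eq_one_of_re_eq_one {z : ℂ} (h : ‖z‖ = 1) (hre : z.re = 1) : z = 1 := by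
  have h2 : z.re ^ 2 + z.im ^ 2 = 1 := by
    have := Complex.sq_norm z
    rw [h, Complex.normSq_apply] at this
    nlinarith [this]
  have him : z.im = 0 := by
    rw [hre] at h2
    have : z.im ^ 2 = 0 := by linarith
    exact pow_eq_zero_iff (two_ne_zero) |>.mp this
  apply Complex.ext
  · simpa using hre
  · simpa using him

/-- If unit complex numbers sum to their count, they are all `1`. -/
theorem forall_eq_one_of_sum_eq_card {I : Type*} [Fintype I] (μ : I → ℂ) (h : ∀ i, ‖μ i‖ = 1)
    (hs : ∑ i, μ i = (Fintype.card I : ℂ)) : ∀ i, μ i = 1 := by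
  have hre : ∑ i, (1 - (μ i).re) = 0 := by
    have := congrArg Complex.re hs
    rw [Complex.re_sum] at this
    simp only [Complex.natCast_re] at this
    rw [Finset.sum_sub_distrib, this]
    simp
  have hnonneg : ∀ i ∈ Finset.univ, 0 ≤ 1 - (μ i).re := by
    intro i _
    have := Complex.re_le_norm (μ i)
    rw [h i] at this
    linarith
  have hall := (Finset.sum_eq_zero_iff_of_nonneg hnonneg).mp hre
  intro i
  apply eq_one_of_norm_eq_one_of_re_eq_one (h i)
  have := hall i (Finset.mem_univ i)
  linarith

/-- If unit complex numbers have a sum of norm equal to their count, they are all equal. -/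
theorem exists_forall_eq_of_norm_sum_eq_card {I : Type*} [Fintype I] (μ : I → ℂ)
    (h : ∀ i, ‖μ i‖ = 1) (hs : ‖∑ i, μ i‖ = (Fintype.card I : ℝ)) :
    ∃ ω : ℂ, ‖ω‖ = 1 ∧ ∀ i, μ i = ω := by
  by_cases hI : IsEmpty I
  · exact ⟨1, by simp, fun i => (hI.false i).elim⟩
  rw [not_isEmpty_iff] at hI
  set s := ∑ i, μ i with hsdef
  set n : ℝ := (Fintype.card I : ℝ) with hn
  have hnpos : 0 < n := by
    rw [hn]
    exact_mod_cast Fintype.card_pos
  have hs0 : s ≠ 0 := by
    intro h0
    rw [h0, norm_zero] at hs
    linarith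
  set w : ℂ := conj s / (n : ℂ) with hw
  have hwnorm : ‖w‖ = 1 := by
    rw [hw, norm_div, Complex.norm_conj, hs, Complex.norm_real, Real.norm_of_nonneg hnpos.le]
    exact div_self hnpos.ne'
  have key := forall_eq_one_of_sum_eq_card (fun i => μ i * w)
    (fun i => by rw [norm_mul, h i, hwnorm, one_mul]) (by
      rw [← Finset.sum_mul, ← hsdef, hw]
      have : s * conj s = ((n : ℂ)) ^ 2 := by
        rw [Complex.mul_conj, Complex.normSq_eq_norm_sq, hs]
        push_cast
        rfl
      rw [mul_div_assoc', this]
      have hn0 : (n : ℂ) ≠ 0 := by exact_mod_cast hnpos.ne'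
      field_simp
      rw [hn]
      push_cast
      rfl)
  have hw0 : w ≠ 0 := by
    intro h0
    rw [h0, norm_zero] at hwnorm
    exact zero_ne_one hwnorm
  refine ⟨w⁻¹, by rw [norm_inv, hwnorm, inv_one], fun i => ?_⟩
  have := key i
  field_simp
  exact this

/-- `χ(g) = χ(1)` iff `ρ g = id`. -/
theorem character_eq_finrank_iff [Finite G] (ρ : Representation ℂ G V) (g : G) :
    ρ.character g = (finrank ℂ V : ℂ) ↔ ρ g = LinearMap.id := by
  constructor
  · intro h
    obtain ⟨I, _, v, μ, hf, hμ⟩ := exists_eigenbasis ρ g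
    rw [character_eq_sum_of_eigenbasis ρ g v μ hf, ← card_eq_finrank_of_basis v] at h
    have h1 := forall_eq_one_of_sum_eq_card μ
      (fun i => norm_eq_one_of_pow_eq_one (orderOf_pos g) (hμ i)) h
    apply v.ext
    intro i
    rw [hf, h1, one_smul, LinearMap.id_apply]
  · intro h
    unfold Representation.character
    rw [h]
    exact LinearMap.trace_id ℂ V

/-- `‖χ(g)‖ = χ(1)` iff `ρ g` is a scalar. -/
theorem norm_character_eq_finrank_iff [Finite G] (ρ : Representation ℂ G V) (g : G) :
    ‖ρ.character g‖ = (finrank ℂ V : ℝ) ↔ ∃ ω : ℂ, ρ g = ω • (LinearMap.id : V →ₗ[ℂ] V) := by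
  constructor
  · intro h
    obtain ⟨I, _, v, μ, hf, hμ⟩ := exists_eigenbasis ρ g
    rw [character_eq_sum_of_eigenbasis ρ g v μ hf, ← card_eq_finrank_of_basis v] at h
    obtain ⟨ω, _, hω⟩ := exists_forall_eq_of_norm_sum_eq_card μ
      (fun i => norm_eq_one_of_pow_eq_one (orderOf_pos g) (hμ i)) h
    refine ⟨ω, ?_⟩
    apply v.ext
    intro i
    rw [hf, hω, LinearMap.smul_apply, LinearMap.id_apply]
  · rintro ⟨ω, hω⟩
    by_cases hV : finrank ℂ V = 0
    · unfold Representation.character
      rw [hω, map_smul, LinearMap.trace_id, hV]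
      simp
    · have hnt : Nontrivial V := Module.nontrivial_of_finrank_pos (Nat.pos_of_ne_zero hV)
      obtain ⟨x, hx⟩ := exists_ne (0 : V)
      have hpow : (ρ g) ^ orderOf g = 1 := by
        rw [← map_pow, pow_orderOf_eq_one, map_one]
      have hωpow : ω ^ orderOf g = 1 := by
        have h1 : ((ρ g) ^ orderOf g) x = ω ^ orderOf g • x := by
          rw [hω]
          have : ∀ k : ℕ, ((ω • (LinearMap.id : V →ₗ[ℂ] V)) ^ k) x = ω ^ k • x := by
            intro k
            induction k with
            | zero => simp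
            | succ k ih =>
              rw [pow_succ', Module.End.mul_apply, ih, map_smul, LinearMap.smul_apply,
                LinearMap.id_apply, smul_smul, pow_succ]
          exact this _
        rw [hpow, Module.End.one_apply] at h1
        have : (ω ^ orderOf g - 1) • x = 0 := by rw [sub_smul, one_smul, ← h1, sub_self]
        rcases smul_eq_zero.mp this with h | h
        · exact sub_eq_zero.mp h
        · exact absurd h hx
      unfold Representation.character
      rw [hω, map_smul, LinearMap.trace_id, smul_eq_mul, norm_mul,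
        norm_eq_one_of_pow_eq_one (orderOf_pos g) hωpow, one_mul]
      simp

end Cfsg.Agent.Lib.helper3.CharBasic
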