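import Mathlib
import Cfsg.Prelude.Def_Characters
import Cfsg.Agent.Lib.helper3.Irr17
import Cfsg.Agent.Lib.helper3.AlgInt

set_option autoImplicit false
set_option linter.style.haveILetI false
set_option linter.unusedSectionVars false

/-!
# Linear characters
-/

namespace Cfsg.Agent.Lib.helper3.Lin

open Cfsg Module Cfsg.Agent.Lib.helper3.IndFun Cfsg.Agent.Lib.helper3.CharBasic
open Cfsg.Agent.Lib.helper3.Irr
open Representation
open scoped ComplexConjugate

theorem trace_mul_fin_one (f g : (Fin 1 → ℂ) →ₗ[ℂ] (Fin 1 → ℂ)) :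
    LinearMap.trace ℂ _ (f * g) = LinearMap.trace ℂ _ f * LinearMap.trace ℂ _ g := by
  rw [LinearMap.trace_eq_matrix_trace ℂ (Pi.basisFun ℂ (Fin 1)),
    LinearMap.trace_eq_matrix_trace ℂ (Pi.basisFun ℂ (Fin 1)) f,
    LinearMap.trace_eq_matrix_trace ℂ (Pi.basisFun ℂ (Fin 1)) g, LinearMap.toMatrix_mul]
  simp [Matrix.trace_fin_one, Matrix.mul_apply]

variable {G : Type*} [Group G]

/-- A character of degree one is multiplicative. -/
theorem map_mul_of_apply_one_eq_one {χ : G → ℂ} (hχ : IsCharacter G χ) (h1 : χ 1 = 1) (a b : G) :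
    χ (a * b) = χ a * χ b := by
  obtain ⟨n, ρ, rfl⟩ := hχ
  rw [Representation.char_one] at h1
  have hn : n = 1 := by
    simp only [finrank_fintype_fun_eq_card, Fintype.card_fin] at h1
    exact_mod_cast h1
  subst hn
  simp only [Representation.character, map_mul]
  exact trace_mul_fin_one _ _

theorem isIntegral_of_isCharacter [Finite G] {χ : G → ℂ} (hχ : IsCharacter G χ) (g : G) :
    IsIntegral ℤ (χ g) := by
  obtain ⟨n, ρ, rfl⟩ := hχ
  exact isIntegral_character ρ g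

theorem isIntegral_of_isGeneralizedCharacter [Finite G] {χ : G → ℂ}
    (hχ : IsGeneralizedCharacter G χ) (g : G) : IsIntegral ℤ (χ g) := by
  obtain ⟨χ₁, χ₂, h₁, h₂, rfl⟩ := hχ
  exact (isIntegral_of_isCharacter h₁ g).sub (isIntegral_of_isCharacter h₂ g)

/-- A linear character as a monoid homomorphism. -/
noncomputable def toHom {χ : G → ℂ} (hχ : IsCharacter G χ) (h1 : χ 1 = 1) : G →* ℂ where
  toFun := χ
  map_one' := h1
  map_mul' := map_mul_of_apply_one_eq_one hχ h1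

theorem toHom_apply {χ : G → ℂ} (hχ : IsCharacter G χ) (h1 : χ 1 = 1) (g : G) :
    toHom hχ h1 g = χ g := rfl

theorem pow_eq_one_of_linear {χ : G → ℂ} (hχ : IsCharacter G χ) (h1 : χ 1 = 1) (g : G) (k : ℕ)
    (hk : g ^ k = 1) : χ g ^ k = 1 := by
  rw [← toHom_apply hχ h1, ← map_pow, hk, map_one]

/-- The congruence `χ(xy) ≡ χ(y) mod (1 - ε)` for `x` of order `p` commuting with `y`. -/
theorem exists_isIntegral_sub_eq [Finite G] {χ : G → ℂ} (hχ : IsCharacter G χ) (p : ℕ)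
    (hp : p.Prime) (ε : ℂ) (hε : IsPrimitiveRoot ε p) (x y : G) (hx : x ^ p = 1)
    (hxy : x * y = y * x) :
    ∃ ω : ℂ, IsIntegral ℤ ω ∧ χ (x * y) - χ y = (1 - ε) * ω := by
  classical
  haveI : NeZero p := ⟨hp.ne_zero⟩
  have hεint : IsIntegral ℤ ε := hε.isIntegral hp.pos
  -- the abelian subgroup generated by `x` and `y`
  have hcomm : ∀ a ∈ ({x, y} : Set G), ∀ b ∈ ({x, y} : Set G), a * b = b * a := by
    intro a ha b hb
    rcases ha with rfl | rfl <;> rcases hb with rfl | rfl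
    · rfl
    · exact hxy
    · exact hxy.symm
    · rfl
  let A : Subgroup G := Subgroup.closure {x, y}
  have hA : ∀ a b : A, a * b = b * a :=
    fun a b => (Subgroup.isMulCommutative_closure hcomm).is_comm.comm a b
  have hxA : x ∈ A := Subgroup.subset_closure (by simp)
  have hyA : y ∈ A := Subgroup.subset_closure (by simp)
  have hres := isCharacter_restrict hχ A
  letI : Fintype A := Fintype.ofFinite A
  obtain ⟨m, hm⟩ := exists_decomposition_of_isCharacter hres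
  -- each linear constituent
  have hlin : ∀ ψ : IrrCharacter A, ∃ ω : ℂ, IsIntegral ℤ ω ∧
      (ψ : A → ℂ) (⟨x, hxA⟩ * ⟨y, hyA⟩) - (ψ : A → ℂ) ⟨y, hyA⟩ = (1 - ε) * ω := by
    intro ψ
    have hψc := isCharacter_of_isIrrCharacter ψ.2
    have hψ1 : (ψ : A → ℂ) 1 = 1 := apply_one_eq_one_of_comm hA ψ.2
    have hpow : (ψ : A → ℂ) ⟨x, hxA⟩ ^ p = 1 := by
      apply pow_eq_one_of_linear hψc hψ1
      apply Subtype.ext
      simpa using hx
    obtain ⟨i, -, hi⟩ := hε.eq_pow_of_pow_eq_one hpow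
    refine ⟨-(∑ j ∈ Finset.range i, ε ^ j) * (ψ : A → ℂ) ⟨y, hyA⟩, ?_, ?_⟩
    · apply IsIntegral.mul
      · apply IsIntegral.neg
        apply IsIntegral.sum
        intro j _
        exact hεint.pow j
      · exact isIntegral_of_isCharacter hψc _
    · rw [map_mul_of_apply_one_eq_one hψc hψ1, ← hi]
      have := mul_neg_geom_sum ε i
      linear_combination ((ψ : A → ℂ) ⟨y, hyA⟩) * this
  choose w hw1 hw2 using hlin
  refine ⟨∑ ψ : IrrCharacter A, (m ψ : ℂ) * w ψ, ?_, ?_⟩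
  · apply IsIntegral.sum
    intro ψ _
    apply IsIntegral.mul _ (hw1 ψ)
    exact isIntegral_natCast _
  · have h1 := congrFun hm (⟨x, hxA⟩ * ⟨y, hyA⟩)
    have h2 := congrFun hm ⟨y, hyA⟩
    simp only [Subgroup.coe_mul, Finset.sum_apply, Pi.smul_apply, smul_eq_mul] at h1 h2
    rw [h1, h2, ← Finset.sum_sub_distrib, Finset.mul_sum]
    apply Finset.sum_congr rfl
    intro ψ _
    rw [← mul_sub, hw2 ψ]
    ring

theorem exists_isIntegral_sub_eq_of_generalized [Finite G] {χ : G → ℂ}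
    (hχ : IsGeneralizedCharacter G χ) (p : ℕ)
    (hp : p.Prime) (ε : ℂ) (hε : IsPrimitiveRoot ε p) (x y : G) (hx : x ^ p = 1)
    (hxy : x * y = y * x) :
    ∃ ω : ℂ, IsIntegral ℤ ω ∧ χ (x * y) - χ y = (1 - ε) * ω := by
  obtain ⟨χ₁, χ₂, h₁, h₂, rfl⟩ := hχ
  obtain ⟨ω₁, hω₁, e₁⟩ := exists_isIntegral_sub_eq h₁ p hp ε hε x y hx hxy
  obtain ⟨ω₂, hω₂, e₂⟩ := exists_isIntegral_sub_eq h₂ p hp ε hε x y hx hxy
  refine ⟨ω₁ - ω₂, hω₁.sub hω₂, ?_⟩
  simp only [Pi.sub_apply]
  linear_combination e₁ - e₂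

end Cfsg.Agent.Lib.helper3.Lin
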