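import Mathlib
import Cfsg.Prelude.Def_Characters
import Cfsg.Agent.Lib.helper3.Central2
import Cfsg.Agent.Lib.helper3.CharBasic2
import Cfsg.Agent.Lib.helper3.Lin

set_option autoImplicit false
set_option linter.style.haveILetI false
set_option linter.unusedSectionVars false

/-!
# Burnside's theorems on prime power classes and groups of order `p^a q^b`
-/

namespace Cfsg.Agent.Lib.helper3.Burnside

open Cfsg Module Cfsg.Agent.Lib.helper3.IndFun Cfsg.Agent.Lib.helper3.CharBasic
open Cfsg.Agent.Lib.helper3.Irr Cfsg.Agent.Lib.helper3.Central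
open scoped ComplexConjugate

variable {G : Type*} [Group G]

theorem prime_card_of_comm [Finite G] [IsSimpleGroup G] (hcomm : ∀ a b : G, a * b = b * a) :
    (Nat.card G).Prime := by
  letI : CommGroup G := { ‹Group G› with mul_comm := hcomm }
  exact IsSimpleGroup.prime_card

/-- In a nonabelian simple group, a nontrivial irreducible character of degree prime to `p`
vanishes on an element with class size a power of `p`. -/
theorem vanish_of_not_dvd [Fintype G] [IsSimpleGroup G] (hnc : ¬ ∀ a b : G, a * b = b * a)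
    (p k : ℕ) (hp : p.Prime) (g : G) (hg : g ≠ 1)
    (hclass : (Subgroup.centralizer ({g} : Set G)).index = p ^ k)
    (χ : IrrCharacter G) (hχ1 : (χ : G → ℂ) ≠ fun _ => 1) (n : ℕ) (hn : (χ : G → ℂ) 1 = n)
    (hpn : ¬ p ∣ n) : (χ : G → ℂ) g = 0 := by
  classical
  obtain ⟨m, ρ, hirr, hρ⟩ := χ.2
  haveI := hirr
  have hmn : finrank ℂ (Fin m → ℂ) = n := by
    have := Representation.char_one ρ
    rw [hρ, hn] at this
    exact_mod_cast this.symm
  have hcop : Nat.Coprime (finrank ℂ (Fin m → ℂ)) (Subgroup.centralizer ({g} : Set G)).index := by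
    rw [hmn, hclass]
    exact Nat.Coprime.pow_right k ((Nat.Prime.coprime_iff_not_dvd hp).mpr hpn).symm
  have hcenter : Subgroup.center G = ⊥ := by
    rcases (Subgroup.center G).normal_of_characteristic.eq_bot_or_eq_top with h | h
    · exact h
    · exfalso
      apply hnc
      intro a b
      have : b ∈ Subgroup.center G := by rw [h]; trivial
      exact (Subgroup.mem_center_iff.mp this a)
  rcases character_eq_zero_or_norm_eq_of_coprime ρ g hcop with h0 | hnorm
  · rw [← hρ]; exact h0
  · exfalso
    obtain ⟨ω, hω⟩ := (norm_character_eq_finrank_iff ρ g).mp hnorm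
    rcases (MonoidHom.normal_ker ρ).eq_bot_or_eq_top with hker | hker
    · -- faithful: `g` is central
      apply hg
      have : g ∈ Subgroup.center G := by
        rw [Subgroup.mem_center_iff]
        intro y
        have h1 : ρ (y * g) = ρ (g * y) := by
          rw [map_mul, map_mul, hω]
          ext v
          simp
        have h2 : (y * g) * (g * y)⁻¹ ∈ MonoidHom.ker ρ := by
          rw [MonoidHom.mem_ker, map_mul, h1, ← map_mul, mul_inv_cancel, map_one]
        rw [hker, Subgroup.mem_bot] at h2
        exact mul_inv_eq_one.mp h2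
      rw [hcenter, Subgroup.mem_bot] at this
      exact this
    · -- trivial representation
      apply hχ1
      have hall : ∀ x : G, ρ x = 1 := by
        intro x
        have : x ∈ MonoidHom.ker ρ := by rw [hker]; trivial
        exact MonoidHom.mem_ker.mp this
      have hval : ∀ x : G, (χ : G → ℂ) x = n := by
        intro x
        rw [← hρ, ← hn, ← hρ]
        simp only [Representation.character, hall]
      have hnorm1 := irr_classInner_self χ.2
      rw [classInner_apply] at hnorm1
      simp only [hval, Complex.conj_natCast, Finset.sum_const, Finset.card_univ, nsmul_eq_mul]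
        at hnorm1
      rw [← Nat.card_eq_fintype_card] at hnorm1
      have hG : (Nat.card G : ℂ) ≠ 0 := card_ne_zero_complex G
      have hn2 : ((n * n : ℕ) : ℂ) = 1 := by
        push_cast
        field_simp at hnorm1
        linear_combination hnorm1
      have hn3 : n * n = 1 := by exact_mod_cast hn2
      have hn1 : n = 1 := by nlinarith [Nat.eq_one_of_mul_eq_one_left hn3]
      funext x
      rw [hval x, hn1]
      simp

/-- Burnside: a simple group with a nontrivial class of prime power size has prime order. -/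
theorem prime_card_of_prime_pow_class [Finite G] [IsSimpleGroup G] (p k : ℕ) (hp : p.Prime) (g : G)
    (hg : g ≠ 1) (hclass : (Subgroup.centralizer ({g} : Set G)).index = p ^ k) :
    (Nat.card G).Prime := by
  classical
  letI : Fintype G := Fintype.ofFinite G
  by_cases hcomm : ∀ a b : G, a * b = b * a
  · exact prime_card_of_comm hcomm
  exfalso
  -- degrees
  have hdeg : ∀ χ : IrrCharacter G, ∃ n : ℕ, 0 < n ∧ (χ : G → ℂ) 1 = n :=
    fun χ => exists_pos_nat_apply_one χ.2
  choose deg hdegpos hdeg using hdeg
  have horth := (column_orthogonality g (1 : G)).2 (by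
    intro h
    apply hg
    exact isConj_one_left.mp h)
  -- each term
  set χ₀ : IrrCharacter G := ⟨fun _ => 1, isIrrCharacter_one⟩ with hχ₀
  have hterm : ∀ χ : IrrCharacter G, χ ≠ χ₀ →
      ∃ β : ℂ, IsIntegral ℤ β ∧ (χ : G → ℂ) g * conj ((χ : G → ℂ) 1) = (p : ℂ) * β := by
    intro χ hχ
    have hχ1 : (χ : G → ℂ) ≠ fun _ => 1 := fun h => hχ (Subtype.ext h)
    by_cases hpd : p ∣ deg χ
    · obtain ⟨e, he⟩ := hpd
      refine ⟨(e : ℂ) * (χ : G → ℂ) g, ?_, ?_⟩
      · exact IsIntegral.mul (isIntegral_algebraMap (R := ℤ) (x := (e : ℤ)))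
          (Cfsg.Agent.Lib.helper3.Lin.isIntegral_of_isCharacter (isCharacter_of_isIrrCharacter χ.2) g)
      · rw [hdeg χ, Complex.conj_natCast, he]
        push_cast
        ring
    · refine ⟨0, isIntegral_zero, ?_⟩
      rw [vanish_of_not_dvd hcomm p k hp g hg hclass χ hχ1 (deg χ) (hdeg χ) hpd]
      simp
  choose! β hβint hβ using hterm
  rw [← Finset.add_sum_erase Finset.univ _ (Finset.mem_univ χ₀)] at horth
  have h1 : (χ₀ : G → ℂ) g * conj ((χ₀ : G → ℂ) 1) = 1 := by simp [hχ₀]
  have h2 : ∑ χ ∈ Finset.univ.erase χ₀, (χ : G → ℂ) g * conj ((χ : G → ℂ) 1)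
      = (p : ℂ) * ∑ χ ∈ Finset.univ.erase χ₀, β χ := by
    rw [Finset.mul_sum]
    apply Finset.sum_congr rfl
    intro χ hχ
    exact hβ χ (Finset.ne_of_mem_erase hχ)
  rw [h1, h2] at horth
  have hint : IsIntegral ℤ (∑ χ ∈ Finset.univ.erase χ₀, β χ) :=
    IsIntegral.sum _ (fun χ hχ => hβint χ (Finset.ne_of_mem_erase hχ))
  have hdvd := Cfsg.Agent.Lib.helper3.AlgInt.int_dvd_of_eq_mul_isIntegral
    (a := (-1 : ℤ)) (b := (p : ℤ)) hint (by push_cast; linear_combination (-1 : ℂ) * horth)
    (by exact_mod_cast hp.ne_zero)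
  have : (p : ℤ) ∣ 1 := (Int.dvd_neg).mp hdvd
  have hp1 : p ∣ 1 := by exact_mod_cast this
  exact hp.one_lt.ne' (Nat.dvd_one.mp hp1)

theorem exists_pow_mul_pow_of_dvd {p q a b d : ℕ} (hp : p.Prime) (hq : q.Prime)
    (h : d ∣ p ^ a * q ^ b) : ∃ a' b', d = p ^ a' * q ^ b' := by
  obtain ⟨d₁, d₂, h1, h2, rfl⟩ := (Nat.dvd_mul).mp h
  obtain ⟨a', -, rfl⟩ := (Nat.dvd_prime_pow hp).mp h1
  obtain ⟨b', -, rfl⟩ := (Nat.dvd_prime_pow hq).mp h2
  exact ⟨a', b', rfl⟩

theorem prime_card_of_simple_of_card [Finite G] [IsSimpleGroup G] (s r x y : ℕ) (hs : s.Prime)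
    (hr : r.Prime) (hcard : Nat.card G = s ^ x * r ^ y) (hrn : r ∣ Nat.card G) :
    (Nat.card G).Prime := by
  haveI : Fact r.Prime := ⟨hr⟩
  obtain ⟨Q⟩ : Nonempty (Sylow r G) := inferInstance
  have hQne : (Q : Subgroup G) ≠ ⊥ := Sylow.ne_bot_of_dvd_card Q hrn
  haveI hQnt : Nontrivial (Q : Subgroup G) := (Subgroup.nontrivial_iff_ne_bot _).mpr hQne
  haveI hcen : Nontrivial (Subgroup.center (Q : Subgroup G)) :=
    IsPGroup.center_nontrivial Q.isPGroup'
  obtain ⟨z, hz⟩ := exists_ne (1 : Subgroup.center (Q : Subgroup G))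
  set g : G := ((z : (Q : Subgroup G)) : G) with hgdef
  have hg : g ≠ 1 := by
    intro h
    apply hz
    apply Subtype.ext
    apply Subtype.ext
    exact h
  have hQle : (Q : Subgroup G) ≤ Subgroup.centralizer ({g} : Set G) := by
    intro w hw
    rw [Subgroup.mem_centralizer_iff]
    intro v hv
    rw [Set.mem_singleton_iff] at hv
    rw [hv]
    have := Subgroup.mem_center_iff.mp z.2 ⟨w, hw⟩
    have h2 := congrArg Subtype.val this
    simpa [hgdef] using h2.symm
  have hidx : (Subgroup.centralizer ({g} : Set G)).index ∣ (Q : Subgroup G).index :=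
    Subgroup.index_dvd_of_le hQle
  have hQidx : (Q : Subgroup G).index ∣ Nat.card G := Subgroup.index_dvd_card _
  have hnr : ¬ r ∣ (Q : Subgroup G).index := Q.not_dvd_index
  rw [hcard] at hQidx
  obtain ⟨x', y', hxy⟩ := exists_pow_mul_pow_of_dvd hs hr hQidx
  have hy' : y' = 0 := by
    by_contra h
    apply hnr
    rw [hxy]
    exact dvd_mul_of_dvd_right (dvd_pow_self r h) _
  rw [hy', pow_zero, mul_one] at hxy
  rw [hxy] at hidx
  obtain ⟨k, -, hk⟩ := (Nat.dvd_prime_pow hs).mp hidx
  exact prime_card_of_prime_pow_class s k hs g hg hk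

/-- Burnside's `p^a q^b` theorem. -/
theorem isSolvable_of_card_eq.{u} (p q : ℕ) (hp : p.Prime) (hq : q.Prime) :
    ∀ (n : ℕ) (G : Type u) [Group G] [Finite G], Nat.card G = n → (∃ a b, n = p ^ a * q ^ b) →
      Group.IsSolvable G := by
  intro n
  induction n using Nat.strong_induction_on with
  | _ n ih =>
    intro G _ _ hcard hab
    obtain ⟨a, b, hab⟩ := hab
    by_cases htriv : Subsingleton G
    · exact Group.isSolvable_of_comm (fun x y => Subsingleton.elim _ _)
    haveI hnt : Nontrivial G := not_subsingleton_iff_nontrivial.mp htriv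
    have hn1 : 1 < n := by
      rw [← hcard]
      exact Finite.one_lt_card
    by_cases hsimple : IsSimpleGroup G
    · have hpq : p ∣ n ∨ q ∣ n := by
        rcases Nat.eq_zero_or_pos a with ha | ha
        · rcases Nat.eq_zero_or_pos b with hb | hb
          · rw [ha, hb] at hab
            simp at hab
            omega
          · right
            rw [hab]
            exact dvd_mul_of_dvd_right (dvd_pow_self q hb.ne') _
        · left
          rw [hab]
          exact dvd_mul_of_dvd_left (dvd_pow_self p ha.ne') _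
      have hprime : (Nat.card G).Prime := by
        rcases hpq with h | h
        · exact prime_card_of_simple_of_card q p b a hq hp (by rw [hcard, hab, mul_comm])
            (hcard ▸ h)
        · exact prime_card_of_simple_of_card p q a b hp hq (hcard.trans hab) (hcard ▸ h)
      haveI : Fact (Nat.card G).Prime := ⟨hprime⟩
      haveI : IsCyclic G := isCyclic_of_prime_card rfl
      exact Group.isSolvable_of_comm (fun x y => (IsCyclic.isMulCommutative (α := G)).is_comm.comm x y)
    · have hex : ∃ N : Subgroup G, N.Normal ∧ N ≠ ⊥ ∧ N ≠ ⊤ := by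
        by_contra hcon
        push Not at hcon
        apply hsimple
        refine ⟨fun N hN => ?_⟩
        by_contra h
        push Not at h
        exact h.2 (hcon N hN h.1)
      obtain ⟨N, hN, hbot, htop⟩ := hex
      haveI := hN
      have hmul := Subgroup.card_mul_index N
      rw [hcard] at hmul
      have hNcard : Nat.card N ∣ n := Dvd.intro _ hmul
      have hIcard : N.index ∣ n := Dvd.intro_left _ hmul
      have hN1 : 1 < Nat.card N := by
        rw [Subgroup.one_lt_card_iff_ne_bot]
        exact hbot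
      have hI1 : 1 < N.index := by
        have h0 : N.index ≠ 0 := Subgroup.index_ne_zero_of_finite
        have h1 : N.index ≠ 1 := fun h => htop (Subgroup.index_eq_one.mp h)
        omega
      have hNlt : Nat.card N < n := by nlinarith
      have hIlt : Nat.card (G ⧸ N) < n := by
        rw [← Subgroup.index_eq_card]
        nlinarith
      haveI h1 : Group.IsSolvable N :=
        ih _ hNlt N rfl (exists_pow_mul_pow_of_dvd hp hq (hab ▸ hNcard))
      haveI h2 : Group.IsSolvable (G ⧸ N) :=
        ih _ hIlt (G ⧸ N) rfl (by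
          rw [← Subgroup.index_eq_card]
          exact exists_pow_mul_pow_of_dvd hp hq (hab ▸ hIcard))
      exact Group.isSolvable_of_ker_le_range N.subtype (QuotientGroup.mk' N) (by simp)

end Cfsg.Agent.Lib.helper3.Burnside
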