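import Mathlib
import Cfsg.Agent.H1.CoreFree
import Cfsg.Agent.H1.FrattiniExtra
import Cfsg.Agent.H1.PrimitiveSubgroup

set_option autoImplicit false
set_option linter.style.haveILetI false
set_option linter.unusedSectionVars false

/-!
# Core-free maximal subgroups of finite solvable groups
-/

namespace Cfsg.Agent.Lib.helper3.Berger

open Cfsg.Agent.H1

variable {Q : Type*} [Group Q]

/-- A minimal normal subgroup of a finite solvable group is abelian of prime power order. -/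
theorem minimal_normal_solvable [Finite Q] [hs : Group.IsSolvable Q] (N : Subgroup Q) [hN : N.Normal]
    (hNb : N ≠ ⊥) (hmin : ∀ B : Subgroup Q, B.Normal → B ≤ N → B = ⊥ ∨ B = N) :
    (∀ x ∈ N, ∀ y ∈ N, x * y = y * x) ∧ ∃ p a : ℕ, p.Prime ∧ Nat.card N = p ^ a := by
  have hcomm : ∀ x ∈ N, ∀ y ∈ N, x * y = y * x := by
    have hcn : (⁅N, N⁆ : Subgroup Q).Normal := Subgroup.commutator_normal N N
    have hcle : ⁅N, N⁆ ≤ N := Subgroup.commutator_le_left N N
    have hlt : ⁅N, N⁆ < N := Group.IsSolvable.commutator_lt_of_ne_bot hNb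
    have h0 : ⁅N, N⁆ = ⊥ := (hmin _ hcn hcle).resolve_right hlt.ne
    rw [Subgroup.commutator_eq_bot_iff_le_centralizer] at h0
    intro x hx y hy
    have := Subgroup.mem_centralizer_iff.mp (h0 hx) y hy
    exact this.symm
  refine ⟨hcomm, ?_⟩
  have hcard : Nat.card N ≠ 1 := by
    intro h
    apply hNb
    exact Subgroup.card_eq_one.mp h
  obtain ⟨p, hp, hpd⟩ := Nat.exists_prime_and_dvd hcard
  haveI : Fact p.Prime := ⟨hp⟩
  obtain ⟨x, hx⟩ := exists_prime_orderOf_dvd_card' (G := N) p hpd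
  let B : Subgroup Q :=
    { carrier := {y | y ∈ N ∧ y ^ p = 1}
      mul_mem' := by
        rintro a b ⟨ha, ha'⟩ ⟨hb, hb'⟩
        refine ⟨N.mul_mem ha hb, ?_⟩
        have hc : Commute a b := hcomm a ha b hb
        rw [hc.mul_pow, ha', hb', one_mul]
      one_mem' := ⟨N.one_mem, one_pow _⟩
      inv_mem' := by
        rintro a ⟨ha, ha'⟩
        exact ⟨N.inv_mem ha, by rw [inv_pow, ha', inv_one]⟩ }
  have hBn : B.Normal := by
    constructor
    rintro a ⟨ha, ha'⟩ g
    refine ⟨hN.conj_mem a ha g, ?_⟩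
    rw [conj_pow, ha']
    simp
  have hBle : B ≤ N := fun y hy => hy.1
  have hBb : B ≠ ⊥ := by
    intro h
    have hxB : (x : Q) ∈ B := by
      refine ⟨x.2, ?_⟩
      have := pow_orderOf_eq_one x
      rw [hx] at this
      have h2 := congrArg Subtype.val this
      simpa using h2
    rw [h, Subgroup.mem_bot] at hxB
    have hx1 : x = 1 := Subtype.ext hxB
    rw [hx1, orderOf_one] at hx
    exact hp.one_lt.ne hx
  have hBN : B = N := (hmin B hBn hBle).resolve_left hBb
  have hpg : IsPGroup p N := by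
    intro y
    refine ⟨1, ?_⟩
    have hy : (y : Q) ∈ B := by rw [hBN]; exact y.2
    apply Subtype.ext
    rw [pow_one]
    simpa using hy.2
  obtain ⟨a, ha⟩ := IsPGroup.iff_card.mp hpg
  exact ⟨p, a, hp, ha⟩

/-- conjugation invariance of `M ⊓ C` type subgroups when `M` is abelian normal and `G = M U`. -/
theorem normal_of_sup_eq_top (M U Z : Subgroup Q) [hM : M.Normal] (hsup : M ⊔ U = ⊤)
    (hZM : Z ≤ M) (hcomm : ∀ x ∈ M, ∀ y ∈ M, x * y = y * x)
    (hU : ∀ u ∈ U, ∀ z ∈ Z, u * z * u⁻¹ ∈ Z) : Z.Normal := by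
  constructor
  intro x hx g
  have hg : g ∈ ((M ⊔ U : Subgroup Q) : Set Q) := by rw [hsup]; trivial
  rw [Subgroup.normal_mul] at hg
  obtain ⟨m, hm, u, hu, rfl⟩ := Set.mem_mul.mp hg
  have hy : u * x * u⁻¹ ∈ Z := hU u hu x hx
  have hyM := hZM hy
  have e : m * u * x * (m * u)⁻¹ = m * (u * x * u⁻¹) * m⁻¹ := by group
  rw [e, hcomm m hm _ hyM]
  simpa using hy

/-- The structure of a finite solvable group with a core-free maximal subgroup. -/
theorem exists_chief_data [Finite Q] [hs : Group.IsSolvable Q] (U : Subgroup Q)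
    (hU : IsCoatom U) (hcore : U.normalCore = ⊥) :
    ∃ (M : Subgroup Q) (p a : ℕ), M.Normal ∧ p.Prime ∧ Nat.card M = p ^ a ∧ U.index = p ^ a ∧
      a ≠ 0 ∧ M ⊓ U = ⊥ ∧ M ⊔ U = ⊤ ∧ Subgroup.centralizer (M : Set Q) ⊓ U = ⊥ ∧
      (U ≠ ⊥ → ∃ (K : Subgroup Q) (q b : ℕ), K ≤ U ∧ K ≠ ⊥ ∧
        (∀ u ∈ U, ∀ k ∈ K, u * k * u⁻¹ ∈ K) ∧ q.Prime ∧ Nat.card K = q ^ b ∧ q ≠ p ∧
        (∀ x ∈ K, x ≠ 1 → ∃ t ∈ M, t * x * t⁻¹ ∉ K)) := by
  have htop : (⊤ : Subgroup Q) ≠ ⊥ := by
    intro h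
    apply hU.1
    rw [eq_top_iff, h]
    exact bot_le
  obtain ⟨M, hMn, hMb, -, hMmin⟩ := exists_minimal_normal_le (⊤ : Subgroup Q) htop
  obtain ⟨hcomm, p, a, hp, hcard⟩ := minimal_normal_solvable M hMb hMmin
  haveI : Fact p.Prime := ⟨hp⟩
  have hsup : M ⊔ U = ⊤ := sup_eq_top_of_normal_corefree U hU hcore M hMn hMb
  have hinf : M ⊓ U = ⊥ := by
    apply eq_bot_of_normal_le_corefree U hcore (M ⊓ U) ?_ inf_le_right
    apply normal_of_sup_eq_top M U (M ⊓ U) hsup inf_le_left hcomm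
    intro u hu z hz
    exact ⟨hMn.conj_mem z hz.1 u, U.mul_mem (U.mul_mem hu hz.2) (U.inv_mem hu)⟩
  have hcent : Subgroup.centralizer (M : Set Q) ⊓ U = ⊥ :=
    centralizer_inf_corefree U hU hcore M hMb
  have hcompl : Subgroup.IsComplement' M U := by
    apply Subgroup.isComplement'_of_disjoint_and_mul_eq_univ (disjoint_iff.mpr hinf)
    rw [← Subgroup.normal_mul, hsup]
    rfl
  have hidx : U.index = p ^ a := by rw [hcompl.index_eq_card, hcard]
  have ha0 : a ≠ 0 := by
    intro h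
    rw [h, pow_zero] at hcard
    exact hMb (Subgroup.card_eq_one.mp hcard)
  refine ⟨M, p, a, hMn, hp, hcard, hidx, ha0, hinf, hsup, hcent, ?_⟩
  intro hUb
  haveI : Nontrivial U := (Subgroup.nontrivial_iff_ne_bot U).mpr hUb
  have htopU : (⊤ : Subgroup U) ≠ ⊥ := top_ne_bot
  obtain ⟨K0, hK0n, hK0b, -, hK0min⟩ := exists_minimal_normal_le (⊤ : Subgroup U) htopU
  obtain ⟨-, q, b, hq, hK0card⟩ := minimal_normal_solvable K0 hK0b hK0min
  have hKU : K0.map U.subtype ≤ U := Subgroup.map_subtype_le K0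
  have hKb : K0.map U.subtype ≠ ⊥ := by
    rw [Ne, Subgroup.map_eq_bot_iff_of_injective _ U.subtype_injective]
    exact hK0b
  have hKconj : ∀ u ∈ U, ∀ k ∈ K0.map U.subtype, u * k * u⁻¹ ∈ K0.map U.subtype := by
    intro u hu k hk
    obtain ⟨k0, hk0, rfl⟩ := hk
    exact ⟨⟨u, hu⟩ * k0 * ⟨u, hu⟩⁻¹, hK0n.conj_mem k0 hk0 ⟨u, hu⟩, rfl⟩
  have hKcard : Nat.card (K0.map U.subtype) = q ^ b := by
    rw [Subgroup.card_map_of_injective U.subtype_injective, hK0card]
  have hlast : ∀ x ∈ K0.map U.subtype, x ≠ 1 → ∃ t ∈ M, t * x * t⁻¹ ∉ K0.map U.subtype := by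
    intro x hx hx1
    have hxc : x ∉ Subgroup.centralizer (M : Set Q) := by
      intro hxc
      have : x ∈ Subgroup.centralizer (M : Set Q) ⊓ U := ⟨hxc, hKU hx⟩
      rw [hcent, Subgroup.mem_bot] at this
      exact hx1 this
    rw [Subgroup.mem_centralizer_iff] at hxc
    push Not at hxc
    obtain ⟨m, hm, hne⟩ := hxc
    refine ⟨m, hm, ?_⟩
    intro hmem
    have h1 : m * x * m⁻¹ * x⁻¹ ∈ M ⊓ U := by
      refine ⟨?_, ?_⟩
      · have : m * x * m⁻¹ * x⁻¹ = m * (x * m⁻¹ * x⁻¹) := by group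
        rw [this]
        exact M.mul_mem hm (hMn.conj_mem _ (M.inv_mem hm) x)
      · exact U.mul_mem (hKU hmem) (U.inv_mem (hKU hx))
    rw [hinf, Subgroup.mem_bot] at h1
    apply hne
    calc m * x = (m * x * m⁻¹ * x⁻¹) * (x * m) := by group
      _ = x * m := by rw [h1, one_mul]
  refine ⟨K0.map U.subtype, q, b, hKU, hKb, hKconj, hq, hKcard, ?_, hlast⟩
  intro hqp
  subst hqp
  have hKp : IsPGroup q (K0.map U.subtype) := IsPGroup.of_card hKcard
  have hdvd : q ∣ Nat.card M := by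
    rw [hcard]
    exact dvd_pow_self q ha0
  obtain ⟨b0, hb0M, hb01, hb0c⟩ := exists_fixed_of_pgroup_of_dvd_card (K0.map U.subtype) M hKp hdvd
  have hZn : (M ⊓ Subgroup.centralizer ((K0.map U.subtype : Subgroup Q) : Set Q)).Normal := by
    apply normal_of_sup_eq_top M U _ hsup inf_le_left hcomm
    intro u hu z hz
    refine ⟨hMn.conj_mem z hz.1 u, ?_⟩
    show u * z * u⁻¹ ∈ Subgroup.centralizer ((K0.map U.subtype : Subgroup Q) : Set Q)
    rw [Subgroup.mem_centralizer_iff]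
    intro k hk
    have hk' : u⁻¹ * k * u⁻¹⁻¹ ∈ K0.map U.subtype := hKconj u⁻¹ (U.inv_mem hu) k hk
    have h1 := Subgroup.mem_centralizer_iff.mp hz.2 _ hk'
    calc k * (u * z * u⁻¹) = u * ((u⁻¹ * k * u⁻¹⁻¹) * z) * u⁻¹ := by group
      _ = u * (z * (u⁻¹ * k * u⁻¹⁻¹)) * u⁻¹ := by rw [h1]
      _ = u * z * u⁻¹ * k := by group
  have hZb : M ⊓ Subgroup.centralizer ((K0.map U.subtype : Subgroup Q) : Set Q) ≠ ⊥ := by
    intro h
    have hb0 : b0 ∈ M ⊓ Subgroup.centralizer ((K0.map U.subtype : Subgroup Q) : Set Q) := by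
      refine ⟨hb0M, ?_⟩
      show b0 ∈ Subgroup.centralizer ((K0.map U.subtype : Subgroup Q) : Set Q)
      rw [Subgroup.mem_centralizer_iff]
      intro k hk
      exact hb0c k hk
    rw [h, Subgroup.mem_bot] at hb0
    exact hb01 hb0
  have hZM := (hMmin _ hZn inf_le_left).resolve_left hZb
  have hKle : K0.map U.subtype ≤ Subgroup.centralizer (M : Set Q) ⊓ U := by
    intro k hk
    refine ⟨?_, hKU hk⟩
    show k ∈ Subgroup.centralizer (M : Set Q)
    rw [Subgroup.mem_centralizer_iff]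
    intro m hm
    have hm' : m ∈ M ⊓ Subgroup.centralizer ((K0.map U.subtype : Subgroup Q) : Set Q) := by
      rw [hZM]; exact hm
    exact (Subgroup.mem_centralizer_iff.mp hm'.2 k hk).symm
  rw [hcent, le_bot_iff] at hKle
  exact hKb hKle

/-- The relative version: a maximal subgroup `H` of `G` with `G / L` solvable, `L ≤ H`. -/
theorem exists_relative_data {G : Type*} [Group G] [Finite G] (L H : Subgroup G) [hL : L.Normal]
    (hLH : L ≤ H) (hH : IsCoatom H) (hsolv : Group.IsSolvable (G ⧸ L)) :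
    ∃ (M : Subgroup G) (p a : ℕ), M.Normal ∧ p.Prime ∧ H.index = p ^ a ∧ a ≠ 0 ∧
      H.normalCore ≤ M ∧ M ⊓ H = H.normalCore ∧ M ⊔ H = ⊤ ∧
      (¬ H ≤ H.normalCore → ∃ (K : Subgroup G) (q b : ℕ), H.normalCore ≤ K ∧ K ≤ H ∧
        ¬ K ≤ H.normalCore ∧ (∀ u ∈ H, ∀ k ∈ K, u * k * u⁻¹ ∈ K) ∧ q.Prime ∧
        H.normalCore.relIndex K = q ^ b ∧ q ≠ p ∧
        (∀ x ∈ K, x ∉ H.normalCore → ∃ t ∈ M, t * x * t⁻¹ ∉ K)) := by
  obtain ⟨C, hC⟩ : ∃ C : Subgroup G, C = H.normalCore := ⟨_, rfl⟩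
  rw [← hC]
  have hCn : C.Normal := by rw [hC]; exact Subgroup.normalCore_normal H
  have hCH : C ≤ H := by rw [hC]; exact Subgroup.normalCore_le H
  have hLC : L ≤ C := by rw [hC]; exact Subgroup.normal_le_normalCore.mpr hLH
  haveI : Group.IsSolvable (G ⧸ C) := by
    have hsurj : Function.Surjective (QuotientGroup.map L C (MonoidHom.id G) hLC) := by
      intro x
      obtain ⟨g, rfl⟩ := QuotientGroup.mk_surjective x
      exact ⟨(g : G ⧸ L), rfl⟩
    exact Group.isSolvable_of_surjective hsurj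
  obtain ⟨π, hπ⟩ : ∃ π : G →* G ⧸ C, π = QuotientGroup.mk' C := ⟨_, rfl⟩
  have hker : π.ker = C := by rw [hπ]; exact QuotientGroup.ker_mk' C
  have hsurj : Function.Surjective π := by rw [hπ]; exact QuotientGroup.mk'_surjective C
  have hcomapU : (H.map π).comap π = H := by
    rw [Subgroup.comap_map_eq, hker]
    exact sup_eq_left.mpr hCH
  have hUco : IsCoatom (H.map π) := by
    constructor
    · intro h
      have h2 : (H.map π).comap π = ⊤ := by rw [h]; rfl
      rw [hcomapU] at h2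
      exact hH.1 h2
    · intro V hV
      have h1 : (H.map π).comap π < V.comap π := Subgroup.comap_lt_comap_of_surjective hsurj |>.mpr hV
      rw [hcomapU] at h1
      have h2 := hH.2 _ h1
      rw [← Subgroup.map_comap_eq_self_of_surjective hsurj V, h2]
      exact Subgroup.map_top_of_surjective π hsurj
  have hUcore : (H.map π).normalCore = ⊥ := by
    have h1 : ((H.map π).normalCore.comap π) ≤ C := by
      refine le_of_le_of_eq ?_ hC.symm
      haveI : ((H.map π).normalCore.comap π).Normal :=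
        (Subgroup.normalCore_normal (H.map π)).comap π
      apply Subgroup.normal_le_normalCore.mpr
      calc (H.map π).normalCore.comap π ≤ (H.map π).comap π :=
            Subgroup.comap_mono (Subgroup.normalCore_le _)
        _ = H := hcomapU
    rw [← Subgroup.map_comap_eq_self_of_surjective hsurj (H.map π).normalCore, eq_bot_iff]
    calc ((H.map π).normalCore.comap π).map π ≤ C.map π := Subgroup.map_mono h1
      _ = ⊥ := by rw [Subgroup.map_eq_bot_iff, hker]
  obtain ⟨Mb, p, a, hMn, hp, -, hidx, ha0, hinf, hsup, -, hK⟩ :=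
    exists_chief_data (H.map π) hUco hUcore
  have hidx' : H.index = p ^ a := by
    rw [← hidx]
    exact (Subgroup.index_map_eq H hsurj (by rw [hker]; exact hCH)).symm
  have hCle : ∀ A : Subgroup (G ⧸ C), C ≤ A.comap π := by
    intro A
    exact le_of_eq_of_le hker.symm (Subgroup.ker_le_comap π A)
  refine ⟨Mb.comap π, p, a, hMn.comap π, hp, hidx', ha0, hCle Mb, ?_, ?_, ?_⟩
  · calc Mb.comap π ⊓ H = Mb.comap π ⊓ (H.map π).comap π := by rw [hcomapU]
      _ = (Mb ⊓ H.map π).comap π := (Subgroup.comap_inf _ _ _).symm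
      _ = C := by rw [hinf, MonoidHom.comap_bot, hker]
  · calc Mb.comap π ⊔ H = Mb.comap π ⊔ (H.map π).comap π := by rw [hcomapU]
      _ = (Mb ⊔ H.map π).comap π := (Subgroup.comap_sup_eq π _ _ hsurj).symm ▸ rfl
      _ = ⊤ := by rw [hsup]; rfl
  · intro hHC
    have hUb : H.map π ≠ ⊥ := by
      intro h
      apply hHC
      rw [Subgroup.map_eq_bot_iff, hker] at h
      exact h
    obtain ⟨Kb, q, b, hKU, hKb, hKconj, hq, hKcard, hqp, hlast⟩ := hK hUb
    have hmapK : (Kb.comap π).map π = Kb := Subgroup.map_comap_eq_self_of_surjective hsurj Kb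
    refine ⟨Kb.comap π, q, b, hCle Kb, ?_, ?_, ?_, hq, ?_, hqp, ?_⟩
    · calc Kb.comap π ≤ (H.map π).comap π := Subgroup.comap_mono hKU
        _ = H := hcomapU
    · intro h
      apply hKb
      rw [← hmapK, Subgroup.map_eq_bot_iff, hker]
      exact h
    · intro u hu k hk
      rw [Subgroup.mem_comap] at hk ⊢
      rw [map_mul, map_mul, map_inv]
      exact hKconj (π u) (Subgroup.mem_map_of_mem π hu) (π k) hk
    · have h1 := Subgroup.relIndex_comap (⊥ : Subgroup (G ⧸ C)) π (Kb.comap π)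
      rw [MonoidHom.comap_bot, hker, hmapK, Subgroup.relIndex_bot_left, hKcard] at h1
      exact h1
    · intro x hx hxC
      have hx1 : π x ≠ 1 := by
        intro h
        apply hxC
        rw [← hker]
        exact (MonoidHom.mem_ker).mpr h
      obtain ⟨t, ht, hne⟩ := hlast (π x) hx hx1
      obtain ⟨t0, rfl⟩ := hsurj t
      refine ⟨t0, ht, ?_⟩
      intro hmem
      apply hne
      rw [Subgroup.mem_comap, map_mul, map_mul, map_inv] at hmem
      exact hmem

end Cfsg.Agent.Lib.helper3.Berger
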