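import Mathlib
import Cfsg.Agent.Lib.Helper4.Nilpotent

/-!
# The Hall `p'`-subgroup of a finite nilpotent group

`exists_hall_pprime` : in a finite nilpotent group the elements of order prime to `p` form a normal
subgroup of `p`-power index.
-/

set_option autoImplicit false
set_option linter.style.haveILetI false
set_option linter.unusedSectionVars false

namespace Cfsg.Agent.Lib.helper3.HallNilp

theorem orderOf_conj' {E : Type*} [Group E] (g n : E) : orderOf (g * n * g⁻¹) = orderOf n := by
  have hsc : SemiconjBy g n (g * n * g⁻¹) := by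
    show g * n = g * n * g⁻¹ * g
    group
  exact (SemiconjBy.orderOf_eq _ hsc).symm

theorem exists_hall_pprime {E : Type*} [Group E] [Finite E] [hnil : Group.IsNilpotent E] (p : ℕ)
    [hp : Fact p.Prime] :
    ∃ K : Subgroup E, K.Normal ∧ (∀ y : E, y ∈ K ↔ ¬ p ∣ orderOf y) ∧ ∃ j : ℕ, K.index = p ^ j := by
  classical
  obtain ⟨P⟩ : Nonempty (Sylow p E) := inferInstance
  haveI hPn : (P : Subgroup E).Normal := inferInstance
  have hcop : Nat.Coprime (Nat.card (P : Subgroup E)) (P : Subgroup E).index := P.card_coprime_index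
  obtain ⟨K, hK⟩ := Subgroup.exists_right_complement'_of_coprime hcop
  have hcardK : Nat.card K = (P : Subgroup E).index := by
    have h1 := hK.card_mul_card
    have h2 := Subgroup.card_mul_index (P : Subgroup E)
    have hP0 : 0 < Nat.card (P : Subgroup E) := Nat.card_pos
    exact Nat.eq_of_mul_eq_mul_left hP0 (h1.trans h2.symm)
  have hKreg : ∀ k ∈ K, ¬ p ∣ orderOf k := by
    intro k hk hdvd
    have h1 : orderOf k ∣ Nat.card K := by
      have := orderOf_dvd_natCard (⟨k, hk⟩ : K)
      rwa [Subgroup.orderOf_mk] at this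
    rw [hcardK] at h1
    exact P.not_dvd_index (dvd_trans hdvd h1)
  have hmem : ∀ y : E, y ∈ K ↔ ¬ p ∣ orderOf y := by
    intro y
    constructor
    · exact hKreg y
    · intro hy
      obtain ⟨⟨⟨u, hu⟩, ⟨k, hk⟩⟩, huk, -⟩ := (Subgroup.isComplement'_def.1 hK).existsUnique y
      simp only at huk
      -- `u` and `k` commute
      obtain ⟨i, hi⟩ := (P.isPGroup') ⟨u, hu⟩
      have hui : u ^ p ^ i = 1 := congrArg Subtype.val hi
      have hou : orderOf u ∣ p ^ i := orderOf_dvd_of_pow_eq_one hui
      have hcopuk : (orderOf u).Coprime (orderOf k) := by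
        apply Nat.Coprime.coprime_dvd_left hou
        exact Nat.Coprime.pow_left i ((Nat.Prime.coprime_iff_not_dvd hp.out).2 (hKreg k hk))
      have hcomm : Commute u k :=
        Cfsg.Agent.Lib.Helper4.Nilpotent.commute_of_coprime_orderOf E u k hcopuk
      -- `u ^ |K| = y ^ |K|`
      have hkpow : k ^ Nat.card K = 1 := by
        have := pow_card_eq_one' (G := K) (x := ⟨k, hk⟩)
        exact congrArg Subtype.val this
      have hy1 : y ^ Nat.card K = u ^ Nat.card K := by
        rw [← huk, hcomm.mul_pow, hkpow, mul_one]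
      -- the order of `u ^ |K|` divides `orderOf y` and a power of `p`
      have h1 : orderOf (u ^ Nat.card K) ∣ orderOf y := by
        rw [← hy1]; exact orderOf_pow_dvd _
      have h2 : orderOf (u ^ Nat.card K) ∣ p ^ i := dvd_trans (orderOf_pow_dvd _) hou
      have h3 : orderOf (u ^ Nat.card K) = 1 := by
        apply Nat.eq_one_of_dvd_coprimes _ h1 h2
        exact Nat.Coprime.pow_right i ((Nat.Prime.coprime_iff_not_dvd hp.out).2 hy).symm
      have h4 : u ^ Nat.card K = 1 := orderOf_eq_one_iff.1 h3
      have h5 : orderOf u ∣ Nat.card K := orderOf_dvd_of_pow_eq_one h4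
      have h6 : orderOf u = 1 := by
        apply Nat.eq_one_of_dvd_coprimes _ hou h5
        rw [hcardK]
        exact Nat.Coprime.pow_left i ((Nat.Prime.coprime_iff_not_dvd hp.out).2 P.not_dvd_index)
      have hu1 : u = 1 := orderOf_eq_one_iff.1 h6
      rw [hu1, one_mul] at huk
      rw [← huk]
      exact hk
  refine ⟨K, ?_, hmem, ?_⟩
  · constructor
    intro n hn g
    rw [hmem] at hn ⊢
    rw [orderOf_conj']
    exact hn
  · obtain ⟨j, hj⟩ := IsPGroup.iff_card.1 P.isPGroup'
    exact ⟨j, by rw [hK.index_eq_card]; exact hj⟩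

end Cfsg.Agent.Lib.helper3.HallNilp
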