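import Mathlib
import Cfsg.Prelude.Def_Characters
import Cfsg.Agent.Lib.helper3.Central2
import Cfsg.Agent.Lib.helper3.Lin

set_option autoImplicit false
set_option linter.style.haveILetI false
set_option linter.unusedSectionVars false

/-!
# Class multiplication coefficients and counting commutators
-/

namespace Cfsg.Agent.Lib.helper3.Central

open Cfsg Module Cfsg.Agent.Lib.helper3.IndFun Cfsg.Agent.Lib.helper3.CharBasic
open Cfsg.Agent.Lib.helper3.Irr
open scoped ComplexConjugate
open Classical

variable {G : Type*} [Group G] [Fintype G]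

/-- The class of `a` as a finset. -/
noncomputable def cls (a : G) : Finset G := Finset.univ.filter (fun x : G => IsConj a x)

theorem mem_cls {a x : G} : x ∈ cls a ↔ IsConj a x := by
  simp [cls]

theorem classOp_eq_sum_cls {V : Type*} [AddCommGroup V] [Module ℂ V]
    (ρ : Representation ℂ G V) (a : G) : classOp ρ a = ∑ x ∈ cls a, ρ x := rfl

theorem sum_character_mul {V : Type*} [AddCommGroup V] [Module ℂ V] [FiniteDimensional ℂ V]
    (ρ : Representation ℂ G V) [ρ.IsIrreducible] (a b : G) :
    ∑ x ∈ cls a, ∑ y ∈ cls b, ρ.character (x * y)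
      = ((cls a).card : ℂ) * ((cls b).card : ℂ) * ρ.character a * ρ.character b
          / (finrank ℂ V : ℂ) := by
  have hV := finrank_ne_zero_of_irreducible ρ
  have h1 : LinearMap.trace ℂ V (classOp ρ a * classOp ρ b)
      = ∑ x ∈ cls a, ∑ y ∈ cls b, ρ.character (x * y) := by
    rw [classOp_eq_sum_cls, classOp_eq_sum_cls, Finset.sum_mul, map_sum]
    apply Finset.sum_congr rfl
    intro x _
    rw [Finset.mul_sum, map_sum]
    apply Finset.sum_congr rfl
    intro y _
    rw [← map_mul]
    rfl
  rw [← h1, classOp_eq_smul ρ a, classOp_eq_smul ρ b]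
  rw [smul_mul_smul_comm, map_smul]
  have : (LinearMap.id : V →ₗ[ℂ] V) * LinearMap.id = LinearMap.id := rfl
  rw [this, LinearMap.trace_id, smul_eq_mul]
  show ((cls a).card : ℂ) * ρ.character a / (finrank ℂ V : ℂ)
      * (((cls b).card : ℂ) * ρ.character b / (finrank ℂ V : ℂ)) * (finrank ℂ V : ℂ) = _
  field_simp

/-- The same for irreducible characters as functions. -/
theorem sum_irr_mul {χ : G → ℂ} (hχ : IsIrrCharacter G χ) (a b : G) :
    ∑ x ∈ cls a, ∑ y ∈ cls b, χ (x * y)
      = ((cls a).card : ℂ) * ((cls b).card : ℂ) * χ a * χ b / χ 1 := by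
  obtain ⟨n, ρ, hirr, rfl⟩ := hχ
  haveI := hirr
  rw [sum_character_mul ρ a b, Representation.char_one]

/-- The class multiplication counting function. -/
noncomputable def mulCount (a b c : G) : ℂ :=
  (Nat.card {p : G × G // IsConj a p.1 ∧ IsConj b p.2 ∧ p.1 * p.2 = c} : ℂ)

theorem mulCount_eq_sum (a b c : G) :
    mulCount a b c = ∑ x ∈ cls a, ∑ y ∈ cls b, if x * y = c then (1 : ℂ) else 0 := by
  unfold mulCount
  rw [Nat.card_eq_fintype_card, Fintype.card_subtype, Finset.card_filter]
  push_cast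
  rw [Fintype.sum_prod_type]
  unfold cls
  rw [Finset.sum_filter]
  apply Finset.sum_congr rfl
  intro x _
  rw [Finset.sum_filter]
  by_cases hx : IsConj a x
  · rw [if_pos hx]
    apply Finset.sum_congr rfl
    intro y _
    by_cases hy : IsConj b y
    · simp only [hx, hy, true_and, if_true]
    · simp only [hx, hy, true_and, false_and, if_false]
  · rw [if_neg hx]
    apply Finset.sum_eq_zero
    intro y _
    simp only [hx, false_and, if_false]

theorem isConj_conj_iff (a x h : G) : IsConj a (h * x * h⁻¹) ↔ IsConj a x := by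
  constructor
  · intro hc
    exact hc.trans (isConj_iff.mpr ⟨h⁻¹, by group⟩)
  · intro hc
    exact hc.trans (isConj_iff.mpr ⟨h, rfl⟩)

theorem mulCount_isClassFunction (a b : G) : IsClassFunction G (fun c => mulCount a b c) := by
  intro c h
  simp only [mulCount]
  congr 1
  apply Nat.card_congr
  refine ⟨fun p => ⟨(h⁻¹ * p.1.1 * h, h⁻¹ * p.1.2 * h), ?_, ?_, ?_⟩,
    fun p => ⟨(h * p.1.1 * h⁻¹, h * p.1.2 * h⁻¹), ?_, ?_, ?_⟩, ?_, ?_⟩
  · have := (isConj_conj_iff a p.1.1 h⁻¹).mpr p.2.1
    simpa using this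
  · have := (isConj_conj_iff b p.1.2 h⁻¹).mpr p.2.2.1
    simpa using this
  · simp only
    calc h⁻¹ * p.1.1 * h * (h⁻¹ * p.1.2 * h) = h⁻¹ * (p.1.1 * p.1.2) * h := by group
      _ = h⁻¹ * (h * c * h⁻¹) * h := by rw [p.2.2.2]
      _ = c := by group
  · exact (isConj_conj_iff a p.1.1 h).mpr p.2.1
  · exact (isConj_conj_iff b p.1.2 h).mpr p.2.2.1
  · simp only
    calc h * p.1.1 * h⁻¹ * (h * p.1.2 * h⁻¹) = h * (p.1.1 * p.1.2) * h⁻¹ := by group
      _ = h * c * h⁻¹ := by rw [p.2.2.2]
  · intro p
    apply Subtype.ext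
    apply Prod.ext <;> simp only <;> group
  · intro p
    apply Subtype.ext
    apply Prod.ext <;> simp only <;> group

theorem classInner_mulCount (a b : G) {χ : G → ℂ} (hχ : IsIrrCharacter G χ) :
    classInner (fun c => mulCount a b c) χ
      = (Nat.card G : ℂ)⁻¹ * conj (((cls a).card : ℂ) * ((cls b).card : ℂ) * χ a * χ b / χ 1) := by
  rw [classInner_apply, ← sum_irr_mul hχ a b]
  congr 1
  simp_rw [mulCount_eq_sum, Finset.sum_mul]
  rw [Finset.sum_comm]
  rw [map_sum]
  apply Finset.sum_congr rfl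
  intro x _
  rw [Finset.sum_comm, map_sum]
  apply Finset.sum_congr rfl
  intro y _
  simp_rw [ite_mul, one_mul, zero_mul]
  rw [Finset.sum_ite_eq Finset.univ (x * y), if_pos (Finset.mem_univ _)]

/-- Class multiplication coefficients via the character table. -/
theorem mulCount_eq (a b c : G) :
    mulCount a b c = ((cls a).card : ℂ) * ((cls b).card : ℂ) / (Nat.card G : ℂ)
      * ∑ χ : IrrCharacter G, (χ : G → ℂ) a * (χ : G → ℂ) b * conj ((χ : G → ℂ) c)
          / (χ : G → ℂ) 1 := by
  have h := congrFun (classFunction_eq_sum _ (mulCount_isClassFunction a b)) c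
  simp only [Finset.sum_apply, Pi.smul_apply, smul_eq_mul] at h
  have hreal : conj (mulCount a b c) = mulCount a b c := by
    unfold mulCount
    exact Complex.conj_natCast _
  rw [← hreal, h, map_sum, Finset.mul_sum]
  apply Finset.sum_congr rfl
  intro χ _
  rw [classInner_mulCount a b χ.2, map_mul, map_mul, Complex.conj_conj, map_inv₀,
    Complex.conj_natCast]
  field_simp

end Cfsg.Agent.Lib.helper3.Central
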