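import Mathlib
import Cfsg.Prelude.Def_Characters
import Cfsg.Agent.Lib.helper3.ClassMul

set_option autoImplicit false
set_option linter.style.haveILetI false
set_option linter.unusedSectionVars false

/-!
# Counting commutators with characters
-/

namespace Cfsg.Agent.Lib.helper3.Central

open Cfsg Module Cfsg.Agent.Lib.helper3.IndFun Cfsg.Agent.Lib.helper3.CharBasic
open Cfsg.Agent.Lib.helper3.Irr
open scoped ComplexConjugate
open Classical

variable {G : Type*} [Group G] [Fintype G]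

/-- The sum of `ρ` over all conjugates of `x` (with multiplicity) is a scalar. -/
theorem conjSum_eq_smul {V : Type*} [AddCommGroup V] [Module ℂ V] [FiniteDimensional ℂ V]
    (ρ : Representation ℂ G V) [ρ.IsIrreducible] (x : G) :
    ∑ y : G, ρ (y * x * y⁻¹)
      = ((Nat.card G : ℂ) * ρ.character x / (finrank ℂ V : ℂ)) • LinearMap.id := by
  have hV := finrank_ne_zero_of_irreducible ρ
  set T : V →ₗ[ℂ] V := ∑ y : G, ρ (y * x * y⁻¹) with hT
  have hcomm : ∀ h : G, ρ h * T = T * ρ h := by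
    intro h
    rw [hT, Finset.mul_sum, Finset.sum_mul]
    symm
    apply Fintype.sum_equiv (Equiv.mulLeft h⁻¹)
    intro y
    simp only [Equiv.coe_mulLeft]
    rw [← map_mul, ← map_mul]
    congr 1
    group
  obtain ⟨c, hc⟩ := exists_eq_smul_id ρ T (by
    intro h v
    have := congrArg (fun f : V →ₗ[ℂ] V => f v) (hcomm h)
    simp only [Module.End.mul_apply] at this
    exact this.symm)
  have htr : LinearMap.trace ℂ V T = (Nat.card G : ℂ) * ρ.character x := by
    rw [hT, map_sum]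
    have : ∀ y ∈ (Finset.univ : Finset G), LinearMap.trace ℂ V (ρ (y * x * y⁻¹))
        = ρ.character x := fun y _ => Representation.char_conj ρ x y
    rw [Finset.sum_congr rfl this, Finset.sum_const, Finset.card_univ, nsmul_eq_mul,
      Nat.card_eq_fintype_card]
  rw [hc, map_smul, LinearMap.trace_id, smul_eq_mul] at htr
  rw [hc]
  congr 1
  field_simp
  exact htr

theorem sum_character_commutator {V : Type*} [AddCommGroup V] [Module ℂ V]
    [FiniteDimensional ℂ V] (ρ : Representation ℂ G V) [ρ.IsIrreducible] :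
    ∑ x : G, ∑ y : G, ρ.character (x * y * x⁻¹ * y⁻¹)
      = (Nat.card G : ℂ) ^ 2 / (finrank ℂ V : ℂ) := by
  have hV := finrank_ne_zero_of_irreducible ρ
  have hG : (Nat.card G : ℂ) ≠ 0 := card_ne_zero_complex G
  have h1 : ∀ x : G, ∑ y : G, ρ.character (x * y * x⁻¹ * y⁻¹)
      = (Nat.card G : ℂ) * ρ.character x⁻¹ / (finrank ℂ V : ℂ) * ρ.character x := by
    intro x
    have h2 : ∑ y : G, ρ.character (x * y * x⁻¹ * y⁻¹)
        = LinearMap.trace ℂ V (ρ x * ∑ y : G, ρ (y * x⁻¹ * y⁻¹)) := by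
      rw [Finset.mul_sum, map_sum]
      apply Finset.sum_congr rfl
      intro y _
      rw [← map_mul]
      show LinearMap.trace ℂ V (ρ (x * y * x⁻¹ * y⁻¹)) = _
      congr 2
      group
    rw [h2, conjSum_eq_smul, mul_smul_comm, map_smul, smul_eq_mul]
    rfl
  rw [Finset.sum_congr rfl (fun x _ => h1 x)]
  have hnorm : classInner ρ.character ρ.character = 1 := classInner_character_self ρ
  rw [classInner_apply] at hnorm
  have hsum : ∑ g : G, ρ.character g * conj (ρ.character g) = (Nat.card G : ℂ) := by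
    field_simp at hnorm
    exact hnorm
  have h3 : ∑ x : G, (Nat.card G : ℂ) * ρ.character x⁻¹ / (finrank ℂ V : ℂ) * ρ.character x
      = (Nat.card G : ℂ) / (finrank ℂ V : ℂ) * ∑ g : G, ρ.character g * conj (ρ.character g) := by
    rw [Finset.mul_sum]
    apply Finset.sum_congr rfl
    intro x _
    rw [character_inv]
    ring
  rw [h3, hsum]
  ring

theorem sum_irr_commutator {χ : G → ℂ} (hχ : IsIrrCharacter G χ) :
    ∑ x : G, ∑ y : G, χ (x * y * x⁻¹ * y⁻¹) = (Nat.card G : ℂ) ^ 2 / χ 1 := by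
  obtain ⟨n, ρ, hirr, rfl⟩ := hχ
  haveI := hirr
  rw [sum_character_commutator ρ, Representation.char_one]

/-- The number of ways of writing `g` as a commutator. -/
noncomputable def commCount (g : G) : ℂ :=
  (Nat.card {p : G × G // p.1 * p.2 * p.1⁻¹ * p.2⁻¹ = g} : ℂ)

theorem commCount_eq_sum (g : G) :
    commCount g = ∑ x : G, ∑ y : G, if x * y * x⁻¹ * y⁻¹ = g then (1 : ℂ) else 0 := by
  unfold commCount
  rw [Nat.card_eq_fintype_card, Fintype.card_subtype, Finset.card_filter]
  push_cast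
  rw [Fintype.sum_prod_type]

theorem commCount_isClassFunction : IsClassFunction G (fun g => commCount g) := by
  intro c h
  simp only [commCount]
  congr 1
  apply Nat.card_congr
  refine ⟨fun p => ⟨(h⁻¹ * p.1.1 * h, h⁻¹ * p.1.2 * h), ?_⟩,
    fun p => ⟨(h * p.1.1 * h⁻¹, h * p.1.2 * h⁻¹), ?_⟩, ?_, ?_⟩
  · simp only
    calc h⁻¹ * p.1.1 * h * (h⁻¹ * p.1.2 * h) * (h⁻¹ * p.1.1 * h)⁻¹ * (h⁻¹ * p.1.2 * h)⁻¹
        = h⁻¹ * (p.1.1 * p.1.2 * p.1.1⁻¹ * p.1.2⁻¹) * h := by group
      _ = h⁻¹ * (h * c * h⁻¹) * h := by rw [p.2]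
      _ = c := by group
  · simp only
    calc h * p.1.1 * h⁻¹ * (h * p.1.2 * h⁻¹) * (h * p.1.1 * h⁻¹)⁻¹ * (h * p.1.2 * h⁻¹)⁻¹
        = h * (p.1.1 * p.1.2 * p.1.1⁻¹ * p.1.2⁻¹) * h⁻¹ := by group
      _ = h * c * h⁻¹ := by rw [p.2]
  · intro p
    apply Subtype.ext
    apply Prod.ext <;> simp only <;> group
  · intro p
    apply Subtype.ext
    apply Prod.ext <;> simp only <;> group

theorem classInner_commCount {χ : G → ℂ} (hχ : IsIrrCharacter G χ) :
    classInner (fun g => commCount g) χ = (Nat.card G : ℂ) / χ 1 := by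
  have hG : (Nat.card G : ℂ) ≠ 0 := card_ne_zero_complex G
  have h1 : ∑ g : G, commCount g * conj (χ g) = conj (∑ x : G, ∑ y : G, χ (x * y * x⁻¹ * y⁻¹)) := by
    simp_rw [commCount_eq_sum, Finset.sum_mul]
    rw [Finset.sum_comm, map_sum]
    apply Finset.sum_congr rfl
    intro x _
    rw [Finset.sum_comm, map_sum]
    apply Finset.sum_congr rfl
    intro y _
    simp_rw [ite_mul, one_mul, zero_mul]
    rw [Finset.sum_ite_eq Finset.univ (x * y * x⁻¹ * y⁻¹), if_pos (Finset.mem_univ _)]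
  rw [classInner_apply, h1, sum_irr_commutator hχ, map_div₀, map_pow, Complex.conj_natCast,
    conj_apply_one (isCharacter_of_isIrrCharacter hχ)]
  field_simp

theorem commCount_eq (g : G) :
    commCount g = (Nat.card G : ℂ) * ∑ χ : IrrCharacter G, (χ : G → ℂ) g / (χ : G → ℂ) 1 := by
  have h := congrFun (classFunction_eq_sum _ commCount_isClassFunction) g
  simp only [Finset.sum_apply, Pi.smul_apply, smul_eq_mul] at h
  rw [h, Finset.mul_sum]
  apply Finset.sum_congr rfl
  intro χ _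
  rw [classInner_commCount χ.2]
  ring

/-- An element is a commutator iff the character sum is nonzero. -/
theorem isCommutator_iff (g : G) :
    (∃ a b : G, g = a * b * a⁻¹ * b⁻¹)
      ↔ ∑ χ : IrrCharacter G, (χ : G → ℂ) g / (χ : G → ℂ) 1 ≠ 0 := by
  have hG : (Nat.card G : ℂ) ≠ 0 := card_ne_zero_complex G
  have h := commCount_eq g
  constructor
  · rintro ⟨a, b, hab⟩ hzero
    rw [hzero, mul_zero] at h
    unfold commCount at h
    have h2 : Nat.card {p : G × G // p.1 * p.2 * p.1⁻¹ * p.2⁻¹ = g} = 0 := by exact_mod_cast h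
    have : Nonempty {p : G × G // p.1 * p.2 * p.1⁻¹ * p.2⁻¹ = g} := ⟨⟨(a, b), hab.symm⟩⟩
    exact (Nat.card_pos (α := {p : G × G // p.1 * p.2 * p.1⁻¹ * p.2⁻¹ = g})).ne' h2
  · intro hne
    have h2 : commCount g ≠ 0 := by
      rw [h]
      exact mul_ne_zero hG hne
    unfold commCount at h2
    have h3 : Nat.card {p : G × G // p.1 * p.2 * p.1⁻¹ * p.2⁻¹ = g} ≠ 0 := by
      intro h0
      apply h2
      rw [h0]
      simp
    have : Nonempty {p : G × G // p.1 * p.2 * p.1⁻¹ * p.2⁻¹ = g} := by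
      by_contra hemp
      rw [not_nonempty_iff] at hemp
      exact h3 Nat.card_of_isEmpty
    obtain ⟨⟨⟨a, b⟩, hab⟩⟩ := this
    exact ⟨a, b, hab.symm⟩

end Cfsg.Agent.Lib.helper3.Central
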