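import Mathlib
import Cfsg.Prelude.Def_Characters
import Cfsg.Agent.Lib.helper3.CommCount

set_option autoImplicit false
set_option linter.style.haveILetI false
set_option linter.unusedSectionVars false

/-!
# Irreducible characters lying over a character of a central subgroup
-/

namespace Cfsg.Agent.Lib.helper3.Central

open Cfsg Module Cfsg.Agent.Lib.helper3.IndFun Cfsg.Agent.Lib.helper3.CharBasic
open Cfsg.Agent.Lib.helper3.Irr
open scoped ComplexConjugate
open Classical

variable {G : Type*} [Group G] [Fintype G]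

/-- Central elements act as scalars in an irreducible representation. -/
theorem exists_scalar_of_central {V : Type*} [AddCommGroup V] [Module ℂ V] [FiniteDimensional ℂ V]
    (ρ : Representation ℂ G V) [ρ.IsIrreducible] (z : G) (hz : z ∈ Subgroup.center G) :
    ∃ c : ℂ, ρ z = c • LinearMap.id := by
  apply exists_eq_smul_id ρ (ρ z)
  intro g v
  have h1 : ρ z * ρ g = ρ g * ρ z := by
    rw [← map_mul, ← map_mul, (Subgroup.mem_center_iff.mp hz g)]
  have := congrArg (fun f : V →ₗ[ℂ] V => f v) h1
  simpa using this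

/-- If `χ ∈ Irr(G)` lies over the irreducible character `ψ` of the central subgroup `N`, then
`χ(g n) = ψ(n) χ(g)`. -/
theorem apply_mul_central (N : Subgroup G) [Fintype N] (hN : N ≤ Subgroup.center G)
    {ψ : N → ℂ} (hψ : IsIrrCharacter N ψ) {χ : G → ℂ} (hχ : IsIrrCharacter G χ)
    (hover : classInner (fun n : N => χ n) ψ ≠ 0) (g : G) (n : N) :
    χ (g * n) = ψ n * χ g := by
  obtain ⟨d, ρ, hirr, rfl⟩ := hχ
  haveI := hirr
  haveI hnt := nontrivial_of_irreducible ρ
  have hV := finrank_ne_zero_of_irreducible ρ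
  -- the scalars
  have hsc : ∀ m : N, ∃ c : ℂ, ρ (m : G) = c • LinearMap.id :=
    fun m => exists_scalar_of_central ρ m (hN m.2)
  choose c hc using hsc
  have hid_inj : ∀ a b : ℂ, a • (LinearMap.id : (Fin d → ℂ) →ₗ[ℂ] (Fin d → ℂ)) = b • LinearMap.id →
      a = b := by
    intro a b hab
    obtain ⟨v, hv⟩ := exists_ne (0 : Fin d → ℂ)
    have := congrArg (fun f : (Fin d → ℂ) →ₗ[ℂ] (Fin d → ℂ) => f v) hab
    simp only [LinearMap.smul_apply, LinearMap.id_coe, id_eq] at this
    exact smul_left_injective ℂ hv this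
  have hc1 : c 1 = 1 := by
    apply hid_inj
    rw [← hc 1, one_smul]
    simp only [OneMemClass.coe_one, map_one]
    rfl
  have hcmul : ∀ a b : N, c (a * b) = c a * c b := by
    intro a b
    apply hid_inj
    rw [← hc (a * b), Subgroup.coe_mul, map_mul, hc a, hc b]
    ext v
    simp only [Module.End.mul_apply, LinearMap.smul_apply, LinearMap.id_coe, id_eq,
      LinearMap.coe_comp, Function.comp_apply, LinearMap.coe_single, Pi.smul_apply, smul_eq_mul]
    ring
  have hχmul : ∀ (g : G) (m : N), ρ.character (g * m) = c m * ρ.character g := by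
    intro g m
    simp only [Representation.character, map_mul, hc m]
    rw [mul_smul_comm, map_smul, smul_eq_mul]
    rfl
  -- `ψ` is multiplicative
  have hNcomm : ∀ a b : N, a * b = b * a := by
    intro a b
    apply Subtype.ext
    exact (Subgroup.mem_center_iff.mp (hN a.2) b).symm
  have hψc := isCharacter_of_isIrrCharacter hψ
  have hψ1 : ψ 1 = 1 := apply_one_eq_one_of_comm hNcomm hψ
  have hψmul := Cfsg.Agent.Lib.helper3.Lin.map_mul_of_apply_one_eq_one hψc hψ1
  have hψnorm : ∀ m : N, ψ m * conj (ψ m) = 1 := by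
    intro m
    have h1 : ψ m ^ orderOf m = 1 :=
      Cfsg.Agent.Lib.helper3.Lin.pow_eq_one_of_linear hψc hψ1 m _ (pow_orderOf_eq_one m)
    have h2 : ‖ψ m‖ = 1 := Complex.norm_eq_one_of_pow_eq_one h1 (orderOf_pos m).ne'
    rw [Complex.mul_conj, Complex.normSq_eq_norm_sq, h2]
    simp
  -- the twisted sum
  set f : N → ℂ := fun m => c m * conj (ψ m) with hf
  have hfmul : ∀ a b : N, f (a * b) = f a * f b := by
    intro a b
    simp only [hf, hcmul, hψmul, map_mul]
    ring
  have hS : ∑ m : N, f m ≠ 0 := by
    intro h0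
    apply hover
    rw [classInner_apply]
    have : ∑ m : N, ρ.character (m : G) * conj (ψ m)
        = ρ.character 1 * ∑ m : N, f m := by
      rw [Finset.mul_sum]
      apply Finset.sum_congr rfl
      intro m _
      have := hχmul 1 m
      rw [one_mul] at this
      rw [this, hf]
      ring
    rw [this, h0, mul_zero, mul_zero]
  have hf1 : ∀ m : N, f m = 1 := by
    intro m
    have h1 : f m * ∑ a : N, f a = ∑ a : N, f a := by
      rw [Finset.mul_sum]
      simp_rw [← hfmul]
      exact Fintype.sum_equiv (Equiv.mulLeft m) _ _ (fun a => rfl)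
    have h2 : (f m - 1) * ∑ a : N, f a = 0 := by rw [sub_mul, h1, one_mul, sub_self]
    rcases mul_eq_zero.mp h2 with h | h
    · exact sub_eq_zero.mp h
    · exact absurd h hS
  have hceq : ∀ m : N, c m = ψ m := by
    intro m
    have h1 := hf1 m
    simp only [hf] at h1
    calc c m = c m * (ψ m * conj (ψ m)) := by rw [hψnorm, mul_one]
      _ = (c m * conj (ψ m)) * ψ m := by ring
      _ = ψ m := by rw [h1, one_mul]
  rw [hχmul, hceq]

end Cfsg.Agent.Lib.helper3.Central
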