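import Mathlib
import Cfsg.Prelude.Def_Characters
import Cfsg.Agent.Lib.helper3.CentralChar
import Cfsg.Agent.Lib.helper3.CharBasic2

set_option autoImplicit false
set_option linter.style.haveILetI false
set_option linter.unusedSectionVars false

/-!
# Degrees of constituents, linear constituents and commutators
-/

namespace Cfsg.Agent.Lib.helper3.Central

open Cfsg Module Cfsg.Agent.Lib.helper3.IndFun Cfsg.Agent.Lib.helper3.CharBasic
open Cfsg.Agent.Lib.helper3.Irr
open scoped ComplexConjugate
open Classical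

variable {G : Type*} [Group G] [Fintype G]

/-- The degree of an irreducible character is a positive divisor of the group order. -/
theorem irr_degree_dvd_card {χ : G → ℂ} (hχ : IsIrrCharacter G χ) :
    ∃ n : ℕ, χ 1 = n ∧ n ∣ Nat.card G ∧ 0 < n := by
  obtain ⟨d, ρ, hirr, rfl⟩ := hχ
  haveI := hirr
  refine ⟨finrank ℂ (Fin d → ℂ), Representation.char_one ρ, finrank_dvd_card ρ, ?_⟩
  haveI := nontrivial_of_irreducible ρ
  exact Module.finrank_pos

/-- The degree of a constituent is at most the degree of the character. -/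
theorem constituent_degree_le {χ : G → ℂ} (hχ : IsCharacter G χ) (ψ : IrrCharacter G)
    (h : classInner χ (ψ : G → ℂ) ≠ 0) {a b : ℕ} (ha : χ 1 = a) (hb : (ψ : G → ℂ) 1 = b) :
    b ≤ a := by
  have hsub := isCharacter_sub_of_classInner_ne_zero hχ ψ h
  have := degree_le_of_isCharacter_sub hχ (isCharacter_of_isIrrCharacter ψ.2) hsub
  rw [ha, hb] at this
  simp only [Complex.natCast_re] at this
  exact_mod_cast this

/-- A character all of whose constituents are linear is trivial on commutators. -/
theorem apply_commutator_of_linear_constituents {χ : G → ℂ} (hχ : IsCharacter G χ)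
    (hlin : ∀ ψ : IrrCharacter G, classInner χ (ψ : G → ℂ) ≠ 0 → (ψ : G → ℂ) 1 = 1) (a b : G) :
    χ (a * b * a⁻¹ * b⁻¹) = χ 1 := by
  have hdec := isCharacter_eq_sum_classInner hχ
  have h1 := congrFun hdec (a * b * a⁻¹ * b⁻¹)
  have h2 := congrFun hdec 1
  simp only [Finset.sum_apply, Pi.smul_apply, smul_eq_mul] at h1 h2
  rw [h1, h2]
  apply Finset.sum_congr rfl
  intro ψ _
  by_cases h0 : classInner χ (ψ : G → ℂ) = 0
  · rw [h0, zero_mul, zero_mul]
  · have hψ1 := hlin ψ h0
    have hψc := isCharacter_of_isIrrCharacter ψ.2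
    have hmul := Cfsg.Agent.Lib.helper3.Lin.map_mul_of_apply_one_eq_one hψc hψ1
    congr 1
    rw [hmul, hmul, hmul, hψ1]
    have e1 : (ψ : G → ℂ) a * (ψ : G → ℂ) a⁻¹ = 1 := by rw [← hmul, mul_inv_cancel, hψ1]
    have e2 : (ψ : G → ℂ) b * (ψ : G → ℂ) b⁻¹ = 1 := by rw [← hmul, mul_inv_cancel, hψ1]
    calc (ψ : G → ℂ) a * (ψ : G → ℂ) b * (ψ : G → ℂ) a⁻¹ * (ψ : G → ℂ) b⁻¹
        = ((ψ : G → ℂ) a * (ψ : G → ℂ) a⁻¹) * ((ψ : G → ℂ) b * (ψ : G → ℂ) b⁻¹) := by ring
      _ = 1 := by rw [e1, e2, mul_one]

/-- A faithful representation whose constituents are all linear has abelian group. -/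
theorem comm_of_faithful_of_linear_constituents {V : Type*} [AddCommGroup V] [Module ℂ V]
    [FiniteDimensional ℂ V] (ρ : Representation ℂ G V) (hfaithful : Function.Injective ρ)
    (hlin : ∀ ψ : IrrCharacter G, classInner ρ.character (ψ : G → ℂ) ≠ 0 → (ψ : G → ℂ) 1 = 1)
    (a b : G) : a * b = b * a := by
  have hχ : IsCharacter G ρ.character := isCharacter_of_rep ρ
  have h1 := apply_commutator_of_linear_constituents hχ hlin a b
  rw [Representation.char_one] at h1
  have h2 := (character_eq_finrank_iff ρ _).mp h1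
  have h3 : a * b * a⁻¹ * b⁻¹ = 1 := by
    apply hfaithful
    rw [h2, map_one]
    rfl
  calc a * b = (a * b * a⁻¹ * b⁻¹) * (b * a) := by group
    _ = b * a := by rw [h3, one_mul]

/-- A group with a faithful representation of degree less than every prime divisor of its order
is abelian. -/
theorem comm_of_faithful_of_small_degree {V : Type*} [AddCommGroup V] [Module ℂ V]
    [FiniteDimensional ℂ V] (ρ : Representation ℂ G V) (hfaithful : Function.Injective ρ)
    (hdeg : ∀ p : ℕ, p.Prime → p ∣ Nat.card G → finrank ℂ V < p) (a b : G) : a * b = b * a := by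
  apply comm_of_faithful_of_linear_constituents ρ hfaithful
  intro ψ hψ
  have hχ : IsCharacter G ρ.character := isCharacter_of_rep ρ
  obtain ⟨n, hn, hndvd, hnpos⟩ := irr_degree_dvd_card ψ.2
  have hle := constituent_degree_le hχ ψ hψ (Representation.char_one ρ) hn
  rw [hn]
  by_cases hn1 : n = 1
  · rw [hn1]; simp
  · exfalso
    obtain ⟨q, hq, hqn⟩ := Nat.exists_prime_and_dvd hn1
    have h1 := hdeg q hq (dvd_trans hqn hndvd)
    have h2 := Nat.le_of_dvd hnpos hqn
    omega

end Cfsg.Agent.Lib.helper3.Central
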