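import Mathlib
import Cfsg.Prelude.Def_Characters
import Cfsg.Agent.Lib.helper3.Degrees

set_option autoImplicit false
set_option linter.style.haveILetI false
set_option linter.unusedSectionVars false

/-!
# Inflation of characters from a quotient group
-/

namespace Cfsg.Agent.Lib.helper3.Irr

open Cfsg Module Cfsg.Agent.Lib.helper3.IndFun Cfsg.Agent.Lib.helper3.CharBasic
open scoped ComplexConjugate
open Classical

variable {G : Type*} [Group G]

/-- Inflation of a function on the quotient group. -/
def inflate (N : Subgroup G) [N.Normal] (ψ : G ⧸ N → ℂ) : G → ℂ := fun g => ψ (g : G ⧸ N)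

theorem inflate_apply (N : Subgroup G) [N.Normal] (ψ : G ⧸ N → ℂ) (g : G) :
    inflate N ψ g = ψ (g : G ⧸ N) := rfl

theorem inflate_injective (N : Subgroup G) [N.Normal] : Function.Injective (inflate N) := by
  intro ψ φ h
  funext x
  obtain ⟨g, rfl⟩ := QuotientGroup.mk_surjective x
  exact congrFun h g

/-- Sums over `G` of functions factoring through `G ⧸ N`. -/
theorem sum_comp_mk [Fintype G] (N : Subgroup G) [N.Normal] [Fintype (G ⧸ N)] (f : G ⧸ N → ℂ) :
    ∑ g : G, f (g : G ⧸ N) = (Nat.card N : ℂ) * ∑ x : G ⧸ N, f x := by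
  rw [← Finset.sum_fiberwise (s := Finset.univ) (g := fun g : G => (g : G ⧸ N))]
  rw [Finset.mul_sum]
  apply Finset.sum_congr rfl
  intro y _
  have h2 : ∀ x ∈ Finset.univ.filter (fun x : G => (x : G ⧸ N) = y), f (x : G ⧸ N) = f y := by
    intro x hx
    rw [(Finset.mem_filter.mp hx).2]
  rw [Finset.sum_congr rfl h2, Finset.sum_const, nsmul_eq_mul]
  congr 2
  obtain ⟨y0, rfl⟩ := QuotientGroup.mk_surjective y
  letI : Fintype N := Fintype.ofFinite N
  rw [Nat.card_eq_fintype_card, ← Finset.card_univ]
  symm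
  apply Finset.card_bij (fun (a : N) _ => y0 * a)
  · intro a _
    simp only [Finset.mem_filter, Finset.mem_univ, true_and]
    rw [QuotientGroup.mk_mul]
    have : ((a : G) : G ⧸ N) = 1 := (QuotientGroup.eq_one_iff _).mpr a.2
    rw [this, mul_one]
  · intro a _ b _ hab
    exact Subtype.ext (mul_left_cancel hab)
  · intro x hx
    simp only [Finset.mem_filter, Finset.mem_univ, true_and] at hx
    have : y0⁻¹ * x ∈ N := by
      rw [← QuotientGroup.eq]
      exact hx.symm
    exact ⟨⟨y0⁻¹ * x, this⟩, Finset.mem_univ _, by simp⟩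

theorem classInner_inflate [Fintype G] (N : Subgroup G) [N.Normal] [Fintype (G ⧸ N)]
    (ψ φ : G ⧸ N → ℂ) : classInner (inflate N ψ) (inflate N φ) = classInner ψ φ := by
  rw [classInner_apply, classInner_apply]
  have := sum_comp_mk N (fun x => ψ x * conj (φ x))
  simp only [inflate_apply]
  rw [this]
  have h1 : Nat.card G = Nat.card N * Nat.card (G ⧸ N) := by
    rw [← Subgroup.index_eq_card, Subgroup.card_mul_index]
  rw [h1]
  have hN0 : (Nat.card N : ℂ) ≠ 0 := card_ne_zero_complex N
  have hQ0 : (Nat.card (G ⧸ N) : ℂ) ≠ 0 := card_ne_zero_complex _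
  push_cast
  field_simp

theorem isIrrCharacter_inflate [Finite G] (N : Subgroup G) [N.Normal] {ψ : G ⧸ N → ℂ}
    (hψ : IsIrrCharacter (G ⧸ N) ψ) : IsIrrCharacter G (inflate N ψ) := by
  letI : Fintype G := Fintype.ofFinite G
  letI : Fintype (G ⧸ N) := Fintype.ofFinite _
  apply isIrrCharacter_of_classInner_self_eq_one
  · exact isCharacter_comp (isCharacter_of_isIrrCharacter hψ) (QuotientGroup.mk' N)
  · rw [classInner_inflate, irr_classInner_self hψ]

/-- Inflated characters are constant on the normal subgroup. -/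
theorem inflate_apply_of_mem (N : Subgroup G) [N.Normal] (ψ : G ⧸ N → ℂ) {n : G} (hn : n ∈ N) :
    inflate N ψ n = inflate N ψ 1 := by
  rw [inflate_apply, inflate_apply]
  congr 1
  rw [QuotientGroup.mk_one]
  exact (QuotientGroup.eq_one_iff _).mpr hn

end Cfsg.Agent.Lib.helper3.Irr
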