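import Mathlib
import Cfsg.Prelude.Def_Characters
import Cfsg.Agent.Lib.helper3.Inflate

set_option autoImplicit false
set_option linter.style.haveILetI false
set_option linter.unusedSectionVars false

/-!
# Vanishing of characters where a normal subgroup acts freely
-/

namespace Cfsg.Agent.Lib.helper3.Irr

open Cfsg Module Cfsg.Agent.Lib.helper3.IndFun Cfsg.Agent.Lib.helper3.CharBasic
open scoped ComplexConjugate
open Classical

variable {G : Type*} [Group G]

theorem sum_normSq_eq_card_centralizer [Fintype G] (g : G) :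
    ∑ χ : IrrCharacter G, Complex.normSq ((χ : G → ℂ) g)
      = (Nat.card (Subgroup.centralizer ({g} : Set G)) : ℝ) := by
  have h := (column_orthogonality g g).1 (IsConj.refl g)
  apply Complex.ofReal_injective
  rw [Complex.ofReal_sum]
  simp only [Complex.ofReal_natCast]
  rw [← h]
  apply Finset.sum_congr rfl
  intro χ _
  rw [Complex.mul_conj]

theorem character_eq_zero_of_free [Fintype G] {V : Type*} [AddCommGroup V] [Module ℂ V]
    [FiniteDimensional ℂ V] (ρ : Representation ℂ G V) [ρ.IsIrreducible] (H : Subgroup G)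
    [H.Normal] (hker : ∃ h ∈ H, ρ h ≠ LinearMap.id) (g : G)
    (hg : ∀ h ∈ H, h * g = g * h → h = 1) : ρ.character g = 0 := by
  letI : Fintype (G ⧸ H) := Fintype.ofFinite _
  set χ : IrrCharacter G := ⟨ρ.character, isIrrCharacter_of_rep ρ⟩ with hχ
  set ι : IrrCharacter (G ⧸ H) → IrrCharacter G :=
    fun ψ => ⟨inflate H ψ, isIrrCharacter_inflate H ψ.2⟩ with hι
  have hιinj : Function.Injective ι := by
    intro a b hab
    apply Subtype.ext
    apply inflate_injective H
    exact congrArg Subtype.val hab
  set T : Finset (IrrCharacter G) := Finset.univ.image ι with hT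
  have hχT : χ ∉ T := by
    intro hmem
    obtain ⟨ψ, -, hψ⟩ := Finset.mem_image.mp hmem
    obtain ⟨h, hh, hne⟩ := hker
    apply hne
    rw [← character_eq_finrank_iff, ← Representation.char_one ρ]
    have h1 : ρ.character = inflate H ψ := by
      have := congrArg Subtype.val hψ
      exact this.symm
    rw [h1]
    exact inflate_apply_of_mem H ψ hh
  -- sum over the image
  have hsumT : ∑ χ' ∈ T, Complex.normSq ((χ' : G → ℂ) g)
      = (Nat.card (Subgroup.centralizer ({(g : G ⧸ H)} : Set (G ⧸ H))) : ℝ) := by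
    rw [hT, Finset.sum_image (fun a _ b _ hab => hιinj hab),
      ← sum_normSq_eq_card_centralizer (g : G ⧸ H)]
    rfl
  have hle : ∑ χ' ∈ insert χ T, Complex.normSq ((χ' : G → ℂ) g)
      ≤ ∑ χ' : IrrCharacter G, Complex.normSq ((χ' : G → ℂ) g) :=
    Finset.sum_le_univ_sum_of_nonneg (fun χ' => Complex.normSq_nonneg _)
  rw [Finset.sum_insert hχT, hsumT, sum_normSq_eq_card_centralizer g] at hle
  -- comparison of centralizers
  have hcard : Nat.card (Subgroup.centralizer ({g} : Set G))
      ≤ Nat.card (Subgroup.centralizer ({(g : G ⧸ H)} : Set (G ⧸ H))) := by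
    apply Nat.card_le_card_of_injective
      (fun c : Subgroup.centralizer ({g} : Set G) =>
        (⟨((c : G) : G ⧸ H), by
          rw [Subgroup.mem_centralizer_iff]
          intro w hw
          rw [Set.mem_singleton_iff] at hw
          rw [hw, ← QuotientGroup.mk_mul, ← QuotientGroup.mk_mul]
          congr 1
          exact (Subgroup.mem_centralizer_iff.mp c.2) g rfl⟩ :
          Subgroup.centralizer ({(g : G ⧸ H)} : Set (G ⧸ H))))
    intro c c' hcc
    have h1 : ((c : G) : G ⧸ H) = ((c' : G) : G ⧸ H) := congrArg Subtype.val hcc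
    have h2 : (c : G)⁻¹ * c' ∈ H := QuotientGroup.eq.mp h1
    have h3 : (c : G)⁻¹ * c' ∈ Subgroup.centralizer ({g} : Set G) :=
      Subgroup.mul_mem _ (Subgroup.inv_mem _ c.2) c'.2
    have h4 := hg _ h2 ((Subgroup.mem_centralizer_iff.mp h3) g rfl).symm
    apply Subtype.ext
    exact inv_mul_eq_one.mp h4
  have hcardR : (Nat.card (Subgroup.centralizer ({g} : Set G)) : ℝ)
      ≤ (Nat.card (Subgroup.centralizer ({(g : G ⧸ H)} : Set (G ⧸ H))) : ℝ) := by
    exact_mod_cast hcard
  have hzero : Complex.normSq (ρ.character g) ≤ 0 := by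
    have : Complex.normSq ((χ : G → ℂ) g) = Complex.normSq (ρ.character g) := rfl
    rw [this] at hle
    linarith
  exact Complex.normSq_eq_zero.mp (le_antisymm hzero (Complex.normSq_nonneg _))

end Cfsg.Agent.Lib.helper3.Irr
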