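import Mathlib
import Cfsg.Prelude.Def_Characters
import Cfsg.Agent.Lib.helper3.Vanish

set_option autoImplicit false
set_option linter.style.haveILetI false
set_option linter.unusedSectionVars false

/-!
# Characters with a normal subgroup in the kernel come from the quotient
-/

namespace Cfsg.Agent.Lib.helper3.Irr

open Cfsg Module Cfsg.Agent.Lib.helper3.IndFun Cfsg.Agent.Lib.helper3.CharBasic
open scoped ComplexConjugate
open Classical
open scoped commutatorElement

variable {G : Type*} [Group G]

/-- An irreducible character constant on the cosets of `N` is inflated from `G ⧸ N`. -/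
theorem exists_eq_inflate [Finite G] {χ : G → ℂ} (hχ : IsIrrCharacter G χ) (N : Subgroup G)
    [N.Normal] (hconst : ∀ g n : G, n ∈ N → χ (g * n) = χ g) :
    ∃ ψ : G ⧸ N → ℂ, IsIrrCharacter (G ⧸ N) ψ ∧ χ = inflate N ψ := by
  letI : Fintype G := Fintype.ofFinite G
  letI : Fintype (G ⧸ N) := Fintype.ofFinite _
  -- descend `χ`
  set f : G ⧸ N → ℂ := fun x => χ (Quotient.out x) with hf
  have hfχ : inflate N f = χ := by
    funext g
    rw [inflate_apply, hf]
    simp only
    have h1 : ((Quotient.out (g : G ⧸ N) : G) : G ⧸ N) = (g : G ⧸ N) := Quotient.out_eq _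
    have h2 : g⁻¹ * Quotient.out (g : G ⧸ N) ∈ N := QuotientGroup.eq.mp h1.symm
    have h3 := hconst g _ h2
    rw [← h3]
    congr 1
    group
  have hfcf : IsClassFunction (G ⧸ N) f := by
    intro x y
    obtain ⟨a, rfl⟩ := QuotientGroup.mk_surjective x
    obtain ⟨b, rfl⟩ := QuotientGroup.mk_surjective y
    have e1 : f ((b : G ⧸ N) * (a : G ⧸ N) * (b : G ⧸ N)⁻¹) = χ (b * a * b⁻¹) := by
      rw [← hfχ, inflate_apply]
      simp
    have e2 : f (a : G ⧸ N) = χ a := by
      rw [← hfχ, inflate_apply]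
    rw [e1, e2]
    exact isClassFunction_of_isCharacter (isCharacter_of_isIrrCharacter hχ) a b
  by_contra hcon
  push Not at hcon
  have hzero : f = 0 := by
    apply eq_zero_of_forall_classInner_eq_zero f hfcf
    intro ψ
    rw [← classInner_inflate N f ψ, hfχ]
    apply irr_classInner_eq_zero hχ (isIrrCharacter_inflate N ψ.2)
    exact hcon ψ ψ.2
  apply apply_one_ne_zero hχ
  rw [← hfχ, hzero]
  rfl

/-- The kernel condition in terms of character values. -/
theorem apply_mul_of_apply_eq_one [Finite G] {χ : G → ℂ} (hχ : IsCharacter G χ) {n : G}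
    (hn : χ n = χ 1) (g : G) : χ (g * n) = χ g := by
  obtain ⟨d, ρ, rfl⟩ := hχ
  rw [Representation.char_one] at hn
  have := (character_eq_finrank_iff ρ n).mp hn
  simp only [Representation.character, map_mul, this]
  rfl

/-- The number of linear characters is the index of the commutator subgroup. -/
theorem card_linear_eq_index_commutator [Finite G] :
    Nat.card {χ : IrrCharacter G // (χ : G → ℂ) 1 = 1} = (commutator G).index := by
  letI : Fintype G := Fintype.ofFinite G
  set N : Subgroup G := commutator G with hN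
  letI : Fintype (G ⧸ N) := Fintype.ofFinite _
  have hQcomm : ∀ a b : G ⧸ N, a * b = b * a := by
    intro a b
    obtain ⟨a, rfl⟩ := QuotientGroup.mk_surjective a
    obtain ⟨b, rfl⟩ := QuotientGroup.mk_surjective b
    rw [← QuotientGroup.mk_mul, ← QuotientGroup.mk_mul, QuotientGroup.eq]
    have : (a * b)⁻¹ * (b * a) = ⁅b⁻¹, a⁻¹⁆ := by
      rw [commutatorElement_def]; group
    rw [this, hN, commutator_eq_closure]
    exact Subgroup.subset_closure ⟨b⁻¹, a⁻¹, rfl⟩
  -- the bijection with `Irr (G ⧸ N)`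
  have hequiv : Nat.card {χ : IrrCharacter G // (χ : G → ℂ) 1 = 1}
      = Nat.card (IrrCharacter (G ⧸ N)) := by
    symm
    apply Nat.card_congr
    refine Equiv.ofBijective (fun ψ => ⟨⟨inflate N ψ, isIrrCharacter_inflate N ψ.2⟩, ?_⟩) ⟨?_, ?_⟩
    · show inflate N (ψ : G ⧸ N → ℂ) 1 = 1
      rw [inflate_apply, QuotientGroup.mk_one]
      exact apply_one_eq_one_of_comm hQcomm ψ.2
    · intro a b hab
      apply Subtype.ext
      apply inflate_injective N
      have := congrArg (fun z : {χ : IrrCharacter G // (χ : G → ℂ) 1 = 1} =>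
        ((z : IrrCharacter G) : G → ℂ)) hab
      exact this
    · intro χ
      have hχc := isCharacter_of_isIrrCharacter χ.1.2
      have hmul := Cfsg.Agent.Lib.helper3.Lin.map_mul_of_apply_one_eq_one hχc χ.2
      -- `χ` is trivial on the commutator subgroup
      have hker : ∀ n ∈ N, (χ.1 : G → ℂ) n = 1 := by
        intro n hn
        rw [hN, commutator_eq_closure] at hn
        refine Subgroup.closure_induction (p := fun x _ => (χ.1 : G → ℂ) x = 1) ?_ ?_ ?_ ?_ hn
        · rintro x ⟨a, b, rfl⟩
          rw [commutatorElement_def, hmul, hmul, hmul]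
          have e1 : (χ.1 : G → ℂ) a * (χ.1 : G → ℂ) a⁻¹ = 1 := by
            rw [← hmul, mul_inv_cancel, χ.2]
          have e2 : (χ.1 : G → ℂ) b * (χ.1 : G → ℂ) b⁻¹ = 1 := by
            rw [← hmul, mul_inv_cancel, χ.2]
          calc (χ.1 : G → ℂ) a * (χ.1 : G → ℂ) b * (χ.1 : G → ℂ) a⁻¹ * (χ.1 : G → ℂ) b⁻¹
              = ((χ.1 : G → ℂ) a * (χ.1 : G → ℂ) a⁻¹) * ((χ.1 : G → ℂ) b * (χ.1 : G → ℂ) b⁻¹) := by
                ring
            _ = 1 := by rw [e1, e2, mul_one]
        · exact χ.2
        · intro x y _ _ hx hy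
          rw [hmul, hx, hy, mul_one]
        · intro x _ hx
          have : (χ.1 : G → ℂ) x * (χ.1 : G → ℂ) x⁻¹ = 1 := by
            rw [← hmul, mul_inv_cancel, χ.2]
          rw [hx, one_mul] at this
          exact this
      obtain ⟨ψ, hψ, hψ2⟩ := exists_eq_inflate χ.1.2 N (by
        intro g n hn
        rw [hmul, hker n hn, mul_one])
      refine ⟨⟨ψ, hψ⟩, ?_⟩
      apply Subtype.ext
      apply Subtype.ext
      exact hψ2.symm
  rw [hequiv, card_irr_eq_card_conjClasses, Subgroup.index_eq_card]
  -- conjugacy classes of an abelian group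
  apply Nat.card_congr
  refine Equiv.ofBijective (fun C => Quotient.out C) ⟨Quotient.out_injective, ?_⟩
  intro x
  refine ⟨ConjClasses.mk x, ?_⟩
  have h1 : ConjClasses.mk (Quotient.out (ConjClasses.mk x)) = ConjClasses.mk x :=
    Quotient.out_eq _
  obtain ⟨c, hc⟩ := isConj_iff.mp (ConjClasses.mk_eq_mk_iff_isConj.mp h1)
  calc Quotient.out (ConjClasses.mk x)
      = c * Quotient.out (ConjClasses.mk x) * c⁻¹ := by
        rw [hQcomm c, mul_assoc, mul_inv_cancel, mul_one]
    _ = x := hc

end Cfsg.Agent.Lib.helper3.Irr
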