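import Mathlib
import Cfsg.Prelude.Def_Characters
import Cfsg.Agent.Lib.helper3.AlgInt
import Cfsg.Agent.Lib.helper3.CharBasic2

set_option autoImplicit false
set_option linter.style.haveILetI false
set_option linter.unusedSectionVars false

/-!
# Congruences modulo `1 - ζ` for roots of unity of prime power order
-/

namespace Cfsg.Agent.Lib.helper3.AlgInt

open Polynomial

/-- If an integer is `(1 - ζ)` times an algebraic integer, for `ζ` a primitive `p^(j+1)`-th root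
of unity, then `p` divides it. -/
theorem prime_dvd_of_eq_one_sub_mul_pow {p : ℕ} (hp : p.Prime) (j : ℕ) {ζ : ℂ}
    (hζ : IsPrimitiveRoot ζ (p ^ (j + 1)))
    (n : ℤ) (ω : ℂ) (hω : IsIntegral ℤ ω) (h : (n : ℂ) = (1 - ζ) * ω) : (p : ℤ) ∣ n := by
  haveI : Fact p.Prime := ⟨hp⟩
  have hNpos : 0 < p ^ (j + 1) := pow_pos hp.pos _
  have hprodp : ∏ μ ∈ primitiveRoots (p ^ (j + 1)) ℂ, (1 - μ) = (p : ℂ) := by
    have h1 := cyclotomic_eq_prod_X_sub_primitiveRoots hζ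
    have h2 := congrArg (eval 1) h1
    rw [eval_one_cyclotomic_prime_pow, eval_prod] at h2
    rw [h2]
    apply Finset.prod_congr rfl
    intro μ _
    simp
  have hk : ∀ μ ∈ primitiveRoots (p ^ (j + 1)) ℂ,
      ∃ w : ℂ, IsIntegral ℤ w ∧ (n : ℂ) = (1 - μ) * w := by
    intro μ hμ
    have hμ' : IsPrimitiveRoot μ (p ^ (j + 1)) := (mem_primitiveRoots hNpos).mp hμ
    haveI : NeZero (p ^ (j + 1)) := ⟨hNpos.ne'⟩
    obtain ⟨m, -, hm⟩ := hμ'.eq_pow_of_pow_eq_one hζ.pow_eq_one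
    have hμint : IsIntegral ℤ μ := hμ'.isIntegral hNpos
    refine ⟨(∑ i ∈ Finset.range m, μ ^ i) * ω, ?_, ?_⟩
    · apply IsIntegral.mul _ hω
      apply IsIntegral.sum
      intro i _
      exact hμint.pow _
    · rw [← mul_assoc, mul_neg_geom_sum, hm, h]
  choose! w hw1 hw2 using hk
  set r := (primitiveRoots (p ^ (j + 1)) ℂ).card with hr
  have hprod : (n : ℂ) ^ r = (p : ℂ) * ∏ μ ∈ primitiveRoots (p ^ (j + 1)) ℂ, w μ := by
    have h1 : (n : ℂ) ^ r = ∏ μ ∈ primitiveRoots (p ^ (j + 1)) ℂ, ((1 - μ) * w μ) := by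
      rw [hr, ← Finset.prod_const]
      exact Finset.prod_congr rfl (fun μ hμ => hw2 μ hμ)
    rw [h1, Finset.prod_mul_distrib, hprodp]
  have hW : IsIntegral ℤ (∏ μ ∈ primitiveRoots (p ^ (j + 1)) ℂ, w μ) :=
    IsIntegral.prod _ (fun μ hμ => hw1 μ hμ)
  have hdvd : (p : ℤ) ∣ n ^ r := by
    apply int_dvd_of_eq_mul_isIntegral hW
    · push_cast
      exact hprod
    · exact_mod_cast hp.ne_zero
  exact Int.Prime.dvd_pow' hp hdvd

open Cfsg Module Cfsg.Agent.Lib.helper3.CharBasic in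
/-- For `g` of `p`-power order `p^(j+1)` dividing, `χ(1) - χ(g)` is divisible by `1 - ζ`. -/
theorem character_one_sub_character {G : Type*} [Group G] [Finite G] {V : Type*} [AddCommGroup V]
    [Module ℂ V] [FiniteDimensional ℂ V] (ρ : Representation ℂ G V) (g : G) (N : ℕ) (hN : 0 < N)
    (hg : g ^ N = 1) {ζ : ℂ} (hζ : IsPrimitiveRoot ζ N) :
    ∃ ω : ℂ, IsIntegral ℤ ω ∧ (finrank ℂ V : ℂ) - ρ.character g = (1 - ζ) * ω := by
  haveI : NeZero N := ⟨hN.ne'⟩
  obtain ⟨I, _, v, μ, hf, hμ⟩ := exists_eigenbasis ρ g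
  have hμN : ∀ i, μ i ^ N = 1 := by
    intro i
    have hdvd : orderOf g ∣ N := orderOf_dvd_of_pow_eq_one hg
    obtain ⟨c, hc⟩ := hdvd
    rw [hc, pow_mul, hμ i, one_pow]
  have hk : ∀ i, ∃ k : ℕ, ζ ^ k = μ i := by
    intro i
    obtain ⟨k, -, hk⟩ := hζ.eq_pow_of_pow_eq_one (hμN i)
    exact ⟨k, hk⟩
  choose k hk using hk
  have hζint : IsIntegral ℤ ζ := hζ.isIntegral hN
  refine ⟨∑ i, ∑ l ∈ Finset.range (k i), ζ ^ l, ?_, ?_⟩
  · apply IsIntegral.sum
    intro i _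
    apply IsIntegral.sum
    intro l _
    exact hζint.pow l
  · rw [character_eq_sum_of_eigenbasis ρ g v μ hf, ← card_eq_finrank_of_basis v, Finset.mul_sum]
    have : (Fintype.card I : ℂ) = ∑ _i : I, (1 : ℂ) := by simp
    rw [this, ← Finset.sum_sub_distrib]
    apply Finset.sum_congr rfl
    intro i _
    rw [mul_neg_geom_sum, hk i]

end Cfsg.Agent.Lib.helper3.AlgInt
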