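import Mathlib
import Cfsg.Prelude.Def_Characters
import Cfsg.Agent.Lib.helper3.Irr7
import Cfsg.Agent.Lib.helper3.Degrees
import Cfsg.Agent.Lib.helper3.AlgInt2

set_option autoImplicit false
set_option linter.style.haveILetI false
set_option linter.unusedSectionVars false

/-!
# Small lemmas: characters separate the identity; nonvanishing on `p`-elements
-/

namespace Cfsg.Agent.Lib.helper3.Irr

open Cfsg Module Cfsg.Agent.Lib.helper3.IndFun Cfsg.Agent.Lib.helper3.CharBasic
open scoped ComplexConjugate

variable {G : Type*} [Group G]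

/-- An element at which every irreducible character takes its degree is the identity. -/
theorem eq_one_of_forall_irr_apply_eq [Fintype G] (g : G)
    (hall : ∀ ψ : IrrCharacter G, (ψ : G → ℂ) g = (ψ : G → ℂ) 1) : g = 1 := by
  classical
  by_contra hg1
  have h1 := sum_irr_mul_conj g (1 : G)
  have h2 := sum_irr_mul_conj (1 : G) (1 : G)
  simp only [hall] at h1
  rw [h2] at h1
  have h3 : IsEmpty {y : G // y * 1 * y⁻¹ = g} := by
    constructor
    rintro ⟨y, hy⟩
    apply hg1
    rw [← hy]
    simp
  have h4 : Nat.card {y : G // y * 1 * y⁻¹ = (1 : G)} = Nat.card G := by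
    apply Nat.card_congr
    exact Equiv.subtypeUnivEquiv (fun y => by simp)
  rw [h4, @Nat.card_of_isEmpty _ h3, Nat.cast_zero] at h1
  exact card_ne_zero_complex G h1

/-- If all irreducible characters are linear, the group is abelian. -/
theorem comm_of_all_linear [Fintype G] (h : ∀ ψ : IrrCharacter G, (ψ : G → ℂ) 1 = 1)
    (a b : G) : a * b = b * a := by
  have h1 : a * b * a⁻¹ * b⁻¹ = 1 := by
    apply eq_one_of_forall_irr_apply_eq
    intro ψ
    apply Cfsg.Agent.Lib.helper3.Central.apply_commutator_of_linear_constituents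
      (isCharacter_of_isIrrCharacter ψ.2)
    intro φ _
    exact h φ
  have : a * b = (a * b * a⁻¹ * b⁻¹) * (b * a) := by group
  rw [this, h1, one_mul]

/-- A character of degree prime to `p` does not vanish at elements of `p`-power order. -/
theorem character_ne_zero_of_prime_pow_order [Finite G] {V : Type*} [AddCommGroup V]
    [Module ℂ V] [FiniteDimensional ℂ V] (ρ : Representation ℂ G V) (p : ℕ) (hp : p.Prime)
    (hpn : ¬ p ∣ finrank ℂ V) (x : G) (k : ℕ) (hx : x ^ (p ^ k) = 1) :
    ρ.character x ≠ 0 := by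
  intro h0
  cases k with
  | zero =>
    rw [pow_zero, pow_one] at hx
    rw [hx, Representation.char_one] at h0
    apply hpn
    have : finrank ℂ V = 0 := by exact_mod_cast h0
    rw [this]
    exact dvd_zero p
  | succ j =>
    have hN : 0 < p ^ (j + 1) := pow_pos hp.pos _
    have hζ : IsPrimitiveRoot (Complex.exp (2 * Real.pi * Complex.I / ((p ^ (j + 1) : ℕ) : ℂ)))
        (p ^ (j + 1)) := Complex.isPrimitiveRoot_exp _ hN.ne'
    obtain ⟨ω, hω, hω2⟩ := Cfsg.Agent.Lib.helper3.AlgInt.character_one_sub_character ρ x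
      (p ^ (j + 1)) hN hx hζ
    rw [h0, sub_zero] at hω2
    have h1 : (((finrank ℂ V : ℕ) : ℤ) : ℂ) = (1 - Complex.exp (2 * Real.pi * Complex.I /
        ((p ^ (j + 1) : ℕ) : ℂ))) * ω := by
      rw [← hω2]
      simp
    have h2 := Cfsg.Agent.Lib.helper3.AlgInt.prime_dvd_of_eq_one_sub_mul_pow hp j hζ _ ω hω h1
    apply hpn
    exact_mod_cast h2

end Cfsg.Agent.Lib.helper3.Irr
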