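import Mathlib
import Cfsg.Prelude.Def_Characters
import Cfsg.Agent.Lib.helper3.IndFun

set_option autoImplicit false
set_option linter.style.haveILetI false

/-!
# Induction from the normalizer of a TI-set
-/

namespace Cfsg.Agent.Lib.helper3.IndFunTI

open Cfsg Cfsg.Agent.Lib.helper3.IndFun
open scoped ComplexConjugate

variable {G : Type*} [Group G]

/-- Sum over `G` of a constant on `H` (zero elsewhere). -/
theorem sum_ite_mem [Fintype G] (H : Subgroup G) (c : ℂ) [DecidablePred (· ∈ H)] :
    ∑ x : G, (if x ∈ H then c else 0) = (Nat.card H : ℂ) * c := by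
  classical
  rw [Finset.sum_ite, Finset.sum_const_zero, add_zero, Finset.sum_const, nsmul_eq_mul]
  congr 2
  rw [Nat.card_eq_fintype_card, Fintype.card_subtype]

/-- A general criterion: if the conjugates `x⁻¹ g x` lie in `H` only for `x ∈ H` (on the support of
`θ`), and `θ` is a class function of `H`, then `indFun H θ g = θ g`. -/
theorem indFun_eq_of_forall [Fintype G] (H : Subgroup G) (θ : H → ℂ) (hθ : IsClassFunction H θ)
    (g : H)
    (hzero : ∀ x : G, x ∉ H → extendByZero H θ (x⁻¹ * (g : G) * x) = 0) :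
    indFun H θ g = θ g := by
  classical
  rw [indFun_apply]
  have : ∀ x : G, extendByZero H θ (x⁻¹ * (g : G) * x) = if x ∈ H then θ g else 0 := by
    intro x
    split_ifs with hx
    · have hmem : x⁻¹ * (g : G) * x ∈ H := H.mul_mem (H.mul_mem (H.inv_mem hx) g.2) hx
      rw [extendByZero_mem H θ hmem]
      have := hθ g (⟨x, hx⟩⁻¹ : H)
      rw [← this]
      congr 1
      apply Subtype.ext
      simp
    · exact hzero x hx
  simp_rw [this]
  rw [sum_ite_mem]
  have hH : (Nat.card H : ℂ) ≠ 0 := card_ne_zero_complex H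
  field_simp

/-- The TI induction lemma. -/
theorem indFun_TI_apply [Fintype G] (T : Set G)
    (hTI : ∀ g : G, g ∉ Subgroup.normalizer T → ∀ t ∈ T, g * t * g⁻¹ ∈ T → t = 1)
    (ψ : Subgroup.normalizer T → ℂ) (hψ : IsClassFunction (Subgroup.normalizer T) ψ)
    (hψT : ∀ x : Subgroup.normalizer T, (x : G) ∉ T → ψ x = 0)
    (t : Subgroup.normalizer T) (htT : (t : G) ∈ T) (ht1 : t ≠ 1) :
    indFun (Subgroup.normalizer T) ψ t = ψ t := by
  classical
  apply indFun_eq_of_forall _ ψ hψ t
  intro x hx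
  by_cases hmem : x⁻¹ * (t : G) * x ∈ Subgroup.normalizer T
  · rw [extendByZero_mem _ ψ hmem]
    by_cases hT : x⁻¹ * (t : G) * x ∈ T
    · exfalso
      apply ht1
      have hx' : x⁻¹ ∉ Subgroup.normalizer T := fun h => hx (by simpa using (Subgroup.normalizer T).inv_mem h)
      have := hTI x⁻¹ hx' (t : G) htT (by simpa using hT)
      exact Subtype.ext this
    · exact hψT ⟨_, hmem⟩ hT
  · exact extendByZero_not_mem _ ψ hmem

/-- Value of an induced function at the identity when `θ 1 = 0`. -/
theorem indFun_one_of_apply_one_eq_zero [Fintype G] (H : Subgroup G) (θ : H → ℂ) (h1 : θ 1 = 0) :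
    indFun H θ 1 = 0 := by
  rw [indFun_apply]
  have : ∀ x : G, extendByZero H θ (x⁻¹ * 1 * x) = 0 := by
    intro x
    have : x⁻¹ * 1 * x = ((1 : H) : G) := by simp
    rw [this, extendByZero_coe, h1]
  simp_rw [this]
  simp

/-- Isometry property of induction from the normalizer of a TI-set. -/
theorem classInner_indFun_TI [Fintype G] (T : Set G)
    (hTI : ∀ g : G, g ∉ Subgroup.normalizer T → ∀ t ∈ T, g * t * g⁻¹ ∈ T → t = 1)
    [Fintype (Subgroup.normalizer T)]
    (ψ θ : Subgroup.normalizer T → ℂ)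
    (hθ : IsClassFunction (Subgroup.normalizer T) θ)
    (hψT : ∀ x : Subgroup.normalizer T, (x : G) ∉ T → ψ x = 0)
    (hθT : ∀ x : Subgroup.normalizer T, (x : G) ∉ T → θ x = 0) (hψ1 : ψ 1 = 0) :
    classInner (indFun (Subgroup.normalizer T) ψ) (indFun (Subgroup.normalizer T) θ)
      = classInner ψ θ := by
  rw [frobenius_reciprocity _ ψ _ (indFun_isClassFunction _ θ)]
  rw [classInner_apply, classInner_apply]
  congr 1
  apply Finset.sum_congr rfl
  intro n _
  by_cases hn1 : n = 1
  · subst hn1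
    rw [hψ1, zero_mul, zero_mul]
  by_cases hnT : (n : G) ∈ T
  · rw [indFun_TI_apply T hTI θ hθ hθT n hnT hn1]
  · rw [hψT n hnT, zero_mul, zero_mul]

end Cfsg.Agent.Lib.helper3.IndFunTI
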