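import Mathlib
import Cfsg.Prelude.Def_Characters
import Cfsg.Agent.Lib.helper3.IndFun

set_option autoImplicit false
set_option linter.style.haveILetI false
set_option linter.unusedSectionVars false

/-!
# Linearity of induction of functions
-/

namespace Cfsg.Agent.Lib.helper3.IndFun

open Cfsg
open scoped ComplexConjugate

variable {G : Type*} [Group G]

theorem extendByZero_add (H : Subgroup G) (θ φ : H → ℂ) (g : G) :
    extendByZero H (θ + φ) g = extendByZero H θ g + extendByZero H φ g := by
  by_cases hg : g ∈ H
  · rw [extendByZero_mem H _ hg, extendByZero_mem H _ hg, extendByZero_mem H _ hg]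
    rfl
  · rw [extendByZero_not_mem H _ hg, extendByZero_not_mem H _ hg, extendByZero_not_mem H _ hg,
      add_zero]

theorem extendByZero_smul (H : Subgroup G) (c : ℂ) (θ : H → ℂ) (g : G) :
    extendByZero H (c • θ) g = c * extendByZero H θ g := by
  by_cases hg : g ∈ H
  · rw [extendByZero_mem H _ hg, extendByZero_mem H _ hg]
    rfl
  · rw [extendByZero_not_mem H _ hg, extendByZero_not_mem H _ hg, mul_zero]

theorem extendByZero_zero (H : Subgroup G) (g : G) :
    extendByZero H (0 : H → ℂ) g = 0 := by
  by_cases hg : g ∈ H
  · rw [extendByZero_mem H _ hg]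
    rfl
  · rw [extendByZero_not_mem H _ hg]

theorem indFun_add [Fintype G] (H : Subgroup G) (θ φ : H → ℂ) :
    indFun H (θ + φ) = indFun H θ + indFun H φ := by
  funext g
  simp only [Pi.add_apply, indFun_apply, extendByZero_add, Finset.sum_add_distrib, mul_add]

theorem indFun_smul [Fintype G] (H : Subgroup G) (c : ℂ) (θ : H → ℂ) :
    indFun H (c • θ) = c • indFun H θ := by
  funext g
  simp only [Pi.smul_apply, indFun_apply, extendByZero_smul, ← Finset.mul_sum, smul_eq_mul]
  ring

theorem indFun_zero [Fintype G] (H : Subgroup G) :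
    indFun H (0 : H → ℂ) = 0 := by
  funext g
  simp only [Pi.zero_apply, indFun_apply, extendByZero_zero, Finset.sum_const_zero, mul_zero]

theorem indFun_sum [Fintype G] (H : Subgroup G) {ι : Type*} (s : Finset ι) (θ : ι → H → ℂ) :
    indFun H (∑ i ∈ s, θ i) = ∑ i ∈ s, indFun H (θ i) := by
  classical
  induction s using Finset.induction_on with
  | empty => simp [indFun_zero]
  | insert a s ha ih => rw [Finset.sum_insert ha, Finset.sum_insert ha, indFun_add, ih]

end Cfsg.Agent.Lib.helper3.IndFun
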