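import Mathlib
import Cfsg.Prelude.Def_Characters
import Cfsg.Agent.Lib.helper3.Irr9

set_option autoImplicit false
set_option linter.style.haveILetI false
set_option linter.unusedSectionVars false

/-!
# Generalized characters of norm two vanishing at the identity
-/

namespace Cfsg.Agent.Lib.helper3.Irr

open Cfsg Module Cfsg.Agent.Lib.helper3.IndFun Cfsg.Agent.Lib.helper3.CharBasic
open scoped ComplexConjugate

variable {G : Type*} [Group G] [Fintype G]

/-- A generalized character is an integer combination of irreducible characters. -/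
theorem exists_int_decomposition {θ : G → ℂ} (hθ : IsGeneralizedCharacter G θ) :
    ∃ z : IrrCharacter G → ℤ, θ = ∑ ψ : IrrCharacter G, (z ψ : ℂ) • (ψ : G → ℂ) := by
  obtain ⟨χ₁, χ₂, h₁, h₂, rfl⟩ := hθ
  obtain ⟨m₁, rfl⟩ := exists_decomposition_of_isCharacter h₁
  obtain ⟨m₂, rfl⟩ := exists_decomposition_of_isCharacter h₂
  refine ⟨fun ψ => (m₁ ψ : ℤ) - (m₂ ψ : ℤ), ?_⟩
  rw [← Finset.sum_sub_distrib]
  apply Finset.sum_congr rfl
  intro ψ _
  push_cast
  rw [sub_smul]

theorem classInner_int_decomposition (z w : IrrCharacter G → ℤ) :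
    classInner (∑ ψ : IrrCharacter G, (z ψ : ℂ) • (ψ : G → ℂ))
      (∑ ψ : IrrCharacter G, (w ψ : ℂ) • (ψ : G → ℂ))
      = ((∑ ψ : IrrCharacter G, z ψ * w ψ : ℤ) : ℂ) := by
  rw [classInner_decomposition]
  push_cast
  apply Finset.sum_congr rfl
  intro ψ _
  rw [map_intCast]

/-- A family of integers whose squares sum to two has exactly two nonzero entries `±1`. -/
theorem int_sq_sum_two {ι : Type*} [Fintype ι] [DecidableEq ι] (f : ι → ℤ)
    (h : ∑ i, f i ^ 2 = 2) :
    ∃ a b : ι, a ≠ b ∧ (f a = 1 ∨ f a = -1) ∧ (f b = 1 ∨ f b = -1) ∧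
      ∀ c, c ≠ a → c ≠ b → f c = 0 := by
  have hex : ∃ a, f a ≠ 0 := by
    by_contra hne
    push Not at hne
    simp [hne] at h
  obtain ⟨a, ha⟩ := hex
  have hsplit := Finset.add_sum_erase Finset.univ (fun i => f i ^ 2) (Finset.mem_univ a)
  rw [h] at hsplit
  have hnonneg : 0 ≤ ∑ i ∈ Finset.univ.erase a, f i ^ 2 :=
    Finset.sum_nonneg (fun i _ => sq_nonneg _)
  have ha1 : f a ^ 2 = 1 := by
    have h1 : f a ^ 2 ≤ 2 := by linarith
    have h2 : 0 < f a ^ 2 := by positivity
    have h3 : f a ^ 2 ≠ 2 := by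
      intro h4
      have h5 : |f a| < 2 := by
        by_contra h6
        push Not at h6
        have : 4 ≤ |f a| ^ 2 := by nlinarith
        rw [sq_abs] at this
        linarith
      have h7 : |f a| ≤ 1 := by omega
      have : |f a| ^ 2 ≤ 1 := by nlinarith [abs_nonneg (f a)]
      rw [sq_abs] at this
      linarith
    omega
  have hrest : ∑ i ∈ Finset.univ.erase a, f i ^ 2 = 1 := by linarith
  have hex2 : ∃ b ∈ Finset.univ.erase a, f b ≠ 0 := by
    by_contra hne
    push Not at hne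
    rw [Finset.sum_eq_zero (fun i hi => by rw [hne i hi]; ring)] at hrest
    exact zero_ne_one hrest
  obtain ⟨b, hb, hb0⟩ := hex2
  have hba : b ≠ a := (Finset.mem_erase.mp hb).1
  have hsplit2 := Finset.add_sum_erase (Finset.univ.erase a) (fun i => f i ^ 2) hb
  rw [hrest] at hsplit2
  have hnonneg2 : 0 ≤ ∑ i ∈ (Finset.univ.erase a).erase b, f i ^ 2 :=
    Finset.sum_nonneg (fun i _ => sq_nonneg _)
  have hb1 : f b ^ 2 = 1 := by
    have h2 : 0 < f b ^ 2 := by positivity
    omega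
  have hrest2 : ∑ i ∈ (Finset.univ.erase a).erase b, f i ^ 2 = 0 := by linarith
  have hsq : ∀ x : ℤ, x ^ 2 = 1 → x = 1 ∨ x = -1 := by
    intro x hx
    have : (x - 1) * (x + 1) = 0 := by ring_nf; linarith
    rcases mul_eq_zero.mp this with h | h
    · left; linarith
    · right; linarith
  refine ⟨a, b, hba.symm, hsq _ ha1, hsq _ hb1, ?_⟩
  intro c hca hcb
  have hc : c ∈ (Finset.univ.erase a).erase b :=
    Finset.mem_erase.mpr ⟨hcb, Finset.mem_erase.mpr ⟨hca, Finset.mem_univ c⟩⟩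
  have := (Finset.sum_eq_zero_iff_of_nonneg (fun i _ => sq_nonneg (f i))).mp hrest2 c hc
  exact pow_eq_zero_iff (by norm_num) |>.mp this

/-- A generalized character of norm two vanishing at `1` is a difference of two distinct
irreducible characters. -/
theorem exists_sub_of_norm_two {θ : G → ℂ} (hθ : IsGeneralizedCharacter G θ)
    (hnorm : classInner θ θ = 2) (h1 : θ 1 = 0) :
    ∃ a b : IrrCharacter G, a ≠ b ∧ θ = (a : G → ℂ) - (b : G → ℂ) := by
  classical
  obtain ⟨z, rfl⟩ := exists_int_decomposition hθ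
  rw [classInner_int_decomposition] at hnorm
  have hz : ∑ ψ : IrrCharacter G, z ψ ^ 2 = 2 := by
    have : ((∑ ψ : IrrCharacter G, z ψ * z ψ : ℤ) : ℂ) = ((2 : ℤ) : ℂ) := by
      rw [hnorm]; norm_num
    have h2 : ∑ ψ : IrrCharacter G, z ψ * z ψ = 2 := by exact_mod_cast this
    rw [← h2]
    apply Finset.sum_congr rfl
    intro ψ _
    ring
  obtain ⟨a, b, hab, ha, hb, hrest⟩ := int_sq_sum_two z hz
  have hsum : ∑ ψ : IrrCharacter G, (z ψ : ℂ) • (ψ : G → ℂ)
      = (z a : ℂ) • (a : G → ℂ) + (z b : ℂ) • (b : G → ℂ) := by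
    rw [← Finset.add_sum_erase Finset.univ _ (Finset.mem_univ a)]
    congr 1
    rw [← Finset.add_sum_erase _ _ (Finset.mem_erase.mpr ⟨hab.symm, Finset.mem_univ b⟩)]
    rw [Finset.sum_eq_zero, add_zero]
    intro c hc
    have hcb : c ≠ b := (Finset.mem_erase.mp hc).1
    have hca : c ≠ a := (Finset.mem_erase.mp (Finset.mem_erase.mp hc).2).1
    rw [hrest c hca hcb, Int.cast_zero, zero_smul]
  rw [hsum] at h1 ⊢
  obtain ⟨na, hna, hna1⟩ := exists_pos_nat_apply_one a.2
  obtain ⟨nb, hnb, hnb1⟩ := exists_pos_nat_apply_one b.2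
  simp only [Pi.add_apply, Pi.smul_apply, smul_eq_mul, hna1, hnb1] at h1
  have h1' : z a * (na : ℤ) + z b * (nb : ℤ) = 0 := by exact_mod_cast h1
  rcases ha with ha | ha <;> rcases hb with hb | hb
  · exfalso
    rw [ha, hb] at h1'
    have : (0 : ℤ) < na := by exact_mod_cast hna
    have : (0 : ℤ) < nb := by exact_mod_cast hnb
    linarith
  · refine ⟨a, b, hab, ?_⟩
    rw [ha, hb]
    simp [sub_eq_add_neg]
  · refine ⟨b, a, hab.symm, ?_⟩
    rw [ha, hb]
    simp [sub_eq_add_neg, add_comm]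
  · exfalso
    rw [ha, hb] at h1'
    have : (0 : ℤ) < na := by exact_mod_cast hna
    have : (0 : ℤ) < nb := by exact_mod_cast hnb
    linarith

end Cfsg.Agent.Lib.helper3.Irr
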