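import Mathlib
import Cfsg.Agent.S1456
import Cfsg.Agent.S1401
import Cfsg.Agent.S1399
import Cfsg.Agent.H2.BGU.L91b
import Cfsg.Agent.Lib.Helper4.BGUniqE
import Cfsg.Agent.H1.MinNonAbelian

/-!
# B&G Lemma 9.5, part A: maximal subgroups `H` with `H' ≰ F(H)`

For a maximal subgroup `H` of a minimal simple group of odd order such that `⁅H, H⁆ ≰ F(H)`:
* `star_rank`: `C_{F(H)}(E₀)` has rank at least 3 for every elementary abelian `E₀ ≤ F(H)`;
* `star_normalizer_le`: `N_G(Y) ≤ H` for every `1 ≠ Y ≤ F(H)`;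
* `star_inUniqueMaximal`: every noncyclic `Y ≤ F(H)` lies in no other maximal subgroup.
-/

set_option autoImplicit false
open Cfsg
open scoped commutatorElement

namespace Cfsg.Agent.Lib.helper3.BG95

open Cfsg.Agent.H2.BGU

variable {G : Type*} [Group G] [Finite G]

theorem rankLE_of_injective {H K : Type*} [Group H] [Group K] {k : ℕ} (f : H →* K)
    (hf : Function.Injective f) (h : Cfsg.RankLE k K) : Cfsg.RankLE k H :=
  fun q hq => Cfsg.Agent.Lib.Helper4.Rank2Fit.pRankLE_of_injective f hf (h q hq)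

theorem isNilpotent_of_le' {X Y : Subgroup G} (hX : Group.IsNilpotent ↥X) (hYX : Y ≤ X) :
    Group.IsNilpotent ↥Y := by
  haveI := hX
  exact Group.nilpotent_of_mulEquiv (Subgroup.subgroupOfEquivOfLe hYX)

/-- **(star)**: transport of S1456 to a proper subgroup `H` -/
theorem star_rank (hG : Cfsg.IsMinSimpleOddOrder G) {H : Subgroup G} (hH : H ≠ ⊤)
    (hstar : ¬ ⁅H, H⁆ ≤ Cfsg.fittingOf H) {q : ℕ} [Fact q.Prime] {E₀ : Subgroup G}
    (hE₀ : E₀ ≤ Cfsg.fittingOf H) (hE₀e : Cfsg.IsElementaryAbelian q E₀) :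
    ¬ Cfsg.RankLE 2 ↥(Cfsg.fittingOf H ⊓ Subgroup.centralizer (E₀ : Set G)) := by
  intro hr
  apply hstar
  haveI : Group.IsSolvable ↥H := hG.2.2.2 H hH
  have hodd : Odd (Nat.card ↥H) := odd_card_subgroup hG H
  have hE₀H : E₀ ≤ H := hE₀.trans (fittingOf_le H)
  have key := Cfsg.Agent.S1456.result (G := ↥H) hodd q (E₀.subgroupOf H) ?_ ?_ ?_
  · rw [← Subgroup.map_subtype_commutator]
    exact Subgroup.map_mono key
  · intro x hx
    have h1 := hE₀ (Subgroup.mem_subgroupOf.mp hx)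
    rw [mem_fittingOf_iff] at h1
    obtain ⟨_, h⟩ := h1
    exact h
  · haveI := hE₀e.1
    refine ⟨inferInstance, ?_⟩
    intro a ha
    apply Subtype.ext
    rw [Subgroup.coe_pow, Subgroup.coe_one]
    exact hE₀e.2 _ (Subgroup.mem_subgroupOf.mp ha)
  · have hmem : ∀ x : ↥(Cfsg.fittingSubgroup ↥H ⊓
        Subgroup.centralizer ((E₀.subgroupOf H : Subgroup ↥H) : Set ↥H)),
        ((x : ↥H) : G) ∈ Cfsg.fittingOf H ⊓ Subgroup.centralizer (E₀ : Set G) := by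
      intro x
      obtain ⟨hx1, hx2⟩ := Subgroup.mem_inf.mp x.2
      refine Subgroup.mem_inf.mpr ⟨Subgroup.mem_map_of_mem _ hx1, ?_⟩
      rw [Subgroup.mem_centralizer_iff]
      intro e he
      have h2 := Subgroup.mem_centralizer_iff.mp hx2 ⟨e, hE₀H he⟩
        (Subgroup.mem_subgroupOf.mpr he)
      exact congrArg Subtype.val h2
    let f : ↥(Cfsg.fittingSubgroup ↥H ⊓
        Subgroup.centralizer ((E₀.subgroupOf H : Subgroup ↥H) : Set ↥H)) →*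
        ↥(Cfsg.fittingOf H ⊓ Subgroup.centralizer (E₀ : Set G)) :=
      { toFun := fun x => ⟨((x : ↥H) : G), hmem x⟩
        map_one' := rfl
        map_mul' := fun _ _ => rfl }
    apply rankLE_of_injective f _ hr
    intro x y hxy
    apply Subtype.ext
    apply Subtype.ext
    exact congrArg (fun z : ↥(Cfsg.fittingOf H ⊓ Subgroup.centralizer (E₀ : Set G)) => (z : G)) hxy

/-- under (star), `C_{F(H)}(E₀)` contains an elementary abelian subgroup of rank 3 lying in `𝒰` -/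
theorem star_core (hG : Cfsg.IsMinSimpleOddOrder G) {H : Subgroup G} (hH : IsCoatom H)
    (hstar : ¬ ⁅H, H⁆ ≤ Cfsg.fittingOf H) {q : ℕ} [Fact q.Prime] {E₀ : Subgroup G}
    (hE₀ : E₀ ≤ Cfsg.fittingOf H) (hE₀e : Cfsg.IsElementaryAbelian q E₀) :
    ∃ (t : ℕ) (A₀ : Subgroup G), t.Prime ∧ Cfsg.IsElementaryAbelian t A₀ ∧
      A₀ ≤ Cfsg.fittingOf H ∧ A₀ ≤ Subgroup.centralizer (E₀ : Set G) ∧ t ^ 2 < Nat.card ↥A₀ ∧
      ¬ Cfsg.PRankLE t 2 ↥(Cfsg.fittingOf H) ∧ Cfsg.InUniqueMaximal A₀ := by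
  have h1 := star_rank hG hH.1 hstar hE₀ hE₀e
  obtain ⟨t, ht, W, hW, hWC, hWcard⟩ := Cfsg.Agent.Lib.Helper4.BGUniq.exists_of_not_rankLE h1
  haveI : Fact t.Prime := ⟨ht⟩
  have hWF : W ≤ Cfsg.fittingOf H := hWC.trans inf_le_left
  have hF3 : ¬ Cfsg.PRankLE t 2 ↥(Cfsg.fittingOf H) :=
    Cfsg.Agent.Lib.Helper4.BGUniq.not_pRankLE_of_le hW hWF hWcard
  refine ⟨t, W, ht, hW, hWF, hWC.trans inf_le_right, hWcard, hF3, ?_⟩
  exact Cfsg.Agent.S1401.result hG H hH t hF3 W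
    (Cfsg.Agent.Lib.Helper4.BGUniq.isPGroup_of_isElementaryAbelian hW) hW.1
    (Cfsg.Agent.Lib.Helper4.BGUniq.not_pRankLE_of_le hW le_rfl hWcard)

/-- a proper subgroup containing `C_{F(H)}(E₀)` lies in `H` -/
theorem star_le_of_centralizer_le (hG : Cfsg.IsMinSimpleOddOrder G) {H : Subgroup G}
    (hH : IsCoatom H) (hstar : ¬ ⁅H, H⁆ ≤ Cfsg.fittingOf H) {q : ℕ} [Fact q.Prime]
    {E₀ : Subgroup G} (hE₀ : E₀ ≤ Cfsg.fittingOf H) (hE₀e : Cfsg.IsElementaryAbelian q E₀)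
    {X : Subgroup G} (hX : X ≠ ⊤)
    (hCX : Cfsg.fittingOf H ⊓ Subgroup.centralizer (E₀ : Set G) ≤ X) : X ≤ H := by
  obtain ⟨t, A₀, _, _, hA₀F, hA₀C, _, _, hA₀U⟩ := star_core hG hH hstar hE₀ hE₀e
  exact Cfsg.Agent.Lib.Helper4.BGUniq.le_of_inUniqueMaximal_of_le hA₀U hH
    (hA₀F.trans (fittingOf_le H)) ((le_inf hA₀F hA₀C).trans hCX) hX

/-- **(2a)**: a noncyclic subgroup of `F(H)` lies in no other maximal subgroup -/
theorem star_inUniqueMaximal (hG : Cfsg.IsMinSimpleOddOrder G) {H : Subgroup G}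
    (hH : IsCoatom H) (hstar : ¬ ⁅H, H⁆ ≤ Cfsg.fittingOf H) {Y : Subgroup G}
    (hY : Y ≤ Cfsg.fittingOf H) (hYr : ¬ Cfsg.RankLE 1 ↥Y) : Cfsg.InUniqueMaximal Y := by
  obtain ⟨q, hq, E₀, hE₀e, hE₀Y, hE₀card⟩ :=
    Cfsg.Agent.Lib.Helper4.BGUniq.exists_of_not_rankLE hYr
  haveI : Fact q.Prime := ⟨hq⟩
  rw [pow_one] at hE₀card
  obtain ⟨t, A₀, _, _, _, hA₀C, _, _, hA₀U⟩ := star_core hG hH hstar (hE₀Y.trans hY) hE₀e
  have hE₀U : Cfsg.InUniqueMaximal E₀ := by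
    apply Cfsg.Agent.S1399.result hG A₀ E₀ hA₀U
    · exact Subgroup.le_centralizer_iff.mp hA₀C
    · exact Cfsg.Agent.Lib.Helper4.BGUniq.not_rankLE_one_of_le hq hE₀e le_rfl hE₀card
  exact Cfsg.Agent.Lib.Helper4.BGUniq.inUniqueMaximal_mono hE₀U hE₀Y
    (ne_top_of_le_coatom hH (hY.trans (fittingOf_le H)))

/-- a proper subgroup containing a noncyclic subgroup of `F(H)` lies in `H` -/
theorem star_le_of_le (hG : Cfsg.IsMinSimpleOddOrder G) {H : Subgroup G}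
    (hH : IsCoatom H) (hstar : ¬ ⁅H, H⁆ ≤ Cfsg.fittingOf H) {Y : Subgroup G}
    (hY : Y ≤ Cfsg.fittingOf H) (hYr : ¬ Cfsg.RankLE 1 ↥Y) {X : Subgroup G} (hX : X ≠ ⊤)
    (hYX : Y ≤ X) : X ≤ H :=
  Cfsg.Agent.Lib.Helper4.BGUniq.le_of_inUniqueMaximal_of_le
    (star_inUniqueMaximal hG hH hstar hY hYr) hH (hY.trans (fittingOf_le H)) hYX hX

/-- **(double star)**: `N_G(Y) ≤ H` for every `1 ≠ Y ≤ F(H)` -/
theorem star_normalizer_le (hG : Cfsg.IsMinSimpleOddOrder G) {H : Subgroup G}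
    (hH : IsCoatom H) (hstar : ¬ ⁅H, H⁆ ≤ Cfsg.fittingOf H) {Y : Subgroup G}
    (hY : Y ≤ Cfsg.fittingOf H) (hY1 : Y ≠ ⊥) : Subgroup.normalizer (Y : Set G) ≤ H := by
  have hYn : Group.IsNilpotent ↥Y := isNilpotent_of_le' (fittingOf_nilpotent H) hY
  have hcard : Nat.card ↥Y ≠ 1 := by
    intro h
    exact hY1 (Subgroup.card_eq_one.mp h)
  obtain ⟨s, hs, hsd⟩ := Nat.exists_prime_and_dvd hcard
  haveI : Fact s.Prime := ⟨hs⟩
  set Z := Zq s Y with hZ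
  have hZ1 : Z ≠ ⊥ := Zq_ne_bot_of_dvd hYn hsd
  have hZY : Z ≤ Y := Zq_le s Y
  have hZc : ∀ a ∈ Z, ∀ b ∈ Z, a * b = b * a := by
    intro a ha b hb
    exact (Subgroup.mem_centralizer_iff.mp (Zq_le_centralizer s Y ha) b (hZY hb)).symm
  have hZp : IsPGroup s ↥Z := isPGroup_Zq hs Y
  set E₁ := Cfsg.Agent.H1.omegaSub s Z hZc with hE₁
  have hE₁Z : E₁ ≤ Z := fun x hx => hx.1
  have hE₁e : Cfsg.IsElementaryAbelian s E₁ := by
    refine ⟨⟨⟨fun a b => ?_⟩⟩, fun a ha => ha.2⟩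
    apply Subtype.ext
    exact hZc a a.2.1 b b.2.1
  have hE₁1 : E₁ ≠ ⊥ := by
    have hZcard : s ∣ Nat.card ↥Z := by
      obtain ⟨n, hn⟩ := hZp.exists_card_eq
      have hn0 : n ≠ 0 := by
        rintro rfl
        rw [pow_zero] at hn
        exact hZ1 (Subgroup.card_eq_one.mp hn)
      rw [hn]
      exact dvd_pow_self s hn0
    obtain ⟨z, hz⟩ := exists_prime_orderOf_dvd_card' (G := ↥Z) s hZcard
    intro hbot
    have hzE : (z : G) ∈ E₁ := by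
      refine ⟨z.2, ?_⟩
      have : z ^ s = 1 := by rw [← hz]; exact pow_orderOf_eq_one z
      have h2 := congrArg Subtype.val this
      simpa using h2
    rw [hbot, Subgroup.mem_bot] at hzE
    have : z = 1 := Subtype.ext hzE
    rw [this, orderOf_one] at hz
    exact hs.one_lt.ne hz
  have hNN : Subgroup.normalizer (Y : Set G) ≤ Subgroup.normalizer (E₁ : Set G) := by
    intro g hg
    have hgZ : g ∈ Subgroup.normalizer (Z : Set G) := normalizer_le_normalizer_Zq s Y hg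
    apply Cfsg.Agent.H1.mem_normalizer_of_conj_mem
    intro x hx
    refine ⟨(Subgroup.mem_normalizer_iff.mp hgZ x).mp hx.1, ?_⟩
    rw [conj_pow, hx.2, mul_one, mul_inv_cancel]
  have hE₁F : E₁ ≤ Cfsg.fittingOf H := hE₁Z.trans (hZY.trans hY)
  have hE₁top : E₁ ≠ ⊤ := ne_top_of_le_coatom hH (hE₁F.trans (fittingOf_le H))
  have hNtop : Subgroup.normalizer (E₁ : Set G) ≠ ⊤ :=
    Cfsg.Agent.Lib.Helper4.BGUniq.normalizer_ne_top hG hE₁1 hE₁top
  have h1 : Subgroup.normalizer (E₁ : Set G) ≤ H :=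
    star_le_of_centralizer_le hG hH hstar hE₁F hE₁e hNtop
      (inf_le_right.trans (Subgroup.centralizer_le_normalizer _))
  exact hNN.trans h1

end Cfsg.Agent.Lib.helper3.BG95
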