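import Mathlib
import Cfsg.Agent.H2.HyperplaneGen
import Cfsg.Agent.H2.CyclicSylowStructure
import Cfsg.Agent.H1.Card

/-!
# B&G Lemma 9.5, part B: coprime action of an elementary abelian group of rank 3

* `exists_le_of_hyperGen`: if `Y ≰ M` then some `C_Y(B) ≰ M` for a hyperplane `B` of `E`;
* `exists_ne_one_mem_inf`: two hyperplanes of a rank-3 group meet nontrivially;
* `exists_noncyclic_centralizer`: a noncyclic `E`-invariant `s`-group has a noncyclic `C_Y(b)`.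
-/

set_option autoImplicit false
open Cfsg

namespace Cfsg.Agent.Lib.helper3.BG95

open Cfsg.Agent.H2.HyperGen

variable {G : Type*} [Group G] [Finite G]

/-- two subgroups of index at most `p` in a group of order at least `p ^ 3` meet nontrivially -/
theorem exists_ne_one_mem_inf {p : ℕ} (hp : p.Prime) {E B₁ B₂ : Subgroup G}
    (hEcard : p ^ 3 ≤ Nat.card ↥E) (h₁ : B₁ ≤ E) (h₂ : B₂ ≤ E)
    (hi₁ : B₁.relIndex E ≤ p) (hi₂ : B₂.relIndex E ≤ p) : ∃ b ∈ B₁ ⊓ B₂, b ≠ 1 := by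
  have h3 : (B₁ ⊓ B₂).relIndex E ≤ p * p :=
    (Subgroup.relIndex_inf_le).trans (Nat.mul_le_mul hi₁ hi₂)
  have h4 : Nat.card ↥E = (B₁ ⊓ B₂).relIndex E * Nat.card ↥(B₁ ⊓ B₂ : Subgroup G) :=
    Cfsg.Agent.H1.card_eq_relIndex_mul_card (inf_le_left.trans h₁)
  have h5 : 1 < Nat.card ↥(B₁ ⊓ B₂ : Subgroup G) := by
    by_contra hle
    push Not at hle
    have h6 : Nat.card ↥(B₁ ⊓ B₂ : Subgroup G) = 1 := le_antisymm hle Nat.card_pos
    rw [h6, mul_one] at h4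
    have h7 : p ^ 3 ≤ p * p := by
      calc p ^ 3 ≤ Nat.card ↥E := hEcard
        _ = (B₁ ⊓ B₂).relIndex E := h4
        _ ≤ p * p := h3
    have h8 : p * p < p ^ 3 := by
      have : p ^ 3 = p * p * p := by ring
      rw [this]
      exact lt_mul_of_one_lt_right (Nat.mul_pos hp.pos hp.pos) hp.one_lt
    omega
  by_contra hcon
  push Not at hcon
  have hbot : B₁ ⊓ B₂ = ⊥ := by
    rw [eq_bot_iff]
    intro x hx
    rw [Subgroup.mem_bot]
    exact hcon x hx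
  rw [hbot, Subgroup.card_bot] at h5
  exact lt_irrefl _ h5

/-- a subgroup of index at most `p` in a group of order at least `p ^ 3` is nontrivial -/
theorem exists_ne_one_mem {p : ℕ} (hp : p.Prime) {E B : Subgroup G}
    (hEcard : p ^ 3 ≤ Nat.card ↥E) (h₁ : B ≤ E) (hi₁ : B.relIndex E ≤ p) : ∃ b ∈ B, b ≠ 1 := by
  obtain ⟨b, hb, hb1⟩ := exists_ne_one_mem_inf hp hEcard h₁ h₁ hi₁ hi₁
  exact ⟨b, hb.1, hb1⟩

/-- generation by hyperplane centralizers: if `Y ≰ M` then some `C_Y(B) ≰ M` -/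
theorem exists_not_le_of_hyperGen {p : ℕ} [Fact p.Prime] {E Y M : Subgroup G}
    (hE : Cfsg.IsElementaryAbelian p E) (hpY : ¬ p ∣ Nat.card ↥Y)
    (hEY : E ≤ Subgroup.normalizer (Y : Set G)) (hYM : ¬ Y ≤ M) :
    ∃ B : Subgroup G, B ≤ E ∧ B.relIndex E ≤ p ∧
      ¬ Y ⊓ Subgroup.centralizer (B : Set G) ≤ M := by
  by_contra hcon
  push Not at hcon
  apply hYM
  rw [eq_hyperGen E Y hE hpY hEY]
  unfold hyperGen
  apply iSup_le
  rintro ⟨B, hB1, hB2⟩
  exact hcon B hB1 hB2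

/-- an `E`-invariant noncyclic `s`-group (`E` elementary abelian of rank at least 3, `s ≠ p`) has
a noncyclic centralizer `C_Y(b)`, `b ∈ E#` -/
theorem exists_noncyclic_centralizer {p s : ℕ} [hp : Fact p.Prime] [hs : Fact s.Prime]
    {E Y : Subgroup G} (hE : Cfsg.IsElementaryAbelian p E) (hEcard : p ^ 3 ≤ Nat.card ↥E)
    (hY : IsPGroup s ↥Y) (hsp : s ≠ p) (hEY : E ≤ Subgroup.normalizer (Y : Set G))
    (hnc : ¬ IsCyclic ↥Y) :
    ∃ b ∈ E, b ≠ 1 ∧ ¬ IsCyclic ↥(Y ⊓ Subgroup.centralizer ({b} : Set G) : Subgroup G) := by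
  by_contra hcon
  push Not at hcon
  have hpY : ¬ p ∣ Nat.card ↥Y := by
    obtain ⟨n, hn⟩ := hY.exists_card_eq
    rw [hn]
    intro h
    exact hsp ((Nat.prime_dvd_prime_iff_eq hp.out hs.out).mp (hp.out.dvd_of_dvd_pow h)).symm
  let ι := {B : Subgroup G // B ≤ E ∧ B.relIndex E ≤ p}
  let D : ι → Subgroup G := fun B => Y ⊓ Subgroup.centralizer ((B : Subgroup G) : Set G)
  have hle_b : ∀ (B : ι) (b : G), b ∈ (B : Subgroup G) →
      D B ≤ Y ⊓ Subgroup.centralizer ({b} : Set G) := by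
    intro B b hb
    apply inf_le_inf_left
    apply Subgroup.centralizer_le
    intro x hx
    rw [Set.mem_singleton_iff] at hx
    rw [hx]
    exact hb
  -- comparability
  have hcomp : ∀ B₁ B₂ : ι, D B₁ ≤ D B₂ ∨ D B₂ ≤ D B₁ := by
    intro B₁ B₂
    obtain ⟨b, hb, hb1⟩ := exists_ne_one_mem_inf hp.out hEcard B₁.2.1 B₂.2.1 B₁.2.2 B₂.2.2
    set Db := Y ⊓ Subgroup.centralizer ({b} : Set G) with hDb
    have hcyc : IsCyclic ↥Db := hcon b (B₁.2.1 hb.1) hb1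
    have hDbp : IsPGroup s ↥Db := hY.to_le inf_le_left
    have h1 : D B₁ ≤ Db := hle_b B₁ b hb.1
    have h2 : D B₂ ≤ Db := hle_b B₂ b hb.2
    rcases Cfsg.Agent.H2.CycSyl.le_or_le_of_cyclic_pgroup hDbp ((D B₁).subgroupOf Db)
      ((D B₂).subgroupOf Db) with h | h
    · left
      intro x hx
      exact h (show (⟨x, h1 hx⟩ : ↥Db) ∈ (D B₁).subgroupOf Db from hx)
    · right
      intro x hx
      exact h (show (⟨x, h2 hx⟩ : ↥Db) ∈ (D B₂).subgroupOf Db from hx)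
  haveI : Nonempty ι := ⟨⟨E, le_rfl, by rw [Subgroup.relIndex_self]; exact hp.out.one_lt.le⟩⟩
  obtain ⟨B₀, hmax⟩ := Finite.exists_max (fun B : ι => Nat.card ↥(D B))
  have hall : ∀ B : ι, D B ≤ D B₀ := by
    intro B
    rcases hcomp B B₀ with h | h
    · exact h
    · exact (Subgroup.eq_of_le_of_card_ge h (hmax B)).ge
  have hYD : Y ≤ D B₀ := by
    have h1 : Y = hyperGen p E Y := eq_hyperGen E Y hE hpY hEY
    have h2 : hyperGen p E Y ≤ D B₀ := by
      unfold hyperGen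
      exact iSup_le hall
    exact h1.le.trans h2
  obtain ⟨b₀, hb₀, hb₀1⟩ := exists_ne_one_mem hp.out hEcard B₀.2.1 B₀.2.2
  have hYb : Y = Y ⊓ Subgroup.centralizer ({b₀} : Set G) :=
    le_antisymm (hYD.trans (hle_b B₀ b₀ hb₀)) inf_le_left
  have hcyc := hcon b₀ (B₀.2.1 hb₀) hb₀1
  rw [← hYb] at hcyc
  exact hnc hcyc

end Cfsg.Agent.Lib.helper3.BG95
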