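import Mathlib
import Cfsg.Agent.Lib.helper3.BG95A
import Cfsg.Agent.Lib.helper3.BG95B
import Cfsg.Agent.Lib.Helper4.BGUniqF

/-!
# B&G Lemma 9.5, part C: the context `A ∈ SCN₃(P)`, `A ∉ 𝒰`, and maximal subgroups `H ≥ A`
with `H' ≰ F(H)`

`Ctx G p A E` packages: `G` minimal simple of odd order, `A` an abelian `p`-subgroup satisfying the
transitivity hypothesis, `E ≤ A` elementary abelian of order at least `p ^ 3`, and `A ∉ 𝒰`.
-/

set_option autoImplicit false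
open Cfsg
open scoped commutatorElement

namespace Cfsg.Agent.Lib.helper3.BG95

open Cfsg.Agent.H2.BGU

variable {G : Type*} [Group G] [Finite G]

/-- the standing hypotheses of the proof of B&G Lemma 9.5 (by contradiction) -/
structure Ctx (G : Type*) [Group G] (p : ℕ) (A E : Subgroup G) : Prop where
  hG : Cfsg.IsMinSimpleOddOrder G
  hTA : Cfsg.TransitivityHypothesis A
  hAp : IsPGroup p ↥A
  hAc : IsMulCommutative ↥A
  hE : Cfsg.IsElementaryAbelian p E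
  hEA : E ≤ A
  hEcard : p ^ 3 ≤ Nat.card ↥E
  hnU : ¬ Cfsg.InUniqueMaximal A

namespace Ctx

variable {p : ℕ} [hp : Fact p.Prime] {A E : Subgroup G}

theorem lt_card (c : Ctx G p A E) : p ^ 2 < Nat.card ↥E := by
  have h1 : p ^ 2 < p ^ 3 := Nat.pow_lt_pow_right hp.out.one_lt (by norm_num)
  exact lt_of_lt_of_le h1 c.hEcard

theorem lt_card' (c : Ctx G p A E) : p < Nat.card ↥E :=
  lt_trans (Cfsg.Agent.Lib.Helper4.BGUniq.lt_sq hp.out) c.lt_card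

theorem p_dvd (c : Ctx G p A E) : p ∣ Nat.card ↥A :=
  Cfsg.Agent.Lib.Helper4.BGTrans.dvd_card_of_elementary hp.out c.hEA c.hEcard c.hE

theorem not_dvd_card (c : Ctx G p A E) {q : ℕ} (hq : q.Prime) (hqp : q ≠ p) :
    ¬ q ∣ Nat.card ↥A := by
  obtain ⟨n, hn⟩ := c.hAp.exists_card_eq
  rw [hn]
  intro h
  exact hqp ((Nat.prime_dvd_prime_iff_eq hq hp.out).mp (hq.dvd_of_dvd_pow h))

theorem mem_primesNotDvd (c : Ctx G p A E) {q : ℕ} (hq : q.Prime) (hqp : q ≠ p) :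
    q ∈ Cfsg.primesNotDvd (Nat.card ↥A) := ⟨hq, c.not_dvd_card hq hqp⟩

theorem A_ne_top (c : Ctx G p A E) : A ≠ ⊤ := c.hTA.2.1

theorem le_centralizer_self (c : Ctx G p A E) : A ≤ Subgroup.centralizer (A : Set G) := by
  intro a ha
  rw [Subgroup.mem_centralizer_iff]
  intro b hb
  have := c.hAc.is_comm.comm (⟨b, hb⟩ : ↥A) ⟨a, ha⟩
  exact congrArg Subtype.val this

theorem not_pRankLE (c : Ctx G p A E) : ¬ Cfsg.PRankLE p 2 ↥A :=
  Cfsg.Agent.Lib.Helper4.BGUniq.not_pRankLE_of_le c.hE c.hEA c.lt_card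

theorem not_rankLE_one (c : Ctx G p A E) : ¬ Cfsg.RankLE 1 ↥A :=
  Cfsg.Agent.Lib.Helper4.BGUniq.not_rankLE_one_of_le hp.out c.hE c.hEA c.lt_card'

theorem not_rankLE_two_center (c : Ctx G p A E) :
    ¬ Cfsg.RankLE 2 ↥(A ⊓ Subgroup.centralizer (A : Set G)) := by
  rw [inf_of_le_left c.le_centralizer_self]
  intro h
  exact c.not_pRankLE (h p hp.out)

/-- every maximal subgroup has `r_p(F(M)) ≤ 2` (else `A ∈ 𝒰` by B&G 9.4) -/
theorem pRankLE_fittingOf (c : Ctx G p A E) {M : Subgroup G} (hM : IsCoatom M) :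
    Cfsg.PRankLE p 2 ↥(Cfsg.fittingOf M) := by
  by_contra h
  exact c.hnU (Cfsg.Agent.S1401.result c.hG M hM p h A c.hAp c.hAc c.not_pRankLE)

/-- `A` centralizes no member of `𝒰` (B&G 9.2) -/
theorem not_le_centralizer (c : Ctx G p A E) {L : Subgroup G} (hL : Cfsg.InUniqueMaximal L)
    (hAL : A ≤ Subgroup.centralizer (L : Set G)) : False :=
  c.hnU (Cfsg.Agent.S1399.result c.hG L A hL hAL c.not_rankLE_one)

/-- `p` divides the order of `G`, so `G` is not a `q`-group for `q ≠ p` -/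
theorem ne_top_of_isPGroup (c : Ctx G p A E) {q : ℕ} (hq : q.Prime) (hqp : q ≠ p)
    {Q : Subgroup G} (hQ : IsPGroup q ↥Q) : Q ≠ ⊤ := by
  rintro rfl
  haveI : Fact q.Prime := ⟨hq⟩
  obtain ⟨n, hn⟩ := hQ.exists_card_eq
  have h1 : p ∣ Nat.card ↥(⊤ : Subgroup G) := by
    rw [Subgroup.card_top]
    exact c.p_dvd.trans (Subgroup.card_subgroup_dvd_card A)
  rw [hn] at h1
  exact hqp ((Nat.prime_dvd_prime_iff_eq hp.out hq).mp (hp.out.dvd_of_dvd_pow h1)).symm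

/-- transitivity of `K` on `И*(A; q)` (B&G Theorem 7.3) -/
theorem kconj (c : Ctx G p A E) {q : ℕ} (hq : q.Prime) (hqp : q ≠ p) {Q₁ Q₂ : Subgroup G}
    (h₁ : Q₁ ∈ Cfsg.maxInvSubgroups ⊤ A {q}) (h₂ : Q₂ ∈ Cfsg.maxInvSubgroups ⊤ A {q}) :
    ∃ k ∈ Subgroup.centralizer (A : Set G), Q₂ = Q₁.map (MulAut.conj k).toMonoidHom := by
  obtain ⟨k, hk, h⟩ := Cfsg.Agent.Lib.Helper4.BGTrans.transitivity_rank_three c.hG c.hTA
    c.not_rankLE_two_center hq (c.not_dvd_card hq hqp) h₁ h₂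
  exact ⟨k, Cfsg.Agent.Lib.Helper4.BGTrans.KK_le_centralizer A hk, h⟩

end Ctx

section star

variable {p : ℕ} [hp : Fact p.Prime] {A E H : Subgroup G}

/-- under (star) some prime `t ≠ p` has `r_t(F(H)) ≥ 3`; we record the Sylow subgroup
`O_t(F(H))` -/
theorem star_exists_rank_three (c : Ctx G p A E) (hH : IsCoatom H)
    (hstar : ¬ ⁅H, H⁆ ≤ Cfsg.fittingOf H) :
    ∃ t : ℕ, t.Prime ∧ t ≠ p ∧ t ≠ 2 ∧ ¬ Cfsg.PRankLE t 2 ↥(Oq t (Cfsg.fittingOf H)) ∧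
      ¬ Cfsg.RankLE 1 ↥(Oq t (Cfsg.fittingOf H)) ∧ ¬ IsCyclic ↥(Oq t (Cfsg.fittingOf H)) := by
  have hbot : Cfsg.IsElementaryAbelian p (⊥ : Subgroup G) := by
    refine ⟨inferInstance, ?_⟩
    intro a ha
    rw [Subgroup.mem_bot] at ha
    rw [ha, one_pow]
  obtain ⟨t, A₀, ht, hA₀e, hA₀F, -, hA₀card, hF3, -⟩ :=
    star_core c.hG hH hstar (bot_le : (⊥ : Subgroup G) ≤ Cfsg.fittingOf H) hbot
  haveI : Fact t.Prime := ⟨ht⟩
  have htp : t ≠ p := by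
    rintro rfl
    exact hF3 (c.pRankLE_fittingOf hH)
  have hA₀p : IsPGroup t ↥A₀ := Cfsg.Agent.Lib.Helper4.BGUniq.isPGroup_of_isElementaryAbelian hA₀e
  have hA₀Y : A₀ ≤ Oq t (Cfsg.fittingOf H) :=
    le_Oq_of_isPGroup (fittingOf_nilpotent H) hA₀F hA₀p
  have h1t : 1 < t ^ 2 := Nat.one_lt_pow (by norm_num) ht.one_lt
  have ht2 : t ≠ 2 := Cfsg.Agent.Lib.Helper4.BGUniq.prime_ne_two c.hG hA₀p (by omega)
  have htt : t < Nat.card ↥A₀ := lt_trans (Cfsg.Agent.Lib.Helper4.BGUniq.lt_sq ht) hA₀card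
  refine ⟨t, ht, htp, ht2, ?_, ?_, ?_⟩
  · exact Cfsg.Agent.Lib.Helper4.BGUniq.not_pRankLE_of_le hA₀e hA₀Y hA₀card
  · exact Cfsg.Agent.Lib.Helper4.BGUniq.not_rankLE_one_of_le ht hA₀e hA₀Y htt
  · intro hcyc
    have hA₀c : IsCyclic ↥A₀ :=
      isCyclic_of_injective (Subgroup.inclusion hA₀Y) (Subgroup.inclusion_injective hA₀Y)
    exact Cfsg.Agent.Lib.Helper4.BGUniq.not_isCyclic_of_card ht hA₀e htt hA₀c

/-- **(2b)**: some `b ∈ E#` has `C_G(b) ≤ H` -/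
theorem star_exists_centralizer_le (c : Ctx G p A E) (hH : IsCoatom H) (hAH : A ≤ H)
    (hstar : ¬ ⁅H, H⁆ ≤ Cfsg.fittingOf H) :
    ∃ b ∈ E, b ≠ 1 ∧ Subgroup.centralizer ({b} : Set G) ≤ H := by
  obtain ⟨t, ht, htp, ht2, -, -, hnc⟩ := star_exists_rank_three c hH hstar
  haveI : Fact t.Prime := ⟨ht⟩
  set Y := Oq t (Cfsg.fittingOf H) with hY
  have hYp : IsPGroup t ↥Y := isPGroup_Oq ht _
  have hEY : E ≤ Subgroup.normalizer (Y : Set G) :=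
    (c.hEA.trans hAH).trans (le_normalizer_Oq_fittingOf t H)
  obtain ⟨b, hbE, hb1, hbnc⟩ := exists_noncyclic_centralizer c.hE c.hEcard hYp htp hEY hnc
  refine ⟨b, hbE, hb1, ?_⟩
  have hr : ¬ Cfsg.RankLE 1 ↥(Y ⊓ Subgroup.centralizer ({b} : Set G) : Subgroup G) :=
    Cfsg.Agent.Lib.Helper4.BGUniq.not_rankLE_one_of_not_isCyclic ht2 (hYp.to_le inf_le_left) hbnc
  exact star_le_of_le c.hG hH hstar (inf_le_left.trans (Oq_le t _)) hr
    (Cfsg.Agent.Lib.Helper4.BGUniq.centralizer_singleton_ne_top c.hG hb1) inf_le_right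

/-- **(2b)**: `C_G(A) ≤ H` -/
theorem star_centralizer_le (c : Ctx G p A E) (hH : IsCoatom H) (hAH : A ≤ H)
    (hstar : ¬ ⁅H, H⁆ ≤ Cfsg.fittingOf H) : Subgroup.centralizer (A : Set G) ≤ H := by
  obtain ⟨b, hbE, -, hb⟩ := star_exists_centralizer_le c hH hAH hstar
  refine le_trans (Subgroup.centralizer_le ?_) hb
  intro x hx
  rw [Set.mem_singleton_iff] at hx
  rw [hx]
  exact c.hEA hbE

/-- **(2c)**: if `O_s(F(H))` is noncyclic then every `A`-invariant `s`-subgroup lies in `H` -/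
theorem star_inv_le (c : Ctx G p A E) (hH : IsCoatom H) (hAH : A ≤ H)
    (hstar : ¬ ⁅H, H⁆ ≤ Cfsg.fittingOf H) {s : ℕ} (hs : s.Prime) (hsp : s ≠ p)
    (hr : ¬ Cfsg.RankLE 1 ↥(Oq s (Cfsg.fittingOf H))) :
    ∀ Q ∈ Cfsg.invSubgroups ⊤ A {s}, Q ≤ H := by
  haveI : Fact s.Prime := ⟨hs⟩
  set Y := Oq s (Cfsg.fittingOf H) with hY
  have hYp : IsPGroup s ↥Y := isPGroup_Oq hs _
  have hYF : Y ≤ Cfsg.fittingOf H := Oq_le s _
  have hAY : A ≤ Subgroup.normalizer (Y : Set G) := hAH.trans (le_normalizer_Oq_fittingOf s H)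
  have hYinv : Y ∈ Cfsg.invSubgroups ⊤ A {s} :=
    Cfsg.Agent.Lib.Helper4.BGTrans.mem_invSubgroups_top.mpr
      ⟨Cfsg.Agent.Lib.Helper4.BGTrans.isPiNat_of_isPGroup hYp, hAY⟩
  obtain ⟨Q₀, hQ₀, hYQ₀⟩ := Cfsg.Agent.Lib.Helper4.BGTrans.exists_maxInv_ge hYinv
  have hQ₀p : IsPGroup s ↥Q₀ :=
    Cfsg.Agent.Lib.Helper4.BGTrans.isPGroup_of_isPiNat hs hQ₀.1.2.1
  have hQ₀H : Q₀ ≤ H :=
    star_le_of_le c.hG hH hstar hYF hr (c.ne_top_of_isPGroup hs hsp hQ₀p) hYQ₀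
  have hCH := star_centralizer_le c hH hAH hstar
  intro Q hQ
  obtain ⟨Q', hQ', hQQ'⟩ := Cfsg.Agent.Lib.Helper4.BGTrans.exists_maxInv_ge hQ
  obtain ⟨k, hk, hkQ⟩ := c.kconj hs hsp hQ₀ hQ'
  refine hQQ'.trans ?_
  rw [hkQ]
  rintro _ ⟨y, hy, rfl⟩
  show k * y * k⁻¹ ∈ H
  exact H.mul_mem (H.mul_mem (hCH hk) (hQ₀H hy)) (H.inv_mem (hCH hk))

/-- **(2b)+(2c)** packaged -/
theorem star_exists_prime (c : Ctx G p A E) (hH : IsCoatom H) (hAH : A ≤ H)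
    (hstar : ¬ ⁅H, H⁆ ≤ Cfsg.fittingOf H) :
    ∃ s : ℕ, s.Prime ∧ s ≠ p ∧ ¬ Cfsg.PRankLE s 2 ↥(Oq s (Cfsg.fittingOf H)) ∧
      Cfsg.InUniqueMaximal (Oq s (Cfsg.fittingOf H)) ∧
      ∀ Q ∈ Cfsg.invSubgroups ⊤ A {s}, Q ≤ H := by
  obtain ⟨t, ht, htp, -, h3, h1, -⟩ := star_exists_rank_three c hH hstar
  exact ⟨t, ht, htp, h3, star_inUniqueMaximal c.hG hH hstar (Oq_le t _) h1,
    star_inv_le c hH hAH hstar ht htp h1⟩

end star

end Cfsg.Agent.Lib.helper3.BG95
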