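import Mathlib
import Cfsg.Agent.S1451
import Cfsg.Agent.S0026
import Cfsg.Agent.Lib.Helper4.Rank2Aut
import Cfsg.Agent.Lib.Helper4.TypeP
import Cfsg.Agent.Lib.Helper5.BGTwelveA
import Cfsg.Agent.H1.MinNonPClosed

/-!
# B&G Lemma 9.5, part D: `{u, v}`-groups of rank at most 2 with operators

* `mem_centralizer_of_rank_two`: an odd-order group `Γ` normalizing a `u`-group `R` of rank at most 2:
  the `u'`-elements of `Γ'` centralize `R` (from B&G 4.17-type result of helper4);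
* `sylow_tower_le`: in a `{u, v}`-group `W` of odd order and rank at most 2 with operator group `A`,
  `v < u`: for `A`-invariant `M₀` (a `u`-group), `M₁` (a `v`-group) in `W` we get
  `⁅M₁, A⁆ ≤ C(M₀)`.
-/

set_option autoImplicit false
open Cfsg
open scoped commutatorElement

namespace Cfsg.Agent.Lib.helper3.BG95

variable {G : Type*} [Group G] [Finite G]

/-- the `u'`-elements of the derived group of an odd-order group of operators of a `u`-group of
rank at most 2 act trivially -/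
theorem mem_centralizer_of_rank_two {u : ℕ} [hu : Fact u.Prime] (hu2 : u ≠ 2) {R Γ : Subgroup G}
    (hR : IsPGroup u ↥R) (hr : Cfsg.PRankLE u 2 ↥R)
    (hΓ : Γ ≤ Subgroup.normalizer (R : Set G)) (hodd : Odd (Nat.card ↥Γ)) {x : G}
    (hx : x ∈ ⁅Γ, Γ⁆) (hxo : (orderOf x).Coprime u) : x ∈ Subgroup.centralizer (R : Set G) := by
  set c := Cfsg.Agent.Lib.Helper4.Rank2Aut.conjHom R Γ hΓ with hc
  have hoddr : Odd (Nat.card ↥c.range) := Odd.of_dvd_nat hodd (Subgroup.card_range_dvd c)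
  have hcore := Cfsg.Agent.Lib.Helper4.Rank2Aut.isPGroup_commutator hu2 hR hr c.range hoddr
  rw [← Subgroup.map_subtype_commutator] at hx
  obtain ⟨y, hy, rfl⟩ := hx
  have hmem : c.rangeRestrict y ∈ commutator ↥c.range :=
    Cfsg.Agent.Lib.Helper4.Rank2Aut.map_commutator_le c.rangeRestrict
      (Subgroup.mem_map_of_mem _ hy)
  obtain ⟨k, hk⟩ := hcore ⟨_, hmem⟩
  have h2 := congrArg (fun w : ↥(commutator ↥c.range) => ((w : ↥c.range) : MulAut ↥R)) hk
  simp only [Subgroup.coe_pow, Subgroup.coe_one] at h2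
  have h3 : (c y) ^ u ^ k = 1 := h2
  have h4 : (c y) ^ orderOf (Γ.subtype y) = 1 := by
    rw [← map_pow]
    have : y ^ orderOf (Γ.subtype y) = 1 := by
      apply Subtype.ext
      rw [Subgroup.coe_pow, Subgroup.coe_one]
      exact pow_orderOf_eq_one _
    rw [this, map_one]
  have h5 : orderOf (c y) ∣ Nat.gcd (u ^ k) (orderOf (Γ.subtype y)) :=
    Nat.dvd_gcd (orderOf_dvd_of_pow_eq_one h3) (orderOf_dvd_of_pow_eq_one h4)
  have h6 : Nat.gcd (u ^ k) (orderOf (Γ.subtype y)) = 1 :=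
    Nat.Coprime.pow_left k hxo.symm
  rw [h6, Nat.dvd_one, orderOf_eq_one_iff] at h5
  rw [Subgroup.mem_centralizer_iff]
  intro r hr'
  have h7 := congrArg (fun σ : MulAut ↥R => ((σ ⟨r, hr'⟩ : ↥R) : G)) h5
  simp only [Cfsg.Agent.Lib.Helper4.Rank2Aut.conjHom_apply, MulAut.one_apply] at h7
  have h8 : (Γ.subtype y) * r * (Γ.subtype y)⁻¹ = r := h7
  rw [mul_inv_eq_iff_eq_mul] at h8
  exact h8.symm

/-- the normalizer of `W` normalizes the image of a characteristic subgroup of `W` -/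
theorem normalizer_le_normalizer_map_char {W : Subgroup G} (N : Subgroup ↥W)
    [hN : N.Characteristic] :
    Subgroup.normalizer (W : Set G) ≤ Subgroup.normalizer ((N.map W.subtype : Subgroup G) : Set G) := by
  intro n hn
  apply Cfsg.Agent.H1.mem_normalizer_of_conj_mem
  rintro _ ⟨x, hx, rfl⟩
  set φ : MulAut ↥W := W.normalizerMonoidHom ⟨n, hn⟩ with hφ
  have h1 : x ∈ N.comap φ.toMonoidHom := by rw [hN.fixed φ]; exact hx
  exact ⟨φ x, h1, rfl⟩

theorem commutator_le_of_le_normalizer {M A : Subgroup G}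
    (hA : A ≤ Subgroup.normalizer (M : Set G)) : ⁅M, A⁆ ≤ M := by
  rw [Subgroup.commutator_le]
  intro m hm a ha
  have h1 : a * m⁻¹ * a⁻¹ ∈ M := (Subgroup.mem_normalizer_iff.mp (hA ha) _).mp (M.inv_mem hm)
  have e : ⁅m, a⁆ = m * (a * m⁻¹ * a⁻¹) := by rw [commutatorElement_def]; group
  rw [e]
  exact M.mul_mem hm h1

/-- the Sylow tower argument: in an `A`-invariant `{u, v}`-group `W` of rank at most 2 with
`v < u`, the commutator `⁅M₁, A⁆` of an `A`-invariant `v`-subgroup centralizes every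
`u`-subgroup. -/
theorem sylow_tower_le (hG : Cfsg.IsMinSimpleOddOrder G) {u v : ℕ} (hu : u.Prime) (hv : v.Prime)
    (hu2 : u ≠ 2) (hvu : v < u) {A W M₀ M₁ : Subgroup G} (hWtop : W ≠ ⊤)
    (hAW : A ≤ Subgroup.normalizer (W : Set G))
    (hWuv : ∀ r : ℕ, r.Prime → r ∣ Nat.card ↥W → r = u ∨ r = v) (hWr : Cfsg.RankLE 2 ↥W)
    (hM₀W : M₀ ≤ W) (hM₀u : IsPGroup u ↥M₀) (hM₁W : M₁ ≤ W) (hM₁v : IsPGroup v ↥M₁)
    (hAM₁ : A ≤ Subgroup.normalizer (M₁ : Set G)) :
    ⁅M₁, A⁆ ≤ Subgroup.centralizer (M₀ : Set G) := by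
  haveI : Fact u.Prime := ⟨hu⟩
  haveI : Fact v.Prime := ⟨hv⟩
  haveI : Group.IsSolvable ↥W := hG.2.2.2 W hWtop
  have hodd : Odd (Nat.card ↥W) := Odd.of_dvd_nat hG.1 (Subgroup.card_subgroup_dvd_card W)
  obtain ⟨-, -, h3⟩ := Cfsg.Agent.S1451.result (G := ↥W) hodd (Or.inl hWr)
  obtain ⟨N, hNchar, hNhall⟩ := h3 v
  haveI := hNchar
  haveI hNn : N.Normal := inferInstance
  set Ou := N.map W.subtype with hOu
  have hOuW : Ou ≤ W := Subgroup.map_subtype_le _
  have hcardOu : Nat.card ↥Ou = Nat.card ↥N :=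
    Subgroup.card_map_of_injective W.subtype_injective
  -- `Ou` is a `u`-group
  have hOuu : IsPGroup u ↥Ou := by
    have h1 : ∀ {d : ℕ}, d.Prime → d ∣ Nat.card ↥Ou → d = u := by
      intro d hd hdd
      rw [hcardOu] at hdd
      have hdπ := hNhall.1 d hd hdd
      rcases hWuv d hd (hdd.trans (Subgroup.card_subgroup_dvd_card N)) with h | h
      · exact h
      · exfalso
        rw [h] at hdπ
        exact lt_irrefl _ hdπ.2
    exact IsPGroup.of_card (Nat.eq_prime_pow_of_unique_prime_dvd Nat.card_pos.ne' h1)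
  -- `M₀ ≤ Ou`
  have hM₀Ou : M₀ ≤ Ou := by
    have h1 : M₀.subgroupOf W ≤ N :=
      Cfsg.Agent.Lib.Helper5.BGTwelve.pGroup_le_of_not_dvd_index hu hM₀u.comap_subtype
        (hNhall.2 u hu ⟨hu, hvu⟩)
    intro x hx
    exact ⟨⟨x, hM₀W hx⟩, h1 (Subgroup.mem_subgroupOf.mpr hx), rfl⟩
  -- rank
  have hOur : Cfsg.PRankLE u 2 ↥Ou :=
    Cfsg.Agent.Lib.Helper4.Rank2Fit.pRankLE_of_injective (Subgroup.inclusion hOuW)
      (Subgroup.inclusion_injective hOuW) (hWr u hu)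
  -- the operator group
  set Γ := M₁ ⊔ A with hΓ
  have hWOu : W ≤ Subgroup.normalizer (Ou : Set G) :=
    Cfsg.Agent.Lib.Helper4.TypeP.le_normalizer_map_subtype W N
  have hΓOu : Γ ≤ Subgroup.normalizer (Ou : Set G) :=
    sup_le (hM₁W.trans hWOu) (hAW.trans (normalizer_le_normalizer_map_char N))
  have hΓodd : Odd (Nat.card ↥Γ) := Odd.of_dvd_nat hG.1 (Subgroup.card_subgroup_dvd_card Γ)
  intro x hx
  have hxΓ : x ∈ ⁅Γ, Γ⁆ := Subgroup.commutator_mono le_sup_left le_sup_right hx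
  have hxM₁ : x ∈ M₁ := commutator_le_of_le_normalizer hAM₁ hx
  have hxo : (orderOf x).Coprime u := by
    obtain ⟨k, hk⟩ := hM₁v ⟨x, hxM₁⟩
    have h1 : x ^ v ^ k = 1 := by
      have := congrArg Subtype.val hk
      simpa using this
    have h2 : orderOf x ∣ v ^ k := orderOf_dvd_of_pow_eq_one h1
    apply Nat.Coprime.coprime_dvd_left h2
    apply Nat.Coprime.pow_left
    rw [Nat.coprime_primes hv hu]
    exact hvu.ne
  have h9 := mem_centralizer_of_rank_two hu2 hOuu hOur hΓOu hΓodd hxΓ hxo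
  exact Subgroup.centralizer_le (by exact_mod_cast hM₀Ou) h9

/-- consequence: if moreover `N_G(M₀) ≤ H` and `C_G(A) ≤ H` then `M₁ ≤ H` -/
theorem sylow_tower_le_coatom (hG : Cfsg.IsMinSimpleOddOrder G) {u v : ℕ} (hu : u.Prime)
    (hv : v.Prime) (hu2 : u ≠ 2) (hvu : v < u) {A W M₀ M₁ H : Subgroup G} (hWtop : W ≠ ⊤)
    (hAW : A ≤ Subgroup.normalizer (W : Set G))
    (hWuv : ∀ r : ℕ, r.Prime → r ∣ Nat.card ↥W → r = u ∨ r = v) (hWr : Cfsg.RankLE 2 ↥W)
    (hM₀W : M₀ ≤ W) (hM₀u : IsPGroup u ↥M₀) (hM₁W : M₁ ≤ W) (hM₁v : IsPGroup v ↥M₁)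
    (hAM₁ : A ≤ Subgroup.normalizer (M₁ : Set G))
    (hcop : (Nat.card ↥A).Coprime (Nat.card ↥M₁))
    (hCA : Subgroup.centralizer (A : Set G) ≤ H)
    (hN : Subgroup.normalizer (M₀ : Set G) ≤ H) : M₁ ≤ H := by
  haveI : Fact v.Prime := ⟨hv⟩
  have h1 : ⁅M₁, A⁆ ≤ H :=
    (sylow_tower_le hG hu hv hu2 hvu hWtop hAW hWuv hWr hM₀W hM₀u hM₁W hM₁v hAM₁).trans
      ((Subgroup.centralizer_le_normalizer _).trans hN)
  have hsolv : Group.IsSolvable ↥M₁ := by
    haveI := hM₁v.isNilpotent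
    infer_instance
  have h2 := Cfsg.Agent.S0026.result A M₁ hAM₁ hcop (Or.inr hsolv)
  rw [← h2]
  exact sup_le h1 (inf_le_right.trans hCA)

end Cfsg.Agent.Lib.helper3.BG95
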