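import Mathlib
import Cfsg.Agent.Lib.helper3.BG95C
import Cfsg.Agent.Lib.helper3.BG95D
import Cfsg.Agent.H1.CoprimeHallContain
import Cfsg.Agent.Lib.Helper4.NarrowSolv
import Cfsg.Agent.S0023

/-!
# B&G Lemma 9.5, part E: at most one maximal subgroup `H ≥ A` has `H' ≰ F(H)`
-/

set_option autoImplicit false
open Cfsg
open scoped commutatorElement

namespace Cfsg.Agent.Lib.helper3.BG95

open Cfsg.Agent.H2.BGU

variable {G : Type*} [Group G] [Finite G]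

theorem coatom_eq_of_le {H₀ H₁ : Subgroup G} (h₀ : IsCoatom H₀) (h₁ : IsCoatom H₁)
    (h : H₁ ≤ H₀) : H₁ = H₀ := by
  by_contra hne
  exact h₀.1 (h₁.2 H₀ (lt_of_le_of_ne h hne))

theorem not_dvd_card_of_isPGroup {p q : ℕ} (hp : p.Prime) (hq : q.Prime) (hqp : q ≠ p)
    {Y : Subgroup G} (hY : IsPGroup q ↥Y) : ¬ p ∣ Nat.card ↥Y := by
  haveI : Fact q.Prime := ⟨hq⟩
  obtain ⟨n, hn⟩ := hY.exists_card_eq
  rw [hn]
  intro h
  exact hqp ((Nat.prime_dvd_prime_iff_eq hp hq).mp (hp.dvd_of_dvd_pow h)).symm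

theorem eq_of_dvd_card_of_isPGroup {q r : ℕ} (hq : q.Prime) (hr : r.Prime)
    {Y : Subgroup G} (hY : IsPGroup q ↥Y) (h : r ∣ Nat.card ↥Y) : r = q := by
  haveI : Fact q.Prime := ⟨hq⟩
  obtain ⟨n, hn⟩ := hY.exists_card_eq
  rw [hn] at h
  exact (Nat.prime_dvd_prime_iff_eq hr hq).mp (hr.dvd_of_dvd_pow h)

section star

variable {p : ℕ} [hp : Fact p.Prime] {A E H : Subgroup G}

/-- an `A`-invariant `u`-subgroup of rank at least 3 (where `r_u(F(H)) ≥ 3`) lies in `H` together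
with every proper subgroup containing it -/
theorem star_le_of_rank_three (c : Ctx G p A E) (hH : IsCoatom H) (hAH : A ≤ H)
    (hstar : ¬ ⁅H, H⁆ ≤ Cfsg.fittingOf H) {u : ℕ} (hu : u.Prime) (hup : u ≠ p)
    (hu3 : ¬ Cfsg.PRankLE u 2 ↥(Oq u (Cfsg.fittingOf H)))
    (hu1 : ¬ Cfsg.RankLE 1 ↥(Oq u (Cfsg.fittingOf H)))
    {S X : Subgroup G} (hSu : IsPGroup u ↥S) (hAS : A ≤ Subgroup.normalizer (S : Set G))
    (hS3 : ¬ Cfsg.PRankLE u 2 ↥S) (hX : X ≠ ⊤) (hSX : S ≤ X) : X ≤ H := by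
  haveI : Fact u.Prime := ⟨hu⟩
  have hSinv : S ∈ Cfsg.invSubgroups ⊤ A {u} :=
    Cfsg.Agent.Lib.Helper4.BGTrans.mem_invSubgroups_top.mpr
      ⟨Cfsg.Agent.Lib.Helper4.BGTrans.isPiNat_of_isPGroup hSu, hAS⟩
  have hSH : S ≤ H := star_inv_le c hH hAH hstar hu hup hu1 S hSinv
  have hF3 : ¬ Cfsg.PRankLE u 2 ↥(Cfsg.fittingOf H) := by
    intro h
    apply hu3
    exact Cfsg.Agent.Lib.Helper4.Rank2Fit.pRankLE_of_injective
      (Subgroup.inclusion (Oq_le u (Cfsg.fittingOf H)))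
      (Subgroup.inclusion_injective _) h
  obtain ⟨W', hW'e, hW'S, hW'card⟩ := Cfsg.Agent.Lib.Helper4.BGUniq.exists_of_not_pRankLE hS3
  have hW'U : Cfsg.InUniqueMaximal W' :=
    Cfsg.Agent.S1401.result c.hG H hH u hF3 W'
      (Cfsg.Agent.Lib.Helper4.BGUniq.isPGroup_of_isElementaryAbelian hW'e) hW'e.1
      (Cfsg.Agent.Lib.Helper4.BGUniq.not_pRankLE_of_le hW'e le_rfl hW'card)
  exact Cfsg.Agent.Lib.Helper4.BGUniq.le_of_inUniqueMaximal_of_le hW'U hH (hW'S.trans hSH)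
    (hW'S.trans hSX) hX

/-- **(3)**: two distinct maximal subgroups containing `A` cannot both satisfy (star) -/
theorem star_unique (c : Ctx G p A E) {H₀ H₁ : Subgroup G}
    (hH₀ : IsCoatom H₀) (hAH₀ : A ≤ H₀) (hstar₀ : ¬ ⁅H₀, H₀⁆ ≤ Cfsg.fittingOf H₀)
    (hH₁ : IsCoatom H₁) (hAH₁ : A ≤ H₁) (hstar₁ : ¬ ⁅H₁, H₁⁆ ≤ Cfsg.fittingOf H₁) :
    H₀ = H₁ := by
  by_contra hne
  obtain ⟨u, hu, hup, hu2, hu3, hu1, -⟩ := star_exists_rank_three c hH₀ hstar₀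
  obtain ⟨v, hv, hvp, hv2, hv3, hv1, -⟩ := star_exists_rank_three c hH₁ hstar₁
  haveI : Fact u.Prime := ⟨hu⟩
  haveI : Fact v.Prime := ⟨hv⟩
  have hY₀F : Oq u (Cfsg.fittingOf H₀) ≤ Cfsg.fittingOf H₀ := Oq_le u _
  have hY₁F : Oq v (Cfsg.fittingOf H₁) ≤ Cfsg.fittingOf H₁ := Oq_le v _
  have hY₀p : IsPGroup u ↥(Oq u (Cfsg.fittingOf H₀)) := isPGroup_Oq hu _
  have hY₁p : IsPGroup v ↥(Oq v (Cfsg.fittingOf H₁)) := isPGroup_Oq hv _
  have hAY₀ : A ≤ Subgroup.normalizer (Oq u (Cfsg.fittingOf H₀) : Set G) :=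
    hAH₀.trans (le_normalizer_Oq_fittingOf u H₀)
  have hAY₁ : A ≤ Subgroup.normalizer (Oq v (Cfsg.fittingOf H₁) : Set G) :=
    hAH₁.trans (le_normalizer_Oq_fittingOf v H₁)
  have hY₀H₁ : ¬ Oq u (Cfsg.fittingOf H₀) ≤ H₁ := by
    intro h
    have h1 := star_le_of_le c.hG hH₀ hstar₀ hY₀F hu1 hH₁.1 h
    exact hne (coatom_eq_of_le hH₀ hH₁ h1).symm
  have hY₁H₀ : ¬ Oq v (Cfsg.fittingOf H₁) ≤ H₀ := by
    intro h
    have h1 := star_le_of_le c.hG hH₁ hstar₁ hY₁F hv1 hH₀.1 h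
    exact hne (coatom_eq_of_le hH₁ hH₀ h1)
  have huv : u ≠ v := by
    intro huv
    have hv1' : ¬ Cfsg.RankLE 1 ↥(Oq u (Cfsg.fittingOf H₁)) := by rw [huv]; exact hv1
    have hinv : Oq u (Cfsg.fittingOf H₀) ∈ Cfsg.invSubgroups ⊤ A {u} :=
      Cfsg.Agent.Lib.Helper4.BGTrans.mem_invSubgroups_top.mpr
        ⟨Cfsg.Agent.Lib.Helper4.BGTrans.isPiNat_of_isPGroup hY₀p, hAY₀⟩
    exact hY₀H₁ (star_inv_le c hH₁ hAH₁ hstar₁ hu hup hv1' _ hinv)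
  set Y₀ := Oq u (Cfsg.fittingOf H₀) with hY₀
  set Y₁ := Oq v (Cfsg.fittingOf H₁) with hY₁
  have hpY₀ : ¬ p ∣ Nat.card ↥Y₀ := not_dvd_card_of_isPGroup hp.out hu hup hY₀p
  have hpY₁ : ¬ p ∣ Nat.card ↥Y₁ := not_dvd_card_of_isPGroup hp.out hv hvp hY₁p
  obtain ⟨B', hB'E, hB'i, hB'⟩ :=
    exists_not_le_of_hyperGen c.hE hpY₀ (c.hEA.trans hAY₀) hY₀H₁
  obtain ⟨B'', hB''E, hB''i, hB''⟩ :=
    exists_not_le_of_hyperGen c.hE hpY₁ (c.hEA.trans hAY₁) hY₁H₀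
  obtain ⟨b, hb, hb1⟩ := exists_ne_one_mem_inf hp.out c.hEcard hB'E hB''E hB'i hB''i
  have hbA : b ∈ A := c.hEA (hB'E hb.1)
  set Cb := Subgroup.centralizer ({b} : Set G) with hCb
  have hCbtop : Cb ≠ ⊤ := Cfsg.Agent.Lib.Helper4.BGUniq.centralizer_singleton_ne_top c.hG hb1
  have hACb : A ≤ Cb := by
    refine c.le_centralizer_self.trans (Subgroup.centralizer_le ?_)
    intro x hx
    rw [Set.mem_singleton_iff] at hx
    rw [hx]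
    exact hbA
  have hCB' : Subgroup.centralizer (B' : Set G) ≤ Cb := by
    apply Subgroup.centralizer_le
    intro x hx
    rw [Set.mem_singleton_iff] at hx
    rw [hx]
    exact hb.1
  have hCB'' : Subgroup.centralizer (B'' : Set G) ≤ Cb := by
    apply Subgroup.centralizer_le
    intro x hx
    rw [Set.mem_singleton_iff] at hx
    rw [hx]
    exact hb.2
  set L₀ := Y₀ ⊓ Cb with hL₀
  set L₁ := Y₁ ⊓ Cb with hL₁
  have hL₀H₁ : ¬ L₀ ≤ H₁ := fun h => hB' ((inf_le_inf_left _ hCB').trans h)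
  have hL₁H₀ : ¬ L₁ ≤ H₀ := fun h => hB'' ((inf_le_inf_left _ hCB'').trans h)
  have hL₀p : IsPGroup u ↥L₀ := hY₀p.to_le inf_le_left
  have hL₁p : IsPGroup v ↥L₁ := hY₁p.to_le inf_le_left
  have hACbn : A ≤ Subgroup.normalizer (Cb : Set G) := hACb.trans Subgroup.le_normalizer
  have hAL₀ : A ≤ Subgroup.normalizer (L₀ : Set G) :=
    Cfsg.Agent.Lib.Helper4.BGTrans.le_normalizer_inf hAY₀ hACbn
  have hAL₁ : A ≤ Subgroup.normalizer (L₁ : Set G) :=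
    Cfsg.Agent.Lib.Helper4.BGTrans.le_normalizer_inf hAY₁ hACbn
  set Wb := Cfsg.piCoreOf (Cfsg.primesNotDvd (Nat.card ↥A)) Cb with hWb
  have hL₀Wb : L₀ ≤ Wb := by
    apply Cfsg.Agent.Lib.Helper4.BGTrans.le_piCoreOf_of_inv c.hTA hCbtop hACb
    refine ⟨inf_le_right, ?_, hAL₀⟩
    intro r hr hrd
    rw [eq_of_dvd_card_of_isPGroup hu hr hL₀p hrd]
    exact c.mem_primesNotDvd hu hup
  have hL₁Wb : L₁ ≤ Wb := by
    apply Cfsg.Agent.Lib.Helper4.BGTrans.le_piCoreOf_of_inv c.hTA hCbtop hACb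
    refine ⟨inf_le_right, ?_, hAL₁⟩
    intro r hr hrd
    rw [eq_of_dvd_card_of_isPGroup hv hr hL₁p hrd]
    exact c.mem_primesNotDvd hv hvp
  have hWbCb : Wb ≤ Cb := Cfsg.Agent.Lib.Helper4.BGTrans.piCoreOf_le _ _
  have hWbtop : Wb ≠ ⊤ := fun h => hCbtop (top_le_iff.mp (h ▸ hWbCb))
  have hAWb : A ≤ Subgroup.normalizer (Wb : Set G) :=
    hACb.trans (Cfsg.Agent.Lib.Helper4.BGTrans.le_normalizer_piCoreOf _ _)
  have hcopWb : (Nat.card ↥A).Coprime (Nat.card ↥Wb) :=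
    (Cfsg.Agent.Lib.Helper4.BGTrans.isPiNat_primesNotDvd_iff _ _).mp
      (Cfsg.Agent.Lib.Helper4.BGTrans.isPiNat_piCoreOf _ _)
  have hsolvWb : Group.IsSolvable ↥Wb := c.hG.2.2.2 Wb hWbtop
  -- the Hall subgroups
  obtain ⟨W, hWhall, hAW, hL₀W⟩ := Cfsg.Agent.H1.coprime_hall_contain A Wb L₀ ({u, v} : Set ℕ)
    hAWb hcopWb hsolvWb hL₀Wb hAL₀
    (fun r hr hrd => Or.inl (eq_of_dvd_card_of_isPGroup hu hr hL₀p hrd))
  obtain ⟨W', hW'hall, hAW', hL₁W'⟩ := Cfsg.Agent.H1.coprime_hall_contain A Wb L₁ ({u, v} : Set ℕ)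
    hAWb hcopWb hsolvWb hL₁Wb hAL₁
    (fun r hr hrd => Or.inr (eq_of_dvd_card_of_isPGroup hv hr hL₁p hrd))
  obtain ⟨c₀, hc₀, hW'⟩ := Cfsg.Agent.H1.invariant_isPiHallOf_conj A Wb hAWb hcopWb hsolvWb
    ({u, v} : Set ℕ) W W' hWhall hAW hW'hall hAW'
  have hc₀A : c₀ ∈ Subgroup.centralizer (A : Set G) := hc₀.2
  have hc₀A' : c₀⁻¹ ∈ Subgroup.centralizer (A : Set G) := Subgroup.inv_mem _ hc₀A
  have hCA₀ := star_centralizer_le c hH₀ hAH₀ hstar₀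
  have hCA₁ := star_centralizer_le c hH₁ hAH₁ hstar₁
  set M₁ := L₁.map (MulAut.conj c₀⁻¹).toMonoidHom with hM₁
  have hM₁W : M₁ ≤ W := by
    rintro _ ⟨y, hy, rfl⟩
    have h1 : y ∈ W' := hL₁W' hy
    rw [hW'] at h1
    obtain ⟨w, hw, rfl⟩ := h1
    have e : (MulAut.conj c₀⁻¹).toMonoidHom ((MulAut.conj c₀).toMonoidHom w) = w := by
      simp [MulAut.conj_apply]
      group
    rw [e]
    exact hw
  have hM₁v : IsPGroup v ↥M₁ := hL₁p.map _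
  have hAM₁ : A ≤ Subgroup.normalizer (M₁ : Set G) :=
    Cfsg.Agent.Lib.Helper4.BGTrans.le_normalizer_map_conj hAL₁ hc₀A'
  have hM₁H₀ : ¬ M₁ ≤ H₀ := by
    intro h
    apply hL₁H₀
    intro y hy
    have h1 : c₀⁻¹ * y * c₀⁻¹⁻¹ ∈ H₀ := h ⟨y, hy, rfl⟩
    have h2 : c₀ ∈ H₀ := hCA₀ hc₀A
    have e : y = c₀ * (c₀⁻¹ * y * c₀⁻¹⁻¹) * c₀⁻¹ := by group
    rw [e]
    exact H₀.mul_mem (H₀.mul_mem h2 h1) (H₀.inv_mem h2)
  have hM₁F : M₁ ≤ Cfsg.fittingOf H₁ := by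
    rintro _ ⟨y, hy, rfl⟩
    have h1 : y ∈ Cfsg.fittingOf H₁ := hY₁F hy.1
    have h2 : c₀⁻¹ ∈ Subgroup.normalizer (Cfsg.fittingOf H₁ : Set G) :=
      le_normalizer_fittingOf H₁ (hCA₁ hc₀A')
    exact (Subgroup.mem_normalizer_iff.mp h2 y).mp h1
  have hM₁ne : M₁ ≠ ⊥ := by
    intro h
    apply hM₁H₀
    rw [h]
    exact bot_le
  have hL₀ne : L₀ ≠ ⊥ := by
    intro h
    apply hL₀H₁
    rw [h]
    exact bot_le
  have hN₀ : Subgroup.normalizer (L₀ : Set G) ≤ H₀ :=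
    star_normalizer_le c.hG hH₀ hstar₀ (inf_le_left.trans hY₀F) hL₀ne
  have hN₁ : Subgroup.normalizer (M₁ : Set G) ≤ H₁ :=
    star_normalizer_le c.hG hH₁ hstar₁ hM₁F hM₁ne
  have hWWb : W ≤ Wb := hWhall.1
  have hWCb : W ≤ Cb := hWWb.trans hWbCb
  have hWtop : W ≠ ⊤ := fun h => hCbtop (top_le_iff.mp (h ▸ hWCb))
  have hWuv : ∀ r : ℕ, r.Prime → r ∣ Nat.card ↥W → r = u ∨ r = v := by
    intro r hr hrd
    have := hWhall.2.1 r hr hrd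
    simpa using this
  have hcopW : (Nat.card ↥A).Coprime (Nat.card ↥W) :=
    Nat.Coprime.coprime_dvd_right (Subgroup.card_dvd_of_le hWWb) hcopWb
  have hsolvW : Group.IsSolvable ↥W := c.hG.2.2.2 W hWtop
  -- the rank of `W`
  have hWr : Cfsg.RankLE 2 ↥W := by
    intro r hr
    by_contra hnr
    obtain ⟨B, hBe, hBW, hBcard⟩ := Cfsg.Agent.Lib.Helper4.BGUniq.exists_of_not_pRankLE hnr
    haveI : Fact r.Prime := ⟨hr⟩
    have hrd : r ∣ Nat.card ↥W := by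
      obtain ⟨n, hn⟩ :=
        (Cfsg.Agent.Lib.Helper4.BGUniq.isPGroup_of_isElementaryAbelian hBe).exists_card_eq
      have hn0 : n ≠ 0 := by
        rintro rfl
        rw [hn, pow_zero] at hBcard
        have : 1 ≤ r ^ 2 := Nat.one_le_pow _ _ hr.pos
        omega
      exact (hn ▸ dvd_pow_self r hn0 : r ∣ Nat.card ↥B).trans (Subgroup.card_dvd_of_le hBW)
    obtain ⟨P, hP⟩ := Cfsg.Agent.S0023.result A W hAW hcopW (Or.inr hsolvW) r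
    have hS3 : ¬ Cfsg.PRankLE r 2 ↥((P : Subgroup ↥W).map W.subtype) := by
      intro h
      apply hnr
      apply Cfsg.Agent.Lib.Helper4.NarrowSolv.pRankLE_of_sylow P
      exact Cfsg.Agent.Lib.Helper4.Rank2Fit.pRankLE_of_injective
        ((P : Subgroup ↥W).equivMapOfInjective W.subtype W.subtype_injective).toMonoidHom
        (MulEquiv.injective _) h
    have hSp : IsPGroup r ↥((P : Subgroup ↥W).map W.subtype) := P.isPGroup'.map _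
    have hSCb : (P : Subgroup ↥W).map W.subtype ≤ Cb := (Subgroup.map_subtype_le _).trans hWCb
    rcases hWuv r hr hrd with h | h
    · subst h
      have h1 : Cb ≤ H₀ :=
        star_le_of_rank_three c hH₀ hAH₀ hstar₀ hu hup hu3 hu1 hSp hP hS3 hCbtop hSCb
      exact hL₁H₀ (inf_le_right.trans h1)
    · subst h
      have h1 : Cb ≤ H₁ :=
        star_le_of_rank_three c hH₁ hAH₁ hstar₁ hv hvp hv3 hv1 hSp hP hS3 hCbtop hSCb
      exact hL₀H₁ (inf_le_right.trans h1)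
  have hcopL₀ : (Nat.card ↥A).Coprime (Nat.card ↥L₀) :=
    Nat.Coprime.coprime_dvd_right (Subgroup.card_dvd_of_le hL₀Wb) hcopWb
  have hcopM₁ : (Nat.card ↥A).Coprime (Nat.card ↥M₁) :=
    Nat.Coprime.coprime_dvd_right (Subgroup.card_dvd_of_le hM₁W) hcopW
  rcases lt_or_gt_of_ne huv with h | h
  · exact hL₀H₁ (sylow_tower_le_coatom c.hG hv hu hv2 h hWtop hAW
      (fun r hr hrd => (hWuv r hr hrd).symm) hWr hM₁W hM₁v hL₀W hL₀p hAL₀ hcopL₀ hCA₁ hN₁)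
  · exact hM₁H₀ (sylow_tower_le_coatom c.hG hu hv hu2 h hWtop hAW hWuv hWr hL₀W hL₀p hM₁W hM₁v
      hAM₁ hcopM₁ hCA₀ hN₀)

end star

end Cfsg.Agent.Lib.helper3.BG95
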