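import Mathlib
import Cfsg.Prelude.Def_Characters
import Cfsg.Agent.Lib.helper3.CharBasic

set_option autoImplicit false
set_option linter.style.haveILetI false
set_option linter.unusedSectionVars false

/-!
# Character values in cyclotomic fields and their Galois conjugates
-/

namespace Cfsg.Agent.Lib.helper3.Cyclo

open Cfsg Module Cfsg.Agent.Lib.helper3.CharBasic
open scoped ComplexConjugate

section field

variable (n : ℕ) [NeZero n]

theorem isCyclo : IsCyclotomicExtension {n} ℚ (CyclotomicField n ℚ) :=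
  CyclotomicField.isCyclotomicExtension n ℚ

/-- The chosen primitive root in the cyclotomic field. -/
noncomputable def zetaK : CyclotomicField n ℚ :=
  haveI := isCyclo n
  IsCyclotomicExtension.zeta n ℚ (CyclotomicField n ℚ)

theorem zetaK_spec : IsPrimitiveRoot (zetaK n) n :=
  haveI := isCyclo n
  IsCyclotomicExtension.zeta_spec n ℚ (CyclotomicField n ℚ)

/-- A fixed embedding of the cyclotomic field into `ℂ`. -/
noncomputable def emb : CyclotomicField n ℚ →ₐ[ℚ] ℂ :=
  haveI : IsCyclotomicExtension {n} ℚ (CyclotomicField n ℚ) :=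
    CyclotomicField.isCyclotomicExtension n ℚ
  haveI : FiniteDimensional ℚ (CyclotomicField n ℚ) :=
    IsCyclotomicExtension.finiteDimensional {n} ℚ (CyclotomicField n ℚ)
  IsAlgClosed.lift

theorem emb_injective : Function.Injective (emb n) := (emb n).toRingHom.injective

theorem emb_zetaK_spec : IsPrimitiveRoot (emb n (zetaK n)) n :=
  (zetaK_spec n).map_of_injective (emb_injective n)

/-- Every automorphism raises the primitive root to a power coprime to `n`. -/
theorem aut_zeta (σ : CyclotomicField n ℚ ≃ₐ[ℚ] CyclotomicField n ℚ) :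
    ∃ t : ℕ, t.Coprime n ∧ σ (zetaK n) = zetaK n ^ t := by
  have h1 : IsPrimitiveRoot (σ (zetaK n)) n :=
    (zetaK_spec n).map_of_injective σ.injective
  obtain ⟨t, -, ht⟩ := (zetaK_spec n).eq_pow_of_pow_eq_one h1.pow_eq_one
  refine ⟨t, ?_, ht.symm⟩
  rw [← ht] at h1
  exact ((zetaK_spec n).pow_iff_coprime (NeZero.pos n) t).mp h1

/-- Every power coprime to `n` is realised by an automorphism. -/
theorem exists_aut (t : ℕ) (ht : t.Coprime n) :
    ∃ σ : CyclotomicField n ℚ ≃ₐ[ℚ] CyclotomicField n ℚ, σ (zetaK n) = zetaK n ^ t := by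
  haveI := isCyclo n
  have hirr : Irreducible (Polynomial.cyclotomic n ℚ) :=
    Polynomial.cyclotomic.irreducible_rat (NeZero.pos n)
  have hμ : IsPrimitiveRoot (zetaK n ^ t) n := (zetaK_spec n).pow_of_coprime t ht
  exact ⟨IsCyclotomicExtension.fromZetaAut hμ hirr, IsCyclotomicExtension.fromZetaAut_spec hμ hirr⟩

/-- Elements fixed by all automorphisms are rational. -/
theorem exists_rat_of_fixed (a : CyclotomicField n ℚ)
    (h : ∀ σ : CyclotomicField n ℚ ≃ₐ[ℚ] CyclotomicField n ℚ, σ a = a) :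
    ∃ q : ℚ, a = algebraMap ℚ (CyclotomicField n ℚ) q := by
  haveI : IsCyclotomicExtension {n} ℚ (CyclotomicField n ℚ) :=
    CyclotomicField.isCyclotomicExtension n ℚ
  haveI : IsGalois ℚ (CyclotomicField n ℚ) :=
    IsCyclotomicExtension.isGalois {n} ℚ (CyclotomicField n ℚ)
  haveI : FiniteDimensional ℚ (CyclotomicField n ℚ) :=
    IsCyclotomicExtension.finiteDimensional {n} ℚ (CyclotomicField n ℚ)
  obtain ⟨q, hq⟩ := (IsGalois.mem_range_algebraMap_iff_fixed a).mpr h
  exact ⟨q, hq.symm⟩

/-- The product of the conjugates of an algebraic integer is a rational integer, which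
vanishes only for zero. -/
theorem exists_int_prod_conj (a : CyclotomicField n ℚ) (ha : IsIntegral ℤ a) :
    ∃ m : ℤ, (m : ℂ) = ∏ σ : CyclotomicField n ℚ ≃ₐ[ℚ] CyclotomicField n ℚ, emb n (σ a) ∧
      (m = 0 → a = 0) := by
  haveI : IsCyclotomicExtension {n} ℚ (CyclotomicField n ℚ) :=
    CyclotomicField.isCyclotomicExtension n ℚ
  haveI : IsGalois ℚ (CyclotomicField n ℚ) :=
    IsCyclotomicExtension.isGalois {n} ℚ (CyclotomicField n ℚ)
  haveI : FiniteDimensional ℚ (CyclotomicField n ℚ) :=
    IsCyclotomicExtension.finiteDimensional {n} ℚ (CyclotomicField n ℚ)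
  have hN : IsIntegral ℤ (Algebra.norm ℚ a) := Algebra.isIntegral_norm ℚ ha
  obtain ⟨m, hm⟩ := IsIntegrallyClosed.isIntegral_iff.mp hN
  have hprod := Algebra.norm_eq_prod_automorphisms ℚ a
  refine ⟨m, ?_, ?_⟩
  · have := congrArg (emb n) hprod
    rw [map_prod, ← hm] at this
    rw [← this]
    simp
  · intro h0
    have hna : Algebra.norm ℚ a = 0 := by rw [← hm, h0]; simp
    exact Algebra.norm_eq_zero_iff.mp hna

end field

section character

variable {G : Type*} [Group G] [Finite G]
variable {V : Type*} [AddCommGroup V] [Module ℂ V] [FiniteDimensional ℂ V]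

/-- Character values lift to the cyclotomic field compatibly with Galois conjugation. -/
theorem exists_cyclo_lift (n : ℕ) [NeZero n] (hn : ∀ g : G, g ^ n = 1)
    (ρ : Representation ℂ G V) (g : G) :
    ∃ a : CyclotomicField n ℚ, IsIntegral ℤ a ∧ emb n a = ρ.character g ∧
      ∀ (σ : CyclotomicField n ℚ ≃ₐ[ℚ] CyclotomicField n ℚ) (t : ℕ),
        σ (zetaK n) = zetaK n ^ t → emb n (σ a) = ρ.character (g ^ t) := by
  obtain ⟨I, _, v, μ, hf, hμ⟩ := exists_eigenbasis ρ g
  have hμn : ∀ i, μ i ^ n = 1 := by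
    intro i
    have hdvd : orderOf g ∣ n := orderOf_dvd_of_pow_eq_one (hn g)
    obtain ⟨c, hc⟩ := hdvd
    rw [hc, pow_mul, hμ i, one_pow]
  have hk : ∀ i, ∃ k : ℕ, μ i = emb n (zetaK n ^ k) := by
    intro i
    obtain ⟨k, -, hk⟩ := (emb_zetaK_spec n).eq_pow_of_pow_eq_one (hμn i)
    exact ⟨k, by rw [map_pow, hk]⟩
  choose k hk using hk
  refine ⟨∑ i, zetaK n ^ k i, ?_, ?_, ?_⟩
  · apply IsIntegral.sum
    intro i _
    apply IsIntegral.pow
    exact (zetaK_spec n).isIntegral (NeZero.pos n)
  · rw [map_sum, character_eq_sum_of_eigenbasis ρ g v μ hf]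
    exact Finset.sum_congr rfl (fun i _ => (hk i).symm)
  · intro σ t hσ
    rw [character_eq_sum_of_eigenbasis ρ (g ^ t) v (fun i => μ i ^ t)
      (fun i => rho_pow_apply_eigen ρ g v μ hf t i)]
    rw [map_sum, map_sum]
    apply Finset.sum_congr rfl
    intro i _
    rw [map_pow, hσ, ← pow_mul, mul_comm, pow_mul, map_pow, ← hk i]

end character

end Cfsg.Agent.Lib.helper3.Cyclo
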