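import Mathlib
import Cfsg.Prelude.Def_Characters
import Cfsg.Agent.Lib.helper3.Cyclo
import Cfsg.Agent.Lib.helper3.Irr9

set_option autoImplicit false
set_option linter.style.haveILetI false
set_option linter.unusedSectionVars false

/-!
# Burnside: a nonlinear irreducible character vanishes somewhere
-/

namespace Cfsg.Agent.Lib.helper3.Cyclo

open Cfsg Module Cfsg.Agent.Lib.helper3.CharBasic Cfsg.Agent.Lib.helper3.IndFun
open Cfsg.Agent.Lib.helper3.Irr
open scoped ComplexConjugate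

/-- AM-GM in the form: nonnegative reals with product at least one have sum at least their
number. -/
theorem card_le_sum_of_one_le_prod {J : Type*} [Fintype J] (x : J → ℝ) (h0 : ∀ j, 0 ≤ x j)
    (hp : 1 ≤ ∏ j, x j) : (Fintype.card J : ℝ) ≤ ∑ j, x j := by
  rcases isEmpty_or_nonempty J with hJ | hJ
  · simp
  have hc : 0 < (Fintype.card J : ℝ) := by exact_mod_cast Fintype.card_pos
  have h := Real.geom_mean_le_arith_mean_weighted Finset.univ
    (fun _ : J => (Fintype.card J : ℝ)⁻¹) x (fun _ _ => inv_nonneg.mpr hc.le)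
    (by rw [Finset.sum_const, Finset.card_univ, nsmul_eq_mul, mul_inv_cancel₀ hc.ne'])
    (fun j _ => h0 j)
  rw [Real.finsetProd_rpow _ _ (fun j _ => h0 j), ← Finset.mul_sum] at h
  have h1 : (1 : ℝ) ≤ (∏ j, x j) ^ (Fintype.card J : ℝ)⁻¹ :=
    Real.one_le_rpow hp (inv_nonneg.mpr hc.le)
  have h2 := le_trans h1 h
  rw [inv_mul_eq_div, le_div_iff₀ hc] at h2
  linarith

variable {G : Type*} [Group G]

theorem sum_norm_sq_of_irr [Fintype G] {χ : G → ℂ} (hχ : IsIrrCharacter G χ) :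
    ∑ g : G, ‖χ g‖ ^ 2 = (Nat.card G : ℝ) := by
  have h1 := irr_classInner_self hχ
  rw [classInner_apply] at h1
  have hG : (Nat.card G : ℂ) ≠ 0 := card_ne_zero_complex G
  have h2 : ∑ g : G, χ g * conj (χ g) = (Nat.card G : ℂ) := by
    field_simp at h1
    exact h1
  apply Complex.ofReal_injective
  rw [Complex.ofReal_sum, Complex.ofReal_natCast, ← h2]
  apply Finset.sum_congr rfl
  intro g _
  rw [Complex.mul_conj, Complex.normSq_eq_norm_sq]

/-- Burnside's theorem on zeros of characters. -/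
theorem exists_zero_of_nonlinear [Fintype G] {V : Type*} [AddCommGroup V] [Module ℂ V]
    [FiniteDimensional ℂ V] (ρ : Representation ℂ G V) [ρ.IsIrreducible]
    (hdeg : 1 < finrank ℂ V) : ∃ g : G, ρ.character g = 0 := by
  classical
  by_contra hcon
  push Not at hcon
  haveI : NeZero (Nat.card G) := ⟨Nat.card_pos.ne'⟩
  have hn : ∀ g : G, g ^ Nat.card G = 1 := fun g => pow_card_eq_one'
  haveI := isCyclo (Nat.card G)
  haveI : FiniteDimensional ℚ (CyclotomicField (Nat.card G) ℚ) :=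
    IsCyclotomicExtension.finiteDimensional {Nat.card G} ℚ (CyclotomicField (Nat.card G) ℚ)
  have ht := fun σ : CyclotomicField (Nat.card G) ℚ ≃ₐ[ℚ] CyclotomicField (Nat.card G) ℚ =>
    aut_zeta (Nat.card G) σ
  choose t htcop htσ using ht
  have hχ : IsIrrCharacter G ρ.character := isIrrCharacter_of_rep ρ
  -- the key inequality for each `g`
  have hkey : ∀ g : G, (Fintype.card
      (CyclotomicField (Nat.card G) ℚ ≃ₐ[ℚ] CyclotomicField (Nat.card G) ℚ) : ℝ)
      ≤ ∑ σ, ‖ρ.character (g ^ t σ)‖ ^ 2 := by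
    intro g
    obtain ⟨a, haint, ha, hσa⟩ := exists_cyclo_lift (Nat.card G) hn ρ g
    obtain ⟨m, hm, hm0⟩ := exists_int_prod_conj (Nat.card G) a haint
    have hm' : (m : ℂ) = ∏ σ, ρ.character (g ^ t σ) := by
      rw [hm]
      exact Finset.prod_congr rfl (fun σ _ => hσa σ (t σ) (htσ σ))
    have hmne : m ≠ 0 := by
      intro h0
      have : (∏ σ, ρ.character (g ^ t σ)) = 0 := by rw [← hm', h0]; simp
      rw [Finset.prod_eq_zero_iff] at this
      obtain ⟨σ, -, hσ⟩ := this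
      exact hcon _ hσ
    have hmabs : (1 : ℝ) ≤ ‖(m : ℂ)‖ := by
      rw [← Complex.ofReal_intCast, Complex.norm_real, Real.norm_eq_abs]
      have : 1 ≤ |m| := Int.one_le_abs hmne
      exact_mod_cast this
    apply card_le_sum_of_one_le_prod
    · intro σ; positivity
    · rw [Finset.prod_pow, ← norm_prod, ← hm']
      nlinarith
  -- sum over the group
  have hsum : ∑ g : G, ∑ σ : CyclotomicField (Nat.card G) ℚ ≃ₐ[ℚ] CyclotomicField (Nat.card G) ℚ,
      ‖ρ.character (g ^ t σ)‖ ^ 2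
      = (Fintype.card (CyclotomicField (Nat.card G) ℚ ≃ₐ[ℚ] CyclotomicField (Nat.card G) ℚ) : ℝ)
        * (Nat.card G : ℝ) := by
    rw [Finset.sum_comm]
    have : ∀ σ : CyclotomicField (Nat.card G) ℚ ≃ₐ[ℚ] CyclotomicField (Nat.card G) ℚ,
        ∑ g : G, ‖ρ.character (g ^ t σ)‖ ^ 2 = (Nat.card G : ℝ) := by
      intro σ
      rw [← sum_norm_sq_of_irr hχ]
      exact Fintype.sum_equiv (powCoprime (htcop σ).symm) _ _ (fun g => rfl)
    simp_rw [this]
    rw [Finset.sum_const, Finset.card_univ, nsmul_eq_mul]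
  -- the term at the identity
  have hone : ∑ σ : CyclotomicField (Nat.card G) ℚ ≃ₐ[ℚ] CyclotomicField (Nat.card G) ℚ,
      ‖ρ.character ((1 : G) ^ t σ)‖ ^ 2
      = (Fintype.card (CyclotomicField (Nat.card G) ℚ ≃ₐ[ℚ] CyclotomicField (Nat.card G) ℚ) : ℝ)
        * (finrank ℂ V : ℝ) ^ 2 := by
    simp only [one_pow, Representation.char_one, Complex.norm_natCast]
    rw [Finset.sum_const, Finset.card_univ, nsmul_eq_mul]
  have hsplit : ∑ g : G, ∑ σ : CyclotomicField (Nat.card G) ℚ ≃ₐ[ℚ] CyclotomicField (Nat.card G) ℚ,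
      ‖ρ.character (g ^ t σ)‖ ^ 2
      = (∑ σ : CyclotomicField (Nat.card G) ℚ ≃ₐ[ℚ] CyclotomicField (Nat.card G) ℚ,
          ‖ρ.character ((1 : G) ^ t σ)‖ ^ 2)
        + ∑ g ∈ Finset.univ.erase (1 : G),
          ∑ σ : CyclotomicField (Nat.card G) ℚ ≃ₐ[ℚ] CyclotomicField (Nat.card G) ℚ,
            ‖ρ.character (g ^ t σ)‖ ^ 2 :=
    (Finset.add_sum_erase Finset.univ _ (Finset.mem_univ (1 : G))).symm
  have hrest : ((Fintype.card G - 1 : ℕ) : ℝ) * (Fintype.card
      (CyclotomicField (Nat.card G) ℚ ≃ₐ[ℚ] CyclotomicField (Nat.card G) ℚ) : ℝ)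
      ≤ ∑ g ∈ Finset.univ.erase (1 : G),
          ∑ σ : CyclotomicField (Nat.card G) ℚ ≃ₐ[ℚ] CyclotomicField (Nat.card G) ℚ,
            ‖ρ.character (g ^ t σ)‖ ^ 2 := by
    have := Finset.card_nsmul_le_sum (Finset.univ.erase (1 : G))
      (fun g => ∑ σ : CyclotomicField (Nat.card G) ℚ ≃ₐ[ℚ] CyclotomicField (Nat.card G) ℚ,
            ‖ρ.character (g ^ t σ)‖ ^ 2) _ (fun g _ => hkey g)
    rw [Finset.card_erase_of_mem (Finset.mem_univ _), Finset.card_univ, nsmul_eq_mul] at this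
    exact this
  have hcardpos : (0 : ℝ) < (Fintype.card
      (CyclotomicField (Nat.card G) ℚ ≃ₐ[ℚ] CyclotomicField (Nat.card G) ℚ) : ℝ) := by
    exact_mod_cast Fintype.card_pos
  have hGcard : (Nat.card G : ℝ) = ((Fintype.card G - 1 : ℕ) : ℝ) + 1 := by
    rw [Nat.card_eq_fintype_card]
    have : 0 < Fintype.card G := Fintype.card_pos
    rw [Nat.cast_sub this]
    simp
  have hd : (2 : ℝ) ≤ (finrank ℂ V : ℝ) := by exact_mod_cast hdeg
  rw [hsplit, hone] at hsum
  have hd2 : (4 : ℝ) ≤ (finrank ℂ V : ℝ) ^ 2 := by nlinarith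
  have h4 := mul_le_mul_of_nonneg_left hd2 hcardpos.le
  rw [hGcard] at hsum
  nlinarith

end Cfsg.Agent.Lib.helper3.Cyclo
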