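import Mathlib
import Cfsg.Prelude.Def_Characters
import Cfsg.Agent.Lib.helper3.CentralChar
import Cfsg.Agent.Lib.helper3.Inflate2
import Cfsg.Agent.Lib.helper3.Degrees

set_option autoImplicit false
set_option linter.style.haveILetI false
set_option linter.unusedSectionVars false

/-!
# Tate's tensor power trick: preparations
-/

namespace Cfsg.Agent.Lib.helper3.Central

open Cfsg Module Cfsg.Agent.Lib.helper3.IndFun Cfsg.Agent.Lib.helper3.CharBasic
open Cfsg.Agent.Lib.helper3.Irr
open scoped ComplexConjugate

/-- If `d ^ (m+1)` divides `z * b ^ (m+1)` for all `m` then `d` divides `b`. -/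
theorem dvd_of_forall_pow_dvd (d z b : ℕ) (hz : 0 < z) (hb : 0 < b)
    (h : ∀ m : ℕ, d ^ (m + 1) ∣ z * b ^ (m + 1)) : d ∣ b := by
  have hd : d ≠ 0 := by
    rintro rfl
    have := h 0
    simp at this
    omega
  rw [← Nat.factorization_le_iff_dvd hd hb.ne']
  intro p
  by_contra hlt
  push Not at hlt
  set m := z.factorization p with hm
  have h1 := h m
  have hne : z * b ^ (m + 1) ≠ 0 := by positivity
  have h2 := (Nat.factorization_le_iff_dvd (pow_ne_zero _ hd) hne).mpr h1 p
  rw [Nat.factorization_pow, Nat.factorization_mul hz.ne' (pow_ne_zero _ hb.ne'),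
    Nat.factorization_pow] at h2
  simp only [Finsupp.coe_smul, Pi.smul_apply, smul_eq_mul, Finsupp.coe_add, Pi.add_apply] at h2
  rw [← hm] at h2
  nlinarith

variable {G : Type*} [Group G]

/-- The centre acts through a homomorphism to scalars in an irreducible representation. -/
theorem exists_central_hom [Fintype G] {V : Type*} [AddCommGroup V] [Module ℂ V]
    [FiniteDimensional ℂ V] (ρ : Representation ℂ G V) [ρ.IsIrreducible] :
    ∃ lam : Subgroup.center G →* ℂ, ∀ z : Subgroup.center G, ρ (z : G) = lam z • LinearMap.id := by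
  classical
  haveI := nontrivial_of_irreducible ρ
  have hsc : ∀ z : Subgroup.center G, ∃ c : ℂ, ρ (z : G) = c • LinearMap.id :=
    fun z => exists_scalar_of_central ρ z z.2
  choose c hc using hsc
  have hsmul : ∀ a b : ℂ, a • (LinearMap.id : V →ₗ[ℂ] V) = b • LinearMap.id → a = b := by
    intro a b h
    obtain ⟨v, hv⟩ := exists_ne (0 : V)
    have h2 := congrArg (fun T : V →ₗ[ℂ] V => T v) h
    simp only [LinearMap.smul_apply, LinearMap.id_apply] at h2
    exact smul_left_injective ℂ hv h2
  refine ⟨{ toFun := c
            map_one' := ?_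
            map_mul' := ?_ }, hc⟩
  · apply hsmul
    rw [← hc, one_smul]
    simp
    rfl
  · intro x y
    apply hsmul
    rw [← hc]
    have : ((x * y : Subgroup.center G) : G) = (x : G) * (y : G) := rfl
    rw [this, map_mul, hc x, hc y]
    ext v
    simp only [Module.End.mul_apply, LinearMap.smul_apply, LinearMap.id_apply, map_smul,
      mul_smul]
    rw [smul_comm]

theorem character_mul_central [Fintype G] {V : Type*} [AddCommGroup V] [Module ℂ V]
    [FiniteDimensional ℂ V] (ρ : Representation ℂ G V) (lam : Subgroup.center G →* ℂ)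
    (hlam : ∀ z : Subgroup.center G, ρ (z : G) = lam z • LinearMap.id) (g : G)
    (z : Subgroup.center G) : ρ.character (g * z) = lam z * ρ.character g := by
  unfold Representation.character
  rw [map_mul, hlam z]
  have : ρ g * (lam z • LinearMap.id) = lam z • ρ g := by
    ext v
    simp
  rw [this, map_smul, smul_eq_mul]

/-- A finite product of characters is a character. -/
theorem isCharacter_finset_prod {ι : Type*} (s : Finset ι) (ψ : ι → G → ℂ)
    (h : ∀ i ∈ s, IsCharacter G (ψ i)) : IsCharacter G (fun g => ∏ i ∈ s, ψ i g) := by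
  classical
  induction s using Finset.induction_on with
  | empty =>
    simp only [Finset.prod_empty]
    exact isCharacter_one
  | insert a s ha ih =>
    have h1 := h a (Finset.mem_insert_self a s)
    have h2 := ih (fun i hi => h i (Finset.mem_insert_of_mem hi))
    have := isCharacter_mul h1 h2
    convert this using 1
    funext g
    rw [Finset.prod_insert ha]
    rfl

/-- The tensor power character on `Fin m → G`. -/
theorem isIrrCharacter_pi [Fintype G] (m : ℕ) {χ : G → ℂ} (hχ : IsIrrCharacter G χ) :
    IsIrrCharacter (Fin m → G) (fun f => ∏ i, χ (f i)) := by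
  classical
  have hchar : IsCharacter (Fin m → G) (fun f => ∏ i, χ (f i)) := by
    apply isCharacter_finset_prod (G := Fin m → G) Finset.univ
      (fun (i : Fin m) (f : Fin m → G) => χ (f i))
    intro i _
    exact isCharacter_comp (isCharacter_of_isIrrCharacter hχ) (Pi.evalMonoidHom (fun _ => G) i)
  apply isIrrCharacter_of_classInner_self_eq_one hchar
  rw [classInner_apply]
  have h1 := irr_classInner_self hχ
  rw [classInner_apply] at h1
  have hG : (Nat.card G : ℂ) ≠ 0 := card_ne_zero_complex G
  have h2 : ∑ g : G, χ g * conj (χ g) = (Nat.card G : ℂ) := by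
    field_simp at h1
    exact h1
  have h3 : ∑ f : Fin m → G, (∏ i, χ (f i)) * conj (∏ i, χ (f i))
      = (∑ g : G, χ g * conj (χ g)) ^ m := by
    rw [Fintype.sum_pow]
    apply Finset.sum_congr rfl
    intro f _
    rw [map_prod, Finset.prod_mul_distrib]
  rw [h3, h2, Nat.card_pi]
  simp only [Finset.prod_const, Finset.card_univ, Fintype.card_fin]
  push_cast
  rw [inv_mul_cancel₀ (pow_ne_zero _ hG)]

end Cfsg.Agent.Lib.helper3.Central
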