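import Mathlib
import Cfsg.Prelude.Def_Characters
import Cfsg.Agent.Lib.helper3.Tate1
import Cfsg.Agent.Lib.helper3.BurnsideZero

set_option autoImplicit false
set_option linter.style.haveILetI false
set_option linter.unusedSectionVars false

/-!
# Characters of groups with `G' = Z(G)` of prime order (extraspecial-like groups)
-/

namespace Cfsg.Agent.Lib.helper3.Central

open Cfsg Module Cfsg.Agent.Lib.helper3.IndFun Cfsg.Agent.Lib.helper3.CharBasic
open Cfsg.Agent.Lib.helper3.Irr Cfsg.Agent.Lib.helper3.Cyclo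
open scoped ComplexConjugate
open scoped commutatorElement

variable {G : Type*} [Group G]

/-- A noncentral element is conjugate to itself times a nontrivial commutator. -/
theorem exists_conj_eq_mul_commutator (hcomm : commutator G = Subgroup.center G) (x : G)
    (hx : x ∉ Subgroup.center G) :
    ∃ (y : G) (z : Subgroup.center G), z ≠ 1 ∧ y⁻¹ * x * y = x * (z : G) := by
  rw [Subgroup.mem_center_iff] at hx
  push Not at hx
  obtain ⟨y, hy⟩ := hx
  have hmem : ⁅x⁻¹, y⁻¹⁆ ∈ Subgroup.center G := by
    rw [← hcomm]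
    exact Subgroup.commutator_mem_commutator (Subgroup.mem_top _) (Subgroup.mem_top _)
  refine ⟨y, ⟨⁅x⁻¹, y⁻¹⁆, hmem⟩, ?_, ?_⟩
  · intro h
    have h1 : ⁅x⁻¹, y⁻¹⁆ = 1 := congrArg Subtype.val h
    rw [commutatorElement_def] at h1
    apply hy
    have h2 : x⁻¹ * y⁻¹ * x⁻¹⁻¹ * y⁻¹⁻¹ = 1 := h1
    simp only [inv_inv] at h2
    calc y * x = y * x * (x⁻¹ * y⁻¹ * x * y) := by rw [h2, mul_one]
      _ = x * y := by group
  · show y⁻¹ * x * y = x * ⁅x⁻¹, y⁻¹⁆
    rw [commutatorElement_def]
    group

/-- A nontrivial homomorphism on a group of prime order has trivial kernel. -/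
theorem hom_ne_one_of_prime_card {Z : Type*} [Group Z] {p : ℕ} [hp : Fact p.Prime]
    (hZ : Nat.card Z = p) (lam : Z →* ℂ) (hlam : ∃ z, lam z ≠ 1) (z : Z) (hz : z ≠ 1) :
    lam z ≠ 1 := by
  intro h
  obtain ⟨w, hw⟩ := hlam
  apply hw
  have : w ∈ Subgroup.zpowers z := mem_zpowers_of_prime_card hZ hz
  obtain ⟨k, rfl⟩ := Subgroup.mem_zpowers_iff.mp this
  have hu : IsUnit (lam z) := by rw [h]; exact isUnit_one
  rw [map_zpow' lam (fun a => by
    have h1 : lam a * lam a⁻¹ = 1 := by rw [← map_mul, mul_inv_cancel, map_one]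
    exact (eq_inv_of_mul_eq_one_right h1)) , h, one_zpow]

/-- If the centre acts by a character without nontrivial kernel, and `G' = Z(G)`, then the
character vanishes off the centre. -/
theorem character_vanish_off_center [Fintype G] (hcomm : commutator G = Subgroup.center G)
    {V : Type*} [AddCommGroup V] [Module ℂ V] [FiniteDimensional ℂ V]
    (ρ : Representation ℂ G V) (lam : Subgroup.center G →* ℂ)
    (hlam : ∀ z : Subgroup.center G, ρ (z : G) = lam z • LinearMap.id)
    (hker : ∀ z : Subgroup.center G, z ≠ 1 → lam z ≠ 1) (x : G)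
    (hx : x ∉ Subgroup.center G) : ρ.character x = 0 := by
  obtain ⟨y, z, hz, hyz⟩ := exists_conj_eq_mul_commutator hcomm x hx
  have h1 : ρ.character (y⁻¹ * x * y) = ρ.character x := by
    have := Representation.char_conj ρ x y⁻¹
    rw [inv_inv] at this
    exact this
  rw [hyz, character_mul_central ρ lam hlam x z] at h1
  have h2 : (lam z - 1) * ρ.character x = 0 := by linear_combination h1
  rcases mul_eq_zero.mp h2 with h | h
  · exact absurd (sub_eq_zero.mp h) (hker z hz)
  · exact h

/-- For a character vanishing off the centre, `|G| = |Z| χ(1)²`. -/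
theorem card_eq_card_center_mul_sq [Fintype G]
    {V : Type*} [AddCommGroup V] [Module ℂ V] [FiniteDimensional ℂ V]
    (ρ : Representation ℂ G V) [ρ.IsIrreducible]
    (hvan : ∀ x : G, x ∉ Subgroup.center G → ρ.character x = 0) :
    Nat.card G = Nat.card (Subgroup.center G) * finrank ℂ V ^ 2 := by
  classical
  letI : Fintype (Subgroup.center G) := Fintype.ofFinite _
  obtain ⟨lam, hlam⟩ := exists_central_hom ρ
  have hχ : IsIrrCharacter G ρ.character := isIrrCharacter_of_rep ρ
  have h1 := sum_norm_sq_of_irr hχ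
  rw [← Finset.sum_filter_add_sum_filter_not Finset.univ (fun g : G => g ∈ Subgroup.center G)]
    at h1
  have h2 : ∑ g ∈ Finset.univ.filter (fun g : G => ¬ g ∈ Subgroup.center G),
      ‖ρ.character g‖ ^ 2 = 0 := by
    apply Finset.sum_eq_zero
    intro g hg
    rw [hvan g (Finset.mem_filter.mp hg).2]
    simp
  rw [h2, add_zero, Finset.sum_subtype (p := fun g : G => g ∈ Subgroup.center G) _ (by simp)]
    at h1
  have h3 : ∀ z : Subgroup.center G, ‖ρ.character (z : G)‖ ^ 2 = (finrank ℂ V : ℝ) ^ 2 := by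
    intro z
    have h4 : ‖ρ.character (z : G)‖ = (finrank ℂ V : ℝ) := by
      rw [norm_character_eq_finrank_iff]
      exact ⟨lam z, hlam z⟩
    rw [h4]
  simp_rw [h3] at h1
  rw [Finset.sum_const, Finset.card_univ, nsmul_eq_mul, ← Nat.card_eq_fintype_card] at h1
  have : ((Nat.card (Subgroup.center G) * finrank ℂ V ^ 2 : ℕ) : ℝ) = (Nat.card G : ℝ) := by
    push_cast
    exact h1
  exact_mod_cast this.symm

end Cfsg.Agent.Lib.helper3.Central
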