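import Mathlib
import Cfsg.Prelude.Def_Characters
import Cfsg.Agent.Lib.helper3.Extraspecial

set_option autoImplicit false
set_option linter.style.haveILetI false
set_option linter.unusedSectionVars false

/-!
# Character degrees of extraspecial groups
-/

namespace Cfsg.Agent.Lib.helper3.Central

open Cfsg Module Cfsg.Agent.Lib.helper3.IndFun Cfsg.Agent.Lib.helper3.CharBasic
open Cfsg.Agent.Lib.helper3.Irr Cfsg.Agent.Lib.helper3.Cyclo
open scoped ComplexConjugate
open scoped commutatorElement

variable {G : Type*} [Group G]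

/-- Degrees: every irreducible character has degree `1` or `p ^ n`. -/
theorem extraspecial_degree [Fintype G] (p n : ℕ) [hp : Fact p.Prime]
    (hcomm : commutator G = Subgroup.center G) (hZ : Nat.card (Subgroup.center G) = p)
    (hcard : Nat.card G = p ^ (2 * n + 1)) {χ : G → ℂ} (hχ : IsIrrCharacter G χ) :
    χ 1 = 1 ∨ χ 1 = (p : ℂ) ^ n := by
  classical
  obtain ⟨d, ρ, hirr, rfl⟩ := hχ
  haveI := hirr
  obtain ⟨lam, hlam⟩ := exists_central_hom ρ
  by_cases htriv : ∀ z, lam z = 1
  · left
    have hconst : ∀ g n : G, n ∈ commutator G → ρ.character (g * n) = ρ.character g := by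
      intro g n hn
      rw [hcomm] at hn
      have := character_mul_central ρ lam hlam g ⟨n, hn⟩
      rw [htriv, one_mul] at this
      exact this
    obtain ⟨ψ, hψ, hχψ⟩ := exists_eq_inflate (isIrrCharacter_of_rep ρ) (commutator G) hconst
    have hψ1 : ψ 1 = 1 := by
      apply apply_one_eq_one_of_comm _ hψ
      intro a b
      obtain ⟨a, rfl⟩ := QuotientGroup.mk_surjective a
      obtain ⟨b, rfl⟩ := QuotientGroup.mk_surjective b
      rw [← QuotientGroup.mk_mul, ← QuotientGroup.mk_mul]
      apply (QuotientGroup.eq).mpr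
      have : (a * b)⁻¹ * (b * a) = ⁅b⁻¹, a⁻¹⁆ := by
        rw [commutatorElement_def]; group
      rw [this]
      exact Subgroup.commutator_mem_commutator (Subgroup.mem_top _) (Subgroup.mem_top _)
    have := congrFun hχψ 1
    rw [inflate_apply, QuotientGroup.mk_one, hψ1] at this
    exact this
  · right
    push Not at htriv
    have hker := hom_ne_one_of_prime_card hZ lam htriv
    have hvan := character_vanish_off_center hcomm ρ lam hlam hker
    have h1 := card_eq_card_center_mul_sq ρ hvan
    rw [hcard, hZ, pow_succ, mul_comm] at h1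
    have h2 : p ^ (2 * n) = finrank ℂ (Fin d → ℂ) ^ 2 :=
      Nat.eq_of_mul_eq_mul_left hp.out.pos h1
    have h3 : finrank ℂ (Fin d → ℂ) = p ^ n := by
      have : (p ^ n) ^ 2 = finrank ℂ (Fin d → ℂ) ^ 2 := by rw [← h2]; ring
      exact (Nat.pow_left_injective (by norm_num : (2 : ℕ) ≠ 0) this).symm
    rw [Representation.char_one, h3]
    push_cast
    rfl

/-- The number of characters of degree `p ^ n`. -/
theorem extraspecial_card_nonlinear [Fintype G] (p n : ℕ) [hp : Fact p.Prime]
    (hcomm : commutator G = Subgroup.center G) (hZ : Nat.card (Subgroup.center G) = p)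
    (hcard : Nat.card G = p ^ (2 * n + 1)) :
    Nat.card {χ : IrrCharacter G // (χ : G → ℂ) 1 = (p : ℂ) ^ n} = p - 1 := by
  classical
  have hp1 := hp.out.one_lt
  -- `n ≠ 0`
  have hn : n ≠ 0 := by
    rintro rfl
    simp only [mul_zero, zero_add, pow_one] at hcard
    have hcyc : IsCyclic G := isCyclic_of_prime_card hcard
    have hab : commutator G = ⊥ := by
      rw [commutator_eq_bot_iff_center_eq_top]
      rw [Subgroup.eq_top_iff']
      intro g
      rw [Subgroup.mem_center_iff]
      intro h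
      obtain ⟨c, hc⟩ := hcyc.exists_generator
      obtain ⟨i, rfl⟩ := Subgroup.mem_zpowers_iff.mp (hc g)
      obtain ⟨j, rfl⟩ := Subgroup.mem_zpowers_iff.mp (hc h)
      rw [← zpow_add, ← zpow_add, add_comm]
    rw [hab] at hcomm
    rw [← hcomm] at hZ
    simp at hZ
    omega
  have hpn : (1 : ℂ) ≠ (p : ℂ) ^ n := by
    have : 1 < p ^ n := Nat.one_lt_pow hn hp1
    intro h
    have h' : ((1 : ℕ) : ℂ) = ((p ^ n : ℕ) : ℂ) := by push_cast; exact h
    have := Nat.cast_injective h'
    omega
  have hdeg := fun χ : IrrCharacter G => extraspecial_degree p n hcomm hZ hcard χ.2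
  have hlin := card_linear_eq_index_commutator (G := G)
  have hidx : (commutator G).index = p ^ (2 * n) := by
    have h1 := (commutator G).card_mul_index
    rw [hcomm, hZ, hcard, pow_succ, mul_comm] at h1
    rw [hcomm]
    exact Nat.eq_of_mul_eq_mul_right hp.out.pos h1
  rw [hidx] at hlin
  have hsum := sum_sq_degree (G := G)
  rw [← Finset.sum_filter_add_sum_filter_not Finset.univ
    (fun χ : IrrCharacter G => (χ : G → ℂ) 1 = 1)] at hsum
  have h1 : ∑ χ ∈ Finset.univ.filter (fun χ : IrrCharacter G => (χ : G → ℂ) 1 = 1),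
      (χ : G → ℂ) 1 ^ 2 = ((p ^ (2 * n) : ℕ) : ℂ) := by
    rw [← hlin, Nat.card_eq_fintype_card, Fintype.card_subtype]
    rw [Finset.sum_congr rfl (fun χ hχ => by rw [(Finset.mem_filter.mp hχ).2, one_pow])]
    simp
  have hfilter : Finset.univ.filter (fun χ : IrrCharacter G => ¬ (χ : G → ℂ) 1 = 1)
      = Finset.univ.filter (fun χ : IrrCharacter G => (χ : G → ℂ) 1 = (p : ℂ) ^ n) := by
    ext χ
    simp only [Finset.mem_filter, Finset.mem_univ, true_and]
    constructor
    · intro h
      exact (hdeg χ).resolve_left h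
    · intro h h'
      rw [h'] at h
      exact hpn h
  have h2 : ∑ χ ∈ Finset.univ.filter (fun χ : IrrCharacter G => ¬ (χ : G → ℂ) 1 = 1),
      (χ : G → ℂ) 1 ^ 2
      = ((Nat.card {χ : IrrCharacter G // (χ : G → ℂ) 1 = (p : ℂ) ^ n} * p ^ (2 * n) : ℕ) : ℂ) := by
    rw [hfilter, Nat.card_eq_fintype_card, Fintype.card_subtype]
    rw [Finset.sum_congr rfl (fun χ hχ => by rw [(Finset.mem_filter.mp hχ).2])]
    rw [Finset.sum_const, nsmul_eq_mul]
    push_cast
    ring
  rw [h1, h2, hcard] at hsum
  have h3 : p ^ (2 * n) + Nat.card {χ : IrrCharacter G // (χ : G → ℂ) 1 = (p : ℂ) ^ n} * p ^ (2 * n)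
      = p ^ (2 * n + 1) := by exact_mod_cast hsum
  have hpos : 0 < p ^ (2 * n) := Nat.pow_pos hp.out.pos
  have h4 : (1 + Nat.card {χ : IrrCharacter G // (χ : G → ℂ) 1 = (p : ℂ) ^ n}) * p ^ (2 * n)
      = p * p ^ (2 * n) := by
    rw [pow_succ] at h3
    linarith
  have h5 := Nat.eq_of_mul_eq_mul_right hpos h4
  omega

end Cfsg.Agent.Lib.helper3.Central
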