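import Mathlib
import Cfsg.Agent.S1350
import Cfsg.Agent.S1394
import Cfsg.Agent.S1395
import Cfsg.Agent.S1396
import Cfsg.Agent.S1403
import Cfsg.Agent.S1408
import Cfsg.Agent.S1410
import Cfsg.Agent.S0023
import Cfsg.Agent.H1.ElemAbelian
import Cfsg.Agent.Lib.Helper8.BGTenG
import Cfsg.Agent.Lib.Helper8.BGTenK
import Cfsg.Agent.Lib.Helper4.BGTransE

/-!
# B&G Section 11 (exceptional maximal subgroups), part A (helper3)

Basics on `M_σ`, elementary abelian subgroups of order `p ^ 2` that are maximal elementary abelian in `G`,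
and **Lemma Z**: a `σ(M)'`-subgroup `B ≅ E_{r²}` of `M` centralizing `M_σ` cannot have `C_G(S) ≤ M` for a
Sylow `r`-subgroup `S ⊇ B` of `M`.  See `notes/BG11_c_proof_helper3.md`.
-/

set_option autoImplicit false
set_option linter.unusedSectionVars false
set_option linter.style.haveILetI false
open Cfsg
open scoped commutatorElement

namespace Cfsg.Agent.Lib.helper3.BG11

open Cfsg.Agent.Lib.Helper7 Cfsg.Agent.Lib.Helper8.BGTen Cfsg.Agent.Lib.Helper4.BGTrans

universe u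

variable {G : Type u} [Group G] [Finite G]

/-- the Uniqueness Theorem, in helper8's hypothesis form -/
theorem uT (hG : Cfsg.IsMinSimpleOddOrder G) : UniqThm G :=
  fun K hK h2 h3 => Cfsg.Agent.S1403.result hG K hK h2 h3

/-! ### `M_σ` -/

theorem sigmaCore_le (M : Subgroup G) : Cfsg.sigmaCore M ≤ M := Subgroup.map_subtype_le _

theorem le_normalizer_sigmaCore (M : Subgroup G) :
    M ≤ Subgroup.normalizer ((Cfsg.sigmaCore M : Subgroup G) : Set G) :=
  Cfsg.Agent.Lib.Helper4.TypeP.le_normalizer_map_subtype M _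

theorem mem_sigma_of_dvd_sigmaCore (hG : Cfsg.IsMinSimpleOddOrder G) {M : Subgroup G} (hM : IsCoatom M)
    {q : ℕ} (hq : q.Prime) (h : q ∣ Nat.card ↥(Cfsg.sigmaCore M)) : q ∈ Cfsg.sigma M :=
  (Cfsg.Agent.S1350.result hG M hM).1.2.1 q hq h

theorem not_dvd_sigmaCore (hG : Cfsg.IsMinSimpleOddOrder G) {M : Subgroup G} (hM : IsCoatom M)
    {q : ℕ} (hq : q.Prime) (h : q ∉ Cfsg.sigma M) : ¬ q ∣ Nat.card ↥(Cfsg.sigmaCore M) :=
  fun hd => h (mem_sigma_of_dvd_sigmaCore hG hM hq hd)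

/-- a `σ(M)'`-group has order coprime to that of `M_σ` -/
theorem coprime_sigmaCore (hG : Cfsg.IsMinSimpleOddOrder G) {M : Subgroup G} (hM : IsCoatom M)
    {R : Subgroup G} (hR : ∀ q : ℕ, q.Prime → q ∣ Nat.card ↥R → q ∉ Cfsg.sigma M) :
    (Nat.card ↥R).Coprime (Nat.card ↥(Cfsg.sigmaCore M)) := by
  apply Nat.coprime_of_dvd
  intro k hk hkR hkS
  exact hR k hk hkR (mem_sigma_of_dvd_sigmaCore hG hM hk hkS)

theorem coprime_sigmaCore_of_isPGroup (hG : Cfsg.IsMinSimpleOddOrder G) {M : Subgroup G}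
    (hM : IsCoatom M) {r : ℕ} [hr : Fact r.Prime] (hrσ : r ∉ Cfsg.sigma M) {R : Subgroup G}
    (hR : IsPGroup r ↥R) : (Nat.card ↥R).Coprime (Nat.card ↥(Cfsg.sigmaCore M)) := by
  apply coprime_sigmaCore hG hM
  intro q hq hqR
  obtain ⟨n, hn⟩ := hR.exists_card_eq
  rw [hn] at hqR
  have : q = r := (Nat.prime_dvd_prime_iff_eq hq hr.out).mp (hq.dvd_of_dvd_pow hqR)
  rw [this]
  exact hrσ

/-- a normal `σ(M)'`-subgroup of `M` centralizes `M_σ` -/
theorem le_centralizer_sigmaCore_of_normal (hG : Cfsg.IsMinSimpleOddOrder G) {M : Subgroup G}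
    (hM : IsCoatom M) {R : Subgroup G} (hRM : R ≤ M)
    (hRn : M ≤ Subgroup.normalizer (R : Set G))
    (hR : ∀ q : ℕ, q.Prime → q ∣ Nat.card ↥R → q ∉ Cfsg.sigma M) :
    R ≤ Subgroup.centralizer ((Cfsg.sigmaCore M : Subgroup G) : Set G) := by
  have hinf : R ⊓ Cfsg.sigmaCore M = ⊥ := Subgroup.inf_eq_bot_of_coprime (coprime_sigmaCore hG hM hR)
  intro x hx
  rw [Subgroup.mem_centralizer_iff]
  intro y hy
  have hyM : y ∈ M := sigmaCore_le M hy
  have hxM : x ∈ M := hRM hx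
  -- the commutator y x y⁻¹ x⁻¹ lies in R ⊓ M_σ
  have h1 : y * x * y⁻¹ ∈ R := (Subgroup.mem_normalizer_iff.mp (hRn hyM) x).mp hx
  have h2 : x * y⁻¹ * x⁻¹ ∈ Cfsg.sigmaCore M :=
    (Subgroup.mem_normalizer_iff.mp (le_normalizer_sigmaCore M hxM) y⁻¹).mp
      (Subgroup.inv_mem _ hy)
  have h3 : y * x * y⁻¹ * x⁻¹ ∈ R ⊓ Cfsg.sigmaCore M := by
    refine ⟨R.mul_mem h1 (R.inv_mem hx), ?_⟩
    have e : y * x * y⁻¹ * x⁻¹ = y * (x * y⁻¹ * x⁻¹) := by group
    rw [e]
    exact Subgroup.mul_mem _ hy h2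
  rw [hinf, Subgroup.mem_bot] at h3
  have e : y * x = (y * x * y⁻¹ * x⁻¹) * (x * y) := by group
  rw [e, h3, one_mul]

/-- the normalizer of a nontrivial normal subgroup of the maximal subgroup `M` is `M` -/
theorem normalizer_eq_of_normal (hG : Cfsg.IsMinSimpleOddOrder G) {M : Subgroup G} (hM : IsCoatom M)
    {R : Subgroup G} (hR1 : R ≠ ⊥) (hRM : R ≤ M) (hRn : M ≤ Subgroup.normalizer (R : Set G)) :
    Subgroup.normalizer (R : Set G) = M := by
  have hRt : R ≠ ⊤ := ne_top_of_le_coatom hM hRM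
  have hN := normalizer_ne_top' hG hR1 hRt
  rcases eq_or_lt_of_le hRn with h | h
  · exact h.symm
  · exact absurd (hM.2 _ h) hN

/-! ### maximal elementary abelian subgroups of order `p ^ 2` -/

/-- `A` is elementary abelian of order `p ^ 2` and a maximal elementary abelian `p`-subgroup of `G` -/
structure E2Max (G : Type u) [Group G] (p : ℕ) (A : Subgroup G) : Prop where
  hG : Cfsg.IsMinSimpleOddOrder G
  hAe : Cfsg.IsElementaryAbelian p A
  hA2 : Nat.card ↥A = p ^ 2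
  hmax : ∀ B : Subgroup G, Cfsg.IsElementaryAbelian p B → A ≤ B → B = A

namespace E2Max

variable {p : ℕ} [hp : Fact p.Prime] {A : Subgroup G}

theorem isPGroup (c : E2Max G p A) : IsPGroup p ↥A := IsPGroup.of_card c.hA2

theorem comm (c : E2Max G p A) : IsMulCommutative ↥A := c.hAe.1

theorem p_dvd_card (c : E2Max G p A) : p ∣ Nat.card ↥A := by
  rw [c.hA2]; exact dvd_pow_self p (by norm_num)

theorem p_dvd_card_G (c : E2Max G p A) : p ∣ Nat.card G :=
  c.p_dvd_card.trans (Subgroup.card_subgroup_dvd_card A)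

theorem le_centralizer_self (c : E2Max G p A) : A ≤ Subgroup.centralizer (A : Set G) := by
  intro a ha
  rw [Subgroup.mem_centralizer_iff]
  intro b hb
  have := c.hAe.1.is_comm.comm (⟨b, hb⟩ : ↥A) ⟨a, ha⟩
  exact congrArg Subtype.val this

theorem mem_iff (c : E2Max G p A) :
    ∀ x ∈ Subgroup.centralizer (A : Set G), x ^ p = 1 ↔ x ∈ A := by
  intro x hx
  constructor
  · intro hxp
    have hB := Cfsg.Agent.H1.isElementaryAbelian_sup_zpowers p A c.hAe x hx hxp
    have hBE := c.hmax _ hB le_sup_left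
    have h1 : x ∈ A ⊔ Subgroup.zpowers x := Subgroup.mem_sup_right (Subgroup.mem_zpowers x)
    rw [hBE] at h1
    exact h1
  · intro hxA
    exact c.hAe.2 x hxA

theorem transHyp (c : E2Max G p A) : Cfsg.TransitivityHypothesis A :=
  Cfsg.Agent.S1396.result c.hG p c.p_dvd_card_G A c.isPGroup c.comm
    (Or.inl ⟨c.mem_iff, fun H hH => Cfsg.Agent.S1410.result c.hG p H hH⟩)

theorem not_dvd_card (c : E2Max G p A) {q : ℕ} (hq : q.Prime) (hqp : q ≠ p) :
    ¬ q ∣ Nat.card ↥A := by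
  rw [c.hA2]
  intro h
  exact hqp ((Nat.prime_dvd_prime_iff_eq hq hp.out).mp (hq.dvd_of_dvd_pow h))

theorem inf_centralizer (c : E2Max G p A) : A ⊓ Subgroup.centralizer (A : Set G) = A :=
  inf_eq_left.mpr c.le_centralizer_self

theorem not_rankLE_one (c : E2Max G p A) :
    ¬ Cfsg.RankLE 1 ↥(A ⊓ Subgroup.centralizer (A : Set G)) := by
  rw [c.inf_centralizer]
  intro h
  have h1 := h p hp.out (⊤ : Subgroup ↥A) ?_ ?_
  · rw [Subgroup.card_top, c.hA2, pow_one] at h1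
    have : p < p ^ 2 := by
      have := hp.out.one_lt
      nlinarith
    omega
  · refine ⟨⟨fun a b => ?_⟩⟩
    apply Subtype.ext
    exact c.hAe.1.is_comm.comm a.1 b.1
  · intro a _
    apply Subtype.ext
    rw [Subgroup.coe_pow, Subgroup.coe_one]
    exact c.hAe.2 a.1 a.2

/-- the Thompson transitivity theorem for `A` and a prime `q` dividing `|C_G(A)|` (S1394) -/
theorem trans_of_dvd (c : E2Max G p A) {q : ℕ} (hq : q.Prime) (hqp : q ≠ p)
    (hqC : q ∣ Nat.card ↥(Subgroup.centralizer (A : Set G))) :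
    ∀ Q₁ ∈ Cfsg.maxInvSubgroups ⊤ A {q}, ∀ Q₂ ∈ Cfsg.maxInvSubgroups ⊤ A {q},
      ∃ k ∈ Cfsg.piCoreOf (Cfsg.primesNotDvd (Nat.card A)) (Subgroup.centralizer (A : Set G)),
        Q₂ = Q₁.map (MulAut.conj k).toMonoidHom :=
  Cfsg.Agent.S1394.result c.hG A c.transHyp c.not_rankLE_one q hq (c.not_dvd_card hq hqp) hqC

end E2Max

/-- an elementary abelian subgroup of order `p ^ 2` of `M`, `p ∉ σ(M)`, is maximal elementary abelian in `G`
(S1408) -/
theorem e2Max_of_not_sigma (hG : Cfsg.IsMinSimpleOddOrder G) {M : Subgroup G} (hM : IsCoatom M)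
    {p : ℕ} [hp : Fact p.Prime] (hpσ : p ∉ Cfsg.sigma M) {A : Subgroup G} (hAM : A ≤ M)
    (hAe : Cfsg.IsElementaryAbelian p A) (hA2 : Nat.card ↥A = p ^ 2) : E2Max G p A := by
  have hα : p ∉ Cfsg.alpha M := fun h => hpσ (alpha_subset_sigma hG (uT hG) hM h)
  have hr2 : Cfsg.PRankLE p 2 ↥M := pRankLE_of_not_mem_alpha hp.out hα
  have hr1 : ¬ Cfsg.PRankLE p 1 ↥M := by
    intro h
    have h1 := h (A.subgroupOf M) ?_ ?_
    · rw [card_subgroupOf_of_le hAM, hA2, pow_one] at h1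
      have : p < p ^ 2 := by
        have := hp.out.one_lt
        nlinarith
      omega
    · refine ⟨⟨fun a b => ?_⟩⟩
      have h := hAe.1.is_comm.comm (⟨a.1.1, a.2⟩ : ↥A) ⟨b.1.1, b.2⟩
      have h' : (a.1.1 * b.1.1 : G) = b.1.1 * a.1.1 := congrArg Subtype.val h
      exact Subtype.ext (Subtype.ext h')
    · intro a ha
      apply Subtype.ext
      rw [Subgroup.coe_pow, Subgroup.coe_one]
      exact hAe.2 a.1 ha
  exact ⟨hG, hAe, hA2, (Cfsg.Agent.S1408.result hG M hM p hpσ hr2 hr1).2 A hAM hAe hA2⟩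

end Cfsg.Agent.Lib.helper3.BG11
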