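import Mathlib
import Cfsg.Agent.Lib.helper3.BG11A
import Cfsg.Agent.Lib.Helper8.BGTenI
import Cfsg.Agent.Lib.Lead.Subnormal2

/-!
# B&G Section 11, part B (helper3): Lemma Z

`M` maximal, `r ∉ σ(M)`, `B ≤ M` elementary abelian of order `r ^ 2` centralizing `M_σ ≠ 1`, `S` a Sylow
`r`-subgroup of `M` containing `B` with `C_G(S) ≤ M`: impossible.
-/

set_option autoImplicit false
set_option linter.unusedSectionVars false
set_option linter.style.haveILetI false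
open Cfsg
open scoped commutatorElement

namespace Cfsg.Agent.Lib.helper3.BG11

open Cfsg.Agent.Lib.Helper7 Cfsg.Agent.Lib.Helper8.BGTen Cfsg.Agent.Lib.Helper4.BGTrans

universe u

variable {G : Type u} [Group G] [Finite G]

/-- an `S`-invariant Sylow `q`-subgroup `Q` of `M_σ`, for `S` a `σ(M)'`-subgroup of `M` and `q ∈ σ(M)`;
`Q` is a Sylow `q`-subgroup of `M` -/
theorem exists_invariant_sylow_sigmaCore (hG : Cfsg.IsMinSimpleOddOrder G) {M : Subgroup G}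
    (hM : IsCoatom M) {q : ℕ} [hq : Fact q.Prime] (hqσ : q ∈ Cfsg.sigma M) {S : Subgroup G}
    (hSM : S ≤ M) (hSσ : ∀ s : ℕ, s.Prime → s ∣ Nat.card ↥S → s ∉ Cfsg.sigma M) :
    ∃ Q : Subgroup G, Q ≤ Cfsg.sigmaCore M ∧ IsSylowIn q Q M ∧
      S ≤ Subgroup.normalizer (Q : Set G) := by
  haveI : Group.IsSolvable ↥M := hG.2.2.2 M hM.1
  have hsolv : Group.IsSolvable ↥(Cfsg.sigmaCore M) := by
    have : Group.IsSolvable ↥((Cfsg.sigmaCore M).subgroupOf M) := inferInstance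
    exact solvable_of_solvable_injective
      (f := (Subgroup.subgroupOfEquivOfLe (sigmaCore_le M)).symm.toMonoidHom)
      (Subgroup.subgroupOfEquivOfLe (sigmaCore_le M)).symm.injective
  obtain ⟨P, hP⟩ := Cfsg.Agent.S0023.result S (Cfsg.sigmaCore M)
    (hSM.trans (le_normalizer_sigmaCore M)) (coprime_sigmaCore hG hM hSσ) (Or.inr hsolv) q
  set Q : Subgroup G := (P : Subgroup ↥(Cfsg.sigmaCore M)).map (Cfsg.sigmaCore M).subtype with hQ
  have hQσ : Q ≤ Cfsg.sigmaCore M := Subgroup.map_subtype_le _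
  have hQq : IsPGroup q ↥Q := (IsSylowIn.of_sylow P).isPGroup
  refine ⟨Q, hQσ, ?_, hP⟩
  apply sylIn_of_not_dvd (hQσ.trans (sigmaCore_le M)) hQq
  rw [← Subgroup.relIndex_mul_relIndex Q (Cfsg.sigmaCore M) M hQσ (sigmaCore_le M)]
  intro hdvd
  rcases (Nat.Prime.dvd_mul hq.out).mp hdvd with h | h
  · have h1 : Q.relIndex (Cfsg.sigmaCore M) = (P : Subgroup ↥(Cfsg.sigmaCore M)).index := by
      have e : Q.subgroupOf (Cfsg.sigmaCore M) = (P : Subgroup ↥(Cfsg.sigmaCore M)) :=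
        Subgroup.comap_map_eq_self_of_injective (Subgroup.subtype_injective _) _
      unfold Subgroup.relIndex
      rw [e]
    rw [h1] at h
    exact P.not_dvd_index h
  · exact (Cfsg.Agent.S1350.result hG M hM).1.2.2 q hq.out hqσ h

/-- a Sylow `q`-subgroup of `G` that is `S`-invariant is a maximal `S`-invariant `q`-subgroup -/
theorem sylow_mem_maxInv {q : ℕ} [hq : Fact q.Prime] {Q S : Subgroup G} (hQ : IsSylowIn q Q ⊤)
    (hS : S ≤ Subgroup.normalizer (Q : Set G)) : Q ∈ Cfsg.maxInvSubgroups ⊤ S {q} := by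
  refine ⟨mem_invSubgroups_top.mpr ⟨isPiNat_of_isPGroup hQ.isPGroup, hS⟩, fun R hR hle => ?_⟩
  have hR' := mem_invSubgroups_top.mp hR
  exact sylIn_eq_of_le hQ le_top (isPGroup_of_isPiNat hq.out hR'.1) hle

/-- **Lemma Z** -/
theorem lemmaZ (hG : Cfsg.IsMinSimpleOddOrder G) {M : Subgroup G} (hM : IsCoatom M)
    {r : ℕ} [hr : Fact r.Prime] (hrσ : r ∉ Cfsg.sigma M) {B : Subgroup G} (hBM : B ≤ M)
    (hBe : Cfsg.IsElementaryAbelian r B) (hB2 : Nat.card ↥B = r ^ 2)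
    (hBc : B ≤ Subgroup.centralizer ((Cfsg.sigmaCore M : Subgroup G) : Set G))
    (hσ1 : Cfsg.sigmaCore M ≠ ⊥) {S : Subgroup G} (hS : IsSylowIn r S M) (hBS : B ≤ S)
    (hCS : Subgroup.centralizer (S : Set G) ≤ M) : False := by
  have c := e2Max_of_not_sigma hG hM hrσ hBM hBe hB2
  -- a prime `q ∈ σ(M)`
  have hcard : Nat.card ↥(Cfsg.sigmaCore M) ≠ 1 := fun h => hσ1 (Subgroup.card_eq_one.mp h)
  obtain ⟨q, hq, hqd⟩ := Nat.exists_prime_and_dvd hcard
  haveI : Fact q.Prime := ⟨hq⟩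
  have hqσ : q ∈ Cfsg.sigma M := mem_sigma_of_dvd_sigmaCore hG hM hq hqd
  have hqr : q ≠ r := fun h => hrσ (h ▸ hqσ)
  have hSr : IsPGroup r ↥S := hS.isPGroup
  have hSσ : ∀ s : ℕ, s.Prime → s ∣ Nat.card ↥S → s ∉ Cfsg.sigma M := by
    intro s hs hsd
    obtain ⟨n, hn⟩ := hSr.exists_card_eq
    rw [hn] at hsd
    have : s = r := (Nat.prime_dvd_prime_iff_eq hs hr.out).mp (hs.dvd_of_dvd_pow hsd)
    rw [this]
    exact hrσ
  obtain ⟨Q, hQσ, hQM, hSQ⟩ := exists_invariant_sylow_sigmaCore hG hM hqσ hS.1 hSσ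
  have hQtop : IsSylowIn q Q ⊤ := sigma_sylow_top hqσ hQM
  have hNQ : Subgroup.normalizer (Q : Set G) ≤ M := sigma_normalizer_le hqσ hQM
  have hQmax : Q ∈ Cfsg.maxInvSubgroups ⊤ S {q} := sylow_mem_maxInv hQtop hSQ
  -- `q ∣ |C_G(B)|`
  have hσC : Cfsg.sigmaCore M ≤ Subgroup.centralizer (B : Set G) :=
    Subgroup.le_centralizer_iff.mp hBc
  have hqC : q ∣ Nat.card ↥(Subgroup.centralizer (B : Set G)) :=
    hqd.trans (Subgroup.card_dvd_of_le hσC)
  have htr := c.trans_of_dvd hq hqr hqC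
  -- S1395 (d)
  have hSt : S ≠ ⊤ := ne_top_of_le_coatom hM hS.1
  have hSπ : ∀ s : ℕ, s.Prime → s ∣ Nat.card ↥S → s ∣ Nat.card ↥B := by
    intro s hs hsd
    obtain ⟨n, hn⟩ := hSr.exists_card_eq
    rw [hn] at hsd
    have : s = r := (Nat.prime_dvd_prime_iff_eq hs hr.out).mp (hs.dvd_of_dvd_pow hsd)
    rw [this]
    exact c.p_dvd_card
  have hsn : (B.subgroupOf S).IsSubnormal := by
    haveI : Group.IsNilpotent ↥S := hSr.isNilpotent
    exact Cfsg.Agent.Lib.Lead.Subnormal.isSubnormal_of_isNilpotent _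
  obtain ⟨-, -, -, h4⟩ := Cfsg.Agent.S1395.result hG B c.transHyp q hq (c.not_dvd_card hq hqr) S hSt
    hSπ hBS hsn htr
  obtain ⟨-, hN⟩ := h4 Q hQmax
  -- `N_G(S) ≤ M`
  have hNS : Subgroup.normalizer (S : Set G) ≤ M := by
    rw [hN]
    apply sup_le
    · exact ((Subgroup.map_subtype_le _).trans hCS)
    · exact inf_le_right.trans hNQ
  -- so `r ∈ σ(M)`
  apply hrσ
  obtain ⟨R, hR⟩ := hS.exists_sylow
  refine ⟨hr.out, ?_, R, ?_⟩
  · exact (c.p_dvd_card).trans (Subgroup.card_dvd_of_le hBM)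
  · have e : (R : Subgroup ↥M).map M.subtype = S := by
      rw [hR]
      exact (Subgroup.subgroupOf_map_subtype S M).trans (inf_eq_left.mpr hS.1)
    rw [e]
    exact hNS

end Cfsg.Agent.Lib.helper3.BG11
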