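import Mathlib
import Cfsg.Agent.Lib.helper3.BG11B
import Cfsg.Agent.Lib.Helper4.BGSylD
import Cfsg.Agent.Lib.Helper4.NarrowData
import Cfsg.Agent.Lib.Helper4.Rank2Aut
import Cfsg.Agent.Lib.Helper4.Rank2Fit

/-!
# B&G Section 11, part C (helper3): Lemma N = B&G Lemma 10.12 (c)

`A` elementary abelian of order `p ^ 2`, maximal elementary abelian in `G`; `q ≠ p` a prime dividing
`|C_G(A)|`; `Q` a maximal `A`-invariant `q`-subgroup whose odd-order automorphism groups have `q`-groups as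
derived groups (`Q` of rank at most two, or narrow).  Then `A` centralizes `Q`.
-/

set_option autoImplicit false
set_option linter.unusedSectionVars false
set_option linter.style.haveILetI false
open Cfsg
open scoped commutatorElement

namespace Cfsg.Agent.Lib.helper3.BG11

open Cfsg.Agent.Lib.Helper7 Cfsg.Agent.Lib.Helper8.BGTen Cfsg.Agent.Lib.Helper4.BGTrans

universe u

variable {G : Type u} [Group G] [Finite G]

/-- the derived group of every odd-order group of automorphisms of `Q` is a `q`-group -/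
def AutNar (q : ℕ) (Q : Type*) [Group Q] : Prop :=
  ∀ 𝒜 : Subgroup (MulAut Q), Odd (Nat.card ↥𝒜) → IsPGroup q ↥(commutator ↥𝒜)

theorem autNar_of_rank {q : ℕ} [hq : Fact q.Prime] (hq2 : q ≠ 2) {Q : Type*} [Group Q] [Finite Q]
    (hQ : IsPGroup q Q) (hr : Cfsg.PRankLE q 2 Q) : AutNar q Q :=
  fun 𝒜 hodd => Cfsg.Agent.Lib.Helper4.Rank2Aut.isPGroup_commutator hq2 hQ hr 𝒜 hodd

theorem autNar_of_narrow {q : ℕ} [hq : Fact q.Prime] (hq2 : q ≠ 2) {Q : Type*} [Group Q] [Finite Q]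
    (hQ : IsPGroup q Q) (hr : ¬ Cfsg.PRankLE q 2 Q) (E₀ : Subgroup Q)
    (hE₀ : Cfsg.IsElementaryAbelian q E₀)
    (hc : Cfsg.PRankLE q 2 ↥(Subgroup.centralizer (E₀ : Set Q))) : AutNar q Q := by
  obtain ⟨-, h2⟩ := Cfsg.Agent.Lib.Helper4.NarrowData.narrow_aut hq2 hQ hr E₀ hE₀ hc
  intro 𝒜 _ u
  have hmem : ((u : ↥𝒜) : MulAut Q) ∈ commutator (MulAut Q) :=
    Cfsg.Agent.Lib.Helper4.Rank2Aut.map_commutator_le 𝒜.subtype (Subgroup.mem_map_of_mem _ u.2)
  obtain ⟨a, ha⟩ := h2 _ hmem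
  refine ⟨a, ?_⟩
  apply Subtype.ext
  apply Subtype.ext
  rw [Subgroup.coe_pow, Subgroup.coe_pow, Subgroup.coe_one, Subgroup.coe_one]
  exact ha

/-- a `p`-element of `N_G(Q)'` centralizes the `q`-group `Q` (`p ≠ q`) when `AutNar q Q` -/
theorem mem_centralizer_of_autNar (hodd : Odd (Nat.card G)) {p q : ℕ} (hp : p.Prime) (hq : q.Prime)
    (hpq : p ≠ q) {Q : Subgroup G} (hnar : AutNar q ↥Q) {x : G}
    (hx : x ∈ ⁅Subgroup.normalizer (Q : Set G), Subgroup.normalizer (Q : Set G)⁆) {k : ℕ}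
    (hxp : x ^ p ^ k = 1) : x ∈ Subgroup.centralizer (Q : Set G) := by
  set N : Subgroup G := Subgroup.normalizer (Q : Set G) with hN
  set c := Cfsg.Agent.Lib.Helper4.Rank2Aut.conjHom Q N le_rfl with hc
  rw [← Subgroup.map_subtype_commutator] at hx
  obtain ⟨y, hy, rfl⟩ := hx
  have hoddr : Odd (Nat.card ↥c.range) := by
    have h1 : Nat.card ↥c.range ∣ Nat.card ↥N := Subgroup.card_range_dvd c
    exact Odd.of_dvd_nat hodd (h1.trans (Subgroup.card_subgroup_dvd_card N))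
  have hcore := hnar c.range hoddr
  have hmem : c.rangeRestrict y ∈ commutator ↥c.range :=
    Cfsg.Agent.Lib.Helper4.Rank2Aut.map_commutator_le c.rangeRestrict (Subgroup.mem_map_of_mem _ hy)
  obtain ⟨a, ha⟩ := hcore ⟨_, hmem⟩
  have h2 := congrArg (fun u : ↥(commutator ↥c.range) => ((u : ↥c.range) : MulAut ↥Q)) ha
  simp only [Subgroup.coe_pow, Subgroup.coe_one] at h2
  have h2' : c y ^ q ^ a = 1 := h2
  have hyp : y ^ p ^ k = 1 := by
    apply Subtype.ext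
    rw [Subgroup.coe_pow, Subgroup.coe_one]
    exact hxp
  have h3 : c y ^ p ^ k = 1 := by rw [← map_pow, hyp, map_one]
  have h4 : c y = 1 := Cfsg.Agent.Lib.Helper4.Rank2Fit.eq_one_of_pow_pow_coprime h2' h3
    (Nat.Coprime.pow _ _ ((Nat.coprime_primes hq hp).mpr (Ne.symm hpq)))
  rw [Subgroup.mem_centralizer_iff]
  intro r hr
  have h5 := congrArg (fun σ : MulAut ↥Q => ((σ ⟨r, hr⟩ : ↥Q) : G)) h4
  simp only [MulAut.one_apply] at h5
  have h6 : (N.subtype y) * r * (N.subtype y)⁻¹ = r := h5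
  rw [mul_inv_eq_iff_eq_mul] at h6
  exact h6.symm

/-- **Lemma N** (B&G Lemma 10.12 (b)): some Sylow `p`-subgroup `P ⊇ A` of `G` lies in `N_G(Q)'` -/
theorem lemmaN_sylow {p : ℕ} [hp : Fact p.Prime] {A : Subgroup G} (c : E2Max G p A) {q : ℕ}
    (hq : q.Prime) (hqp : q ≠ p)
    (hqC : q ∣ Nat.card ↥(Subgroup.centralizer (A : Set G))) {Q : Subgroup G}
    (hQ : Q ∈ Cfsg.maxInvSubgroups ⊤ A {q}) :
    ∃ P : Subgroup G, IsSylowIn p P ⊤ ∧ A ≤ P ∧
      P ≤ ⁅Subgroup.normalizer (Q : Set G), Subgroup.normalizer (Q : Set G)⁆ := by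
  have hG := c.hG
  have htr := c.trans_of_dvd hq hqp hqC
  obtain ⟨P₁, hAP₁⟩ := c.isPGroup.exists_le_sylow
  obtain ⟨Q₁, hQ₁, -⟩ := exists_maxInv_ge (bot_mem_invSubgroups (P₁ : Subgroup G) {q})
  have hP₁t : (P₁ : Subgroup G) ≠ ⊤ := Cfsg.Agent.Lib.Helper4.BGSyl.sylow_ne_top hG P₁.2
  have hP₁π : ∀ s : ℕ, s.Prime → s ∣ Nat.card ↥(P₁ : Subgroup G) → s ∣ Nat.card ↥A := by
    intro s hs hsd
    obtain ⟨n, hn⟩ := P₁.2.exists_card_eq
    rw [hn] at hsd
    have : s = p := (Nat.prime_dvd_prime_iff_eq hs hp.out).mp (hs.dvd_of_dvd_pow hsd)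
    rw [this]
    exact c.p_dvd_card
  have hsn : (A.subgroupOf (P₁ : Subgroup G)).IsSubnormal := by
    haveI : Group.IsNilpotent ↥(P₁ : Subgroup G) := P₁.2.isNilpotent
    exact Cfsg.Agent.Lib.Lead.Subnormal.isSubnormal_of_isNilpotent _
  obtain ⟨-, -, h3, h4⟩ := Cfsg.Agent.S1395.result hG A c.transHyp q hq (c.not_dvd_card hq hqp)
    (P₁ : Subgroup G) hP₁t hP₁π hAP₁ hsn htr
  have hQ₁A : Q₁ ∈ Cfsg.maxInvSubgroups ⊤ A {q} := h3 hQ₁
  obtain ⟨k, hk, hQk⟩ := htr Q₁ hQ₁A Q hQ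
  have hkC : k ∈ Subgroup.centralizer (A : Set G) := piCoreOf_le _ _ hk
  obtain ⟨h5, -⟩ := h4 Q₁ hQ₁
  have hP₁N : (P₁ : Subgroup G) ≤ ⁅Subgroup.normalizer ((P₁ : Subgroup G) : Set G),
      Subgroup.normalizer ((P₁ : Subgroup G) : Set G)⁆ :=
    Cfsg.Agent.Lib.Helper4.BGSyl.sylow_le_commutator_normalizer hG
      (fun H hH => Cfsg.Agent.S1410.result hG p H hH) P₁
  have h6 : (P₁ : Subgroup G) ≤ ⁅Subgroup.normalizer (Q₁ : Set G), Subgroup.normalizer (Q₁ : Set G)⁆ :=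
    (le_inf le_rfl hP₁N).trans h5
  -- conjugate by `k`
  have h7 : Helper8.BGTen.cj k ⁅Subgroup.normalizer (Q₁ : Set G), Subgroup.normalizer (Q₁ : Set G)⁆ =
      ⁅Subgroup.normalizer (Q : Set G), Subgroup.normalizer (Q : Set G)⁆ := by
    show (⁅Subgroup.normalizer (Q₁ : Set G), Subgroup.normalizer (Q₁ : Set G)⁆).map
      (MulAut.conj k).toMonoidHom = _
    rw [Subgroup.map_commutator]
    have e : (Subgroup.normalizer (Q₁ : Set G)).map (MulAut.conj k).toMonoidHom =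
        Subgroup.normalizer (Q : Set G) := by
      have := cj_normalizer k Q₁
      rw [hQk]
      exact this
    rw [e]
  refine ⟨Helper8.BGTen.cj k (P₁ : Subgroup G), sylIn_cj_mem (IsSylowIn.of_sylow_top P₁) (Subgroup.mem_top k), ?_, ?_⟩
  · intro a ha
    have h8 : k * a * k⁻¹ = a := by
      have := Subgroup.mem_centralizer_iff.mp hkC a ha
      rw [mul_inv_eq_iff_eq_mul]
      exact this.symm
    rw [← h8]
    exact conj_mem_cj (hAP₁ ha)
  · rw [← h7]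
    exact Helper8.BGTen.cj_mono k h6

/-- **Lemma N** (B&G Lemma 10.12 (b)): `A ≤ N_G(Q)'` -/
theorem lemmaN_commutator {p : ℕ} [hp : Fact p.Prime] {A : Subgroup G} (c : E2Max G p A) {q : ℕ}
    (hq : q.Prime) (hqp : q ≠ p)
    (hqC : q ∣ Nat.card ↥(Subgroup.centralizer (A : Set G))) {Q : Subgroup G}
    (hQ : Q ∈ Cfsg.maxInvSubgroups ⊤ A {q}) :
    A ≤ ⁅Subgroup.normalizer (Q : Set G), Subgroup.normalizer (Q : Set G)⁆ := by
  obtain ⟨P, -, hAP, hPN⟩ := lemmaN_sylow c hq hqp hqC hQ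
  exact hAP.trans hPN

/-- **Lemma N** (B&G Lemma 10.12 (c)) -/
theorem lemmaN {p : ℕ} [hp : Fact p.Prime] {A : Subgroup G} (c : E2Max G p A) {q : ℕ}
    (hq : q.Prime) (hqp : q ≠ p)
    (hqC : q ∣ Nat.card ↥(Subgroup.centralizer (A : Set G))) {Q : Subgroup G}
    (hQ : Q ∈ Cfsg.maxInvSubgroups ⊤ A {q}) (hnar : AutNar q ↥Q) :
    A ≤ Subgroup.centralizer (Q : Set G) := by
  have h1 := lemmaN_commutator c hq hqp hqC hQ
  intro a ha
  have hap : a ^ p ^ 1 = 1 := by rw [pow_one]; exact c.hAe.2 a ha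
  exact mem_centralizer_of_autNar c.hG.1 hp.out hq (Ne.symm hqp) hnar (h1 ha) hap

end Cfsg.Agent.Lib.helper3.BG11
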