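import Mathlib
import Cfsg.Agent.Lib.helper3.BG11C
import Cfsg.Agent.Lib.Helper4.CNMaxC
import Cfsg.Agent.H2.BG11.A
import Cfsg.Agent.S1451
import Cfsg.Agent.S1405
import Cfsg.Agent.H2.BG11.B
import Cfsg.Agent.Lib.Helper5.BGBetaC

/-!
# B&G Section 11, part D (helper3): `M_σ ≠ 1` and (★)

(★) (the lead's proof, `notes/BG11_blueprint_lead.md` Part 2): `M` maximal, `r ∉ σ(M)`, `B ≤ M` elementary
abelian of order `r ^ 2`.  Then `B` does not centralize `M_σ`.
-/

set_option autoImplicit false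
set_option linter.unusedSectionVars false
set_option linter.style.haveILetI false
open Cfsg
open scoped commutatorElement

namespace Cfsg.Agent.Lib.helper3.BG11

open Cfsg.Agent.Lib.Helper7 (IsSylowIn exists_isSylowIn_ge card_subgroupOf_of_le)
open Cfsg.Agent.Lib.Helper8.BGTen Cfsg.Agent.Lib.Helper4.BGTrans

universe u

variable {G : Type u} [Group G] [Finite G]

/-- a maximal subgroup of rank at most two has a normal Sylow subgroup for its largest prime, which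
therefore lies in `σ(M)` -/
theorem exists_mem_sigma_of_rank (hG : Cfsg.IsMinSimpleOddOrder G) {M : Subgroup G} (hM : IsCoatom M)
    (hr : Cfsg.RankLE 2 ↥M) : ∃ q : ℕ, q ∈ Cfsg.sigma M := by
  haveI : Group.IsSolvable ↥M := hG.2.2.2 M hM.1
  have hodd : Odd (Nat.card ↥M) := odd_card_subgroup hG M
  have hM1 : M ≠ ⊥ := Cfsg.Agent.Lib.Helper4.CNMax.coatom_ne_bot hG hM
  have hcard : Nat.card ↥M ≠ 1 := fun h => hM1 (Subgroup.card_eq_one.mp h)
  have hne : (Nat.card ↥M).primeFactors.Nonempty := by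
    obtain ⟨q, hq, hqd⟩ := Nat.exists_prime_and_dvd hcard
    exact ⟨q, Nat.mem_primeFactors.mpr ⟨hq, hqd, Nat.card_pos.ne'⟩⟩
  set q₀ := (Nat.card ↥M).primeFactors.max' hne with hq₀
  have hq₀mem := Finset.max'_mem _ hne
  rw [← hq₀] at hq₀mem
  obtain ⟨hq₀p, hq₀d, -⟩ := Nat.mem_primeFactors.mp hq₀mem
  have hmax : ∀ s : ℕ, s.Prime → s ∣ Nat.card ↥M → s ≤ q₀ := by
    intro s hs hsd
    exact Finset.le_max' _ s (Nat.mem_primeFactors.mpr ⟨hs, hsd, Nat.card_pos.ne'⟩)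
  haveI : Fact q₀.Prime := ⟨hq₀p⟩
  obtain ⟨-, -, h3⟩ := Cfsg.Agent.S1451.result (G := ↥M) hodd (Or.inl hr)
  obtain ⟨N, hNchar, hNπ, hNidx⟩ := h3 (q₀ - 1)
  have hNq : IsPGroup q₀ ↥N := by
    apply isPGroup_of_isPiNat hq₀p
    intro s hs hsd
    have h1 := (hNπ s hs hsd).2
    have h2 := hmax s hs (hsd.trans (Subgroup.card_subgroup_dvd_card N))
    have : s = q₀ := by omega
    rw [this]
    exact Set.mem_singleton _
  have hNi : ¬ q₀ ∣ N.index := hNidx q₀ hq₀p ⟨hq₀p, Nat.sub_lt hq₀p.pos one_pos⟩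
  haveI : N.Normal := inferInstance
  have hN1 : N ≠ ⊥ := by
    rintro rfl
    apply hNi
    rw [Subgroup.index_bot]
    exact hq₀d
  have hNn := Cfsg.Agent.Lib.Helper4.TypeP.le_normalizer_map_subtype M N
  have hNM : N.map M.subtype ≤ M := Subgroup.map_subtype_le _
  have hN1' : N.map M.subtype ≠ ⊥ := by
    intro h
    apply hN1
    exact (Subgroup.map_eq_bot_iff_of_injective N M.subtype_injective).mp h
  have hnorm := normalizer_eq_of_normal hG hM hN1' hNM hNn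
  refine ⟨q₀, hq₀p, hq₀d, hNq.toSylow hNi, ?_⟩
  rw [IsPGroup.toSylow_coe, hnorm]

/-- `M_σ ≠ 1` for a maximal subgroup of rank at most two -/
theorem sigmaCore_ne_bot_of_rank (hG : Cfsg.IsMinSimpleOddOrder G) {M : Subgroup G} (hM : IsCoatom M)
    (hr : Cfsg.RankLE 2 ↥M) : Cfsg.sigmaCore M ≠ ⊥ := by
  obtain ⟨q, hq⟩ := exists_mem_sigma_of_rank hG hM hr
  have hd := Cfsg.Agent.H2.BG11.dvd_card_sigmaCore hG hM hq
  intro h
  rw [h, Subgroup.card_bot] at hd
  exact hq.1.one_lt.ne' (Nat.dvd_one.mp hd)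

/-- `M_σ ≠ 1` -/
theorem sigmaCore_ne_bot (hG : Cfsg.IsMinSimpleOddOrder G) {M : Subgroup G} (hM : IsCoatom M) :
    Cfsg.sigmaCore M ≠ ⊥ := by
  by_cases hr : Cfsg.RankLE 2 ↥M
  · exact sigmaCore_ne_bot_of_rank hG hM hr
  · unfold Cfsg.RankLE at hr
    push Not at hr
    obtain ⟨q, hq, hqr⟩ := hr
    have hqσ : q ∈ Cfsg.sigma M := alpha_subset_sigma hG (uT hG) hM ⟨hq, hqr⟩
    have hd := Cfsg.Agent.H2.BG11.dvd_card_sigmaCore hG hM hqσ
    intro h
    rw [h, Subgroup.card_bot] at hd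
    exact hq.one_lt.ne' (Nat.dvd_one.mp hd)

/-- `r ∈ σ(M)` as soon as some Sylow `r`-subgroup `S` of `M` has `N_G(S) ≤ M` -/
theorem mem_sigma_of_sylIn {M : Subgroup G} {r : ℕ} [hr : Fact r.Prime] {S : Subgroup G}
    (hS : IsSylowIn r S M) (hS1 : S ≠ ⊥) (hN : Subgroup.normalizer (S : Set G) ≤ M) :
    r ∈ Cfsg.sigma M := by
  obtain ⟨R, hR⟩ := hS.exists_sylow
  refine ⟨hr.out, ?_, R, ?_⟩
  · have h1 : r ∣ Nat.card ↥S := by
      obtain ⟨n, hn⟩ := hS.isPGroup.exists_card_eq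
      rw [hn]
      apply dvd_pow_self
      rintro rfl
      rw [pow_zero] at hn
      exact hS1 (Subgroup.card_eq_one.mp hn)
    exact h1.trans (Subgroup.card_dvd_of_le hS.1)
  · have e : (R : Subgroup ↥M).map M.subtype = S := by
      rw [hR]
      exact (Subgroup.subgroupOf_map_subtype S M).trans (inf_eq_left.mpr hS.1)
    rw [e]
    exact hN

/-- **(★)**: `M` maximal, `r ∉ σ(M)`, `B ≤ M` elementary abelian of order `r ^ 2`: `B` does not centralize
`M_σ` -/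
theorem star (hG : Cfsg.IsMinSimpleOddOrder G) {M : Subgroup G} (hM : IsCoatom M)
    {r : ℕ} [hr : Fact r.Prime] (hrσ : r ∉ Cfsg.sigma M) {B : Subgroup G} (hBM : B ≤ M)
    (hBe : Cfsg.IsElementaryAbelian r B) (hB2 : Nat.card ↥B = r ^ 2) :
    ¬ B ≤ Subgroup.centralizer ((Cfsg.sigmaCore M : Subgroup G) : Set G) := by
  intro hBc
  have c := e2Max_of_not_sigma hG hM hrσ hBM hBe hB2
  have hσC : Cfsg.sigmaCore M ≤ Subgroup.centralizer (B : Set G) :=
    Subgroup.le_centralizer_iff.mp hBc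
  have hB1 : B ≠ ⊥ := by
    intro h
    have := c.p_dvd_card
    rw [h, Subgroup.card_bot] at this
    exact hr.out.one_lt.ne' (Nat.dvd_one.mp this)
  have hBt : B ≠ ⊤ := ne_top_of_le_coatom hM hBM
  -- (1) `C_G(B)` has rank at most two
  have hCr : Cfsg.RankLE 2 ↥(Subgroup.centralizer (B : Set G)) := by
    by_contra hnr
    have hK2 : ¬ Cfsg.RankLE 1 ↥B := by
      have := c.not_rankLE_one
      rwa [c.inf_centralizer] at this
    have hu := Cfsg.Agent.S1403.result hG B hBt hK2 (Or.inr hnr)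
    obtain ⟨R, hR, hBR⟩ := exists_isSylowIn_ge c.isPGroup hBM
    have hR1 : R ≠ ⊥ := fun h => hB1 (le_bot_iff.mp (h ▸ hBR))
    have hRt : R ≠ ⊤ := ne_top_of_le_coatom hM hR.1
    have hN : Subgroup.normalizer (R : Set G) ≤ M :=
      le_of_inUniqueMaximal hM hBM hu (normalizer_ne_top' hG hR1 hRt)
        (hBR.trans Subgroup.le_normalizer)
    exact hrσ (mem_sigma_of_sylIn hR hR1 hN)
  -- (2) `M` has rank at most two
  have hMr : Cfsg.RankLE 2 ↥M := by
    intro q hq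
    by_contra hqr
    haveI : Fact q.Prime := ⟨hq⟩
    have hqσ : q ∈ Cfsg.sigma M := alpha_subset_sigma hG (uT hG) hM ⟨hq, hqr⟩
    obtain ⟨S, hS, -⟩ := exists_isSylowIn_ge (p := q) (Q := ⊥) (H := M) IsPGroup.of_bot bot_le
    have hSr : ¬ Cfsg.PRankLE q 2 ↥S := not_pRankLE_sylowIn hS hqr
    have hSσ : S ≤ Cfsg.sigmaCore M :=
      Cfsg.Agent.H2.BG11.le_sigmaCore_of_pgroup hG hM hqσ hS.1 hS.isPGroup
    exact hSr (Cfsg.Agent.Lib.Helper4.Rank2Fit.pRankLE_of_le (hSσ.trans hσC) (hCr q hq))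
  -- (3) `M'` is nilpotent
  haveI : Group.IsSolvable ↥M := hG.2.2.2 M hM.1
  have hodd : Odd (Nat.card ↥M) := odd_card_subgroup hG M
  obtain ⟨hnil, -, -⟩ := Cfsg.Agent.S1451.result (G := ↥M) hodd (Or.inl hMr)
  have hKnil : Group.IsNilpotent ↥⁅M, M⁆ := by
    haveI := hnil
    exact Group.nilpotent_of_mulEquiv (Cfsg.Agent.Lib.Helper5.BGBeta.commEquiv M)
  -- (4) a prime `q ∈ σ(M)` and a Sylow `q`-subgroup `Q` of `M_σ`
  have hσ1 := sigmaCore_ne_bot hG hM
  have hcard : Nat.card ↥(Cfsg.sigmaCore M) ≠ 1 := fun h => hσ1 (Subgroup.card_eq_one.mp h)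
  obtain ⟨q, hq, hqd⟩ := Nat.exists_prime_and_dvd hcard
  haveI : Fact q.Prime := ⟨hq⟩
  have hqσ : q ∈ Cfsg.sigma M := mem_sigma_of_dvd_sigmaCore hG hM hq hqd
  have hqr : q ≠ r := fun h => hrσ (h ▸ hqσ)
  have hBσ : ∀ s : ℕ, s.Prime → s ∣ Nat.card ↥B → s ∉ Cfsg.sigma M := by
    intro s hs hsd
    rw [hB2] at hsd
    have : s = r := (Nat.prime_dvd_prime_iff_eq hs hr.out).mp (hs.dvd_of_dvd_pow hsd)
    rw [this]
    exact hrσ
  obtain ⟨Q, hQσ, hQM, hBQ⟩ := exists_invariant_sylow_sigmaCore hG hM hqσ hBM hBσ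
  have hQtop : IsSylowIn q Q ⊤ := sigma_sylow_top hqσ hQM
  have hNQ : Subgroup.normalizer (Q : Set G) ≤ M := sigma_normalizer_le hqσ hQM
  have hQmax : Q ∈ Cfsg.maxInvSubgroups ⊤ B {q} := sylow_mem_maxInv hQtop hBQ
  have hqC : q ∣ Nat.card ↥(Subgroup.centralizer (B : Set G)) :=
    hqd.trans (Subgroup.card_dvd_of_le hσC)
  -- (5) a Sylow `r`-subgroup `P` of `G` inside `M'`
  obtain ⟨P, hPtop, hBP, hPN⟩ := lemmaN_sylow c hq hqr hqC hQmax
  have hPK : P ≤ ⁅M, M⁆ := hPN.trans (Subgroup.commutator_mono hNQ hNQ)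
  have hKM : ⁅M, M⁆ ≤ M := Subgroup.commutator_le_self M
  have hPM : P ≤ M := hPK.trans hKM
  have hPsylK : IsSylowIn r P ⁅M, M⁆ := Cfsg.Agent.H2.BG11.sylIn_of_sylIn_top hPtop hPK
  have hPsylM : IsSylowIn r P M := Cfsg.Agent.H2.BG11.sylIn_of_sylIn_top hPtop hPM
  -- (6) `P` is normal in `M'`, hence in `M`
  have hKP : ⁅M, M⁆ ≤ Subgroup.normalizer (P : Set G) := by
    obtain ⟨R, hR⟩ := hPsylK.exists_sylow
    have h1 := ((Group.isNilpotent_of_finite_tfae (G := ↥⁅M, M⁆)).out 0 3 rfl rfl).mp hKnil r hr R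
    rw [hR] at h1
    exact (Subgroup.normal_subgroupOf_iff_le_normalizer hPK).mp h1
  have hP1 : P ≠ ⊥ := fun h => hB1 (le_bot_iff.mp (h ▸ hBP))
  have hMP : M ≤ Subgroup.normalizer (P : Set G) := by
    intro m hm
    have hKn : cj m ⁅M, M⁆ = ⁅M, M⁆ := by
      have hcn : M ≤ Subgroup.normalizer ((⁅M, M⁆ : Subgroup G) : Set G) := by
        intro x hx
        rw [Subgroup.mem_normalizer_iff]
        intro y
        constructor
        · intro hy
          have e : x * y * x⁻¹ = ⁅x, y⁆ * y := by rw [commutatorElement_def]; group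
          rw [e]
          exact Subgroup.mul_mem _ (Subgroup.commutator_mem_commutator hx (hKM hy)) hy
        · intro hy
          have e : y = ⁅x⁻¹, x * y * x⁻¹⁆ * (x * y * x⁻¹) := by rw [commutatorElement_def]; group
          rw [e]
          exact Subgroup.mul_mem _
            (Subgroup.commutator_mem_commutator (M.inv_mem hx) (hKM hy)) hy
      exact cj_eq_of_mem_normalizer (hcn hm)
    have h2 : cj m P ≤ ⁅M, M⁆ := by
      rw [← hKn]
      exact cj_mono m hPK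
    have h3 : cj m P ≤ P :=
      Cfsg.Agent.H2.BG11.pgroup_le_of_relIndex hr.out h2 hPK hKP (isPGroup_cj m hPsylK.isPGroup) (by
        intro hd
        have h4 : IsSylowIn r P ⁅M, M⁆ := hPsylK
        obtain ⟨R, hR⟩ := h4.exists_sylow
        have h5 : P.relIndex ⁅M, M⁆ = (R : Subgroup ↥⁅M, M⁆).index := by
          unfold Subgroup.relIndex
          rw [hR]
        rw [h5] at hd
        exact R.not_dvd_index hd)
    have h4 : cj m P = P := Subgroup.eq_of_le_of_card_ge h3 (by rw [card_cj])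
    exact mem_normalizer_of_cj_eq h4
  have hnorm := normalizer_eq_of_normal hG hM hP1 hPM hMP
  exact hrσ (mem_sigma_of_sylIn hPsylM hP1 hnorm.le)

end Cfsg.Agent.Lib.helper3.BG11
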