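import Mathlib
import Cfsg.Agent.Lib.helper3.BG11D
import Cfsg.Agent.Lib.Helper4.BGUniqF
import Cfsg.Agent.Lib.Helper5.BGTwelveA

/-!
# B&G Section 11, part E (helper3): Lemma R3

`M` maximal, `p ∉ σ(M)`... more precisely: `A ≤ M` elementary abelian of order `p ^ 2` and maximal elementary
abelian in `G`, `r ≠ p` a prime outside `σ(M)` dividing `|C_G(A)|`, `R` an `r`-subgroup normalized by `M`.
Then `A` centralizes `R`.  (See `notes/BG11_c_proof_helper3.md`, §3.)
-/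

set_option autoImplicit false
set_option linter.unusedSectionVars false
set_option linter.style.haveILetI false
open Cfsg
open scoped commutatorElement

namespace Cfsg.Agent.Lib.helper3.BG11

open Cfsg.Agent.Lib.Helper7 (IsSylowIn exists_isSylowIn_ge card_subgroupOf_of_le)
open Cfsg.Agent.Lib.Helper8.BGTen Cfsg.Agent.Lib.Helper4.BGTrans

universe u

variable {G : Type u} [Group G] [Finite G]

theorem ne_two_of_dvd_card (hG : Cfsg.IsMinSimpleOddOrder G) {r : ℕ} (hr : r ∣ Nat.card G) :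
    r ≠ 2 := by
  rintro rfl
  exact (Nat.not_even_iff_odd.mpr hG.1) (even_iff_two_dvd.mpr hr)

/-- the centralizer in `R*` of a subgroup `B` of `R*`, mapped to the centralizer in `G` -/
def centHom (Rs B : Subgroup G) (hB : B ≤ Rs) :
    ↥(Subgroup.centralizer ((B.subgroupOf Rs : Subgroup ↥Rs) : Set ↥Rs)) →*
      ↥(Subgroup.centralizer (B : Set G)) where
  toFun x := ⟨x.1.1, by
    rw [Subgroup.mem_centralizer_iff]
    intro b hb
    have h1 : (⟨b, hB hb⟩ : ↥Rs) ∈ B.subgroupOf Rs := Subgroup.mem_subgroupOf.mpr hb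
    have h2 := Subgroup.mem_centralizer_iff.mp x.2 ⟨b, hB hb⟩ h1
    exact congrArg Subtype.val h2⟩
  map_one' := rfl
  map_mul' _ _ := rfl

theorem centHom_injective (Rs B : Subgroup G) (hB : B ≤ Rs) :
    Function.Injective (centHom Rs B hB) := by
  intro x y h
  apply Subtype.ext
  apply Subtype.ext
  exact congrArg (fun z : ↥(Subgroup.centralizer (B : Set G)) => (z : G)) h

/-- **Lemma R3** -/
theorem lemmaR3 (hG : Cfsg.IsMinSimpleOddOrder G) {M : Subgroup G} (hM : IsCoatom M)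
    {p : ℕ} [hp : Fact p.Prime] {A : Subgroup G} (c : E2Max G p A) (hAM : A ≤ M)
    {r : ℕ} [hr : Fact r.Prime] (hrp : r ≠ p) (hrσ : r ∉ Cfsg.sigma M) {R : Subgroup G}
    (hR : IsPGroup r ↥R) (hRn : M ≤ Subgroup.normalizer (R : Set G))
    (hrC : r ∣ Nat.card ↥(Subgroup.centralizer (A : Set G))) :
    R ≤ Subgroup.centralizer (A : Set G) := by
  by_cases hR1 : R = ⊥
  · rw [hR1]; exact bot_le
  have hRt : R ≠ ⊤ := Cfsg.Agent.Lib.Helper4.BGSyl.sylow_ne_top hG hR
  have hNt := normalizer_ne_top' hG hR1 hRt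
  have hNR : Subgroup.normalizer (R : Set G) = M := by
    rcases eq_or_lt_of_le hRn with h | h
    · exact h.symm
    · exact absurd (hM.2 _ h) hNt
  have hRM : R ≤ M := hNR ▸ Subgroup.le_normalizer
  have hr2 : r ≠ 2 :=
    ne_two_of_dvd_card hG (hrC.trans (Subgroup.card_subgroup_dvd_card _))
  have hRinv : R ∈ Cfsg.invSubgroups ⊤ A {r} :=
    mem_invSubgroups_top.mpr ⟨isPiNat_of_isPGroup hR, hAM.trans hRn⟩
  obtain ⟨Rs, hRs, hRRs⟩ := exists_maxInv_ge hRinv
  have hRs' := mem_invSubgroups_top.mp hRs.1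
  have hRsr : IsPGroup r ↥Rs := isPGroup_of_isPiNat hr.out hRs'.1
  by_cases hnar : AutNar r ↥Rs
  · have h1 := lemmaN c hr.out hrp hrC hRs hnar
    exact hRRs.trans (Subgroup.le_centralizer_iff.mp h1)
  exfalso
  -- `R*` is not narrow
  have h3 : ¬ Cfsg.PRankLE r 2 ↥Rs := fun h => hnar (autNar_of_rank hr2 hRsr h)
  have h4 : ∀ E₀ : Subgroup ↥Rs, Cfsg.IsElementaryAbelian r E₀ →
      ¬ Cfsg.PRankLE r 2 ↥(Subgroup.centralizer (E₀ : Set ↥Rs)) :=
    fun E₀ hE₀ h => hnar (autNar_of_narrow hr2 hRsr h3 E₀ hE₀ h)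
  have hα : r ∉ Cfsg.alpha M := fun h => hrσ (alpha_subset_sigma hG (uT hG) hM h)
  have hMr : Cfsg.PRankLE r 2 ↥M := pRankLE_of_not_mem_alpha hr.out hα
  have hRst : Rs ≠ ⊤ := Cfsg.Agent.Lib.Helper4.BGSyl.sylow_ne_top hG hRsr
  -- it suffices to show `R* ≤ M`
  suffices hle : Rs ≤ M from h3 (Cfsg.Agent.Lib.Helper4.Rank2Fit.pRankLE_of_le hle hMr)
  set N₁ : Subgroup G := Rs ⊓ M with hN₁
  have hRN₁ : R ≤ N₁ := le_inf hRRs hRM
  have hN₁r : IsPGroup r ↥N₁ := hRsr.to_inf_left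
  by_cases hN₁rk : Cfsg.PRankLE r 1 ↥N₁
  · -- `N₁` is cyclic, so `N₁ = R*`
    have hcyc : IsCyclic ↥N₁ :=
      Cfsg.Agent.Lib.Helper5.BGTwelve.isCyclic_of_pRankLE_one hr2 hN₁r hN₁rk
    by_cases hne : N₁ = Rs
    · rw [← hne]; exact inf_le_right
    · exfalso
      obtain ⟨t, htRs, htN, htN₁⟩ := exists_mem_normalizer_not_mem hRsr inf_le_left hne
      have h5 : cj t N₁ = N₁ := cj_eq_of_mem_normalizer htN
      have h6 : cj t R ≤ N₁ := h5 ▸ cj_mono t hRN₁
      have h7 : cj t R = R :=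
        Cfsg.Agent.Lib.Helper4.BGUniq.eq_of_card_eq_of_le_cyclic hN₁r hcyc h6 hRN₁ (card_cj t R)
      have h8 : t ∈ M := hNR ▸ mem_normalizer_of_cj_eq h7
      exact htN₁ ⟨htRs, h8⟩
  · -- a noncyclic elementary abelian subgroup `B'` of `N₁` lies in `𝒰`
    unfold Cfsg.PRankLE at hN₁rk
    push Not at hN₁rk
    obtain ⟨B₀, hB₀c, hB₀e, hB₀card⟩ := hN₁rk
    set B' : Subgroup G := B₀.map N₁.subtype with hB'
    have hB'N₁ : B' ≤ N₁ := Subgroup.map_subtype_le _
    have hB'Rs : B' ≤ Rs := hB'N₁.trans inf_le_left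
    have hB'M : B' ≤ M := hB'N₁.trans inf_le_right
    have hB'card : Nat.card ↥B' = Nat.card ↥B₀ :=
      Subgroup.card_map_of_injective N₁.subtype_injective
    have hB'e : Cfsg.IsElementaryAbelian r B' := by
      refine ⟨⟨⟨?_⟩⟩, ?_⟩
      · rintro ⟨_, ⟨a, ha, rfl⟩⟩ ⟨_, ⟨b, hb, rfl⟩⟩
        apply Subtype.ext
        have := hB₀c.is_comm.comm (⟨a, ha⟩ : ↥B₀) ⟨b, hb⟩
        have h' := congrArg (fun z : ↥B₀ => ((z : ↥N₁) : G)) this
        exact h'
      · rintro _ ⟨a, ha, rfl⟩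
        have := hB₀e a ha
        have h' := congrArg (fun z : ↥N₁ => (z : G)) this
        simpa using h'
    have hB't : B' ≠ ⊤ := ne_top_of_le_coatom hM hB'M
    have hK2 : ¬ Cfsg.RankLE 1 ↥B' := by
      intro h
      have h1 := h r hr.out (⊤ : Subgroup ↥B') ?_ ?_
      · rw [Subgroup.card_top, hB'card] at h1
        omega
      · refine ⟨⟨fun a b => ?_⟩⟩
        apply Subtype.ext
        exact hB'e.1.is_comm.comm a.1 b.1
      · intro a _
        apply Subtype.ext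
        rw [Subgroup.coe_pow, Subgroup.coe_one]
        exact hB'e.2 a.1 a.2
    have hK3 : ¬ Cfsg.RankLE 2 ↥(Subgroup.centralizer (B' : Set G)) := by
      intro h
      have hE₀ : Cfsg.IsElementaryAbelian r (B'.subgroupOf Rs) := by
        refine ⟨⟨⟨fun a b => ?_⟩⟩, ?_⟩
        · have h := hB'e.1.is_comm.comm (⟨a.1.1, a.2⟩ : ↥B') ⟨b.1.1, b.2⟩
          have h' : (a.1.1 * b.1.1 : G) = b.1.1 * a.1.1 := congrArg Subtype.val h
          exact Subtype.ext (Subtype.ext h')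
        · intro a ha
          apply Subtype.ext
          rw [Subgroup.coe_pow, Subgroup.coe_one]
          exact hB'e.2 a.1 ha
      apply h4 _ hE₀
      exact Cfsg.Agent.Lib.Helper4.Rank2Fit.pRankLE_of_injective (centHom Rs B' hB'Rs)
        (centHom_injective Rs B' hB'Rs) (h r hr.out)
    have hu := Cfsg.Agent.S1403.result hG B' hB't hK2 (Or.inr hK3)
    exact le_of_inUniqueMaximal hM hB'M hu hRst hB'Rs

end Cfsg.Agent.Lib.helper3.BG11
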