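import Mathlib
import Cfsg.Agent.Lib.helper3.BG11E
import Cfsg.Agent.H2.BG12.C
import Cfsg.Agent.Lib.Helper8.BGTw14A
import Cfsg.Agent.S1414
import Cfsg.Agent.Lib.Helper7.PReduced8

/-!
# B&G Section 12, part A (helper3): general lemmas for B&G 12.15 (S1425)
-/

set_option autoImplicit false
set_option linter.unusedSectionVars false
set_option linter.unusedVariables false
set_option linter.style.haveILetI false
open Cfsg
open scoped commutatorElement Pointwise

namespace Cfsg.Agent.Lib.helper3.BG12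

open Cfsg.Agent.Lib.Helper7 (IsSylowIn exists_isSylowIn_ge card_subgroupOf_of_le)
open Cfsg.Agent.Lib.Helper8.BGTen Cfsg.Agent.Lib.Helper4.BGTrans

universe u

/-! ### type-level lemmas -/

section typeLevel

variable {L : Type u} [Group L] [Finite L]

/-- a subgroup whose order is prime to the index of a normal subgroup lies in it -/
theorem le_of_coprime_index (N Y : Subgroup L) [N.Normal]
    (h : (Nat.card ↥Y).Coprime N.index) : Y ≤ N := by
  intro y hy
  have h1 : ((QuotientGroup.mk' N) y) ^ Nat.card ↥Y = 1 := by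
    rw [← map_pow]
    have : y ^ Nat.card ↥Y = 1 := by
      have h' : (⟨y, hy⟩ : ↥Y) ^ Nat.card ↥Y = 1 := pow_card_eq_one'
      exact congrArg Subtype.val h'
    rw [this, map_one]
  have h2 : ((QuotientGroup.mk' N) y) ^ N.index = 1 := by
    rw [Subgroup.index_eq_card]
    exact pow_card_eq_one'
  have h3 : orderOf ((QuotientGroup.mk' N) y) ∣ Nat.gcd (Nat.card ↥Y) N.index :=
    Nat.dvd_gcd (orderOf_dvd_of_pow_eq_one h1) (orderOf_dvd_of_pow_eq_one h2)
  have h4 : Nat.gcd (Nat.card ↥Y) N.index = 1 := h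
  rw [h4, Nat.dvd_one, orderOf_eq_one_iff] at h3
  rw [QuotientGroup.mk'_apply, QuotientGroup.eq_one_iff] at h3
  exact h3

/-- `|L : D|` divides `|N : H|` when `L = DN`, `N` normal and `H ≤ D ∩ N` -/
theorem index_dvd_relIndex_of_sup_eq_top (N D H : Subgroup L) [N.Normal] (hDN : D ⊔ N = ⊤)
    (hHD : H ≤ D) (hHN : H ≤ N) : D.index ∣ H.relIndex N := by
  have h1 : N.index = N.relIndex D := by
    have := Subgroup.relIndex_sup_right D N
    rw [hDN, Subgroup.relIndex_top_right] at this
    exact this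
  have h2 : Nat.card L = N.relIndex D * Nat.card ↥N := by
    rw [← h1, mul_comm]; exact (Subgroup.card_mul_index N).symm
  have h3 : Nat.card ↥D = N.relIndex D * Nat.card ↥(N ⊓ D) := by
    have := Cfsg.Agent.H1.card_eq_relIndex_mul_card (inf_le_right : N ⊓ D ≤ D)
    rw [Subgroup.inf_relIndex_right] at this
    exact this
  have h4 : Nat.card L = D.index * Nat.card ↥D := (Subgroup.index_mul_card D).symm
  have h5 : N.relIndex D ≠ 0 := by
    intro h0
    rw [h0, zero_mul] at h2
    exact Nat.card_pos.ne' h2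
  have h6 : Nat.card ↥N = D.index * Nat.card ↥(N ⊓ D) := by
    have : N.relIndex D * Nat.card ↥N = N.relIndex D * (D.index * Nat.card ↥(N ⊓ D)) := by
      rw [← h2, h4, h3]; ring
    exact Nat.eq_of_mul_eq_mul_left (Nat.pos_of_ne_zero h5) this
  have h7 : Nat.card ↥N = H.relIndex N * Nat.card ↥H :=
    Cfsg.Agent.H1.card_eq_relIndex_mul_card hHN
  have h8 : Nat.card ↥(N ⊓ D) = H.relIndex (N ⊓ D) * Nat.card ↥H :=
    Cfsg.Agent.H1.card_eq_relIndex_mul_card (le_inf hHN hHD)
  have h9 : H.relIndex N * Nat.card ↥H = (D.index * H.relIndex (N ⊓ D)) * Nat.card ↥H := by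
    rw [← h7, h6, h8]; ring
  have h10 : H.relIndex N = D.index * H.relIndex (N ⊓ D) :=
    Nat.eq_of_mul_eq_mul_right Nat.card_pos h9
  exact ⟨_, h10⟩

/-- Hall transfer: `B` a normal Hall subgroup of the solvable group `L`, `D ≤ L` of index prime to
`|L : B|`; then every subgroup of order prime to `|B|` is conjugate into `D`. -/
theorem exists_conj_le_of_index_coprime [Group.IsSolvable L] (B D Y : Subgroup L)
    (hB : (Nat.card ↥B).Coprime B.index) (hD : D.index.Coprime B.index)
    (hY : (Nat.card ↥Y).Coprime (Nat.card ↥B)) : ∃ g : L, Y ≤ MulAut.conj g • D := by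
  set m := B.index with hm
  set n := Nat.card ↥B with hn
  have hL : Nat.card L = m * n := by rw [mul_comm]; exact (Subgroup.card_mul_index B).symm
  have hmpos : 0 < m := Nat.pos_of_ne_zero (by
    intro h0; rw [h0, zero_mul] at hL; exact Nat.card_pos.ne' hL)
  have hLD : Nat.card L = D.index * Nat.card ↥D := (Subgroup.index_mul_card D).symm
  have hmD : m ∣ Nat.card ↥D := by
    have h1 : m ∣ D.index * Nat.card ↥D := by rw [← hLD, hL]; exact dvd_mul_right m n
    exact (Nat.Coprime.dvd_mul_left hD.symm).mp h1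
  obtain ⟨n', hn'⟩ := hmD
  have hn'n : n' ∣ n := by
    have h1 : m * n' ∣ m * n := by rw [← hn', ← hL]; exact Subgroup.card_subgroup_dvd_card D
    exact (Nat.mul_dvd_mul_iff_left hmpos).mp h1
  have hcop : m.Coprime n := hB.symm
  have hcop' : m.Coprime n' := Nat.Coprime.coprime_dvd_right hn'n hcop
  haveI : Group.IsSolvable ↥D := inferInstance
  obtain ⟨T, hT⟩ := Cfsg.Agent.H1.hall_exists (G := ↥D) m n' hn' hcop'
  have hT' : Nat.card ↥(T.map D.subtype) = m := by
    rw [Subgroup.card_map_of_injective D.subtype_injective]; exact hT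
  obtain ⟨g, hg⟩ := Cfsg.Agent.H1.hall_dominance (G := L) m n hL hcop (T.map D.subtype) Y hT' hY
  refine ⟨g, hg.trans ?_⟩
  exact Subgroup.pointwise_smul_le_pointwise_smul_iff.mpr (Subgroup.map_subtype_le T)

end typeLevel

end Cfsg.Agent.Lib.helper3.BG12
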