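import Mathlib
import Cfsg.Agent.Lib.helper3.BG12A

/-!
# B&G Section 12, part B (helper3): ambient lemmas for B&G 12.15 (S1425)

`aux1` (Part 7, Aux 1 of the lead blueprint), `aux2c` (Aux 2c), existence of a complement of `M_σ`,
and the "Case B" Hall-transfer lemma.
-/

set_option autoImplicit false
set_option linter.unusedSectionVars false
set_option linter.unusedVariables false
set_option linter.style.haveILetI false
open Cfsg
open scoped commutatorElement Pointwise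

namespace Cfsg.Agent.Lib.helper3.BG12

open Cfsg.Agent.Lib.Helper7 (IsSylowIn exists_isSylowIn_ge card_subgroupOf_of_le)
open Cfsg.Agent.Lib.Helper8.BGTen Cfsg.Agent.Lib.Helper4.BGTrans
open Cfsg.Agent.Lib.helper3.BG11
open Cfsg.Agent.H2.BGU (Oq Oq_le isPGroup_Oq le_normalizer_Oq le_Oq_of_isPGroup)

universe u

variable {G : Type u} [Group G] [Finite G]

/-- ambient form of `le_of_coprime_index` -/
theorem le_of_coprime_relIndex {Y N M : Subgroup G} (hYM : Y ≤ M) (hNM : N ≤ M)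
    (hn : M ≤ Subgroup.normalizer (N : Set G)) (h : (Nat.card ↥Y).Coprime (N.relIndex M)) :
    Y ≤ N := by
  haveI : (N.subgroupOf M).Normal := (Subgroup.normal_subgroupOf_iff_le_normalizer hNM).mpr hn
  have h1 : Y.subgroupOf M ≤ N.subgroupOf M := by
    apply le_of_coprime_index
    rw [card_subgroupOf_of_le hYM]
    exact h
  intro x hx
  have h2 : (⟨x, hYM hx⟩ : ↥M) ∈ Y.subgroupOf M := Subgroup.mem_subgroupOf.mpr hx
  exact Subgroup.mem_subgroupOf.mp (h1 h2)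

/-- a `σ(M)`-subgroup of `M` lies in `M_σ` -/
theorem le_sigmaCore_of_sigma_group (hG : Cfsg.IsMinSimpleOddOrder G) {M : Subgroup G}
    (hM : IsCoatom M) {Y : Subgroup G} (hYM : Y ≤ M)
    (hY : ∀ p : ℕ, p.Prime → p ∣ Nat.card ↥Y → p ∈ Cfsg.sigma M) : Y ≤ Cfsg.sigmaCore M := by
  apply le_of_coprime_relIndex hYM (sigmaCore_le M) (le_normalizer_sigmaCore M)
  apply Nat.coprime_of_dvd
  intro k hk hkY hkI
  exact (Cfsg.Agent.H2.BG11.sigmaCore_hallOf hG hM).2.2 k hk (hY k hk hkY) hkI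

/-- `M_σ` has a complement in `M` (Schur–Zassenhaus) -/
theorem exists_compl (hG : Cfsg.IsMinSimpleOddOrder G) {M : Subgroup G} (hM : IsCoatom M) :
    ∃ E : Subgroup G, Cfsg.IsComplIn E (Cfsg.sigmaCore M) M := by
  have hH := Cfsg.Agent.H2.BG11.sigmaCore_hallOf hG hM
  have e1 : Nat.card ↥(Cfsg.sigmaCore M) = Nat.card ↥(Cfsg.piCore (Cfsg.sigma M) ↥M) :=
    Subgroup.card_map_of_injective M.subtype_injective
  have e2 : (Cfsg.sigmaCore M).relIndex M = (Cfsg.piCore (Cfsg.sigma M) ↥M).index :=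
    relIndex_map_subtype_self M _
  have hcop : (Nat.card ↥(Cfsg.piCore (Cfsg.sigma M) ↥M)).Coprime
      (Cfsg.piCore (Cfsg.sigma M) ↥M).index := by
    apply Nat.coprime_of_dvd
    intro k hk hk1 hk2
    exact hH.2.2 k hk (hH.2.1 k hk (e1 ▸ hk1)) (e2 ▸ hk2)
  obtain ⟨H, hH'⟩ := Subgroup.exists_left_complement'_of_coprime hcop
  refine ⟨H.map M.subtype, Subgroup.map_subtype_le _, sigmaCore_le M, ?_, ?_⟩
  · rw [eq_bot_iff]
    rintro x ⟨⟨a, ha, rfl⟩, ⟨b, hb, hab⟩⟩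
    have hab' : b = a := Subtype.ext hab
    rw [hab'] at hb
    have h1 : a ∈ H ⊓ Cfsg.piCore (Cfsg.sigma M) ↥M := ⟨ha, hb⟩
    rw [hH'.disjoint.eq_bot, Subgroup.mem_bot] at h1
    rw [h1]
    exact Subgroup.one_mem _
  · intro m hm
    obtain ⟨⟨⟨a, ha⟩, ⟨b, hb⟩⟩, hab, -⟩ := hH'.existsUnique ⟨m, hm⟩
    refine ⟨(a : G), ⟨a, ha, rfl⟩, (b : G), ⟨b, hb, rfl⟩, ?_⟩
    have := congrArg Subtype.val hab
    simpa using this.symm

/-- **Aux 1**: `1 ≠ X` a `q`-group with `N_G(X) ≤ M*` and `q ∉ σ(M*)`; then `q ∈ τ₂(M*)` -/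
theorem aux1 (hG : Cfsg.IsMinSimpleOddOrder G) {Ms : Subgroup G} (hMs : IsCoatom Ms) {q : ℕ}
    [hq : Fact q.Prime] {X : Subgroup G} (hXq : IsPGroup q ↥X) (hX1 : X ≠ ⊥)
    (hNX : Subgroup.normalizer (X : Set G) ≤ Ms) (hqσ : q ∉ Cfsg.sigma Ms) :
    q ∈ Cfsg.tau2 Ms := by
  have hXMs : X ≤ Ms := Subgroup.le_normalizer.trans hNX
  refine ⟨hq.out, hqσ, ?_, ?_⟩
  · by_contra h2
    exact hqσ (alpha_subset_sigma hG (uT hG) hMs ⟨hq.out, h2⟩)
  · intro h1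
    obtain ⟨P, hP, hXP⟩ := exists_isSylowIn_ge hXq hXMs
    have hcyc : IsCyclic ↥P :=
      Cfsg.Agent.Lib.Helper4.BGTw.isCyclic_of_pRankLE_one hG h1 hP.1 hP.isPGroup
    have hN : Subgroup.normalizer (P : Set G) ≤ Ms :=
      (normalizer_le_normalizer_of_isCyclic hcyc hXP).trans hNX
    have hP1 : P ≠ ⊥ := fun h => hX1 (le_bot_iff.mp (h ▸ hXP))
    exact hqσ (mem_sigma_of_sylIn hP hP1 hN)

/-- for nilpotent `M_σ`, `O_q(M_σ)` is a Sylow `q`-subgroup of `M_σ` -/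
theorem sylIn_Oq_of_nilpotent {M : Subgroup G} (hnil : Group.IsNilpotent ↥(Cfsg.sigmaCore M))
    (q : ℕ) [hq : Fact q.Prime] :
    IsSylowIn q (Oq q (Cfsg.sigmaCore M)) (Cfsg.sigmaCore M) := by
  obtain ⟨S, hS, -⟩ := exists_isSylowIn_ge (p := q) (Q := ⊥) (H := Cfsg.sigmaCore M)
    IsPGroup.of_bot bot_le
  have h1 : S ≤ Oq q (Cfsg.sigmaCore M) := le_Oq_of_isPGroup hnil hS.1 hS.isPGroup
  have h2 : Oq q (Cfsg.sigmaCore M) = S :=
    sylIn_eq_of_le hS (Oq_le q _) (isPGroup_Oq hq.out _) h1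
  rw [h2]
  exact hS

/-- **Aux 2c**: if `M*_σ` is nilpotent and `σ(M*) ∩ σ(M) ≠ ∅` then `M*` is conjugate to `M` -/
theorem aux2c (hG : Cfsg.IsMinSimpleOddOrder G) {M Ms : Subgroup G} (hM : IsCoatom M)
    (hMs : IsCoatom Ms) (hnil : Group.IsNilpotent ↥(Cfsg.sigmaCore Ms)) {p : ℕ}
    [hp : Fact p.Prime] (hpMs : p ∈ Cfsg.sigma Ms) (hpM : p ∈ Cfsg.sigma M) :
    ∃ g : G, Ms = cj g M := by
  have hQ1 := sylIn_Oq_of_nilpotent hnil p
  have hQtop : IsSylowIn p (Oq p (Cfsg.sigmaCore Ms)) ⊤ :=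
    Cfsg.Agent.H2.BG11.sylIn_top_of_not_dvd_index hQ1
      ((Cfsg.Agent.H2.BG11.sigmaCore_hall hG hMs).2 p hp.out hpMs)
  have hQn : Ms ≤ Subgroup.normalizer (Oq p (Cfsg.sigmaCore Ms) : Set G) :=
    Cfsg.Agent.H2.BG11.ExcTriple.le_normalizer_Oq_sigmaCore p Ms
  obtain ⟨P, hP, -⟩ := exists_isSylowIn_ge (p := p) (Q := ⊥) (H := M) IsPGroup.of_bot bot_le
  have hPtop := sigma_sylow_top hpM hP
  have hPn := sigma_normalizer_le hpM hP
  obtain ⟨g, -, hg⟩ := hPtop.conj hQtop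
  have hg' : Oq p (Cfsg.sigmaCore Ms) = cj g P := hg
  refine ⟨g, ?_⟩
  have h1 : Ms ≤ cj g M := by
    refine hQn.trans ?_
    rw [hg', ← cj_normalizer]
    exact cj_mono g hPn
  have h2 : cj g M ≠ ⊤ := (isCoatom_cj hM g).1
  by_contra hne
  exact h2 (hMs.2 _ (lt_of_le_of_ne h1 hne))

/-- **Case B**: `S` a Sylow `q`-subgroup of `M*`, `q ∈ σ(M*) \ β(M*)`, `N_G(S) ≤ M`.  Then every
`β(M*)'`-subgroup of `M*` is `M*`-conjugate into `M`. -/
theorem caseB (hG : Cfsg.IsMinSimpleOddOrder G) {Ms : Subgroup G} (hMs : IsCoatom Ms) {q : ℕ}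
    [hq : Fact q.Prime] (hqσ : q ∈ Cfsg.sigma Ms) (hqβ : q ∉ Cfsg.beta Ms) {S : Subgroup G}
    (hS : IsSylowIn q S Ms) {M : Subgroup G} (hNS : Subgroup.normalizer (S : Set G) ≤ M)
    {Y : Subgroup G} (hYMs : Y ≤ Ms)
    (hY : ∀ p : ℕ, p.Prime → p ∣ Nat.card ↥Y → p ∉ Cfsg.beta Ms) :
    ∃ m ∈ Ms, Y ≤ cj m M := by
  haveI : Group.IsSolvable ↥Ms := hG.2.2.2 Ms hMs.1
  obtain ⟨hB1, -, -, ⟨H, hH, hHnil⟩, -⟩ := Cfsg.Agent.S1414.result hG Ms hMs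
  have hNMs : Cfsg.sigmaCore Ms ≤ Ms := sigmaCore_le Ms
  have hSN : S ≤ Cfsg.sigmaCore Ms :=
    Cfsg.Agent.H2.BG11.le_sigmaCore_of_pgroup hG hMs hqσ hS.1 hS.isPGroup
  have hSsylN : IsSylowIn q S (Cfsg.sigmaCore Ms) := by
    obtain ⟨R, hR, hSR⟩ := exists_isSylowIn_ge hS.isPGroup hSN
    have : R = S := sylIn_eq_of_le hS (hR.1.trans hNMs) hR.isPGroup hSR
    rw [← this]; exact hR
  obtain ⟨SH, hSH, -⟩ := exists_isSylowIn_ge (p := q) (Q := ⊥) (H := H) IsPGroup.of_bot bot_le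
  have hSHN : IsSylowIn q SH (Cfsg.sigmaCore Ms) := by
    apply sylIn_of_not_dvd (hSH.1.trans hH.1) hSH.isPGroup
    rw [← Subgroup.relIndex_mul_relIndex SH H _ hSH.1 hH.1, Nat.Prime.dvd_mul hq.out]
    push Not
    exact ⟨not_dvd_relIndex_of_sylIn hSH, hH.2.2 q hq.out ⟨hq.out, hqβ⟩⟩
  obtain ⟨k, hkN, hk⟩ := hSHN.conj hSsylN
  have hk' : S = cj k SH := hk
  have hH₁N : cj k H ≤ Cfsg.sigmaCore Ms := by
    have := cj_mono k hH.1
    rwa [cj_eq_of_mem hkN] at this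
  have hSH₁ : S ≤ cj k H := by rw [hk']; exact cj_mono k hSH.1
  have hH₁nil : Group.IsNilpotent ↥(cj k H) :=
    Group.nilpotent_of_mulEquiv (H.equivMapOfInjective _ (MulAut.conj k).injective)
  have h1 : S ≤ Oq q (cj k H) := le_Oq_of_isPGroup hH₁nil hSH₁ hS.isPGroup
  have h2 : Oq q (cj k H) = S :=
    sylIn_eq_of_le hS ((Oq_le q _).trans (hH₁N.trans hNMs)) (isPGroup_Oq hq.out _) h1
  have hH₁M : cj k H ≤ M := by
    have := le_normalizer_Oq q (cj k H)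
    rw [h2] at this
    exact this.trans hNS
  have hfr : Ms ≤ (Ms ⊓ Subgroup.normalizer (S : Set G)) ⊔ Cfsg.sigmaCore Ms :=
    hSsylN.frattini hNMs (le_normalizer_sigmaCore Ms)
  -- type level
  have hNt : (Cfsg.sigmaCore Ms).subgroupOf Ms = Cfsg.piCore (Cfsg.sigma Ms) ↥Ms :=
    Subgroup.comap_map_eq_self_of_injective Ms.subtype_injective _
  have hDN : M.subgroupOf Ms ⊔ Cfsg.piCore (Cfsg.sigma Ms) ↥Ms = ⊤ := by
    have h3 : ((Ms ⊓ Subgroup.normalizer (S : Set G)) ⊔ Cfsg.sigmaCore Ms).subgroupOf Ms = ⊤ :=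
      Subgroup.subgroupOf_eq_top.mpr hfr
    rw [Subgroup.subgroupOf_sup inf_le_left hNMs, hNt] at h3
    rw [eq_top_iff, ← h3]
    apply sup_le_sup_right
    exact Subgroup.comap_mono (inf_le_right.trans hNS)
  have hHD : (cj k H).subgroupOf Ms ≤ M.subgroupOf Ms := Subgroup.comap_mono hH₁M
  have hHN : (cj k H).subgroupOf Ms ≤ Cfsg.piCore (Cfsg.sigma Ms) ↥Ms := by
    rw [← hNt]; exact Subgroup.comap_mono hH₁N
  have hdvd := index_dvd_relIndex_of_sup_eq_top (Cfsg.piCore (Cfsg.sigma Ms) ↥Ms)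
    (M.subgroupOf Ms) ((cj k H).subgroupOf Ms) hDN hHD hHN
  have e1 : ((cj k H).subgroupOf Ms).relIndex (Cfsg.piCore (Cfsg.sigma Ms) ↥Ms)
      = (cj k H).relIndex (Cfsg.sigmaCore Ms) := by
    rw [← hNt]; exact Subgroup.relIndex_subgroupOf hNMs
  have e2 : (cj k H).relIndex (Cfsg.sigmaCore Ms) = H.relIndex (Cfsg.sigmaCore Ms) := by
    have : (cj k H).relIndex (cj k (Cfsg.sigmaCore Ms)) = H.relIndex (Cfsg.sigmaCore Ms) :=
      Subgroup.relIndex_map_map_of_injective _ _ (MulAut.conj k).injective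
    rwa [cj_eq_of_mem hkN] at this
  have hBcard : Nat.card ↥(Cfsg.piCoreOf (Cfsg.beta Ms) Ms)
      = Nat.card ↥(Cfsg.piCore (Cfsg.beta Ms) ↥Ms) :=
    Subgroup.card_map_of_injective Ms.subtype_injective
  have hBidx : (Cfsg.piCoreOf (Cfsg.beta Ms) Ms).relIndex Ms
      = (Cfsg.piCore (Cfsg.beta Ms) ↥Ms).index := relIndex_map_subtype_self Ms _
  have hB : (Nat.card ↥(Cfsg.piCore (Cfsg.beta Ms) ↥Ms)).Coprime
      (Cfsg.piCore (Cfsg.beta Ms) ↥Ms).index := by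
    apply Nat.coprime_of_dvd
    intro p hp hp1 hp2
    exact hB1.2.2 p hp (hB1.2.1 p hp (hBcard ▸ hp1)) (hBidx ▸ hp2)
  have hD : (M.subgroupOf Ms).index.Coprime (Cfsg.piCore (Cfsg.beta Ms) ↥Ms).index := by
    apply Nat.coprime_of_dvd
    intro p hp hp1 hp2
    have hp3 : p ∣ H.relIndex (Cfsg.sigmaCore Ms) := by
      rw [← e2, ← e1]; exact hp1.trans hdvd
    have hpβ : p ∈ Cfsg.beta Ms := by
      by_contra hpβ
      exact hH.2.2 p hp ⟨hp, hpβ⟩ hp3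
    exact hB1.2.2 p hp hpβ (hBidx ▸ hp2)
  have hYc : (Nat.card ↥(Y.subgroupOf Ms)).Coprime
      (Nat.card ↥(Cfsg.piCore (Cfsg.beta Ms) ↥Ms)) := by
    rw [card_subgroupOf_of_le hYMs]
    apply Nat.coprime_of_dvd
    intro p hp hp1 hp2
    exact hY p hp hp1 (hB1.2.1 p hp (hBcard ▸ hp2))
  obtain ⟨g, hg⟩ := exists_conj_le_of_index_coprime (Cfsg.piCore (Cfsg.beta Ms) ↥Ms)
    (M.subgroupOf Ms) (Y.subgroupOf Ms) hB hD hYc
  refine ⟨g.1, g.2, ?_⟩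
  intro y hy
  have h1 : (⟨y, hYMs hy⟩ : ↥Ms) ∈ Y.subgroupOf Ms := Subgroup.mem_subgroupOf.mpr hy
  have h2 := hg h1
  rw [Subgroup.mem_smul_pointwise_iff_exists] at h2
  obtain ⟨e, he, hey⟩ := h2
  have he' : (e : G) ∈ M := Subgroup.mem_subgroupOf.mp he
  have h3 : (g : G) * e * (g : G)⁻¹ = y := by
    have := congrArg Subtype.val hey
    simpa [MulAut.smul_def, MulAut.conj_apply] using this
  rw [← h3]
  exact conj_mem_cj he'

end Cfsg.Agent.Lib.helper3.BG12
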