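import Mathlib
import Cfsg.Agent.Lib.helper3.BG12B

/-!
# B&G Section 12, part C (helper3): B&G 12.15 (S1425), conditional on the statements of
S1416, S1417, S1418 (Part 7 of the lead blueprint)
-/

set_option autoImplicit false
set_option linter.unusedSectionVars false
set_option linter.unusedVariables false
set_option linter.style.haveILetI false
open Cfsg
open scoped commutatorElement Pointwise

namespace Cfsg.Agent.Lib.helper3.BG12

open Cfsg.Agent.Lib.Helper7 (IsSylowIn exists_isSylowIn_ge card_subgroupOf_of_le)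
open Cfsg.Agent.Lib.Helper8.BGTen Cfsg.Agent.Lib.Helper4.BGTrans
open Cfsg.Agent.Lib.helper3.BG11
open Cfsg.Agent.H2.BGU (Oq Oq_le isPGroup_Oq le_normalizer_Oq le_Oq_of_isPGroup)
open Cfsg.Agent.H2.BG12 (St1416 St1417 St1418)

universe u

variable {G : Type u} [Group G] [Finite G]

/-- the main step: `Y` normalizes a nontrivial `q`-subgroup `X ≤ M`, `q ∈ σ(M)`, and `Y` is a
`σ(M)`-group; then `Y` lies in a conjugate of `M` -/
theorem s1425_aux (hG : Cfsg.IsMinSimpleOddOrder G) (h16 : St1416 G) (h17 : St1417 G)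
    (h18 : St1418 G) {M : Subgroup G} (hM : IsCoatom M) {Y : Subgroup G}
    (hY : ∀ p : ℕ, p.Prime → p ∣ Nat.card ↥Y → p ∈ Cfsg.sigma M) {q : ℕ} [hq : Fact q.Prime]
    (hqσ : q ∈ Cfsg.sigma M) {X : Subgroup G} (hXq : IsPGroup q ↥X) (hX1 : X ≠ ⊥) (hXM : X ≤ M)
    (hYX : Y ≤ Subgroup.normalizer (X : Set G)) : ∃ g : G, Y ≤ cj g M := by
  have hXt : X ≠ ⊤ := ne_top_of_le_coatom hM hXM
  have hNt := normalizer_ne_top' hG hX1 hXt
  obtain ⟨Ms, hMs, hNMs⟩ := exists_coatom_ge hNt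
  by_cases hne : Ms = M
  · exact ⟨1, by rw [cj_one]; exact hYX.trans (hne ▸ hNMs)⟩
  have hYMs : Y ≤ Ms := hYX.trans hNMs
  have hXMs : X ≤ Ms := Subgroup.le_normalizer.trans hNMs
  have hXq' : IsPGroup q ↥(X.subgroupOf (M ⊓ Ms)) := hXq.comap_subtype
  obtain ⟨S0, hS0⟩ := hXq'.exists_le_sylow
  have hXS : X ≤ (S0 : Subgroup ↥(M ⊓ Ms)).map (M ⊓ Ms).subtype := by
    intro x hx
    exact ⟨⟨x, hXM hx, hXMs hx⟩, hS0 (Subgroup.mem_subgroupOf.mpr hx), rfl⟩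
  obtain ⟨hnc, hNS, hidx⟩ := s1424 hG h16 M hM q hqσ X hXq hX1 hXM Ms hMs hne hNMs S0 hXS
  have hSD : IsSylowIn q ((S0 : Subgroup ↥(M ⊓ Ms)).map (M ⊓ Ms).subtype) (M ⊓ Ms) :=
    IsSylowIn.of_sylow S0
  obtain ⟨S, hSdef⟩ : ∃ S : Subgroup G, S = (S0 : Subgroup ↥(M ⊓ Ms)).map (M ⊓ Ms).subtype :=
    ⟨_, rfl⟩
  rw [← hSdef] at hNS hidx hSD hXS
  have hSMs : IsSylowIn q S Ms :=
    sylIn_of_not_dvd (hSD.1.trans inf_le_right) hSD.isPGroup hidx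
  have hSM : S ≤ M := hSD.1.trans inf_le_left
  have hncj : ∀ g : G, cj g Ms ≠ M := by
    intro g hg
    apply hnc g⁻¹
    have : Ms = cj g⁻¹ M := by rw [← hg, cj_inv_cj]
    exact this
  by_cases hqMs : q ∈ Cfsg.sigma Ms
  · -- Case B
    have hdis : ∀ p : ℕ, p ∈ Cfsg.sigma M → p ∉ Cfsg.beta Ms := by
      intro p hpM hpβ
      haveI : Fact p.Prime := ⟨hpM.1⟩
      obtain ⟨g, hg⟩ := exists_cj_eq_of_alpha_sigma hG hM hMs hpβ.1 hpM
      exact hncj g hg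
    obtain ⟨m, hm, hYm⟩ := caseB hG hMs hqMs (hdis q hqσ) hSMs hNS hYMs
      (fun p hp hpY => hdis p (hY p hp hpY))
    exact ⟨m, hYm⟩
  · -- Case A
    have hτ : q ∈ Cfsg.tau2 Ms := aux1 hG hMs hXq hX1 hNMs hqMs
    obtain ⟨A0, hA0Ms, hA0e, hA0c⟩ := Cfsg.Agent.H2.BG12.exists_elem_sq hτ.2.2.2
    obtain ⟨hnil, -⟩ := h17 Ms hMs q hτ A0 ⟨hA0Ms, hA0e, hA0c⟩
    obtain ⟨P, hP, hA0P⟩ := exists_isSylowIn_ge (isPGroup_of_elementary hA0e) hA0Ms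
    obtain ⟨k, hk, hSk⟩ := hP.conj hSMs
    have hSk' : S = cj k P := hSk
    have hAS : cj k A0 ≤ S := by rw [hSk']; exact cj_mono k hA0P
    have hAe : Cfsg.IsElementaryAbelian q (cj k A0) :=
      Cfsg.Agent.H2.BG12.isElementaryAbelian_cj hA0e k
    have hAc : Nat.card ↥(cj k A0) = q ^ 2 := by rw [card_cj]; exact hA0c
    have hAM : cj k A0 ≤ M := hAS.trans hSM
    have hAMs : cj k A0 ≤ Ms := hAS.trans hSMs.1
    have hAq : IsPGroup q ↥(cj k A0) := isPGroup_of_elementary hAe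
    have hAnc : ¬ IsCyclic ↥(cj k A0) := not_isCyclic_of_elem hq.out hAe hAc
    have hNA : Subgroup.normalizer ((cj k A0 : Subgroup G) : Set G) ≤ M :=
      Cfsg.Agent.H2.BG12.part_c hG h16 hM q (cj k A0) hqσ hAq hAM hAnc
    have hdis : ∀ p : ℕ, p ∈ Cfsg.sigma M → p ∉ Cfsg.sigma Ms := by
      intro p hpM hpMs
      haveI : Fact p.Prime := ⟨hpM.1⟩
      obtain ⟨g, hg⟩ := aux2c hG hM hMs hnil hpMs hpM
      exact hnc g hg
    obtain ⟨E0, hE0⟩ := exists_compl hG hMs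
    have hAcop : (Nat.card ↥(cj k A0)).Coprime (Nat.card ↥(Cfsg.sigmaCore Ms)) :=
      coprime_sigmaCore_of_isPGroup hG hMs hqMs hAq
    obtain ⟨m1, hm1, hAm1⟩ := Cfsg.Agent.H2.BG12.exists_cj_compl_ge hG hMs hE0 hAMs hAcop
    have hE1 := Cfsg.Agent.H2.BG12.compl_cj hE0 hm1
    obtain ⟨-, ⟨-, hE1eq, -⟩, -⟩ := h18 Ms hMs (cj m1 E0) hE1 q hτ (cj k A0) ⟨hAm1, hAe, hAc⟩
    have hE1M : cj m1 E0 ≤ M := by rw [← hE1eq]; exact inf_le_right.trans hNA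
    have hYcop : (Nat.card ↥Y).Coprime (Nat.card ↥(Cfsg.sigmaCore Ms)) :=
      coprime_sigmaCore hG hMs (fun p hp hpY => hdis p (hY p hp hpY))
    obtain ⟨m2, hm2, hYm2⟩ := Cfsg.Agent.H2.BG12.exists_cj_compl_ge hG hMs hE1 hYMs hYcop
    exact ⟨m2, hYm2.trans (cj_mono m2 hE1M)⟩

/-- a subgroup all of whose prime divisors lie in `σ(M)` is proper -/
theorem ne_top_of_sigma_group (hG : Cfsg.IsMinSimpleOddOrder G) {M : Subgroup G} (hM : IsCoatom M)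
    {Y : Subgroup G} (hY : ∀ p : ℕ, p.Prime → p ∣ Nat.card ↥Y → p ∈ Cfsg.sigma M) : Y ≠ ⊤ := by
  rintro rfl
  apply hM.1
  apply Subgroup.eq_top_of_card_eq
  apply Nat.dvd_antisymm (Subgroup.card_subgroup_dvd_card M)
  rw [← Nat.factorization_prime_le_iff_dvd Nat.card_pos.ne' Nat.card_pos.ne']
  intro p hp
  by_cases hd : p ∣ Nat.card G
  · haveI : Fact p.Prime := ⟨hp⟩
    have hpσ : p ∈ Cfsg.sigma M := hY p hp (by rwa [Subgroup.card_top])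
    obtain ⟨P, hP, -⟩ := exists_isSylowIn_ge (p := p) (Q := ⊥) (H := M) IsPGroup.of_bot bot_le
    have hPtop := sigma_sylow_top hpσ hP
    have h1 := hP.2
    rw [hPtop.2, Subgroup.card_top] at h1
    exact (Nat.pow_right_injective hp.two_le h1).le
  · rw [Nat.factorization_eq_zero_of_not_dvd hd]
    exact Nat.zero_le _

/-- **B&G 12.15** (the statement of S1425), conditional on the statements of S1416, S1417, S1418 -/
theorem s1425 (hG : Cfsg.IsMinSimpleOddOrder G) (h16 : St1416 G) (h17 : St1417 G)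
    (h18 : St1418 G) (M : Subgroup G) (hM : IsCoatom M) (Y : Subgroup G) (hY1 : Y ≠ ⊥)
    (hY : ∀ p : ℕ, p.Prime → p ∣ Nat.card Y → p ∈ Cfsg.sigma M) :
    ∃ g : G, Y.map (MulAut.conj g).toMonoidHom ≤ Cfsg.sigmaCore M := by
  have hYt : Y ≠ ⊤ := ne_top_of_sigma_group hG hM hY
  haveI : Group.IsSolvable ↥Y := hG.2.2.2 Y hYt
  have hF : Cfsg.fittingOf Y ≠ ⊥ := fun h => hY1 (Cfsg.Agent.H2.BGU.eq_bot_of_fittingOf_eq_bot h)
  have hFc : Nat.card ↥(Cfsg.fittingOf Y) ≠ 1 := fun h => hF (Subgroup.card_eq_one.mp h)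
  obtain ⟨q, hq, hqd⟩ := Nat.exists_prime_and_dvd hFc
  haveI : Fact q.Prime := ⟨hq⟩
  have hX01 : Oq q (Cfsg.fittingOf Y) ≠ ⊥ :=
    Cfsg.Agent.H2.BGU.Oq_ne_bot_of_dvd (Cfsg.Agent.H2.BGU.fittingOf_nilpotent Y) hqd
  have hX0q : IsPGroup q ↥(Oq q (Cfsg.fittingOf Y)) := isPGroup_Oq hq _
  have hYX0 : Y ≤ Subgroup.normalizer (Oq q (Cfsg.fittingOf Y) : Set G) :=
    Cfsg.Agent.H2.BGU.le_normalizer_Oq_fittingOf q Y
  have hqY : q ∣ Nat.card ↥Y :=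
    hqd.trans (Subgroup.card_dvd_of_le (Cfsg.Agent.H2.BGU.fittingOf_le Y))
  have hqσ := hY q hq hqY
  obtain ⟨P, hP, -⟩ := exists_isSylowIn_ge (p := q) (Q := ⊥) (H := M) IsPGroup.of_bot bot_le
  have hPtop := sigma_sylow_top hqσ hP
  obtain ⟨T, hT, hX0T⟩ := exists_isSylowIn_ge hX0q (le_top : Oq q (Cfsg.fittingOf Y) ≤ ⊤)
  obtain ⟨g, -, hg⟩ := hT.conj hPtop
  have hg' : P = cj g T := hg
  have hXM : cj g (Oq q (Cfsg.fittingOf Y)) ≤ M := by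
    refine (cj_mono g hX0T).trans ?_
    rw [← hg']; exact hP.1
  have hY' : ∀ p : ℕ, p.Prime → p ∣ Nat.card ↥(cj g Y) → p ∈ Cfsg.sigma M := by
    intro p hp hpd
    rw [card_cj] at hpd
    exact hY p hp hpd
  have hYX' : cj g Y ≤ Subgroup.normalizer ((cj g (Oq q (Cfsg.fittingOf Y)) : Subgroup G) : Set G) := by
    rw [← cj_normalizer]; exact cj_mono g hYX0
  obtain ⟨g2, hg2⟩ := s1425_aux hG h16 h17 h18 hM hY' hqσ (isPGroup_cj g hX0q) (cj_ne_bot hX01)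
    hXM hYX'
  refine ⟨g2⁻¹ * g, ?_⟩
  show cj (g2⁻¹ * g) Y ≤ Cfsg.sigmaCore M
  apply le_sigmaCore_of_sigma_group hG hM
  · rw [cj_mul, cj_le_iff, inv_inv]; exact hg2
  · intro p hp hpd
    rw [card_cj] at hpd
    exact hY p hp hpd

end Cfsg.Agent.Lib.helper3.BG12
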