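import Mathlib
import Cfsg.Agent.Lib.helper3.BG12C
import Cfsg.Agent.S0027
import Cfsg.Agent.S1408

/-!
# B&G Section 12, part D (helper3): lemmas for B&G 12.17 (S1427): ranks, cyclic Sylow subgroups,
and Case 1 (`p ∈ σ(L)`) of Part 8 of the lead blueprint
-/

set_option autoImplicit false
set_option linter.unusedSectionVars false
set_option linter.unusedVariables false
set_option linter.style.haveILetI false
open Cfsg
open scoped commutatorElement Pointwise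

namespace Cfsg.Agent.Lib.helper3.BG12

open Cfsg.Agent.Lib.Helper7 (IsSylowIn exists_isSylowIn_ge card_subgroupOf_of_le)
open Cfsg.Agent.Lib.Helper8.BGTen Cfsg.Agent.Lib.Helper4.BGTrans
open Cfsg.Agent.Lib.helper3.BG11
open Cfsg.Agent.H2.BGU (Oq Oq_le isPGroup_Oq le_normalizer_Oq le_Oq_of_isPGroup)
open Cfsg.Agent.H2.BG12 (St1416 St1417 St1418)

universe u

variable {G : Type u} [Group G] [Finite G]

/-- `A ≤ M` elementary abelian of order `p²`: `M` has `p`-rank at least 2 -/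
theorem not_pRankLE_one_of_elem_sq {p : ℕ} (hp : p.Prime) {A M : Subgroup G} (hAM : A ≤ M)
    (hAe : Cfsg.IsElementaryAbelian p A) (hAc : Nat.card ↥A = p ^ 2) :
    ¬ Cfsg.PRankLE p 1 ↥M := by
  intro h
  have hc : IsMulCommutative ↥(A.subgroupOf M) := by
    refine ⟨⟨fun a b => ?_⟩⟩
    have := hAe.1.is_comm.comm (⟨a.1.1, Subgroup.mem_subgroupOf.mp a.2⟩ : ↥A)
      ⟨b.1.1, Subgroup.mem_subgroupOf.mp b.2⟩
    apply Subtype.ext
    apply Subtype.ext
    have h' := congrArg Subtype.val this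
    simpa using h'
  have h1 := h (A.subgroupOf M) hc (by
    intro a ha
    apply Subtype.ext
    have := hAe.2 a.1 (Subgroup.mem_subgroupOf.mp ha)
    simpa using this)
  rw [card_subgroupOf_of_le hAM, hAc, pow_one] at h1
  nlinarith [hp.one_lt]

/-- a subgroup with a cyclic Sylow `p`-subgroup has `p`-rank at most 1 -/
theorem pRankLE_one_of_cyclic_sylow {p : ℕ} [hp : Fact p.Prime] {S M : Subgroup G}
    (hS : IsSylowIn p S M) (hc : IsCyclic ↥S) : Cfsg.PRankLE p 1 ↥M := by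
  by_contra h
  obtain ⟨A, hAM, hAe, hAc⟩ := Cfsg.Agent.H2.BG12.exists_elem_sq h
  obtain ⟨P, hP, hAP⟩ := exists_isSylowIn_ge (isPGroup_of_elementary hAe) hAM
  obtain ⟨m, hm, hPm⟩ := hS.conj hP
  have hPm' : P = cj m S := hPm
  have h1 : cj m⁻¹ A ≤ S := by
    rw [cj_le_iff, inv_inv, ← hPm']; exact hAP
  have hcyc : IsCyclic ↥(cj m⁻¹ A) := by
    haveI := hc
    have h2 : IsCyclic ↥((cj m⁻¹ A).subgroupOf S) := inferInstance
    exact isCyclic_of_surjective (Subgroup.subgroupOfEquivOfLe h1).toMonoidHom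
      (Subgroup.subgroupOfEquivOfLe h1).surjective
  exact not_isCyclic_of_elem hp.out (Cfsg.Agent.H2.BG12.isElementaryAbelian_cj hAe m⁻¹)
    (by rw [card_cj]; exact hAc) hcyc

/-- a nontrivial `p`-group contains an element of order `p` -/
theorem exists_orderOf_eq_of_ne_bot {p : ℕ} [hp : Fact p.Prime] {T : Subgroup G}
    (hT : IsPGroup p ↥T) (hT1 : T ≠ ⊥) : ∃ z ∈ T, orderOf z = p := by
  obtain ⟨n, hn⟩ := hT.exists_card_eq
  have hn0 : n ≠ 0 := by
    rintro rfl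
    rw [pow_zero] at hn
    exact hT1 (Subgroup.card_eq_one.mp hn)
  have hd : p ∣ Nat.card ↥T := by rw [hn]; exact dvd_pow_self p hn0
  obtain ⟨x, hx⟩ := exists_prime_orderOf_dvd_card' (G := ↥T) p hd
  exact ⟨x.1, x.2, by rw [Subgroup.orderOf_coe]; exact hx⟩

/-- in a nontrivial cyclic `p`-group `S` the subgroup of order `p` lies in every nontrivial cyclic
subgroup -/
theorem exists_order_p_le_zpowers {p : ℕ} [hp : Fact p.Prime] {S : Subgroup G}
    (hSp : IsPGroup p ↥S) (hS1 : S ≠ ⊥) (hc : IsCyclic ↥S) :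
    ∃ X : Subgroup G, X ≤ S ∧ Nat.card ↥X = p ∧ ∀ y ∈ S, y ≠ 1 → X ≤ Subgroup.zpowers y := by
  obtain ⟨z₀, hz₀S, hz₀⟩ := exists_orderOf_eq_of_ne_bot hSp hS1
  have hXS : Subgroup.zpowers z₀ ≤ S := by rw [Subgroup.zpowers_le]; exact hz₀S
  have hXc : Nat.card ↥(Subgroup.zpowers z₀) = p := by rw [Nat.card_zpowers]; exact hz₀
  refine ⟨Subgroup.zpowers z₀, hXS, hXc, ?_⟩
  intro y hy hy1
  have hTS : Subgroup.zpowers y ≤ S := by rw [Subgroup.zpowers_le]; exact hy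
  have hT1 : Subgroup.zpowers y ≠ ⊥ := Subgroup.zpowers_ne_bot.mpr hy1
  obtain ⟨z, hzT, hz⟩ := exists_orderOf_eq_of_ne_bot (hSp.to_le hTS) hT1
  have hZT : Subgroup.zpowers z ≤ Subgroup.zpowers y := by rw [Subgroup.zpowers_le]; exact hzT
  have hZc : Nat.card ↥(Subgroup.zpowers z) = p := by rw [Nat.card_zpowers]; exact hz
  have hZS : Subgroup.zpowers z ≤ S := hZT.trans hTS
  haveI := hc
  have h2 : (Subgroup.zpowers z₀).subgroupOf S = (Subgroup.zpowers z).subgroupOf S := by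
    apply Cfsg.Agent.H1.eq_of_card_eq_of_isCyclic
    rw [card_subgroupOf_of_le hXS, card_subgroupOf_of_le hZS, hXc, hZc]
  have h3 := congrArg (Subgroup.map S.subtype) h2
  rw [Subgroup.map_subgroupOf_eq_of_le hXS, Subgroup.map_subgroupOf_eq_of_le hZS] at h3
  rw [h3]
  exact hZT

/-- **Case 1** of B&G 12.17: `p ∈ σ(L)`, `L` not conjugate to `M`, `S ≤ L` a `p`-group acting on
`D₁ ≤ L ∩ M_σ` with `[D₁, S] = D₁`; then `D₁ = 1`. -/
theorem case1 (hG : Cfsg.IsMinSimpleOddOrder G) {M L : Subgroup G} (hM : IsCoatom M)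
    (hL : IsCoatom L) (hnc : ∀ g : G, cj g L ≠ M) {p : ℕ} [hp : Fact p.Prime]
    (hpL : p ∈ Cfsg.sigma L) (hpM : p ∉ Cfsg.sigma M) {S D₁ : Subgroup G} (hSp : IsPGroup p ↥S)
    (hSL : S ≤ L) (hD₁L : D₁ ≤ L) (hD₁M : D₁ ≤ Cfsg.sigmaCore M) (hcomm : ⁅D₁, S⁆ = D₁) :
    D₁ = ⊥ := by
  by_contra hne
  have hcard : Nat.card ↥D₁ ≠ 1 := fun h => hne (Subgroup.card_eq_one.mp h)
  obtain ⟨q, hq, hqd⟩ := Nat.exists_prime_and_dvd hcard
  haveI : Fact q.Prime := ⟨hq⟩
  have hqM : q ∈ Cfsg.sigma M :=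
    mem_sigma_of_dvd_sigmaCore hG hM hq (hqd.trans (Subgroup.card_dvd_of_le hD₁M))
  have hqp : q ≠ p := fun h => hpM (h ▸ hqM)
  have hqα : q ∉ Cfsg.alpha L := by
    intro h
    obtain ⟨g, hg⟩ := exists_cj_eq_of_alpha_sigma hG hM hL h hqM
    exact hnc g hg
  have hqβ : q ∉ Cfsg.beta L := fun h => hqα h.1
  have hqL : q ∣ Nat.card ↥L := hqd.trans (Subgroup.card_dvd_of_le hD₁L)
  obtain ⟨-, ⟨P, N, hNn, hNP⟩, -⟩ := (Cfsg.Agent.S1414.result hG L hL).2.2.2.2 q hq hqL hqβ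
  have hSσ : S ≤ Cfsg.sigmaCore L :=
    Cfsg.Agent.H2.BG11.le_sigmaCore_of_pgroup hG hL hpL hSL hSp
  have hD₁σ : D₁ ≤ Cfsg.sigmaCore L := by
    rw [← hcomm]
    exact (Subgroup.commutator_mono hD₁L hSσ).trans
      (commutator_le_of_le_normalizer (le_normalizer_sigmaCore L) le_rfl)
  haveI := hNn
  have hidx : N.index = Nat.card ↥(P : Subgroup ↥(Cfsg.sigmaCore L)) := by
    have h1 := hNP.card_mul_card
    have h2 := N.card_mul_index
    exact Nat.eq_of_mul_eq_mul_left Nat.card_pos (h2.trans h1.symm)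
  obtain ⟨n, hn⟩ := P.isPGroup'.exists_card_eq
  have hSN : S.subgroupOf (Cfsg.sigmaCore L) ≤ N := by
    apply le_of_coprime_index
    rw [card_subgroupOf_of_le hSσ, hidx, hn]
    obtain ⟨k, hk⟩ := hSp.exists_card_eq
    rw [hk]
    exact Nat.Coprime.pow _ _ ((Nat.coprime_primes hp.out hq).mpr (Ne.symm hqp))
  have hD₁N : D₁.subgroupOf (Cfsg.sigmaCore L) ≤ N := by
    have h1 : D₁.subgroupOf (Cfsg.sigmaCore L)
        = ⁅D₁.subgroupOf (Cfsg.sigmaCore L), S.subgroupOf (Cfsg.sigmaCore L)⁆ := by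
      rw [← commutator_subgroupOf hD₁σ hSσ, hcomm]
    rw [h1]
    exact (Subgroup.commutator_mono le_top hSN).trans (Subgroup.commutator_le_right ⊤ N)
  have hqN : q ∣ Nat.card ↥N := by
    have := Subgroup.card_dvd_of_le hD₁N
    rw [card_subgroupOf_of_le hD₁σ] at this
    exact hqd.trans this
  obtain ⟨v, hv⟩ : ∃ v, v = (Nat.card ↥(Cfsg.sigmaCore L)).factorization q := ⟨_, rfl⟩
  have h3 := hNP.card_mul_card
  rw [P.card_eq_multiplicity, ← hv] at h3
  have h4 : q ^ (v + 1) ∣ Nat.card ↥(Cfsg.sigmaCore L) := by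
    rw [← h3]
    calc q ^ (v + 1) = q * q ^ v := by ring
      _ ∣ Nat.card ↥N * q ^ v := Nat.mul_dvd_mul hqN (dvd_refl _)
  rw [hv] at h4
  exact Nat.pow_succ_factorization_not_dvd Nat.card_pos.ne' hq h4

end Cfsg.Agent.Lib.helper3.BG12
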