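import Mathlib
import Cfsg.Agent.Lib.helper3.BG12D

/-!
# B&G Section 12, part E (helper3): the dichotomy used in the Claim of Case 2 of B&G 12.17
-/

set_option autoImplicit false
set_option linter.unusedSectionVars false
set_option linter.unusedVariables false
set_option linter.style.haveILetI false
open Cfsg
open scoped commutatorElement Pointwise

namespace Cfsg.Agent.Lib.helper3.BG12

open Cfsg.Agent.Lib.Helper7 (IsSylowIn exists_isSylowIn_ge card_subgroupOf_of_le)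
open Cfsg.Agent.Lib.Helper8.BGTen Cfsg.Agent.Lib.Helper4.BGTrans
open Cfsg.Agent.Lib.helper3.BG11
open Cfsg.Agent.H2.BGU (Oq Oq_le isPGroup_Oq le_normalizer_Oq le_Oq_of_isPGroup)
open Cfsg.Agent.H2.BG12 (St1416 St1417 St1418)

universe u

variable {G : Type u} [Group G] [Finite G]

/-- `q ∈ σ(M)`, `1 ≠ X ≤ M` a `q`-group, `H ≠ M` maximal with `N_G(X) ≤ H`, `Y ≤ H` a
`β(H)'`-group.  Then either `Y` is `H`-conjugate into `M`, or `H_σ ∩ M = 1` and `|Y|` is not prime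
to `|H_σ|`. -/
theorem conj_into_or (hG : Cfsg.IsMinSimpleOddOrder G) (h16 : St1416 G) (h17 : St1417 G)
    (h18 : St1418 G) {M H : Subgroup G} (hM : IsCoatom M) (hH : IsCoatom H) (hne : H ≠ M)
    {q : ℕ} [hq : Fact q.Prime] (hqσ : q ∈ Cfsg.sigma M) {X : Subgroup G} (hXq : IsPGroup q ↥X)
    (hX1 : X ≠ ⊥) (hXM : X ≤ M) (hNX : Subgroup.normalizer (X : Set G) ≤ H) {Y : Subgroup G}
    (hYH : Y ≤ H) (hYβ : ∀ r : ℕ, r.Prime → r ∣ Nat.card ↥Y → r ∉ Cfsg.beta H) :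
    (∃ m ∈ H, Y ≤ cj m M) ∨
      (Cfsg.sigmaCore H ⊓ M = ⊥ ∧ ¬ (Nat.card ↥Y).Coprime (Nat.card ↥(Cfsg.sigmaCore H))) := by
  have hXH : X ≤ H := Subgroup.le_normalizer.trans hNX
  have hXq' : IsPGroup q ↥(X.subgroupOf (M ⊓ H)) := hXq.comap_subtype
  obtain ⟨S0, hS0⟩ := hXq'.exists_le_sylow
  have hXS : X ≤ (S0 : Subgroup ↥(M ⊓ H)).map (M ⊓ H).subtype := by
    intro x hx
    exact ⟨⟨x, hXM hx, hXH hx⟩, hS0 (Subgroup.mem_subgroupOf.mpr hx), rfl⟩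
  obtain ⟨hnc, hNS, hidx⟩ := s1424 hG h16 M hM q hqσ X hXq hX1 hXM H hH hne hNX S0 hXS
  have hSD : IsSylowIn q ((S0 : Subgroup ↥(M ⊓ H)).map (M ⊓ H).subtype) (M ⊓ H) :=
    IsSylowIn.of_sylow S0
  obtain ⟨S, hSdef⟩ : ∃ S : Subgroup G, S = (S0 : Subgroup ↥(M ⊓ H)).map (M ⊓ H).subtype :=
    ⟨_, rfl⟩
  rw [← hSdef] at hNS hidx hSD hXS
  have hSH : IsSylowIn q S H :=
    sylIn_of_not_dvd (hSD.1.trans inf_le_right) hSD.isPGroup hidx
  have hSM : S ≤ M := hSD.1.trans inf_le_left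
  have hncj : ∀ g : G, cj g H ≠ M := by
    intro g hg
    apply hnc g⁻¹
    have : H = cj g⁻¹ M := by rw [← hg, cj_inv_cj]
    exact this
  by_cases hqH : q ∈ Cfsg.sigma H
  · -- Case B
    have hqβ : q ∉ Cfsg.beta H := by
      intro hβ
      obtain ⟨g, hg⟩ := exists_cj_eq_of_alpha_sigma hG hM hH hβ.1 hqσ
      exact hncj g hg
    exact Or.inl (caseB hG hH hqH hqβ hSH hNS hYH hYβ)
  · -- Case A
    have hτ : q ∈ Cfsg.tau2 H := aux1 hG hH hXq hX1 hNX hqH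
    obtain ⟨A0, hA0H, hA0e, hA0c⟩ := Cfsg.Agent.H2.BG12.exists_elem_sq hτ.2.2.2
    obtain ⟨P, hP, hA0P⟩ := exists_isSylowIn_ge (isPGroup_of_elementary hA0e) hA0H
    obtain ⟨k, hk, hSk⟩ := hP.conj hSH
    have hSk' : S = cj k P := hSk
    have hAS : cj k A0 ≤ S := by rw [hSk']; exact cj_mono k hA0P
    have hAe : Cfsg.IsElementaryAbelian q (cj k A0) :=
      Cfsg.Agent.H2.BG12.isElementaryAbelian_cj hA0e k
    have hAc : Nat.card ↥(cj k A0) = q ^ 2 := by rw [card_cj]; exact hA0c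
    have hAM : cj k A0 ≤ M := hAS.trans hSM
    have hAH : cj k A0 ≤ H := hAS.trans hSH.1
    have hAq : IsPGroup q ↥(cj k A0) := isPGroup_of_elementary hAe
    have hAnc : ¬ IsCyclic ↥(cj k A0) := not_isCyclic_of_elem hq.out hAe hAc
    have hNA : Subgroup.normalizer ((cj k A0 : Subgroup G) : Set G) ≤ M :=
      Cfsg.Agent.H2.BG12.part_c hG h16 hM q (cj k A0) hqσ hAq hAM hAnc
    obtain ⟨-, -, -, -, he, -⟩ := h17 H hH q hτ (cj k A0) ⟨hAH, hAe, hAc⟩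
    have hHM : Cfsg.sigmaCore H ⊓ M = ⊥ := he M hM (Ne.symm hne) hAM
    by_cases hcop : (Nat.card ↥Y).Coprime (Nat.card ↥(Cfsg.sigmaCore H))
    · left
      obtain ⟨E0, hE0⟩ := exists_compl hG hH
      have hAcop : (Nat.card ↥(cj k A0)).Coprime (Nat.card ↥(Cfsg.sigmaCore H)) :=
        coprime_sigmaCore_of_isPGroup hG hH hqH hAq
      obtain ⟨m1, hm1, hAm1⟩ := Cfsg.Agent.H2.BG12.exists_cj_compl_ge hG hH hE0 hAH hAcop
      have hE1 := Cfsg.Agent.H2.BG12.compl_cj hE0 hm1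
      obtain ⟨-, ⟨-, hE1eq, -⟩, -⟩ := h18 H hH (cj m1 E0) hE1 q hτ (cj k A0) ⟨hAm1, hAe, hAc⟩
      have hE1M : cj m1 E0 ≤ M := by rw [← hE1eq]; exact inf_le_right.trans hNA
      obtain ⟨m2, hm2, hYm2⟩ := Cfsg.Agent.H2.BG12.exists_cj_compl_ge hG hH hE1 hYH hcop
      exact ⟨m2, hm2, hYm2.trans (cj_mono m2 hE1M)⟩
    · exact Or.inr ⟨hHM, hcop⟩

end Cfsg.Agent.Lib.helper3.BG12
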