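import Mathlib
import Cfsg.Agent.Lib.helper3.BG12E

/-!
# B&G Section 12, part F (helper3): Case 2 (`p ∉ σ(L)`) of B&G 12.17 and the statement of S1427,
conditional on the statements of S1416, S1417, S1418 (Part 8 of the lead blueprint)
-/

set_option autoImplicit false
set_option linter.unusedSectionVars false
set_option linter.unusedVariables false
set_option linter.style.haveILetI false
set_option maxHeartbeats 1000000
open Cfsg
open scoped commutatorElement Pointwise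

namespace Cfsg.Agent.Lib.helper3.BG12

open Cfsg.Agent.Lib.Helper7 (IsSylowIn exists_isSylowIn_ge card_subgroupOf_of_le)
open Cfsg.Agent.Lib.Helper8.BGTen Cfsg.Agent.Lib.Helper4.BGTrans
open Cfsg.Agent.Lib.helper3.BG11
open Cfsg.Agent.H2.BGU (Oq Oq_le isPGroup_Oq le_normalizer_Oq le_Oq_of_isPGroup)
open Cfsg.Agent.H2.BG12 (St1416 St1417 St1418)

universe u

variable {G : Type u} [Group G] [Finite G]

/-- **Case 2** of B&G 12.17: `p ∉ σ(L)` -/
theorem case2 (hG : Cfsg.IsMinSimpleOddOrder G) (h16 : St1416 G) (h17 : St1417 G)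
    (h18 : St1418 G) {M L : Subgroup G} (hM : IsCoatom M) (hL : IsCoatom L) {p : ℕ}
    [hp : Fact p.Prime] (hpM : p ∉ Cfsg.sigma M) (hr1 : Cfsg.PRankLE p 1 ↥M)
    (hpL : p ∉ Cfsg.sigma L) {X : Subgroup G} (hXp : IsPGroup p ↥X) (hX1 : X ≠ ⊥) (hXM : X ≤ M)
    (hNX : Subgroup.normalizer (X : Set G) ≤ L) {S D : Subgroup G} (hSp : IsPGroup p ↥S)
    (hSL : S ≤ L) (hDM : D ≤ Cfsg.sigmaCore M) (hDL : D ≤ L)
    (hSD : S ≤ Subgroup.normalizer (D : Set G)) (hDX : D ≤ Subgroup.centralizer (X : Set G)) :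
    ⁅D, S⁆ = ⊥ := by
  have hτ : p ∈ Cfsg.tau2 L := aux1 hG hL hXp hX1 hNX hpL
  obtain ⟨A0, hA0L, hA0e, hA0c⟩ := Cfsg.Agent.H2.BG12.exists_elem_sq hτ.2.2.2
  obtain ⟨hnil, -⟩ := h17 L hL p hτ A0 ⟨hA0L, hA0e, hA0c⟩
  -- no conjugate of `M` contains an elementary abelian subgroup of order `p²`
  have hrank : ∀ (B : Subgroup G) (g : G), Cfsg.IsElementaryAbelian p B → Nat.card ↥B = p ^ 2 →
      B ≤ cj g M → False := by
    intro B g hBe hBc hBg
    have h1 : cj g⁻¹ B ≤ M := by rw [cj_le_iff, inv_inv]; exact hBg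
    exact not_pRankLE_one_of_elem_sq hp.out h1
      (Cfsg.Agent.H2.BG12.isElementaryAbelian_cj hBe g⁻¹) (by rw [card_cj]; exact hBc) hr1
  have hnc : ∀ g : G, L ≠ cj g M := by
    intro g hg
    exact hrank A0 g hA0e hA0c (hg ▸ hA0L)
  have hdis : ∀ r : ℕ, r ∈ Cfsg.sigma M → r ∉ Cfsg.sigma L := by
    intro r hrM hrL
    haveI : Fact r.Prime := ⟨hrM.1⟩
    obtain ⟨g, hg⟩ := aux2c hG hM hL hnil hrL hrM
    exact hnc g hg
  have hnid : ¬ Cfsg.IsIdealPrime p G :=
    (Cfsg.Agent.S1408.result hG L hL p hpL hτ.2.2.1 hτ.2.2.2).1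
  -- `S ⊔ D` is a `σ(L)'`-group
  have hKL : S ⊔ D ≤ L := sup_le hSL hDL
  have hKcop : (Nat.card ↥(S ⊔ D)).Coprime (Nat.card ↥(Cfsg.sigmaCore L)) := by
    apply coprime_sigmaCore hG hL
    intro r hr hrK hrL
    have h1 := Cfsg.Agent.H1.card_sup_mul_card_inf S D hSD
    have h2 : r ∣ Nat.card ↥S * Nat.card ↥D := by
      rw [← h1]; exact Dvd.dvd.mul_right hrK _
    rcases (Nat.Prime.dvd_mul hr).mp h2 with h3 | h3
    · obtain ⟨n, hn⟩ := hSp.exists_card_eq
      rw [hn] at h3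
      have : r = p := (Nat.prime_dvd_prime_iff_eq hr hp.out).mp (hr.dvd_of_dvd_pow h3)
      exact hpL (this ▸ hrL)
    · have hrM : r ∈ Cfsg.sigma M :=
        mem_sigma_of_dvd_sigmaCore hG hM hr (h3.trans (Subgroup.card_dvd_of_le hDM))
      exact hdis r hrM hrL
  obtain ⟨E0, hE0⟩ := exists_compl hG hL
  obtain ⟨m, hm, hKm⟩ := Cfsg.Agent.H2.BG12.exists_cj_compl_ge hG hL hE0 hKL hKcop
  have hE1 := Cfsg.Agent.H2.BG12.compl_cj hE0 hm
  have hA0cop : (Nat.card ↥A0).Coprime (Nat.card ↥(Cfsg.sigmaCore L)) :=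
    coprime_sigmaCore_of_isPGroup hG hL hpL (isPGroup_of_elementary hA0e)
  obtain ⟨m', hm', hA0m'⟩ := Cfsg.Agent.H2.BG12.exists_cj_compl_ge hG hL hE1 hA0L hA0cop
  have hAE1 : cj m'⁻¹ A0 ≤ cj m E0 := by rw [cj_le_iff, inv_inv]; exact hA0m'
  have hAe : Cfsg.IsElementaryAbelian p (cj m'⁻¹ A0) :=
    Cfsg.Agent.H2.BG12.isElementaryAbelian_cj hA0e m'⁻¹
  have hAc : Nat.card ↥(cj m'⁻¹ A0) = p ^ 2 := by rw [card_cj]; exact hA0c
  obtain ⟨A, hAdef⟩ : ∃ A : Subgroup G, A = cj m'⁻¹ A0 := ⟨_, rfl⟩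
  rw [← hAdef] at hAE1 hAe hAc
  have hAL : A ≤ L := hAE1.trans hE1.1
  have hAq : IsPGroup p ↥A := isPGroup_of_elementary hAe
  obtain ⟨⟨hE1N, -⟩, -, -⟩ := h18 L hL (cj m E0) hE1 p hτ A ⟨hAE1, hAe, hAc⟩
  have hSNA : S ≤ Subgroup.normalizer (A : Set G) := (le_sup_left.trans hKm).trans hE1N
  have hDNA : D ≤ Subgroup.normalizer (A : Set G) := (le_sup_right.trans hKm).trans hE1N
  -- `S` centralizes `A`
  have hSCA : S ≤ Subgroup.centralizer (A : Set G) := by
    have hR : IsPGroup p ↥(A ⊔ S) := IsPGroup.to_sup_of_normal_left' hAq hSp hSNA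
    have hcomm := Cfsg.Agent.H2.BG12.comm_of_pgroup_not_sigma hG h17 hL hpL (sup_le hAL hSL) hR
    intro s hs
    rw [Subgroup.mem_centralizer_iff]
    intro a ha
    exact hcomm a (Subgroup.mem_sup_left ha) s (Subgroup.mem_sup_right hs)
  -- `[D, S] ≤ C(A)`
  have hcommCA : ⁅D, S⁆ ≤ Subgroup.centralizer (A : Set G) := by
    rw [Subgroup.commutator_le]
    intro d hd s hs
    have h1 : d * s * d⁻¹ ∈ Subgroup.centralizer (A : Set G) := by
      have h2 : d * s * d⁻¹ ∈ cj d (Subgroup.centralizer (A : Set G)) := conj_mem_cj (hSCA hs)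
      rw [cj_centralizer, cj_eq_of_mem_normalizer (hDNA hd)] at h2
      exact h2
    have : ⁅d, s⁆ = d * s * d⁻¹ * s⁻¹ := by rw [commutatorElement_def]
    rw [this]
    exact Subgroup.mul_mem _ h1 (Subgroup.inv_mem _ (hSCA hs))
  have hcommD : ⁅D, S⁆ ≤ D := commutator_le_left_of_le_normalizer hSD
  -- the Claim: `C_D(A) = 1`
  have hclaim : D ⊓ Subgroup.centralizer (A : Set G) = ⊥ := by
    by_contra hD0
    have hcard : Nat.card ↥(D ⊓ Subgroup.centralizer (A : Set G)) ≠ 1 :=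
      fun h => hD0 (Subgroup.card_eq_one.mp h)
    obtain ⟨q, hq, hqd⟩ := Nat.exists_prime_and_dvd hcard
    haveI : Fact q.Prime := ⟨hq⟩
    obtain ⟨Q0, hQ0, -⟩ := exists_isSylowIn_ge (p := q) (Q := ⊥)
      (H := D ⊓ Subgroup.centralizer (A : Set G)) IsPGroup.of_bot bot_le
    have hQ01 : Q0 ≠ ⊥ := Cfsg.Agent.H2.BG11.sylIn_ne_bot hQ0 hqd
    have hQ0q : IsPGroup q ↥Q0 := hQ0.isPGroup
    have hQ0D : Q0 ≤ D := hQ0.1.trans inf_le_left
    have hQ0M : Q0 ≤ M := (hQ0D.trans hDM).trans (sigmaCore_le M)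
    have hqM : q ∈ Cfsg.sigma M :=
      mem_sigma_of_dvd_sigmaCore hG hM hq
        (hqd.trans (Subgroup.card_dvd_of_le (inf_le_left.trans hDM)))
    have hACQ : A ≤ Subgroup.centralizer (Q0 : Set G) :=
      Subgroup.le_centralizer_iff.mp (hQ0.1.trans inf_le_right)
    have hXCQ : X ≤ Subgroup.centralizer (Q0 : Set G) :=
      Subgroup.le_centralizer_iff.mp (hQ0D.trans hDX)
    have hQ0t : Q0 ≠ ⊤ := ne_top_of_le_coatom hM hQ0M
    have hNt := normalizer_ne_top' hG hQ01 hQ0t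
    obtain ⟨H, hH, hNH⟩ := exists_coatom_ge hNt
    have hAH : A ≤ H := (hACQ.trans (Subgroup.centralizer_le_normalizer _)).trans hNH
    have hXH : X ≤ H := (hXCQ.trans (Subgroup.centralizer_le_normalizer _)).trans hNH
    have hne : H ≠ M := by
      intro h
      apply hrank A 1 hAe hAc
      rw [cj_one, ← h]; exact hAH
    have hYβ : ∀ r : ℕ, r.Prime → r ∣ Nat.card ↥A → r ∉ Cfsg.beta H := by
      intro r hr hrA hrβ
      rw [hAc] at hrA
      have : r = p := (Nat.prime_dvd_prime_iff_eq hr hp.out).mp (hr.dvd_of_dvd_pow hrA)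
      rw [this] at hrβ
      exact hnid hrβ.2
    rcases conj_into_or hG h16 h17 h18 hM hH hne hqM hQ0q hQ01 hQ0M hNH hAH hYβ with
      ⟨k, -, hAk⟩ | ⟨hHM, hncop⟩
    · exact hrank A k hAe hAc hAk
    · have hpd : p ∣ Nat.card ↥(Cfsg.sigmaCore H) := by
        by_contra hnd
        apply hncop
        rw [hAc]
        exact Nat.Coprime.pow_left 2 ((Nat.Prime.coprime_iff_not_dvd hp.out).mpr hnd)
      have hpH : p ∈ Cfsg.sigma H := mem_sigma_of_dvd_sigmaCore hG hH hp.out hpd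
      have hXσ : X ≤ Cfsg.sigmaCore H :=
        Cfsg.Agent.H2.BG11.le_sigmaCore_of_pgroup hG hH hpH hXH hXp
      have : X ≤ Cfsg.sigmaCore H ⊓ M := le_inf hXσ hXM
      rw [hHM] at this
      exact hX1 (le_bot_iff.mp this)
  rw [eq_bot_iff, ← hclaim]
  exact le_inf hcommD hcommCA

/-- **B&G 12.17** (the statement of S1427), conditional on the statements of S1416, S1417, S1418 -/
theorem s1427 (hG : Cfsg.IsMinSimpleOddOrder G) (h16 : St1416 G) (h17 : St1417 G)
    (h18 : St1418 G) (M : Subgroup G) (hM : IsCoatom M) (E : Subgroup G)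
    (hE : Cfsg.IsComplIn E (Cfsg.sigmaCore M) M) (p : ℕ) [hp : Fact p.Prime] (S : Sylow p E)
    (hS1 : (S : Subgroup E) ≠ ⊥) (hSc : IsCyclic (S : Subgroup E)) :
    ∀ x ∈ (S : Subgroup E).map E.subtype, x ≠ 1 →
      Cfsg.sigmaCore M ⊓ Subgroup.centralizer ({x} : Set G) =
        Cfsg.sigmaCore M ⊓
          Subgroup.centralizer (((S : Subgroup E).map E.subtype : Subgroup G) : Set G) := by
  have hSE : IsSylowIn p ((S : Subgroup E).map E.subtype) E := IsSylowIn.of_sylow S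
  have hS'1 : (S : Subgroup E).map E.subtype ≠ ⊥ :=
    (Subgroup.map_eq_bot_iff_of_injective _ E.subtype_injective).not.mpr hS1
  have hS'c : IsCyclic ↥((S : Subgroup E).map E.subtype) := by
    haveI := hSc
    exact isCyclic_of_surjective
      ((S : Subgroup E).equivMapOfInjective _ E.subtype_injective).toMonoidHom
      ((S : Subgroup E).equivMapOfInjective _ E.subtype_injective).surjective
  obtain ⟨S', hS'def⟩ : ∃ S' : Subgroup G, S' = (S : Subgroup E).map E.subtype := ⟨_, rfl⟩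
  rw [← hS'def] at hSE hS'1 hS'c ⊢
  have hS'p : IsPGroup p ↥S' := hSE.isPGroup
  have hS'M' : S' ≤ M := hSE.1.trans hE.1
  -- `p ∣ |E|`, so `p ∉ σ(M)`
  have hpS : p ∣ Nat.card ↥S' := by
    obtain ⟨n, hn⟩ := hS'p.exists_card_eq
    have hn0 : n ≠ 0 := by
      rintro rfl
      rw [pow_zero] at hn
      exact hS'1 (Subgroup.card_eq_one.mp hn)
    rw [hn]; exact dvd_pow_self p hn0
  have hpE : p ∣ Nat.card ↥E := hpS.trans (Subgroup.card_dvd_of_le hSE.1)
  have hpM : p ∉ Cfsg.sigma M :=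
    Cfsg.Agent.H2.BG12.not_mem_sigma_of_dvd_compl hG hM hE hp.out hpE
  have hS'M : IsSylowIn p S' M := by
    refine ⟨hS'M', ?_⟩
    rw [hSE.2, Cfsg.Agent.H2.BG12.card_compl_mul hE,
      Nat.factorization_mul Nat.card_pos.ne' Nat.card_pos.ne']
    simp only [Finsupp.coe_add, Pi.add_apply]
    rw [Nat.factorization_eq_zero_of_not_dvd (not_dvd_sigmaCore hG hM hp.out hpM), add_zero]
  have hr1 : Cfsg.PRankLE p 1 ↥M := pRankLE_one_of_cyclic_sylow hS'M hS'c
  obtain ⟨X, hXS, hXc, hXle⟩ := exists_order_p_le_zpowers hS'p hS'1 hS'c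
  have hXp : IsPGroup p ↥X := IsPGroup.of_card (n := 1) (by rw [hXc, pow_one])
  have hX1 : X ≠ ⊥ := by
    intro h
    rw [h, Subgroup.card_bot] at hXc
    exact hp.out.one_lt.ne hXc
  have hXM : X ≤ M := hXS.trans hS'M'
  -- the key: `M_σ ∩ C(X) ≤ C(S')`
  have hkey : Cfsg.sigmaCore M ⊓ Subgroup.centralizer (X : Set G)
      ≤ Subgroup.centralizer (S' : Set G) := by
    rw [← Subgroup.commutator_eq_bot_iff_le_centralizer]
    have hXt : X ≠ ⊤ := ne_top_of_le_coatom hM hXM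
    have hNt := normalizer_ne_top' hG hX1 hXt
    obtain ⟨L, hL, hNL⟩ := exists_coatom_ge hNt
    have hLM : L ≠ M := by
      intro h
      have := aux1 hG hM hXp hX1 (h ▸ hNL) hpM
      exact this.2.2.2 hr1
    have hS'CX : S' ≤ Subgroup.centralizer (X : Set G) := by
      intro s hs
      rw [Subgroup.mem_centralizer_iff]
      intro a ha
      have := hS'c.isMulCommutative.is_comm.comm (⟨a, hXS ha⟩ : ↥S') ⟨s, hs⟩
      exact congrArg Subtype.val this
    have hS'L : S' ≤ L := (hS'CX.trans (Subgroup.centralizer_le_normalizer _)).trans hNL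
    have hDL : Cfsg.sigmaCore M ⊓ Subgroup.centralizer (X : Set G) ≤ L :=
      (inf_le_right.trans (Subgroup.centralizer_le_normalizer _)).trans hNL
    have hSD : S' ≤ Subgroup.normalizer
        ((Cfsg.sigmaCore M ⊓ Subgroup.centralizer (X : Set G) : Subgroup G) : Set G) :=
      Cfsg.Agent.Lib.Helper8.BGTen.le_normalizer_inf (hS'M'.trans (le_normalizer_sigmaCore M))
        (hS'CX.trans Subgroup.le_normalizer)
    by_cases hpL : p ∈ Cfsg.sigma L
    · -- Case 1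
      have hnc : ∀ g : G, cj g L ≠ M := by
        intro g hg
        apply hpM
        rw [← hg, Cfsg.Agent.H2.BG11.sigma_cj]
        exact hpL
      have hcop : (Nat.card ↥S').Coprime
          (Nat.card ↥(Cfsg.sigmaCore M ⊓ Subgroup.centralizer (X : Set G) : Subgroup G)) :=
        (coprime_sigmaCore_of_isPGroup hG hM hpM hS'p).coprime_dvd_right
          (Subgroup.card_dvd_of_le inf_le_left)
      have hsolv : Group.IsSolvable ↥S' := by
        have := hS'p.isNilpotent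
        exact IsNilpotent.to_isSolvable
      have hcomm := Cfsg.Agent.S0027.result S' _ hSD hcop (Or.inl hsolv)
      have hD1 : ⁅Cfsg.sigmaCore M ⊓ Subgroup.centralizer (X : Set G), S'⁆
          ≤ Cfsg.sigmaCore M ⊓ Subgroup.centralizer (X : Set G) :=
        commutator_le_left_of_le_normalizer hSD
      exact case1 hG hM hL hnc hpL hpM hS'p hS'L (hD1.trans hDL) (hD1.trans inf_le_left) hcomm
    · -- Case 2
      exact case2 hG h16 h17 h18 hM hL hpM hr1 hpL hXp hX1 hXM hNL hS'p hS'L inf_le_left hDL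
        hSD inf_le_right
  intro x hx hx1
  have hXx : X ≤ Subgroup.zpowers x := hXle x hx hx1
  apply le_antisymm
  · rintro z ⟨hz1, hz2⟩
    refine ⟨hz1, hkey ⟨hz1, ?_⟩⟩
    rw [← centralizer_zpowers_eq] at hz2
    exact Subgroup.centralizer_le hXx hz2
  · rintro z ⟨hz1, hz2⟩
    exact ⟨hz1, Subgroup.centralizer_le (Set.singleton_subset_iff.mpr hx) hz2⟩

end Cfsg.Agent.Lib.helper3.BG12
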