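import Mathlib
import Cfsg.Agent.Lib.helper3.BG12F
import Cfsg.Agent.S0074
import Cfsg.Agent.Lib.Helper4.BG11G
import Cfsg.Agent.H2.BG12.C

/-!
# B&G Section 12, part G (helper3): B&G Lemma 12.8(a)

For `p ∈ τ₂(M)`, `A ≤ E` elementary abelian of order `p²`, and an ABELIAN Sylow `p`-subgroup `S`
of `G` containing `A`: `S ≤ E`, `S ⊴ E`, and `F(E) ≤ C_G(S)`.
Proof: `N := N_G(A)` has `N' ≤ C_G(A) ≤ E` (odd `p'`-subgroups of `GL_2(p)` are abelian), so
`E ⊴ N`; Gruen's theorem gives `S ≤ N_G(S)' ≤ N'`; for `q ≠ p`, `Q := O_q(F(E))` has rank `≤ 2`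
and is normalized by `N`, so the `p`-group `S ≤ N'` centralizes `Q`; hence `S ≤ C_E(F(E)) ≤ F(E)`.
-/

set_option autoImplicit false
set_option linter.unusedSectionVars false
set_option linter.unusedVariables false
set_option linter.style.haveILetI false
set_option maxHeartbeats 1000000
open Cfsg
open scoped commutatorElement Pointwise

namespace Cfsg.Agent.Lib.helper3.BG12

open Cfsg.Agent.Lib.Helper7 (IsSylowIn exists_isSylowIn_ge card_subgroupOf_of_le)
open Cfsg.Agent.Lib.Helper8.BGTen Cfsg.Agent.Lib.Helper4.BGTrans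
open Cfsg.Agent.Lib.helper3.BG11
open Cfsg.Agent.H2.BGU (Oq Oq_le isPGroup_Oq le_normalizer_Oq le_Oq_of_isPGroup)
open Cfsg.Agent.H2.BG12 (St1416 St1417 St1418)

universe u

variable {G : Type u} [Group G] [Finite G]

/-- if one Sylow `p`-subgroup of `G` is abelian, then every `p`-subgroup of `G` is abelian -/
theorem comm_of_sylow_comm {p : ℕ} [hp : Fact p.Prime] (S : Sylow p G)
    (hSc : ∀ a ∈ (S : Subgroup G), ∀ b ∈ (S : Subgroup G), a * b = b * a)
    {Q : Subgroup G} (hQ : IsPGroup p ↥Q) : ∀ a ∈ Q, ∀ b ∈ Q, a * b = b * a := by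
  obtain ⟨Q', hQ'⟩ := hQ.exists_le_sylow
  obtain ⟨g, rfl⟩ := MulAction.exists_smul_eq G S Q'
  intro a ha b hb
  have ha' := hQ' ha
  have hb' := hQ' hb
  rw [Sylow.coe_subgroup_smul, Subgroup.mem_pointwise_smul_iff_inv_smul_mem] at ha' hb'
  simp only [MulAut.smul_def, MulAut.conj_inv_apply] at ha' hb'
  have h := hSc _ ha' _ hb'
  have e1 : g⁻¹ * a * g * (g⁻¹ * b * g) = g⁻¹ * (a * b) * g := by group
  have e2 : g⁻¹ * b * g * (g⁻¹ * a * g) = g⁻¹ * (b * a) * g := by group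
  rw [e1, e2] at h
  exact mul_left_cancel (mul_right_cancel h)

/-- **B&G Lemma 12.8(a)** -/
theorem sylow_le_fitting (hG : Cfsg.IsMinSimpleOddOrder G) (h17 : St1417 G) (h18 : St1418 G)
    {M E : Subgroup G} (hM : IsCoatom M) (hE : Cfsg.IsComplIn E (Cfsg.sigmaCore M) M)
    {p : ℕ} [hp : Fact p.Prime] (hpτ : p ∈ Cfsg.tau2 M) {A : Subgroup G} (hAE : A ≤ E)
    (hAe : Cfsg.IsElementaryAbelian p A) (hAc : Nat.card ↥A = p ^ 2)
    (S : Sylow p G) (hSc : ∀ a ∈ (S : Subgroup G), ∀ b ∈ (S : Subgroup G), a * b = b * a)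
    (hAS : A ≤ (S : Subgroup G)) :
    (S : Subgroup G) ≤ E ∧ E ≤ Subgroup.normalizer ((S : Subgroup G) : Set G) ∧
      Cfsg.fittingOf E ≤ Subgroup.centralizer ((S : Subgroup G) : Set G) ∧
      (S : Subgroup G) = Oq p (Cfsg.fittingOf E) := by
  have hodd : Odd (Nat.card G) := hG.1
  have hEM : E ≤ M := hE.1
  have hAM : A ≤ M := hAE.trans hEM
  have hAp : IsPGroup p ↥A := IsPGroup.of_card hAc
  have hp2 : p ≠ 2 := by
    rintro rfl
    have h1 : 2 ∣ Nat.card ↥A := by rw [hAc]; exact dvd_pow_self 2 (by norm_num)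
    have h2 : 2 ∣ Nat.card G := h1.trans (Subgroup.card_subgroup_dvd_card A)
    exact (Nat.not_even_iff_odd.mpr hodd) (even_iff_two_dvd.mpr h2)
  obtain ⟨⟨hEN, -⟩, ⟨hCA, hMN, -⟩, -⟩ := h18 M hM E hE p hpτ A ⟨hAE, hAe, hAc⟩
  -- Step 1: `S ≤ C_G(A) ≤ E`
  have hSCA : (S : Subgroup G) ≤ Subgroup.centralizer (A : Set G) := by
    intro s hs
    rw [Subgroup.mem_centralizer_iff]
    intro a ha
    exact hSc a (hAS ha) s hs
  have hCAE : Subgroup.centralizer (A : Set G) ≤ E := hMN ▸ hCA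
  have hSE : (S : Subgroup G) ≤ E := hSCA.trans hCAE
  -- Step 2: `N_G(S) ≤ N_G(A)`
  have hSyl : IsSylowIn p (S : Subgroup G) ⊤ := by
    refine ⟨le_top, ?_⟩
    rw [Subgroup.card_top]
    exact S.card_eq_multiplicity
  have hSM : IsSylowIn p (S : Subgroup G) M :=
    Cfsg.Agent.H2.BG11.sylIn_of_sylIn_top hSyl (hSE.trans hEM)
  have hSEs : IsSylowIn p (S : Subgroup G) E :=
    Cfsg.Agent.H2.BG11.sylIn_of_sylIn_top hSyl hSE
  obtain ⟨P, hP⟩ := hSM.exists_sylow
  have hPmap : (P : Subgroup ↥M).map M.subtype = (S : Subgroup G) := by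
    rw [hP]
    exact Subgroup.map_subgroupOf_eq_of_le (hSE.trans hEM)
  obtain ⟨-, hPs, -⟩ := h17 M hM p hpτ A ⟨hAM, hAe, hAc⟩
  obtain ⟨-, hPs2⟩ := hPs P
  rw [hPmap] at hPs2
  obtain ⟨hΩ, -⟩ := hPs2 hAS
  have hNS : Subgroup.normalizer ((S : Subgroup G) : Set G) ≤ Subgroup.normalizer (A : Set G) :=
    Cfsg.Agent.Lib.Helper4.BG11E.normalizer_le_of_omega hAS hΩ
  -- Step 3: `N' ≤ C_G(A)`, `N ≤ N_G(E)`
  set N : Subgroup G := Subgroup.normalizer (A : Set G) with hN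
  have hpel : ∀ P₁ : Subgroup G, P₁ ≤ N → IsPGroup p ↥P₁ →
      P₁ ≤ Subgroup.centralizer (A : Set G) := by
    intro P₁ hP₁N hP₁
    have hsup : IsPGroup p ↥(P₁ ⊔ A) := IsPGroup.to_sup_of_normal_right' hP₁ hAp hP₁N
    intro x hx
    rw [Subgroup.mem_centralizer_iff]
    intro a ha
    exact comm_of_sylow_comm S hSc hsup a (Subgroup.mem_sup_right ha) x (Subgroup.mem_sup_left hx)
  have hoddN : Odd (Nat.card ↥N) := Odd.of_dvd_nat hodd (Subgroup.card_subgroup_dvd_card N)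
  have hNN : ⁅N, N⁆ ≤ Subgroup.centralizer (A : Set G) :=
    Cfsg.Agent.H2.BG12.commutator_le_centralizer_of_pelements hp2 hAp
      (Cfsg.Agent.H2.BG12.pRankLE_two_of_card hAc) le_rfl hoddN hpel
  have hconj : ∀ n ∈ N, ∀ e ∈ E, n * e * n⁻¹ ∈ E := by
    intro n hn e he
    have h1 : ⁅n, e⁆ ∈ E := hCAE (hNN (Subgroup.commutator_mem_commutator hn (hEN he)))
    have e1 : n * e * n⁻¹ = ⁅n, e⁆ * e := by rw [commutatorElement_def]; group
    rw [e1]
    exact mul_mem h1 he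
  have hNE : N ≤ Subgroup.normalizer (E : Set G) := by
    intro n hn
    rw [Subgroup.mem_normalizer_iff]
    intro e
    constructor
    · exact hconj n hn e
    · intro h
      have := hconj n⁻¹ (inv_mem hn) _ h
      have e1 : n⁻¹ * (n * e * n⁻¹) * n⁻¹⁻¹ = e := by group
      rwa [e1] at this
  -- Step 4: Gruen
  have hSNN : (S : Subgroup G) ≤ ⁅N, N⁆ := by
    have h1 : commutator G ⊓ (S : Subgroup G) =
        ⁅Subgroup.normalizer ((S : Subgroup G) : Set G),
          Subgroup.normalizer ((S : Subgroup G) : Set G)⁆ ⊓ (S : Subgroup G) :=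
      Cfsg.Agent.S0074.result S ⟨⟨fun a b => Subtype.ext (hSc a a.2 b b.2)⟩⟩
    rw [commutator_eq_top hG, top_inf_eq] at h1
    have h2 : (S : Subgroup G) ≤ ⁅Subgroup.normalizer ((S : Subgroup G) : Set G),
        Subgroup.normalizer ((S : Subgroup G) : Set G)⁆ := by
      intro s hs
      have : s ∈ ⁅Subgroup.normalizer ((S : Subgroup G) : Set G),
        Subgroup.normalizer ((S : Subgroup G) : Set G)⁆ ⊓ (S : Subgroup G) := by
        rw [← h1]; exact hs
      exact this.1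
    exact h2.trans (Subgroup.commutator_mono hNS hNS)
  -- Step 5
  set F : Subgroup G := Cfsg.fittingOf E with hF
  have hFE : F ≤ E := Cfsg.Agent.H2.BGU.fittingOf_le E
  have hOpS : Oq p F ≤ (S : Subgroup G) :=
    sylIn_normal_le hSEs ((Oq_le p F).trans hFE) (isPGroup_Oq hp.out F)
      (Cfsg.Agent.H2.BGU.le_normalizer_Oq_fittingOf p E)
  have hSself : (S : Subgroup G) ≤ Subgroup.centralizer ((S : Subgroup G) : Set G) := by
    intro s hs
    rw [Subgroup.mem_centralizer_iff]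
    intro a ha
    exact hSc a ha s hs
  have hOq : ∀ q : ℕ, q.Prime → Oq q F ≤ Subgroup.centralizer ((S : Subgroup G) : Set G) := by
    intro q hq
    haveI : Fact q.Prime := ⟨hq⟩
    by_cases hpq : p = q
    · subst hpq
      exact hOpS.trans hSself
    set Q : Subgroup G := Oq q F with hQ
    have hQE : Q ≤ E := (Oq_le q F).trans hFE
    have hQq : IsPGroup q ↥Q := isPGroup_Oq hq F
    by_cases hQ1 : Q = ⊥
    · rw [hQ1]; exact bot_le
    have hdQ : q ∣ Nat.card ↥Q := by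
      obtain ⟨k, hk⟩ := hQq.exists_card_eq
      rcases Nat.eq_zero_or_pos k with rfl | hk0
      · exfalso
        apply hQ1
        rw [pow_zero] at hk
        exact Subgroup.card_eq_one.mp hk
      · rw [hk]; exact dvd_pow_self q hk0.ne'
    have hq2 : q ≠ 2 := by
      rintro rfl
      have h2 : 2 ∣ Nat.card G := hdQ.trans (Subgroup.card_subgroup_dvd_card Q)
      exact (Nat.not_even_iff_odd.mpr hodd) (even_iff_two_dvd.mpr h2)
    have hdE : q ∣ Nat.card ↥E := hdQ.trans (Subgroup.card_dvd_of_le hQE)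
    have hqσ : q ∉ Cfsg.sigma M := Cfsg.Agent.H2.BG12.not_mem_sigma_of_dvd_compl hG hM hE hq hdE
    have hqα : q ∉ Cfsg.alpha M := fun h => hqσ (alpha_subset_sigma hG (uT hG) hM h)
    have hrM : Cfsg.PRankLE q 2 ↥M := pRankLE_of_not_mem_alpha hq hqα
    have hrQ : Cfsg.PRankLE q 2 ↥Q :=
      Cfsg.Agent.Lib.Helper4.Rank2Fit.pRankLE_of_injective (Subgroup.inclusion (hQE.trans hEM))
        (Subgroup.inclusion_injective _) hrM
    have hnar : AutNar q ↥Q := autNar_of_rank hq2 hQq hrQ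
    have hNQ : N ≤ Subgroup.normalizer (Q : Set G) :=
      (hNE.trans (Cfsg.Agent.H2.BGU.normalizer_le_normalizer_fittingOf E)).trans
        (Cfsg.Agent.H2.BGU.normalizer_le_normalizer_Oq q F)
    have hSQ : (S : Subgroup G) ≤ Subgroup.centralizer (Q : Set G) := by
      intro x hx
      obtain ⟨k, hk⟩ := S.isPGroup' ⟨x, hx⟩
      have hxp : x ^ p ^ k = 1 := by
        have := congrArg Subtype.val hk
        simpa using this
      exact mem_centralizer_of_autNar hodd hp.out hq hpq hnar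
        (Subgroup.commutator_mono hNQ hNQ (hSNN hx)) hxp
    exact Subgroup.le_centralizer_iff.mp hSQ
  -- Step 6
  have hFC : F ≤ Subgroup.centralizer ((S : Subgroup G) : Set G) :=
    Cfsg.Agent.H2.BGU.le_of_forall_Oq_le (Cfsg.Agent.H2.BGU.fittingOf_nilpotent E) hOq
  haveI : Group.IsSolvable ↥E := Cfsg.Agent.H2.BGU.solvable_of_le_coatom hG hM hEM
  have hSF : (S : Subgroup G) ≤ F :=
    (le_inf hSE (Subgroup.le_centralizer_iff.mp hFC)).trans
      (Cfsg.Agent.H2.BGU.inf_centralizer_fittingOf_le E)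
  have hSO : (S : Subgroup G) ≤ Oq p F :=
    le_Oq_of_isPGroup (Cfsg.Agent.H2.BGU.fittingOf_nilpotent E) hSF S.isPGroup'
  have hEq : (S : Subgroup G) = Oq p F := le_antisymm hSO hOpS
  refine ⟨hSE, ?_, hFC, hEq⟩
  rw [hEq]
  exact Cfsg.Agent.H2.BGU.le_normalizer_Oq_fittingOf p E

end Cfsg.Agent.Lib.helper3.BG12
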