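import Mathlib
import Cfsg.Agent.Lib.helper3.BG12G
import Cfsg.Agent.Lib.Helper8.BGTw4C
import Cfsg.Agent.Lib.Helper5.BGBetaC
import Cfsg.Agent.H1.Card
import Cfsg.Agent.S1424

/-!
# B&G Section 12, part H (helper3): the full Theorem 12.14, case `q ∈ σ(M*)`

Setting: `S` a Sylow `q`-subgroup of `M*` with `q ∈ σ(M*) ∖ β(M*)` and `N_G(S) ≤ M`.
* `not_dvd_relIndex_of_not_beta`: `|M* : M ∩ M*|` is a `β(M*)`-number;
* `c1`: `M* = M*_β (M ∩ M*)`;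
* `alpha_subset_beta`, `alphaCore_ne_bot`: `α(M) = β(M)`, `M_α ≠ 1`;
* `tau1_subset`: `τ₁(M*) ⊆ τ₁(M) ∪ α(M)`.
-/

set_option autoImplicit false
set_option linter.unusedSectionVars false
set_option linter.unusedVariables false
set_option linter.style.haveILetI false
set_option maxHeartbeats 1000000
open Cfsg
open scoped commutatorElement Pointwise

namespace Cfsg.Agent.Lib.helper3.BG12

open Cfsg.Agent.Lib.Helper7 (IsSylowIn exists_isSylowIn_ge card_subgroupOf_of_le)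
open Cfsg.Agent.Lib.Helper8.BGTen Cfsg.Agent.Lib.Helper4.BGTrans
open Cfsg.Agent.Lib.helper3.BG11
open Cfsg.Agent.H2.BGU (Oq Oq_le isPGroup_Oq le_normalizer_Oq le_Oq_of_isPGroup)
open Cfsg.Agent.H2.BG12 (St1416 St1417 St1418)

universe u

variable {G : Type u} [Group G] [Finite G]

/-- `|M* : M ∩ M*|` is a `β(M*)`-number when `N_G(S) ≤ M` for a Sylow `q`-subgroup `S` of `M*`,
`q ∈ σ(M*) ∖ β(M*)` -/
theorem not_dvd_relIndex_of_not_beta (hG : Cfsg.IsMinSimpleOddOrder G) {Ms : Subgroup G}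
    (hMs : IsCoatom Ms) {q : ℕ} [hq : Fact q.Prime] (hqσ : q ∈ Cfsg.sigma Ms)
    (hqβ : q ∉ Cfsg.beta Ms) {S : Subgroup G} (hS : IsSylowIn q S Ms) {M : Subgroup G}
    (hNS : Subgroup.normalizer (S : Set G) ≤ M) {p : ℕ} (hp : p.Prime)
    (hpβ : p ∉ Cfsg.beta Ms) : ¬ p ∣ M.relIndex Ms := by
  haveI : Group.IsSolvable ↥Ms := hG.2.2.2 Ms hMs.1
  obtain ⟨hB1, -, -, ⟨H, hH, hHnil⟩, -⟩ := Cfsg.Agent.S1414.result hG Ms hMs
  have hNMs : Cfsg.sigmaCore Ms ≤ Ms := sigmaCore_le Ms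
  have hSN : S ≤ Cfsg.sigmaCore Ms :=
    Cfsg.Agent.H2.BG11.le_sigmaCore_of_pgroup hG hMs hqσ hS.1 hS.isPGroup
  have hSsylN : IsSylowIn q S (Cfsg.sigmaCore Ms) := by
    obtain ⟨R, hR, hSR⟩ := exists_isSylowIn_ge hS.isPGroup hSN
    have : R = S := sylIn_eq_of_le hS (hR.1.trans hNMs) hR.isPGroup hSR
    rw [← this]; exact hR
  obtain ⟨SH, hSH, -⟩ := exists_isSylowIn_ge (p := q) (Q := ⊥) (H := H) IsPGroup.of_bot bot_le
  have hSHN : IsSylowIn q SH (Cfsg.sigmaCore Ms) := by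
    apply sylIn_of_not_dvd (hSH.1.trans hH.1) hSH.isPGroup
    rw [← Subgroup.relIndex_mul_relIndex SH H _ hSH.1 hH.1, Nat.Prime.dvd_mul hq.out]
    push Not
    exact ⟨not_dvd_relIndex_of_sylIn hSH, hH.2.2 q hq.out ⟨hq.out, hqβ⟩⟩
  obtain ⟨k, hkN, hk⟩ := hSHN.conj hSsylN
  have hk' : S = cj k SH := hk
  have hH₁N : cj k H ≤ Cfsg.sigmaCore Ms := by
    have := cj_mono k hH.1
    rwa [cj_eq_of_mem hkN] at this
  have hSH₁ : S ≤ cj k H := by rw [hk']; exact cj_mono k hSH.1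
  have hH₁nil : Group.IsNilpotent ↥(cj k H) :=
    Group.nilpotent_of_mulEquiv (H.equivMapOfInjective _ (MulAut.conj k).injective)
  have h1 : S ≤ Oq q (cj k H) := le_Oq_of_isPGroup hH₁nil hSH₁ hS.isPGroup
  have h2 : Oq q (cj k H) = S :=
    sylIn_eq_of_le hS ((Oq_le q _).trans (hH₁N.trans hNMs)) (isPGroup_Oq hq.out _) h1
  have hH₁M : cj k H ≤ M := by
    have := le_normalizer_Oq q (cj k H)
    rw [h2] at this
    exact this.trans hNS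
  have hfr : Ms ≤ (Ms ⊓ Subgroup.normalizer (S : Set G)) ⊔ Cfsg.sigmaCore Ms :=
    hSsylN.frattini hNMs (le_normalizer_sigmaCore Ms)
  have hNt : (Cfsg.sigmaCore Ms).subgroupOf Ms = Cfsg.piCore (Cfsg.sigma Ms) ↥Ms :=
    Subgroup.comap_map_eq_self_of_injective Ms.subtype_injective _
  have hDN : M.subgroupOf Ms ⊔ Cfsg.piCore (Cfsg.sigma Ms) ↥Ms = ⊤ := by
    have h3 : ((Ms ⊓ Subgroup.normalizer (S : Set G)) ⊔ Cfsg.sigmaCore Ms).subgroupOf Ms = ⊤ :=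
      Subgroup.subgroupOf_eq_top.mpr hfr
    rw [Subgroup.subgroupOf_sup inf_le_left hNMs, hNt] at h3
    rw [eq_top_iff, ← h3]
    apply sup_le_sup_right
    exact Subgroup.comap_mono (inf_le_right.trans hNS)
  have hHD : (cj k H).subgroupOf Ms ≤ M.subgroupOf Ms := Subgroup.comap_mono hH₁M
  have hHN : (cj k H).subgroupOf Ms ≤ Cfsg.piCore (Cfsg.sigma Ms) ↥Ms := by
    rw [← hNt]; exact Subgroup.comap_mono hH₁N
  have hdvd := index_dvd_relIndex_of_sup_eq_top (Cfsg.piCore (Cfsg.sigma Ms) ↥Ms)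
    (M.subgroupOf Ms) ((cj k H).subgroupOf Ms) hDN hHD hHN
  have e1 : ((cj k H).subgroupOf Ms).relIndex (Cfsg.piCore (Cfsg.sigma Ms) ↥Ms)
      = (cj k H).relIndex (Cfsg.sigmaCore Ms) := by
    rw [← hNt]; exact Subgroup.relIndex_subgroupOf hNMs
  have e2 : (cj k H).relIndex (Cfsg.sigmaCore Ms) = H.relIndex (Cfsg.sigmaCore Ms) := by
    have : (cj k H).relIndex (cj k (Cfsg.sigmaCore Ms)) = H.relIndex (Cfsg.sigmaCore Ms) :=
      Subgroup.relIndex_map_map_of_injective _ _ (MulAut.conj k).injective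
    rwa [cj_eq_of_mem hkN] at this
  intro hp1
  have hp3 : p ∣ H.relIndex (Cfsg.sigmaCore Ms) := by
    rw [← e2, ← e1]; exact hp1.trans hdvd
  exact hH.2.2 p hp ⟨hp, hpβ⟩ hp3

/-- **B&G 12.14(c1)**: `M* = M*_β (M ∩ M*)` -/
theorem c1 (hG : Cfsg.IsMinSimpleOddOrder G) {Ms : Subgroup G}
    (hMs : IsCoatom Ms) {q : ℕ} [hq : Fact q.Prime] (hqσ : q ∈ Cfsg.sigma Ms)
    (hqβ : q ∉ Cfsg.beta Ms) {S : Subgroup G} (hS : IsSylowIn q S Ms) {M : Subgroup G}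
    (hNS : Subgroup.normalizer (S : Set G) ≤ M) :
    Ms ≤ Cfsg.piCoreOf (Cfsg.beta Ms) Ms ⊔ (M ⊓ Ms) := by
  obtain ⟨hB1, -⟩ := Cfsg.Agent.S1414.result hG Ms hMs
  set B : Subgroup ↥Ms := Cfsg.piCore (Cfsg.beta Ms) ↥Ms with hB
  set D : Subgroup ↥Ms := M.subgroupOf Ms with hD
  have hBidx : (Cfsg.piCoreOf (Cfsg.beta Ms) Ms).relIndex Ms = B.index :=
    relIndex_map_subtype_self Ms _
  have h1 : (B ⊔ D).index = 1 := by
    by_contra hne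
    obtain ⟨p, hp, hpd⟩ := Nat.exists_prime_and_dvd hne
    have hd1 : p ∣ D.index := hpd.trans (Subgroup.index_dvd_of_le le_sup_right)
    have hd2 : p ∣ B.index := hpd.trans (Subgroup.index_dvd_of_le le_sup_left)
    have hpβ : p ∈ Cfsg.beta Ms := by
      by_contra hpβ
      exact not_dvd_relIndex_of_not_beta hG hMs hqσ hqβ hS hNS hp hpβ hd1
    exact hB1.2.2 p hp hpβ (hBidx ▸ hd2)
  have h2 : B ⊔ D = ⊤ := Subgroup.index_eq_one.mp h1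
  intro x hx
  have h3 : (⟨x, hx⟩ : ↥Ms) ∈ B ⊔ D := by rw [h2]; exact Subgroup.mem_top _
  have h4 : x ∈ (B ⊔ D).map Ms.subtype := ⟨⟨x, hx⟩, h3, rfl⟩
  rw [Subgroup.map_sup, hD, Subgroup.subgroupOf_map_subtype] at h4
  exact h4

/-- `α(M) ⊆ β(M)` if `|M : M ∩ M*|` is a `β(M)`-number for some maximal subgroup `M* ≠ M` -/
theorem alpha_subset_beta (hG : Cfsg.IsMinSimpleOddOrder G) {M Ms : Subgroup G}
    (hM : IsCoatom M) (hMs : IsCoatom Ms) (hne : Ms ≠ M)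
    (hidx : ∀ p : ℕ, p.Prime → p ∉ Cfsg.beta M → ¬ p ∣ Ms.relIndex M)
    {t : ℕ} (ht : t ∈ Cfsg.alpha M) : t ∈ Cfsg.beta M := by
  by_contra htβ
  haveI : Fact t.Prime := ⟨ht.1⟩
  obtain ⟨T, hT, -⟩ := exists_isSylowIn_ge (p := t) (Q := ⊥) (H := M ⊓ Ms) IsPGroup.of_bot bot_le
  have hTM : IsSylowIn t T M := by
    apply sylIn_of_not_dvd (hT.1.trans inf_le_left) hT.isPGroup
    rw [← Subgroup.relIndex_mul_relIndex T (M ⊓ Ms) M hT.1 inf_le_left,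
      Nat.Prime.dvd_mul ht.1]
    push Not
    refine ⟨not_dvd_relIndex_of_sylIn hT, ?_⟩
    rw [Subgroup.inf_relIndex_left]
    exact hidx t ht.1 htβ
  have hrk : ¬ Cfsg.PRankLE t 2 ↥T := not_pRankLE_sylowIn hTM ht.2
  have hTne : T ≠ ⊤ := ne_top_of_le_coatom hM hTM.1
  obtain ⟨L, -, huniq⟩ := inUniqueMaximal_of_rank_three (uT hG) ht.1 hTne hrk
  have e1 := huniq M ⟨hM, hTM.1⟩
  have e2 := huniq Ms ⟨hMs, hT.1.trans inf_le_right⟩
  exact hne (e2.trans e1.symm)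

/-- `M_α ≠ 1` when `σ(M) ∩ σ(M*) ≠ ∅` for some maximal subgroup `M*` not conjugate to `M` -/
theorem alphaCore_ne_bot (hG : Cfsg.IsMinSimpleOddOrder G) {M Ms : Subgroup G}
    (hM : IsCoatom M) (hMs : IsCoatom Ms) (hncj : ∀ g : G, cj g Ms ≠ M) {q : ℕ}
    [hq : Fact q.Prime] (hqM : q ∈ Cfsg.sigma M) (hqMs : q ∈ Cfsg.sigma Ms) :
    Cfsg.alphaCore M ≠ ⊥ := by
  intro h
  have hnil := sigmaCore_nilpotent_of_alphaCore_eq_bot hG hM h
  obtain ⟨g, hg⟩ := aux2c hG hMs hM hnil hqM hqMs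
  exact hncj g hg.symm

/-- if `H = BJ` with `B` normal then `H' ≤ J'B` -/
theorem commutator_le_of_sup_eq_top {H : Type*} [Group H] (B J : Subgroup H) [B.Normal]
    (h : B ⊔ J = ⊤) : _root_.commutator H ≤ ⁅J, J⁆ ⊔ B := by
  set φ := QuotientGroup.mk' B with hφ
  have hker : φ.ker = B := QuotientGroup.ker_mk' B
  have h1 : (⊤ : Subgroup H).map φ = J.map φ := by
    rw [← h, Subgroup.map_sup]
    have : B.map φ = ⊥ := (Subgroup.map_eq_bot_iff _).mpr hker.ge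
    rw [this, bot_sup_eq]
  have h2 : (_root_.commutator H).map φ = (⁅J, J⁆).map φ := by
    rw [_root_.commutator_def, Subgroup.map_commutator, Subgroup.map_commutator, h1]
  have h3 := (Subgroup.map_le_map_iff (f := φ) (H := _root_.commutator H) (K := ⁅J, J⁆)).mp h2.le
  rwa [hker] at h3

/-- **B&G 12.14(c2)**: `τ₁(M*) ⊆ τ₁(M) ∪ α(M)` -/
theorem tau1_subset (hG : Cfsg.IsMinSimpleOddOrder G) {M Ms : Subgroup G}
    (hM : IsCoatom M) (hMs : IsCoatom Ms)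
    (hidxM : ∀ p : ℕ, p.Prime → p ∉ Cfsg.beta M → ¬ p ∣ Ms.relIndex M)
    (hidxMs : ∀ p : ℕ, p.Prime → p ∉ Cfsg.beta Ms → ¬ p ∣ M.relIndex Ms)
    (hc1M : M ≤ Cfsg.piCoreOf (Cfsg.beta M) M ⊔ (M ⊓ Ms))
    {r : ℕ} (hr : r ∈ Cfsg.tau1 Ms) (hrα : r ∉ Cfsg.alpha M) : r ∈ Cfsg.tau1 M := by
  obtain ⟨hrp, hrσ, hrd, hrc, hr1⟩ := hr
  haveI : Fact r.Prime := ⟨hrp⟩
  have hrβM : r ∉ Cfsg.beta M := fun h => hrα h.1
  have hrβMs : r ∉ Cfsg.beta Ms := fun h => hrσ (alpha_subset_sigma hG (uT hG) hMs h.1)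
  obtain ⟨R, hR, -⟩ := exists_isSylowIn_ge (p := r) (Q := ⊥) (H := M ⊓ Ms) IsPGroup.of_bot bot_le
  have hRM : IsSylowIn r R M := by
    apply sylIn_of_not_dvd (hR.1.trans inf_le_left) hR.isPGroup
    rw [← Subgroup.relIndex_mul_relIndex R (M ⊓ Ms) M hR.1 inf_le_left, Nat.Prime.dvd_mul hrp]
    push Not
    refine ⟨not_dvd_relIndex_of_sylIn hR, ?_⟩
    rw [Subgroup.inf_relIndex_left]
    exact hidxM r hrp hrβM
  have hRMs : IsSylowIn r R Ms := by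
    apply sylIn_of_not_dvd (hR.1.trans inf_le_right) hR.isPGroup
    rw [← Subgroup.relIndex_mul_relIndex R (M ⊓ Ms) Ms hR.1 inf_le_right, Nat.Prime.dvd_mul hrp]
    push Not
    refine ⟨not_dvd_relIndex_of_sylIn hR, ?_⟩
    rw [Subgroup.inf_relIndex_right]
    exact hidxMs r hrp hrβMs
  -- `r ∣ |M|`
  have hrM : r ∣ Nat.card ↥M := by
    have h1 : Nat.card ↥Ms = (M ⊓ Ms).relIndex Ms * Nat.card ↥(M ⊓ Ms) :=
      Cfsg.Agent.H1.card_eq_relIndex_mul_card inf_le_right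
    rw [h1, Subgroup.inf_relIndex_right, Nat.Prime.dvd_mul hrp] at hrd
    rcases hrd with hrd | hrd
    · exact absurd hrd (hidxMs r hrp hrβMs)
    · exact hrd.trans (Subgroup.card_dvd_of_le inf_le_left)
  -- rank
  have hcyc : IsCyclic ↥R :=
    Cfsg.Agent.Lib.Helper4.BGTw.isCyclic_of_pRankLE_one hG hr1 hRMs.1 hRMs.isPGroup
  have hrk : Cfsg.PRankLE r 1 ↥M := pRankLE_one_of_cyclic_sylow hRM hcyc
  -- `r ∤ |M'|`
  obtain ⟨hB1, -⟩ := Cfsg.Agent.S1414.result hG M hM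
  have hrB : ¬ r ∣ Nat.card ↥(Cfsg.piCore (Cfsg.beta M) ↥M) := by
    intro h
    have e : Nat.card ↥(Cfsg.piCoreOf (Cfsg.beta M) M)
        = Nat.card ↥(Cfsg.piCore (Cfsg.beta M) ↥M) :=
      Subgroup.card_map_of_injective M.subtype_injective
    exact hrβM (hB1.2.1 r hrp (e ▸ h))
  have hsup : Cfsg.piCore (Cfsg.beta M) ↥M ⊔ Ms.subgroupOf M = ⊤ := by
    rw [eq_top_iff]
    intro x _
    have h1 := hc1M x.2
    have h2 : (x : G) ∈ (Cfsg.piCore (Cfsg.beta M) ↥M ⊔ Ms.subgroupOf M).map M.subtype := by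
      rw [Subgroup.map_sup, Subgroup.subgroupOf_map_subtype, inf_comm]
      exact h1
    obtain ⟨y, hy, hyx⟩ := h2
    have : y = x := Subtype.ext hyx
    rwa [this] at hy
  have hJc : ¬ r ∣ Nat.card ↥⁅Ms.subgroupOf M, Ms.subgroupOf M⁆ := by
    intro h
    apply hrc
    have e : Nat.card ↥((⁅Ms.subgroupOf M, Ms.subgroupOf M⁆).map M.subtype)
        = Nat.card ↥⁅Ms.subgroupOf M, Ms.subgroupOf M⁆ :=
      Subgroup.card_map_of_injective M.subtype_injective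
    rw [← e] at h
    apply h.trans
    apply Subgroup.card_dvd_of_le
    rw [Subgroup.map_commutator, Subgroup.subgroupOf_map_subtype]
    exact Subgroup.commutator_mono inf_le_left inf_le_left
  have hMc : ¬ r ∣ Nat.card ↥⁅M, M⁆ := by
    intro h
    have e : Nat.card ↥⁅M, M⁆ = Nat.card ↥(_root_.commutator ↥M) := by
      rw [← Subgroup.map_subtype_commutator]
      exact Subgroup.card_map_of_injective M.subtype_injective
    rw [e] at h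
    have h1 := h.trans (Subgroup.card_dvd_of_le
      (commutator_le_of_sup_eq_top (Cfsg.piCore (Cfsg.beta M) ↥M) (Ms.subgroupOf M) hsup))
    have h2 := Cfsg.Agent.H1.card_sup_mul_card_inf ⁅Ms.subgroupOf M, Ms.subgroupOf M⁆
      (Cfsg.piCore (Cfsg.beta M) ↥M) (by
        intro x _
        exact (Subgroup.normalizer_eq_top (H := Cfsg.piCore (Cfsg.beta M) ↥M)) ▸ Subgroup.mem_top x)
    have h3 : r ∣ Nat.card ↥⁅Ms.subgroupOf M, Ms.subgroupOf M⁆ *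
        Nat.card ↥(Cfsg.piCore (Cfsg.beta M) ↥M) := by
      rw [← h2]
      exact h1.trans (Dvd.intro _ rfl)
    rcases (Nat.Prime.dvd_mul hrp).mp h3 with h4 | h4
    · exact hJc h4
    · exact hrB h4
  -- `r ∉ σ(M)`
  have hrσM : r ∉ Cfsg.sigma M := by
    intro h
    have h1 := Cfsg.Agent.H2.BG11.dvd_card_sigmaCore hG hM h
    exact hMc (h1.trans (Subgroup.card_dvd_of_le
      (Cfsg.Agent.Lib.Helper5.BGBeta.sigmaCore_le_commutator hG (uT hG) hM)))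
  exact ⟨hrp, hrσM, hrM, hMc, hrk⟩

/-- the conclusions of B&G 12.14(c) for a pair of maximal subgroups -/
def PairC (M Ms : Subgroup G) : Prop :=
  (∀ p : ℕ, p.Prime → p ∉ Cfsg.beta M → ¬ p ∣ Ms.relIndex M) ∧
  M ≤ Cfsg.piCoreOf (Cfsg.beta M) M ⊔ (M ⊓ Ms) ∧
  Cfsg.alpha M = Cfsg.beta M ∧ Cfsg.alphaCore M = Cfsg.piCoreOf (Cfsg.beta M) M ∧
  Cfsg.alphaCore M ≠ ⊥ ∧
  (∀ r : ℕ, r ∈ Cfsg.tau1 Ms → r ∉ Cfsg.alpha M → r ∈ Cfsg.tau1 M)

/-- **B&G 12.14(c)**, symmetric form: `M`, `M*` maximal, not conjugate, `S` a Sylow `q`-subgroup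
of `G` with `N_G(S) ≤ M ∩ M*`. -/
theorem pair_c (hG : Cfsg.IsMinSimpleOddOrder G) {M Ms : Subgroup G}
    (hM : IsCoatom M) (hMs : IsCoatom Ms) (hncj : ∀ g : G, cj g Ms ≠ M) {q : ℕ}
    [hq : Fact q.Prime] {S : Subgroup G} (hS : IsSylowIn q S ⊤) (hS1 : S ≠ ⊥)
    (hNM : Subgroup.normalizer (S : Set G) ≤ M) (hNMs : Subgroup.normalizer (S : Set G) ≤ Ms) :
    PairC M Ms ∧ PairC Ms M := by
  have hne : Ms ≠ M := by
    intro h
    apply hncj 1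
    rw [cj_one, h]
  have hncj' : ∀ g : G, cj g M ≠ Ms := by
    intro g hg
    apply hncj g⁻¹
    rw [← hg, cj_inv_cj]
  have hSM : IsSylowIn q S M :=
    Cfsg.Agent.H2.BG11.sylIn_of_sylIn_top hS (Subgroup.le_normalizer.trans hNM)
  have hSMs : IsSylowIn q S Ms :=
    Cfsg.Agent.H2.BG11.sylIn_of_sylIn_top hS (Subgroup.le_normalizer.trans hNMs)
  have hqM : q ∈ Cfsg.sigma M := mem_sigma_of_sylIn hSM hS1 hNM
  have hqMs : q ∈ Cfsg.sigma Ms := mem_sigma_of_sylIn hSMs hS1 hNMs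
  have hqβM : q ∉ Cfsg.beta M := by
    intro h
    obtain ⟨g, hg⟩ := exists_cj_eq_of_alpha_sigma hG hMs hM h.1 hqMs
    exact hncj' g hg
  have hqβMs : q ∉ Cfsg.beta Ms := by
    intro h
    obtain ⟨g, hg⟩ := exists_cj_eq_of_alpha_sigma hG hM hMs h.1 hqM
    exact hncj g hg
  have hidxM : ∀ p : ℕ, p.Prime → p ∉ Cfsg.beta M → ¬ p ∣ Ms.relIndex M :=
    fun p hp hpβ => not_dvd_relIndex_of_not_beta hG hM hqM hqβM hSM hNMs hp hpβ
  have hidxMs : ∀ p : ℕ, p.Prime → p ∉ Cfsg.beta Ms → ¬ p ∣ M.relIndex Ms :=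
    fun p hp hpβ => not_dvd_relIndex_of_not_beta hG hMs hqMs hqβMs hSMs hNM hp hpβ
  have hc1M : M ≤ Cfsg.piCoreOf (Cfsg.beta M) M ⊔ (M ⊓ Ms) := by
    have := c1 hG hM hqM hqβM hSM hNMs
    rwa [inf_comm] at this
  have hc1Ms : Ms ≤ Cfsg.piCoreOf (Cfsg.beta Ms) Ms ⊔ (Ms ⊓ M) := by
    have := c1 hG hMs hqMs hqβMs hSMs hNM
    rwa [inf_comm] at this
  have hαM : Cfsg.alpha M = Cfsg.beta M :=
    Set.ext fun t => ⟨fun h => alpha_subset_beta hG hM hMs hne hidxM h, fun h => h.1⟩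
  have hαMs : Cfsg.alpha Ms = Cfsg.beta Ms :=
    Set.ext fun t => ⟨fun h => alpha_subset_beta hG hMs hM hne.symm hidxMs h, fun h => h.1⟩
  refine ⟨⟨hidxM, hc1M, hαM, ?_, alphaCore_ne_bot hG hM hMs hncj hqM hqMs, ?_⟩,
    ⟨hidxMs, hc1Ms, hαMs, ?_, alphaCore_ne_bot hG hMs hM hncj' hqMs hqM, ?_⟩⟩
  · unfold Cfsg.alphaCore Cfsg.piCoreOf
    rw [hαM]
  · intro r hr hrα
    exact tau1_subset hG hM hMs hidxM hidxMs hc1M hr hrα
  · unfold Cfsg.alphaCore Cfsg.piCoreOf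
    rw [hαMs]
  · intro r hr hrα
    have hc1Ms' : Ms ≤ Cfsg.piCoreOf (Cfsg.beta Ms) Ms ⊔ (Ms ⊓ M) := hc1Ms
    exact tau1_subset hG hMs hM hidxMs hidxM hc1Ms' hr hrα

/-- **B&G Theorem 12.14(c)** in the setting of S1424: `q ∈ σ(M)`, `1 ≠ X ≤ M` a `q`-group,
`M* ≠ M` maximal with `N_G(X) ≤ M*`, and `q ∈ σ(M*)`. -/
theorem bg1214_c (hG : Cfsg.IsMinSimpleOddOrder G) {M Ms : Subgroup G}
    (hM : IsCoatom M) (hMs : IsCoatom Ms) {q : ℕ} [hq : Fact q.Prime]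
    (hqM : q ∈ Cfsg.sigma M) (hqMs : q ∈ Cfsg.sigma Ms) {X : Subgroup G} (hXq : IsPGroup q ↥X)
    (hX1 : X ≠ ⊥) (hXM : X ≤ M) (hne : Ms ≠ M)
    (hNX : Subgroup.normalizer (X : Set G) ≤ Ms) :
    (∀ g : G, cj g Ms ≠ M) ∧ PairC M Ms ∧ PairC Ms M ∧
      ∃ S : Subgroup G, X ≤ S ∧ IsSylowIn q S ⊤ ∧ Subgroup.normalizer (S : Set G) ≤ M ⊓ Ms := by
  have hXMs : X ≤ Ms := Subgroup.le_normalizer.trans hNX
  have hXq' : IsPGroup q ↥(X.subgroupOf (M ⊓ Ms)) := hXq.comap_subtype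
  obtain ⟨S0, hS0⟩ := hXq'.exists_le_sylow
  have hXS : X ≤ (S0 : Subgroup ↥(M ⊓ Ms)).map (M ⊓ Ms).subtype := by
    intro x hx
    exact ⟨⟨x, hXM hx, hXMs hx⟩, hS0 (Subgroup.mem_subgroupOf.mpr hx), rfl⟩
  obtain ⟨hnc, hNS, hidx⟩ := Cfsg.Agent.S1424.result hG M hM q hqM X hXq hX1 hXM Ms hMs hne hNX
    S0 hXS
  have hSD : IsSylowIn q ((S0 : Subgroup ↥(M ⊓ Ms)).map (M ⊓ Ms).subtype) (M ⊓ Ms) :=
    IsSylowIn.of_sylow S0
  obtain ⟨S, hSdef⟩ : ∃ S : Subgroup G, S = (S0 : Subgroup ↥(M ⊓ Ms)).map (M ⊓ Ms).subtype :=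
    ⟨_, rfl⟩
  rw [← hSdef] at hNS hidx hSD hXS
  have hSMs : IsSylowIn q S Ms :=
    sylIn_of_not_dvd (hSD.1.trans inf_le_right) hSD.isPGroup hidx
  have hncj : ∀ g : G, cj g Ms ≠ M := by
    intro g hg
    apply hnc g⁻¹
    have : Ms = cj g⁻¹ M := by rw [← hg, cj_inv_cj]
    exact this
  have hStop : IsSylowIn q S ⊤ := sigma_sylow_top hqMs hSMs
  have hNMs : Subgroup.normalizer (S : Set G) ≤ Ms := sigma_normalizer_le hqMs hSMs
  have hS1 : S ≠ ⊥ := by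
    rintro rfl
    exact hX1 (le_bot_iff.mp hXS)
  obtain ⟨h1, h2⟩ := pair_c hG hM hMs hncj hStop hS1 hNS hNMs
  exact ⟨hncj, h1, h2, S, hXS, hStop, le_inf hNS hNMs⟩

end Cfsg.Agent.Lib.helper3.BG12
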