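import Mathlib
import Cfsg.Agent.H1.FrobFixC

/-!
# B&G Section 13, part A (helper3): prime action of a Frobenius complement (general form)

`K ⋊ R` a Frobenius group acting coprimely on a SOLVABLE group `Q` (no nilpotency, no
`C_Q(K) = 1`), `R` acting in a prime manner (`C_Q(x) = C_Q(R)` for all `x ∈ R^#`) and `K` acting
nontrivially.  Then `|R|` is prime and `C_Q(R) ≠ 1`; moreover the fixed point formula
`|C_Q(KR)|^{|R|} |Q| = |C_Q(R)|^{|R|} |C_Q(K)|` holds.  (Generalizes S1446.)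
-/

set_option autoImplicit false
set_option linter.unusedSectionVars false
set_option linter.unusedVariables false

namespace Cfsg.Agent.Lib.helper3.BG13

variable {X : Type*} [Group X] [Finite X]

theorem centralizer_sup_eq (K E : Subgroup X) :
    Subgroup.centralizer ((K ⊔ E : Subgroup X) : Set X)
      = Subgroup.centralizer (K : Set X) ⊓ Subgroup.centralizer (E : Set X) := by
  apply le_antisymm
  · exact le_inf (Subgroup.centralizer_le (le_sup_left : K ≤ K ⊔ E))
      (Subgroup.centralizer_le (le_sup_right : E ≤ K ⊔ E))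
  · rintro x ⟨hxK, hxE⟩
    have h1 : K ≤ Subgroup.centralizer ((Subgroup.zpowers x : Subgroup X) : Set X) := by
      rw [Subgroup.le_centralizer_iff, Subgroup.zpowers_le]; exact hxK
    have h2 : E ≤ Subgroup.centralizer ((Subgroup.zpowers x : Subgroup X) : Set X) := by
      rw [Subgroup.le_centralizer_iff, Subgroup.zpowers_le]; exact hxE
    have h3 := sup_le h1 h2
    rw [Subgroup.le_centralizer_iff, Subgroup.zpowers_le] at h3
    exact h3

/-- the Frobenius fixed point formula, in terms of normalizers and centralizers -/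
theorem frobenius_formula (K E Q : Subgroup X) (hK1 : K ≠ ⊥) (hE1 : E ≠ ⊥) (hKE : K ⊓ E = ⊥)
    (hEK : E ≤ Subgroup.normalizer (K : Set X))
    (hfrob : ∀ r ∈ E, r ≠ 1 → K ⊓ Subgroup.centralizer ({r} : Set X) = ⊥)
    (hQs : Group.IsSolvable ↥Q) (hKQ : K ≤ Subgroup.normalizer (Q : Set X))
    (hEQ : E ≤ Subgroup.normalizer (Q : Set X))
    (hcop : (Nat.card ↥(K ⊔ E)).Coprime (Nat.card ↥Q)) :
    Nat.card ↥(Q ⊓ (Subgroup.centralizer (K : Set X) ⊓ Subgroup.centralizer (E : Set X))) ^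
        Nat.card ↥E * Nat.card ↥Q =
      Nat.card ↥(Q ⊓ Subgroup.centralizer (E : Set X)) ^ Nat.card ↥E *
        Nat.card ↥(Q ⊓ Subgroup.centralizer (K : Set X)) := by
  have hUn : ∀ e ∈ E, ∀ u ∈ K, e * u * e⁻¹ ∈ K := by
    intro e he u hu
    exact (Subgroup.mem_normalizer_iff.1 (hEK he) u).1 hu
  have hfpf : ∀ e ∈ E, e ≠ 1 → ∀ u ∈ K, e * u = u * e → u = 1 := by
    intro e he hne u hu hcomm
    have h1 : u ∈ K ⊓ Subgroup.centralizer {e} := by
      refine ⟨hu, ?_⟩
      show u ∈ Subgroup.centralizer {e}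
      rw [Subgroup.mem_centralizer_iff]
      intro h hh
      rw [Set.mem_singleton_iff] at hh
      rw [hh]
      exact hcomm
    rw [hfrob e he hne, Subgroup.mem_bot] at h1
    exact h1
  have hLQ : K ⊔ E ≤ Subgroup.normalizer (Q : Set X) := sup_le hKQ hEQ
  have hHn : ∀ x ∈ K ⊔ E, ∀ h ∈ Q, x * h * x⁻¹ ∈ Q := by
    intro x hx h hh
    exact (Subgroup.mem_normalizer_iff.1 (hLQ hx) h).1 hh
  have key := Cfsg.Agent.H1.FrobFix.frobenius_fix_internal K E Q hK1 hE1 hKE hUn hfpf hHn hQs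
    hcop.symm
  rw [centralizer_sup_eq] at key
  exact key

/-- **prime action of a Frobenius complement** (general form of S1446) -/
theorem frobenius_prime_action (K R Q : Subgroup X) (hK1 : K ≠ ⊥) (hR1 : R ≠ ⊥)
    (hKR : K ⊓ R = ⊥) (hRK : R ≤ Subgroup.normalizer (K : Set X))
    (hfrob : ∀ r ∈ R, r ≠ 1 → K ⊓ Subgroup.centralizer ({r} : Set X) = ⊥)
    (hQs : Group.IsSolvable ↥Q) (hKQ : K ≤ Subgroup.normalizer (Q : Set X))
    (hRQ : R ≤ Subgroup.normalizer (Q : Set X))
    (hcop : (Nat.card ↥(K ⊔ R)).Coprime (Nat.card ↥Q))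
    (hnc : ¬ Q ≤ Subgroup.centralizer (K : Set X))
    (hpr : ∀ x ∈ R, x ≠ 1 →
      Q ⊓ Subgroup.centralizer ({x} : Set X) = Q ⊓ Subgroup.centralizer (R : Set X)) :
    (Nat.card ↥R).Prime ∧ Q ⊓ Subgroup.centralizer (R : Set X) ≠ ⊥ ∧
      Nat.card ↥(Q ⊓ (Subgroup.centralizer (K : Set X) ⊓ Subgroup.centralizer (R : Set X))) ^
          Nat.card ↥R * Nat.card ↥Q =
        Nat.card ↥(Q ⊓ Subgroup.centralizer (R : Set X)) ^ Nat.card ↥R *
          Nat.card ↥(Q ⊓ Subgroup.centralizer (K : Set X)) := by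
  classical
  have hb := frobenius_formula K R Q hK1 hR1 hKR hRK hfrob hQs hKQ hRQ hcop
  have hRcard : Nat.card ↥R ≠ 1 := fun h => hR1 (Subgroup.card_eq_one.1 h)
  obtain ⟨p, hp, hpdvd⟩ := Nat.exists_prime_and_dvd hRcard
  haveI : Fact p.Prime := ⟨hp⟩
  obtain ⟨x, hx⟩ := exists_prime_orderOf_dvd_card' (G := R) p hpdvd
  have hx' : orderOf (x : X) = p := by rw [Subgroup.orderOf_coe, hx]
  have hx1 : (x : X) ≠ 1 := by
    intro h
    rw [h, orderOf_one] at hx'
    exact hp.one_lt.ne hx'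
  set E : Subgroup X := Subgroup.zpowers (x : X) with hE
  have hER : E ≤ R := by
    rw [hE, Subgroup.zpowers_le]
    exact x.2
  have hE1 : E ≠ ⊥ := by
    intro h
    rw [hE, Subgroup.zpowers_eq_bot] at h
    exact hx1 h
  have hEcard : Nat.card ↥E = p := by rw [hE, Nat.card_zpowers, hx']
  have hEcent : Q ⊓ Subgroup.centralizer (E : Set X) = Q ⊓ Subgroup.centralizer (R : Set X) := by
    rw [hE, Subgroup.zpowers_eq_closure, Subgroup.centralizer_closure]
    exact hpr x x.2 hx1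
  have hKE : K ⊓ E = ⊥ := by
    rw [eq_bot_iff, ← hKR]
    exact inf_le_inf_left K hER
  have hcop' : (Nat.card ↥(K ⊔ E)).Coprime (Nat.card ↥Q) :=
    Nat.Coprime.coprime_dvd_left (Subgroup.card_dvd_of_le (sup_le_sup_left hER K)) hcop
  have ha := frobenius_formula K E Q hK1 hE1 hKE (hER.trans hRK)
    (fun r hr => hfrob r (hER hr)) hQs hKQ (hER.trans hRQ) hcop'
  have hcentKE : Q ⊓ (Subgroup.centralizer (K : Set X) ⊓ Subgroup.centralizer (E : Set X))
      = Q ⊓ (Subgroup.centralizer (K : Set X) ⊓ Subgroup.centralizer (R : Set X)) := by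
    rw [inf_comm (Subgroup.centralizer (K : Set X)), ← inf_assoc, hEcent, inf_assoc,
      inf_comm (Subgroup.centralizer (R : Set X))]
  rw [hcentKE, hEcent, hEcard] at ha
  set a := Nat.card ↥(Q ⊓ (Subgroup.centralizer (K : Set X) ⊓ Subgroup.centralizer (R : Set X)))
    with hadef
  set b := Nat.card ↥(Q ⊓ Subgroup.centralizer (R : Set X)) with hbdef
  set z := Nat.card ↥(Q ⊓ Subgroup.centralizer (K : Set X)) with hzdef
  set n := Nat.card ↥Q with hndef
  set e := Nat.card ↥R with hedef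
  have ha0 : 0 < a := Nat.card_pos
  have hb0 : 0 < b := Nat.card_pos
  have hz0 : 0 < z := Nat.card_pos
  have hn0 : 0 < n := Nat.card_pos
  have hzn : z ≠ n := by
    intro h
    apply hnc
    have h1 : Q ⊓ Subgroup.centralizer (K : Set X) = Q :=
      Subgroup.eq_of_le_of_card_ge inf_le_left (by rw [← hzdef, ← hndef, h])
    rw [← h1]
    exact inf_le_right
  have hpe : p ≤ e := Nat.le_of_dvd Nat.card_pos hpdvd
  have hep : e = p := by
    by_contra hne
    have hlt : p < e := lt_of_le_of_ne hpe (Ne.symm hne)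
    obtain ⟨d, hd⟩ : ∃ d, e = p + d := ⟨e - p, by omega⟩
    have hd0 : d ≠ 0 := by omega
    rw [hd, pow_add, pow_add] at hb
    -- `a^d (a^p n) = b^d (b^p z)`
    have h1 : a ^ d * (a ^ p * n) = b ^ d * (b ^ p * z) := by
      calc a ^ d * (a ^ p * n) = a ^ p * a ^ d * n := by ring
        _ = b ^ p * b ^ d * z := hb
        _ = b ^ d * (b ^ p * z) := by ring
    rw [ha] at h1
    have hc0 : 0 < b ^ p * z := Nat.mul_pos (Nat.pow_pos hb0) hz0
    have h2 : a ^ d = b ^ d := Nat.eq_of_mul_eq_mul_right hc0 h1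
    have h3 : a = b := Nat.pow_left_injective hd0 h2
    rw [h3] at ha
    have h4 : n = z := Nat.eq_of_mul_eq_mul_left (Nat.pow_pos hb0) ha
    exact hzn h4.symm
  refine ⟨hep ▸ hp, ?_, hb⟩
  intro hbot
  have hb1 : b = 1 := by rw [hbdef, hbot, Subgroup.card_bot]
  have ha1 : a = 1 := by
    have : Q ⊓ (Subgroup.centralizer (K : Set X) ⊓ Subgroup.centralizer (R : Set X)) = ⊥ := by
      rw [eq_bot_iff, ← hbot]
      exact inf_le_inf_left Q inf_le_right
    rw [hadef, this, Subgroup.card_bot]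
  rw [ha1, hb1] at ha
  simp only [one_pow, one_mul] at ha
  exact hzn ha.symm

end Cfsg.Agent.Lib.helper3.BG13
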