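import Mathlib
import Cfsg.Prelude.Def_Characters
import Cfsg.Agent.Lib.helper3.Brauer

set_option autoImplicit false
set_option linter.style.haveILetI false
set_option linter.unusedSectionVars false

/-!
# Clifford's theorem for characters
-/

namespace Cfsg.Agent.Lib.helper3.Irr

open Cfsg Module Cfsg.Agent.Lib.helper3.IndFun Cfsg.Agent.Lib.helper3.CharBasic
open Representation
open scoped ComplexConjugate

variable {G : Type*} [Group G]

/-- Two characters sharing an irreducible constituent have nonzero inner product. -/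
theorem classInner_ne_zero_of_common_constituent [Fintype G] {A B θ : G → ℂ}
    (hA : IsCharacter G A) (hB : IsCharacter G B) (hθ : IsIrrCharacter G θ)
    (h1 : classInner A θ ≠ 0) (h2 : classInner B θ ≠ 0) : classInner A B ≠ 0 := by
  classical
  obtain ⟨m, rfl⟩ := exists_decomposition_of_isCharacter hA
  obtain ⟨m', rfl⟩ := exists_decomposition_of_isCharacter hB
  set θ' : IrrCharacter G := ⟨θ, hθ⟩ with hθ'
  have e1 := classInner_decomposition_left (fun χ => (m χ : ℂ)) θ'
  have e2 := classInner_decomposition_left (fun χ => (m' χ : ℂ)) θ'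
  simp only [hθ'] at e1 e2
  rw [e1] at h1
  rw [e2] at h2
  have hm : m θ' ≠ 0 := by
    intro h; apply h1; rw [hθ'] at h; rw [h]; simp
  have hm' : m' θ' ≠ 0 := by
    intro h; apply h2; rw [hθ'] at h; rw [h]; simp
  rw [classInner_decomposition]
  simp only [Complex.conj_natCast]
  have : ∑ χ : IrrCharacter G, (m χ : ℂ) * (m' χ : ℂ)
      = ((∑ χ : IrrCharacter G, m χ * m' χ : ℕ) : ℂ) := by push_cast; rfl
  rw [this]
  have hpos : 0 < ∑ χ : IrrCharacter G, m χ * m' χ := by
    apply Finset.sum_pos'
    · intro i _; exact Nat.zero_le _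
    · exact ⟨θ', Finset.mem_univ _, Nat.mul_pos (Nat.pos_of_ne_zero hm) (Nat.pos_of_ne_zero hm')⟩
  exact_mod_cast hpos.ne'

/-- Restriction of a class function of `G` is invariant under conjugation. -/
theorem classInner_restrict_conjFun [Fintype G] (N : Subgroup G) [hN : N.Normal] [Fintype N]
    (θ : G → ℂ) (hθ : IsClassFunction G θ) (χ : N → ℂ) (g : G) :
    classInner (fun n : N => θ n) (conjFun N χ g) = classInner (fun n : N => θ n) χ := by
  rw [conjFun_eq_comp]
  have h1 : (fun n : N => θ n) = fun n : N => (fun m : N => θ m) (MulAut.conjNormal g n) := by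
    funext n
    simp only [MulAut.conjNormal_apply]
    exact (hθ n g).symm
  conv_lhs => rw [h1]
  exact classInner_comp_mulEquiv (MulAut.conjNormal g : N ≃* N) (fun m : N => θ m) χ

/-- Clifford's theorem. -/
theorem clifford [Fintype G] (N : Subgroup G) [hN : N.Normal] [Fintype N] (θ : G → ℂ)
    (hθ : IsIrrCharacter G θ) (χ : N → ℂ) (hχ : IsIrrCharacter N χ)
    (hconst : classInner (fun n : N => θ n) χ ≠ 0) :
    (fun n : N => θ n) = classInner (fun n : N => θ n) χ •
      ∑ᶠ ψ ∈ {ψ : N → ℂ | ∃ g : G, ψ = fun n : N => χ ⟨g * n * g⁻¹, hN.conj_mem n n.2 g⟩}, ψ := by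
  classical
  have hθc := isCharacter_of_isIrrCharacter hθ
  have hcf := isClassFunction_of_isCharacter hθc
  have hres := isCharacter_restrict hθc N
  rw [setOf_conj_eq, finsum_mem_coe_finset]
  -- coefficients
  have hcoef : ∀ ψ : IrrCharacter N, classInner (fun n : N => θ n) (ψ : N → ℂ)
      = if (ψ : N → ℂ) ∈ Finset.univ.image (conjFun N χ)
        then classInner (fun n : N => θ n) χ else 0 := by
    intro ψ
    split_ifs with h
    · obtain ⟨g, -, hg⟩ := Finset.mem_image.mp h
      rw [← hg, classInner_restrict_conjFun N θ hcf χ g]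
    · by_contra hne
      have hnc : ∀ g : G, (ψ : N → ℂ) ≠ conjFun N χ g := by
        intro g hg
        apply h
        rw [hg]
        exact Finset.mem_image_of_mem _ (Finset.mem_univ g)
      have h0 := classInner_indFun_of_not_conj N χ ψ hχ ψ.2 hnc
      -- θ is a constituent of both induced characters
      have hA := isCharacter_indFun N (ψ : N → ℂ) (isCharacter_of_isIrrCharacter ψ.2)
      have hB := isCharacter_indFun N χ (isCharacter_of_isIrrCharacter hχ)
      have h1 : classInner (indFun N (ψ : N → ℂ)) θ ≠ 0 := by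
        rw [frobenius_reciprocity N _ θ hcf, ← classInner_conj_symm]
        intro hz
        apply hne
        have := congrArg conj hz
        simpa using this
      have h2 : classInner (indFun N χ) θ ≠ 0 := by
        rw [frobenius_reciprocity N _ θ hcf, ← classInner_conj_symm]
        intro hz
        apply hconst
        have := congrArg conj hz
        simpa using this
      exact classInner_ne_zero_of_common_constituent hA hB hθ h1 h2 h0
  have hdec := isCharacter_eq_sum_classInner hres
  rw [Finset.smul_sum]
  -- sum over the subtype versus the finset of functions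
  have hsub : ∑ ψ ∈ Finset.univ.image (conjFun N χ),
      classInner (fun n : N => θ n) χ • ψ
      = ∑ ψ : IrrCharacter N, (if (ψ : N → ℂ) ∈ Finset.univ.image (conjFun N χ)
          then classInner (fun n : N => θ n) χ else 0) • (ψ : N → ℂ) := by
    have himg : ∀ ψ ∈ Finset.univ.image (conjFun N χ), IsIrrCharacter N ψ := by
      intro ψ hψ
      obtain ⟨g, -, rfl⟩ := Finset.mem_image.mp hψ
      exact isIrrCharacter_conjFun N hχ g
    symm
    rw [← Finset.sum_filter_add_sum_filter_not Finset.univ
      (fun ψ : IrrCharacter N => (ψ : N → ℂ) ∈ Finset.univ.image (conjFun N χ))]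
    have hz : ∑ ψ ∈ Finset.univ.filter
        (fun ψ : IrrCharacter N => ¬ (ψ : N → ℂ) ∈ Finset.univ.image (conjFun N χ)),
        (if (ψ : N → ℂ) ∈ Finset.univ.image (conjFun N χ)
          then classInner (fun n : N => θ n) χ else 0) • (ψ : N → ℂ) = 0 := by
      apply Finset.sum_eq_zero
      intro ψ hψ
      rw [Finset.mem_filter] at hψ
      rw [if_neg hψ.2, zero_smul]
    rw [hz, add_zero]
    apply Finset.sum_bij (fun (ψ : IrrCharacter N) _ => (ψ : N → ℂ))
    · intro ψ hψ
      exact (Finset.mem_filter.mp hψ).2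
    · intro ψ _ ψ' _ h
      exact Subtype.ext h
    · intro ψ hψ
      exact ⟨⟨ψ, himg ψ hψ⟩, Finset.mem_filter.mpr ⟨Finset.mem_univ _, hψ⟩, rfl⟩
    · intro ψ hψ
      rw [if_pos (Finset.mem_filter.mp hψ).2]
  rw [hsub]
  conv_lhs => rw [hdec]
  apply Finset.sum_congr rfl
  intro ψ _
  rw [hcoef ψ]

end Cfsg.Agent.Lib.helper3.Irr
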