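import Mathlib
import Cfsg.Prelude.Def_Characters

set_option autoImplicit false
set_option linter.style.haveILetI false
set_option linter.unusedSectionVars false

/-!
# Extending a representation of a normal subgroup with cyclic quotient: the construction
-/

namespace Cfsg.Agent.Lib.helper3.CycExt

open Cfsg Module

variable {G : Type*} [Group G] {N : Subgroup G} [hN : N.Normal]
  {V : Type*} [AddCommGroup V] [Module ℂ V]

/-- Conjugation by `g` on the normal subgroup `N`. -/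
def cj (g : G) (x : N) : N := ⟨g * x * g⁻¹, hN.conj_mem x x.2 g⟩

theorem cj_val (g : G) (x : N) : ((cj g x : N) : G) = g * x * g⁻¹ := rfl

theorem cj_one (x : N) : cj (1 : G) x = x := by
  apply Subtype.ext
  simp [cj_val]

theorem cj_mul (g h : G) (x : N) : cj g (cj h x) = cj (g * h) x := by
  apply Subtype.ext
  simp only [cj_val]
  group

section construction

variable (ρ : Representation ℂ N V) (g₀ : G) (Q : V →ₗ[ℂ] V) (m : ℕ)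

theorem pow_mul_rho (hQ : ∀ x : N, Q * ρ x = ρ (cj g₀ x) * Q) (j : ℕ) (x : N) :
    Q ^ j * ρ x = ρ (cj (g₀ ^ j) x) * Q ^ j := by
  induction j with
  | zero => simp [cj_one]
  | succ j ih =>
    rw [pow_succ', mul_assoc, ih, ← mul_assoc, hQ, cj_mul, mul_assoc, ← pow_succ' g₀ j]

theorem pow_mul_eq (hm : g₀ ^ m ∈ N) (hQm : Q ^ m = ρ ⟨g₀ ^ m, hm⟩) (k : ℕ) :
    Q ^ (m * k) = ρ (⟨g₀ ^ m, hm⟩ ^ k) := by
  rw [pow_mul, hQm, map_pow]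

theorem well_defined_aux (hm : g₀ ^ m ∈ N) (hQm : Q ^ m = ρ ⟨g₀ ^ m, hm⟩)
    (hdiv : ∀ t : ℕ, g₀ ^ t ∈ N → m ∣ t) (i t : ℕ) (x r : N)
    (h : g₀ ^ i * x = g₀ ^ (i + t) * r) : Q ^ i * ρ x = Q ^ (i + t) * ρ r := by
  have h1 : (x : G) = g₀ ^ t * r := by
    rw [pow_add, mul_assoc] at h
    exact mul_left_cancel h
  have h2 : g₀ ^ t ∈ N := by
    have : g₀ ^ t = x * (r : G)⁻¹ := by rw [h1]; group
    rw [this]
    exact N.mul_mem x.2 (N.inv_mem r.2)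
  obtain ⟨k, rfl⟩ := hdiv t h2
  rw [pow_add, pow_mul_eq ρ g₀ Q m hm hQm k, mul_assoc, ← map_mul]
  congr 2
  apply Subtype.ext
  rw [h1]
  simp [pow_mul]

theorem well_defined (hm : g₀ ^ m ∈ N) (hQm : Q ^ m = ρ ⟨g₀ ^ m, hm⟩)
    (hdiv : ∀ t : ℕ, g₀ ^ t ∈ N → m ∣ t) (i j : ℕ) (x r : N)
    (h : g₀ ^ i * x = g₀ ^ j * r) : Q ^ i * ρ x = Q ^ j * ρ r := by
  rcases le_total i j with hij | hij
  · obtain ⟨t, rfl⟩ := Nat.exists_eq_add_of_le hij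
    exact well_defined_aux ρ g₀ Q m hm hQm hdiv i t x r h
  · obtain ⟨t, rfl⟩ := Nat.exists_eq_add_of_le hij
    exact (well_defined_aux ρ g₀ Q m hm hQm hdiv j t r x h.symm).symm

variable (hidx : ∀ x : G, ∃ i : ℕ, (g₀ ^ i)⁻¹ * x ∈ N)

/-- The exponent chosen for `x`. -/
noncomputable def idx (x : G) : ℕ := Classical.choose (hidx x)

/-- The remaining factor in `N`. -/
noncomputable def rem (x : G) : N := ⟨(g₀ ^ idx g₀ hidx x)⁻¹ * x, Classical.choose_spec (hidx x)⟩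

theorem pow_idx_mul_rem (x : G) : g₀ ^ idx g₀ hidx x * (rem g₀ hidx x : G) = x := by
  show g₀ ^ idx g₀ hidx x * ((g₀ ^ idx g₀ hidx x)⁻¹ * x) = x
  rw [mul_inv_cancel_left]

/-- The extended map. -/
noncomputable def ext (x : G) : V →ₗ[ℂ] V := Q ^ idx g₀ hidx x * ρ (rem g₀ hidx x)

theorem ext_apply (hm : g₀ ^ m ∈ N) (hQm : Q ^ m = ρ ⟨g₀ ^ m, hm⟩)
    (hdiv : ∀ t : ℕ, g₀ ^ t ∈ N → m ∣ t) (i : ℕ) (x : N) :
    ext ρ g₀ Q hidx (g₀ ^ i * x) = Q ^ i * ρ x := by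
  unfold ext
  apply well_defined ρ g₀ Q m hm hQm hdiv
  rw [pow_idx_mul_rem]

theorem ext_one (hm : g₀ ^ m ∈ N) (hQm : Q ^ m = ρ ⟨g₀ ^ m, hm⟩)
    (hdiv : ∀ t : ℕ, g₀ ^ t ∈ N → m ∣ t) : ext ρ g₀ Q hidx 1 = 1 := by
  have := ext_apply ρ g₀ Q m hidx hm hQm hdiv 0 1
  simpa using this

theorem ext_coe (hm : g₀ ^ m ∈ N) (hQm : Q ^ m = ρ ⟨g₀ ^ m, hm⟩)
    (hdiv : ∀ t : ℕ, g₀ ^ t ∈ N → m ∣ t) (x : N) : ext ρ g₀ Q hidx (x : G) = ρ x := by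
  have := ext_apply ρ g₀ Q m hidx hm hQm hdiv 0 x
  simpa using this

theorem ext_mul (hQ : ∀ x : N, Q * ρ x = ρ (cj g₀ x) * Q) (hm : g₀ ^ m ∈ N)
    (hQm : Q ^ m = ρ ⟨g₀ ^ m, hm⟩) (hdiv : ∀ t : ℕ, g₀ ^ t ∈ N → m ∣ t) (z z' : G) :
    ext ρ g₀ Q hidx (z * z') = ext ρ g₀ Q hidx z * ext ρ g₀ Q hidx z' := by
  set i := idx g₀ hidx z with hi
  set x := rem g₀ hidx z with hx
  set j := idx g₀ hidx z' with hj
  set x' := rem g₀ hidx z' with hx'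
  have hz : g₀ ^ i * (x : G) = z := pow_idx_mul_rem g₀ hidx z
  have hz' : g₀ ^ j * (x' : G) = z' := pow_idx_mul_rem g₀ hidx z'
  set w : N := cj (g₀ ^ j)⁻¹ x with hw
  have hprod : z * z' = g₀ ^ (i + j) * ((w * x' : N) : G) := by
    rw [← hz, ← hz', hw]
    simp only [Subgroup.coe_mul, cj_val, pow_add]
    group
  have hcw : cj (g₀ ^ j) w = x := by
    rw [hw, cj_mul, mul_inv_cancel, cj_one]
  rw [hprod, ext_apply ρ g₀ Q m hidx hm hQm hdiv (i + j) (w * x')]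
  show _ = (Q ^ i * ρ x) * (Q ^ j * ρ x')
  rw [map_mul, pow_add, mul_assoc (Q ^ i), ← mul_assoc (Q ^ j), pow_mul_rho ρ g₀ Q hQ j w, hcw]
  simp only [mul_assoc]

/-- The extension as a representation of `G`. -/
noncomputable def extRep (hQ : ∀ x : N, Q * ρ x = ρ (cj g₀ x) * Q) (hm : g₀ ^ m ∈ N)
    (hQm : Q ^ m = ρ ⟨g₀ ^ m, hm⟩) (hdiv : ∀ t : ℕ, g₀ ^ t ∈ N → m ∣ t) :
    Representation ℂ G V where
  toFun := ext ρ g₀ Q hidx
  map_one' := ext_one ρ g₀ Q m hidx hm hQm hdiv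
  map_mul' := ext_mul ρ g₀ Q m hidx hQ hm hQm hdiv

theorem extRep_coe (hQ : ∀ x : N, Q * ρ x = ρ (cj g₀ x) * Q) (hm : g₀ ^ m ∈ N)
    (hQm : Q ^ m = ρ ⟨g₀ ^ m, hm⟩) (hdiv : ∀ t : ℕ, g₀ ^ t ∈ N → m ∣ t) (x : N) :
    extRep ρ g₀ Q m hidx hQ hm hQm hdiv (x : G) = ρ x :=
  ext_coe ρ g₀ Q m hidx hm hQm hdiv x

end construction

end Cfsg.Agent.Lib.helper3.CycExt
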