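import Mathlib
import Cfsg.Prelude.Def_Characters
import Cfsg.Agent.Lib.helper3.Irr5

set_option autoImplicit false
set_option linter.style.haveILetI false
set_option linter.unusedSectionVars false

/-!
# Representations with equal characters are equivalent
-/

namespace Cfsg.Agent.Lib.helper3.Irr

open Cfsg Module Cfsg.Agent.Lib.helper3.IndFun Cfsg.Agent.Lib.helper3.CharBasic
open Representation
open scoped ComplexConjugate

universe u v w

section prodcongr

variable {G : Type*} [Group G]
variable {V₁ V₂ W₁ W₂ : Type*} [AddCommGroup V₁] [Module ℂ V₁] [AddCommGroup V₂] [Module ℂ V₂]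
  [AddCommGroup W₁] [Module ℂ W₁] [AddCommGroup W₂] [Module ℂ W₂]

/-- The product of two equivalences of representations. -/
noncomputable def prodCongrEquiv {ρ₁ : Representation ℂ G V₁} {ρ₂ : Representation ℂ G V₂}
    {σ₁ : Representation ℂ G W₁} {σ₂ : Representation ℂ G W₂}
    (e₁ : ρ₁.Equiv σ₁) (e₂ : ρ₂.Equiv σ₂) : (ρ₁.prod ρ₂).Equiv (σ₁.prod σ₂) :=
  Representation.Equiv.mk (LinearEquiv.prodCongr e₁.toLinearEquiv e₂.toLinearEquiv) (by
    intro g
    apply LinearMap.ext
    rintro ⟨x, y⟩
    apply Prod.ext
    · exact Representation.IntertwiningMap.isIntertwining _ _ e₁.toIntertwiningMap g x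
    · exact Representation.IntertwiningMap.isIntertwining _ _ e₂.toIntertwiningMap g y)

/-- An injective intertwining map induces an equivalence onto its range. -/
noncomputable def equivRange {ρ : Representation ℂ G V₁} {σ : Representation ℂ G W₁}
    (f : Representation.IntertwiningMap ρ σ) (hf : Function.Injective f) :
    ρ.Equiv f.range.toRepresentation :=
  Representation.Equiv.mk (LinearEquiv.ofInjective f.toLinearMap hf) (by
    intro g
    apply LinearMap.ext
    intro x
    apply Subtype.ext
    exact Representation.IntertwiningMap.isIntertwining _ _ f g x)

end prodcongr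

theorem nonempty_equiv_of_character_eq {G : Type w} [Group G] [Fintype G] :
    ∀ (n : ℕ) (V : Type u) [AddCommGroup V] [Module ℂ V] [FiniteDimensional ℂ V]
      (W : Type v) [AddCommGroup W] [Module ℂ W] [FiniteDimensional ℂ W]
      (ρ : Representation ℂ G V) (σ : Representation ℂ G W),
      finrank ℂ V = n → ρ.character = σ.character → Nonempty (ρ.Equiv σ) := by
  haveI : NeZero (Nat.card G : ℂ) := ⟨card_ne_zero_complex G⟩
  intro n
  induction n using Nat.strong_induction_on with
  | _ n ih =>
    intro V _ _ _ W _ _ _ ρ σ hn hchar
    have hdim : finrank ℂ W = finrank ℂ V := by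
      have h1 := Representation.char_one ρ
      have h2 := Representation.char_one σ
      rw [hchar, h2] at h1
      exact_mod_cast h1
    by_cases hsub : Subsingleton V
    · have hW : Subsingleton W := by
        rw [← Module.finrank_zero_iff (R := ℂ)] at hsub ⊢
        omega
      refine ⟨Representation.Equiv.mk (LinearEquiv.ofSubsingleton V W) ?_⟩
      intro g
      apply LinearMap.ext
      intro x
      exact Subsingleton.elim _ _
    · rw [not_subsingleton_iff_nontrivial] at hsub
      obtain ⟨U, hU⟩ := exists_isAtom ρ
      obtain ⟨U', hU'⟩ := exists_isCompl U
      haveI := isIrreducible_of_isAtom U hU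
      have e1 := prodEquivOfIsCompl hU'
      have hρ : ρ.character = U.toRepresentation.character + U'.toRepresentation.character := by
        rw [← Representation.char_iso e1, character_prod]
      have hne : classInner σ.character U.toRepresentation.character ≠ 0 := by
        rw [← hchar, hρ, classInner_add_left, classInner_character_self, classInner_character]
        have : (1 : ℂ) + (finrank ℂ (Representation.IntertwiningMap U.toRepresentation
            U'.toRepresentation) : ℂ) = ((1 + finrank ℂ (Representation.IntertwiningMap
            U.toRepresentation U'.toRepresentation) : ℕ) : ℂ) := by push_cast; ring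
        rw [this, Nat.cast_ne_zero]
        omega
      rw [classInner_character] at hne
      have hpos : 0 < finrank ℂ (Representation.IntertwiningMap U.toRepresentation σ) := by
        rcases Nat.eq_zero_or_pos
          (finrank ℂ (Representation.IntertwiningMap U.toRepresentation σ)) with h | h
        · rw [h] at hne; simp at hne
        · exact h
      obtain ⟨f, hf⟩ := Module.finrank_pos_iff_exists_ne_zero.mp hpos
      have hinj := (Representation.IsIrreducible.injective_or_eq_zero f).resolve_right hf
      have e2 := equivRange f hinj
      obtain ⟨T', hT'⟩ := exists_isCompl f.range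
      have e3 := prodEquivOfIsCompl hT'
      have hσ : σ.character
          = f.range.toRepresentation.character + T'.toRepresentation.character := by
        rw [← Representation.char_iso e3, character_prod]
      have hchar' : U'.toRepresentation.character = T'.toRepresentation.character := by
        have h1 := Representation.char_iso e2
        rw [hρ, hσ, ← h1] at hchar
        exact add_left_cancel hchar
      have hc := isCompl_toSubmodule hU'
      have hfr := Submodule.finrank_add_eq_of_isCompl hc
      have hUpos : 0 < finrank ℂ U.toSubmodule := by
        rw [Module.finrank_pos_iff, Submodule.nontrivial_iff_ne_bot]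
        intro h
        apply hU.1
        apply Subrepresentation.toSubmodule_injective
        exact h
      have hlt : finrank ℂ U'.toSubmodule < n := by omega
      obtain ⟨e4⟩ := ih _ hlt U'.toSubmodule T'.toSubmodule U'.toRepresentation
        T'.toRepresentation rfl hchar'
      exact ⟨e1.symm.trans ((prodCongrEquiv e2 e4).trans e3)⟩

end Cfsg.Agent.Lib.helper3.Irr
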