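import Mathlib
import Cfsg.Prelude.Def_Characters
import Cfsg.Agent.Lib.helper3.CycExt1
import Cfsg.Agent.Lib.helper3.RepEquiv
import Cfsg.Agent.Lib.helper3.Central
import Cfsg.Agent.Lib.helper3.Irr9

set_option autoImplicit false
set_option linter.style.haveILetI false
set_option linter.unusedSectionVars false

/-!
# Extending an invariant irreducible character when the quotient is cyclic
-/

namespace Cfsg.Agent.Lib.helper3.CycExt

open Cfsg Module Cfsg.Agent.Lib.helper3.Irr Cfsg.Agent.Lib.helper3.IndFun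
open Cfsg.Agent.Lib.helper3.CharBasic
open scoped ComplexConjugate

variable {G : Type*} [Group G]

/-- A character whose restriction to a subgroup is irreducible is irreducible. -/
theorem isIrrCharacter_of_restrict [Fintype G] (N : Subgroup G) [Fintype N] {χ : G → ℂ}
    (hχ : IsCharacter G χ) (hres : IsIrrCharacter N (fun n : N => χ n)) :
    IsIrrCharacter G χ := by
  classical
  have hχ0 : χ ≠ 0 := by
    intro h0
    have h1 := apply_one_ne_zero hres
    apply h1
    show χ ((1 : N) : G) = 0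
    rw [h0]
    rfl
  obtain ⟨ψ, hψ⟩ := exists_constituent hχ hχ0
  have hδ := isCharacter_sub_of_classInner_ne_zero hχ ψ hψ
  set δ := χ - (ψ : G → ℂ) with hδdef
  have hψc := isCharacter_of_isIrrCharacter ψ.2
  have hψN := isCharacter_restrict hψc N
  have hδN := isCharacter_restrict hδ N
  have hsplit : (fun n : N => χ n) = (fun n : N => (ψ : G → ℂ) n) + fun n : N => δ n := by
    funext n
    simp [hδdef]
  obtain ⟨a, ha⟩ := exists_nat_classInner_of_isCharacter_of_isCharacter hψN hψN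
  obtain ⟨b, hb⟩ := exists_nat_classInner_of_isCharacter_of_isCharacter hψN hδN
  obtain ⟨b', hb'⟩ := exists_nat_classInner_of_isCharacter_of_isCharacter hδN hψN
  obtain ⟨d, hd⟩ := exists_nat_classInner_of_isCharacter_of_isCharacter hδN hδN
  have h1 := irr_classInner_self hres
  rw [hsplit, classInner_add_left, classInner_add_right, classInner_add_right, ha, hb, hb', hd]
    at h1
  have h2 : a + b + (b' + d) = 1 := by exact_mod_cast h1
  have ha0 : a ≠ 0 := by
    intro h0
    rw [h0, Nat.cast_zero] at ha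
    have h3 := eq_zero_of_classInner_self_eq_zero _ ha
    have h4 := congrFun h3 1
    exact apply_one_ne_zero ψ.2 h4
  have hd0 : d = 0 := by omega
  rw [hd0, Nat.cast_zero] at hd
  have h5 := eq_zero_of_classInner_self_eq_zero _ hd
  have hδ1 : δ 1 = 0 := congrFun h5 1
  -- a character of degree zero vanishes
  have hδ0 : δ = 0 := by
    obtain ⟨k, σ, hσ⟩ := hδ
    funext g
    have h6 := norm_character_le σ g
    have h7 : (finrank ℂ (Fin k → ℂ) : ℂ) = 0 := by
      rw [← Representation.char_one σ, hσ]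
      exact hδ1
    have h8 : (finrank ℂ (Fin k → ℂ) : ℝ) = 0 := by exact_mod_cast h7
    rw [h8] at h6
    rw [← hσ]
    exact norm_le_zero_iff.mp h6
  have : χ = (ψ : G → ℂ) := by
    have := sub_eq_zero.mp (hδdef ▸ hδ0)
    exact this
  rw [this]
  exact ψ.2

/-- An invariant irreducible character of a normal subgroup with cyclic quotient extends. -/
theorem exists_extension_of_cyclic [Finite G] (N : Subgroup G) [hN : N.Normal]
    (hcyc : IsCyclic (G ⧸ N)) (ϑ : N → ℂ) (hϑ : IsIrrCharacter N ϑ)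
    (hinv : ∀ (g : G) (n : N), ϑ ⟨g * n * g⁻¹, hN.conj_mem (n : G) n.2 g⟩ = ϑ n) :
    ∃ χ : G → ℂ, IsIrrCharacter G χ ∧ ∀ n : N, χ n = ϑ n := by
  classical
  letI : Fintype G := Fintype.ofFinite G
  letI : Fintype N := Fintype.ofFinite N
  obtain ⟨n, ρ, hirr, hρ⟩ := id hϑ
  haveI := hirr
  obtain ⟨q₀, hq₀⟩ := hcyc.exists_generator
  obtain ⟨g₀, rfl⟩ := QuotientGroup.mk_surjective q₀
  set m := orderOf (g₀ : G ⧸ N) with hm
  have hmpos : 0 < m := orderOf_pos _
  have hpowmem : ∀ t : ℕ, g₀ ^ t ∈ N ↔ m ∣ t := by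
    intro t
    rw [← QuotientGroup.eq_one_iff, QuotientGroup.mk_pow, orderOf_dvd_iff_pow_eq_one]
  have hmN : g₀ ^ m ∈ N := (hpowmem m).mpr dvd_rfl
  have hidx : ∀ x : G, ∃ i : ℕ, (g₀ ^ i)⁻¹ * x ∈ N := by
    intro x
    have h1 : (x : G ⧸ N) ∈ Subgroup.zpowers (g₀ : G ⧸ N) := hq₀ _
    rw [← (isOfFinOrder_of_finite _).mem_powers_iff_mem_zpowers] at h1
    obtain ⟨i, hi⟩ := h1
    refine ⟨i, ?_⟩
    rw [← QuotientGroup.eq_one_iff, QuotientGroup.mk_mul, QuotientGroup.mk_inv,
      QuotientGroup.mk_pow]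
    have hi' : (g₀ : G ⧸ N) ^ i = (x : G ⧸ N) := hi
    rw [hi', inv_mul_cancel]
  -- the twisted representation
  set ρ' : Representation ℂ N (Fin n → ℂ) :=
    ρ.comp (MulAut.conjNormal g₀ : MulAut N).toMonoidHom with hρ'
  have hcjeq : ∀ x : N, (MulAut.conjNormal g₀ : MulAut N) x = cj g₀ x := by
    intro x
    apply Subtype.ext
    rw [MulAut.conjNormal_apply]
    rfl
  have hρ'x : ∀ x : N, ρ' x = ρ (cj g₀ x) := by
    intro x
    show ρ ((MulAut.conjNormal g₀ : MulAut N) x) = _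
    rw [hcjeq]
  have hchar : ρ.character = ρ'.character := by
    funext x
    show ρ.character x = LinearMap.trace ℂ _ (ρ' x)
    rw [hρ'x]
    show ρ.character x = ρ.character (cj g₀ x)
    rw [hρ]
    exact (hinv g₀ x).symm
  obtain ⟨e⟩ := nonempty_equiv_of_character_eq (finrank ℂ (Fin n → ℂ)) _ _ ρ ρ' rfl hchar
  set P : (Fin n → ℂ) →ₗ[ℂ] (Fin n → ℂ) := e.toIntertwiningMap.toLinearMap with hP
  have hPQ : ∀ x : N, P * ρ x = ρ (cj g₀ x) * P := by
    intro x
    rw [← hρ'x]
    exact e.toIntertwiningMap.isIntertwining' x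
  have hPinj : Function.Injective P := e.toLinearEquiv.injective
  set y : N := ⟨g₀ ^ m, hmN⟩ with hy
  have hPm : ∀ x : N, P ^ m * ρ x = ρ (y * x * y⁻¹) * P ^ m := by
    intro x
    rw [pow_mul_rho ρ g₀ P hPQ m x]
    congr 2
  set T := ρ y⁻¹ * P ^ m with hT
  have hTcomm : ∀ x : N, T * ρ x = ρ x * T := by
    intro x
    rw [hT, mul_assoc, hPm x, ← mul_assoc, ← map_mul, ← mul_assoc (ρ x), ← map_mul]
    congr 2
    group
  obtain ⟨c, hc⟩ := Cfsg.Agent.Lib.helper3.Central.exists_eq_smul_id ρ T (by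
    intro g v
    have := congrArg (fun f : (Fin n → ℂ) →ₗ[ℂ] (Fin n → ℂ) => f v) (hTcomm g)
    simpa using this)
  have hPmeq : P ^ m = c • ρ y := by
    have h1 : ρ y * T = P ^ m := by
      rw [hT, ← mul_assoc, ← map_mul, mul_inv_cancel, map_one, one_mul]
    rw [← h1, hc]
    ext v
    simp
  haveI hnt := Cfsg.Agent.Lib.helper3.Central.nontrivial_of_irreducible ρ
  have hc0 : c ≠ 0 := by
    intro h0
    rw [h0, zero_smul] at hPmeq
    obtain ⟨v, hv⟩ := exists_ne (0 : Fin n → ℂ)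
    apply hv
    have h1 : (P ^ m) v = 0 := by rw [hPmeq]; rfl
    rw [Module.End.pow_apply] at h1
    have h0' : (⇑P)^[m] 0 = 0 := by
      rw [← Module.End.pow_apply, map_zero]
    have h2 : (⇑P)^[m] v = (⇑P)^[m] 0 := by
      rw [h1, h0']
    exact (hPinj.iterate m) h2
  obtain ⟨c', hc'⟩ := IsAlgClosed.exists_pow_nat_eq c hmpos
  have hc'0 : c' ≠ 0 := by
    intro h0
    apply hc0
    rw [← hc', h0, zero_pow hmpos.ne']
  set Q := c'⁻¹ • P with hQdef
  have hQ : ∀ x : N, Q * ρ x = ρ (cj g₀ x) * Q := by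
    intro x
    rw [hQdef, smul_mul_assoc, hPQ x, mul_smul_comm]
  have hQm : Q ^ m = ρ ⟨g₀ ^ m, hmN⟩ := by
    rw [hQdef, smul_pow, hPmeq, smul_smul, inv_pow, hc', inv_mul_cancel₀ hc0, one_smul]
  set X := extRep ρ g₀ Q m hidx hQ hmN hQm (fun t ht => (hpowmem t).mp ht) with hX
  have hXN : ∀ x : N, X (x : G) = ρ x :=
    extRep_coe ρ g₀ Q m hidx hQ hmN hQm (fun t ht => (hpowmem t).mp ht)
  have hχc : IsCharacter G X.character := ⟨n, X, rfl⟩
  have hres : (fun x : N => X.character x) = ϑ := by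
    funext x
    show LinearMap.trace ℂ _ (X (x : G)) = ϑ x
    rw [hXN, ← hρ]
    rfl
  refine ⟨X.character, ?_, fun x => congrFun hres x⟩
  apply isIrrCharacter_of_restrict N hχc
  rw [hres]
  exact hϑ

end Cfsg.Agent.Lib.helper3.CycExt
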