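import Mathlib
import Cfsg.Prelude.Def_Characters
import Cfsg.Agent.Lib.helper3.IndFun

set_option autoImplicit false
set_option linter.style.haveILetI false

/-!
# Transitivity of induction of functions
-/

namespace Cfsg.Agent.Lib.helper3.IndFunTrans

open Cfsg Cfsg.Agent.Lib.helper3.IndFun
open scoped ComplexConjugate

variable {G : Type*} [Group G]

theorem extendByZero_subgroupOf (H K : Subgroup G) (θ : H → ℂ) (k : K) :
    extendByZero (H.subgroupOf K) (fun x => θ ⟨(x : K), Subgroup.mem_subgroupOf.mp x.2⟩) k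
      = extendByZero H θ (k : G) := by
  by_cases hk : (k : G) ∈ H
  · rw [extendByZero_mem H θ hk]
    have : k ∈ H.subgroupOf K := Subgroup.mem_subgroupOf.mpr hk
    rw [extendByZero_mem _ _ this]
  · rw [extendByZero_not_mem H θ hk]
    have : k ∉ H.subgroupOf K := fun h => hk (Subgroup.mem_subgroupOf.mp h)
    rw [extendByZero_not_mem _ _ this]

theorem card_subgroupOf_of_le {H K : Subgroup G} (hHK : H ≤ K) :
    Nat.card (H.subgroupOf K) = Nat.card H :=
  Nat.card_congr (Subgroup.subgroupOfEquivOfLe hHK).toEquiv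

theorem indFun_trans [Fintype G] (H K : Subgroup G) [Fintype K] (hHK : H ≤ K) (θ : H → ℂ) :
    indFun K (indFun (H.subgroupOf K) (fun x => θ ⟨(x : K), Subgroup.mem_subgroupOf.mp x.2⟩))
      = indFun H θ := by
  classical
  funext g
  set θ' : H.subgroupOf K → ℂ := fun x => θ ⟨(x : K), Subgroup.mem_subgroupOf.mp x.2⟩ with hθ'
  -- (d): the extension by zero of the inner induced function
  have hd : ∀ z : G, extendByZero K (indFun (H.subgroupOf K) θ') z
      = (Nat.card H : ℂ)⁻¹ * ∑ y : K, extendByZero H θ ((y : G)⁻¹ * z * (y : G)) := by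
    intro z
    by_cases hz : z ∈ K
    · rw [extendByZero_mem K _ hz, indFun_apply, card_subgroupOf_of_le hHK]
      congr 1
      apply Finset.sum_congr rfl
      intro y _
      rw [hθ', extendByZero_subgroupOf H K θ]
      simp
    · rw [extendByZero_not_mem K _ hz]
      have : ∀ y : K, extendByZero H θ ((y : G)⁻¹ * z * (y : G)) = 0 := by
        intro y
        apply extendByZero_not_mem
        intro h
        apply hz
        have h2 : (y : G)⁻¹ * z * (y : G) ∈ K := hHK h
        have : z = (y : G) * ((y : G)⁻¹ * z * (y : G)) * (y : G)⁻¹ := by group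
        rw [this]
        exact K.mul_mem (K.mul_mem y.2 h2) (K.inv_mem y.2)
      simp [this]
  rw [indFun_apply, indFun_apply]
  simp_rw [hd]
  rw [← Finset.mul_sum, Finset.sum_comm]
  have hinner : ∀ y : K, ∑ x : G, extendByZero H θ ((y : G)⁻¹ * (x⁻¹ * g * x) * (y : G))
      = ∑ x : G, extendByZero H θ (x⁻¹ * g * x) := by
    intro y
    apply Fintype.sum_equiv (Equiv.mulRight (y : G))
    intro x
    simp only [Equiv.coe_mulRight]
    congr 1
    group
  simp_rw [hinner]
  rw [Finset.sum_const, Finset.card_univ, nsmul_eq_mul, ← Nat.card_eq_fintype_card]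
  have hK : (Nat.card K : ℂ) ≠ 0 := card_ne_zero_complex K
  field_simp

end Cfsg.Agent.Lib.helper3.IndFunTrans
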