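import Mathlib
import Cfsg.Prelude.Def_Characters
import Cfsg.Agent.Lib.helper3.Clifford
import Cfsg.Agent.Lib.helper3.IndLin
import Cfsg.Agent.Lib.helper3.IndFunTrans

set_option autoImplicit false
set_option linter.style.haveILetI false
set_option linter.unusedSectionVars false

/-!
# The Clifford correspondence
-/

namespace Cfsg.Agent.Lib.helper3.Irr

open Cfsg Module Cfsg.Agent.Lib.helper3.IndFun Cfsg.Agent.Lib.helper3.CharBasic
open Cfsg.Agent.Lib.helper3.IndFunTrans
open Representation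
open scoped ComplexConjugate

variable {G : Type*} [Group G]

/-- A function on `H` seen as a function on `H` inside a larger subgroup `T`. -/
def subFun (H T : Subgroup G) (θ : H → ℂ) : H.subgroupOf T → ℂ :=
  fun x => θ ⟨(x : T), Subgroup.mem_subgroupOf.mp x.2⟩

theorem isIrrCharacter_subFun [Finite G] {H T : Subgroup G} (hHT : H ≤ T) {θ : H → ℂ}
    (hθ : IsIrrCharacter H θ) : IsIrrCharacter (H.subgroupOf T) (subFun H T θ) :=
  isIrrCharacter_comp_mulEquiv (Subgroup.subgroupOfEquivOfLe hHT) hθ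

theorem classInner_subFun [Finite G] {H T : Subgroup G} (hHT : H ≤ T) [Fintype H]
    [Fintype (H.subgroupOf T)] (φ θ : H → ℂ) :
    classInner (subFun H T φ) (subFun H T θ) = classInner φ θ :=
  classInner_comp_mulEquiv (Subgroup.subgroupOfEquivOfLe hHT) φ θ

/-- The quadratic-form argument behind the Clifford correspondence. -/
theorem clifford_corr_aux [Fintype G] (H T : Subgroup G) [hN : H.Normal] [Fintype T]
    (θ : H → ℂ) (hθ : IsIrrCharacter H θ)
    (hT : ∀ g : G, g ∈ T ↔ ∀ h : H, θ ⟨g * h * g⁻¹, hN.conj_mem h h.2 g⟩ = θ h)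
    (hHT : H ≤ T) :
    ∃ f : IrrCharacter T → ℕ,
      indFun (H.subgroupOf T) (subFun H T θ) = ∑ ψ : IrrCharacter T, (f ψ : ℂ) • (ψ : T → ℂ) ∧
      (∀ ψ, f ψ ≠ 0 → IsIrrCharacter G (indFun T (ψ : T → ℂ))) ∧
      (∀ ψ ψ', f ψ ≠ 0 → f ψ' ≠ 0 → ψ ≠ ψ' →
        classInner (indFun T (ψ : T → ℂ)) (indFun T (ψ' : T → ℂ)) = 0) ∧
      indFun H θ = ∑ ψ : IrrCharacter T, (f ψ : ℂ) • indFun T (ψ : T → ℂ) := by
  classical
  set θ' := subFun H T θ with hθ'def
  have hθ' : IsIrrCharacter (H.subgroupOf T) θ' := isIrrCharacter_subFun hHT hθ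
  have hΘ : IsCharacter T (indFun (H.subgroupOf T) θ') :=
    isCharacter_indFun _ _ (isCharacter_of_isIrrCharacter hθ')
  obtain ⟨f, hf⟩ := exists_decomposition_of_isCharacter hΘ
  have hind : indFun H θ = ∑ ψ : IrrCharacter T, (f ψ : ℂ) • indFun T (ψ : T → ℂ) := by
    rw [← indFun_trans H T hHT θ]
    show indFun T (indFun (H.subgroupOf T) θ') = _
    rw [hf, indFun_sum]
    apply Finset.sum_congr rfl
    intro ψ _
    rw [indFun_smul]
  have hA : ∀ ψ : IrrCharacter T, IsCharacter G (indFun T (ψ : T → ℂ)) :=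
    fun ψ => isCharacter_indFun _ _ (isCharacter_of_isIrrCharacter ψ.2)
  have hn : ∀ ψ ψ' : IrrCharacter T, ∃ n : ℕ,
      classInner (indFun T (ψ : T → ℂ)) (indFun T (ψ' : T → ℂ)) = n :=
    fun ψ ψ' => exists_nat_classInner_of_isCharacter_of_isCharacter (hA ψ) (hA ψ')
  choose n hn using hn
  -- the two norms
  have h1 : (Nat.card H : ℂ) * classInner (indFun H θ) (indFun H θ) = (Nat.card T : ℂ) := by
    rw [card_mul_classInner_indFun_normal H θ hθ]
    congr 1
    exact Nat.card_congr (Equiv.subtypeEquivRight (fun g => (hT g).symm))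
  have h2 : (Nat.card (H.subgroupOf T) : ℂ) * classInner (indFun (H.subgroupOf T) θ')
      (indFun (H.subgroupOf T) θ') = (Nat.card T : ℂ) := by
    rw [card_mul_classInner_indFun_normal (H.subgroupOf T) θ' hθ']
    congr 1
    apply Nat.card_congr
    apply Equiv.subtypeUnivEquiv
    intro t h
    exact (hT t).mp t.2 ⟨(h : T), Subgroup.mem_subgroupOf.mp h.2⟩
  have hcard : Nat.card (H.subgroupOf T) = Nat.card H := card_subgroupOf_of_le hHT
  have hH : (Nat.card H : ℂ) ≠ 0 := card_ne_zero_complex H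
  have h12 : classInner (indFun H θ) (indFun H θ)
      = classInner (indFun (H.subgroupOf T) θ') (indFun (H.subgroupOf T) θ') := by
    rw [hcard, ← h1] at h2
    exact (mul_left_cancel₀ hH h2).symm
  -- in natural numbers
  have h3 : ∑ ψ : IrrCharacter T, ∑ ψ' : IrrCharacter T, f ψ * f ψ' * n ψ ψ'
      = ∑ ψ : IrrCharacter T, f ψ ^ 2 := by
    have hl : classInner (indFun H θ) (indFun H θ)
        = ((∑ ψ : IrrCharacter T, ∑ ψ' : IrrCharacter T, f ψ * f ψ' * n ψ ψ' : ℕ) : ℂ) := by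
      rw [hind, classInner_sum_left]
      push_cast
      apply Finset.sum_congr rfl
      intro ψ _
      rw [classInner_smul_left, classInner_sum_right, Finset.mul_sum]
      apply Finset.sum_congr rfl
      intro ψ' _
      rw [classInner_smul_right, hn, Complex.conj_natCast]
      ring
    have hr : classInner (indFun (H.subgroupOf T) θ') (indFun (H.subgroupOf T) θ')
        = ((∑ ψ : IrrCharacter T, f ψ ^ 2 : ℕ) : ℂ) := by
      rw [hf, classInner_self_decomposition]
    rw [hl, hr] at h12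
    exact_mod_cast h12
  have hnpos : ∀ ψ : IrrCharacter T, 1 ≤ n ψ ψ := by
    intro ψ
    rcases Nat.eq_zero_or_pos (n ψ ψ) with h | h
    · exfalso
      have h0 := hn ψ ψ
      rw [h, Nat.cast_zero] at h0
      have hz := eq_zero_of_classInner_self_eq_zero _ h0
      have h1' := congrFun hz 1
      rw [indFun_apply_one] at h1'
      obtain ⟨d, hd, hd1⟩ := exists_pos_nat_apply_one ψ.2
      rw [hd1] at h1'
      have hidx : T.index ≠ 0 := Subgroup.index_ne_zero_of_finite
      simp only [Pi.zero_apply, mul_eq_zero, Nat.cast_eq_zero] at h1'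
      omega
    · exact h
  have hle : ∀ ψ : IrrCharacter T, f ψ ^ 2 ≤ ∑ ψ' : IrrCharacter T, f ψ * f ψ' * n ψ ψ' := by
    intro ψ
    have := Finset.single_le_sum (f := fun ψ' : IrrCharacter T => f ψ * f ψ' * n ψ ψ')
      (fun i _ => Nat.zero_le _) (Finset.mem_univ ψ)
    refine le_trans ?_ this
    have := hnpos ψ
    nlinarith
  have heq : ∀ ψ : IrrCharacter T, f ψ ^ 2 = ∑ ψ' : IrrCharacter T, f ψ * f ψ' * n ψ ψ' := by
    intro ψ
    exact (Finset.sum_eq_sum_iff_of_le (fun ψ _ => hle ψ)).mp h3.symm ψ (Finset.mem_univ ψ)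
  have hsplit : ∀ ψ : IrrCharacter T, f ψ ≠ 0 →
      n ψ ψ = 1 ∧ ∀ ψ', ψ' ≠ ψ → f ψ' ≠ 0 → n ψ ψ' = 0 := by
    intro ψ hfψ
    have hsum := heq ψ
    rw [← Finset.add_sum_erase Finset.univ _ (Finset.mem_univ ψ)] at hsum
    have hfpos : 0 < f ψ := Nat.pos_of_ne_zero hfψ
    have hnp := hnpos ψ
    have hR : ∑ x ∈ Finset.univ.erase ψ, f ψ * f x * n ψ x = 0 := by
      have : f ψ ^ 2 ≤ f ψ * f ψ * n ψ ψ := by nlinarith
      omega
    have hn1 : n ψ ψ = 1 := by
      rw [hR, add_zero] at hsum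
      have h5 : f ψ * f ψ * n ψ ψ = f ψ * f ψ * 1 := by rw [← hsum]; ring
      exact Nat.eq_of_mul_eq_mul_left (Nat.mul_pos hfpos hfpos) h5
    refine ⟨hn1, ?_⟩
    intro ψ' hne hfψ'
    have := (Finset.sum_eq_zero_iff.mp hR) ψ' (Finset.mem_erase.mpr ⟨hne, Finset.mem_univ _⟩)
    rcases Nat.mul_eq_zero.mp this with h | h
    · rcases Nat.mul_eq_zero.mp h with h | h
      · exact absurd h hfψ
      · exact absurd h hfψ'
    · exact h
  refine ⟨f, hf, ?_, ?_, hind⟩
  · intro ψ hfψ
    apply isIrrCharacter_of_classInner_self_eq_one (hA ψ)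
    rw [hn, (hsplit ψ hfψ).1, Nat.cast_one]
  · intro ψ ψ' hfψ hfψ' hne
    rw [hn, (hsplit ψ hfψ).2 ψ' (Ne.symm hne) hfψ', Nat.cast_zero]

/-- Clifford correspondence: induction from the inertia group is injective on the characters
lying over `θ` and produces irreducible characters. -/
theorem clifford_corr_injective [Fintype G] (H T : Subgroup G) [hN : H.Normal] [Fintype T]
    (θ : H → ℂ) (hθ : IsIrrCharacter H θ)
    (hT : ∀ g : G, g ∈ T ↔ ∀ h : H, θ ⟨g * h * g⁻¹, hN.conj_mem h h.2 g⟩ = θ h)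
    (hHT : H ≤ T) (ψ ψ' : T → ℂ) (hψ : IsIrrCharacter T ψ) (hψ' : IsIrrCharacter T ψ')
    (hc : classInner (indFun (H.subgroupOf T) (subFun H T θ)) ψ ≠ 0)
    (hc' : classInner (indFun (H.subgroupOf T) (subFun H T θ)) ψ' ≠ 0) :
    IsIrrCharacter G (indFun T ψ) ∧ (indFun T ψ = indFun T ψ' → ψ = ψ') := by
  classical
  obtain ⟨f, hf, hirr, horth, -⟩ := clifford_corr_aux H T θ hθ hT hHT
  have hfψ : f ⟨ψ, hψ⟩ ≠ 0 := by
    intro h
    apply hc
    rw [hf]
    have := classInner_decomposition_left (fun χ : IrrCharacter T => (f χ : ℂ)) ⟨ψ, hψ⟩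
    simp only at this
    rw [this, h, Nat.cast_zero]
  have hfψ' : f ⟨ψ', hψ'⟩ ≠ 0 := by
    intro h
    apply hc'
    rw [hf]
    have := classInner_decomposition_left (fun χ : IrrCharacter T => (f χ : ℂ)) ⟨ψ', hψ'⟩
    simp only at this
    rw [this, h, Nat.cast_zero]
  refine ⟨hirr ⟨ψ, hψ⟩ hfψ, ?_⟩
  intro heq
  by_contra hne
  have h0 := horth ⟨ψ, hψ⟩ ⟨ψ', hψ'⟩ hfψ hfψ' (fun h => hne (congrArg Subtype.val h))
  simp only at h0
  rw [← heq, irr_classInner_self (hirr ⟨ψ, hψ⟩ hfψ)] at h0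
  exact one_ne_zero h0

/-- Clifford correspondence: every irreducible character over `θ` is induced from the inertia
group, with the same multiplicity. -/
theorem clifford_corr_surjective [Fintype G] (H : Subgroup G) [hN : H.Normal] [Fintype H]
    (θ : H → ℂ) (hθ : IsIrrCharacter H θ) (T : Subgroup G) [Fintype T]
    (hT : ∀ g : G, g ∈ T ↔ ∀ h : H, θ ⟨g * h * g⁻¹, hN.conj_mem h h.2 g⟩ = θ h)
    (hHT : H ≤ T) (χ : G → ℂ) (hχ : IsIrrCharacter G χ)
    (hcon : classInner (fun n : H => χ n) θ ≠ 0) :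
    ∃ ψ : T → ℂ, IsIrrCharacter T ψ ∧ indFun T ψ = χ ∧
      classInner (fun n : H => ψ ⟨(n : G), hHT n.2⟩) θ = classInner (fun n : H => χ n) θ := by
  classical
  letI : Fintype (H.subgroupOf T) := Fintype.ofFinite _
  obtain ⟨f, hf, hirr, horth, hind⟩ := clifford_corr_aux H T θ hθ hT hHT
  have hcf := isClassFunction_of_isCharacter (isCharacter_of_isIrrCharacter hχ)
  have hfrob : classInner (indFun H θ) χ = conj (classInner (fun n : H => χ n) θ) := by
    rw [frobenius_reciprocity H θ χ hcf, classInner_conj_symm]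
  have hne : classInner (indFun H θ) χ ≠ 0 := by
    rw [hfrob]
    intro h
    apply hcon
    have := congrArg conj h
    simpa using this
  rw [hind, classInner_sum_left] at hne
  obtain ⟨ψ, -, hψ⟩ := Finset.exists_ne_zero_of_sum_ne_zero hne
  rw [classInner_smul_left] at hψ
  have hfψ : f ψ ≠ 0 := by
    intro h
    apply hψ
    rw [h, Nat.cast_zero, zero_mul]
  have hAχ : indFun T (ψ : T → ℂ) = χ := by
    by_contra hne'
    apply hψ
    rw [irr_classInner_eq_zero (hirr ψ hfψ) hχ hne', mul_zero]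
  -- the multiplicity
  have hmult : classInner (indFun H θ) χ = (f ψ : ℂ) := by
    rw [hind, classInner_sum_left, Finset.sum_eq_single ψ]
    · rw [classInner_smul_left, ← hAχ, irr_classInner_self (hirr ψ hfψ), mul_one]
    · intro ψ' _ hne'
      rw [classInner_smul_left]
      by_cases hfψ' : f ψ' = 0
      · rw [hfψ', Nat.cast_zero, zero_mul]
      · rw [← hAχ, horth ψ' ψ hfψ' hfψ hne', mul_zero]
    · intro h; exact absurd (Finset.mem_univ _) h
  have hχθ : classInner (fun n : H => χ n) θ = (f ψ : ℂ) := by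
    have := congrArg conj hfrob
    rw [hmult] at this
    simpa using this.symm
  refine ⟨ψ, ψ.2, hAχ, ?_⟩
  rw [hχθ]
  -- Frobenius reciprocity inside `T`
  have hcfψ := isClassFunction_of_isCharacter (isCharacter_of_isIrrCharacter ψ.2)
  have h1 : classInner (indFun (H.subgroupOf T) (subFun H T θ)) (ψ : T → ℂ) = (f ψ : ℂ) := by
    rw [hf]
    exact classInner_decomposition_left (fun χ : IrrCharacter T => (f χ : ℂ)) ψ
  rw [frobenius_reciprocity (H.subgroupOf T) _ _ hcfψ] at h1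
  have h2 : (fun x : H.subgroupOf T => (ψ : T → ℂ) (x : T))
      = subFun H T (fun n : H => (ψ : T → ℂ) ⟨(n : G), hHT n.2⟩) := rfl
  rw [h2, classInner_subFun hHT, ← classInner_conj_symm] at h1
  have := congrArg conj h1
  simpa using this

end Cfsg.Agent.Lib.helper3.Irr
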