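import Mathlib
import Cfsg.Prelude.Def_Characters
import Cfsg.Agent.Lib.helper3.Clifford

set_option autoImplicit false
set_option linter.style.haveILetI false
set_option linter.unusedSectionVars false

/-!
# Fully ramified characters
-/

namespace Cfsg.Agent.Lib.helper3.Irr

open Cfsg Module Cfsg.Agent.Lib.helper3.IndFun Cfsg.Agent.Lib.helper3.CharBasic
open Representation
open scoped ComplexConjugate

variable {G : Type*} [Group G]

/-- Clifford's theorem for an invariant character. -/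
theorem restrict_eq_smul_of_invariant [Fintype G] (N : Subgroup G) [hN : N.Normal] [Fintype N]
    (χ : G → ℂ) (hχ : IsIrrCharacter G χ) (ϑ : N → ℂ) (hϑ : IsIrrCharacter N ϑ)
    (hcon : classInner (fun n : N => χ n) ϑ ≠ 0)
    (hinv : ∀ (g : G) (n : N), ϑ ⟨g * n * g⁻¹, hN.conj_mem (n : G) n.2 g⟩ = ϑ n) :
    (fun n : N => χ n) = classInner (fun n : N => χ n) ϑ • ϑ := by
  have h := clifford N χ hχ ϑ hϑ hcon
  have hset : {ψ : N → ℂ | ∃ g : G, ψ = fun n : N => ϑ ⟨g * n * g⁻¹, hN.conj_mem n n.2 g⟩}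
      = {ϑ} := by
    ext ψ
    simp only [Set.mem_ofPred_eq, Set.mem_singleton_iff]
    constructor
    · rintro ⟨g, rfl⟩
      funext n
      exact hinv g n
    · rintro rfl
      exact ⟨1, by funext n; exact (hinv 1 n).symm⟩
  rw [hset, finsum_mem_singleton] at h
  exact h

/-- If the restriction is a nonzero multiple of `ϑ` then `ϑ` is invariant. -/
theorem invariant_of_restrict_eq_smul [Finite G] (N : Subgroup G) [hN : N.Normal]
    (χ : G → ℂ) (hχ : IsIrrCharacter G χ) (ϑ : N → ℂ) (c : ℂ) (hc : c ≠ 0)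
    (h : (fun n : N => χ n) = c • ϑ) :
    ∀ (g : G) (n : N), ϑ ⟨g * n * g⁻¹, hN.conj_mem (n : G) n.2 g⟩ = ϑ n := by
  intro g n
  have hcf := isClassFunction_of_isCharacter (isCharacter_of_isIrrCharacter hχ)
  have h1 := congrFun h ⟨g * n * g⁻¹, hN.conj_mem (n : G) n.2 g⟩
  have h2 := congrFun h n
  simp only [Pi.smul_apply, smul_eq_mul] at h1 h2
  rw [hcf (n : G) g, h2] at h1
  exact (mul_left_cancel₀ hc h1).symm

/-- Splitting the norm of `χ` into the part on `N` and the part off `N`. -/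
theorem norm_split [Fintype G] (N : Subgroup G) [Fintype N] (χ : G → ℂ)
    (hχ : IsIrrCharacter G χ) [DecidablePred (fun g : G => g ∈ N)] :
    (Nat.card G : ℂ) = (Nat.card N : ℂ) * classInner (fun n : N => χ n) (fun n : N => χ n)
      + ∑ g ∈ Finset.univ.filter (fun g : G => g ∉ N), χ g * conj (χ g) := by
  have h1 := irr_classInner_self hχ
  rw [classInner_apply] at h1
  have hG : (Nat.card G : ℂ) ≠ 0 := card_ne_zero_complex G
  have hN : (Nat.card N : ℂ) ≠ 0 := card_ne_zero_complex N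
  have h2 : ∑ g : G, χ g * conj (χ g) = (Nat.card G : ℂ) := by
    field_simp at h1
    exact h1
  rw [classInner_apply, ← mul_assoc, mul_inv_cancel₀ hN, one_mul, ← h2]
  rw [← Finset.sum_filter_add_sum_filter_not Finset.univ (fun g : G => g ∈ N)]
  congr 1
  rw [Finset.sum_subtype (p := fun g : G => g ∈ N) _ (by simp)]

theorem fully_ramified_iff [Fintype G] (N : Subgroup G) [hN : N.Normal] [Fintype N]
    (χ : G → ℂ) (hχ : IsIrrCharacter G χ) (ϑ : N → ℂ) (hϑ : IsIrrCharacter N ϑ)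
    (hcon : classInner (fun n : N => χ n) ϑ ≠ 0) :
    ((∃ e : ℕ, (fun n : N => χ n) = (e : ℂ) • ϑ ∧ e ^ 2 = N.index) ↔
      ((∀ g : G, g ∉ N → χ g = 0) ∧
        ∀ (g : G) (n : N), ϑ ⟨g * n * g⁻¹, hN.conj_mem (n : G) n.2 g⟩ = ϑ n)) ∧
    ((∃ e : ℕ, (fun n : N => χ n) = (e : ℂ) • ϑ ∧ e ^ 2 = N.index) ↔
      (∀ (g : G) (n : N), ϑ ⟨g * n * g⁻¹, hN.conj_mem (n : G) n.2 g⟩ = ϑ n ∧
        ∀ ψ : G → ℂ, IsIrrCharacter G ψ → classInner (indFun N ϑ) ψ ≠ 0 → ψ = χ)) := by
  classical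
  have hχc := isCharacter_of_isIrrCharacter hχ
  have hcf := isClassFunction_of_isCharacter hχc
  have hidx : N.index ≠ 0 := Subgroup.index_ne_zero_of_finite
  have hNc : (Nat.card N : ℂ) ≠ 0 := card_ne_zero_complex N
  obtain ⟨dϑ, hdϑ, hϑ1⟩ := exists_pos_nat_apply_one hϑ
  have hϑ1' : ϑ 1 ≠ 0 := by rw [hϑ1]; exact_mod_cast hdϑ.ne'
  obtain ⟨e₀, he₀⟩ := exists_nat_classInner_of_isCharacter (isCharacter_restrict hχc N) ⟨ϑ, hϑ⟩
  simp only at he₀
  -- a multiple of ϑ has the expected norm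
  have hnorm : ∀ e : ℕ, (fun n : N => χ n) = (e : ℂ) • ϑ →
      classInner (fun n : N => χ n) (fun n : N => χ n) = (e : ℂ) ^ 2 := by
    intro e he
    rw [he, classInner_smul_left, classInner_smul_right, irr_classInner_self hϑ,
      Complex.conj_natCast]
    ring
  have hcard : (Nat.card G : ℂ) = (Nat.card N : ℂ) * (N.index : ℂ) := by
    rw [← Nat.cast_mul, Subgroup.card_mul_index]
  have hsplit := norm_split N χ hχ
  -- the off-`N` part vanishes iff `χ` vanishes off `N`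
  have hoff : (∑ g ∈ Finset.univ.filter (fun g : G => g ∉ N), χ g * conj (χ g)) = 0 ↔
      ∀ g : G, g ∉ N → χ g = 0 := by
    constructor
    · intro h g hg
      have h3 : ∑ g ∈ Finset.univ.filter (fun g : G => g ∉ N), Complex.normSq (χ g) = 0 := by
        have : ((∑ g ∈ Finset.univ.filter (fun g : G => g ∉ N), Complex.normSq (χ g) : ℝ) : ℂ)
            = 0 := by
          rw [← h]
          push_cast
          apply Finset.sum_congr rfl
          intro g _
          rw [Complex.mul_conj]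
        exact_mod_cast this
      have h5 := (Finset.sum_eq_zero_iff_of_nonneg
        (fun g _ => Complex.normSq_nonneg (χ g))).mp h3 g
        (Finset.mem_filter.mpr ⟨Finset.mem_univ _, hg⟩)
      exact Complex.normSq_eq_zero.mp h5
    · intro h
      apply Finset.sum_eq_zero
      intro g hg
      rw [h g (Finset.mem_filter.mp hg).2, zero_mul]
  -- under `χ_N = e ϑ`: `e² = index` iff the off-part vanishes
  have hiff : ∀ e : ℕ, (fun n : N => χ n) = (e : ℂ) • ϑ →
      (e ^ 2 = N.index ↔ ∀ g : G, g ∉ N → χ g = 0) := by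
    intro e he
    rw [← hoff]
    rw [hnorm e he, hcard] at hsplit
    constructor
    · intro h
      have : ((e : ℂ)) ^ 2 = (N.index : ℂ) := by exact_mod_cast h
      rw [this] at hsplit
      linear_combination -hsplit
    · intro h
      rw [h, add_zero] at hsplit
      have := mul_left_cancel₀ hNc hsplit
      exact_mod_cast this.symm
  -- invariance gives the multiple
  have hmul : (∀ (g : G) (n : N), ϑ ⟨g * n * g⁻¹, hN.conj_mem (n : G) n.2 g⟩ = ϑ n) →
      (fun n : N => χ n) = (e₀ : ℂ) • ϑ := by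
    intro hinv
    rw [← he₀]
    exact restrict_eq_smul_of_invariant N χ hχ ϑ hϑ hcon hinv
  have hinv_of : ∀ e : ℕ, (fun n : N => χ n) = (e : ℂ) • ϑ → e ^ 2 = N.index →
      ∀ (g : G) (n : N), ϑ ⟨g * n * g⁻¹, hN.conj_mem (n : G) n.2 g⟩ = ϑ n := by
    intro e he he2
    have hene : (e : ℂ) ≠ 0 := by
      intro h
      have : e = 0 := by exact_mod_cast h
      rw [this] at he2
      exact hidx (by simpa using he2.symm)
    exact invariant_of_restrict_eq_smul N χ hχ ϑ (e : ℂ) hene he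
  -- multiplicity of χ in the induced character
  have hfrob : ∀ e : ℕ, (fun n : N => χ n) = (e : ℂ) • ϑ →
      classInner (indFun N ϑ) χ = (e : ℂ) := by
    intro e he
    rw [frobenius_reciprocity N ϑ χ hcf, he, classInner_smul_right, irr_classInner_self hϑ,
      Complex.conj_natCast, mul_one]
  have hind := isCharacter_indFun N ϑ (isCharacter_of_isIrrCharacter hϑ)
  obtain ⟨m, hm⟩ := exists_decomposition_of_isCharacter hind
  have hmψ : ∀ ψ : IrrCharacter G, classInner (indFun N ϑ) (ψ : G → ℂ) = (m ψ : ℂ) := by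
    intro ψ
    rw [hm]
    exact classInner_decomposition_left (fun χ => (m χ : ℂ)) ψ
  -- degrees of the decomposition
  have hdeg : (N.index : ℂ) * ϑ 1 = ∑ ψ : IrrCharacter G, (m ψ : ℂ) * (ψ : G → ℂ) 1 := by
    rw [← indFun_apply_one, hm]
    simp only [Finset.sum_apply, Pi.smul_apply, smul_eq_mul]
  refine ⟨⟨?_, ?_⟩, ⟨?_, ?_⟩⟩
  · rintro ⟨e, he, he2⟩
    exact ⟨(hiff e he).mp he2, hinv_of e he he2⟩
  · rintro ⟨hvan, hinv⟩
    exact ⟨e₀, hmul hinv, (hiff e₀ (hmul hinv)).mpr hvan⟩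
  · rintro ⟨e, he, he2⟩ g n
    refine ⟨hinv_of e he he2 g n, ?_⟩
    intro ψ hψ hne
    by_contra hψχ
    -- the multiplicity of ψ is positive, contradiction by degrees
    have hmχ : (m ⟨χ, hχ⟩ : ℂ) = (e : ℂ) := by rw [← hmψ ⟨χ, hχ⟩]; exact hfrob e he
    have hmχ' : m ⟨χ, hχ⟩ = e := by exact_mod_cast hmχ
    have hmψ0 : m ⟨ψ, hψ⟩ ≠ 0 := by
      intro h0
      apply hne
      rw [hmψ ⟨ψ, hψ⟩, h0, Nat.cast_zero]
    have hχ1 : χ 1 = (e : ℂ) * ϑ 1 := by
      have := congrFun he 1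
      simpa using this
    -- natural number degrees
    have hdegs : ∀ ψ : IrrCharacter G, ∃ d : ℕ, 0 < d ∧ (ψ : G → ℂ) 1 = d :=
      fun ψ => exists_pos_nat_apply_one ψ.2
    choose d hdpos hd using hdegs
    have hdχ : d ⟨χ, hχ⟩ = e * dϑ := by
      have : ((d ⟨χ, hχ⟩ : ℕ) : ℂ) = ((e * dϑ : ℕ) : ℂ) := by
        rw [← hd ⟨χ, hχ⟩]
        push_cast
        rw [← hϑ1]
        exact hχ1
      exact_mod_cast this
    have hdegN : N.index * dϑ = ∑ ψ : IrrCharacter G, m ψ * d ψ := by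
      have : ((N.index * dϑ : ℕ) : ℂ) = ((∑ ψ : IrrCharacter G, m ψ * d ψ : ℕ) : ℂ) := by
        push_cast
        rw [← hϑ1, hdeg]
        apply Finset.sum_congr rfl
        intro ψ _
        rw [hd ψ]
      exact_mod_cast this
    have hne' : (⟨ψ, hψ⟩ : IrrCharacter G) ≠ ⟨χ, hχ⟩ := fun h => hψχ (congrArg Subtype.val h)
    have h2 : m ⟨χ, hχ⟩ * d ⟨χ, hχ⟩ + m ⟨ψ, hψ⟩ * d ⟨ψ, hψ⟩
        ≤ ∑ ψ : IrrCharacter G, m ψ * d ψ := by
      rw [← Finset.add_sum_erase Finset.univ _ (Finset.mem_univ (⟨χ, hχ⟩ : IrrCharacter G))]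
      apply Nat.add_le_add_left
      exact Finset.single_le_sum (f := fun ψ : IrrCharacter G => m ψ * d ψ)
        (fun i _ => Nat.zero_le _)
        (Finset.mem_erase.mpr ⟨hne', Finset.mem_univ _⟩)
    rw [← hdegN, hmχ', hdχ, ← he2] at h2
    have hpos : 0 < m ⟨ψ, hψ⟩ * d ⟨ψ, hψ⟩ :=
      Nat.mul_pos (Nat.pos_of_ne_zero hmψ0) (hdpos _)
    nlinarith
  · intro hC
    have hinv : ∀ (g : G) (n : N), ϑ ⟨g * n * g⁻¹, hN.conj_mem (n : G) n.2 g⟩ = ϑ n :=
      fun g n => (hC g n).1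
    have huniq := (hC 1 1).2
    have he := hmul hinv
    refine ⟨e₀, he, ?_⟩
    have hmχ : (m ⟨χ, hχ⟩ : ℂ) = (e₀ : ℂ) := by rw [← hmψ ⟨χ, hχ⟩]; exact hfrob e₀ he
    have hχ1 : χ 1 = (e₀ : ℂ) * ϑ 1 := by
      have := congrFun he 1
      simpa using this
    rw [Finset.sum_eq_single (⟨χ, hχ⟩ : IrrCharacter G)] at hdeg
    · rw [hmχ] at hdeg
      simp only at hdeg
      rw [hχ1] at hdeg
      have h3 : (N.index : ℂ) = (e₀ : ℂ) * (e₀ : ℂ) := by
        apply mul_right_cancel₀ hϑ1'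
        rw [hdeg]; ring
      have : N.index = e₀ * e₀ := by exact_mod_cast h3
      rw [this]; ring
    · intro ψ _ hψ
      have : m ψ = 0 := by
        by_contra h0
        apply hψ
        apply Subtype.ext
        apply huniq ψ.1 ψ.2
        rw [hmψ ψ]
        exact_mod_cast h0
      rw [this, Nat.cast_zero, zero_mul]
    · intro h; exact absurd (Finset.mem_univ _) h

end Cfsg.Agent.Lib.helper3.Irr
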