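import Mathlib
import Cfsg.Prelude.Def_Characters
import Cfsg.Agent.Lib.helper3.Tate1

set_option autoImplicit false
set_option linter.style.haveILetI false
set_option linter.unusedSectionVars false

/-!
# Tate's tensor power trick: the degree divides the index of the centre
-/

namespace Cfsg.Agent.Lib.helper3.Central

open Cfsg Module Cfsg.Agent.Lib.helper3.IndFun Cfsg.Agent.Lib.helper3.CharBasic
open Cfsg.Agent.Lib.helper3.Irr
open scoped ComplexConjugate
open scoped IsMulCommutative

variable {G : Type*} [Group G]

/-- The product homomorphism on tuples of central elements. -/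
noncomputable def centralProd (G : Type*) [Group G] (m : ℕ) :
    (Fin m → Subgroup.center G) →* Subgroup.center G where
  toFun z := ∏ i, z i
  map_one' := by simp
  map_mul' := fun a b => Finset.prod_mul_distrib

/-- Tuples of central elements as tuples of group elements. -/
def centralIncl (G : Type*) [Group G] (m : ℕ) : (Fin m → Subgroup.center G) →* (Fin m → G) :=
  MonoidHom.piMap (fun _ => (Subgroup.center G).subtype)

theorem centralIncl_apply (m : ℕ) (z : Fin m → Subgroup.center G) (i : Fin m) :
    centralIncl G m z i = (z i : G) := rfl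

theorem centralIncl_injective (m : ℕ) : Function.Injective (centralIncl G m) := by
  intro a b h
  funext i
  apply Subtype.ext
  have := congrFun h i
  simpa [centralIncl_apply] using this

/-- Central tuples with product one. -/
noncomputable def tateSubgroup (G : Type*) [Group G] (m : ℕ) : Subgroup (Fin m → G) :=
  (centralProd G m).ker.map (centralIncl G m)

instance tateSubgroup_normal (m : ℕ) : (tateSubgroup G m).Normal := by
  constructor
  intro n hn g
  obtain ⟨z, hz, rfl⟩ := hn
  have : g * centralIncl G m z * g⁻¹ = centralIncl G m z := by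
    funext i
    simp only [Pi.mul_apply, Pi.inv_apply, centralIncl_apply]
    have := (z i).2
    rw [Subgroup.mem_center_iff] at this
    rw [this (g i)]
    group
  rw [this]
  exact ⟨z, hz, rfl⟩

theorem card_tateSubgroup [Finite G] (m : ℕ) :
    Nat.card (tateSubgroup G (m + 1)) * Nat.card (Subgroup.center G)
      = Nat.card (Subgroup.center G) ^ (m + 1) := by
  classical
  unfold tateSubgroup
  rw [Subgroup.card_map_of_injective (centralIncl_injective (m + 1))]
  have hsurj : (centralProd G (m + 1)).range = ⊤ := by
    rw [MonoidHom.range_eq_top]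
    intro z
    refine ⟨fun i : Fin (m + 1) => if i = 0 then z else 1, ?_⟩
    show ∏ i : Fin (m + 1), (if i = 0 then z else 1) = z
    rw [Finset.prod_ite_eq' Finset.univ (0 : Fin (m + 1)) (fun _ => z)]
    simp
  have h1 := Subgroup.card_mul_index (centralProd G (m + 1)).ker
  rw [Subgroup.index_ker, hsurj, Subgroup.card_top, Nat.card_pi] at h1
  rw [h1]
  simp

theorem tate_const [Fintype G] {V : Type*} [AddCommGroup V] [Module ℂ V]
    [FiniteDimensional ℂ V] (ρ : Representation ℂ G V) [ρ.IsIrreducible] (m : ℕ)
    (f n : Fin m → G) (hn : n ∈ tateSubgroup G m) :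
    ∏ i, ρ.character ((f * n) i) = ∏ i, ρ.character (f i) := by
  obtain ⟨lam, hlam⟩ := exists_central_hom ρ
  obtain ⟨z, hz, rfl⟩ := hn
  have h1 : ∀ i, ρ.character ((f * centralIncl G m z) i) = lam (z i) * ρ.character (f i) := by
    intro i
    rw [Pi.mul_apply, centralIncl_apply]
    exact character_mul_central ρ lam hlam (f i) (z i)
  simp_rw [h1]
  rw [Finset.prod_mul_distrib, ← map_prod]
  have : ∏ i, z i = 1 := hz
  rw [this, map_one, one_mul]

/-- The degree of an irreducible representation divides the index of the centre. -/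
theorem finrank_dvd_index_center [Fintype G] {V : Type*} [AddCommGroup V] [Module ℂ V]
    [FiniteDimensional ℂ V] (ρ : Representation ℂ G V) [ρ.IsIrreducible] :
    finrank ℂ V ∣ (Subgroup.center G).index := by
  classical
  have hχ : IsIrrCharacter G ρ.character := isIrrCharacter_of_rep ρ
  have hz : 0 < Nat.card (Subgroup.center G) := Nat.card_pos
  have hb : 0 < (Subgroup.center G).index := Nat.pos_of_ne_zero Subgroup.index_ne_zero_of_finite
  apply dvd_of_forall_pow_dvd _ (Nat.card (Subgroup.center G)) _ hz hb
  intro m
  have hP := isIrrCharacter_pi (m + 1) hχ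
  obtain ⟨ψ, hψ, hPψ⟩ := exists_eq_inflate hP (tateSubgroup G (m + 1))
    (fun f n hn => tate_const ρ (m + 1) f n hn)
  letI : Fintype ((Fin (m + 1) → G) ⧸ tateSubgroup G (m + 1)) := Fintype.ofFinite _
  obtain ⟨n, hn1, hndvd, -⟩ := irr_degree_dvd_card hψ
  have hψ1 : ψ 1 = ((finrank ℂ V ^ (m + 1) : ℕ) : ℂ) := by
    have := congrFun hPψ 1
    rw [inflate_apply, QuotientGroup.mk_one] at this
    rw [← this]
    simp only [Pi.one_apply, Representation.char_one, Finset.prod_const, Finset.card_univ,
      Fintype.card_fin]
    push_cast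
    rfl
  have hn : n = finrank ℂ V ^ (m + 1) := by
    rw [hn1] at hψ1
    exact_mod_cast hψ1
  rw [hn] at hndvd
  -- cardinalities
  have hq := Subgroup.card_eq_card_quotient_mul_card_subgroup (tateSubgroup G (m + 1))
  rw [Nat.card_pi] at hq
  simp only [Finset.prod_const, Finset.card_univ, Fintype.card_fin] at hq
  have hh := card_tateSubgroup (G := G) m
  have hG := (Subgroup.center G).card_mul_index
  have hhpos : 0 < Nat.card (tateSubgroup G (m + 1)) := Nat.card_pos
  have hqeq : Nat.card ((Fin (m + 1) → G) ⧸ tateSubgroup G (m + 1))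
      = Nat.card (Subgroup.center G) * (Subgroup.center G).index ^ (m + 1) := by
    apply Nat.eq_of_mul_eq_mul_right hhpos
    rw [← hq, ← hG, mul_pow, ← hh]
    ring
  rw [hqeq] at hndvd
  exact hndvd

end Cfsg.Agent.Lib.helper3.Central
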