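import Mathlib
import Cfsg.Prelude.Def_Characters
import Cfsg.Agent.Lib.helper3.Tate2

set_option autoImplicit false
set_option linter.style.haveILetI false
set_option linter.unusedSectionVars false

/-!
# The degree divides the index of any subgroup acting by scalars
-/

namespace Cfsg.Agent.Lib.helper3.Central

open Cfsg Module Cfsg.Agent.Lib.helper3.IndFun Cfsg.Agent.Lib.helper3.CharBasic
open Cfsg.Agent.Lib.helper3.Irr
open scoped ComplexConjugate

variable {G : Type*} [Group G]

/-- If every element of the subgroup `A` acts as a scalar in the irreducible representation `ρ`,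
then the degree of `ρ` divides the index of `A`. -/
theorem finrank_dvd_index_of_scalar [Fintype G] {V : Type*} [AddCommGroup V] [Module ℂ V]
    [FiniteDimensional ℂ V] (ρ : Representation ℂ G V) [ρ.IsIrreducible] (A : Subgroup G)
    (hA : ∀ a ∈ A, ∃ c : ℂ, ρ a = c • LinearMap.id) : finrank ℂ V ∣ A.index := by
  classical
  set K : Subgroup G := ρ.ker with hK
  have hχ : IsIrrCharacter G ρ.character := isIrrCharacter_of_rep ρ
  have hconst : ∀ g n : G, n ∈ K → ρ.character (g * n) = ρ.character g := by
    intro g n hn
    rw [hK, MonoidHom.mem_ker] at hn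
    unfold Representation.character
    rw [map_mul, hn, mul_one]
  obtain ⟨ψ, hψ, hχψ⟩ := exists_eq_inflate hχ K hconst
  letI : Fintype (G ⧸ K) := Fintype.ofFinite _
  obtain ⟨n, σ, hσirr, hσψ⟩ := hψ
  haveI := hσirr
  have h1 := finrank_dvd_index_center σ
  have hfr : finrank ℂ (Fin n → ℂ) = finrank ℂ V := by
    have e1 : ρ.character 1 = ψ 1 := by
      have := congrFun hχψ 1
      rw [inflate_apply, QuotientGroup.mk_one] at this
      exact this
    rw [← hσψ, Representation.char_one, Representation.char_one] at e1
    exact_mod_cast e1.symm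
  rw [hfr] at h1
  -- the image of `A` is central
  have hle : A.map (QuotientGroup.mk' K) ≤ Subgroup.center (G ⧸ K) := by
    rintro _ ⟨a, ha, rfl⟩
    rw [Subgroup.mem_center_iff]
    intro x
    obtain ⟨g, rfl⟩ := QuotientGroup.mk_surjective x
    show (QuotientGroup.mk' K g) * (QuotientGroup.mk' K a) = (QuotientGroup.mk' K a) * (QuotientGroup.mk' K g)
    rw [← map_mul, ← map_mul]
    apply (QuotientGroup.eq).mpr
    rw [hK, MonoidHom.mem_ker]
    obtain ⟨c, hc⟩ := hA a ha
    have hcomm : ρ (g * a) = ρ (a * g) := by
      rw [map_mul, map_mul, hc]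
      ext v
      simp
    rw [map_mul, ← hcomm, ← map_mul, inv_mul_cancel, map_one]
  exact h1.trans ((Subgroup.index_dvd_of_le hle).trans
    (Subgroup.index_map_dvd A (QuotientGroup.mk'_surjective K)))

end Cfsg.Agent.Lib.helper3.Central
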