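import Mathlib
import Cfsg.Prelude.Def_Characters
import Cfsg.Agent.Lib.helper3.ScalarIndex
import Cfsg.Agent.Lib.helper3.CliffCorr
import Cfsg.Agent.Lib.helper3.FullyRam
import Cfsg.Agent.Lib.helper3.Lin

set_option autoImplicit false
set_option linter.style.haveILetI false
set_option linter.unusedSectionVars false

/-!
# Itô's theorem
-/

namespace Cfsg.Agent.Lib.helper3.Irr

open Cfsg Module Cfsg.Agent.Lib.helper3.IndFun Cfsg.Agent.Lib.helper3.CharBasic
open Cfsg.Agent.Lib.helper3.Central Cfsg.Agent.Lib.helper3.Lin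
open scoped ComplexConjugate

variable {G : Type*} [Group G]

/-- The inertia subgroup of a function on a normal subgroup. -/
def inertia (H : Subgroup G) [hN : H.Normal] (θ : H → ℂ) : Subgroup G where
  carrier := {g | conjFun H θ g = θ}
  one_mem' := conjFun_one H θ
  mul_mem' := by
    intro a b ha hb
    show conjFun H θ (a * b) = θ
    have ha' : conjFun H θ a = θ := ha
    have hb' : conjFun H θ b = θ := hb
    rw [← conjFun_mul, ha', hb']
  inv_mem' := by
    intro a ha
    show conjFun H θ a⁻¹ = θ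
    have ha' : conjFun H θ a = θ := ha
    have := conjFun_mul H θ a a⁻¹
    rw [ha', mul_inv_cancel, conjFun_one] at this
    exact this

theorem mem_inertia_iff (H : Subgroup G) [hN : H.Normal] (θ : H → ℂ) (g : G) :
    g ∈ inertia H θ ↔ ∀ h : H, θ ⟨g * h * g⁻¹, hN.conj_mem h h.2 g⟩ = θ h := by
  show conjFun H θ g = θ ↔ _
  rw [funext_iff]
  rfl

theorem le_inertia (H : Subgroup G) [hN : H.Normal] (θ : H → ℂ) (hθ : IsClassFunction H θ) :
    H ≤ inertia H θ := by
  intro g hg
  rw [mem_inertia_iff]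
  intro h
  exact hθ h ⟨g, hg⟩

/-- Itô's theorem: the degree of an irreducible representation divides the index of any
abelian normal subgroup. -/
theorem ito [Fintype G] {V : Type*} [AddCommGroup V] [Module ℂ V] [FiniteDimensional ℂ V]
    (ρ : Representation ℂ G V) [ρ.IsIrreducible] (H : Subgroup G) [hN : H.Normal]
    (hH : ∀ a ∈ H, ∀ b ∈ H, a * b = b * a) : finrank ℂ V ∣ H.index := by
  classical
  letI : Fintype H := Fintype.ofFinite H
  have hχ : IsIrrCharacter G ρ.character := isIrrCharacter_of_rep ρ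
  have hχc := isCharacter_of_isIrrCharacter hχ
  have hres := isCharacter_restrict hχc H
  haveI hnt := nontrivial_of_irreducible ρ
  have hV : finrank ℂ V ≠ 0 := by
    have := finrank_ne_zero_of_irreducible ρ
    exact_mod_cast this
  have hne0 : (fun h : H => ρ.character h) ≠ 0 := by
    intro h0
    have := congrFun h0 1
    simp only [Pi.zero_apply] at this
    rw [show ((1 : H) : G) = 1 from rfl, Representation.char_one] at this
    exact hV (by exact_mod_cast this)
  obtain ⟨lam, hlam⟩ := exists_constituent hres hne0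
  have hlam1 : (lam : H → ℂ) 1 = 1 :=
    apply_one_eq_one_of_comm (fun a b => Subtype.ext (hH a a.2 b b.2)) lam.2
  have hlamc := isCharacter_of_isIrrCharacter lam.2
  set T := inertia H (lam : H → ℂ) with hT
  letI : Fintype T := Fintype.ofFinite T
  have hHT : H ≤ T := le_inertia H _ (isClassFunction_of_isCharacter hlamc)
  obtain ⟨ψ, hψ, hind, hmult⟩ := clifford_corr_surjective H (lam : H → ℂ) lam.2 T
    (fun g => mem_inertia_iff H _ g) hHT ρ.character hχ hlam
  letI : Fintype (H.subgroupOf T) := Fintype.ofFinite _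
  have hlam' : IsIrrCharacter (H.subgroupOf T) (subFun H T (lam : H → ℂ)) :=
    isIrrCharacter_subFun hHT lam.2
  have hcon' : classInner (fun n : H.subgroupOf T => ψ n) (subFun H T (lam : H → ℂ)) ≠ 0 := by
    have h2 : (fun x : H.subgroupOf T => ψ (x : T))
        = subFun H T (fun n : H => ψ ⟨(n : G), hHT n.2⟩) := rfl
    rw [h2, classInner_subFun hHT, hmult]
    exact hlam
  have hinv' : ∀ (t : T) (n : H.subgroupOf T),
      subFun H T (lam : H → ℂ) ⟨t * n * t⁻¹,
        (inferInstance : (H.subgroupOf T).Normal).conj_mem (n : T) n.2 t⟩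
        = subFun H T (lam : H → ℂ) n := by
    intro t n
    exact (mem_inertia_iff H _ (t : G)).mp t.2 ⟨((n : T) : G), Subgroup.mem_subgroupOf.mp n.2⟩
  have hres' := restrict_eq_smul_of_invariant (H.subgroupOf T) ψ hψ _ hlam' hcon' hinv'
  obtain ⟨n, σ, hσirr, hσψ⟩ := hψ
  haveI := hσirr
  have hψ1 : ψ 1 = (finrank ℂ (Fin n → ℂ) : ℂ) := by
    rw [← hσψ, Representation.char_one]
  have hscal : ∀ a ∈ H.subgroupOf T, ∃ c : ℂ, σ a = c • LinearMap.id := by
    intro a ha
    rw [← norm_character_eq_finrank_iff, hσψ]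
    have h3 := congrFun hres' ⟨a, ha⟩
    have h4 := congrFun hres' 1
    simp only [Pi.smul_apply, smul_eq_mul] at h3 h4
    have h5 : subFun H T (lam : H → ℂ) 1 = 1 := hlam1
    rw [h5, mul_one] at h4
    rw [← h4] at h3
    have h6 : ψ a = ψ 1 * subFun H T (lam : H → ℂ) ⟨a, ha⟩ := h3
    have h7 : ‖subFun H T (lam : H → ℂ) ⟨a, ha⟩‖ = 1 := by
      set b : H := ⟨(a : G), Subgroup.mem_subgroupOf.mp ha⟩ with hb
      have : (lam : H → ℂ) b ^ orderOf b = 1 :=
        pow_eq_one_of_linear hlamc hlam1 b (orderOf b) (pow_orderOf_eq_one b)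
      exact norm_eq_one_of_pow_eq_one (orderOf_pos b) this
    rw [h6, norm_mul, h7, mul_one, hψ1]
    simp
  have hdvd := finrank_dvd_index_of_scalar σ (H.subgroupOf T) hscal
  have h8 : (finrank ℂ V : ℂ) = ((T.index * finrank ℂ (Fin n → ℂ) : ℕ) : ℂ) := by
    rw [← Representation.char_one ρ, ← hind, indFun_apply_one, hψ1]
    push_cast
    rfl
  have h9 : finrank ℂ V = T.index * finrank ℂ (Fin n → ℂ) := by exact_mod_cast h8
  rw [h9, ← Subgroup.relIndex_mul_index hHT, mul_comm]
  exact Nat.mul_dvd_mul_right hdvd _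

end Cfsg.Agent.Lib.helper3.Irr
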