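import Mathlib
import Cfsg.Agent.Lib.helper3.BG12H
import Cfsg.Agent.S1416
import Cfsg.Agent.S1417
import Cfsg.Agent.S1418

/-!
# B&G Section 12, part I (helper3): the full Theorem 12.14, case `q ∉ σ(M*)`

Setting of S1424 (`q ∈ σ(M)`, `1 ≠ X ≤ M` a `q`-group, `M* ≠ M` maximal over `N_G(X)`) with
`q ∉ σ(M*)`: then `q ∈ τ₂(M*)`, `M*_σ` is nilpotent, `σ(M) ∩ σ(M*) = ∅`, `M*_σ ∩ M = 1` and
`M ∩ M*` is a complement of `M*_σ` in `M*`.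
-/

set_option autoImplicit false
set_option linter.unusedSectionVars false
set_option linter.unusedVariables false
set_option linter.style.haveILetI false
set_option maxHeartbeats 1000000
open Cfsg
open scoped commutatorElement Pointwise

namespace Cfsg.Agent.Lib.helper3.BG12

open Cfsg.Agent.Lib.Helper7 (IsSylowIn exists_isSylowIn_ge card_subgroupOf_of_le)
open Cfsg.Agent.Lib.Helper8.BGTen Cfsg.Agent.Lib.Helper4.BGTrans
open Cfsg.Agent.Lib.helper3.BG11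
open Cfsg.Agent.H2.BGU (Oq Oq_le isPGroup_Oq le_normalizer_Oq le_Oq_of_isPGroup)
open Cfsg.Agent.H2.BG12 (St1416 St1417 St1418)

universe u

variable {G : Type u} [Group G] [Finite G]

theorem st16 (hG : Cfsg.IsMinSimpleOddOrder G) : St1416 G :=
  fun M hM p _ A hA => Cfsg.Agent.S1416.result hG M hM p A hA

theorem st17 (hG : Cfsg.IsMinSimpleOddOrder G) : St1417 G :=
  fun M hM p _ hp A hA => Cfsg.Agent.S1417.result hG M hM p hp A hA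

theorem st18 (hG : Cfsg.IsMinSimpleOddOrder G) : St1418 G :=
  fun M hM E hE p _ hp A hA => Cfsg.Agent.S1418.result hG M hM E hE p hp A hA

/-- **B&G Theorem 12.14(d)** (`(d1)`, `(d3)`) in the setting of S1424 with `q ∉ σ(M*)` -/
theorem bg1214_d (hG : Cfsg.IsMinSimpleOddOrder G) {M Ms : Subgroup G}
    (hM : IsCoatom M) (hMs : IsCoatom Ms) {q : ℕ} [hq : Fact q.Prime]
    (hqM : q ∈ Cfsg.sigma M) (hqMs : q ∉ Cfsg.sigma Ms) {X : Subgroup G} (hXq : IsPGroup q ↥X)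
    (hX1 : X ≠ ⊥) (hXM : X ≤ M) (hne : Ms ≠ M)
    (hNX : Subgroup.normalizer (X : Set G) ≤ Ms) :
    (∀ g : G, cj g Ms ≠ M) ∧ q ∈ Cfsg.tau2 Ms ∧ Group.IsNilpotent ↥(Cfsg.sigmaCore Ms) ∧
      (∀ p : ℕ, p ∈ Cfsg.sigma M → p ∉ Cfsg.sigma Ms) ∧ Cfsg.sigmaCore Ms ⊓ M = ⊥ ∧
      Cfsg.IsComplIn (M ⊓ Ms) (Cfsg.sigmaCore Ms) Ms ∧
      ∃ S A : Subgroup G, X ≤ S ∧ IsSylowIn q S Ms ∧ S ≤ M ∧
        Subgroup.normalizer (S : Set G) ≤ M ∧ A ≤ S ∧ Cfsg.IsElementaryAbelian q A ∧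
        Nat.card ↥A = q ^ 2 ∧ Subgroup.normalizer (A : Set G) ≤ M := by
  have h16 := st16 hG
  have h17 := st17 hG
  have h18 := st18 hG
  have hXMs : X ≤ Ms := Subgroup.le_normalizer.trans hNX
  have hXq' : IsPGroup q ↥(X.subgroupOf (M ⊓ Ms)) := hXq.comap_subtype
  obtain ⟨S0, hS0⟩ := hXq'.exists_le_sylow
  have hXS : X ≤ (S0 : Subgroup ↥(M ⊓ Ms)).map (M ⊓ Ms).subtype := by
    intro x hx
    exact ⟨⟨x, hXM hx, hXMs hx⟩, hS0 (Subgroup.mem_subgroupOf.mpr hx), rfl⟩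
  obtain ⟨hnc, hNS, hidx⟩ := Cfsg.Agent.S1424.result hG M hM q hqM X hXq hX1 hXM Ms hMs hne hNX
    S0 hXS
  have hSD : IsSylowIn q ((S0 : Subgroup ↥(M ⊓ Ms)).map (M ⊓ Ms).subtype) (M ⊓ Ms) :=
    IsSylowIn.of_sylow S0
  obtain ⟨S, hSdef⟩ : ∃ S : Subgroup G, S = (S0 : Subgroup ↥(M ⊓ Ms)).map (M ⊓ Ms).subtype :=
    ⟨_, rfl⟩
  rw [← hSdef] at hNS hidx hSD hXS
  have hSMs : IsSylowIn q S Ms :=
    sylIn_of_not_dvd (hSD.1.trans inf_le_right) hSD.isPGroup hidx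
  have hSM : S ≤ M := hSD.1.trans inf_le_left
  have hncj : ∀ g : G, cj g Ms ≠ M := by
    intro g hg
    apply hnc g⁻¹
    have : Ms = cj g⁻¹ M := by rw [← hg, cj_inv_cj]
    exact this
  have hτ : q ∈ Cfsg.tau2 Ms := aux1 hG hMs hXq hX1 hNX hqMs
  obtain ⟨A0, hA0Ms, hA0e, hA0c⟩ := Cfsg.Agent.H2.BG12.exists_elem_sq hτ.2.2.2
  obtain ⟨P, hP, hA0P⟩ := exists_isSylowIn_ge (isPGroup_of_elementary hA0e) hA0Ms
  obtain ⟨k, hk, hSk⟩ := hP.conj hSMs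
  have hSk' : S = cj k P := hSk
  have hAS : cj k A0 ≤ S := by rw [hSk']; exact cj_mono k hA0P
  have hAe : Cfsg.IsElementaryAbelian q (cj k A0) :=
    Cfsg.Agent.H2.BG12.isElementaryAbelian_cj hA0e k
  have hAc : Nat.card ↥(cj k A0) = q ^ 2 := by rw [card_cj]; exact hA0c
  have hAM : cj k A0 ≤ M := hAS.trans hSM
  have hAMs : cj k A0 ≤ Ms := hAS.trans hSMs.1
  have hAq : IsPGroup q ↥(cj k A0) := isPGroup_of_elementary hAe
  have hAnc : ¬ IsCyclic ↥(cj k A0) := not_isCyclic_of_elem hq.out hAe hAc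
  obtain ⟨hnil, -, -, -, hTI, -⟩ := h17 Ms hMs q hτ (cj k A0) ⟨hAMs, hAe, hAc⟩
  have hNA : Subgroup.normalizer ((cj k A0 : Subgroup G) : Set G) ≤ M :=
    Cfsg.Agent.H2.BG12.part_c hG h16 hM q (cj k A0) hqM hAq hAM hAnc
  have hdis : ∀ p : ℕ, p ∈ Cfsg.sigma M → p ∉ Cfsg.sigma Ms := by
    intro p hpM hpMs
    haveI : Fact p.Prime := ⟨hpM.1⟩
    obtain ⟨g, hg⟩ := aux2c hG hM hMs hnil hpMs hpM
    exact hnc g hg
  obtain ⟨E0, hE0⟩ := exists_compl hG hMs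
  have hAcop : (Nat.card ↥(cj k A0)).Coprime (Nat.card ↥(Cfsg.sigmaCore Ms)) :=
    coprime_sigmaCore_of_isPGroup hG hMs hqMs hAq
  obtain ⟨m1, hm1, hAm1⟩ := Cfsg.Agent.H2.BG12.exists_cj_compl_ge hG hMs hE0 hAMs hAcop
  have hE1 := Cfsg.Agent.H2.BG12.compl_cj hE0 hm1
  obtain ⟨-, ⟨-, hE1eq, -⟩, -⟩ := h18 Ms hMs (cj m1 E0) hE1 q hτ (cj k A0) ⟨hAm1, hAe, hAc⟩
  have hE1M : cj m1 E0 ≤ M := by rw [← hE1eq]; exact inf_le_right.trans hNA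
  have hbot : Cfsg.sigmaCore Ms ⊓ M = ⊥ := hTI M hM hne.symm hAM
  refine ⟨hncj, hτ, hnil, hdis, hbot, ⟨inf_le_right, sigmaCore_le Ms, ?_, ?_⟩,
    S, cj k A0, hXS, hSMs, hSM, hNS, hAS, hAe, hAc, hNA⟩
  · rw [eq_bot_iff, ← hbot]
    exact le_inf inf_le_right (inf_le_left.trans inf_le_left)
  · intro m hm
    obtain ⟨a, ha, b, hb, hab⟩ := hE1.2.2.2 m hm
    exact ⟨a, ⟨hE1M ha, hE1.1 ha⟩, b, hb, hab⟩

end Cfsg.Agent.Lib.helper3.BG12
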