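import Mathlib
import Cfsg.Agent.Lib.helper3.BG12I
import Cfsg.Agent.S0023
import Cfsg.Agent.Lib.Helper4.BGUniqE
import Cfsg.Agent.Lib.Helper8.BGTenB

/-!
# B&G Section 12, part J (helper3): Theorem 12.14(d2)

`π(M) ∩ σ(M*) ⊆ β(M*)` in the case `q ∉ σ(M*)` of Theorem 12.14.
Proof: if `p ∈ π(M) ∩ σ(M*)`, `p ∉ β(M*)`, then the "primes of `M/O_{p'}(M)` are `≤ p`" clause
of S1414 applied to `(M, q)` and to `(M*, p)` gives `p ≤ q` and `q ≤ p`.
-/

set_option autoImplicit false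
set_option linter.unusedSectionVars false
set_option linter.unusedVariables false
set_option linter.style.haveILetI false
set_option maxHeartbeats 1000000
open Cfsg
open scoped commutatorElement Pointwise

namespace Cfsg.Agent.Lib.helper3.BG12

open Cfsg.Agent.Lib.Helper7 (IsSylowIn exists_isSylowIn_ge card_subgroupOf_of_le)
open Cfsg.Agent.Lib.Helper8.BGTen Cfsg.Agent.Lib.Helper4.BGTrans
open Cfsg.Agent.Lib.helper3.BG11
open Cfsg.Agent.H2.BGU (Oq Oq_le isPGroup_Oq le_normalizer_Oq le_Oq_of_isPGroup)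
open Cfsg.Agent.H2.BG12 (St1416 St1417 St1418)

universe u

variable {G : Type u} [Group G] [Finite G]

/-- **B&G 12.14(d2)** -/
theorem d2 (hG : Cfsg.IsMinSimpleOddOrder G) {M Ms : Subgroup G}
    (hM : IsCoatom M) (hMs : IsCoatom Ms) {q : ℕ} [hq : Fact q.Prime]
    (hqM : q ∈ Cfsg.sigma M) (hτ : q ∈ Cfsg.tau2 Ms) {A : Subgroup G} (hAM : A ≤ M)
    (hAMs : A ≤ Ms) (hAe : Cfsg.IsElementaryAbelian q A) (hAc : Nat.card ↥A = q ^ 2)
    (hcompl : Cfsg.IsComplIn (M ⊓ Ms) (Cfsg.sigmaCore Ms) Ms) {p : ℕ} (hp : p.Prime)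
    (hpM : p ∣ Nat.card ↥M) (hpMs : p ∈ Cfsg.sigma Ms) : p ∈ Cfsg.beta Ms := by
  by_contra hpβ
  haveI : Fact p.Prime := ⟨hp⟩
  have hAq : IsPGroup q ↥A := IsPGroup.of_card hAc
  obtain ⟨-, ⟨hCA, hEeq, -⟩, -⟩ := st18 hG Ms hMs (M ⊓ Ms) hcompl q hτ A
    ⟨le_inf hAM hAMs, hAe, hAc⟩
  have hCAE : Subgroup.centralizer (A : Set G) ≤ M ⊓ Ms := hCA.trans hEeq.le
  obtain ⟨hnil, -, -, hCσ, -⟩ := st17 hG Ms hMs q hτ A ⟨hAMs, hAe, hAc⟩
  have hpne : p ≠ q := by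
    rintro rfl
    exact hτ.2.1 hpMs
  have hpσM : p ∉ Cfsg.sigma M := by
    intro h
    obtain ⟨g, hg⟩ := aux2c hG hM hMs hnil hpMs h
    -- `M* = cj g M` would give `q ∈ σ(M*)`
    have hqMs : q ∈ Cfsg.sigma (cj g M) := Cfsg.Agent.Lib.Helper8.BGTen.sigma_cj g hqM
    rw [← hg] at hqMs
    exact hτ.2.1 hqMs
  -- Step 1: `q ∉ β(M)`
  have hqβ : q ∉ Cfsg.beta M := by
    intro h
    obtain ⟨P, hP⟩ := hAq.exists_le_sylow
    obtain ⟨B, hBP, hBe, hAB⟩ := h.2.2.2 P A hP hAe hAc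
    have hBC : B ≤ Subgroup.centralizer (A : Set G) := by
      intro b hb
      rw [Subgroup.mem_centralizer_iff]
      intro a ha
      have := hBe.1.is_comm.comm (⟨a, hAB.le ha⟩ : ↥B) ⟨b, hb⟩
      simpa using congrArg Subtype.val this
    have hBMs : B ≤ Ms := hBC.trans (hCAE.trans inf_le_right)
    have h1 := Cfsg.Agent.Lib.Helper4.BGUniq.card_le_of_pRankLE hτ.2.2.1 hBe hBMs
    have h2 : A = B := Subgroup.eq_of_le_of_card_ge hAB.le (by rw [hAc]; exact h1)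
    exact hAB.ne h2
  have hqdM : q ∣ Nat.card ↥M := hqM.2.1
  -- Step 2: `p ∣ |M : O_{q'}(M)|`
  have hstep2 : p ∣ (Cfsg.pPrimeCore q ↥M).index := by
    by_contra hnd
    set K : Subgroup ↥M := Cfsg.pPrimeCore q ↥M with hK
    haveI : K.Normal := Cfsg.Agent.H1.pPrimeCore_normal q
    set KG : Subgroup G := K.map M.subtype with hKG
    have hKGM : KG ≤ M := Subgroup.map_subtype_le _
    have hKc : Nat.card ↥KG = Nat.card ↥K := Subgroup.card_map_of_injective M.subtype_injective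
    have hAK : A ≤ Subgroup.normalizer (KG : Set G) :=
      hAM.trans (Cfsg.Agent.Lib.Helper8.BGTen.le_normalizer_map_subtype M K)
    have hcop : (Nat.card ↥A).Coprime (Nat.card ↥KG) := by
      rw [hAc, hKc]
      exact Nat.Coprime.pow_left 2 (Cfsg.Agent.H1.pPrimeCore_coprime q).symm
    haveI : Group.IsSolvable ↥A := Cfsg.Agent.H2.BGU.solvable_of_le_coatom hG hM hAM
    obtain ⟨P, hP⟩ := Cfsg.Agent.S0023.result A KG hAK hcop (Or.inl inferInstance) p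
    set PG : Subgroup G := (P : Subgroup ↥KG).map KG.subtype with hPG
    have hPGs : IsSylowIn p PG KG := IsSylowIn.of_sylow P
    have hPGM : PG ≤ M := hPGs.1.trans hKGM
    have hpK : p ∣ Nat.card ↥KG := by
      rw [hKc]
      have h1 : Nat.card ↥K * K.index = Nat.card ↥M := Subgroup.card_mul_index K
      rw [← h1] at hpM
      rcases (Nat.Prime.dvd_mul hp).mp hpM with h | h
      · exact h
      · exact absurd h hnd
    have hPG1 : p ∣ Nat.card ↥PG := by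
      rw [hPGs.2]
      have : 0 < (Nat.card ↥KG).factorization p :=
        hp.factorization_pos_of_dvd Nat.card_pos.ne' hpK
      exact dvd_pow_self p this.ne'
    have hAσ : A ≤ Cfsg.sigmaCore M :=
      Cfsg.Agent.H2.BG11.le_sigmaCore_of_pgroup hG hM hqM hAM hAq
    have hdisj : PG ⊓ Cfsg.sigmaCore M = ⊥ := by
      apply Disjoint.eq_bot
      apply Subgroup.disjoint_of_coprime_natCard
      obtain ⟨k, hk⟩ := hPGs.isPGroup.exists_card_eq
      rw [hk]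
      exact Nat.Coprime.pow_left k
        ((Nat.Prime.coprime_iff_not_dvd hp).mpr (not_dvd_sigmaCore hG hM hp hpσM))
    have hPGC : PG ≤ Subgroup.centralizer (A : Set G) := by
      intro x hx
      rw [Subgroup.mem_centralizer_iff]
      intro a ha
      have h1 : a * x * a⁻¹ * x⁻¹ ∈ PG ⊓ Cfsg.sigmaCore M := by
        refine Subgroup.mem_inf.mpr ⟨?_, ?_⟩
        · have h2 : a * x * a⁻¹ ∈ PG := (Subgroup.mem_normalizer_iff.mp (hP ha) x).mp hx
          exact PG.mul_mem h2 (PG.inv_mem hx)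
        · have h2 : x * a⁻¹ * x⁻¹ ∈ Cfsg.sigmaCore M :=
            (Subgroup.mem_normalizer_iff.mp (le_normalizer_sigmaCore M (hPGM hx)) a⁻¹).mp
              (Subgroup.inv_mem _ (hAσ ha))
          have e : a * x * a⁻¹ * x⁻¹ = a * (x * a⁻¹ * x⁻¹) := by group
          rw [e]
          exact (Cfsg.sigmaCore M).mul_mem (hAσ ha) h2
      rw [hdisj, Subgroup.mem_bot] at h1
      have e : a * x = (a * x * a⁻¹ * x⁻¹) * (x * a) := by group
      rw [e, h1, one_mul]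
    have hPGE : PG ≤ M ⊓ Ms := hPGC.trans hCAE
    have h3 : p ∣ Nat.card ↥(M ⊓ Ms) := hPG1.trans (Subgroup.card_dvd_of_le hPGE)
    exact Cfsg.Agent.H2.BG12.not_mem_sigma_of_dvd_compl hG hMs hcompl hp h3 hpMs
  have hle1 : p ≤ q :=
    ((Cfsg.Agent.S1414.result hG M hM).2.2.2.2 q hq.out hqdM hqβ).2.2 p hp hstep2
  -- Step 3: `q ∣ |M* : O_{p'}(M*)|`
  have hstep3 : q ∣ (Cfsg.pPrimeCore p ↥Ms).index := by
    by_contra hnd
    set K : Subgroup ↥Ms := Cfsg.pPrimeCore p ↥Ms with hK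
    haveI : K.Normal := Cfsg.Agent.H1.pPrimeCore_normal p
    have hAK : A.subgroupOf Ms ≤ K := by
      apply le_of_coprime_index
      rw [card_subgroupOf_of_le hAMs, hAc]
      exact Nat.Coprime.pow_left 2 ((Nat.Prime.coprime_iff_not_dvd hq.out).mpr hnd)
    set X : Subgroup G := Oq p (Cfsg.sigmaCore Ms) with hX
    have hXMs : X ≤ Ms := (Oq_le p _).trans (sigmaCore_le Ms)
    haveI : (X.subgroupOf Ms).Normal :=
      Subgroup.normal_subgroupOf_of_le_normalizer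
        (Cfsg.Agent.H2.BG11.ExcTriple.le_normalizer_Oq_sigmaCore p Ms)
    have hXp : IsPGroup p ↥(X.subgroupOf Ms) := (isPGroup_Oq hp _).comap_subtype
    have hKC := pPrimeCore_le_centralizer (X.subgroupOf Ms) hXp
    have hXC : X ≤ Cfsg.sigmaCore Ms ⊓ Subgroup.centralizer (A : Set G) := by
      refine le_inf (Oq_le p _) ?_
      intro x hx
      rw [Subgroup.mem_centralizer_iff]
      intro a ha
      have h1 : (⟨a, hAMs ha⟩ : ↥Ms) ∈ Subgroup.centralizer ((X.subgroupOf Ms : Subgroup ↥Ms) : Set ↥Ms) :=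
        hKC (hAK (Subgroup.mem_subgroupOf.mpr ha))
      have h2 := Subgroup.mem_centralizer_iff.mp h1 ⟨x, hXMs hx⟩ (Subgroup.mem_subgroupOf.mpr hx)
      have h3 := congrArg Subtype.val h2
      simpa using h3.symm
    rw [hCσ] at hXC
    exact Cfsg.Agent.H2.BGU.Oq_ne_bot_of_dvd hnil
      (Cfsg.Agent.H2.BG11.dvd_card_sigmaCore hG hMs hpMs) (le_bot_iff.mp hXC)
  have hle2 : q ≤ p :=
    ((Cfsg.Agent.S1414.result hG Ms hMs).2.2.2.2 p hp hpMs.2.1 hpβ).2.2 q hq.out hstep3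
  exact hpne (le_antisymm hle1 hle2)

/-- **B&G 12.14(d2)** in the setting of S1424 with `q ∉ σ(M*)`: `π(M) ∩ σ(M*) ⊆ β(M*)` -/
theorem bg1214_d2 (hG : Cfsg.IsMinSimpleOddOrder G) {M Ms : Subgroup G}
    (hM : IsCoatom M) (hMs : IsCoatom Ms) {q : ℕ} [hq : Fact q.Prime]
    (hqM : q ∈ Cfsg.sigma M) (hqMs : q ∉ Cfsg.sigma Ms) {X : Subgroup G} (hXq : IsPGroup q ↥X)
    (hX1 : X ≠ ⊥) (hXM : X ≤ M) (hne : Ms ≠ M)
    (hNX : Subgroup.normalizer (X : Set G) ≤ Ms) {p : ℕ} (hp : p.Prime)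
    (hpM : p ∣ Nat.card ↥M) (hpMs : p ∈ Cfsg.sigma Ms) : p ∈ Cfsg.beta Ms := by
  obtain ⟨-, hτ, -, -, -, hcompl, S, A, -, hSMs, hSM, -, hAS, hAe, hAc, -⟩ :=
    bg1214_d hG hM hMs hqM hqMs hXq hX1 hXM hne hNX
  exact d2 hG hM hMs hqM hτ (hAS.trans hSM) (hAS.trans hSMs.1) hAe hAc hcompl hp hpM hpMs

end Cfsg.Agent.Lib.helper3.BG12
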