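import Mathlib
import Cfsg.Agent.Lib.helper3.BG12J

/-!
# B&G Section 12, part K (helper3): Lemma 12.15(b)

`Y ≠ 1` a `σ(M)`-subgroup of `G`, `H` a maximal subgroup containing `Y` and not conjugate to `M`,
`p ∈ π(M) ∖ σ(M)` a prime that is not ideal.  Then `r_p(N_H(Y)) ≤ 1`, and if `p ∤ |M'|`
(e.g. `p ∈ τ₁(M)`) then `p ∤ |N_H(Y)'|`.
-/

set_option autoImplicit false
set_option linter.unusedSectionVars false
set_option linter.unusedVariables false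
set_option linter.style.haveILetI false
set_option maxHeartbeats 1000000
open Cfsg
open scoped commutatorElement Pointwise

namespace Cfsg.Agent.Lib.helper3.BG12

open Cfsg.Agent.Lib.Helper7 (IsSylowIn exists_isSylowIn_ge card_subgroupOf_of_le)
open Cfsg.Agent.Lib.Helper8.BGTen Cfsg.Agent.Lib.Helper4.BGTrans
open Cfsg.Agent.Lib.helper3.BG11
open Cfsg.Agent.H2.BGU (Oq Oq_le isPGroup_Oq le_normalizer_Oq le_Oq_of_isPGroup)
open Cfsg.Agent.H2.BG12 (St1416 St1417 St1418)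

universe u

variable {G : Type u} [Group G] [Finite G]

/-- if `p ∉ σ(M)` and `M_σ ∩ L ≠ 1` for a maximal subgroup `L ≠ M` then `r_p(M ∩ L) ≤ 1` -/
theorem pRankLE_one_inf (hG : Cfsg.IsMinSimpleOddOrder G) {M L : Subgroup G}
    (hM : IsCoatom M) (hL : IsCoatom L) (hLM : L ≠ M) {p : ℕ} [hp : Fact p.Prime]
    (hpσ : p ∉ Cfsg.sigma M) (hne : Cfsg.sigmaCore M ⊓ L ≠ ⊥) :
    Cfsg.PRankLE p 1 ↥(M ⊓ L) := by
  by_contra h
  obtain ⟨A, hA, hAe, hAc⟩ := Cfsg.Agent.H2.BG12.exists_elem_sq h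
  have hAM : A ≤ M := hA.trans inf_le_left
  have hpα : p ∉ Cfsg.alpha M := fun h => hpσ (alpha_subset_sigma hG (uT hG) hM h)
  have hτ : p ∈ Cfsg.tau2 M :=
    ⟨hp.out, hpσ, pRankLE_of_not_mem_alpha hp.out hpα,
      not_pRankLE_one_of_elem_sq hp.out hAM hAe hAc⟩
  obtain ⟨-, -, -, -, hTI, -⟩ := st17 hG M hM p hτ A ⟨hAM, hAe, hAc⟩
  exact hne (hTI L hL hLM (hA.trans inf_le_right))

/-- if `M* = B (M ∩ M*)` with `B` a normal `p'`-subgroup of `M*` and `p ∤ |M'|` then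
`p ∤ |M*'|` -/
theorem not_dvd_card_commutator {Ms M B : Subgroup G} (hBMs : B ≤ Ms)
    (hn : Ms ≤ Subgroup.normalizer (B : Set G)) (hsup : Ms ≤ B ⊔ (M ⊓ Ms)) {p : ℕ}
    (hp : p.Prime) (hpB : ¬ p ∣ Nat.card ↥B) (hpM : ¬ p ∣ Nat.card ↥⁅M, M⁆) :
    ¬ p ∣ Nat.card ↥⁅Ms, Ms⁆ := by
  haveI : (B.subgroupOf Ms).Normal := Subgroup.normal_subgroupOf_of_le_normalizer hn
  have hBc : Nat.card ↥(B.subgroupOf Ms) = Nat.card ↥B := card_subgroupOf_of_le hBMs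
  have hsup' : B.subgroupOf Ms ⊔ M.subgroupOf Ms = ⊤ := by
    rw [eq_top_iff]
    intro x _
    have h1 := hsup x.2
    have h2 : (x : G) ∈ (B.subgroupOf Ms ⊔ M.subgroupOf Ms).map Ms.subtype := by
      rw [Subgroup.map_sup, Subgroup.subgroupOf_map_subtype, Subgroup.subgroupOf_map_subtype,
        inf_eq_left.mpr hBMs]
      exact h1
    obtain ⟨y, hy, hyx⟩ := h2
    have : y = x := Subtype.ext hyx
    rwa [this] at hy
  have hJc : ¬ p ∣ Nat.card ↥⁅M.subgroupOf Ms, M.subgroupOf Ms⁆ := by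
    intro h
    apply hpM
    have e : Nat.card ↥((⁅M.subgroupOf Ms, M.subgroupOf Ms⁆).map Ms.subtype)
        = Nat.card ↥⁅M.subgroupOf Ms, M.subgroupOf Ms⁆ :=
      Subgroup.card_map_of_injective Ms.subtype_injective
    rw [← e] at h
    apply h.trans
    apply Subgroup.card_dvd_of_le
    rw [Subgroup.map_commutator, Subgroup.subgroupOf_map_subtype]
    exact Subgroup.commutator_mono inf_le_left inf_le_left
  intro h
  have e : Nat.card ↥⁅Ms, Ms⁆ = Nat.card ↥(_root_.commutator ↥Ms) := by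
    rw [← Subgroup.map_subtype_commutator]
    exact Subgroup.card_map_of_injective Ms.subtype_injective
  rw [e] at h
  have h1 := h.trans (Subgroup.card_dvd_of_le
    (commutator_le_of_sup_eq_top (B.subgroupOf Ms) (M.subgroupOf Ms) hsup'))
  have h2 := Cfsg.Agent.H1.card_sup_mul_card_inf ⁅M.subgroupOf Ms, M.subgroupOf Ms⁆
    (B.subgroupOf Ms) (by
      intro x _
      exact (Subgroup.normalizer_eq_top (H := B.subgroupOf Ms)) ▸ Subgroup.mem_top x)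
  have h3 : p ∣ Nat.card ↥⁅M.subgroupOf Ms, M.subgroupOf Ms⁆ *
      Nat.card ↥(B.subgroupOf Ms) := by
    rw [← h2]
    exact h1.trans (Dvd.intro _ rfl)
  rcases (Nat.Prime.dvd_mul hp).mp h3 with h4 | h4
  · exact hJc h4
  · exact hpB (hBc ▸ h4)

/-- the unified step: `M* ≠ M` maximal, `M* = B (M ∩ M*)` with `B` a normal `p'`-subgroup of
`M*`, `p ∤ |M* : M ∩ M*|`, `M_σ ∩ M* ≠ 1`, `p ∉ σ(M)` -/
theorem jsub_step (hG : Cfsg.IsMinSimpleOddOrder G) {M Ms B : Subgroup G}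
    (hM : IsCoatom M) (hMs : IsCoatom Ms) (hne : Ms ≠ M) (hBMs : B ≤ Ms)
    (hn : Ms ≤ Subgroup.normalizer (B : Set G)) (hsup : Ms ≤ B ⊔ (M ⊓ Ms)) {p : ℕ}
    [hp : Fact p.Prime] (hpB : ¬ p ∣ Nat.card ↥B) (hidx : ¬ p ∣ M.relIndex Ms)
    (hpσ : p ∉ Cfsg.sigma M) (hX : Cfsg.sigmaCore M ⊓ Ms ≠ ⊥) :
    Cfsg.PRankLE p 1 ↥Ms ∧ (¬ p ∣ Nat.card ↥⁅M, M⁆ → ¬ p ∣ Nat.card ↥⁅Ms, Ms⁆) := by
  refine ⟨?_, fun h => not_dvd_card_commutator hBMs hn hsup hp.out hpB h⟩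
  have hr1 : Cfsg.PRankLE p 1 ↥(M ⊓ Ms) := pRankLE_one_inf hG hM hMs hne hpσ hX
  obtain ⟨R, hR, -⟩ := exists_isSylowIn_ge (p := p) (Q := ⊥) (H := M ⊓ Ms) IsPGroup.of_bot bot_le
  have hRMs : IsSylowIn p R Ms := by
    apply sylIn_of_not_dvd (hR.1.trans inf_le_right) hR.isPGroup
    rw [← Subgroup.relIndex_mul_relIndex R (M ⊓ Ms) Ms hR.1 inf_le_right,
      Nat.Prime.dvd_mul hp.out]
    push Not
    refine ⟨not_dvd_relIndex_of_sylIn hR, ?_⟩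
    rw [Subgroup.inf_relIndex_right]
    exact hidx
  have hcyc : IsCyclic ↥R :=
    Cfsg.Agent.Lib.Helper4.BGTw.isCyclic_of_pRankLE_one hG hr1 hR.1 hR.isPGroup
  exact pRankLE_one_of_cyclic_sylow hRMs hcyc

/-- **B&G 12.15(b)**, core: `Y ≤ M` -/
theorem jsub_core (hG : Cfsg.IsMinSimpleOddOrder G) {M : Subgroup G} (hM : IsCoatom M)
    {Y : Subgroup G} (hY1 : Y ≠ ⊥) (hYM : Y ≤ M)
    (hY : ∀ p : ℕ, p.Prime → p ∣ Nat.card ↥Y → p ∈ Cfsg.sigma M) {H : Subgroup G}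
    (hH : IsCoatom H) (hYH : Y ≤ H) (hHM : H ≠ M) {p : ℕ} [hp : Fact p.Prime]
    (hpM : p ∣ Nat.card ↥M) (hpσ : p ∉ Cfsg.sigma M) (hpi : ¬ Cfsg.IsIdealPrime p G) :
    Cfsg.PRankLE p 1 ↥(H ⊓ Subgroup.normalizer (Y : Set G)) ∧
      (¬ p ∣ Nat.card ↥⁅M, M⁆ →
        ¬ p ∣ Nat.card ↥⁅H ⊓ Subgroup.normalizer (Y : Set G),
          H ⊓ Subgroup.normalizer (Y : Set G)⁆) := by
  have hYσ : Y ≤ Cfsg.sigmaCore M := le_sigmaCore_of_sigma_group hG hM hYM hY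
  haveI : Group.IsSolvable ↥Y := Cfsg.Agent.H2.BGU.solvable_of_le_coatom hG hM hYM
  have hF : Cfsg.fittingOf Y ≠ ⊥ := fun h => hY1 (Cfsg.Agent.H2.BGU.eq_bot_of_fittingOf_eq_bot h)
  have hFc : Nat.card ↥(Cfsg.fittingOf Y) ≠ 1 := fun h => hF (Subgroup.card_eq_one.mp h)
  obtain ⟨q, hq, hqd⟩ := Nat.exists_prime_and_dvd hFc
  haveI : Fact q.Prime := ⟨hq⟩
  set X : Subgroup G := Oq q (Cfsg.fittingOf Y) with hXdef
  have hX1 : X ≠ ⊥ :=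
    Cfsg.Agent.H2.BGU.Oq_ne_bot_of_dvd (Cfsg.Agent.H2.BGU.fittingOf_nilpotent Y) hqd
  have hXq : IsPGroup q ↥X := isPGroup_Oq hq _
  have hXY : X ≤ Y := (Oq_le q _).trans (Cfsg.Agent.H2.BGU.fittingOf_le Y)
  have hXM : X ≤ M := hXY.trans hYM
  have hNN : Subgroup.normalizer (Y : Set G) ≤ Subgroup.normalizer (X : Set G) :=
    (Cfsg.Agent.H2.BGU.normalizer_le_normalizer_fittingOf Y).trans
      (Cfsg.Agent.H2.BGU.normalizer_le_normalizer_Oq q _)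
  have hqY : q ∣ Nat.card ↥Y :=
    hqd.trans (Subgroup.card_dvd_of_le (Cfsg.Agent.H2.BGU.fittingOf_le Y))
  have hqσ : q ∈ Cfsg.sigma M := hY q hq hqY
  have hXt : X ≠ ⊤ := ne_top_of_le_coatom hM hXM
  have hNt := normalizer_ne_top' hG hX1 hXt
  obtain ⟨Ms, hMs, hNMs⟩ := exists_coatom_ge hNt
  set N : Subgroup G := H ⊓ Subgroup.normalizer (Y : Set G) with hNdef
  have hNMs' : N ≤ Ms := inf_le_right.trans (hNN.trans hNMs)
  have hXMs : X ≤ Ms := Subgroup.le_normalizer.trans hNMs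
  -- transfer from a bound on a subgroup `K ⊇ N`
  have key : ∀ K : Subgroup G, N ≤ K → Cfsg.PRankLE p 1 ↥K →
      (¬ p ∣ Nat.card ↥⁅M, M⁆ → ¬ p ∣ Nat.card ↥⁅K, K⁆) →
      Cfsg.PRankLE p 1 ↥N ∧ (¬ p ∣ Nat.card ↥⁅M, M⁆ → ¬ p ∣ Nat.card ↥⁅N, N⁆) := by
    intro K hNK h1 h2
    refine ⟨Cfsg.Agent.Lib.Helper4.Rank2Fit.pRankLE_of_le hNK h1, fun h3 h4 => h2 h3 ?_⟩
    exact h4.trans (Subgroup.card_dvd_of_le (Subgroup.commutator_mono hNK hNK))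
  by_cases hMsM : Ms = M
  · -- `N ≤ M ∩ H`
    have hNK : N ≤ M ⊓ H := le_inf (hMsM ▸ hNMs') inf_le_left
    have hne : Cfsg.sigmaCore M ⊓ H ≠ ⊥ := by
      intro h
      apply hY1
      rw [eq_bot_iff, ← h]
      exact le_inf hYσ hYH
    apply key (M ⊓ H) hNK (pRankLE_one_inf hG hM hH hHM hpσ hne)
    intro h3 h4
    exact h3 (h4.trans (Subgroup.card_dvd_of_le (Subgroup.commutator_mono inf_le_left inf_le_left)))
  · have hXne : Cfsg.sigmaCore M ⊓ Ms ≠ ⊥ := by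
      intro h
      apply hX1
      rw [eq_bot_iff, ← h]
      exact le_inf (hXY.trans hYσ) hXMs
    by_cases hqMs : q ∈ Cfsg.sigma Ms
    · obtain ⟨-, -, hP2, -⟩ := bg1214_c hG hM hMs hqσ hqMs hXq hX1 hXM hMsM hNMs
      obtain ⟨hidx, hc1, -⟩ := hP2
      have hpβ : p ∉ Cfsg.beta Ms := fun h => hpi h.2
      obtain ⟨hB1, -⟩ := Cfsg.Agent.S1414.result hG Ms hMs
      have hpB : ¬ p ∣ Nat.card ↥(Cfsg.piCoreOf (Cfsg.beta Ms) Ms) :=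
        fun h => hpβ (hB1.2.1 p hp.out h)
      have hc1' : Ms ≤ Cfsg.piCoreOf (Cfsg.beta Ms) Ms ⊔ (M ⊓ Ms) := by
        rwa [inf_comm] at hc1
      obtain ⟨h1, h2⟩ := jsub_step hG hM hMs hMsM hB1.1
        (Cfsg.Agent.Lib.Helper4.BGTrans.le_normalizer_piCoreOf _ Ms) hc1' hpB
        (hidx p hp.out hpβ) hpσ hXne
      exact key Ms hNMs' h1 h2
    · obtain ⟨-, hτ, -, -, -, hcompl, -⟩ := bg1214_d hG hM hMs hqσ hqMs hXq hX1 hXM hMsM hNMs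
      have hpσMs : p ∉ Cfsg.sigma Ms := by
        intro h
        exact hpi (bg1214_d2 hG hM hMs hqσ hqMs hXq hX1 hXM hMsM hNMs hp.out hpM h).2
      have hpB : ¬ p ∣ Nat.card ↥(Cfsg.sigmaCore Ms) := not_dvd_sigmaCore hG hMs hp.out hpσMs
      have hsup : Ms ≤ Cfsg.sigmaCore Ms ⊔ (M ⊓ Ms) := by
        intro m hm
        obtain ⟨a, ha, b, hb, hab⟩ := hcompl.2.2.2 m hm
        have hn : a ∈ Subgroup.normalizer ((Cfsg.sigmaCore Ms : Subgroup G) : Set G) :=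
          le_normalizer_sigmaCore Ms (hcompl.1 ha)
        -- `a * b = (a b a⁻¹) * a`
        have h1 : a * b * a⁻¹ ∈ Cfsg.sigmaCore Ms := (Subgroup.mem_normalizer_iff.mp hn b).mp hb
        have e : m = (a * b * a⁻¹) * a := by rw [hab]; group
        rw [e]
        exact Subgroup.mul_mem_sup h1 ha
      have hidx : ¬ p ∣ M.relIndex Ms := by
        have h1 := Cfsg.Agent.H2.BG12.card_compl_mul hcompl
        have h2 : Nat.card ↥Ms = (M ⊓ Ms).relIndex Ms * Nat.card ↥(M ⊓ Ms) :=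
          Cfsg.Agent.H1.card_eq_relIndex_mul_card inf_le_right
        rw [Subgroup.inf_relIndex_right] at h2
        have h3 : M.relIndex Ms = Nat.card ↥(Cfsg.sigmaCore Ms) := by
          have hpos : 0 < Nat.card ↥(M ⊓ Ms) := Nat.card_pos
          have : M.relIndex Ms * Nat.card ↥(M ⊓ Ms)
              = Nat.card ↥(Cfsg.sigmaCore Ms) * Nat.card ↥(M ⊓ Ms) := by
            rw [← h2, h1, mul_comm]
          exact Nat.eq_of_mul_eq_mul_right hpos this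
        rw [h3]
        exact hpB
      obtain ⟨h1, h2⟩ := jsub_step hG hM hMs hMsM (sigmaCore_le Ms)
        (le_normalizer_sigmaCore Ms) hsup hpB hidx hpσ hXne
      exact key Ms hNMs' h1 h2

/-- **B&G Lemma 12.15(b)**: `Y ≠ 1` a `σ(M)`-subgroup, `H` a maximal subgroup containing `Y`
and not conjugate to `M`, `p ∈ π(M) ∖ σ(M)` not ideal. Then `r_p(N_H(Y)) ≤ 1`, and
`p ∤ |N_H(Y)'|` if `p ∤ |M'|`. -/
theorem sigma_Jsub_b (hG : Cfsg.IsMinSimpleOddOrder G) {M : Subgroup G} (hM : IsCoatom M)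
    {Y : Subgroup G} (hY1 : Y ≠ ⊥)
    (hY : ∀ p : ℕ, p.Prime → p ∣ Nat.card ↥Y → p ∈ Cfsg.sigma M) {H : Subgroup G}
    (hH : IsCoatom H) (hYH : Y ≤ H) (hncj : ∀ g : G, cj g H ≠ M) {p : ℕ} [hp : Fact p.Prime]
    (hpM : p ∣ Nat.card ↥M) (hpσ : p ∉ Cfsg.sigma M) (hpi : ¬ Cfsg.IsIdealPrime p G) :
    Cfsg.PRankLE p 1 ↥(H ⊓ Subgroup.normalizer (Y : Set G)) ∧
      (¬ p ∣ Nat.card ↥⁅M, M⁆ →
        ¬ p ∣ Nat.card ↥⁅H ⊓ Subgroup.normalizer (Y : Set G),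
          H ⊓ Subgroup.normalizer (Y : Set G)⁆) := by
  obtain ⟨g, hg⟩ := s1425 hG (st16 hG) (st17 hG) (st18 hG) M hM Y hY1 hY
  have hg' : cj g Y ≤ Cfsg.sigmaCore M := hg
  set M' : Subgroup G := cj g⁻¹ M with hM'
  have hM'c : IsCoatom M' := isCoatom_cj hM g⁻¹
  have hYM' : Y ≤ M' := by
    have h1 : cj g⁻¹ (cj g Y) ≤ cj g⁻¹ M := cj_mono g⁻¹ (hg'.trans (sigmaCore_le M))
    rwa [cj_inv_cj] at h1
  have hσ : Cfsg.sigma M' = Cfsg.sigma M := Cfsg.Agent.H2.BG11.sigma_cj g⁻¹ M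
  have hHM' : H ≠ M' := by
    intro h
    apply hncj g
    rw [h, hM', cj_cj_inv]
  have hcomm : Nat.card ↥⁅M', M'⁆ = Nat.card ↥⁅M, M⁆ := by
    have : ⁅M', M'⁆ = cj g⁻¹ ⁅M, M⁆ := by
      rw [hM']
      exact (Subgroup.map_commutator M M (MulAut.conj g⁻¹).toMonoidHom).symm
    rw [this, card_cj]
  obtain ⟨h1, h2⟩ := jsub_core hG hM'c hY1 hYM' (fun r hr hrd => hσ ▸ hY r hr hrd) hH hYH hHM'
    (by rw [hM', card_cj]; exact hpM) (hσ ▸ hpσ) hpi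
  exact ⟨h1, fun h3 => h2 (hcomm ▸ h3)⟩

/-- **B&G Lemma 12.15(b)** for `p ∈ τ₁(M)` -/
theorem sigma_Jsub_tau1 (hG : Cfsg.IsMinSimpleOddOrder G) {M : Subgroup G} (hM : IsCoatom M)
    {Y : Subgroup G} (hY1 : Y ≠ ⊥)
    (hY : ∀ p : ℕ, p.Prime → p ∣ Nat.card ↥Y → p ∈ Cfsg.sigma M) {H : Subgroup G}
    (hH : IsCoatom H) (hYH : Y ≤ H) (hncj : ∀ g : G, cj g H ≠ M) {p : ℕ}
    (hpτ : p ∈ Cfsg.tau1 M) (hpi : ¬ Cfsg.IsIdealPrime p G) :
    ¬ p ∣ Nat.card ↥⁅H ⊓ Subgroup.normalizer (Y : Set G),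
          H ⊓ Subgroup.normalizer (Y : Set G)⁆ := by
  obtain ⟨hpp, hpσ, hpM, hpc, -⟩ := hpτ
  haveI : Fact p.Prime := ⟨hpp⟩
  exact (sigma_Jsub_b hG hM hY1 hY hH hYH hncj hpM hpσ hpi).2 hpc

end Cfsg.Agent.Lib.helper3.BG12
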