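import Mathlib
import Cfsg.Agent.Lib.helper3.BG12K
import Cfsg.Agent.Lib.helper3.BG95D
import Cfsg.Agent.Lib.Helper4.BG1218H

/-!
# B&G Section 13, part B (helper3): Lemma 13.1 (a), (b)

`M`, `H` maximal, not conjugate, `p ∈ π(M) ∖ σ(M)`, `p ∈ π(H)`, `p ∉ τ₁(H)`,
`[M_σ ∩ H, M ∩ H] ≠ 1`.  Then (b) `p ∉ τ₂(H)` and (a) every `p`-subgroup of `M ∩ H`
centralizes `M_σ ∩ H`.
-/

set_option autoImplicit false
set_option linter.unusedSectionVars false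
set_option linter.unusedVariables false
set_option linter.style.haveILetI false
set_option maxHeartbeats 1000000
open Cfsg
open scoped commutatorElement Pointwise

namespace Cfsg.Agent.Lib.helper3.BG13

open Cfsg.Agent.Lib.Helper7 (IsSylowIn exists_isSylowIn_ge card_subgroupOf_of_le)
open Cfsg.Agent.Lib.Helper8.BGTen Cfsg.Agent.Lib.Helper4.BGTrans
open Cfsg.Agent.Lib.helper3.BG11 Cfsg.Agent.Lib.helper3.BG12
open Cfsg.Agent.H2.BGU (Oq Oq_le isPGroup_Oq le_normalizer_Oq le_Oq_of_isPGroup)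
open Cfsg.Agent.H2.BG12 (St1416 St1417 St1418)

universe u

variable {G : Type u} [Group G] [Finite G]

/-- for `p ∈ τ₃(H)` every `p`-subgroup of `H` lies in `H'` -/
theorem pgroup_le_commutator_of_tau3 (hG : Cfsg.IsMinSimpleOddOrder G) {H : Subgroup G}
    {p : ℕ} [hp : Fact p.Prime] (hτ : p ∈ Cfsg.tau3 H) {P₀ : Subgroup G} (hP₀H : P₀ ≤ H)
    (hP₀ : IsPGroup p ↥P₀) : P₀ ≤ ⁅H, H⁆ := by
  obtain ⟨-, -, hdvd, hrk⟩ := hτ
  obtain ⟨P⟩ : Nonempty (Sylow p ↥H) := inferInstance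
  have hPs : IsSylowIn p ((P : Subgroup ↥H).map H.subtype) H := IsSylowIn.of_sylow P
  have hcyc : IsCyclic ↥((P : Subgroup ↥H).map H.subtype) :=
    Cfsg.Agent.Lib.Helper4.BGTw.isCyclic_of_pRankLE_one hG hrk hPs.1 hPs.isPGroup
  haveI : IsCyclic ↥(P : Subgroup ↥H) := by
    let e := (P : Subgroup ↥H).equivMapOfInjective H.subtype H.subtype_injective
    exact isCyclic_of_surjective e.symm.toMonoidHom e.symm.surjective
  have hd' : p ∣ Nat.card ↥(_root_.commutator ↥H) := by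
    have e : Nat.card ↥⁅H, H⁆ = Nat.card ↥(_root_.commutator ↥H) := by
      rw [← Subgroup.map_subtype_commutator]
      exact Subgroup.card_map_of_injective H.subtype_injective
    rwa [← e]
  have hidx : ¬ p ∣ (_root_.commutator ↥H).index := by
    rcases Sylow.not_dvd_card_commutator_or_not_dvd_index_commutator P with h | h
    · exact absurd hd' h
    · exact h
  have h1 : P₀.subgroupOf H ≤ _root_.commutator ↥H := by
    apply le_of_coprime_index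
    rw [card_subgroupOf_of_le hP₀H]
    obtain ⟨k, hk⟩ := hP₀.exists_card_eq
    rw [hk]
    exact Nat.Coprime.pow_left k ((Nat.Prime.coprime_iff_not_dvd hp.out).mpr hidx)
  intro x hx
  rw [← Subgroup.map_subtype_commutator]
  exact ⟨⟨x, hP₀H hx⟩, h1 (Subgroup.mem_subgroupOf.mpr hx), rfl⟩

/-- `H' ∩ E ≤ E'` for a complement `E` of `H_σ` in `H` -/
theorem inf_commutator_le_compl {H E : Subgroup G}
    (hE : Cfsg.IsComplIn E (Cfsg.sigmaCore H) H) : ⁅H, H⁆ ⊓ E ≤ ⁅E, E⁆ := by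
  have hEH : E ≤ H := hE.1
  haveI : ((Cfsg.sigmaCore H).subgroupOf H).Normal :=
    Subgroup.normal_subgroupOf_of_le_normalizer (le_normalizer_sigmaCore H)
  have hsup : (Cfsg.sigmaCore H).subgroupOf H ⊔ E.subgroupOf H = ⊤ := by
    rw [eq_top_iff]
    intro x _
    obtain ⟨a, ha, b, hb, hab⟩ := hE.2.2.2 x.1 x.2
    have hx : x = (⟨a, hEH ha⟩ : ↥H) * ⟨b, sigmaCore_le H hb⟩ := Subtype.ext hab
    rw [hx]
    exact Subgroup.mul_mem _ (Subgroup.mem_sup_right (Subgroup.mem_subgroupOf.mpr ha))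
      (Subgroup.mem_sup_left (Subgroup.mem_subgroupOf.mpr hb))
  have h1 := commutator_le_of_sup_eq_top ((Cfsg.sigmaCore H).subgroupOf H) (E.subgroupOf H) hsup
  rintro x ⟨hxH', hxE⟩
  have hxH : x ∈ H := hEH hxE
  have h2 : (⟨x, hxH⟩ : ↥H) ∈ _root_.commutator ↥H := by
    have h3 : x ∈ ⁅H, H⁆ := hxH'
    rw [← Subgroup.map_subtype_commutator] at h3
    obtain ⟨y, hy, hyx⟩ := h3
    have : y = ⟨x, hxH⟩ := Subtype.ext hyx
    rwa [this] at hy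
  have h3 := h1 h2
  have h4 : x ∈ (⁅E.subgroupOf H, E.subgroupOf H⁆ ⊔ (Cfsg.sigmaCore H).subgroupOf H).map
      H.subtype := ⟨⟨x, hxH⟩, h3, rfl⟩
  rw [Subgroup.map_sup, Subgroup.map_commutator, Subgroup.subgroupOf_map_subtype,
    Subgroup.subgroupOf_map_subtype, inf_eq_left.mpr hEH,
    inf_eq_left.mpr (sigmaCore_le H), sup_comm] at h4
  have hnorm : ⁅E, E⁆ ≤ Subgroup.normalizer ((Cfsg.sigmaCore H : Subgroup G) : Set G) :=
    ((Subgroup.commutator_le_self E).trans hEH).trans (le_normalizer_sigmaCore H)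
  obtain ⟨s, hs, e, he, hxse⟩ :=
    Cfsg.Agent.Lib.Helper4.BG1218.exists_mul_of_mem_sup_le_normalizer hnorm h4
  have he' : e ∈ E := Subgroup.commutator_le_self E he
  have hsE : s ∈ E := by
    have : s = x * e⁻¹ := by rw [hxse]; group
    rw [this]
    exact E.mul_mem hxE (E.inv_mem he')
  have hs1 : s ∈ E ⊓ Cfsg.sigmaCore H := ⟨hsE, hs⟩
  rw [hE.2.2.1, Subgroup.mem_bot] at hs1
  rw [hxse, hs1, one_mul]
  exact he

/-- a prime `p ∈ τ₂(H)` is not ideal -/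
theorem not_ideal_of_tau2 (hG : Cfsg.IsMinSimpleOddOrder G) {H : Subgroup G} (hH : IsCoatom H)
    {p : ℕ} [hp : Fact p.Prime] (hτ : p ∈ Cfsg.tau2 H) : ¬ Cfsg.IsIdealPrime p G := by
  intro hid
  obtain ⟨A0, hA0H, hA0e, hA0c⟩ := Cfsg.Agent.H2.BG12.exists_elem_sq hτ.2.2.2
  have hA0p : IsPGroup p ↥A0 := IsPGroup.of_card hA0c
  obtain ⟨E0, hE0⟩ := exists_compl hG hH
  have hcop : (Nat.card ↥A0).Coprime (Nat.card ↥(Cfsg.sigmaCore H)) :=
    coprime_sigmaCore_of_isPGroup hG hH hτ.2.1 hA0p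
  obtain ⟨m, hm, hAm⟩ := Cfsg.Agent.H2.BG12.exists_cj_compl_ge hG hH hE0 hA0H hcop
  have hE1 := Cfsg.Agent.H2.BG12.compl_cj hE0 hm
  obtain ⟨-, ⟨hCA, -, -⟩, -⟩ := st18 hG H hH (cj m E0) hE1 p hτ A0 ⟨hAm, hA0e, hA0c⟩
  obtain ⟨P, hP⟩ := hA0p.exists_le_sylow
  obtain ⟨B, hBP, hBe, hAB⟩ := hid.2.2 P A0 hP hA0e hA0c
  have hBC : B ≤ Subgroup.centralizer (A0 : Set G) := by
    intro b hb
    rw [Subgroup.mem_centralizer_iff]
    intro a ha
    have := hBe.1.is_comm.comm (⟨a, hAB.le ha⟩ : ↥B) ⟨b, hb⟩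
    simpa using congrArg Subtype.val this
  have hBH : B ≤ H := hBC.trans (hCA.trans inf_le_left)
  have h1 := Cfsg.Agent.Lib.Helper4.BGUniq.card_le_of_pRankLE hτ.2.2.1 hBe hBH
  have h2 : A0 = B := Subgroup.eq_of_le_of_card_ge hAB.le (by rw [hA0c]; exact h1)
  exact hAB.ne h2

/-- **B&G Lemma 13.1(b)** -/
theorem bg131_b (hG : Cfsg.IsMinSimpleOddOrder G) {M H : Subgroup G} (hM : IsCoatom M)
    (hH : IsCoatom H) (hncj : ∀ g : G, cj g H ≠ M) {p : ℕ} [hp : Fact p.Prime]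
    (hpM : p ∣ Nat.card ↥M) (hpσ : p ∉ Cfsg.sigma M)
    (hR : ⁅Cfsg.sigmaCore M ⊓ H, M ⊓ H⁆ ≠ ⊥) : p ∉ Cfsg.tau2 H := by
  intro hτ
  have hodd : Odd (Nat.card G) := hG.1
  set D : Subgroup G := Cfsg.sigmaCore M ⊓ H with hD
  set R : Subgroup G := ⁅D, M ⊓ H⁆ with hRdef
  have hJD : M ⊓ H ≤ Subgroup.normalizer (D : Set G) :=
    Cfsg.Agent.Lib.Helper8.BGTen.le_normalizer_inf (inf_le_left.trans (le_normalizer_sigmaCore M))
      (inf_le_right.trans Subgroup.le_normalizer)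
  have hRD : R ≤ D := Cfsg.Agent.Lib.helper3.BG95.commutator_le_of_le_normalizer hJD
  have hRH' : R ≤ ⁅H, H⁆ := Subgroup.commutator_mono inf_le_right inf_le_right
  have hRH : R ≤ H := hRD.trans inf_le_right
  obtain ⟨A0, hA0H, hA0e, hA0c⟩ := Cfsg.Agent.H2.BG12.exists_elem_sq hτ.2.2.2
  have hA0p : IsPGroup p ↥A0 := IsPGroup.of_card hA0c
  obtain ⟨hnil, -⟩ := st17 hG H hH p hτ A0 ⟨hA0H, hA0e, hA0c⟩
  have hdis : ∀ q : ℕ, q ∈ Cfsg.sigma M → q ∉ Cfsg.sigma H := by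
    intro q hqM hqH
    haveI : Fact q.Prime := ⟨hqM.1⟩
    obtain ⟨g, hg⟩ := aux2c hG hM hH hnil hqH hqM
    apply hncj g⁻¹
    rw [hg, cj_inv_cj]
  have hDcop : (Nat.card ↥D).Coprime (Nat.card ↥(Cfsg.sigmaCore H)) := by
    apply coprime_sigmaCore hG hH
    intro q hq hqD
    exact hdis q (mem_sigma_of_dvd_sigmaCore hG hM hq
      (hqD.trans (Subgroup.card_dvd_of_le inf_le_left)))
  obtain ⟨E0, hE0⟩ := exists_compl hG hH
  obtain ⟨m, hm, hDm⟩ := Cfsg.Agent.H2.BG12.exists_cj_compl_ge hG hH hE0 inf_le_right hDcop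
  have hE1 := Cfsg.Agent.H2.BG12.compl_cj hE0 hm
  set E1 : Subgroup G := cj m E0 with hE1def
  have hAcop : (Nat.card ↥A0).Coprime (Nat.card ↥(Cfsg.sigmaCore H)) :=
    coprime_sigmaCore_of_isPGroup hG hH hτ.2.1 hA0p
  obtain ⟨m2, hm2, hAm2⟩ := Cfsg.Agent.H2.BG12.exists_cj_compl_ge hG hH hE1 hA0H hAcop
  set A : Subgroup G := cj m2⁻¹ A0 with hAdef
  have hAE1 : A ≤ E1 := by
    have h1 := cj_mono m2⁻¹ hAm2
    rwa [cj_inv_cj] at h1
  have hAe : Cfsg.IsElementaryAbelian p A := Cfsg.Agent.H2.BG12.isElementaryAbelian_cj hA0e m2⁻¹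
  have hAc : Nat.card ↥A = p ^ 2 := by rw [hAdef, card_cj]; exact hA0c
  have hAp : IsPGroup p ↥A := IsPGroup.of_card hAc
  have hAH : A ≤ H := hAE1.trans hE1.1
  obtain ⟨⟨hEN, -⟩, -, -⟩ := st18 hG H hH E1 hE1 p hτ A ⟨hAE1, hAe, hAc⟩
  have hp2 : p ≠ 2 := by
    rintro rfl
    have h1 : 2 ∣ Nat.card ↥A := by rw [hAc]; exact dvd_pow_self 2 (by norm_num)
    have h2 : 2 ∣ Nat.card G := h1.trans (Subgroup.card_subgroup_dvd_card A)
    exact (Nat.not_even_iff_odd.mpr hodd) (even_iff_two_dvd.mpr h2)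
  have hpel : ∀ P₁ : Subgroup G, P₁ ≤ E1 → IsPGroup p ↥P₁ →
      P₁ ≤ Subgroup.centralizer (A : Set G) := by
    intro P₁ hP₁E hP₁
    have hsup : IsPGroup p ↥(P₁ ⊔ A) :=
      IsPGroup.to_sup_of_normal_right' hP₁ hAp (hP₁E.trans hEN)
    have hsupH : P₁ ⊔ A ≤ H := sup_le (hP₁E.trans hE1.1) hAH
    have hc := Cfsg.Agent.H2.BG12.comm_of_pgroup_not_sigma hG (st17 hG) hH hτ.2.1 hsupH hsup
    intro x hx
    rw [Subgroup.mem_centralizer_iff]
    intro a ha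
    exact hc a (Subgroup.mem_sup_right ha) x (Subgroup.mem_sup_left hx)
  have hoddE : Odd (Nat.card ↥E1) := Odd.of_dvd_nat hodd (Subgroup.card_subgroup_dvd_card E1)
  have hNN : ⁅E1, E1⁆ ≤ Subgroup.centralizer (A : Set G) :=
    Cfsg.Agent.H2.BG12.commutator_le_centralizer_of_pelements hp2 hAp
      (Cfsg.Agent.H2.BG12.pRankLE_two_of_card hAc) hEN hoddE hpel
  have hRC : R ≤ Subgroup.centralizer (A : Set G) :=
    (le_inf hRH' (hRD.trans hDm)).trans ((inf_commutator_le_compl hE1).trans hNN)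
  have hAN : A ≤ H ⊓ Subgroup.normalizer (R : Set G) :=
    le_inf hAH ((Subgroup.le_centralizer_iff.mp hRC).trans (Subgroup.centralizer_le_normalizer _))
  have hnr : ¬ Cfsg.PRankLE p 1 ↥(H ⊓ Subgroup.normalizer (R : Set G)) :=
    not_pRankLE_one_of_elem_sq hp.out hAN hAe hAc
  have hRσ : ∀ q : ℕ, q.Prime → q ∣ Nat.card ↥R → q ∈ Cfsg.sigma M := by
    intro q hq hqR
    exact mem_sigma_of_dvd_sigmaCore hG hM hq
      (hqR.trans (Subgroup.card_dvd_of_le (hRD.trans inf_le_left)))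
  exact hnr (sigma_Jsub_b hG hM hR hRσ hH hRH hncj hpM hpσ (not_ideal_of_tau2 hG hH hτ)).1

/-- **B&G Lemma 13.1(a)** -/
theorem bg131_a (hG : Cfsg.IsMinSimpleOddOrder G) {M H : Subgroup G} (hM : IsCoatom M)
    (hH : IsCoatom H) (hncj : ∀ g : G, cj g H ≠ M) {p : ℕ} [hp : Fact p.Prime]
    (hpM : p ∣ Nat.card ↥M) (hpσ : p ∉ Cfsg.sigma M) (hpH : p ∣ Nat.card ↥H)
    (hpτ1 : p ∉ Cfsg.tau1 H) (hR : ⁅Cfsg.sigmaCore M ⊓ H, M ⊓ H⁆ ≠ ⊥)
    {P₀ : Subgroup G} (hP₀J : P₀ ≤ M ⊓ H) (hP₀ : IsPGroup p ↥P₀) :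
    P₀ ≤ Subgroup.centralizer ((Cfsg.sigmaCore M ⊓ H : Subgroup G) : Set G) := by
  have hpτ2 : p ∉ Cfsg.tau2 H := bg131_b hG hM hH hncj hpM hpσ hR
  have hP₀H : P₀ ≤ H := hP₀J.trans inf_le_right
  have hP₀M : P₀ ≤ M := hP₀J.trans inf_le_left
  have hP₀H' : P₀ ≤ ⁅H, H⁆ := by
    by_cases hσH : p ∈ Cfsg.sigma H
    · exact (Cfsg.Agent.H2.BG11.le_sigmaCore_of_pgroup hG hH hσH hP₀H hP₀).trans
        (Cfsg.Agent.Lib.Helper5.BGBeta.sigmaCore_le_commutator hG (uT hG) hH)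
    · have hα : p ∉ Cfsg.alpha H := fun h => hσH (alpha_subset_sigma hG (uT hG) hH h)
      have hr2 : Cfsg.PRankLE p 2 ↥H := pRankLE_of_not_mem_alpha hp.out hα
      have hr1 : Cfsg.PRankLE p 1 ↥H := by
        by_contra h
        exact hpτ2 ⟨hp.out, hσH, hr2, h⟩
      have hd : p ∣ Nat.card ↥⁅H, H⁆ := by
        by_contra h
        exact hpτ1 ⟨hp.out, hσH, hpH, h, hr1⟩
      exact pgroup_le_commutator_of_tau3 hG ⟨hp.out, hσH, hd, hr1⟩ hP₀H hP₀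
  set D : Subgroup G := Cfsg.sigmaCore M ⊓ H with hD
  have hP₀D : P₀ ≤ Subgroup.normalizer (D : Set G) :=
    Cfsg.Agent.Lib.Helper8.BGTen.le_normalizer_inf (hP₀M.trans (le_normalizer_sigmaCore M))
      (hP₀H.trans Subgroup.le_normalizer)
  have hcopD : (Nat.card ↥P₀).Coprime (Nat.card ↥D) := by
    obtain ⟨k, hk⟩ := hP₀.exists_card_eq
    rw [hk]
    apply Nat.Coprime.pow_left
    rw [Nat.Prime.coprime_iff_not_dvd hp.out]
    intro h
    exact not_dvd_sigmaCore hG hM hp.out hpσ (h.trans (Subgroup.card_dvd_of_le inf_le_left))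
  haveI : Group.IsSolvable ↥P₀ := Cfsg.Agent.H2.BGU.solvable_of_le_coatom hG hM hP₀M
  have hcc : ⁅⁅D, P₀⁆, P₀⁆ = ⁅D, P₀⁆ :=
    Cfsg.Agent.S0027.result P₀ D hP₀D hcopD (Or.inl inferInstance)
  have hD1D : ⁅D, P₀⁆ ≤ D := Cfsg.Agent.Lib.helper3.BG95.commutator_le_of_le_normalizer hP₀D
  have hbot : ⁅D, P₀⁆ = ⊥ :=
    Cfsg.Agent.Lib.Helper4.BG1218.eq_bot_of_commutator_eq hG hM hH hncj hP₀H'
      (hD1D.trans inf_le_right) (hD1D.trans inf_le_left)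
      (Nat.Coprime.coprime_dvd_right (Subgroup.card_dvd_of_le hD1D) hcopD) hcc
  rw [Subgroup.commutator_comm, Subgroup.commutator_eq_bot_iff_le_centralizer] at hbot
  exact hbot

end Cfsg.Agent.Lib.helper3.BG13
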