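import Mathlib
import Cfsg.Agent.Lib.helper3.BG13B
import Cfsg.Agent.H2.BG13.A
import Cfsg.Agent.S4213

/-!
# B&G Section 13, part C (helper3): three blocks for the `σ`-partition theorem (S1378)

Blueprint Part 14, configuration `Cfg M L t T` of helper2 (`Cfsg.Agent.H2.BG13.Cfg`), `J := M ∩ L`:

* `nilpotent_commutator_of_cfg` : `J'` is nilpotent;
* `exists_compl_le_inf` : a complement of `M_σ` in `M` lying in `J`;
* `exists_hall_normalizes` : in a solvable group `C` with cyclic Sylow `s`- and `s'`-subgroups a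
  Hall `{s, s'}`-subgroup normalizes a `C`-conjugate of a given subgroup of order `s` or `s'`.
-/

set_option autoImplicit false
set_option linter.unusedSectionVars false
set_option linter.unusedVariables false
set_option linter.style.haveILetI false
set_option maxHeartbeats 1000000
open Cfsg
open scoped commutatorElement Pointwise

namespace Cfsg.Agent.Lib.helper3.BG13

open Cfsg.Agent.Lib.Helper7 (IsSylowIn exists_isSylowIn_ge card_subgroupOf_of_le)
open Cfsg.Agent.Lib.Helper8.BGTen Cfsg.Agent.Lib.Helper4.BGTrans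
open Cfsg.Agent.Lib.helper3.BG11 Cfsg.Agent.Lib.helper3.BG12
open Cfsg.Agent.H2.BG13 (Cfg)

universe u

variable {G : Type u} [Group G] [Finite G]

theorem commutator_self_le (M : Subgroup G) : ⁅M, M⁆ ≤ M := by
  rw [Subgroup.commutator_le]
  intro a ha b hb
  rw [commutatorElement_def]
  exact M.mul_mem (M.mul_mem (M.mul_mem ha hb) (M.inv_mem ha)) (M.inv_mem hb)

/-- for `K ≤ M'` the natural map `K → M/N` lands in the image of `M'` -/
theorem exists_hom_commutator (M : Subgroup G) (N : Subgroup ↥M) [N.Normal] {K : Subgroup G}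
    (hK : K ≤ ⁅M, M⁆) :
    ∃ f : ↥K →* ↥((commutator ↥M).map (QuotientGroup.mk' N)),
      ∀ x : ↥K, f x = 1 → (x : G) ∈ N.map M.subtype := by
  have hcm : (commutator ↥M).map M.subtype = ⁅M, M⁆ := by
    rw [commutator_def, Subgroup.map_commutator, ← MonoidHom.range_eq_map, Subgroup.range_subtype]
  have hKM : K ≤ M := hK.trans (commutator_self_le M)
  have hmem : ∀ x : ↥K, Subgroup.inclusion hKM x ∈ commutator ↥M := by
    intro x
    have hx : (x : G) ∈ (commutator ↥M).map M.subtype := by rw [hcm]; exact hK x.2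
    obtain ⟨y, hy, hyx⟩ := hx
    have : Subgroup.inclusion hKM x = y := Subtype.ext hyx.symm
    rw [this]
    exact hy
  refine ⟨((QuotientGroup.mk' N).comp (Subgroup.inclusion hKM)).codRestrict _
    (fun x => ⟨_, hmem x, rfl⟩), ?_⟩
  intro x hx
  have h1 : (QuotientGroup.mk' N) (Subgroup.inclusion hKM x) = 1 := congrArg Subtype.val hx
  rw [QuotientGroup.mk'_apply, QuotientGroup.eq_one_iff] at h1
  exact ⟨_, h1, rfl⟩

/-- **Σ2**: `(M ∩ L)'` is nilpotent -/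
theorem nilpotent_commutator_of_cfg (hG : Cfsg.IsMinSimpleOddOrder G) {M L T : Subgroup G}
    {t : ℕ} (h : Cfg M L t T) : Group.IsNilpotent ↥⁅M ⊓ L, M ⊓ L⁆ := by
  obtain ⟨f, hf⟩ := exists_hom_commutator M (Cfsg.piCore (Cfsg.alpha M) ↥M)
    (K := ⁅M ⊓ L, M ⊓ L⁆) (Subgroup.commutator_mono inf_le_left inf_le_left)
  obtain ⟨g, hg⟩ := exists_hom_commutator L (Cfsg.piCore (Cfsg.alpha L) ↥L)
    (K := ⁅M ⊓ L, M ⊓ L⁆) (Subgroup.commutator_mono inf_le_right inf_le_right)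
  have h5M := Cfsg.Agent.S1405.result hG M h.hM
  have h5L := Cfsg.Agent.S1405.result hG L h.hL
  haveI := h5M.2.2.2.2
  haveI := h5L.2.2.2.2
  have hbot : Cfsg.alphaCore M ⊓ Cfsg.alphaCore L = ⊥ := by
    refine (Subgroup.disjoint_of_coprime_natCard ?_).eq_bot
    apply Nat.coprime_of_dvd
    intro k hk hk1 hk2
    have hkM : k ∈ Cfsg.alpha M := h5M.1.2.1 k hk hk1
    have hkL : k ∈ Cfsg.alpha L := h5L.1.2.1 k hk hk2
    exact h.alpha_not_sigma hG hkM (alpha_subset_sigma hG (uT hG) h.hL hkL)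
  have hinj : Function.Injective (f.prod g) := by
    rw [injective_iff_map_eq_one]
    intro x hx
    have h1 : f x = 1 := congrArg Prod.fst hx
    have h2 : g x = 1 := congrArg Prod.snd hx
    have h3 : (x : G) ∈ Cfsg.alphaCore M ⊓ Cfsg.alphaCore L := ⟨hf x h1, hg x h2⟩
    rw [hbot, Subgroup.mem_bot] at h3
    exact Subtype.ext h3
  exact Group.nilpotent_of_mulEquiv (MonoidHom.ofInjective hinj).symm

theorem not_dvd_relIndex_of_sylIn {p : ℕ} [hp : Fact p.Prime] {S K : Subgroup G}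
    (hS : IsSylowIn p S K) : ¬ p ∣ S.relIndex K := by
  have h1 : Nat.card ↥S * S.relIndex K = Nat.card ↥K := by
    have := Subgroup.relIndex_mul_relIndex ⊥ S K bot_le hS.1
    rwa [Subgroup.relIndex_bot_left, Subgroup.relIndex_bot_left] at this
  have hK : Nat.card ↥K ≠ 0 := Nat.card_pos.ne'
  intro hdvd
  obtain ⟨e, he⟩ : ∃ e, e = (Nat.card ↥K).factorization p := ⟨_, rfl⟩
  have hS2 : Nat.card ↥S = p ^ e := by rw [he]; exact hS.2
  have h2 : p ^ (e + 1) ∣ Nat.card ↥K := by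
    obtain ⟨c, hc⟩ := hdvd
    refine ⟨c, ?_⟩
    rw [← h1, hS2, hc, pow_succ]
    ring
  have := (hp.out.pow_dvd_iff_le_factorization hK).mp h2
  omega

/-- **Σ2**: `M ∩ L` contains a complement of `M_σ` in `M` -/
theorem exists_compl_le_inf (hG : Cfsg.IsMinSimpleOddOrder G) {M L T : Subgroup G}
    {t : ℕ} (h : Cfg M L t T) :
    ∃ E : Subgroup G, Cfsg.IsComplIn E (Cfsg.sigmaCore M) M ∧ E ≤ M ⊓ L := by
  obtain ⟨J, hJ⟩ : ∃ J : Subgroup G, J = M ⊓ L := ⟨_, rfl⟩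
  have hJM : J ≤ M := hJ ▸ inf_le_left
  have hσM : Cfsg.sigmaCore M ≤ M := Cfsg.Agent.H2.BG11.sigmaCore_le M
  have hnσ : M ≤ Subgroup.normalizer (Cfsg.sigmaCore M : Set G) :=
    Cfsg.Agent.H2.BG11.le_normalizer_sigmaCore M
  haveI hNn : ((Cfsg.sigmaCore M).subgroupOf J).Normal :=
    Subgroup.normal_subgroupOf_of_le_normalizer (hJM.trans hnσ)
  have hcop : (Nat.card ↥((Cfsg.sigmaCore M).subgroupOf J)).Coprime
      ((Cfsg.sigmaCore M).subgroupOf J).index := by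
    apply Nat.coprime_of_dvd
    intro p hp h1 h2
    haveI : Fact p.Prime := ⟨hp⟩
    have hpσ : p ∈ Cfsg.sigma M := by
      apply (Cfsg.Agent.H2.BG11.sigmaCore_hall hG h.hM).1 p hp
      have : Nat.card ↥((Cfsg.sigmaCore M).subgroupOf J) ∣ Nat.card ↥(Cfsg.sigmaCore M) := by
        rw [← Subgroup.inf_subgroupOf_right, card_subgroupOf_of_le inf_le_right]
        exact Subgroup.card_dvd_of_le inf_le_left
      exact h1.trans this
    obtain ⟨P, hP, -⟩ := exists_isSylowIn_ge (p := p) (Q := ⊥) (H := J) IsPGroup.of_bot bot_le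
    have hPσ : P ≤ Cfsg.sigmaCore M :=
      Cfsg.Agent.H2.BG11.le_sigmaCore_of_pgroup hG h.hM hpσ (hP.1.trans hJM) hP.isPGroup
    have h3 : (Cfsg.sigmaCore M).relIndex J ∣ P.relIndex J :=
      Subgroup.relIndex_dvd_of_le_left J hPσ
    exact not_dvd_relIndex_of_sylIn hP (h2.trans h3)
  obtain ⟨H, hH⟩ := Subgroup.exists_left_complement'_of_coprime hcop
  refine ⟨H.map J.subtype, ⟨(Subgroup.map_subtype_le _).trans hJM, hσM, ?_, ?_⟩,
    hJ ▸ Subgroup.map_subtype_le _⟩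
  · rw [eq_bot_iff]
    rintro x ⟨⟨a, ha, rfl⟩, hb⟩
    have h1 : a ∈ H ⊓ (Cfsg.sigmaCore M).subgroupOf J :=
      ⟨ha, Subgroup.mem_subgroupOf.mpr hb⟩
    rw [hH.disjoint.eq_bot, Subgroup.mem_bot] at h1
    rw [h1]
    exact Subgroup.one_mem _
  · intro m hm
    have hJα : J ≤ Subgroup.normalizer (Cfsg.alphaCore M : Set G) :=
      hJM.trans (Cfsg.Agent.Lib.Helper4.BG1218.le_normalizer_alphaCore M)
    have hm' : m ∈ Cfsg.alphaCore M ⊔ J := hJ ▸ h.le_sup hG hm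
    obtain ⟨n, hn, j, hj, rfl⟩ :=
      Cfsg.Agent.Lib.Helper4.BG1218.exists_mul_of_mem_sup_le_normalizer hJα hm'
    have hnσ' : n ∈ Cfsg.sigmaCore M := (Cfsg.Agent.S1405.result hG M h.hM).2.2.1 hn
    obtain ⟨⟨⟨a, ha⟩, ⟨b, hb⟩⟩, hab, -⟩ := hH.existsUnique ⟨j, hj⟩
    have hab' : (a : G) * (b : G) = j := by
      have := congrArg Subtype.val hab
      simpa using this
    have hbσ : (b : G) ∈ Cfsg.sigmaCore M := Subgroup.mem_subgroupOf.mp hb
    have haM : (a : G) ∈ M := hJM a.2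
    have hc : (a : G)⁻¹ * n * ((a : G)⁻¹)⁻¹ ∈ Cfsg.sigmaCore M :=
      (Subgroup.mem_normalizer_iff.mp (hnσ (M.inv_mem haM)) n).mp hnσ'
    refine ⟨(a : G), ⟨a, ha, rfl⟩, (a : G)⁻¹ * n * ((a : G)⁻¹)⁻¹ * (b : G),
      (Cfsg.sigmaCore M).mul_mem hc hbσ, ?_⟩
    rw [← hab']
    group

/-- in a cyclic Sylow `r`-subgroup the elements of order dividing `r` form the unique subgroup of
order `r`; hence a nontrivial subgroup `N₀` of exponent `r` of `C` is a `C`-conjugate of any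
subgroup `X` of order `r` -/
theorem eq_cj_of_exponent {C X S N₀ : Subgroup G} {r : ℕ} [hr : Fact r.Prime] (hXC : X ≤ C)
    (hX : Nat.card ↥X = r) (hS : IsSylowIn r S C) (hSc : IsCyclic ↥S) (hN₀C : N₀ ≤ C)
    (hN₀1 : N₀ ≠ ⊥) (hexp : ∀ x ∈ N₀, x ^ r = 1) : ∃ c ∈ C, N₀ = cj c X := by
  have hN₀p : IsPGroup r ↥N₀ := by
    intro x
    refine ⟨1, ?_⟩
    rw [pow_one]
    exact Subtype.ext (hexp x x.2)
  have hXp : IsPGroup r ↥X := IsPGroup.of_card (n := 1) (by rw [hX, pow_one])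
  obtain ⟨S₁, hS₁, hNS₁⟩ := exists_isSylowIn_ge hN₀p hN₀C
  obtain ⟨S₂, hS₂, hXS₂⟩ := exists_isSylowIn_ge hXp hXC
  obtain ⟨a, haC, ha⟩ := hS.conj hS₁
  obtain ⟨b, hbC, hb⟩ := hS.conj hS₂
  have ha' : S₁ = cj a S := ha
  have hb' : S₂ = cj b S := hb
  have h1 : cj a⁻¹ N₀ ≤ S := by
    rw [cj_le_iff, inv_inv, ← ha']; exact hNS₁
  have h2 : cj b⁻¹ X ≤ S := by
    rw [cj_le_iff, inv_inv, ← hb']; exact hXS₂
  have hcX : Nat.card ↥(cj b⁻¹ X) = r := by rw [card_cj]; exact hX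
  -- every element of order dividing `r` of `S` lies in `cj b⁻¹ X`
  have hkey : ∀ x ∈ S, x ^ r = 1 → x ∈ cj b⁻¹ X := by
    intro x hxS hxr
    by_cases hx1 : x = 1
    · rw [hx1]; exact Subgroup.one_mem _
    have ho : orderOf x = r := by
      have hd : orderOf x ∣ r := orderOf_dvd_of_pow_eq_one hxr
      rcases (Nat.dvd_prime hr.out).mp hd with h | h
      · exact absurd (orderOf_eq_one_iff.mp h) hx1
      · exact h
    have hz : Subgroup.zpowers x ≤ S := by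
      rw [Subgroup.zpowers_le]; exact hxS
    have hcz : Nat.card ↥(Subgroup.zpowers x) = Nat.card ↥(cj b⁻¹ X) := by
      rw [Nat.card_zpowers, ho, hcX]
    have := Cfsg.Agent.Lib.Helper4.BGUniq.eq_of_card_eq_of_le_cyclic hS.isPGroup hSc hz h2 hcz
    rw [← this]
    exact Subgroup.mem_zpowers x
  have h3 : cj a⁻¹ N₀ ≤ cj b⁻¹ X := by
    intro x hx
    refine hkey x (h1 hx) ?_
    obtain ⟨n, hn, rfl⟩ := hx
    show (a⁻¹ * n * a⁻¹⁻¹) ^ r = 1
    rw [conj_pow, hexp n hn, mul_one, mul_inv_cancel]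
  have h4 : cj a⁻¹ N₀ ≠ ⊥ := by
    intro hbot
    apply hN₀1
    have : Nat.card ↥(cj a⁻¹ N₀) = 1 := by rw [hbot]; exact Subgroup.card_bot
    rw [card_cj] at this
    exact Subgroup.card_eq_one.mp this
  have h5 : cj a⁻¹ N₀ = cj b⁻¹ X := by
    apply Subgroup.eq_of_le_of_card_ge h3
    rw [hcX]
    have hd : Nat.card ↥(cj a⁻¹ N₀) ∣ r := by
      rw [← hcX]; exact Subgroup.card_dvd_of_le h3
    rcases (Nat.dvd_prime hr.out).mp hd with h | h
    · exact absurd (Subgroup.card_eq_one.mp h) h4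
    · exact h.ge
  refine ⟨a * b⁻¹, C.mul_mem haC (C.inv_mem hbC), ?_⟩
  rw [cj_mul, ← h5, cj_cj_inv]

/-- **Σ9**: `C` solvable with cyclic Sylow `s`- and `s'`-subgroups, `X`, `Y ≤ C` of orders `s ≠ s'`.
Then a Hall `{s, s'}`-subgroup `B` of `C` normalizes a `C`-conjugate of `X` or of `Y`. -/
theorem exists_hall_normalizes {C X Y S S' : Subgroup G} {s s' : ℕ} [hs : Fact s.Prime]
    [hs' : Fact s'.Prime] (hsolv : Group.IsSolvable ↥C) (hXC : X ≤ C) (hYC : Y ≤ C)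
    (hX : Nat.card ↥X = s) (hY : Nat.card ↥Y = s')
    (hS : IsSylowIn s S C) (hSc : IsCyclic ↥S) (hS' : IsSylowIn s' S' C) (hSc' : IsCyclic ↥S') :
    ∃ B : Subgroup G, B ≤ C ∧ ∃ c ∈ C, s ∣ Nat.card ↥B ∧ s' ∣ Nat.card ↥B ∧
      (B ≤ Subgroup.normalizer (cj c X : Set G) ∨ B ≤ Subgroup.normalizer (cj c Y : Set G)) ∧
      ∀ p : ℕ, p.Prime → p ∣ Nat.card ↥B → p = s ∨ p = s' := by
  obtain ⟨B, hBC, hBπ, hBi⟩ := Cfsg.Agent.H1.exists_isPiHallOf ({s, s'} : Set ℕ) C hsolv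
  have hcard : Nat.card ↥B * B.relIndex C = Nat.card ↥C := by
    have := Subgroup.relIndex_mul_relIndex ⊥ B C bot_le hBC
    rwa [Subgroup.relIndex_bot_left, Subgroup.relIndex_bot_left] at this
  have hdvd : ∀ p : ℕ, p.Prime → p ∈ ({s, s'} : Set ℕ) → p ∣ Nat.card ↥C → p ∣ Nat.card ↥B := by
    intro p hp hpπ hpC
    rw [← hcard] at hpC
    rcases (Nat.Prime.dvd_mul hp).mp hpC with h | h
    · exact h
    · exact absurd h (hBi p hp hpπ)
  have hsB : s ∣ Nat.card ↥B :=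
    hdvd s hs.out (Set.mem_insert _ _) (hX ▸ Subgroup.card_dvd_of_le hXC)
  have hs'B : s' ∣ Nat.card ↥B :=
    hdvd s' hs'.out (Set.mem_insert_of_mem _ rfl) (hY ▸ Subgroup.card_dvd_of_le hYC)
  have hprimes : ∀ p : ℕ, p.Prime → p ∣ Nat.card ↥B → p = s ∨ p = s' := by
    intro p hp hpd
    have := hBπ p hp hpd
    simpa using this
  haveI : Nontrivial ↥B := by
    rw [← Finite.one_lt_card_iff_nontrivial]
    exact lt_of_lt_of_le hs.out.one_lt (Nat.le_of_dvd Nat.card_pos hsB)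
  have hBsolv : Group.IsSolvable ↥B :=
    solvable_of_solvable_injective (f := Subgroup.inclusion hBC) (Subgroup.inclusion_injective hBC)
  obtain ⟨N, r, hr, hNn, hN1, hNexp⟩ := Cfsg.Agent.S4213.exists_normal_elementary hBsolv
  haveI : Fact r.Prime := ⟨hr⟩
  obtain ⟨N₀, hN₀⟩ : ∃ N₀ : Subgroup G, N₀ = N.map B.subtype := ⟨_, rfl⟩
  have hN₀B : N₀ ≤ B := hN₀ ▸ Subgroup.map_subtype_le _
  have hN₀1 : N₀ ≠ ⊥ := by
    intro hbot
    apply hN1
    rw [hN₀, Subgroup.map_eq_bot_iff_of_injective _ B.subtype_injective] at hbot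
    exact hbot
  have hN₀exp : ∀ x ∈ N₀, x ^ r = 1 := by
    intro x hx
    rw [hN₀] at hx
    obtain ⟨y, hy, rfl⟩ := hx
    have := congrArg Subtype.val (hNexp y hy)
    simpa using this
  have hBN₀ : B ≤ Subgroup.normalizer (N₀ : Set G) := by
    intro g hg
    apply Cfsg.Agent.H1.mem_normalizer_of_conj_mem
    intro x hx
    rw [hN₀] at hx ⊢
    obtain ⟨y, hy, rfl⟩ := hx
    exact ⟨(⟨g, hg⟩ : ↥B) * y * (⟨g, hg⟩ : ↥B)⁻¹, hNn.conj_mem y hy ⟨g, hg⟩, rfl⟩
  have hrB : r ∣ Nat.card ↥B := by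
    have hrN : r ∣ Nat.card ↥N₀ := by
      have hp : IsPGroup r ↥N₀ := by
        intro x
        refine ⟨1, ?_⟩
        rw [pow_one]
        exact Subtype.ext (hN₀exp x x.2)
      obtain ⟨n, hn⟩ := hp.exists_card_eq
      rw [hn]
      have hn0 : n ≠ 0 := by
        rintro rfl
        rw [pow_zero] at hn
        exact hN₀1 (Subgroup.card_eq_one.mp hn)
      exact dvd_pow_self r hn0
    exact hrN.trans (Subgroup.card_dvd_of_le hN₀B)
  rcases hprimes r hr hrB with rfl | rfl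
  · obtain ⟨c, hcC, hc⟩ := eq_cj_of_exponent hXC hX hS hSc (hN₀B.trans hBC) hN₀1 hN₀exp
    exact ⟨B, hBC, c, hcC, hsB, hs'B, Or.inl (hc ▸ hBN₀), hprimes⟩
  · obtain ⟨c, hcC, hc⟩ := eq_cj_of_exponent hYC hY hS' hSc' (hN₀B.trans hBC) hN₀1 hN₀exp
    exact ⟨B, hBC, c, hcC, hsB, hs'B, Or.inr (hc ▸ hBN₀), hprimes⟩

end Cfsg.Agent.Lib.helper3.BG13
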