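import Mathlib
import Cfsg.Agent.Lib.helper3.BG13C
import Cfsg.Agent.S1428

/-!
# B&G Section 13, part D (helper3): two more blocks for the `σ`-partition theorem (S1378)

* `fpf_transfer` (H3-4): under coprime action, if the acting group has no fixed points on one
  invariant Sylow `q`-subgroup then it has none on every invariant Sylow `q`-subgroup;
* `tau1_hall_prime_action` (H3-5, blueprint Part 14 Σ5): a Hall `τ₁(M)`-subgroup `E₁` of a
  complement `E` acts in a prime manner on `M_σ`.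
-/

set_option autoImplicit false
set_option linter.unusedSectionVars false
set_option linter.unusedVariables false
set_option linter.style.haveILetI false
set_option maxHeartbeats 1000000
open Cfsg
open scoped commutatorElement Pointwise

namespace Cfsg.Agent.Lib.helper3.BG13

open Cfsg.Agent.Lib.Helper7 (IsSylowIn exists_isSylowIn_ge card_subgroupOf_of_le)
open Cfsg.Agent.Lib.Helper8.BGTen Cfsg.Agent.Lib.Helper4.BGTrans
open Cfsg.Agent.Lib.helper3.BG11 Cfsg.Agent.Lib.helper3.BG12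

universe u

variable {G : Type u} [Group G] [Finite G]

theorem isPiHallOf_singleton_of_sylIn {q : ℕ} [hq : Fact q.Prime] {Q K : Subgroup G}
    (hQ : IsSylowIn q Q K) : Cfsg.IsPiHallOf ({q} : Set ℕ) Q K := by
  refine ⟨hQ.1, ?_, ?_⟩
  · intro p hp hpd
    obtain ⟨n, hn⟩ := hQ.isPGroup.exists_card_eq
    rw [hn] at hpd
    exact (Nat.prime_dvd_prime_iff_eq hp hq.out).mp (hp.dvd_of_dvd_pow hpd)
  · intro p hp hpq
    rw [Set.mem_singleton_iff] at hpq
    rw [hpq]
    exact not_dvd_relIndex_of_sylIn hQ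

/-- **(H3-4)** coprime transfer of fixed-point-freeness between invariant Sylow subgroups -/
theorem fpf_transfer {P K Q₀ Q : Subgroup G} {q : ℕ} [hq : Fact q.Prime]
    (hPK : P ≤ Subgroup.normalizer (K : Set G)) (hcop : (Nat.card ↥P).Coprime (Nat.card ↥K))
    (hsolv : Group.IsSolvable ↥K) (hQ₀ : IsSylowIn q Q₀ K) (hQ : IsSylowIn q Q K)
    (hPQ₀ : P ≤ Subgroup.normalizer (Q₀ : Set G)) (hPQ : P ≤ Subgroup.normalizer (Q : Set G))
    (h0 : Q₀ ⊓ Subgroup.centralizer (P : Set G) = ⊥) :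
    Q ⊓ Subgroup.centralizer (P : Set G) = ⊥ := by
  obtain ⟨c, hc, hcQ⟩ := Cfsg.Agent.H1.invariant_isPiHallOf_conj P K hPK hcop hsolv ({q} : Set ℕ)
    Q₀ Q (isPiHallOf_singleton_of_sylIn hQ₀) hPQ₀ (isPiHallOf_singleton_of_sylIn hQ) hPQ
  have hcC : c ∈ Subgroup.centralizer (P : Set G) := hc.2
  rw [eq_bot_iff]
  intro x hx
  obtain ⟨hxQ, hxC⟩ := Subgroup.mem_inf.mp hx
  rw [hcQ] at hxQ
  obtain ⟨y, hy, rfl⟩ := hxQ
  have hyC : y ∈ Subgroup.centralizer (P : Set G) := by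
    have h1 : c⁻¹ * (c * y * c⁻¹) * c ∈ Subgroup.centralizer (P : Set G) :=
      Subgroup.mul_mem _ (Subgroup.mul_mem _ (Subgroup.inv_mem _ hcC) hxC) hcC
    have e : c⁻¹ * (c * y * c⁻¹) * c = y := by group
    rwa [e] at h1
  have hy1 : y ∈ Q₀ ⊓ Subgroup.centralizer (P : Set G) := Subgroup.mem_inf.mpr ⟨hy, hyC⟩
  rw [h0, Subgroup.mem_bot] at hy1
  rw [Subgroup.mem_bot, hy1]
  simp

/-- **(H3-5)**, blueprint Part 14 Σ5: a Hall `τ₁(M)`-subgroup `E₁` of a complement `E` of `M_σ`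
acts in a prime manner on `M_σ`. -/
theorem tau1_hall_prime_action (hG : Cfsg.IsMinSimpleOddOrder G) {M E E₁ : Subgroup G}
    (hM : IsCoatom M) (hE : Cfsg.IsComplIn E (Cfsg.sigmaCore M) M)
    (hE₁ : Cfsg.IsPiHallOf (Cfsg.tau1 M) E₁ E) :
    ∀ x ∈ E₁, x ≠ 1 →
      Cfsg.sigmaCore M ⊓ Subgroup.centralizer ({x} : Set G) =
        Cfsg.sigmaCore M ⊓ Subgroup.centralizer (E₁ : Set G) := by
  intro x hxE₁ hx1
  have hcyc : IsCyclic ↥E₁ := (Cfsg.Agent.S1415.result hG M hM E hE).2.1 E₁ hE₁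
  have hcomm : ∀ a ∈ E₁, ∀ b ∈ E₁, a * b = b * a := by
    intro a ha b hb
    haveI := hcyc
    have := IsCyclic.commGroup.mul_comm (⟨a, ha⟩ : ↥E₁) ⟨b, hb⟩
    exact congrArg Subtype.val this
  have hE₁E : E₁ ≤ E := hE₁.1
  have hEM : E ≤ M := hE.1
  apply le_antisymm
  swap
  · exact inf_le_inf_left _ (Subgroup.centralizer_le (Set.singleton_subset_iff.mpr hxE₁))
  intro z hz
  obtain ⟨hzσ, hzx⟩ := Subgroup.mem_inf.mp hz
  refine Subgroup.mem_inf.mpr ⟨hzσ, ?_⟩
  have hzx' : x * z = z * x := by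
    have := Subgroup.mem_centralizer_iff.mp hzx x (Set.mem_singleton x)
    exact this
  -- a subgroup `P_q` of prime order `q` of `⟨x⟩`
  have hox : orderOf x ≠ 1 := fun h => hx1 (orderOf_eq_one_iff.mp h)
  obtain ⟨q, hq, hqx⟩ := Nat.exists_prime_and_dvd hox
  haveI : Fact q.Prime := ⟨hq⟩
  have hqE₁ : q ∣ Nat.card ↥E₁ := by
    have h1 : orderOf (⟨x, hxE₁⟩ : ↥E₁) ∣ Nat.card ↥E₁ := orderOf_dvd_natCard _
    rw [Subgroup.orderOf_mk] at h1
    exact hqx.trans h1
  have hqτ : q ∈ Cfsg.tau1 M := hE₁.2.1 q hq hqE₁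
  obtain ⟨w, hw⟩ : ∃ w : G, w = x ^ (orderOf x / q) := ⟨_, rfl⟩
  have how : orderOf w = q := by
    rw [hw]
    exact orderOf_pow_orderOf_div (orderOf_pos x).ne' hqx
  have hwE₁ : w ∈ E₁ := by rw [hw]; exact E₁.pow_mem hxE₁ _
  have hPqE₁ : Subgroup.zpowers w ≤ E₁ := by rw [Subgroup.zpowers_le]; exact hwE₁
  have hPqc : Nat.card ↥(Subgroup.zpowers w) = q := by rw [Nat.card_zpowers, how]
  have hzw : w * z = z * w := by
    have h1 : Commute x z := hzx'
    rw [hw]
    exact (h1.pow_left _).eq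
  have hzPq : z ∈ Cfsg.sigmaCore M ⊓
      Subgroup.centralizer ((Subgroup.zpowers w : Subgroup G) : Set G) := by
    refine Subgroup.mem_inf.mpr ⟨hzσ, ?_⟩
    rw [Subgroup.mem_centralizer_iff]
    rintro h ⟨m, rfl⟩
    have h1 : Commute w z := hzw
    exact (h1.zpow_left m).eq
  -- every `u ∈ E₁` centralizes `z`
  rw [Subgroup.mem_centralizer_iff]
  intro u hu
  have hgoal : u ∈ Subgroup.centralizer ({z} : Set G) := by
    refine Cfsg.Agent.H2.BG12.mem_of_primary_parts (H := Subgroup.centralizer ({z} : Set G))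
      (orderOf u) u rfl ?_
    intro r hr hru v hv hvr
    haveI : Fact r.Prime := ⟨hr⟩
    by_cases hv1 : v = 1
    · rw [hv1]; exact Subgroup.one_mem _
    have hvE₁ : v ∈ E₁ := by
      have : Subgroup.zpowers u ≤ E₁ := by rw [Subgroup.zpowers_le]; exact hu
      exact this hv
    have hZv1 : Subgroup.zpowers v ≠ ⊥ := by
      intro h
      apply hv1
      have : v ∈ Subgroup.zpowers v := Subgroup.mem_zpowers v
      rw [h, Subgroup.mem_bot] at this
      exact this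
    have hZvE₁ : Subgroup.zpowers v ≤ E₁ := by rw [Subgroup.zpowers_le]; exact hvE₁
    have hrE₁ : r ∣ Nat.card ↥E₁ := by
      have h1 : orderOf (⟨u, hu⟩ : ↥E₁) ∣ Nat.card ↥E₁ := orderOf_dvd_natCard _
      rw [Subgroup.orderOf_mk] at h1
      exact hru.trans h1
    have hrτ : r ∈ Cfsg.tau1 M := hE₁.2.1 r hr hrE₁
    obtain ⟨S, hS, hvS⟩ := exists_isSylowIn_ge hvr (hZvE₁.trans hE₁E)
    have hScyc : IsCyclic ↥S :=
      Cfsg.Agent.Lib.Helper4.BGTw.isCyclic_of_pRankLE_one hG hrτ.2.2.2.2 (hS.1.trans hEM)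
        hS.isPGroup
    obtain ⟨y, hyv, hoy⟩ := exists_orderOf_eq_of_ne_bot hvr hZv1
    have hyE₁ : y ∈ E₁ := hZvE₁ hyv
    have hy1 : y ≠ 1 := by
      intro h
      rw [h, orderOf_one] at hoy
      exact hr.one_lt.ne hoy
    have hRc : Nat.card ↥(Subgroup.zpowers y) = r := by rw [Nat.card_zpowers, hoy]
    have hRE : Subgroup.zpowers y ≤
        E ⊓ Subgroup.centralizer ((Subgroup.zpowers w : Subgroup G) : Set G) := by
      rw [Subgroup.zpowers_le]
      refine Subgroup.mem_inf.mpr ⟨hE₁E hyE₁, ?_⟩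
      rw [Subgroup.mem_centralizer_iff]
      intro h hh
      exact hcomm h (hPqE₁ hh) y hyE₁
    have h28 := Cfsg.Agent.S1428.result hG M hM E hE q hqτ (Subgroup.zpowers w)
      (hPqE₁.trans hE₁E) hPqc (Subgroup.zpowers y) hRE (hRc ▸ hr)
    have hzy : z ∈ Cfsg.sigmaCore M ⊓ Subgroup.centralizer ({y} : Set G) := by
      refine Subgroup.mem_inf.mpr ⟨hzσ, ?_⟩
      have h1 := (Subgroup.mem_inf.mp (h28 hzPq)).2
      rw [Subgroup.mem_centralizer_iff] at h1 ⊢
      intro h hh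
      rw [Set.mem_singleton_iff] at hh
      rw [hh]
      exact h1 y (Subgroup.mem_zpowers y)
    -- S1427 for the cyclic Sylow subgroup `S`
    obtain ⟨S', hS'⟩ := hS.exists_sylow
    have hS'map : (S' : Subgroup ↥E).map E.subtype = S := by
      rw [hS']
      exact Subgroup.map_subgroupOf_eq_of_le hS.1
    have hS'1 : (S' : Subgroup ↥E) ≠ ⊥ := by
      intro h
      have h2 : S = ⊥ := by rw [← hS'map, h, Subgroup.map_bot]
      exact hZv1 (le_bot_iff.mp (h2 ▸ hvS))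
    have hS'c : IsCyclic ↥(S' : Subgroup ↥E) := by
      rw [hS']
      haveI := hScyc
      exact isCyclic_of_surjective (Subgroup.subgroupOfEquivOfLe hS.1).symm.toMonoidHom
        (Subgroup.subgroupOfEquivOfLe hS.1).symm.surjective
    have h27 := Cfsg.Agent.Lib.helper3.BG12.s1427 hG (st16 hG) (st17 hG) (st18 hG) M hM E hE r S' hS'1 hS'c y
      (by rw [hS'map]; exact hvS hyv) hy1
    rw [hS'map] at h27
    rw [h27] at hzy
    have h3 := Subgroup.mem_centralizer_iff.mp (Subgroup.mem_inf.mp hzy).2 v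
      (hvS (Subgroup.mem_zpowers v))
    rw [Subgroup.mem_centralizer_iff]
    intro h hh
    rw [Set.mem_singleton_iff] at hh
    rw [hh]
    exact h3.symm
  have := Subgroup.mem_centralizer_iff.mp hgoal z (Set.mem_singleton z)
  exact this.symm

end Cfsg.Agent.Lib.helper3.BG13
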