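import Mathlib
import Cfsg.Agent.Lib.helper3.BG13D
import Cfsg.Agent.Lib.Helper5.BG13S2
import Cfsg.Agent.Lib.Helper5.BG1218F3
import Cfsg.Agent.Lib.Helper7.BG127E
import Cfsg.Agent.S1378
import Cfsg.Agent.S1420
import Cfsg.Agent.S1424

/-!
# B&G Section 14, part A (helper3): Theorem 14.4 (S1375), the maximal subgroup over `C_G(x)`

`x ∈ M_σ^#` with `C_G(x) ⊄ M`.  For a prime `t ∣ o(x)` let `N_t ∈ 𝓜(N_G(X_t))`, `X_t ≤ ⟨x⟩` of order
`t`.  By 12.14 and the `σ`-partition, `t ∈ τ₂(N_t)`, `(N_t)_σ` is nilpotent, `(N_t)_σ ∩ M = 1` and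
`M ∩ N_t` is a complement of `(N_t)_σ`.  Hence `C_G(x) = C_{(N_t)_σ}(x) ⋊ C_M(x)`; the order of the
kernel does not depend on `t`, so all `N_t` are conjugate (partition again) and all primes of `o(x)`
are in `τ₂(N)`; B&G 12.10(d) gives uniqueness.
-/

set_option autoImplicit false
set_option linter.unusedSectionVars false
set_option linter.unusedVariables false
set_option linter.style.haveILetI false
set_option maxHeartbeats 1000000
open Cfsg
open scoped commutatorElement Pointwise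

namespace Cfsg.Agent.Lib.helper3.BG14

open Cfsg.Agent.Lib.Helper7 (IsSylowIn exists_isSylowIn_ge card_subgroupOf_of_le)
open Cfsg.Agent.Lib.Helper8.BGTen Cfsg.Agent.Lib.Helper4.BGTrans
open Cfsg.Agent.Lib.helper3.BG11 Cfsg.Agent.Lib.helper3.BG12 Cfsg.Agent.Lib.helper3.BG13

universe u

variable {G : Type u} [Group G] [Finite G]

omit [Finite G] in
theorem centralizer_singleton_le_zpowers_pow (x : G) (k : ℕ) :
    Subgroup.centralizer ({x} : Set G) ≤
      Subgroup.centralizer ((Subgroup.zpowers (x ^ k) : Subgroup G) : Set G) := by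
  intro g hg
  have h1 : Commute x g := Subgroup.mem_centralizer_iff.mp hg x (Set.mem_singleton x)
  rw [Subgroup.mem_centralizer_iff]
  rintro h ⟨m, rfl⟩
  exact ((h1.pow_left k).zpow_left m).eq

omit [Finite G] in
theorem centralizer_zpowers_eq (x : G) :
    Subgroup.centralizer ((Subgroup.zpowers x : Subgroup G) : Set G) =
      Subgroup.centralizer ({x} : Set G) := by
  apply le_antisymm
  · exact Subgroup.centralizer_le (Set.singleton_subset_iff.mpr (Subgroup.mem_zpowers x))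
  · have := centralizer_singleton_le_zpowers_pow x 1
    rwa [pow_one] at this

omit [Finite G] in
theorem mem_centralizer_self (x : G) : x ∈ Subgroup.centralizer ({x} : Set G) := by
  rw [Subgroup.mem_centralizer_iff]
  intro h hh
  rw [Set.mem_singleton_iff] at hh
  rw [hh]

/-- the maximal subgroup `N_t` attached to a prime `t ∣ o(x)` -/
theorem exists_max_of_prime (hG : Cfsg.IsMinSimpleOddOrder G) {M : Subgroup G} (hM : IsCoatom M)
    {x : G} (hx : x ∈ Cfsg.sigmaCore M)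
    (hxM : ¬ Subgroup.centralizer ({x} : Set G) ≤ M) {t : ℕ} [ht : Fact t.Prime]
    (htx : t ∣ orderOf x) :
    ∃ N : Subgroup G, IsCoatom N ∧ Subgroup.centralizer ({x} : Set G) ≤ N ∧ N ≠ M ∧
      (∀ g : G, cj g N ≠ M) ∧ t ∈ Cfsg.tau2 N ∧ Group.IsNilpotent ↥(Cfsg.sigmaCore N) ∧
      (∀ p : ℕ, p ∈ Cfsg.sigma M → p ∉ Cfsg.sigma N) ∧ Cfsg.sigmaCore N ⊓ M = ⊥ ∧
      Cfsg.IsComplIn (M ⊓ N) (Cfsg.sigmaCore N) N := by
  obtain ⟨y, hy⟩ : ∃ y : G, y = x ^ (orderOf x / t) := ⟨_, rfl⟩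
  have hoy : orderOf y = t := by
    rw [hy]
    exact orderOf_pow_orderOf_div (orderOf_pos x).ne' htx
  obtain ⟨X, hXdef⟩ : ∃ X : Subgroup G, X = Subgroup.zpowers y := ⟨_, rfl⟩
  have hXc : Nat.card ↥X = t := by rw [hXdef, Nat.card_zpowers, hoy]
  have hXp : IsPGroup t ↥X := IsPGroup.of_card (n := 1) (by rw [hXc, pow_one])
  have hX1 : X ≠ ⊥ := by
    intro h
    rw [h, Subgroup.card_bot] at hXc
    exact ht.out.one_lt.ne hXc
  have hXσ : X ≤ Cfsg.sigmaCore M := by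
    rw [hXdef, Subgroup.zpowers_le, hy]
    exact Subgroup.pow_mem _ hx _
  have hXM : X ≤ M := hXσ.trans (sigmaCore_le M)
  have htM : t ∈ Cfsg.sigma M :=
    mem_sigma_of_dvd_sigmaCore hG hM ht.out (hXc ▸ Subgroup.card_dvd_of_le hXσ)
  have hCX : Subgroup.centralizer ({x} : Set G) ≤ Subgroup.normalizer (X : Set G) := by
    refine le_trans ?_ (Subgroup.centralizer_le_normalizer _)
    rw [hXdef, hy]
    exact centralizer_singleton_le_zpowers_pow x _
  have hXt : X ≠ ⊤ := ne_top_of_le_coatom hM hXM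
  have hNt := normalizer_ne_top' hG hX1 hXt
  obtain ⟨N, hN, hNX⟩ := exists_coatom_ge hNt
  have hCN : Subgroup.centralizer ({x} : Set G) ≤ N := hCX.trans hNX
  have hne : N ≠ M := by
    intro h
    exact hxM (h ▸ hCN)
  have hXN : X ≤ N := Subgroup.le_normalizer.trans hNX
  -- non-conjugacy from S1424
  have hXq' : IsPGroup t ↥(X.subgroupOf (M ⊓ N)) := hXp.comap_subtype
  obtain ⟨S0, hS0⟩ := hXq'.exists_le_sylow
  have hXS : X ≤ (S0 : Subgroup ↥(M ⊓ N)).map (M ⊓ N).subtype := by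
    intro z hz
    exact ⟨⟨z, hXM hz, hXN hz⟩, hS0 (Subgroup.mem_subgroupOf.mpr hz), rfl⟩
  obtain ⟨hnc, -, -⟩ := Cfsg.Agent.S1424.result hG M hM t htM X hXp hX1 hXM N hN hne hNX S0 hXS
  have htN : t ∉ Cfsg.sigma N := by
    intro h
    obtain ⟨g, hg⟩ := (Cfsg.Agent.S1378.result hG).2 M N hM hN ⟨t, htM, h⟩
    exact hnc g hg
  obtain ⟨hncj, hτ, hnil, hdis, hbot, hcompl, -⟩ :=
    bg1214_d hG hM hN htM htN hXp hX1 hXM hne hNX
  exact ⟨N, hN, hCN, hne, hncj, hτ, hnil, hdis, hbot, hcompl⟩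

/-- `C_G(x) = C_{N_σ}(x) ⋊ C_M(x)` -/
theorem compl_in_centralizer {M N : Subgroup G} {x : G} (hxM : x ∈ M)
    (hC : Subgroup.centralizer ({x} : Set G) ≤ N) (hbot : Cfsg.sigmaCore N ⊓ M = ⊥)
    (hcompl : Cfsg.IsComplIn (M ⊓ N) (Cfsg.sigmaCore N) N) :
    Cfsg.IsComplIn (M ⊓ Subgroup.centralizer ({x} : Set G))
      (Cfsg.sigmaCore N ⊓ Subgroup.centralizer ({x} : Set G))
      (Subgroup.centralizer ({x} : Set G)) := by
  refine ⟨inf_le_right, inf_le_right, ?_, ?_⟩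
  · rw [eq_bot_iff, ← hbot]
    intro z hz
    obtain ⟨h1, h2⟩ := Subgroup.mem_inf.mp hz
    exact Subgroup.mem_inf.mpr ⟨(Subgroup.mem_inf.mp h2).1, (Subgroup.mem_inf.mp h1).1⟩
  · intro g hg
    have hxN : x ∈ N := hC (mem_centralizer_self x)
    have hPE : Subgroup.zpowers x ≤ M ⊓ N := by
      rw [Subgroup.zpowers_le]
      exact Subgroup.mem_inf.mpr ⟨hxM, hxN⟩
    have hg' : g ∈ Subgroup.centralizer ((Subgroup.zpowers x : Subgroup G) : Set G) := by
      rw [centralizer_zpowers_eq]; exact hg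
    obtain ⟨a, ha, b, hb, hab⟩ := Cfsg.Agent.Lib.Helper5.BG13S.centralizer_decomp hcompl
      (le_normalizer_sigmaCore N) hPE (hC hg) hg'
    rw [centralizer_zpowers_eq] at ha hb
    obtain ⟨ha1, ha2⟩ := Subgroup.mem_inf.mp ha
    obtain ⟨hb1, hb2⟩ := Subgroup.mem_inf.mp hb
    exact ⟨a, Subgroup.mem_inf.mpr ⟨(Subgroup.mem_inf.mp ha1).1, ha2⟩, b,
      Subgroup.mem_inf.mpr ⟨hb1, hb2⟩, hab⟩

end Cfsg.Agent.Lib.helper3.BG14
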