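import Mathlib
import Cfsg.Agent.Lib.helper3.BG14A

/-!
# B&G Section 14, part B (helper3): Theorem 14.4 (S1375), assembly
-/

set_option autoImplicit false
set_option linter.unusedSectionVars false
set_option linter.unusedVariables false
set_option linter.style.haveILetI false
set_option maxHeartbeats 1000000
open Cfsg
open scoped commutatorElement Pointwise

namespace Cfsg.Agent.Lib.helper3.BG14

open Cfsg.Agent.Lib.Helper7 (IsSylowIn exists_isSylowIn_ge card_subgroupOf_of_le)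
open Cfsg.Agent.Lib.Helper8.BGTen Cfsg.Agent.Lib.Helper4.BGTrans
open Cfsg.Agent.Lib.helper3.BG11 Cfsg.Agent.Lib.helper3.BG12 Cfsg.Agent.Lib.helper3.BG13

universe u

variable {G : Type u} [Group G] [Finite G]

/-- `M_F ≤ M_σ`, in the form: a normal nilpotent Hall subgroup of `↥N` is a `σ(N)`-group -/
theorem mem_sigma_of_dvd_normal_nilpotent_hall (hG : Cfsg.IsMinSimpleOddOrder G) {N : Subgroup G}
    (hN : IsCoatom N) (Y : Subgroup ↥N) [hYn : Y.Normal] (hYnil : Group.IsNilpotent ↥Y)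
    (hYcop : (Nat.card ↥Y).Coprime Y.index) {p : ℕ} (hp : p.Prime) (hpd : p ∣ Nat.card ↥Y) :
    p ∈ Cfsg.sigma N := by
  haveI : Fact p.Prime := ⟨hp⟩
  obtain ⟨P⟩ : Nonempty (Sylow p ↥Y) := inferInstance
  haveI := hYnil
  have hPn : (P : Subgroup ↥Y).Normal := inferInstance
  haveI hPc : (P : Subgroup ↥Y).Characteristic := Sylow.characteristic_of_normal P hPn
  have hQn : ((P : Subgroup ↥Y).map Y.subtype).Normal := inferInstance
  obtain ⟨Q, hQdef⟩ : ∃ Q : Subgroup ↥N, Q = (P : Subgroup ↥Y).map Y.subtype := ⟨_, rfl⟩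
  rw [← hQdef] at hQn
  obtain ⟨Q', hQ'def⟩ : ∃ Q' : Subgroup G, Q' = Q.map N.subtype := ⟨_, rfl⟩
  have hQ'N : Q' ≤ N := hQ'def ▸ Subgroup.map_subtype_le _
  have hcardQ' : Nat.card ↥Q' = Nat.card ↥(P : Subgroup ↥Y) := by
    rw [hQ'def, Subgroup.card_map_of_injective N.subtype_injective, hQdef,
      Subgroup.card_map_of_injective Y.subtype_injective]
  have hpidx : ¬ p ∣ Y.index := by
    intro h
    have := Nat.dvd_gcd hpd h
    rw [hYcop] at this
    exact hp.one_lt.ne' (Nat.dvd_one.mp this)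
  have hfac : (Nat.card ↥N).factorization p = (Nat.card ↥Y).factorization p := by
    rw [← Subgroup.card_mul_index Y, Nat.factorization_mul Nat.card_pos.ne'
      Subgroup.index_ne_zero_of_finite]
    simp only [Finsupp.coe_add, Pi.add_apply]
    rw [Nat.factorization_eq_zero_of_not_dvd hpidx, add_zero]
  have hSyl : IsSylowIn p Q' N := by
    refine ⟨hQ'N, ?_⟩
    rw [hcardQ', hfac]
    exact P.card_eq_multiplicity
  have hQ'1 : Q' ≠ ⊥ := by
    intro h
    have h1 : Nat.card ↥Q' = 1 := by rw [h]; exact Subgroup.card_bot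
    rw [hcardQ', P.card_eq_multiplicity] at h1
    have h2 : (Nat.card ↥Y).factorization p = 0 := by
      by_contra h0
      have : 1 < p ^ (Nat.card ↥Y).factorization p := Nat.one_lt_pow h0 hp.one_lt
      omega
    have h3 := (hp.dvd_iff_one_le_factorization Nat.card_pos.ne').mp hpd
    omega
  have hNQ' : N ≤ Subgroup.normalizer (Q' : Set G) := by
    intro n hn
    apply Cfsg.Agent.H1.mem_normalizer_of_conj_mem
    intro z hz
    rw [hQ'def] at hz ⊢
    obtain ⟨w, hw, rfl⟩ := hz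
    exact ⟨(⟨n, hn⟩ : ↥N) * w * (⟨n, hn⟩ : ↥N)⁻¹, hQn.conj_mem w hw ⟨n, hn⟩, rfl⟩
  have hQ't : Q' ≠ ⊤ := ne_top_of_le_coatom hN hQ'N
  have hnt := normalizer_ne_top' hG hQ'1 hQ't
  have heq : Subgroup.normalizer (Q' : Set G) = N := by
    by_contra hne
    exact hnt (hN.2 _ (lt_of_le_of_ne hNQ' (Ne.symm hne)))
  exact mem_sigma_of_sylIn hSyl hQ'1 heq.le

/-- `N_σ = N_F` when `N_σ` is nilpotent -/
theorem sigmaCore_eq_fittingHallOf (hG : Cfsg.IsMinSimpleOddOrder G) {N : Subgroup G}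
    (hN : IsCoatom N) (hnil : Group.IsNilpotent ↥(Cfsg.sigmaCore N)) :
    Cfsg.sigmaCore N = Cfsg.fittingHallOf N := by
  show (Cfsg.piCore (Cfsg.sigma N) ↥N).map N.subtype = (Cfsg.fittingHall ↥N).map N.subtype
  congr 1
  apply le_antisymm
  · apply le_sSup
    refine ⟨inferInstance, ?_, ?_⟩
    · haveI : Group.IsNilpotent ↥((Cfsg.piCore (Cfsg.sigma N) ↥N).map N.subtype) := hnil
      exact Group.nilpotent_of_mulEquiv
        ((Cfsg.piCore (Cfsg.sigma N) ↥N).equivMapOfInjective N.subtype N.subtype_injective).symm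
    · have hH := Cfsg.Agent.H2.BG11.sigmaCore_hallOf hG hN
      have e1 : Nat.card ↥(Cfsg.piCore (Cfsg.sigma N) ↥N) = Nat.card ↥(Cfsg.sigmaCore N) :=
        (Subgroup.card_map_of_injective N.subtype_injective).symm
      have e2 : (Cfsg.piCore (Cfsg.sigma N) ↥N).index = (Cfsg.sigmaCore N).relIndex N :=
        (Cfsg.Agent.Lib.Helper8.BGTen.relIndex_map_subtype_self N _).symm
      rw [e1, e2]
      apply Nat.coprime_of_dvd
      intro k hk hk1 hk2
      exact hH.2.2 k hk (hH.2.1 k hk hk1) hk2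
  · apply sSup_le
    rintro Y ⟨hYn, hYnil, hYcop⟩
    apply le_sSup
    refine ⟨hYn, ?_⟩
    intro p hp hpd
    haveI := hYn
    exact mem_sigma_of_dvd_normal_nilpotent_hall hG hN Y hYnil hYcop hp hpd

/-- `τ₂(N) ∩ κ(N) = ∅` -/
theorem not_kappa_of_tau2 {N : Subgroup G} {t : ℕ} (ht : t ∈ Cfsg.tau2 N) : t ∉ Cfsg.kappa N := by
  intro hκ
  obtain ⟨htp, -, -, h1⟩ := ht
  haveI : Fact t.Prime := ⟨htp⟩
  obtain ⟨A, hAN, hAe, hAc⟩ := Cfsg.Agent.H2.BG12.exists_elem_sq h1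
  have hAp : IsPGroup t ↥A := IsPGroup.of_card hAc
  have hAp' : IsPGroup t ↥(A.subgroupOf N) := hAp.comap_subtype
  obtain ⟨P, hP⟩ := hAp'.exists_le_sylow
  haveI : IsCyclic ↥(P : Subgroup ↥N) := (hκ.2.2.2 P).1
  have hc : IsCyclic ↥(A.subgroupOf N) := Subgroup.isCyclic_of_le hP
  have hcA : IsCyclic ↥A := by
    haveI := hc
    exact isCyclic_of_surjective (Subgroup.subgroupOfEquivOfLe hAN).toMonoidHom
      (Subgroup.subgroupOfEquivOfLe hAN).surjective
  exact not_isCyclic_of_elem htp hAe hAc hcA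

omit [Finite G] in
theorem le_normalizer_sup {A U V : Subgroup G} (hU : A ≤ Subgroup.normalizer (U : Set G))
    (hV : A ≤ Subgroup.normalizer (V : Set G)) : A ≤ Subgroup.normalizer ((U ⊔ V : Subgroup G) : Set G) := by
  intro a ha
  have h1 : cj a U = U := cj_eq_of_mem_normalizer (hU ha)
  have h2 : cj a V = V := cj_eq_of_mem_normalizer (hV ha)
  have h3 : cj a (U ⊔ V) = U ⊔ V := by
    show (U ⊔ V).map (MulAut.conj a).toMonoidHom = U ⊔ V
    rw [Subgroup.map_sup]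
    exact congrArg₂ (· ⊔ ·) h1 h2
  apply Cfsg.Agent.Lib.Helper5.BG1218F.mem_normalizer_of_map_conj_eq
  exact h3

/-- a `τ₂(N)`-element of `N` lies in the normal Hall `κ(N)'`-subgroup `U N_σ` -/
theorem mem_sup_of_tau2_elt {N K' U' : Subgroup G} (hdec : Cfsg.IsSigmaDecomposition N K' U')
    {x : G} (hxN : x ∈ N) (hτ : ∀ p : ℕ, p.Prime → p ∣ orderOf x → p ∈ Cfsg.tau2 N) :
    x ∈ U' ⊔ Cfsg.sigmaCore N := by
  obtain ⟨-, hhall, ⟨hU'N, hKσN, -, hprod⟩, hKU'⟩ := hdec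
  obtain ⟨W, hWdef⟩ : ∃ W : Subgroup G, W = U' ⊔ Cfsg.sigmaCore N := ⟨_, rfl⟩
  rw [← hWdef]
  have hWN : W ≤ N := hWdef ▸ sup_le hU'N (sigmaCore_le N)
  have hK'N : K' ≤ N := le_sup_left.trans hKσN
  have hWW : W ≤ Subgroup.normalizer (W : Set G) := Subgroup.le_normalizer
  have hK'W : K' ≤ Subgroup.normalizer (W : Set G) := by
    rw [hWdef]
    exact le_normalizer_sup hKU' (hK'N.trans (le_normalizer_sigmaCore N))
  have hσW : Cfsg.sigmaCore N ≤ Subgroup.normalizer (W : Set G) :=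
    (hWdef ▸ le_sup_right : Cfsg.sigmaCore N ≤ W).trans hWW
  have hNW : N ≤ Subgroup.normalizer (W : Set G) := by
    intro n hn
    obtain ⟨a, ha, b, hb, rfl⟩ := hprod n hn
    exact Subgroup.mul_mem _ (hWW ((hWdef ▸ le_sup_left : U' ≤ W) ha)) (sup_le hK'W hσW hb)
  haveI hWn : (W.subgroupOf N).Normal := Subgroup.normal_subgroupOf_of_le_normalizer hNW
  have htop : K'.subgroupOf N ⊔ W.subgroupOf N = ⊤ := by
    rw [← Subgroup.subgroupOf_sup hK'N hWN, eq_top_iff]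
    intro m _
    rw [Subgroup.mem_subgroupOf]
    obtain ⟨a, ha, b, hb, hab⟩ := hprod m.1 m.2
    rw [hab]
    have hb' : b ∈ K' ⊔ W := (sup_le le_sup_left ((hWdef ▸ le_sup_right :
      Cfsg.sigmaCore N ≤ W).trans le_sup_right) : K' ⊔ Cfsg.sigmaCore N ≤ K' ⊔ W) hb
    exact Subgroup.mul_mem _ (Subgroup.mem_sup_right ((hWdef ▸ le_sup_left : U' ≤ W) ha)) hb'
  have hidx : (W.subgroupOf N).index ∣ Nat.card ↥K' := by
    have h1 : (W.subgroupOf N).relIndex (K'.subgroupOf N ⊔ W.subgroupOf N) =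
        (W.subgroupOf N).relIndex (K'.subgroupOf N) :=
      Subgroup.relIndex_sup_right (K'.subgroupOf N) (W.subgroupOf N)
    rw [htop, Subgroup.relIndex_top_right] at h1
    rw [h1, ← card_subgroupOf_of_le hK'N]
    exact Subgroup.relIndex_dvd_card _ _
  have hcop : (Nat.card ↥(Subgroup.zpowers (⟨x, hxN⟩ : ↥N))).Coprime (W.subgroupOf N).index := by
    rw [Nat.card_zpowers, Subgroup.orderOf_mk]
    apply Nat.coprime_of_dvd
    intro k hk hk1 hk2
    exact not_kappa_of_tau2 (hτ k hk hk1) (hhall.2.1 k hk (hk2.trans hidx))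
  have h2 := le_of_coprime_index (W.subgroupOf N) (Subgroup.zpowers (⟨x, hxN⟩ : ↥N)) hcop
  exact Subgroup.mem_subgroupOf.mp (h2 (Subgroup.mem_zpowers _))

/-- **B&G Theorem 14.4** (the statement of S1375) -/
theorem s1375 (hG : Cfsg.IsMinSimpleOddOrder G) (M : Subgroup G) (hM : IsCoatom M) (x : G)
    (hx : x ∈ Cfsg.sigmaCore M) (hx1 : x ≠ 1)
    (hxM : ¬ Subgroup.centralizer ({x} : Set G) ≤ M) :
    ∃ N : Subgroup G, (IsCoatom N ∧ Subgroup.centralizer ({x} : Set G) ≤ N) ∧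
      (∀ L : Subgroup G, IsCoatom L → Subgroup.centralizer ({x} : Set G) ≤ L → L = N) ∧
      Cfsg.sigmaCore N = Cfsg.fittingHallOf N ∧
      Subgroup.centralizer ({x} : Set G) ≤ Subgroup.normalizer
        ((Cfsg.sigmaCore N ⊓ Subgroup.centralizer ({x} : Set G) : Subgroup G) : Set G) ∧
      Cfsg.IsComplIn (M ⊓ Subgroup.centralizer ({x} : Set G))
        (Cfsg.sigmaCore N ⊓ Subgroup.centralizer ({x} : Set G))
        (Subgroup.centralizer ({x} : Set G)) ∧
      Cfsg.IsComplIn (M ⊓ N) (Cfsg.sigmaCore N) N ∧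
      ∀ K' U' : Subgroup G, Cfsg.IsSigmaDecomposition N K' U' →
        U' ≠ ⊥ ∧ x ∈ Cfsg.sigmaA N U' ∧ x ∉ Cfsg.sigmaCore N := by
  have hox : orderOf x ≠ 1 := fun h => hx1 (orderOf_eq_one_iff.mp h)
  obtain ⟨q, hq, hqx⟩ := Nat.exists_prime_and_dvd hox
  haveI : Fact q.Prime := ⟨hq⟩
  obtain ⟨N, hN, hCN, hNM, hnc, hqτ, hnil, hdis, hbot, hcompl⟩ :=
    exists_max_of_prime hG hM hx hxM hqx
  have hxMM : x ∈ M := sigmaCore_le M hx
  have hxN : x ∈ N := hCN (mem_centralizer_self x)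
  have hC := compl_in_centralizer hxMM hCN hbot hcompl
  have hcardC := Cfsg.Agent.Lib.BG127H7.card_of_isComplIn hC
  have hF1 : Cfsg.sigmaCore N ⊓ Subgroup.centralizer ({x} : Set G) ≠ ⊥ := by
    intro h
    apply hxM
    intro g hg
    obtain ⟨a, ha, b, hb, hab⟩ := hC.2.2.2 g hg
    rw [h, Subgroup.mem_bot] at hb
    rw [hab, hb, mul_one]
    exact (Subgroup.mem_inf.mp ha).1
  have hFcard : Nat.card ↥(Cfsg.sigmaCore N ⊓ Subgroup.centralizer ({x} : Set G) : Subgroup G)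
      ≠ 1 := fun h => hF1 (Subgroup.card_eq_one.mp h)
  -- every prime divisor of `o(x)` lies in `τ₂(N)`
  have hτ : ∀ t : ℕ, t.Prime → t ∣ orderOf x → t ∈ Cfsg.tau2 N := by
    intro t ht htx
    haveI : Fact t.Prime := ⟨ht⟩
    obtain ⟨N', hN', hCN', -, -, htτ', -, -, hbot', hcompl'⟩ :=
      exists_max_of_prime hG hM hx hxM htx
    have hC' := compl_in_centralizer hxMM hCN' hbot' hcompl'
    have hcardC' := Cfsg.Agent.Lib.BG127H7.card_of_isComplIn hC'
    have hcard : Nat.card ↥(Cfsg.sigmaCore N ⊓ Subgroup.centralizer ({x} : Set G) : Subgroup G) =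
        Nat.card ↥(Cfsg.sigmaCore N' ⊓ Subgroup.centralizer ({x} : Set G) : Subgroup G) :=
      Nat.eq_of_mul_eq_mul_left Nat.card_pos (hcardC.symm.trans hcardC')
    obtain ⟨s, hs, hsd⟩ := Nat.exists_prime_and_dvd hFcard
    have hsN : s ∈ Cfsg.sigma N :=
      mem_sigma_of_dvd_sigmaCore hG hN hs (hsd.trans (Subgroup.card_dvd_of_le inf_le_left))
    have hsN' : s ∈ Cfsg.sigma N' :=
      mem_sigma_of_dvd_sigmaCore hG hN' hs
        ((hcard ▸ hsd).trans (Subgroup.card_dvd_of_le inf_le_left))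
    obtain ⟨g, hg⟩ := (Cfsg.Agent.S1378.result hG).2 N N' hN hN' ⟨s, hsN, hsN'⟩
    have hg' : N' = cj g N := hg
    rw [hg'] at htτ'
    exact Cfsg.Agent.Lib.Helper5.BG1218F.tau2_of_cj htτ'
  -- `x ∈ σ̂(N)`
  have hhat : x ∈ Cfsg.sigmaHat N := by
    obtain ⟨y, hy⟩ := (Subgroup.ne_bot_iff_exists_ne_one).mp hF1
    obtain ⟨hyσ, hyC⟩ := Subgroup.mem_inf.mp y.2
    refine ⟨hxN, (y : G), hyσ, fun h => hy (Subtype.ext h), ?_⟩
    exact Subgroup.mem_centralizer_iff.mp hyC x (Set.mem_singleton x)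
  obtain ⟨-, huniq⟩ := (Cfsg.Agent.S1420.result hG N hN (M ⊓ N) hcompl).2.2.2 x hxN hx1 hτ hhat
  have hxσN : x ∉ Cfsg.sigmaCore N := by
    intro h
    have h1 : x ∈ Cfsg.sigmaCore N ⊓ M := Subgroup.mem_inf.mpr ⟨h, hxMM⟩
    rw [hbot, Subgroup.mem_bot] at h1
    exact hx1 h1
  refine ⟨N, ⟨hN, hCN⟩, huniq, sigmaCore_eq_fittingHallOf hG hN hnil, ?_, hC, hcompl, ?_⟩
  · exact Cfsg.Agent.Lib.Helper8.BGTen.le_normalizer_inf (hCN.trans (le_normalizer_sigmaCore N))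
      Subgroup.le_normalizer
  · intro K' U' hdec
    have hxW := mem_sup_of_tau2_elt hdec hxN hτ
    refine ⟨?_, ⟨hhat, hxW⟩, hxσN⟩
    intro hU
    rw [hU, bot_sup_eq] at hxW
    exact hxσN hxW

end Cfsg.Agent.Lib.helper3.BG14
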