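import Mathlib
import Cfsg.Prelude.Def_Characters
import Cfsg.Agent.Lib.helper3.Irr9

set_option autoImplicit false
set_option linter.style.haveILetI false
set_option linter.unusedSectionVars false

/-!
# Irreducible characters of a direct product
-/

namespace Cfsg.Agent.Lib.helper3.Irr

open Cfsg Module Cfsg.Agent.Lib.helper3.IndFun Cfsg.Agent.Lib.helper3.CharBasic
open scoped ComplexConjugate

section prod

variable {G : Type*} [Group G] [Fintype G] {H : Type*} [Group H] [Fintype H]

theorem classInner_prod (φ φ' : G → ℂ) (ψ ψ' : H → ℂ) :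
    classInner (fun x : G × H => φ x.1 * ψ x.2) (fun x : G × H => φ' x.1 * ψ' x.2)
      = classInner φ φ' * classInner ψ ψ' := by
  unfold classInner
  rw [Nat.card_prod, Fintype.sum_prod_type]
  have : ∀ g : G, ∑ h : H, φ g * ψ h * conj (φ' g * ψ' h)
      = (φ g * conj (φ' g)) * ∑ h : H, ψ h * conj (ψ' h) := by
    intro g
    rw [Finset.mul_sum]
    apply Finset.sum_congr rfl
    intro h _
    rw [map_mul]; ring
  simp only [this]
  rw [← Finset.sum_mul]
  push_cast
  rw [mul_inv]
  ring

/-- The product of irreducible characters of the factors is an irreducible character of the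
direct product. -/
theorem isIrrCharacter_prod {φ : G → ℂ} {ψ : H → ℂ} (hφ : IsIrrCharacter G φ)
    (hψ : IsIrrCharacter H ψ) : IsIrrCharacter (G × H) (fun x => φ x.1 * ψ x.2) := by
  have h1 : IsCharacter (G × H) (fun x => φ x.1) :=
    isCharacter_comp (isCharacter_of_isIrrCharacter hφ) (MonoidHom.fst G H)
  have h2 : IsCharacter (G × H) (fun x => ψ x.2) :=
    isCharacter_comp (isCharacter_of_isIrrCharacter hψ) (MonoidHom.snd G H)
  have h3 := isCharacter_mul h1 h2
  apply isIrrCharacter_of_classInner_self_eq_one h3
  show classInner (fun x : G × H => φ x.1 * ψ x.2) (fun x : G × H => φ x.1 * ψ x.2) = 1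
  rw [classInner_prod, irr_classInner_self hφ, irr_classInner_self hψ, one_mul]

/-- Every irreducible character of a direct product is a product of irreducible characters. -/
theorem exists_of_isIrrCharacter_prod {θ : G × H → ℂ} (hθ : IsIrrCharacter (G × H) θ) :
    ∃ (φ : G → ℂ) (ψ : H → ℂ), IsIrrCharacter G φ ∧ IsIrrCharacter H ψ ∧
      θ = fun x => φ x.1 * ψ x.2 := by
  classical
  by_contra hcon
  push Not at hcon
  have hcf : IsClassFunction (G × H) θ :=
    isClassFunction_of_isCharacter (isCharacter_of_isIrrCharacter hθ)
  -- θ is orthogonal to all products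
  have horth : ∀ (φ : IrrCharacter G) (ψ : IrrCharacter H),
      classInner θ (fun x : G × H => (φ : G → ℂ) x.1 * (ψ : H → ℂ) x.2) = 0 := by
    intro φ ψ
    apply irr_classInner_eq_zero hθ (isIrrCharacter_prod φ.2 ψ.2)
    exact hcon _ _ φ.2 ψ.2
  -- hence zero
  have hzero : ∀ (g : G) (h : H), θ (g, h) = 0 := by
    -- for fixed ψ, F_ψ g = ∑ h, θ (g,h) conj ψ h is a class function orthogonal to all φ
    have hF : ∀ ψ : IrrCharacter H,
        (fun g : G => ∑ h : H, θ (g, h) * conj ((ψ : H → ℂ) h)) = 0 := by
      intro ψ
      apply eq_zero_of_forall_classInner_eq_zero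
      · intro g x
        show ∑ h : H, θ (x * g * x⁻¹, h) * conj ((ψ : H → ℂ) h)
          = ∑ h : H, θ (g, h) * conj ((ψ : H → ℂ) h)
        apply Finset.sum_congr rfl
        intro h _
        have := hcf (g, h) (x, 1)
        simp only [Prod.mk_mul_mk, Prod.inv_mk, one_mul, inv_one, mul_one] at this
        rw [this]
      · intro φ
        have h0 := horth φ ψ
        unfold classInner at h0 ⊢
        rw [Fintype.sum_prod_type] at h0
        have hne : ((Nat.card (G × H) : ℕ) : ℂ)⁻¹ ≠ 0 := by
          rw [Ne, inv_eq_zero, Nat.cast_eq_zero]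
          exact Nat.card_pos.ne'
        have h1 := (mul_eq_zero.mp h0).resolve_left hne
        rw [mul_eq_zero]; right
        rw [← h1]
        apply Finset.sum_congr rfl
        intro g _
        rw [Finset.sum_mul]
        apply Finset.sum_congr rfl
        intro h _
        rw [map_mul]; ring
    intro g h
    have hG : (fun h : H => θ (g, h)) = 0 := by
      apply eq_zero_of_forall_classInner_eq_zero
      · intro h x
        have := hcf (g, h) (1, x)
        simpa using this
      · intro ψ
        unfold classInner
        have := congrFun (hF ψ) g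
        simp only [Pi.zero_apply] at this
        rw [this, mul_zero]
    exact congrFun hG h
  have h1 : θ 1 = 0 := hzero 1 1
  obtain ⟨n, hn, hn1⟩ := exists_pos_nat_apply_one hθ
  rw [hn1] at h1
  have : n = 0 := by exact_mod_cast h1
  omega

end prod

end Cfsg.Agent.Lib.helper3.Irr
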