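import Mathlib
import Cfsg.Prelude.Def_Characters
import Cfsg.Agent.Lib.helper3.NormTwo

set_option autoImplicit false
set_option linter.style.haveILetI false
set_option linter.unusedSectionVars false

/-!
# Generalized characters of norm one
-/

namespace Cfsg.Agent.Lib.helper3.Irr

open Cfsg Module Cfsg.Agent.Lib.helper3.CharBasic Cfsg.Agent.Lib.helper3.IndFun
open scoped ComplexConjugate

variable {G : Type*} [Group G] [Fintype G]

theorem int_sq_sum_one {ι : Type*} [Fintype ι] [DecidableEq ι] (f : ι → ℤ)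
    (h : ∑ i, f i ^ 2 = 1) :
    ∃ a : ι, (f a = 1 ∨ f a = -1) ∧ ∀ c, c ≠ a → f c = 0 := by
  have hex : ∃ a, f a ≠ 0 := by
    by_contra hne
    push Not at hne
    simp [hne] at h
  obtain ⟨a, ha⟩ := hex
  have hsplit : ∑ i, f i ^ 2 = f a ^ 2 + ∑ i ∈ Finset.univ.erase a, f i ^ 2 :=
    (Finset.add_sum_erase _ _ (Finset.mem_univ a)).symm
  have hnn : 0 ≤ ∑ i ∈ Finset.univ.erase a, f i ^ 2 :=
    Finset.sum_nonneg (fun i _ => sq_nonneg _)
  have ha1 : 1 ≤ f a ^ 2 := by
    have : 0 < f a ^ 2 := by positivity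
    omega
  have hrest : ∑ i ∈ Finset.univ.erase a, f i ^ 2 = 0 := by omega
  have hfa : f a ^ 2 = 1 := by omega
  refine ⟨a, ?_, ?_⟩
  · have : (f a - 1) * (f a + 1) = 0 := by ring_nf; omega
    rcases mul_eq_zero.mp this with h1 | h1
    · left; omega
    · right; omega
  · intro c hc
    have hmem : c ∈ Finset.univ.erase a := Finset.mem_erase.mpr ⟨hc, Finset.mem_univ c⟩
    have := (Finset.sum_eq_zero_iff_of_nonneg (fun i _ => sq_nonneg (f i))).mp hrest c hmem
    exact pow_eq_zero_iff (two_ne_zero) |>.mp this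

/-- A generalized character of norm one is an irreducible character up to sign. -/
theorem exists_irr_of_norm_one {θ : G → ℂ} (hθ : IsGeneralizedCharacter G θ)
    (hnorm : classInner θ θ = 1) :
    ∃ a : IrrCharacter G, θ = (a : G → ℂ) ∨ θ = -(a : G → ℂ) := by
  classical
  obtain ⟨z, rfl⟩ := exists_int_decomposition hθ
  rw [classInner_int_decomposition] at hnorm
  have hz : ∑ ψ : IrrCharacter G, z ψ ^ 2 = 1 := by
    have : ((∑ ψ : IrrCharacter G, z ψ * z ψ : ℤ) : ℂ) = ((1 : ℤ) : ℂ) := by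
      rw [hnorm]; norm_num
    have h2 : (∑ ψ : IrrCharacter G, z ψ * z ψ : ℤ) = 1 := by exact_mod_cast this
    rw [← h2]
    apply Finset.sum_congr rfl
    intro ψ _
    ring
  obtain ⟨a, ha, hrest⟩ := int_sq_sum_one z hz
  refine ⟨a, ?_⟩
  have hsum : ∑ ψ : IrrCharacter G, (z ψ : ℂ) • (ψ : G → ℂ) = (z a : ℂ) • (a : G → ℂ) := by
    rw [Finset.sum_eq_single a]
    · intro ψ _ hne
      rw [hrest ψ hne]
      simp
    · intro h
      exact absurd (Finset.mem_univ a) h
  rw [hsum]
  rcases ha with h1 | h1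
  · left
    rw [h1]
    simp
  · right
    rw [h1]
    simp

end Cfsg.Agent.Lib.helper3.Irr
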