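import Mathlib
import Cfsg.Prelude.Def_Characters
import Cfsg.Agent.Lib.helper3.NormOne

set_option autoImplicit false
set_option linter.style.haveILetI false
set_option linter.unusedSectionVars false

/-!
# Closure properties of generalized characters
-/

namespace Cfsg.Agent.Lib.helper3.GenChar

open Cfsg Module Cfsg.Agent.Lib.helper3.CharBasic Cfsg.Agent.Lib.helper3.IndFun
open Cfsg.Agent.Lib.helper3.Irr
open scoped ComplexConjugate

variable {G : Type*} [Group G] [Fintype G]

theorem of_int_decomposition (z : IrrCharacter G → ℤ) :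
    IsGeneralizedCharacter G (∑ ψ : IrrCharacter G, (z ψ : ℂ) • (ψ : G → ℂ)) := by
  refine ⟨∑ ψ : IrrCharacter G, (((z ψ).toNat : ℕ) : ℂ) • (ψ : G → ℂ),
    ∑ ψ : IrrCharacter G, ((((-z ψ).toNat : ℕ)) : ℂ) • (ψ : G → ℂ),
    isCharacter_of_decomposition _, isCharacter_of_decomposition _, ?_⟩
  rw [← Finset.sum_sub_distrib]
  apply Finset.sum_congr rfl
  intro ψ _
  rw [← sub_smul]
  congr 1
  have h : (z ψ : ℤ) = ((z ψ).toNat : ℤ) - ((-z ψ).toNat : ℤ) := by omega
  have h2 : ((z ψ : ℤ) : ℂ) = (((z ψ).toNat : ℤ) : ℂ) - (((-z ψ).toNat : ℤ) : ℂ) := by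
    rw [← Int.cast_sub, ← h]
  rw [h2]
  push_cast
  rfl

theorem iff_int_decomposition {θ : G → ℂ} :
    IsGeneralizedCharacter G θ ↔
      ∃ z : IrrCharacter G → ℤ, θ = ∑ ψ : IrrCharacter G, (z ψ : ℂ) • (ψ : G → ℂ) :=
  ⟨exists_int_decomposition, fun ⟨z, h⟩ => h ▸ of_int_decomposition z⟩

theorem zero : IsGeneralizedCharacter G (0 : G → ℂ) := by
  rw [iff_int_decomposition]
  exact ⟨fun _ => 0, by simp⟩

theorem add {θ η : G → ℂ} (hθ : IsGeneralizedCharacter G θ) (hη : IsGeneralizedCharacter G η) :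
    IsGeneralizedCharacter G (θ + η) := by
  rw [iff_int_decomposition] at hθ hη ⊢
  obtain ⟨z, rfl⟩ := hθ
  obtain ⟨w, rfl⟩ := hη
  refine ⟨fun ψ => z ψ + w ψ, ?_⟩
  rw [← Finset.sum_add_distrib]
  apply Finset.sum_congr rfl
  intro ψ _
  push_cast
  rw [add_smul]

theorem zsmul {θ : G → ℂ} (hθ : IsGeneralizedCharacter G θ) (n : ℤ) :
    IsGeneralizedCharacter G (n • θ) := by
  rw [iff_int_decomposition] at hθ ⊢
  obtain ⟨z, rfl⟩ := hθ
  refine ⟨fun ψ => n * z ψ, ?_⟩
  rw [Finset.smul_sum]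
  apply Finset.sum_congr rfl
  intro ψ _
  push_cast
  rw [mul_smul]
  funext g
  simp

theorem neg {θ : G → ℂ} (hθ : IsGeneralizedCharacter G θ) : IsGeneralizedCharacter G (-θ) := by
  have := zsmul hθ (-1)
  simpa using this

theorem sub {θ η : G → ℂ} (hθ : IsGeneralizedCharacter G θ) (hη : IsGeneralizedCharacter G η) :
    IsGeneralizedCharacter G (θ - η) := by
  rw [sub_eq_add_neg]
  exact add hθ (neg hη)

theorem smul_intCast {θ : G → ℂ} (hθ : IsGeneralizedCharacter G θ) (n : ℤ) :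
    IsGeneralizedCharacter G ((n : ℂ) • θ) := by
  have := zsmul hθ n
  have h : n • θ = (n : ℂ) • θ := by
    funext g
    simp
  rwa [h] at this

theorem sum {ι : Type*} (s : Finset ι) (f : ι → G → ℂ)
    (h : ∀ i ∈ s, IsGeneralizedCharacter G (f i)) : IsGeneralizedCharacter G (∑ i ∈ s, f i) := by
  classical
  induction s using Finset.induction_on with
  | empty => simpa using zero
  | insert a s ha ih =>
    rw [Finset.sum_insert ha]
    exact add (h a (Finset.mem_insert_self a s))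
      (ih (fun i hi => h i (Finset.mem_insert_of_mem hi)))

theorem of_isCharacter {θ : G → ℂ} (hθ : IsCharacter G θ) : IsGeneralizedCharacter G θ :=
  ⟨θ, 0, hθ, isCharacter_zero, by simp⟩

theorem of_isIrrCharacter {θ : G → ℂ} (hθ : IsIrrCharacter G θ) : IsGeneralizedCharacter G θ :=
  of_isCharacter (isCharacter_of_isIrrCharacter hθ)

end Cfsg.Agent.Lib.helper3.GenChar
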