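import Mathlib
import Cfsg.Prelude.Def_OddOrderChar
import Cfsg.Agent.Lib.helper3.GenChar

set_option autoImplicit false
set_option linter.style.haveILetI false
set_option linter.unusedSectionVars false

/-!
# Integer spans of irreducible characters and linear isometries
-/

namespace Cfsg.Agent.Lib.helper3.Coh

open Cfsg Module Cfsg.Agent.Lib.helper3.CharBasic Cfsg.Agent.Lib.helper3.IndFun
open Cfsg.Agent.Lib.helper3.Irr
open scoped ComplexConjugate

section span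

variable {X : Type*}

theorem mem_zspan_of_mem {S : Set (X → ℂ)} {ξ : X → ℂ} (h : ξ ∈ S) : ξ ∈ zspan S :=
  Submodule.subset_span h

theorem zspan_zero (S : Set (X → ℂ)) : (0 : X → ℂ) ∈ zspan S := Submodule.zero_mem _

theorem zspan_add {S : Set (X → ℂ)} {x y : X → ℂ} (hx : x ∈ zspan S) (hy : y ∈ zspan S) :
    x + y ∈ zspan S := Submodule.add_mem _ hx hy

theorem zspan_zsmul {S : Set (X → ℂ)} (n : ℤ) {x : X → ℂ} (hx : x ∈ zspan S) :
    n • x ∈ zspan S := Submodule.smul_mem _ n hx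

theorem zspan_neg {S : Set (X → ℂ)} {x : X → ℂ} (hx : x ∈ zspan S) : -x ∈ zspan S :=
  Submodule.neg_mem _ hx

theorem zspan_sub {S : Set (X → ℂ)} {x y : X → ℂ} (hx : x ∈ zspan S) (hy : y ∈ zspan S) :
    x - y ∈ zspan S := Submodule.sub_mem _ hx hy

theorem zspan_sum {S : Set (X → ℂ)} {ι : Type*} (s : Finset ι) (f : ι → X → ℂ)
    (h : ∀ i ∈ s, f i ∈ zspan S) : ∑ i ∈ s, f i ∈ zspan S := Submodule.sum_mem _ h

theorem zspan_mono {S T : Set (X → ℂ)} (h : S ⊆ T) : zspan S ⊆ zspan T := Submodule.span_mono h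

theorem zsmul_eq_smul (n : ℤ) (f : X → ℂ) : n • f = (n : ℂ) • f := by
  funext x
  simp

theorem zspanOn_zero (S : Set (X → ℂ)) (A : Set X) : (0 : X → ℂ) ∈ zspanOn S A :=
  ⟨zspan_zero S, fun _ _ => rfl⟩

theorem zspanOn_add {S : Set (X → ℂ)} {A : Set X} {x y : X → ℂ} (hx : x ∈ zspanOn S A)
    (hy : y ∈ zspanOn S A) : x + y ∈ zspanOn S A :=
  ⟨zspan_add hx.1 hy.1, fun a ha => by rw [Pi.add_apply, hx.2 a ha, hy.2 a ha, add_zero]⟩

theorem zspanOn_zsmul {S : Set (X → ℂ)} {A : Set X} (n : ℤ) {x : X → ℂ} (hx : x ∈ zspanOn S A) :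
    n • x ∈ zspanOn S A :=
  ⟨zspan_zsmul n hx.1, fun a ha => by rw [Pi.smul_apply, hx.2 a ha, smul_zero]⟩

theorem zspanOn_mono {S T : Set (X → ℂ)} (A : Set X) (h : S ⊆ T) : zspanOn S A ⊆ zspanOn T A :=
  fun _ hx => ⟨zspan_mono h hx.1, hx.2⟩

end span

section one

variable {N : Type*} [Group N]

theorem mem_zspanOn_one_iff {S : Set (N → ℂ)} {θ : N → ℂ} :
    θ ∈ zspanOn S ({1}ᶜ : Set N) ↔ θ ∈ zspan S ∧ θ 1 = 0 := by
  constructor
  · intro h
    exact ⟨h.1, h.2 1 (by simp)⟩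
  · intro h
    refine ⟨h.1, ?_⟩
    intro x hx
    have : x = 1 := by simpa using hx
    rw [this]; exact h.2

end one

section coeff

variable {N : Type*} [Group N] [Fintype N]

/-- Members of the integer span of a set of irreducible characters have integer coordinates supported
on that set. -/
theorem exists_coeff {S : Set (N → ℂ)} (hirr : ∀ ξ ∈ S, IsIrrCharacter N ξ) {θ : N → ℂ}
    (hθ : θ ∈ zspan S) :
    ∃ z : IrrCharacter N → ℤ, (∀ ψ : IrrCharacter N, (ψ : N → ℂ) ∉ S → z ψ = 0) ∧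
      θ = ∑ ψ : IrrCharacter N, (z ψ : ℂ) • (ψ : N → ℂ) := by
  classical
  unfold zspan at hθ
  induction hθ using Submodule.span_induction with
  | mem ξ hξ =>
    refine ⟨fun ψ => if ψ = ⟨ξ, hirr ξ hξ⟩ then 1 else 0, ?_, ?_⟩
    · intro ψ hψ
      simp only
      rw [if_neg]
      intro h
      apply hψ
      rw [h]; exact hξ
    · rw [Finset.sum_eq_single (⟨ξ, hirr ξ hξ⟩ : IrrCharacter N)]
      · simp
      · intro ψ _ hne
        simp only
        rw [if_neg hne]; simp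
      · intro h; exact absurd (Finset.mem_univ _) h
  | zero => exact ⟨fun _ => 0, fun _ _ => rfl, by simp⟩
  | add x y _ _ hx hy =>
    obtain ⟨z, hz1, hz2⟩ := hx
    obtain ⟨w, hw1, hw2⟩ := hy
    refine ⟨fun ψ => z ψ + w ψ, ?_, ?_⟩
    · intro ψ hψ
      simp only
      rw [hz1 ψ hψ, hw1 ψ hψ, add_zero]
    · rw [hz2, hw2, ← Finset.sum_add_distrib]
      apply Finset.sum_congr rfl
      intro ψ _
      push_cast
      rw [add_smul]
  | smul n x _ hx =>
    obtain ⟨z, hz1, hz2⟩ := hx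
    refine ⟨fun ψ => n * z ψ, ?_, ?_⟩
    · intro ψ hψ
      simp only
      rw [hz1 ψ hψ, mul_zero]
    · rw [hz2, Finset.smul_sum]
      apply Finset.sum_congr rfl
      intro ψ _
      push_cast
      rw [mul_smul, zsmul_eq_smul]

theorem classInner_coeff (z : IrrCharacter N → ℤ) (ψ : IrrCharacter N) :
    classInner (∑ φ : IrrCharacter N, (z φ : ℂ) • (φ : N → ℂ)) (ψ : N → ℂ) = (z ψ : ℂ) :=
  classInner_decomposition_left _ ψ

end coeff

section isom

variable {L : Type*} [Group L] [Fintype L] {G : Type*} [Group G] [Fintype G]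

theorem map_zero_of_isom {E : Set (L → ℂ)} {τ : (L → ℂ) → (G → ℂ)}
    (hτ : IsLinearIsometryOn E τ) (h0 : (0 : L → ℂ) ∈ E) : τ 0 = 0 := by
  have := hτ.2.1 0 h0 0
  simpa using this

/-- A linear isometry commutes with finite integer combinations. -/
theorem map_sum_zsmul {E : Set (L → ℂ)} {τ : (L → ℂ) → (G → ℂ)}
    (hτ : IsLinearIsometryOn E τ) (h0 : (0 : L → ℂ) ∈ E)
    (hadd : ∀ x ∈ E, ∀ y ∈ E, x + y ∈ E) (hsmul : ∀ (n : ℤ), ∀ x ∈ E, n • x ∈ E)
    {ι : Type*} (s : Finset ι) (n : ι → ℤ) (f : ι → L → ℂ) (hf : ∀ i ∈ s, f i ∈ E) :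
    (∑ i ∈ s, n i • f i) ∈ E ∧ τ (∑ i ∈ s, n i • f i) = ∑ i ∈ s, n i • τ (f i) := by
  classical
  induction s using Finset.induction_on with
  | empty =>
    simp only [Finset.sum_empty]
    exact ⟨h0, map_zero_of_isom hτ h0⟩
  | insert a s ha ih =>
    have hfa : f a ∈ E := hf a (Finset.mem_insert_self a s)
    obtain ⟨ih1, ih2⟩ := ih (fun i hi => hf i (Finset.mem_insert_of_mem hi))
    rw [Finset.sum_insert ha, Finset.sum_insert ha]
    refine ⟨hadd _ (hsmul _ _ hfa) _ ih1, ?_⟩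
    rw [hτ.1 _ (hsmul _ _ hfa) _ ih1, hτ.2.1 _ hfa, ih2]

end isom

end Cfsg.Agent.Lib.helper3.Coh
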