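import Mathlib
import Cfsg.Prelude.Def_OddOrderChar
import Cfsg.Agent.Lib.helper3.Coh1

set_option autoImplicit false
set_option linter.style.haveILetI false
set_option linter.unusedSectionVars false

/-!
# Orthogonality of two coherent pieces
-/

namespace Cfsg.Agent.Lib.helper3.Coh

open Cfsg Module Cfsg.Agent.Lib.helper3.CharBasic Cfsg.Agent.Lib.helper3.IndFun
open Cfsg.Agent.Lib.helper3.Irr
open scoped ComplexConjugate

section basic

variable {G : Type*} [Group G] [Fintype G]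

theorem classInner_zsmul_left (n : ℤ) (φ ψ : G → ℂ) :
    classInner (n • φ) ψ = (n : ℂ) * classInner φ ψ := by
  rw [zsmul_eq_smul, classInner_smul_left]

theorem classInner_zsmul_right (n : ℤ) (φ ψ : G → ℂ) :
    classInner φ (n • ψ) = (n : ℂ) * classInner φ ψ := by
  rw [zsmul_eq_smul, classInner_smul_right]
  simp

theorem comb_apply {X : Type*} (m n : ℤ) (f g : X → ℂ) (x : X) :
    (m • f + n • g) x = (m : ℂ) * f x + (n : ℂ) * g x := by
  rw [Pi.add_apply, Pi.smul_apply, Pi.smul_apply, zsmul_eq_mul, zsmul_eq_mul]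

/-- Two generalized characters of norm one with nonzero inner product agree up to sign. -/
theorem eq_or_eq_neg_of_norm_one {u v : G → ℂ} (hu : IsGeneralizedCharacter G u)
    (hv : IsGeneralizedCharacter G v) (hu1 : classInner u u = 1) (hv1 : classInner v v = 1)
    (h : classInner u v ≠ 0) : v = u ∨ v = -u := by
  obtain ⟨a, ha⟩ := exists_irr_of_norm_one hu hu1
  obtain ⟨b, hb⟩ := exists_irr_of_norm_one hv hv1
  have hab : a = b := by
    by_contra hne
    have h0 : classInner (a : G → ℂ) (b : G → ℂ) = 0 :=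
      irr_classInner_eq_zero a.2 b.2 (fun h' => hne (Subtype.ext h'))
    apply h
    rcases ha with ha | ha <;> rcases hb with hb | hb <;> rw [ha, hb]
    · exact h0
    · rw [classInner_neg_right, h0, neg_zero]
    · rw [classInner_neg_left, h0, neg_zero]
    · rw [classInner_neg_left, classInner_neg_right, h0]; simp
  subst hab
  rcases ha with ha | ha <;> rcases hb with hb | hb <;> rw [ha, hb]
  · left; rfl
  · right; rfl
  · right; simp
  · left; rfl

theorem apply_one_ne_zero_of_norm_one {u : G → ℂ} (hu : IsGeneralizedCharacter G u)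
    (hu1 : classInner u u = 1) : u 1 ≠ 0 := by
  obtain ⟨a, ha⟩ := exists_irr_of_norm_one hu hu1
  have h0 := apply_one_ne_zero a.2
  rcases ha with ha | ha <;> rw [ha]
  · exact h0
  · simpa using h0

end basic

section main

variable {G : Type*} [Group G] [Fintype G] {N : Type*} [Group N] [Fintype N]

/-- The two isometries have orthogonal images. -/
theorem cross_orthogonal (S X Y : Set (N → ℂ)) (hirr : ∀ ξ ∈ S, IsIrrCharacter N ξ)
    (hXS : X ⊆ S) (hYS : Y ⊆ S) (hXY : Disjoint X Y) (hX2 : ∃ a ∈ X, ∃ b ∈ X, a ≠ b)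
    (hY2 : ∃ a ∈ Y, ∃ b ∈ Y, a ≠ b) (α : (N → ℂ) → (G → ℂ))
    (hα : IsLinearIsometryOn (zspanOn S {1}ᶜ) α) (hα1 : ∀ θ ∈ zspanOn S {1}ᶜ, α θ 1 = 0)
    (σ τ : (N → ℂ) → (G → ℂ)) (hσ : IsLinearIsometryOn (zspan X) σ)
    (hσα : ∀ θ ∈ zspanOn X {1}ᶜ, σ θ = α θ) (hτ : IsLinearIsometryOn (zspan Y) τ)
    (hτα : ∀ θ ∈ zspanOn Y {1}ᶜ, τ θ = α θ) :
    ∀ χ ∈ X, ∀ η ∈ Y, classInner (σ χ) (τ η) = 0 := by
  intro χ hχ η hη
  by_contra hne
  -- second members
  obtain ⟨χ', hχ', hχne⟩ : ∃ χ' ∈ X, χ' ≠ χ := by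
    obtain ⟨a, ha, b, hb, hab⟩ := hX2
    by_cases h : a = χ
    · exact ⟨b, hb, fun h' => hab (h.trans h'.symm)⟩
    · exact ⟨a, ha, h⟩
  obtain ⟨η', hη', hηne⟩ : ∃ η' ∈ Y, η' ≠ η := by
    obtain ⟨a, ha, b, hb, hab⟩ := hY2
    by_cases h : a = η
    · exact ⟨b, hb, fun h' => hab (h.trans h'.symm)⟩
    · exact ⟨a, ha, h⟩
  have hχi := hirr χ (hXS hχ)
  have hχ'i := hirr χ' (hXS hχ')
  have hηi := hirr η (hYS hη)
  have hη'i := hirr η' (hYS hη')
  obtain ⟨c, hc0, hc⟩ := exists_pos_nat_apply_one hχi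
  obtain ⟨c', hc'0, hc'⟩ := exists_pos_nat_apply_one hχ'i
  obtain ⟨e, he0, he⟩ := exists_pos_nat_apply_one hηi
  obtain ⟨e', he'0, he'⟩ := exists_pos_nat_apply_one hη'i
  -- the two differences
  obtain ⟨a, hadef⟩ : ∃ a : N → ℂ, a = (c' : ℤ) • χ + (-(c : ℤ)) • χ' := ⟨_, rfl⟩
  obtain ⟨b, hbdef⟩ : ∃ b : N → ℂ, b = (e' : ℤ) • η + (-(e : ℤ)) • η' := ⟨_, rfl⟩
  have hχX := mem_zspan_of_mem hχ
  have hχ'X := mem_zspan_of_mem hχ'
  have hηY := mem_zspan_of_mem hη
  have hη'Y := mem_zspan_of_mem hη'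
  have haX : a ∈ zspanOn X ({1}ᶜ : Set N) := by
    rw [mem_zspanOn_one_iff, hadef]
    refine ⟨zspan_add (zspan_zsmul _ hχX) (zspan_zsmul _ hχ'X), ?_⟩
    rw [comb_apply, hc, hc']
    push_cast; ring
  have hbY : b ∈ zspanOn Y ({1}ᶜ : Set N) := by
    rw [mem_zspanOn_one_iff, hbdef]
    refine ⟨zspan_add (zspan_zsmul _ hηY) (zspan_zsmul _ hη'Y), ?_⟩
    rw [comb_apply, he, he']
    push_cast; ring
  have haS := zspanOn_mono ({1}ᶜ : Set N) hXS haX
  have hbS := zspanOn_mono ({1}ᶜ : Set N) hYS hbY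
  -- images
  obtain ⟨u, hu⟩ : ∃ u, u = σ χ := ⟨_, rfl⟩
  obtain ⟨u', hu'⟩ : ∃ u', u' = σ χ' := ⟨_, rfl⟩
  obtain ⟨v, hv⟩ : ∃ v, v = τ η := ⟨_, rfl⟩
  obtain ⟨v', hv'⟩ : ∃ v', v' = τ η' := ⟨_, rfl⟩
  have hσa : α a = (c' : ℤ) • u + (-(c : ℤ)) • u' := by
    rw [← hσα a haX, hadef, hσ.1 _ (zspan_zsmul _ hχX) _ (zspan_zsmul _ hχ'X),
      hσ.2.1 _ hχX, hσ.2.1 _ hχ'X, hu, hu']
  have hτb : α b = (e' : ℤ) • v + (-(e : ℤ)) • v' := by
    rw [← hτα b hbY, hbdef, hτ.1 _ (zspan_zsmul _ hηY) _ (zspan_zsmul _ hη'Y),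
      hτ.2.1 _ hηY, hτ.2.1 _ hη'Y, hv, hv']
  -- generalized characters of norm one
  have hug : IsGeneralizedCharacter G u := hu ▸ hσ.2.2.2 χ hχX
  have hu'g : IsGeneralizedCharacter G u' := hu' ▸ hσ.2.2.2 χ' hχ'X
  have hvg : IsGeneralizedCharacter G v := hv ▸ hτ.2.2.2 η hηY
  have hv'g : IsGeneralizedCharacter G v' := hv' ▸ hτ.2.2.2 η' hη'Y
  have hu1 : classInner u u = 1 := by
    rw [hu, hσ.2.2.1 χ hχX χ hχX]; exact irr_classInner_self hχi
  have hu'1 : classInner u' u' = 1 := by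
    rw [hu', hσ.2.2.1 χ' hχ'X χ' hχ'X]; exact irr_classInner_self hχ'i
  have hv1 : classInner v v = 1 := by
    rw [hv, hτ.2.2.1 η hηY η hηY]; exact irr_classInner_self hηi
  have hv'1 : classInner v' v' = 1 := by
    rw [hv', hτ.2.2.1 η' hη'Y η' hη'Y]; exact irr_classInner_self hη'i
  have huu' : classInner u u' = 0 := by
    rw [hu, hu', hσ.2.2.1 χ hχX χ' hχ'X]
    exact irr_classInner_eq_zero hχi hχ'i (fun h => hχne h.symm)
  have hu'u : classInner u' u = 0 := by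
    rw [hu, hu', hσ.2.2.1 χ' hχ'X χ hχX]
    exact irr_classInner_eq_zero hχ'i hχi hχne
  have hvv' : classInner v v' = 0 := by
    rw [hv, hv', hτ.2.2.1 η hηY η' hη'Y]
    exact irr_classInner_eq_zero hηi hη'i (fun h => hηne h.symm)
  -- the inner product of the two differences vanishes
  have hdisj : ∀ x ∈ X, ∀ y ∈ Y, x ≠ y := by
    intro x hx y hy hxy
    exact (Set.disjoint_left.mp hXY hx) (hxy ▸ hy)
  have hab0 : classInner a b = 0 := by
    rw [hadef, hbdef]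
    simp only [classInner_add_left, classInner_add_right, classInner_zsmul_left,
      classInner_zsmul_right]
    rw [irr_classInner_eq_zero hχi hηi (hdisj χ hχ η hη),
      irr_classInner_eq_zero hχi hη'i (hdisj χ hχ η' hη'),
      irr_classInner_eq_zero hχ'i hηi (hdisj χ' hχ' η hη),
      irr_classInner_eq_zero hχ'i hη'i (hdisj χ' hχ' η' hη')]
    ring
  have hF2 := hα.2.2.1 a haS b hbS
  rw [hab0, hσa, hτb] at hF2
  simp only [classInner_add_left, classInner_add_right, classInner_zsmul_left,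
    classInner_zsmul_right] at hF2
  -- degrees
  have hF3a := hα1 a haS
  rw [hσa, comb_apply] at hF3a
  have hF3b := hα1 b hbS
  rw [hτb, comb_apply] at hF3b
  -- `v = ± u`
  have hne' : classInner u v ≠ 0 := by rw [hu, hv]; exact hne
  obtain ⟨κ, hκ, hvκ⟩ : ∃ κ : ℂ, (κ = 1 ∨ κ = -1) ∧ v = κ • u := by
    rcases eq_or_eq_neg_of_norm_one hug hvg hu1 hv1 hne' with h | h
    · exact ⟨1, Or.inl rfl, by rw [h, one_smul]⟩
    · exact ⟨-1, Or.inr rfl, by rw [h]; simp⟩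
  have hκc : conj κ = κ := by rcases hκ with h | h <;> rw [h] <;> simp
  have hκ0 : κ ≠ 0 := by rcases hκ with h | h <;> rw [h] <;> norm_num
  have huv : classInner u v = κ := by
    rw [hvκ, classInner_smul_right, hu1, hκc, mul_one]
  have huv' : classInner u v' = 0 := by
    have hκ2 : u = κ • v := by
      rw [hvκ, smul_smul]
      rcases hκ with h | h <;> rw [h] <;> simp
    rw [hκ2, classInner_smul_left, hvv', mul_zero]
  have hu'v : classInner u' v = 0 := by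
    rw [hvκ, classInner_smul_right, hu'u, mul_zero]
  rw [huv, huv', hu'v] at hF2
  have hu'v' : classInner u' v' ≠ 0 := by
    intro h0
    rw [h0] at hF2
    have hc'c : ((c' : ℤ) : ℂ) ≠ 0 := by exact_mod_cast hc'0.ne'
    have he'c : ((e' : ℤ) : ℂ) ≠ 0 := by exact_mod_cast he'0.ne'
    have : ((c' : ℤ) : ℂ) * (((e' : ℤ) : ℂ) * κ) = 0 := by linear_combination hF2
    rcases mul_eq_zero.mp this with h | h
    · exact hc'c h
    · rcases mul_eq_zero.mp h with h | h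
      · exact he'c h
      · exact hκ0 h
  obtain ⟨κ', hκ', hv'κ'⟩ : ∃ κ' : ℂ, (κ' = 1 ∨ κ' = -1) ∧ v' = κ' • u' := by
    rcases eq_or_eq_neg_of_norm_one hu'g hv'g hu'1 hv'1 hu'v' with h | h
    · exact ⟨1, Or.inl rfl, by rw [h, one_smul]⟩
    · exact ⟨-1, Or.inr rfl, by rw [h]; simp⟩
  have hκ'c : conj κ' = κ' := by rcases hκ' with h | h <;> rw [h] <;> simp
  have hu'v'2 : classInner u' v' = κ' := by
    rw [hv'κ', classInner_smul_right, hu'1, hκ'c, mul_one]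
  rw [hu'v'2] at hF2
  rw [hvκ, hv'κ'] at hF3b
  simp only [Pi.smul_apply, smul_eq_mul] at hF3b
  have hu'0 : u' 1 ≠ 0 := apply_one_ne_zero_of_norm_one hu'g hu'1
  -- the contradiction
  have hfinal : κ * (e' : ℂ) * ((c : ℂ) ^ 2 + (c' : ℂ) ^ 2) * u' 1 = 0 := by
    push_cast at hF2 hF3a hF3b
    have hc'c : (c' : ℂ) ≠ 0 := by exact_mod_cast hc'0.ne'
    -- from hF3a: c' u(1) = c u'(1)
    -- from hF3b: e' κ u(1) = e κ' u'(1)
    -- from hF2: c' e' κ + c e κ' = 0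
    have h1 : (c' : ℂ) * u 1 = (c : ℂ) * u' 1 := by linear_combination hF3a
    have h2 : (e' : ℂ) * (κ * u 1) = (e : ℂ) * (κ' * u' 1) := by linear_combination hF3b
    have h3 : (c' : ℂ) * ((e' : ℂ) * κ) + (c : ℂ) * ((e : ℂ) * κ') = 0 := by
      linear_combination hF2
    have h4 : (c' : ℂ) * (κ * (e' : ℂ) * ((c : ℂ) ^ 2 + (c' : ℂ) ^ 2) * u' 1) = 0 := by
      linear_combination ((c : ℂ) * (c' : ℂ) * (c' : ℂ)) * h2
        - ((c : ℂ) * (c' : ℂ) * (e' : ℂ) * κ) * h1 + ((c' : ℂ) * (c' : ℂ) * u' 1) * h3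
    rcases mul_eq_zero.mp h4 with h | h
    · exact absurd h hc'c
    · exact h
  have he'c : (e' : ℂ) ≠ 0 := by exact_mod_cast he'0.ne'
  have hsq : ((c : ℂ) ^ 2 + (c' : ℂ) ^ 2) = 0 := by
    rcases mul_eq_zero.mp hfinal with h | h
    · rcases mul_eq_zero.mp h with h | h
      · rcases mul_eq_zero.mp h with h | h
        · exact absurd h hκ0
        · exact absurd h he'c
      · exact h
    · exact absurd h hu'0
  have hsq2 : c ^ 2 + c' ^ 2 = 0 := by exact_mod_cast hsq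
  have : 0 < c ^ 2 := by positivity
  omega

end main

end Cfsg.Agent.Lib.helper3.Coh
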