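import Mathlib
import Cfsg.Prelude.Def_OddOrderChar
import Cfsg.Agent.Lib.helper3.Coh2

set_option autoImplicit false
set_option linter.style.haveILetI false
set_option linter.unusedSectionVars false

/-!
# Gluing two isometries on disjoint sets of irreducible characters
-/

namespace Cfsg.Agent.Lib.helper3.Coh

open Cfsg Module Cfsg.Agent.Lib.helper3.CharBasic Cfsg.Agent.Lib.helper3.IndFun
open Cfsg.Agent.Lib.helper3.Irr
open scoped ComplexConjugate

variable {G : Type*} [Group G] [Fintype G] {N : Type*} [Group N] [Fintype N]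

open Classical in
/-- The glued map on irreducible characters. -/
noncomputable def glueT (X Y : Set (N → ℂ)) (σ τ : (N → ℂ) → (G → ℂ)) (ψ : IrrCharacter N) :
    G → ℂ :=
  if (ψ : N → ℂ) ∈ X then σ (ψ : N → ℂ) else if (ψ : N → ℂ) ∈ Y then τ (ψ : N → ℂ) else 0

/-- The glued map. -/
noncomputable def glue (X Y : Set (N → ℂ)) (σ τ : (N → ℂ) → (G → ℂ)) (θ : N → ℂ) : G → ℂ :=
  ∑ ψ : IrrCharacter N, classInner θ (ψ : N → ℂ) • glueT X Y σ τ ψ

theorem glueT_of_mem_left {X Y : Set (N → ℂ)} (σ τ : (N → ℂ) → (G → ℂ)) {ψ : IrrCharacter N}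
    (h : (ψ : N → ℂ) ∈ X) : glueT X Y σ τ ψ = σ (ψ : N → ℂ) := by
  unfold glueT
  rw [if_pos h]

theorem glueT_of_mem_right {X Y : Set (N → ℂ)} (σ τ : (N → ℂ) → (G → ℂ)) {ψ : IrrCharacter N}
    (hX : (ψ : N → ℂ) ∉ X) (h : (ψ : N → ℂ) ∈ Y) : glueT X Y σ τ ψ = τ (ψ : N → ℂ) := by
  unfold glueT
  rw [if_neg hX, if_pos h]

theorem glueT_of_not_mem {X Y : Set (N → ℂ)} (σ τ : (N → ℂ) → (G → ℂ)) {ψ : IrrCharacter N}
    (hX : (ψ : N → ℂ) ∉ X) (hY : (ψ : N → ℂ) ∉ Y) : glueT X Y σ τ ψ = 0 := by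
  unfold glueT
  rw [if_neg hX, if_neg hY]

theorem glue_add (X Y : Set (N → ℂ)) (σ τ : (N → ℂ) → (G → ℂ)) (θ θ' : N → ℂ) :
    glue X Y σ τ (θ + θ') = glue X Y σ τ θ + glue X Y σ τ θ' := by
  unfold glue
  rw [← Finset.sum_add_distrib]
  apply Finset.sum_congr rfl
  intro ψ _
  rw [classInner_add_left, add_smul]

theorem glue_zsmul (X Y : Set (N → ℂ)) (σ τ : (N → ℂ) → (G → ℂ)) (n : ℤ) (θ : N → ℂ) :
    glue X Y σ τ (n • θ) = n • glue X Y σ τ θ := by
  unfold glue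
  rw [Finset.smul_sum]
  apply Finset.sum_congr rfl
  intro ψ _
  rw [classInner_zsmul_left, mul_smul, zsmul_eq_smul]

theorem glue_coeff (X Y : Set (N → ℂ)) (σ τ : (N → ℂ) → (G → ℂ)) (z : IrrCharacter N → ℤ) :
    glue X Y σ τ (∑ ψ : IrrCharacter N, (z ψ : ℂ) • (ψ : N → ℂ)) =
      ∑ ψ : IrrCharacter N, (z ψ : ℂ) • glueT X Y σ τ ψ := by
  unfold glue
  apply Finset.sum_congr rfl
  intro ψ _
  rw [classInner_coeff]

section hyp

variable (X Y : Set (N → ℂ)) (hirrX : ∀ ξ ∈ X, IsIrrCharacter N ξ)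
  (hirrY : ∀ ξ ∈ Y, IsIrrCharacter N ξ) (hXY : Disjoint X Y)
  (σ τ : (N → ℂ) → (G → ℂ)) (hσ : IsLinearIsometryOn (zspan X) σ)
  (hτ : IsLinearIsometryOn (zspan Y) τ)
  (hcross : ∀ χ ∈ X, ∀ η ∈ Y, classInner (σ χ) (τ η) = 0)

include hirrX hirrY hXY hσ hτ hcross in
/-- The glued map is orthonormal on the members of `X ∪ Y`. -/
theorem glueT_orthonormal (ψ ψ' : IrrCharacter N) (h : (ψ : N → ℂ) ∈ X ∪ Y)
    (h' : (ψ' : N → ℂ) ∈ X ∪ Y) :
    classInner (glueT X Y σ τ ψ) (glueT X Y σ τ ψ') = if ψ = ψ' then 1 else 0 := by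
  have hdis : ∀ x ∈ X, x ∉ Y := fun x hx => Set.disjoint_left.mp hXY hx
  have hirr_eq : classInner (ψ : N → ℂ) (ψ' : N → ℂ) = if ψ = ψ' then 1 else 0 := by
    rw [irr_classInner_eq ψ.2 ψ'.2]
    by_cases hpp : ψ = ψ'
    · rw [if_pos hpp, if_pos (congrArg Subtype.val hpp)]
    · rw [if_neg hpp, if_neg (fun h => hpp (Subtype.ext h))]
  rcases h with h | h <;> rcases h' with h' | h'
  · rw [glueT_of_mem_left σ τ h, glueT_of_mem_left σ τ h',
      hσ.2.2.1 _ (mem_zspan_of_mem h) _ (mem_zspan_of_mem h'), hirr_eq]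
  · rw [glueT_of_mem_left σ τ h, glueT_of_mem_right σ τ (fun hx => hdis _ hx h') h',
      hcross _ h _ h', if_neg]
    intro hpp
    exact hdis _ h (hpp ▸ h')
  · rw [glueT_of_mem_right σ τ (fun hx => hdis _ hx h) h, glueT_of_mem_left σ τ h',
      ← classInner_conj_symm, hcross _ h' _ h, map_zero, if_neg]
    intro hpp
    exact hdis _ h' (hpp ▸ h)
  · rw [glueT_of_mem_right σ τ (fun hx => hdis _ hx h) h,
      glueT_of_mem_right σ τ (fun hx => hdis _ hx h') h',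
      hτ.2.2.1 _ (mem_zspan_of_mem h) _ (mem_zspan_of_mem h'), hirr_eq]

include hirrX hirrY hXY hσ hτ hcross in
/-- The glued map is an isometry on the integer span of `X ∪ Y`. -/
theorem glue_isometry {θ θ' : N → ℂ} (hθ : θ ∈ zspan (X ∪ Y)) (hθ' : θ' ∈ zspan (X ∪ Y)) :
    classInner (glue X Y σ τ θ) (glue X Y σ τ θ') = classInner θ θ' := by
  classical
  have hirr : ∀ ξ ∈ X ∪ Y, IsIrrCharacter N ξ := by
    intro ξ hξ
    rcases hξ with h | h
    · exact hirrX ξ h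
    · exact hirrY ξ h
  obtain ⟨z, hz0, rfl⟩ := exists_coeff hirr hθ
  obtain ⟨w, hw0, rfl⟩ := exists_coeff hirr hθ'
  rw [glue_coeff, glue_coeff, classInner_int_decomposition, classInner_sum_left]
  push_cast
  apply Finset.sum_congr rfl
  intro ψ _
  rw [classInner_smul_left, classInner_sum_right]
  by_cases hψ : (ψ : N → ℂ) ∈ X ∪ Y
  · rw [Finset.sum_eq_single ψ]
    · rw [classInner_smul_right, glueT_orthonormal X Y hirrX hirrY hXY σ τ hσ hτ hcross ψ ψ hψ hψ,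
        if_pos rfl]
      simp
    · intro ψ' _ hne
      rw [classInner_smul_right]
      by_cases hψ' : (ψ' : N → ℂ) ∈ X ∪ Y
      · rw [glueT_orthonormal X Y hirrX hirrY hXY σ τ hσ hτ hcross ψ ψ' hψ hψ',
          if_neg (fun h => hne h.symm), mul_zero]
      · rw [hw0 ψ' hψ']; simp
    · intro h; exact absurd (Finset.mem_univ _) h
  · rw [hz0 ψ hψ]; simp

include hirrX hirrY hσ hτ in
/-- The glued map takes generalized characters as values on the integer span of `X ∪ Y`. -/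
theorem glue_isGeneralizedCharacter {θ : N → ℂ} (hθ : θ ∈ zspan (X ∪ Y)) :
    IsGeneralizedCharacter G (glue X Y σ τ θ) := by
  classical
  have hirr : ∀ ξ ∈ X ∪ Y, IsIrrCharacter N ξ := by
    intro ξ hξ
    rcases hξ with h | h
    · exact hirrX ξ h
    · exact hirrY ξ h
  obtain ⟨z, hz0, rfl⟩ := exists_coeff hirr hθ
  rw [glue_coeff]
  apply GenChar.sum
  intro ψ _
  apply GenChar.smul_intCast
  by_cases hX : (ψ : N → ℂ) ∈ X
  · rw [glueT_of_mem_left σ τ hX]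
    exact hσ.2.2.2 _ (mem_zspan_of_mem hX)
  · by_cases hY : (ψ : N → ℂ) ∈ Y
    · rw [glueT_of_mem_right σ τ hX hY]
      exact hτ.2.2.2 _ (mem_zspan_of_mem hY)
    · rw [glueT_of_not_mem σ τ hX hY]
      exact GenChar.zero

end hyp

end Cfsg.Agent.Lib.helper3.Coh
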