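import Mathlib
import Cfsg.Prelude.Def_OddOrderChar
import Cfsg.Agent.Lib.helper3.Coh3

set_option autoImplicit false
set_option linter.style.haveILetI false
set_option linter.unusedSectionVars false

/-!
# The glued isometry extends the given one
-/

namespace Cfsg.Agent.Lib.helper3.Coh

open Cfsg Module Cfsg.Agent.Lib.helper3.CharBasic Cfsg.Agent.Lib.helper3.IndFun
open Cfsg.Agent.Lib.helper3.Irr
open scoped ComplexConjugate

variable {G : Type*} [Group G] [Fintype G] {N : Type*} [Group N] [Fintype N]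

/-- Splitting a sum over all irreducible characters along two disjoint sets. -/
theorem sum_split {M : Type*} [AddCommMonoid M] (X Y : Set (N → ℂ))
    (hdis : ∀ x ∈ X, x ∉ Y) (sX sY : Finset (IrrCharacter N))
    [DecidablePred (fun ψ : IrrCharacter N => (ψ : N → ℂ) ∈ X)]
    [DecidablePred (fun ψ : IrrCharacter N => (ψ : N → ℂ) ∈ Y)]
    (hsX : sX = Finset.univ.filter (fun ψ : IrrCharacter N => (ψ : N → ℂ) ∈ X))
    (hsY : sY = Finset.univ.filter (fun ψ : IrrCharacter N => (ψ : N → ℂ) ∈ Y))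
    (F : IrrCharacter N → M)
    (hF : ∀ ψ : IrrCharacter N, (ψ : N → ℂ) ∉ X ∪ Y → F ψ = 0) :
    ∑ ψ : IrrCharacter N, F ψ = ∑ ψ ∈ sX, F ψ + ∑ ψ ∈ sY, F ψ := by
  rw [← Finset.sum_filter_add_sum_filter_not Finset.univ
    (fun ψ : IrrCharacter N => (ψ : N → ℂ) ∈ X), ← hsX]
  congr 1
  rw [← Finset.sum_filter_add_sum_filter_not
    (Finset.univ.filter (fun ψ : IrrCharacter N => ¬ (ψ : N → ℂ) ∈ X))
    (fun ψ : IrrCharacter N => (ψ : N → ℂ) ∈ Y)]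
  have h2 : ∑ ψ ∈ (Finset.univ.filter (fun ψ : IrrCharacter N => ¬ (ψ : N → ℂ) ∈ X)).filter
      (fun ψ : IrrCharacter N => ¬ (ψ : N → ℂ) ∈ Y), F ψ = 0 := by
    apply Finset.sum_eq_zero
    intro ψ hψ
    rw [Finset.mem_filter, Finset.mem_filter] at hψ
    apply hF
    rintro (h | h)
    · exact hψ.1.2 h
    · exact hψ.2 h
  rw [h2, add_zero]
  apply Finset.sum_congr _ (fun _ _ => rfl)
  ext ψ
  rw [hsY]
  simp only [Finset.mem_filter, Finset.mem_univ, true_and]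
  constructor
  · intro h; exact h.2
  · intro h; exact ⟨fun hx => hdis _ hx h, h⟩

/-- Splitting a member of the span of `X ∪ Y` into its two parts. -/
theorem exists_split (X Y : Set (N → ℂ)) (hirrX : ∀ ξ ∈ X, IsIrrCharacter N ξ)
    (hirrY : ∀ ξ ∈ Y, IsIrrCharacter N ξ) (hXY : Disjoint X Y)
    (σ τ : (N → ℂ) → (G → ℂ)) (hσ : IsLinearIsometryOn (zspan X) σ)
    (hτ : IsLinearIsometryOn (zspan Y) τ) {θ : N → ℂ} (hθ : θ ∈ zspan (X ∪ Y)) :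
    ∃ θX θY : N → ℂ, θX ∈ zspan X ∧ θY ∈ zspan Y ∧ θ = θX + θY ∧
      glue X Y σ τ θ = σ θX + τ θY ∧ ∃ s : ℤ, θX 1 = (s : ℂ) := by
  classical
  have hirr : ∀ ξ ∈ X ∪ Y, IsIrrCharacter N ξ := by
    intro ξ hξ
    rcases hξ with h | h
    · exact hirrX ξ h
    · exact hirrY ξ h
  have hdis : ∀ x ∈ X, x ∉ Y := fun x hx => Set.disjoint_left.mp hXY hx
  obtain ⟨z, hz0, rfl⟩ := exists_coeff hirr hθ
  obtain ⟨sX, hsX⟩ : ∃ sX : Finset (IrrCharacter N),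
      sX = Finset.univ.filter (fun ψ : IrrCharacter N => (ψ : N → ℂ) ∈ X) := ⟨_, rfl⟩
  obtain ⟨sY, hsY⟩ : ∃ sY : Finset (IrrCharacter N),
      sY = Finset.univ.filter (fun ψ : IrrCharacter N => (ψ : N → ℂ) ∈ Y) := ⟨_, rfl⟩
  have hmemX : ∀ ψ ∈ sX, (ψ : N → ℂ) ∈ X := by
    intro ψ hψ
    rw [hsX] at hψ
    exact (Finset.mem_filter.mp hψ).2
  have hmemY : ∀ ψ ∈ sY, (ψ : N → ℂ) ∈ Y := by
    intro ψ hψ
    rw [hsY] at hψ
    exact (Finset.mem_filter.mp hψ).2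
  have hX := map_sum_zsmul hσ (zspan_zero X) (fun _ hx _ hy => zspan_add hx hy)
    (fun n _ hx => zspan_zsmul n hx) sX z (fun ψ => (ψ : N → ℂ))
    (fun ψ hψ => mem_zspan_of_mem (hmemX ψ hψ))
  have hY := map_sum_zsmul hτ (zspan_zero Y) (fun _ hx _ hy => zspan_add hx hy)
    (fun n _ hx => zspan_zsmul n hx) sY z (fun ψ => (ψ : N → ℂ))
    (fun ψ hψ => mem_zspan_of_mem (hmemY ψ hψ))
  refine ⟨∑ ψ ∈ sX, z ψ • (ψ : N → ℂ), ∑ ψ ∈ sY, z ψ • (ψ : N → ℂ), hX.1, hY.1, ?_, ?_, ?_⟩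
  · rw [sum_split X Y hdis sX sY hsX hsY (fun ψ => (z ψ : ℂ) • (ψ : N → ℂ))
      (fun ψ hψ => by show (z ψ : ℂ) • (ψ : N → ℂ) = 0; rw [hz0 ψ hψ]; simp)]
    congr 1 <;> (apply Finset.sum_congr rfl; intro ψ _; rw [zsmul_eq_smul])
  · rw [glue_coeff, hX.2, hY.2,
      sum_split X Y hdis sX sY hsX hsY (fun ψ => (z ψ : ℂ) • glueT X Y σ τ ψ)
      (fun ψ hψ => by show (z ψ : ℂ) • glueT X Y σ τ ψ = 0; rw [hz0 ψ hψ]; simp)]
    congr 1
    · apply Finset.sum_congr rfl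
      intro ψ hψ
      rw [glueT_of_mem_left σ τ (hmemX ψ hψ), zsmul_eq_smul]
    · apply Finset.sum_congr rfl
      intro ψ hψ
      rw [glueT_of_mem_right σ τ (fun hx => hdis _ hx (hmemY ψ hψ)) (hmemY ψ hψ), zsmul_eq_smul]
  · have hdeg : ∀ ψ : IrrCharacter N, ∃ d : ℕ, (ψ : N → ℂ) 1 = d := by
      intro ψ
      obtain ⟨d, _, hd⟩ := exists_pos_nat_apply_one ψ.2
      exact ⟨d, hd⟩
    choose d hd using hdeg
    refine ⟨∑ ψ ∈ sX, z ψ * (d ψ : ℤ), ?_⟩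
    rw [Finset.sum_apply]
    push_cast
    apply Finset.sum_congr rfl
    intro ψ _
    rw [Pi.smul_apply, zsmul_eq_mul, hd ψ]

end Cfsg.Agent.Lib.helper3.Coh
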