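import Mathlib
import Cfsg.Prelude.Def_OddOrderChar
import Cfsg.Agent.Lib.helper3.Coh4

set_option autoImplicit false
set_option linter.style.haveILetI false
set_option linter.unusedSectionVars false

/-!
# The glued isometry agrees with the given one on the members vanishing at one
-/

namespace Cfsg.Agent.Lib.helper3.Coh

open Cfsg Module Cfsg.Agent.Lib.helper3.CharBasic Cfsg.Agent.Lib.helper3.IndFun
open Cfsg.Agent.Lib.helper3.Irr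
open scoped ComplexConjugate

variable {G : Type*} [Group G] [Fintype G] {N : Type*} [Group N] [Fintype N]

/-- The glued map agrees with `α` on the members of the span of `X ∪ Y` vanishing at one. -/
theorem glue_eq_alpha (S X Y : Set (N → ℂ)) (hirr : ∀ ξ ∈ S, IsIrrCharacter N ξ)
    (hXS : X ⊆ S) (hYS : Y ⊆ S) (hXY : Disjoint X Y) (α : (N → ℂ) → (G → ℂ))
    (hα : IsLinearIsometryOn (zspanOn S {1}ᶜ) α)
    (σ τ : (N → ℂ) → (G → ℂ)) (hσ : IsLinearIsometryOn (zspan X) σ)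
    (hσα : ∀ θ ∈ zspanOn X {1}ᶜ, σ θ = α θ) (hτ : IsLinearIsometryOn (zspan Y) τ)
    (hτα : ∀ θ ∈ zspanOn Y {1}ᶜ, τ θ = α θ)
    {χ₀ η₀ : N → ℂ} (hχ₀ : χ₀ ∈ X) (hη₀ : η₀ ∈ Y)
    (hlink : α (χ₀ 1 • η₀ - η₀ 1 • χ₀) = χ₀ 1 • τ η₀ - η₀ 1 • σ χ₀)
    {θ : N → ℂ} (hθ : θ ∈ zspanOn (X ∪ Y) {1}ᶜ) :
    glue X Y σ τ θ = α θ := by
  have hirrX : ∀ ξ ∈ X, IsIrrCharacter N ξ := fun ξ h => hirr ξ (hXS h)
  have hirrY : ∀ ξ ∈ Y, IsIrrCharacter N ξ := fun ξ h => hirr ξ (hYS h)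
  have hXYS : X ∪ Y ⊆ S := Set.union_subset hXS hYS
  rw [mem_zspanOn_one_iff] at hθ
  obtain ⟨θX, θY, hθX, hθY, hsum, hglue, s, hs⟩ :=
    exists_split X Y hirrX hirrY hXY σ τ hσ hτ hθ.1
  obtain ⟨cn, hcpos, hc⟩ := exists_pos_nat_apply_one (hirrX _ hχ₀)
  obtain ⟨en, hepos, he⟩ := exists_pos_nat_apply_one (hirrY _ hη₀)
  have hθY1 : θY 1 = -(s : ℂ) := by
    have h1 := hθ.2
    rw [hsum, Pi.add_apply, hs] at h1
    linear_combination h1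
  -- the three auxiliary members
  obtain ⟨x, hx⟩ : ∃ x : N → ℂ, x = ((en : ℤ) * (cn : ℤ)) • θX + (-(s * (en : ℤ))) • χ₀ :=
    ⟨_, rfl⟩
  obtain ⟨y, hy⟩ : ∃ y : N → ℂ, y = ((en : ℤ) * (cn : ℤ)) • θY + (s * (cn : ℤ)) • η₀ :=
    ⟨_, rfl⟩
  obtain ⟨w, hw⟩ : ∃ w : N → ℂ, w = (cn : ℤ) • η₀ + (-(en : ℤ)) • χ₀ := ⟨_, rfl⟩
  have hxX : x ∈ zspanOn X {1}ᶜ := by
    rw [mem_zspanOn_one_iff]
    refine ⟨?_, ?_⟩
    · rw [hx]
      exact zspan_add (zspan_zsmul _ hθX) (zspan_zsmul _ (mem_zspan_of_mem hχ₀))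
    · rw [hx, comb_apply, hs, hc]
      push_cast
      ring
  have hyY : y ∈ zspanOn Y {1}ᶜ := by
    rw [mem_zspanOn_one_iff]
    refine ⟨?_, ?_⟩
    · rw [hy]
      exact zspan_add (zspan_zsmul _ hθY) (zspan_zsmul _ (mem_zspan_of_mem hη₀))
    · rw [hy, comb_apply, hθY1, he]
      push_cast
      ring
  have hwS : w ∈ zspanOn S {1}ᶜ := by
    rw [mem_zspanOn_one_iff]
    refine ⟨?_, ?_⟩
    · rw [hw]
      exact zspan_add (zspan_zsmul _ (mem_zspan_of_mem (hYS hη₀)))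
        (zspan_zsmul _ (mem_zspan_of_mem (hXS hχ₀)))
    · rw [hw, comb_apply, hc, he]
      push_cast
      ring
  have hxS : x ∈ zspanOn S {1}ᶜ := zspanOn_mono _ hXS hxX
  have hyS : y ∈ zspanOn S {1}ᶜ := zspanOn_mono _ hYS hyY
  have hθS : θ ∈ zspanOn S {1}ᶜ :=
    zspanOn_mono _ hXYS (mem_zspanOn_one_iff.mpr hθ)
  -- the identity among them
  have hid : ((en : ℤ) * (cn : ℤ)) • θ = x + y + (-s) • w := by
    funext n
    rw [hsum, hx, hy, hw]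
    simp only [zsmul_eq_smul, Pi.add_apply, Pi.smul_apply, smul_eq_mul]
    try simp only [zsmul_eq_mul]
    push_cast
    ring
  -- the link in terms of integer multiples
  have hw' : w = χ₀ 1 • η₀ - η₀ 1 • χ₀ := by
    funext n
    rw [hw, hc, he]
    simp only [zsmul_eq_smul, Pi.add_apply, Pi.sub_apply, Pi.smul_apply, smul_eq_mul]
    try simp only [zsmul_eq_mul]
    push_cast
    ring
  have hαw : α w = (cn : ℤ) • τ η₀ + (-(en : ℤ)) • σ χ₀ := by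
    rw [hw', hlink, hc, he]
    funext g
    simp only [zsmul_eq_smul, Pi.add_apply, Pi.sub_apply, Pi.smul_apply, smul_eq_mul]
    try simp only [zsmul_eq_mul]
    push_cast
    ring
  -- values of `α`
  have hαx : α x = ((en : ℤ) * (cn : ℤ)) • σ θX + (-(s * (en : ℤ))) • σ χ₀ := by
    rw [← hσα x hxX, hx, hσ.1 _ (zspan_zsmul _ hθX) _ (zspan_zsmul _ (mem_zspan_of_mem hχ₀)),
      hσ.2.1 _ hθX, hσ.2.1 _ (mem_zspan_of_mem hχ₀)]
  have hαy : α y = ((en : ℤ) * (cn : ℤ)) • τ θY + (s * (cn : ℤ)) • τ η₀ := by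
    rw [← hτα y hyY, hy, hτ.1 _ (zspan_zsmul _ hθY) _ (zspan_zsmul _ (mem_zspan_of_mem hη₀)),
      hτ.2.1 _ hθY, hτ.2.1 _ (mem_zspan_of_mem hη₀)]
  have hmain : ((en : ℤ) * (cn : ℤ)) • α θ = ((en : ℤ) * (cn : ℤ)) • glue X Y σ τ θ := by
    rw [← hα.2.1 θ hθS, hid, hα.1 _ (zspanOn_add hxS hyS) _ (zspanOn_zsmul _ hwS),
      hα.1 _ hxS _ hyS, hα.2.1 _ hwS, hαx, hαy, hαw, hglue]
    funext g
    simp only [zsmul_eq_smul, Pi.add_apply, Pi.smul_apply, smul_eq_mul]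
    try simp only [zsmul_eq_mul]
    push_cast
    ring
  have hne : ((en : ℤ) * (cn : ℤ) : ℂ) ≠ 0 := by
    have h1 : (en : ℂ) ≠ 0 := Nat.cast_ne_zero.mpr hepos.ne'
    have h2 : (cn : ℂ) ≠ 0 := Nat.cast_ne_zero.mpr hcpos.ne'
    push_cast
    exact mul_ne_zero h1 h2
  funext g
  have hg := congrFun hmain g
  rw [Pi.smul_apply, Pi.smul_apply, zsmul_eq_mul, zsmul_eq_mul] at hg
  push_cast at hg hne
  exact (mul_left_cancel₀ hne hg).symm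

/-- The coherence of the union. -/
theorem coherent_union (S X Y : Set (N → ℂ)) (hirr : ∀ ξ ∈ S, IsIrrCharacter N ξ)
    (hXS : X ⊆ S) (hYS : Y ⊆ S) (hXY : Disjoint X Y) (hX2 : ∃ a ∈ X, ∃ b ∈ X, a ≠ b)
    (hY2 : ∃ a ∈ Y, ∃ b ∈ Y, a ≠ b) (α : (N → ℂ) → (G → ℂ))
    (hα : IsLinearIsometryOn (zspanOn S {1}ᶜ) α) (hα1 : ∀ θ ∈ zspanOn S {1}ᶜ, α θ 1 = 0)
    (σ τ : (N → ℂ) → (G → ℂ)) (hσ : IsLinearIsometryOn (zspan X) σ)
    (hσα : ∀ θ ∈ zspanOn X {1}ᶜ, σ θ = α θ) (hτ : IsLinearIsometryOn (zspan Y) τ)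
    (hτα : ∀ θ ∈ zspanOn Y {1}ᶜ, τ θ = α θ)
    (hlink : ∃ χ₀ ∈ X, ∃ η₀ ∈ Y, α (χ₀ 1 • η₀ - η₀ 1 • χ₀) = χ₀ 1 • τ η₀ - η₀ 1 • σ χ₀) :
    IsCoherent (X ∪ Y) {1}ᶜ α := by
  have hirrX : ∀ ξ ∈ X, IsIrrCharacter N ξ := fun ξ h => hirr ξ (hXS h)
  have hirrY : ∀ ξ ∈ Y, IsIrrCharacter N ξ := fun ξ h => hirr ξ (hYS h)
  have hcross := cross_orthogonal S X Y hirr hXS hYS hXY hX2 hY2 α hα hα1 σ τ hσ hσα hτ hτα
  obtain ⟨χ₀, hχ₀, η₀, hη₀, hlink⟩ := hlink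
  refine ⟨?_, glue X Y σ τ, ⟨?_, ?_, ?_, ?_⟩, ?_⟩
  · -- a nonzero member vanishing at one
    obtain ⟨a, ha, b, hb, hab⟩ := hX2
    obtain ⟨an, hapos, han⟩ := exists_pos_nat_apply_one (hirrX _ ha)
    obtain ⟨bn, hbpos, hbn⟩ := exists_pos_nat_apply_one (hirrX _ hb)
    refine ⟨(bn : ℤ) • a + (-(an : ℤ)) • b, ?_, ?_⟩
    · rw [mem_zspanOn_one_iff]
      refine ⟨zspan_add (zspan_zsmul _ (mem_zspan_of_mem (Or.inl ha)))
        (zspan_zsmul _ (mem_zspan_of_mem (Or.inl hb))), ?_⟩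
      rw [comb_apply, han, hbn]
      push_cast
      ring
    · intro h0
      have h1 : classInner ((bn : ℤ) • a + (-(an : ℤ)) • b) a = (bn : ℂ) := by
        rw [classInner_add_left, classInner_zsmul_left, classInner_zsmul_left,
          irr_classInner_eq (hirrX _ ha) (hirrX _ ha), if_pos rfl,
          irr_classInner_eq (hirrX _ hb) (hirrX _ ha), if_neg (fun h => hab h.symm)]
        push_cast
        ring
      rw [h0, classInner_zero_left] at h1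
      exact (Nat.cast_ne_zero (R := ℂ)).mpr hbpos.ne' h1.symm
  · intro θ _ θ' _
    exact glue_add X Y σ τ θ θ'
  · intro θ _ n
    exact glue_zsmul X Y σ τ n θ
  · intro θ hθ θ' hθ'
    exact glue_isometry X Y hirrX hirrY hXY σ τ hσ hτ hcross hθ hθ'
  · intro θ hθ
    exact glue_isGeneralizedCharacter X Y hirrX hirrY σ τ hσ hτ hθ
  · intro θ hθ
    exact glue_eq_alpha S X Y hirr hXS hYS hXY α hα σ τ hσ hσα hτ hτα hχ₀ hη₀ hlink hθ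

end Cfsg.Agent.Lib.helper3.Coh
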