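import Mathlib
import Cfsg.Prelude.Def_OddOrderChar
import Cfsg.Agent.Lib.helper3.Coh5

set_option autoImplicit false
set_option linter.style.haveILetI false
set_option linter.unusedSectionVars false

/-!
# Auxiliary facts for the coherence criterion of Feit
-/

namespace Cfsg.Agent.Lib.helper3.Coh

open Cfsg Module Cfsg.Agent.Lib.helper3.CharBasic Cfsg.Agent.Lib.helper3.IndFun
open Cfsg.Agent.Lib.helper3.Irr
open scoped ComplexConjugate

variable {G : Type*} [Group G] [Fintype G] {N : Type*} [Group N] [Fintype N]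

/-- The inner product of two generalized characters is an integer. -/
theorem exists_int_classInner {u v : G → ℂ} (hu : IsGeneralizedCharacter G u)
    (hv : IsGeneralizedCharacter G v) : ∃ z : ℤ, classInner u v = (z : ℂ) := by
  obtain ⟨a, rfl⟩ := exists_int_decomposition hu
  obtain ⟨b, rfl⟩ := exists_int_decomposition hv
  exact ⟨_, classInner_int_decomposition a b⟩

/-- The norm of a generalized character is a natural number. -/
theorem exists_nat_norm {u : G → ℂ} (hu : IsGeneralizedCharacter G u) :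
    ∃ k : ℕ, classInner u u = (k : ℂ) := by
  obtain ⟨a, rfl⟩ := exists_int_decomposition hu
  refine ⟨(∑ ψ : IrrCharacter G, a ψ * a ψ).toNat, ?_⟩
  rw [classInner_int_decomposition]
  have h0 : 0 ≤ ∑ ψ : IrrCharacter G, a ψ * a ψ :=
    Finset.sum_nonneg (fun ψ _ => mul_self_nonneg _)
  have h1 : ((∑ ψ : IrrCharacter G, a ψ * a ψ).toNat : ℤ) = ∑ ψ : IrrCharacter G, a ψ * a ψ :=
    Int.toNat_of_nonneg h0
  rw [← h1]
  push_cast
  rfl

/-- Membership in the integer span of a single function. -/
theorem mem_zspan_singleton {X : Type*} {χ θ : X → ℂ} (h : θ ∈ zspan ({χ} : Set (X → ℂ))) :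
    ∃ z : ℤ, θ = z • χ := by
  unfold zspan at h
  obtain ⟨z, hz⟩ := Submodule.mem_span_singleton.mp h
  exact ⟨z, hz.symm⟩

/-- The orthogonal projection onto an orthonormal family with integer coefficients. -/
theorem bessel {ι : Type*} [DecidableEq ι] (s : Finset ι) (u : ι → G → ℂ)
    (hu : ∀ i ∈ s, ∀ j ∈ s, classInner (u i) (u j) = if i = j then 1 else 0) (A : G → ℂ)
    (a : ι → ℤ) (ha : ∀ i ∈ s, classInner A (u i) = (a i : ℂ)) :
    (∀ i ∈ s, classInner (A - ∑ j ∈ s, a j • u j) (u i) = 0) ∧
      classInner A A = ((∑ i ∈ s, a i ^ 2 : ℤ) : ℂ) +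
        classInner (A - ∑ j ∈ s, a j • u j) (A - ∑ j ∈ s, a j • u j) := by
  obtain ⟨P, hP⟩ : ∃ P : G → ℂ, P = ∑ j ∈ s, a j • u j := ⟨_, rfl⟩
  rw [← hP]
  have hPu : ∀ i ∈ s, classInner P (u i) = (a i : ℂ) := by
    intro i hi
    rw [hP, classInner_sum_left, Finset.sum_eq_single i]
    · rw [classInner_zsmul_left, hu i hi i hi, if_pos rfl, mul_one]
    · intro j hj hji
      rw [classInner_zsmul_left, hu j hj i hi, if_neg hji, mul_zero]
    · intro h; exact absurd hi h
  have hΔu : ∀ i ∈ s, classInner (A - P) (u i) = 0 := by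
    intro i hi
    rw [classInner_sub_left, ha i hi, hPu i hi, sub_self]
  have hΔP : classInner (A - P) P = 0 := by
    rw [hP, classInner_sum_right]
    apply Finset.sum_eq_zero
    intro j hj
    rw [classInner_zsmul_right, ← hP, hΔu j hj, mul_zero]
  have hPΔ : classInner P (A - P) = 0 := by
    rw [← classInner_conj_symm, hΔP, map_zero]
  have hPP : classInner P P = ((∑ i ∈ s, a i ^ 2 : ℤ) : ℂ) := by
    have h1 : classInner P P = ∑ i ∈ s, (a i : ℂ) * classInner (u i) P := by
      conv_lhs => rw [hP]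
      rw [classInner_sum_left]
      apply Finset.sum_congr rfl
      intro i _
      rw [classInner_zsmul_left, ← hP]
    rw [h1]
    push_cast
    apply Finset.sum_congr rfl
    intro i hi
    rw [← classInner_conj_symm, hPu i hi, map_intCast]
    ring
  refine ⟨hΔu, ?_⟩
  have hA : A = (A - P) + P := by rw [sub_add_cancel]
  conv_lhs => rw [hA]
  rw [classInner_add_left, classInner_add_right, classInner_add_right, hΔP, hPΔ, hPP]
  ring

end Cfsg.Agent.Lib.helper3.Coh
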