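import Mathlib
import Cfsg.Prelude.Def_OddOrderChar
import Cfsg.Agent.Lib.helper3.Coh6
import Cfsg.Agent.Lib.helper3.GenChar

set_option autoImplicit false
set_option linter.style.haveILetI false
set_option linter.unusedSectionVars false

/-!
# Coherence systems: basic consequences
-/

namespace Cfsg.Agent.Lib.helper3.Coh

open Cfsg Module Cfsg.Agent.Lib.helper3.CharBasic Cfsg.Agent.Lib.helper3.IndFun
open Cfsg.Agent.Lib.helper3.Irr
open scoped ComplexConjugate

section sys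

variable {L : Type*} [Group L] [Fintype L] {G : Type*} [Group G] [Fintype G]
variable {S : Set (L → ℂ)} {τ : (L → ℂ) → (G → ℂ)} {R : (L → ℂ) → Finset (G → ℂ)}

theorem conjFun_conjFun {X : Type*} (χ : X → ℂ) : conjFun (conjFun χ) = χ := by
  funext x
  simp [conjFun]

theorem classInner_conjFun (χ ψ : L → ℂ) :
    classInner (conjFun χ) (conjFun ψ) = conj (classInner χ ψ) :=
  classInner_conj_conj χ ψ

theorem conjFun_apply_one_of_isCharacter {χ : L → ℂ} (hχ : IsCharacter L χ) :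
    conjFun χ 1 = χ 1 := by
  obtain ⟨n, ρ, rfl⟩ := hχ
  simp [conjFun, Representation.char_one]

/-- The norm of a member of a coherence system, as a natural number. -/
theorem CS.exists_norm (hS : IsCoherenceSystem S τ R) {χ : L → ℂ} (hχ : χ ∈ S) :
    ∃ k : ℕ, 0 < k ∧ classInner χ χ = (k : ℂ) := by
  obtain ⟨k, hk⟩ := exists_nat_norm (GenChar.of_isCharacter (hS.isCharacter χ hχ))
  refine ⟨k, ?_, hk⟩
  rcases Nat.eq_zero_or_pos k with h0 | h0
  · exfalso
    rw [h0, Nat.cast_zero] at hk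
    have hz := eq_zero_of_classInner_self_eq_zero χ hk
    apply hS.conj_ne χ hχ
    rw [hz]
    funext x
    simp [conjFun]
  · exact h0

theorem CS.norm_conj (hS : IsCoherenceSystem S τ R) {χ : L → ℂ} (hχ : χ ∈ S) :
    classInner (conjFun χ) (conjFun χ) = classInner χ χ := by
  obtain ⟨k, -, hk⟩ := CS.exists_norm hS hχ
  rw [classInner_conjFun, hk, Complex.conj_natCast]

theorem CS.ortho_conj (hS : IsCoherenceSystem S τ R) {χ : L → ℂ} (hχ : χ ∈ S) :
    classInner χ (conjFun χ) = 0 :=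
  hS.orthogonal χ hχ _ (hS.conj_mem χ hχ) (hS.conj_ne χ hχ).symm

theorem CS.ortho_conj' (hS : IsCoherenceSystem S τ R) {χ : L → ℂ} (hχ : χ ∈ S) :
    classInner (conjFun χ) χ = 0 :=
  hS.orthogonal _ (hS.conj_mem χ hχ) χ hχ (hS.conj_ne χ hχ)

/-- Differences of members of equal degree lie in the domain of `τ`. -/
theorem CS.sub_mem (hdeg : ∀ φ ∈ S, ∀ ψ ∈ S, φ 1 = ψ 1) {φ ψ : L → ℂ} (hφ : φ ∈ S) (hψ : ψ ∈ S) :
    φ - ψ ∈ zspanOn S ({1}ᶜ : Set L) := by
  rw [mem_zspanOn_one_iff]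
  refine ⟨zspan_sub (mem_zspan_of_mem hφ) (mem_zspan_of_mem hψ), ?_⟩
  rw [Pi.sub_apply, hdeg φ hφ ψ hψ, sub_self]

theorem CS.sub_conj_mem (hS : IsCoherenceSystem S τ R) {φ : L → ℂ} (hφ : φ ∈ S) :
    φ - conjFun φ ∈ zspanOn S ({1}ᶜ : Set L) := by
  rw [mem_zspanOn_one_iff]
  refine ⟨zspan_sub (mem_zspan_of_mem hφ) (mem_zspan_of_mem (hS.conj_mem φ hφ)), ?_⟩
  rw [Pi.sub_apply, conjFun_apply_one_of_isCharacter (hS.isCharacter φ hφ), sub_self]

theorem zspanOn_one_zero : (0 : L → ℂ) ∈ zspanOn S ({1}ᶜ : Set L) := zspanOn_zero _ _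

/-- Additivity of `τ` along differences. -/
theorem CS.tau_sub_add (hS : IsCoherenceSystem S τ R) {a b c : L → ℂ}
    (hab : a - b ∈ zspanOn S ({1}ᶜ : Set L)) (hbc : b - c ∈ zspanOn S ({1}ᶜ : Set L)) :
    τ (a - b) + τ (b - c) = τ (a - c) := by
  rw [← hS.isometry.1 _ hab _ hbc, sub_add_sub_cancel]

theorem CS.tau_zero (hS : IsCoherenceSystem S τ R) : τ 0 = 0 :=
  map_zero_of_isom hS.isometry zspanOn_one_zero

/-- Inner products of images of differences. -/
theorem CS.inner_tau (hS : IsCoherenceSystem S τ R) {a b c d : L → ℂ}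
    (hab : a - b ∈ zspanOn S ({1}ᶜ : Set L)) (hcd : c - d ∈ zspanOn S ({1}ᶜ : Set L)) :
    classInner (τ (a - b)) (τ (c - d)) =
      classInner a c - classInner a d - classInner b c + classInner b d := by
  rw [hS.isometry.2.2.1 _ hab _ hcd, classInner_sub_left, classInner_sub_right,
    classInner_sub_right]
  ring

/-- Sums over subsets of an orthonormal set. -/
theorem inner_sum_subsets (T : Finset (G → ℂ))
    (hT : ∀ α ∈ T, ∀ β ∈ T, classInner α β = if α = β then 1 else 0) (A B : Finset (G → ℂ))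
    (hA : A ⊆ T) (hB : B ⊆ T) :
    classInner (∑ α ∈ A, α) (∑ β ∈ B, β) = ((A ∩ B).card : ℂ) := by
  classical
  rw [classInner_sum_left]
  have h1 : ∀ α ∈ A, classInner α (∑ β ∈ B, β) = if α ∈ B then 1 else 0 := by
    intro α hα
    rw [classInner_sum_right]
    by_cases hαB : α ∈ B
    · rw [if_pos hαB, Finset.sum_eq_single α]
      · rw [hT α (hA hα) α (hA hα), if_pos rfl]
      · intro β hβ hne
        rw [hT α (hA hα) β (hB hβ), if_neg (Ne.symm hne)]
      · intro h; exact absurd hαB h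
    · rw [if_neg hαB]
      apply Finset.sum_eq_zero
      intro β hβ
      rw [hT α (hA hα) β (hB hβ), if_neg]
      intro h; rw [h] at hαB; exact hαB hβ
  rw [Finset.sum_congr rfl h1, Finset.sum_ite, Finset.sum_const_zero, add_zero, Finset.sum_const,
    nsmul_eq_mul, mul_one, Finset.filter_mem_eq_inter]

theorem CS.card_R (hS : IsCoherenceSystem S τ R) {χ : L → ℂ} (hχ : χ ∈ S) (k : ℕ)
    (hk : classInner χ χ = (k : ℂ)) : (R χ).card = 2 * k := by
  have h1 := inner_sum_subsets (R χ) (hS.orthonormal χ hχ) (R χ) (R χ) (Finset.Subset.refl _)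
    (Finset.Subset.refl _)
  rw [← hS.sum_eq χ hχ, CS.inner_tau hS (CS.sub_conj_mem hS hχ) (CS.sub_conj_mem hS hχ),
    CS.norm_conj hS hχ, CS.ortho_conj hS hχ, CS.ortho_conj' hS hχ, hk, Finset.inter_self] at h1
  have h2 : ((2 * k : ℕ) : ℂ) = ((R χ).card : ℂ) := by
    rw [← h1]; push_cast; ring
  exact_mod_cast h2.symm

end sys

end Cfsg.Agent.Lib.helper3.Coh
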