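import Mathlib
import Cfsg.Prelude.Def_OddOrderChar
import Cfsg.Agent.Lib.helper3.Coh9

set_option autoImplicit false
set_option linter.style.haveILetI false
set_option linter.unusedSectionVars false

/-!
# Coherence systems of constant degree: analysis of a pair
-/

namespace Cfsg.Agent.Lib.helper3.Coh

open Cfsg Module Cfsg.Agent.Lib.helper3.CharBasic Cfsg.Agent.Lib.helper3.IndFun
open Cfsg.Agent.Lib.helper3.Irr
open scoped ComplexConjugate

section sys

variable {L : Type*} [Group L] [Fintype L] {G : Type*} [Group G] [Fintype G]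
variable {S : Set (L → ℂ)} {τ : (L → ℂ) → (G → ℂ)} {R : (L → ℂ) → Finset (G → ℂ)}

theorem int_sq_ge (a : ℤ) : a ≤ a ^ 2 := by nlinarith [sq_nonneg (a - 1), sq_nonneg a]

theorem int_sq_ge_neg (a : ℤ) : -a ≤ a ^ 2 := by nlinarith [sq_nonneg (a + 1), sq_nonneg a]

theorem int_eq_of_sq_eq (a : ℤ) (h : a ^ 2 = a) : a = 0 ∨ a = 1 := by
  have : a * (a - 1) = 0 := by linear_combination h
  rcases mul_eq_zero.mp this with h | h
  · left; exact h
  · right; omega

/-- Analysis of the image of a difference of two members. -/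
theorem CS.pair (hS : IsCoherenceSystem S τ R) (hdeg : ∀ φ ∈ S, ∀ ψ ∈ S, φ 1 = ψ 1)
    {φ ψ : L → ℂ} (hφ : φ ∈ S) (hψ : ψ ∈ S) (h1 : ψ ≠ φ) (h2 : ψ ≠ conjFun φ) (kφ kψ : ℕ)
    (hkφ : classInner φ φ = (kφ : ℂ)) (hkψ : classInner ψ ψ = (kψ : ℂ)) :
    (∀ α ∈ R φ, classInner (τ (φ - ψ)) α = 0 ∨ classInner (τ (φ - ψ)) α = 1) ∧
    (∑ α ∈ R φ, classInner (τ (φ - ψ)) α = (kφ : ℂ)) ∧
    (∀ w : G → ℂ, (∀ j ∈ R φ, classInner j w = 0) → (∀ j ∈ R ψ, classInner j w = 0) →
      classInner (τ (φ - ψ)) w = 0) := by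
  classical
  have hmem := CS.sub_mem hdeg hφ hψ
  set v := τ (φ - ψ) with hv
  have hvg : IsGeneralizedCharacter G v := hS.isometry.2.2.2 _ hmem
  have hφψ : classInner φ ψ = 0 := hS.orthogonal φ hφ ψ hψ h1.symm
  have hψφ : classInner ψ φ = 0 := hS.orthogonal ψ hψ φ hφ h1
  have hψφc : classInner ψ (conjFun φ) = 0 := hS.orthogonal ψ hψ _ (hS.conj_mem φ hφ) h2
  have hφψc : classInner φ (conjFun ψ) = 0 := by
    apply hS.orthogonal φ hφ _ (hS.conj_mem ψ hψ)
    intro h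
    apply h2
    rw [h, conjFun_conjFun]
  have hRR : ∀ α ∈ R φ, ∀ β ∈ R ψ, classInner α β = 0 := hS.disjoint ψ hψ φ hφ hφψ hφψc
  have hRR' : ∀ β ∈ R ψ, ∀ α ∈ R φ, classInner β α = 0 := by
    intro β hβ α hα
    rw [← classInner_conj_symm, hRR α hα β hβ, map_zero]
  have hdisj : Disjoint (R φ) (R ψ) := by
    rw [Finset.disjoint_left]
    intro α hα hα'
    have h0 := hRR α hα α hα'
    rw [hS.orthonormal φ hφ α hα α hα, if_pos rfl] at h0
    exact one_ne_zero h0
  -- sums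
  have hsum1 : ∑ α ∈ R φ, classInner v α = (kφ : ℂ) := by
    rw [← classInner_sum_right, ← hS.sum_eq φ hφ, hv,
      CS.inner_tau hS hmem (CS.sub_conj_mem hS hφ), hkφ, CS.ortho_conj hS hφ, hψφ, hψφc]
    ring
  have hsum2 : ∑ β ∈ R ψ, classInner v β = -(kψ : ℂ) := by
    rw [← classInner_sum_right, ← hS.sum_eq ψ hψ, hv,
      CS.inner_tau hS hmem (CS.sub_conj_mem hS hψ), hkψ, CS.ortho_conj hS hψ, hφψ, hφψc]
    ring
  -- integer coefficients
  have hex : ∀ j : G → ℂ, ∃ z : ℤ, j ∈ R φ ∪ R ψ → classInner v j = (z : ℂ) := by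
    intro j
    by_cases hj : j ∈ R φ ∪ R ψ
    · have hjg : IsGeneralizedCharacter G j := by
        rcases Finset.mem_union.mp hj with h | h
        · exact hS.virtual φ hφ j h
        · exact hS.virtual ψ hψ j h
      obtain ⟨z, hz⟩ := exists_int_classInner hvg hjg
      exact ⟨z, fun _ => hz⟩
    · exact ⟨0, fun h => absurd h hj⟩
  choose a ha using hex
  have hu : ∀ i ∈ R φ ∪ R ψ, ∀ j ∈ R φ ∪ R ψ,
      classInner ((fun x : G → ℂ => x) i) ((fun x : G → ℂ => x) j) = if i = j then 1 else 0 := by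
    intro i hi j hj
    simp only
    rcases Finset.mem_union.mp hi with hi' | hi' <;> rcases Finset.mem_union.mp hj with hj' | hj'
    · exact hS.orthonormal φ hφ i hi' j hj'
    · rw [hRR i hi' j hj', if_neg]
      intro h
      rw [h] at hi'
      exact Finset.disjoint_left.mp hdisj hi' hj'
    · rw [hRR' i hi' j hj', if_neg]
      intro h
      rw [h] at hi'
      exact Finset.disjoint_left.mp hdisj hj' hi'
    · exact hS.orthonormal ψ hψ i hi' j hj'
  obtain ⟨-, hb⟩ := bessel (R φ ∪ R ψ) (fun x : G → ℂ => x) hu v a (fun i hi => ha i hi)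
  set P := ∑ j ∈ R φ ∪ R ψ, a j • (fun x : G → ℂ => x) j with hP
  have hPg : IsGeneralizedCharacter G (v - P) := by
    apply GenChar.sub hvg
    apply GenChar.sum
    intro j hj
    apply GenChar.zsmul
    rcases Finset.mem_union.mp hj with h | h
    · exact hS.virtual φ hφ j h
    · exact hS.virtual ψ hψ j h
  obtain ⟨m, hm⟩ := exists_nat_norm hPg
  have hvv : classInner v v = (kφ : ℂ) + (kψ : ℂ) := by
    rw [hv, CS.inner_tau hS hmem hmem, hkφ, hkψ, hφψ, hψφ]
    ring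
  rw [hvv, hm, Finset.sum_union hdisj] at hb
  have hbZ : (kφ : ℤ) + (kψ : ℤ) = (∑ i ∈ R φ, a i ^ 2) + (∑ i ∈ R ψ, a i ^ 2) + (m : ℤ) := by
    have : (((kφ : ℤ) + (kψ : ℤ) : ℤ) : ℂ) =
        (((∑ i ∈ R φ, a i ^ 2) + (∑ i ∈ R ψ, a i ^ 2) + (m : ℤ) : ℤ) : ℂ) := by
      push_cast
      push_cast at hb
      exact hb
    exact_mod_cast this
  have hs1Z : ∑ α ∈ R φ, a α = (kφ : ℤ) := by
    have : ((∑ α ∈ R φ, a α : ℤ) : ℂ) = ((kφ : ℤ) : ℂ) := by
      push_cast
      rw [← hsum1]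
      apply Finset.sum_congr rfl
      intro α hα
      rw [ha α (Finset.mem_union_left _ hα)]
    exact_mod_cast this
  have hs2Z : ∑ β ∈ R ψ, a β = -(kψ : ℤ) := by
    have : ((∑ β ∈ R ψ, a β : ℤ) : ℂ) = ((-(kψ : ℤ) : ℤ) : ℂ) := by
      push_cast
      rw [← hsum2]
      apply Finset.sum_congr rfl
      intro β hβ
      rw [ha β (Finset.mem_union_right _ hβ)]
    exact_mod_cast this
  have hge1 : ∑ α ∈ R φ, a α ≤ ∑ α ∈ R φ, a α ^ 2 :=
    Finset.sum_le_sum (fun α _ => int_sq_ge (a α))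
  have hge2 : -∑ β ∈ R ψ, a β ≤ ∑ β ∈ R ψ, a β ^ 2 := by
    rw [← Finset.sum_neg_distrib]
    exact Finset.sum_le_sum (fun β _ => int_sq_ge_neg (a β))
  have hm0 : m = 0 := by
    have : (m : ℤ) = 0 := by
      have h0 : (0 : ℤ) ≤ m := Int.natCast_nonneg m
      omega
    exact_mod_cast this
  have heq1 : ∑ α ∈ R φ, (a α ^ 2 - a α) = 0 := by
    rw [Finset.sum_sub_distrib]
    have h0 : (0 : ℤ) ≤ m := Int.natCast_nonneg m
    omega
  have hall : ∀ α ∈ R φ, a α ^ 2 - a α = 0 :=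
    (Finset.sum_eq_zero_iff_of_nonneg (fun α _ => by have := int_sq_ge (a α); omega)).mp heq1
  have hvP : v = P := by
    rw [hm0, Nat.cast_zero] at hm
    have := eq_zero_of_classInner_self_eq_zero _ hm
    exact sub_eq_zero.mp this
  refine ⟨?_, hsum1, ?_⟩
  · intro α hα
    rw [ha α (Finset.mem_union_left _ hα)]
    rcases int_eq_of_sq_eq (a α) (by have := hall α hα; omega) with h | h
    · left; rw [h]; simp
    · right; rw [h]; simp
  · intro w hw1 hw2
    rw [hvP, hP, classInner_sum_left]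
    apply Finset.sum_eq_zero
    intro j hj
    rw [classInner_zsmul_left]
    rcases Finset.mem_union.mp hj with h | h
    · rw [hw1 j h, mul_zero]
    · rw [hw2 j h, mul_zero]

end sys

end Cfsg.Agent.Lib.helper3.Coh
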