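import Mathlib
import Cfsg.Prelude.Def_OddOrderChar
import Cfsg.Agent.Lib.helper3.Coh10

set_option autoImplicit false
set_option linter.style.haveILetI false
set_option linter.unusedSectionVars false

/-!
# Coherence systems of constant degree: the base vector and the extension on members
-/

namespace Cfsg.Agent.Lib.helper3.Coh

open Cfsg Module Cfsg.Agent.Lib.helper3.CharBasic Cfsg.Agent.Lib.helper3.IndFun
open Cfsg.Agent.Lib.helper3.Irr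
open scoped ComplexConjugate

section sys

variable {L : Type*} [Group L] [Fintype L] {G : Type*} [Group G] [Fintype G]
variable {S : Set (L → ℂ)} {τ : (L → ℂ) → (G → ℂ)} {R : (L → ℂ) → Finset (G → ℂ)}

/-- Sums over a subset of `R χ₀` of the right size have the basic properties of a base vector. -/
theorem CS.base_common (hS : IsCoherenceSystem S τ R) {χ₀ : L → ℂ} (hχ₀ : χ₀ ∈ S) (k₀ : ℕ)
    (R₁ : Finset (G → ℂ)) (hR₁ : R₁ ⊆ R χ₀) (hcard : R₁.card = k₀) :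
    IsGeneralizedCharacter G (∑ α ∈ R₁, α) ∧ classInner (∑ α ∈ R₁, α) (∑ α ∈ R₁, α) = (k₀ : ℂ) ∧
      classInner (∑ α ∈ R₁, α) (τ (χ₀ - conjFun χ₀)) = (k₀ : ℂ) := by
  classical
  refine ⟨?_, ?_, ?_⟩
  · apply GenChar.sum
    intro α hα
    exact hS.virtual χ₀ hχ₀ α (hR₁ hα)
  · rw [inner_sum_subsets (R χ₀) (hS.orthonormal χ₀ hχ₀) R₁ R₁ hR₁ hR₁, Finset.inter_self, hcard]
  · rw [hS.sum_eq χ₀ hχ₀, inner_sum_subsets (R χ₀) (hS.orthonormal χ₀ hχ₀) R₁ (R χ₀) hR₁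
      (Finset.Subset.refl _), Finset.inter_eq_left.mpr hR₁, hcard]

/-- Existence of the base vector. -/
theorem CS.exists_base (hS : IsCoherenceSystem S τ R) (hdeg : ∀ φ ∈ S, ∀ ψ ∈ S, φ 1 = ψ 1)
    {χ₀ : L → ℂ} (hχ₀ : χ₀ ∈ S) (k₀ : ℕ) (hk₀ : classInner χ₀ χ₀ = (k₀ : ℂ)) :
    ∃ X : G → ℂ, IsGeneralizedCharacter G X ∧ classInner X X = (k₀ : ℂ) ∧
      ∀ φ ∈ S, φ ≠ χ₀ → classInner X (τ (χ₀ - φ)) = (k₀ : ℂ) := by
  classical
  by_cases hex : ∃ ψ₀ ∈ S, ψ₀ ≠ χ₀ ∧ ψ₀ ≠ conjFun χ₀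
  · obtain ⟨ψ₀, hψ₀, hne1, hne2⟩ := hex
    obtain ⟨k₁, -, hk₁⟩ := CS.exists_norm hS hψ₀
    obtain ⟨hA, hsum, -⟩ := CS.pair hS hdeg hχ₀ hψ₀ hne1 hne2 k₀ k₁ hk₀ hk₁
    set v₀ := τ (χ₀ - ψ₀) with hv₀
    set R₁ := (R χ₀).filter (fun α => classInner v₀ α = 1) with hR₁
    have hR₁sub : R₁ ⊆ R χ₀ := Finset.filter_subset _ _
    have hcard : R₁.card = k₀ := by
      have h1 : ∑ α ∈ R χ₀, classInner v₀ α = ∑ α ∈ R χ₀, (if classInner v₀ α = 1 then 1 else 0) := by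
        apply Finset.sum_congr rfl
        intro α hα
        rcases hA α hα with h | h
        · rw [h, if_neg]; exact zero_ne_one
        · rw [h, if_pos rfl]
      rw [h1, Finset.sum_boole] at hsum
      exact_mod_cast hsum
    obtain ⟨hXg, hXX, hXc⟩ := CS.base_common hS hχ₀ k₀ R₁ hR₁sub hcard
    refine ⟨∑ α ∈ R₁, α, hXg, hXX, ?_⟩
    -- orthogonality facts
    have hχψ : classInner χ₀ ψ₀ = 0 := hS.orthogonal χ₀ hχ₀ ψ₀ hψ₀ hne1.symm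
    have hψχ : classInner ψ₀ χ₀ = 0 := hS.orthogonal ψ₀ hψ₀ χ₀ hχ₀ hne1
    have hψχc : classInner ψ₀ (conjFun χ₀) = 0 := hS.orthogonal ψ₀ hψ₀ _ (hS.conj_mem χ₀ hχ₀) hne2
    have hχψc : classInner χ₀ (conjFun ψ₀) = 0 := by
      apply hS.orthogonal χ₀ hχ₀ _ (hS.conj_mem ψ₀ hψ₀)
      intro h
      apply hne2
      rw [h, conjFun_conjFun]
    have hX_R : ∀ (φ : L → ℂ), φ ∈ S → φ ≠ χ₀ → φ ≠ conjFun χ₀ →
        ∀ j ∈ R φ, classInner j (∑ α ∈ R₁, α) = 0 := by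
      intro φ hφ h1 h2 j hj
      rw [classInner_sum_right]
      apply Finset.sum_eq_zero
      intro α hα
      exact hS.disjoint χ₀ hχ₀ φ hφ (hS.orthogonal φ hφ χ₀ hχ₀ h1)
        (hS.orthogonal φ hφ _ (hS.conj_mem χ₀ hχ₀) h2) j hj α (hR₁sub hα)
    have hX_R' : ∀ (φ : L → ℂ), φ ∈ S → φ ≠ χ₀ → φ ≠ conjFun χ₀ →
        ∀ j ∈ R φ, classInner (∑ α ∈ R₁, α) j = 0 := by
      intro φ hφ h1 h2 j hj
      rw [← classInner_conj_symm, hX_R φ hφ h1 h2 j hj, map_zero]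
    have hXv₀ : classInner (∑ α ∈ R₁, α) v₀ = (k₀ : ℂ) := by
      rw [classInner_sum_left]
      have : ∀ α ∈ R₁, classInner α v₀ = 1 := by
        intro α hα
        rw [← classInner_conj_symm, (Finset.mem_filter.mp hα).2, map_one]
      rw [Finset.sum_congr rfl this, Finset.sum_const, hcard]
      simp
    intro φ hφ hφne
    by_cases hc : φ = conjFun χ₀
    · rw [hc]; exact hXc
    by_cases hp : φ = ψ₀
    · rw [hp]; exact hXv₀
    by_cases hpc : φ = conjFun ψ₀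
    · rw [hpc, ← CS.tau_sub_add hS (CS.sub_mem hdeg hχ₀ hψ₀) (CS.sub_conj_mem hS hψ₀),
        classInner_add_right, hXv₀, hS.sum_eq ψ₀ hψ₀, classInner_sum_right]
      rw [Finset.sum_eq_zero, add_zero]
      intro β hβ
      exact hX_R' ψ₀ hψ₀ hne1 hne2 β hβ
    · obtain ⟨k₂, -, hk₂⟩ := CS.exists_norm hS hφ
      obtain ⟨-, -, hC⟩ := CS.pair hS hdeg hψ₀ hφ hp hpc k₁ k₂ hk₁ hk₂
      rw [← CS.tau_sub_add hS (CS.sub_mem hdeg hχ₀ hψ₀) (CS.sub_mem hdeg hψ₀ hφ),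
        classInner_add_right, hXv₀]
      have h0 : classInner (τ (ψ₀ - φ)) (∑ α ∈ R₁, α) = 0 :=
        hC _ (hX_R ψ₀ hψ₀ hne1 hne2) (hX_R φ hφ hφne hc)
      rw [← classInner_conj_symm, h0, map_zero, add_zero]
  · push Not at hex
    have hle : k₀ ≤ (R χ₀).card := by
      rw [CS.card_R hS hχ₀ k₀ hk₀]; omega
    obtain ⟨R₁, hR₁sub, hcard⟩ := Finset.exists_subset_card_eq hle
    obtain ⟨hXg, hXX, hXc⟩ := CS.base_common hS hχ₀ k₀ R₁ hR₁sub hcard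
    refine ⟨∑ α ∈ R₁, α, hXg, hXX, ?_⟩
    intro φ hφ hφne
    rw [hex φ hφ hφne]
    exact hXc

/-- The extension on the members of `S`. -/
theorem CS.exists_T (hS : IsCoherenceSystem S τ R) (hdeg : ∀ φ ∈ S, ∀ ψ ∈ S, φ 1 = ψ 1) :
    ∃ T : (L → ℂ) → (G → ℂ), (∀ φ ∈ S, IsGeneralizedCharacter G (T φ)) ∧
      (∀ φ ∈ S, ∀ φ' ∈ S, classInner (T φ) (T φ') = if φ = φ' then classInner φ φ else 0) ∧
      (∀ φ ∈ S, ∀ φ' ∈ S, T φ - T φ' = τ (φ - φ')) := by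
  classical
  obtain ⟨χ₀, hχ₀⟩ := hS.nonempty
  obtain ⟨k₀, -, hk₀⟩ := CS.exists_norm hS hχ₀
  obtain ⟨X, hXg, hXX, hXτ⟩ := CS.exists_base hS hdeg hχ₀ k₀ hk₀
  have hTg : ∀ φ ∈ S, IsGeneralizedCharacter G (X - τ (χ₀ - φ)) := by
    intro φ hφ
    exact GenChar.sub hXg (hS.isometry.2.2.2 _ (CS.sub_mem hdeg hχ₀ hφ))
  have hdiff : ∀ φ ∈ S, ∀ φ' ∈ S, (X - τ (χ₀ - φ)) - (X - τ (χ₀ - φ')) = τ (φ - φ') := by
    intro φ hφ φ' hφ'
    rw [← CS.tau_sub_add hS (CS.sub_mem hdeg hχ₀ hφ) (CS.sub_mem hdeg hφ hφ')]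
    abel
  have hnorm : ∀ φ ∈ S, classInner (X - τ (χ₀ - φ)) (X - τ (χ₀ - φ)) = classInner φ φ := by
    intro φ hφ
    by_cases hφ0 : φ = χ₀
    · rw [hφ0, sub_self, CS.tau_zero hS, sub_zero, hXX, hk₀]
    · have h1 := hXτ φ hφ hφ0
      have h2 : classInner (τ (χ₀ - φ)) X = (k₀ : ℂ) := by
        rw [← classInner_conj_symm, h1, Complex.conj_natCast]
      rw [classInner_sub_left, classInner_sub_right, classInner_sub_right, hXX, h1, h2,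
        CS.inner_tau hS (CS.sub_mem hdeg hχ₀ hφ) (CS.sub_mem hdeg hχ₀ hφ), hk₀,
        hS.orthogonal χ₀ hχ₀ φ hφ (Ne.symm hφ0), hS.orthogonal φ hφ χ₀ hχ₀ hφ0]
      ring
  refine ⟨fun φ => X - τ (χ₀ - φ), hTg, ?_, hdiff⟩
  intro φ hφ φ' hφ'
  simp only
  by_cases hφφ' : φ = φ'
  · rw [if_pos hφφ', ← hφφ']
    exact hnorm φ hφ
  · rw [if_neg hφφ']
    obtain ⟨A, hA⟩ : ∃ A, A = X - τ (χ₀ - φ) := ⟨_, rfl⟩
    obtain ⟨B, hB⟩ : ∃ B, B = X - τ (χ₀ - φ') := ⟨_, rfl⟩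
    have hAA : classInner A A = classInner φ φ := by rw [hA]; exact hnorm φ hφ
    have hBB : classInner B B = classInner φ' φ' := by rw [hB]; exact hnorm φ' hφ'
    have hAB : classInner (A - B) (A - B) = classInner φ φ + classInner φ' φ' := by
      rw [hA, hB, hdiff φ hφ φ' hφ', CS.inner_tau hS (CS.sub_mem hdeg hφ hφ') (CS.sub_mem hdeg hφ hφ'),
        hS.orthogonal φ hφ φ' hφ' hφφ', hS.orthogonal φ' hφ' φ hφ (Ne.symm hφφ')]
      ring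
    obtain ⟨z, hz⟩ : ∃ z : ℤ, classInner A B = (z : ℂ) := by
      rw [hA, hB]; exact exists_int_classInner (hTg φ hφ) (hTg φ' hφ')
    have hBA : classInner B A = (z : ℂ) := by
      rw [← classInner_conj_symm, hz, map_intCast]
    have e : classInner (A - B) (A - B) =
        classInner A A - classInner A B - classInner B A + classInner B B := by
      rw [classInner_sub_left, classInner_sub_right, classInner_sub_right]; ring
    rw [e, hAA, hBB, hz, hBA] at hAB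
    have h2 : (z : ℂ) = 0 := by linear_combination (-1 / 2 : ℂ) * hAB
    rw [← hA, ← hB, hz, h2]

end sys

end Cfsg.Agent.Lib.helper3.Coh
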