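import Mathlib
import Cfsg.Prelude.Def_OddOrderChar
import Cfsg.Agent.Lib.helper3.Coh11

set_option autoImplicit false
set_option linter.style.haveILetI false
set_option linter.unusedSectionVars false

/-!
# Coherence systems of constant degree are coherent
-/

namespace Cfsg.Agent.Lib.helper3.Coh

open Cfsg Module Cfsg.Agent.Lib.helper3.CharBasic Cfsg.Agent.Lib.helper3.IndFun
open Cfsg.Agent.Lib.helper3.Irr
open scoped ComplexConjugate

section sys

variable {L : Type*} [Group L] [Fintype L] {G : Type*} [Group G] [Fintype G]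
variable {S : Set (L → ℂ)} {τ : (L → ℂ) → (G → ℂ)} {R : (L → ℂ) → Finset (G → ℂ)}

theorem CS.finite (hS : IsCoherenceSystem S τ R) : S.Finite := by
  classical
  apply LinearIndependent.set_finite_of_isNoetherian (R := ℂ)
  rw [linearIndependent_iff']
  intro s g hg i hi
  have h1 : classInner (∑ j ∈ s, g j • (j : L → ℂ)) (i : L → ℂ) = 0 := by
    rw [hg, classInner_zero_left]
  rw [classInner_sum_left, Finset.sum_eq_single i] at h1
  · rw [classInner_smul_left] at h1
    obtain ⟨k, hk0, hk⟩ := CS.exists_norm hS i.2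
    rw [hk] at h1
    have : (k : ℂ) ≠ 0 := by exact_mod_cast hk0.ne'
    exact (mul_eq_zero.mp h1).resolve_right this
  · intro j _ hji
    rw [classInner_smul_left, hS.orthogonal j j.2 i i.2 (fun h => hji (Subtype.ext h)), mul_zero]
  · intro h; exact absurd hi h

theorem exists_coeff_finset (F : Finset (L → ℂ)) (hF : ∀ φ, φ ∈ F ↔ φ ∈ S) {α : L → ℂ}
    (hα : α ∈ zspan S) : ∃ z : (L → ℂ) → ℤ, α = ∑ φ ∈ F, z φ • φ := by
  classical
  unfold zspan at hα
  induction hα using Submodule.span_induction with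
  | mem ξ hξ =>
    refine ⟨fun φ => if φ = ξ then 1 else 0, ?_⟩
    rw [Finset.sum_eq_single ξ]
    · simp
    · intro φ _ hne
      simp only
      rw [if_neg hne, zero_smul]
    · intro h; exact absurd ((hF ξ).mpr hξ) h
  | zero => exact ⟨fun _ => 0, by simp⟩
  | add x y _ _ hx hy =>
    obtain ⟨z, hz⟩ := hx
    obtain ⟨w, hw⟩ := hy
    refine ⟨fun φ => z φ + w φ, ?_⟩
    rw [hz, hw, ← Finset.sum_add_distrib]
    apply Finset.sum_congr rfl
    intro φ _
    rw [add_smul]
  | smul n x _ hx =>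
    obtain ⟨z, hz⟩ := hx
    refine ⟨fun φ => n * z φ, ?_⟩
    rw [hz, Finset.smul_sum]
    apply Finset.sum_congr rfl
    intro φ _
    rw [mul_smul]

/-- Inner products of combinations of an orthogonal family. -/
theorem inner_orth_comb {H : Type*} [Group H] [Fintype H] {ι : Type*} [DecidableEq ι]
    (F : Finset ι) (e : ι → H → ℂ) (n : ι → ℂ)
    (he : ∀ i ∈ F, ∀ j ∈ F, classInner (e i) (e j) = if i = j then n i else 0) (z w : ι → ℤ) :
    classInner (∑ i ∈ F, z i • e i) (∑ j ∈ F, w j • e j) = ∑ i ∈ F, (z i : ℂ) * (w i : ℂ) * n i := by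
  rw [classInner_sum_left]
  apply Finset.sum_congr rfl
  intro i hi
  rw [classInner_zsmul_left, classInner_sum_right, Finset.sum_eq_single i]
  · rw [classInner_zsmul_right, he i hi i hi, if_pos rfl]
    ring
  · intro j hj hji
    rw [classInner_zsmul_right, he i hi j hj, if_neg (Ne.symm hji), mul_zero]
  · intro h; exact absurd hi h

theorem apply_one_ne_zero_of_ne_zero {χ : L → ℂ} (hχ : IsCharacter L χ) (h0 : χ ≠ 0) : χ 1 ≠ 0 := by
  intro h
  apply h0
  obtain ⟨n, ρ, rfl⟩ := hχ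
  funext g
  have h1 := norm_character_le ρ g
  have h2 : ρ.character 1 = (finrank ℂ (Fin n → ℂ) : ℂ) := Representation.char_one ρ
  rw [h] at h2
  have h3 : finrank ℂ (Fin n → ℂ) = 0 := by exact_mod_cast h2.symm
  rw [h3, Nat.cast_zero] at h1
  exact norm_le_zero_iff.mp h1

/-- Peterfalvi (5.4): a coherence system all of whose members have the same degree is coherent. -/
theorem CS.coherent_of_constant_degree (hS : IsCoherenceSystem S τ R)
    (hdeg : ∀ φ ∈ S, ∀ ψ ∈ S, φ 1 = ψ 1) : IsCoherent S ({1}ᶜ : Set L) τ := by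
  classical
  obtain ⟨χ₀, hχ₀⟩ := hS.nonempty
  refine ⟨⟨χ₀ - conjFun χ₀, CS.sub_conj_mem hS hχ₀, ?_⟩, ?_⟩
  · intro h
    exact hS.conj_ne χ₀ hχ₀ (sub_eq_zero.mp h).symm
  obtain ⟨T, hTg, hTT, hTd⟩ := CS.exists_T hS hdeg
  have hfin := CS.finite hS
  set F := hfin.toFinset with hF
  have hFmem : ∀ φ, φ ∈ F ↔ φ ∈ S := fun φ => Set.Finite.mem_toFinset hfin
  -- the extension
  set τ₁ : (L → ℂ) → (G → ℂ) := fun α => ∑ φ ∈ F, (classInner α φ / classInner φ φ) • T φ with hτ₁
  have hnorm_ne : ∀ φ ∈ F, classInner φ φ ≠ 0 := by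
    intro φ hφ
    obtain ⟨k, hk0, hk⟩ := CS.exists_norm hS ((hFmem φ).mp hφ)
    rw [hk]; exact_mod_cast hk0.ne'
  have horthS : ∀ i ∈ F, ∀ j ∈ F, classInner i j = if i = j then classInner i i else 0 := by
    intro i hi j hj
    by_cases hij : i = j
    · rw [if_pos hij, hij]
    · rw [if_neg hij]; exact hS.orthogonal i ((hFmem i).mp hi) j ((hFmem j).mp hj) hij
  have horthT : ∀ i ∈ F, ∀ j ∈ F, classInner (T i) (T j) = if i = j then classInner i i else 0 :=
    fun i hi j hj => hTT i ((hFmem i).mp hi) j ((hFmem j).mp hj)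
  have hτ₁comb : ∀ z : (L → ℂ) → ℤ, τ₁ (∑ φ ∈ F, z φ • φ) = ∑ φ ∈ F, z φ • T φ := by
    intro z
    rw [hτ₁]
    simp only
    apply Finset.sum_congr rfl
    intro ψ hψ
    have h1 : classInner (∑ φ ∈ F, z φ • φ) ψ = (z ψ : ℂ) * classInner ψ ψ := by
      rw [classInner_sum_left, Finset.sum_eq_single ψ]
      · rw [classInner_zsmul_left]
      · intro φ hφ hne
        rw [classInner_zsmul_left, horthS φ hφ ψ hψ, if_neg hne, mul_zero]
      · intro h; exact absurd hψ h
    rw [h1, mul_div_assoc, div_self (hnorm_ne ψ hψ), mul_one, zsmul_eq_smul]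
  refine ⟨τ₁, ⟨?_, ?_, ?_, ?_⟩, ?_⟩
  · intro α _ β _
    rw [hτ₁]
    simp only
    rw [← Finset.sum_add_distrib]
    apply Finset.sum_congr rfl
    intro φ _
    rw [classInner_add_left, add_div, add_smul]
  · intro α _ n
    rw [hτ₁]
    simp only
    rw [Finset.smul_sum]
    apply Finset.sum_congr rfl
    intro φ _
    rw [classInner_zsmul_left, mul_div_assoc, mul_smul, zsmul_eq_smul]
  · intro α hα β hβ
    obtain ⟨z, rfl⟩ := exists_coeff_finset F hFmem hα
    obtain ⟨w, rfl⟩ := exists_coeff_finset F hFmem hβ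
    rw [hτ₁comb z, hτ₁comb w, inner_orth_comb F T (fun φ => classInner φ φ) horthT z w,
      inner_orth_comb F (fun φ => φ) (fun φ => classInner φ φ) horthS z w]
  · intro α hα
    obtain ⟨z, rfl⟩ := exists_coeff_finset F hFmem hα
    rw [hτ₁comb z]
    apply GenChar.sum
    intro φ hφ
    exact GenChar.zsmul (hTg φ ((hFmem φ).mp hφ)) _
  · intro α hα
    rw [mem_zspanOn_one_iff] at hα
    obtain ⟨z, hz⟩ := exists_coeff_finset F hFmem hα.1
    have hχ₀ne : χ₀ ≠ 0 := by
      intro h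
      apply hS.conj_ne χ₀ hχ₀
      rw [h]; funext x; simp [conjFun]
    have hδ : χ₀ 1 ≠ 0 := apply_one_ne_zero_of_ne_zero (hS.isCharacter χ₀ hχ₀) hχ₀ne
    have hsum0 : ∑ φ ∈ F, z φ = 0 := by
      have h1 : α 1 = ∑ φ ∈ F, (z φ : ℂ) * χ₀ 1 := by
        rw [hz, Finset.sum_apply]
        apply Finset.sum_congr rfl
        intro φ hφ
        rw [Pi.smul_apply, zsmul_eq_mul, hdeg φ ((hFmem φ).mp hφ) χ₀ hχ₀]
      rw [hα.2, ← Finset.sum_mul] at h1
      have h2 : (∑ φ ∈ F, (z φ : ℂ)) = 0 := (mul_eq_zero.mp h1.symm).resolve_right hδ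
      have h3 : ((∑ φ ∈ F, z φ : ℤ) : ℂ) = 0 := by push_cast; exact h2
      exact_mod_cast h3
    have hα' : α = ∑ φ ∈ F, z φ • (φ - χ₀) := by
      rw [hz]
      simp only [smul_sub]
      rw [Finset.sum_sub_distrib, ← Finset.sum_smul, hsum0, zero_smul, sub_zero]
    have hmap := map_sum_zsmul hS.isometry zspanOn_one_zero
      (fun x hx y hy => zspanOn_add hx hy) (fun n x hx => zspanOn_zsmul n hx) F z
      (fun φ => φ - χ₀) (fun φ hφ => CS.sub_mem hdeg ((hFmem φ).mp hφ) hχ₀)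
    rw [hz, hτ₁comb z]
    rw [← hz, hα', hmap.2]
    have h4 : ∀ φ ∈ F, z φ • τ (φ - χ₀) = z φ • T φ - z φ • T χ₀ := by
      intro φ hφ
      rw [← hTd φ ((hFmem φ).mp hφ) χ₀ hχ₀, smul_sub]
    rw [Finset.sum_congr rfl h4, Finset.sum_sub_distrib, ← Finset.sum_smul, hsum0, zero_smul,
      sub_zero]

end sys

end Cfsg.Agent.Lib.helper3.Coh
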