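import Mathlib
import Cfsg.Prelude.Def_OddOrderChar
import Cfsg.Agent.Lib.helper3.Coh12

set_option autoImplicit false
set_option linter.style.haveILetI false
set_option linter.unusedSectionVars false

/-!
# Extending an isometry from a Gram-matrix preserving assignment; Bessel for orthogonal families
-/

namespace Cfsg.Agent.Lib.helper3.Coh

open Cfsg Module Cfsg.Agent.Lib.helper3.CharBasic Cfsg.Agent.Lib.helper3.IndFun
open Cfsg.Agent.Lib.helper3.Irr
open scoped ComplexConjugate

section ext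

variable {L : Type*} [Group L] [Fintype L] {G : Type*} [Group G] [Fintype G]

/-- An assignment on a finite orthogonal family preserving the Gram matrix extends to a linear
isometry on the integer span. -/
theorem exists_isometry_of_gram (F : Finset (L → ℂ)) (T : (L → ℂ) → (G → ℂ))
    (hF : ∀ φ ∈ F, ∀ ψ ∈ F, classInner φ ψ = if φ = ψ then classInner φ φ else 0)
    (hne : ∀ φ ∈ F, classInner φ φ ≠ 0)
    (hT : ∀ φ ∈ F, ∀ ψ ∈ F, classInner (T φ) (T ψ) = if φ = ψ then classInner φ φ else 0)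
    (hTg : ∀ φ ∈ F, IsGeneralizedCharacter G (T φ)) :
    ∃ τ₂ : (L → ℂ) → (G → ℂ), IsLinearIsometryOn (zspan (↑F : Set (L → ℂ))) τ₂ ∧
      ∀ z : (L → ℂ) → ℤ, τ₂ (∑ φ ∈ F, z φ • φ) = ∑ φ ∈ F, z φ • T φ := by
  classical
  have hFmem : ∀ φ, φ ∈ F ↔ φ ∈ (↑F : Set (L → ℂ)) := fun φ => Finset.mem_coe.symm
  set τ₁ : (L → ℂ) → (G → ℂ) := fun α => ∑ φ ∈ F, (classInner α φ / classInner φ φ) • T φ with hτ₁
  have hτ₁comb : ∀ z : (L → ℂ) → ℤ, τ₁ (∑ φ ∈ F, z φ • φ) = ∑ φ ∈ F, z φ • T φ := by
    intro z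
    rw [hτ₁]
    simp only
    apply Finset.sum_congr rfl
    intro ψ hψ
    have h1 : classInner (∑ φ ∈ F, z φ • φ) ψ = (z ψ : ℂ) * classInner ψ ψ := by
      rw [classInner_sum_left, Finset.sum_eq_single ψ]
      · rw [classInner_zsmul_left]
      · intro φ hφ hne'
        rw [classInner_zsmul_left, hF φ hφ ψ hψ, if_neg hne', mul_zero]
      · intro h; exact absurd hψ h
    rw [h1, mul_div_assoc, div_self (hne ψ hψ), mul_one, zsmul_eq_smul]
  refine ⟨τ₁, ⟨?_, ?_, ?_, ?_⟩, hτ₁comb⟩
  · intro α _ β _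
    rw [hτ₁]
    simp only
    rw [← Finset.sum_add_distrib]
    apply Finset.sum_congr rfl
    intro φ _
    rw [classInner_add_left, add_div, add_smul]
  · intro α _ n
    rw [hτ₁]
    simp only
    rw [Finset.smul_sum]
    apply Finset.sum_congr rfl
    intro φ _
    rw [classInner_zsmul_left, mul_div_assoc, mul_smul, zsmul_eq_smul]
  · intro α hα β hβ
    obtain ⟨z, rfl⟩ := exists_coeff_finset F hFmem hα
    obtain ⟨w, rfl⟩ := exists_coeff_finset F hFmem hβ
    rw [hτ₁comb z, hτ₁comb w, inner_orth_comb F T (fun φ => classInner φ φ) hT z w,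
      inner_orth_comb F (fun φ => φ) (fun φ => classInner φ φ) hF z w]
  · intro α hα
    obtain ⟨z, rfl⟩ := exists_coeff_finset F hFmem hα
    rw [hτ₁comb z]
    apply GenChar.sum
    intro φ hφ
    exact GenChar.zsmul (hTg φ hφ) _

/-- The norm of a function is a nonnegative real. -/
theorem classInner_self_eq_real (f : G → ℂ) :
    ∃ r : ℝ, 0 ≤ r ∧ classInner f f = (r : ℂ) := by
  refine ⟨(Nat.card G : ℝ)⁻¹ * ∑ g : G, ‖f g‖ ^ 2, ?_, ?_⟩
  · apply mul_nonneg
    · positivity
    · exact Finset.sum_nonneg (fun g _ => by positivity)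
  · rw [classInner_apply]
    push_cast
    congr 1
    apply Finset.sum_congr rfl
    intro g _
    rw [Complex.mul_conj, Complex.normSq_eq_norm_sq]
    push_cast
    rfl

/-- Bessel's inequality for an orthogonal family with real inner products. -/
theorem bessel_orth {ι : Type*} [DecidableEq ι] (s : Finset ι) (e : ι → G → ℂ) (n : ι → ℝ)
    (hn : ∀ i ∈ s, 0 < n i)
    (he : ∀ i ∈ s, ∀ j ∈ s, classInner (e i) (e j) = if i = j then (n i : ℂ) else 0)
    (Y : G → ℂ) (y : ι → ℝ) (hy : ∀ i ∈ s, classInner Y (e i) = (y i : ℂ)) (r : ℝ)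
    (hr : classInner Y Y = (r : ℂ)) :
    ∑ i ∈ s, y i ^ 2 / n i ≤ r ∧
      (∑ i ∈ s, y i ^ 2 / n i = r → Y = ∑ i ∈ s, ((y i / n i : ℝ) : ℂ) • e i) := by
  obtain ⟨P, hP⟩ : ∃ P : G → ℂ, P = ∑ i ∈ s, ((y i / n i : ℝ) : ℂ) • e i := ⟨_, rfl⟩
  have hYP : classInner Y P = ((∑ i ∈ s, y i ^ 2 / n i : ℝ) : ℂ) := by
    rw [hP, classInner_sum_right]
    push_cast
    apply Finset.sum_congr rfl
    intro i hi
    rw [classInner_smul_right, hy i hi]
    have : (n i : ℂ) ≠ 0 := by
      have := (hn i hi).ne'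
      exact_mod_cast this
    rw [← Complex.ofReal_div, Complex.conj_ofReal]
    push_cast
    field_simp
  have hPY : classInner P Y = ((∑ i ∈ s, y i ^ 2 / n i : ℝ) : ℂ) := by
    rw [← classInner_conj_symm, hYP, Complex.conj_ofReal]
  have hPP : classInner P P = ((∑ i ∈ s, y i ^ 2 / n i : ℝ) : ℂ) := by
    have h2 : classInner P P = ∑ i ∈ s, ((y i / n i : ℝ) : ℂ) * classInner (e i) P := by
      nth_rewrite 1 [hP]
      rw [classInner_sum_left]
      apply Finset.sum_congr rfl
      intro i hi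
      rw [classInner_smul_left]
    rw [h2]
    push_cast
    apply Finset.sum_congr rfl
    intro i hi
    have h1 : classInner (e i) P = ((y i : ℝ) : ℂ) := by
      rw [hP, classInner_sum_right, Finset.sum_eq_single i]
      · rw [classInner_smul_right, he i hi i hi, if_pos rfl, Complex.conj_ofReal]
        have : (n i : ℂ) ≠ 0 := by
          have := (hn i hi).ne'
          exact_mod_cast this
        push_cast
        field_simp
      · intro j hj hji
        rw [classInner_smul_right, he i hi j hj, if_neg (Ne.symm hji), mul_zero]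
      · intro h; exact absurd hi h
    rw [h1]
    have : (n i : ℂ) ≠ 0 := by
      have := (hn i hi).ne'
      exact_mod_cast this
    field_simp
  obtain ⟨q, hq0, hq⟩ := classInner_self_eq_real (Y - P)
  have hexp : classInner (Y - P) (Y - P) = ((r - ∑ i ∈ s, y i ^ 2 / n i : ℝ) : ℂ) := by
    rw [classInner_sub_left, classInner_sub_right, classInner_sub_right, hr, hYP, hPY, hPP]
    push_cast
    ring
  rw [hq] at hexp
  have hqr : q = r - ∑ i ∈ s, y i ^ 2 / n i := by exact_mod_cast hexp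
  constructor
  · linarith
  · intro heq
    have hq0' : q = 0 := by rw [hqr, heq, sub_self]
    rw [hq0', Complex.ofReal_zero] at hq
    have := eq_zero_of_classInner_self_eq_zero _ hq
    rw [← hP]
    exact sub_eq_zero.mp this

end ext

end Cfsg.Agent.Lib.helper3.Coh
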