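import Mathlib
import Cfsg.Prelude.Def_OddOrderChar
import Cfsg.Agent.Lib.helper3.Coh13

set_option autoImplicit false
set_option linter.style.haveILetI false
set_option linter.unusedSectionVars false

/-!
# Coherent subsets of a coherence system: the extension lies in the span of the `R φ`
-/

namespace Cfsg.Agent.Lib.helper3.Coh

open Cfsg Module Cfsg.Agent.Lib.helper3.CharBasic Cfsg.Agent.Lib.helper3.IndFun
open Cfsg.Agent.Lib.helper3.Irr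
open scoped ComplexConjugate

section sys

variable {L : Type*} [Group L] [Fintype L] {G : Type*} [Group G] [Fintype G]
variable {S : Set (L → ℂ)} {τ : (L → ℂ) → (G → ℂ)} {R : (L → ℂ) → Finset (G → ℂ)}

/-- A linear isometry is subtractive. -/
theorem isom_map_sub {E : Set (L → ℂ)} {τ₁ : (L → ℂ) → (G → ℂ)} (hτ₁ : IsLinearIsometryOn E τ₁)
    (hsmul : ∀ (n : ℤ), ∀ x ∈ E, n • x ∈ E) {x y : L → ℂ} (hx : x ∈ E) (hy : y ∈ E) :
    τ₁ (x - y) = τ₁ x - τ₁ y := by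
  have h1 : x - y = x + (-1 : ℤ) • y := by
    rw [neg_smul, one_smul, sub_eq_add_neg]
  rw [h1, hτ₁.1 x hx _ (hsmul _ y hy), hτ₁.2.1 y hy, neg_smul, one_smul, sub_eq_add_neg]

theorem zspan_smul_mem {X : Type*} {T : Set (X → ℂ)} (n : ℤ) (x : X → ℂ) (hx : x ∈ zspan T) :
    n • x ∈ zspan T := zspan_zsmul n hx

/-- The coherent extension on `S₁` takes `φ - conj φ` to the sum of `R φ`. -/
theorem CS.ext_sub_conj (hS : IsCoherenceSystem S τ R) (S₁ : Finset (L → ℂ))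
    (hS₁ : (↑S₁ : Set (L → ℂ)) ⊆ S) (hS₁c : ∀ φ ∈ S₁, conjFun φ ∈ S₁)
    (τ₁ : (L → ℂ) → (G → ℂ)) (hτ₁ : IsLinearIsometryOn (zspan (↑S₁ : Set (L → ℂ))) τ₁)
    (hext : ∀ α ∈ zspanOn (↑S₁ : Set (L → ℂ)) ({1}ᶜ : Set L), τ₁ α = τ α)
    {φ : L → ℂ} (hφ : φ ∈ S₁) : τ₁ φ - τ₁ (conjFun φ) = ∑ α ∈ R φ, α := by
  have hφS : φ ∈ S := hS₁ (Finset.mem_coe.mpr hφ)
  have h1 : φ ∈ zspan (↑S₁ : Set (L → ℂ)) := mem_zspan_of_mem (Finset.mem_coe.mpr hφ)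
  have h2 : conjFun φ ∈ zspan (↑S₁ : Set (L → ℂ)) :=
    mem_zspan_of_mem (Finset.mem_coe.mpr (hS₁c φ hφ))
  rw [← isom_map_sub hτ₁ (fun n x hx => zspan_zsmul n hx) h1 h2, ← hS.sum_eq φ hφS]
  apply hext
  rw [mem_zspanOn_one_iff]
  refine ⟨zspan_sub h1 h2, ?_⟩
  rw [Pi.sub_apply, conjFun_apply_one_of_isCharacter (hS.isCharacter φ hφS), sub_self]

/-- The coherent extension of a member of `S₁` lies in the span of `R φ`. -/
theorem CS.ext_mem_span (hS : IsCoherenceSystem S τ R) (S₁ : Finset (L → ℂ))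
    (hS₁ : (↑S₁ : Set (L → ℂ)) ⊆ S) (hS₁c : ∀ φ ∈ S₁, conjFun φ ∈ S₁)
    (τ₁ : (L → ℂ) → (G → ℂ)) (hτ₁ : IsLinearIsometryOn (zspan (↑S₁ : Set (L → ℂ))) τ₁)
    (hext : ∀ α ∈ zspanOn (↑S₁ : Set (L → ℂ)) ({1}ᶜ : Set L), τ₁ α = τ α)
    {φ : L → ℂ} (hφ : φ ∈ S₁) (w : G → ℂ) (hw : ∀ α ∈ R φ, classInner α w = 0) :
    classInner (τ₁ φ) w = 0 := by
  classical
  have hφS : φ ∈ S := hS₁ (Finset.mem_coe.mpr hφ)
  have h1 : φ ∈ zspan (↑S₁ : Set (L → ℂ)) := mem_zspan_of_mem (Finset.mem_coe.mpr hφ)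
  have h2 : conjFun φ ∈ zspan (↑S₁ : Set (L → ℂ)) :=
    mem_zspan_of_mem (Finset.mem_coe.mpr (hS₁c φ hφ))
  obtain ⟨k, -, hk⟩ := CS.exists_norm hS hφS
  set u := τ₁ φ with hu
  have hug : IsGeneralizedCharacter G u := hτ₁.2.2.2 φ h1
  have huu : classInner u u = (k : ℂ) := by rw [hu, hτ₁.2.2.1 φ h1 φ h1, hk]
  have huu' : classInner u (τ₁ (conjFun φ)) = 0 := by
    rw [hu, hτ₁.2.2.1 φ h1 _ h2, CS.ortho_conj hS hφS]
  have hsumR : classInner u (∑ α ∈ R φ, α) = (k : ℂ) := by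
    rw [← CS.ext_sub_conj hS S₁ hS₁ hS₁c τ₁ hτ₁ hext hφ, classInner_sub_right, ← hu, huu, huu',
      sub_zero]
  have hex : ∀ j : G → ℂ, ∃ z : ℤ, j ∈ R φ → classInner u j = (z : ℂ) := by
    intro j
    by_cases hj : j ∈ R φ
    · obtain ⟨z, hz⟩ := exists_int_classInner hug (hS.virtual φ hφS j hj)
      exact ⟨z, fun _ => hz⟩
    · exact ⟨0, fun h => absurd h hj⟩
  choose c hc using hex
  have hu' : ∀ i ∈ R φ, ∀ j ∈ R φ,
      classInner ((fun x : G → ℂ => x) i) ((fun x : G → ℂ => x) j) = if i = j then 1 else 0 :=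
    fun i hi j hj => hS.orthonormal φ hφS i hi j hj
  obtain ⟨-, hb⟩ := bessel (R φ) (fun x : G → ℂ => x) hu' u c (fun i hi => hc i hi)
  set P := ∑ j ∈ R φ, c j • (fun x : G → ℂ => x) j with hP
  have hPg : IsGeneralizedCharacter G (u - P) := by
    apply GenChar.sub hug
    apply GenChar.sum
    intro j hj
    exact GenChar.zsmul (hS.virtual φ hφS j hj) _
  obtain ⟨m, hm⟩ := exists_nat_norm hPg
  rw [huu, hm] at hb
  have hbZ : (k : ℤ) = (∑ i ∈ R φ, c i ^ 2) + (m : ℤ) := by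
    have : (((k : ℤ)) : ℂ) = (((∑ i ∈ R φ, c i ^ 2) + (m : ℤ) : ℤ) : ℂ) := by
      push_cast
      push_cast at hb
      exact hb
    exact_mod_cast this
  have hsZ : ∑ α ∈ R φ, c α = (k : ℤ) := by
    have : ((∑ α ∈ R φ, c α : ℤ) : ℂ) = ((k : ℤ) : ℂ) := by
      push_cast
      rw [← hsumR, classInner_sum_right]
      apply Finset.sum_congr rfl
      intro α hα
      rw [hc α hα]
    exact_mod_cast this
  have hge : ∑ α ∈ R φ, c α ≤ ∑ α ∈ R φ, c α ^ 2 :=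
    Finset.sum_le_sum (fun α _ => int_sq_ge (c α))
  have hm0 : m = 0 := by
    have : (m : ℤ) = 0 := by
      have h0 : (0 : ℤ) ≤ m := Int.natCast_nonneg m
      omega
    exact_mod_cast this
  have huP : u = P := by
    rw [hm0, Nat.cast_zero] at hm
    exact sub_eq_zero.mp (eq_zero_of_classInner_self_eq_zero _ hm)
  rw [huP, hP, classInner_sum_left]
  apply Finset.sum_eq_zero
  intro j hj
  rw [classInner_zsmul_left, hw j hj, mul_zero]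

/-- The coherent extension of a member of `S₁` is orthogonal to `R χ` for `χ`, `conj χ` outside
`S₁`. -/
theorem CS.ext_orth_R (hS : IsCoherenceSystem S τ R) (S₁ : Finset (L → ℂ))
    (hS₁ : (↑S₁ : Set (L → ℂ)) ⊆ S) (hS₁c : ∀ φ ∈ S₁, conjFun φ ∈ S₁)
    (τ₁ : (L → ℂ) → (G → ℂ)) (hτ₁ : IsLinearIsometryOn (zspan (↑S₁ : Set (L → ℂ))) τ₁)
    (hext : ∀ α ∈ zspanOn (↑S₁ : Set (L → ℂ)) ({1}ᶜ : Set L), τ₁ α = τ α)
    {φ : L → ℂ} (hφ : φ ∈ S₁) {χ : L → ℂ} (hχ : χ ∈ S) (hχ₁ : χ ∉ S₁) (hχ₂ : conjFun χ ∉ S₁)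
    (γ : G → ℂ) (hγ : γ ∈ R χ) : classInner (τ₁ φ) γ = 0 := by
  have hφS : φ ∈ S := hS₁ (Finset.mem_coe.mpr hφ)
  apply CS.ext_mem_span hS S₁ hS₁ hS₁c τ₁ hτ₁ hext hφ
  intro α hα
  have h1 : φ ≠ χ := fun h => hχ₁ (h ▸ hφ)
  have h2 : φ ≠ conjFun χ := fun h => hχ₂ (h ▸ hφ)
  exact hS.disjoint χ hχ φ hφS (hS.orthogonal φ hφS χ hχ h1)
    (hS.orthogonal φ hφS _ (hS.conj_mem χ hχ) h2) α hα γ hγ

end sys

end Cfsg.Agent.Lib.helper3.Coh
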