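import Mathlib
import Cfsg.Prelude.Def_Characters
import Cfsg.Agent.Lib.helper3.IndFunTrans
import Cfsg.Agent.Lib.helper3.IndLin
import Cfsg.Agent.Lib.helper3.Irr5
import Cfsg.Agent.Lib.helper3.Irr10
import Cfsg.Agent.Lib.helper3.Inflate
import Cfsg.Agent.Lib.helper3.CharBasic2
import Cfsg.Agent.Lib.helper3.FullyRam
import Cfsg.Agent.Lib.helper3.Lin

/-!
# Tools for Brauer's induction theorem

* `isElementary_of_mulEquiv`, `isElementary_of`;
* `indFun_map_subtype` : transitivity of induction for a subgroup of a subgroup;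
* `BSpan p H` : the additive group generated by the characters induced from `p`-elementary
  subgroups, and `BSpan.indFun_mem`;
* `sum_comp_hom`;
* `apply_mul_of_invariant_linear`.
-/

set_option autoImplicit false
set_option linter.style.haveILetI false
set_option linter.unusedSectionVars false

namespace Cfsg.Agent.Lib.helper3.BrauerInd

open Cfsg Module Cfsg.Agent.Lib.helper3.IndFun Cfsg.Agent.Lib.helper3.CharBasic
open Cfsg.Agent.Lib.helper3.Irr Cfsg.Agent.Lib.helper3.IndFunTrans Cfsg.Agent.Lib.helper3.Lin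

theorem isElementary_of_mulEquiv {A B : Type*} [Group A] [Group B] (e : A ≃* B) {p : ℕ}
    (h : IsElementary p A) : IsElementary p B := by
  obtain ⟨x, hx, hcop, k, hk⟩ := h
  refine ⟨e x, ?_, ?_, k, ?_⟩
  · rw [Subgroup.mem_center_iff] at hx ⊢
    intro b
    obtain ⟨a, rfl⟩ := e.surjective b
    rw [← map_mul, ← map_mul, hx a]
  · rw [MulEquiv.orderOf_eq]; exact hcop
  · have h1 : Subgroup.zpowers (e x) = (Subgroup.zpowers x).map (e : A →* B) := by
      rw [MonoidHom.map_zpowers]; rfl
    rw [h1, Subgroup.index_map_equiv]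
    exact hk

theorem isElementary_of {H : Type*} [Group H] [Finite H] {p : ℕ} [hp : Fact p.Prime]
    (E : Subgroup H) (z : H) (hz : z ∈ E) (hcen : ∀ e ∈ E, e * z = z * e)
    (hcop : (orderOf z).Coprime p)
    (hpow : ∀ e ∈ E, ∃ k : ℕ, e ^ p ^ k ∈ Subgroup.zpowers z) : IsElementary p E := by
  refine ⟨⟨z, hz⟩, ?_, ?_, ?_⟩
  · rw [Subgroup.mem_center_iff]
    intro e
    exact Subtype.ext (hcen e e.2)
  · rw [Subgroup.orderOf_mk]; exact hcop
  · obtain ⟨Z', hZ'⟩ : ∃ Z' : Subgroup E, Z' = Subgroup.zpowers (⟨z, hz⟩ : E) := ⟨_, rfl⟩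
    haveI : Z'.Normal := by
      constructor
      intro n hn g
      rw [hZ'] at hn ⊢
      obtain ⟨i, rfl⟩ := Subgroup.mem_zpowers_iff.1 hn
      have hc : Commute g (⟨z, hz⟩ : E) := Subtype.ext (hcen g g.2)
      have : g * (⟨z, hz⟩ : E) ^ i * g⁻¹ = (⟨z, hz⟩ : E) ^ i := by
        rw [(hc.zpow_right i).eq, mul_inv_cancel_right]
      rw [this]
      exact hn
    have hpg : IsPGroup p (E ⧸ Z') := by
      intro q
      induction q using QuotientGroup.induction_on with
      | H e =>
        obtain ⟨k, hk⟩ := hpow e e.2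
        refine ⟨k, ?_⟩
        rw [← QuotientGroup.mk_pow, QuotientGroup.eq_one_iff, hZ']
        obtain ⟨i, hi⟩ := Subgroup.mem_zpowers_iff.1 hk
        rw [Subgroup.mem_zpowers_iff]
        refine ⟨i, Subtype.ext ?_⟩
        rw [Subgroup.coe_zpow, Subgroup.coe_pow]
        exact hi
    obtain ⟨k, hk⟩ := IsPGroup.iff_card.1 hpg
    refine ⟨k, ?_⟩
    rw [← hZ', Subgroup.index_eq_card]
    exact hk

theorem indFun_congr_subgroup {K : Type*} [Group K] [Fintype K] {A B : Subgroup K} (h : A = B)
    (f : A → ℂ) (g : B → ℂ) (hfg : ∀ a (ha : a ∈ A), f ⟨a, ha⟩ = g ⟨a, h ▸ ha⟩) :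
    indFun A f = indFun B g := by
  subst h
  congr 1
  funext ⟨a, ha⟩
  exact hfg a ha

/-- Transitivity of induction, for a subgroup `E'` of the subgroup `T`. -/
theorem indFun_map_subtype {H : Type*} [Group H] [Fintype H] (T : Subgroup H) [Fintype T]
    (E' : Subgroup T) (φ : E' → ℂ) :
    indFun T (indFun E' φ) = indFun (E'.map T.subtype)
      (fun e => φ ((E'.equivMapOfInjective T.subtype T.subtype_injective).symm e)) := by
  obtain ⟨E, hE⟩ : ∃ E : Subgroup H, E = E'.map T.subtype := ⟨_, rfl⟩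
  have hET : E ≤ T := by rw [hE]; exact Subgroup.map_subtype_le E'
  obtain ⟨θ, hθ⟩ : ∃ θ : (E'.map T.subtype) → ℂ,
      θ = fun e => φ ((E'.equivMapOfInjective T.subtype T.subtype_injective).symm e) := ⟨_, rfl⟩
  rw [← hθ]
  have htr := indFun_trans (E'.map T.subtype) T (Subgroup.map_subtype_le E') θ
  rw [← htr]
  congr 1
  symm
  have hsub : (E'.map T.subtype).subgroupOf T = E' :=
    Subgroup.comap_map_eq_self_of_injective T.subtype_injective E'
  apply indFun_congr_subgroup hsub
  intro a ha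
  rw [hθ]
  simp only
  congr 1
  rw [MulEquiv.symm_apply_eq]
  apply Subtype.ext
  rw [Subgroup.coe_equivMapOfInjective_apply]
  rfl

/-- The additive group generated by the characters induced from `p`-elementary subgroups. -/
def BSpan (p : ℕ) (H : Type*) [Group H] [Fintype H] : AddSubgroup (H → ℂ) :=
  AddSubgroup.closure {f | ∃ (E : Subgroup H) (φ : E → ℂ),
    IsElementary p E ∧ IsCharacter E φ ∧ f = indFun E φ}

theorem BSpan.indFun_mem {H : Type*} [Group H] [Fintype H] (p : ℕ) (T : Subgroup H) [Fintype T]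
    {f : T → ℂ} (hf : f ∈ BSpan p T) : indFun T f ∈ BSpan p H := by
  induction hf using AddSubgroup.closure_induction with
  | mem f hf =>
    obtain ⟨E', φ, hE', hφ, rfl⟩ := hf
    rw [indFun_map_subtype]
    apply AddSubgroup.subset_closure
    exact ⟨_, _, isElementary_of_mulEquiv (E'.equivMapOfInjective T.subtype T.subtype_injective) hE',
      isCharacter_comp hφ
        (E'.equivMapOfInjective T.subtype T.subtype_injective).symm.toMonoidHom, rfl⟩
  | zero =>
    rw [indFun_zero]
    exact AddSubgroup.zero_mem _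
  | add f g _ _ h1 h2 =>
    rw [indFun_add]
    exact AddSubgroup.add_mem _ h1 h2
  | neg f _ h =>
    have : -f = (-1 : ℂ) • f := by simp
    rw [this, indFun_smul, neg_one_smul]
    exact AddSubgroup.neg_mem _ h

theorem sum_comp_hom {A Q : Type*} [Group A] [Group Q] [Fintype A] [Fintype Q] (f : A →* Q)
    (hf : Function.Surjective f) (F : Q → ℂ) :
    ∑ a : A, F (f a) = (Nat.card f.ker : ℂ) * ∑ q : Q, F q := by
  classical
  letI : Fintype (A ⧸ f.ker) := Fintype.ofFinite _
  have h1 := sum_comp_mk f.ker (fun q => F (QuotientGroup.quotientKerEquivOfSurjective f hf q))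
  rw [← Equiv.sum_comp (QuotientGroup.quotientKerEquivOfSurjective f hf).toEquiv F]
  exact h1

/-- If the irreducible character `ξ` lies over the invariant linear character `lam` of the normal
subgroup `C` then `ξ (c h) = lam c * ξ h`. -/
theorem apply_mul_of_invariant_linear {H : Type*} [Group H] [Fintype H] (C : Subgroup H)
    [hC : C.Normal] [Fintype C] (ξ : H → ℂ) (hξ : IsIrrCharacter H ξ) (lam : C → ℂ)
    (hlam : IsIrrCharacter C lam) (hlin : lam 1 = 1)
    (hcon : classInner (fun c : C => ξ c) lam ≠ 0)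
    (hinv : ∀ (g : H) (c : C), lam ⟨g * c * g⁻¹, hC.conj_mem (c : H) c.2 g⟩ = lam c)
    (c : C) (h : H) : ξ ((c : H) * h) = lam c * ξ h := by
  have hres := restrict_eq_smul_of_invariant C ξ hξ lam hlam hcon hinv
  obtain ⟨e, he⟩ : ∃ e : ℂ, e = classInner (fun c : C => ξ c) lam := ⟨_, rfl⟩
  rw [← he] at hres
  have he1 : ξ 1 = e := by
    have := congrFun hres 1
    simp only [Pi.smul_apply, smul_eq_mul, hlin, mul_one, OneMemClass.coe_one] at this
    exact this
  have hc : ξ (c : H) = ξ 1 * lam c := by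
    have := congrFun hres c
    simp only [Pi.smul_apply, smul_eq_mul] at this
    rw [this, he1]
  obtain ⟨n, ρ, hirr, rfl⟩ := hξ
  haveI := hirr
  have hnorm : ‖lam c‖ = 1 :=
    norm_eq_one_of_pow_eq_one (orderOf_pos c)
      (pow_eq_one_of_linear (isCharacter_of_isIrrCharacter hlam) hlin c (orderOf c)
        (pow_orderOf_eq_one c))
  have hfin : ‖ρ.character (c : H)‖ = (finrank ℂ (Fin n → ℂ) : ℝ) := by
    rw [hc, norm_mul, hnorm, mul_one, Representation.char_one]
    simp
  obtain ⟨ω, hω⟩ := (norm_character_eq_finrank_iff ρ (c : H)).1 hfin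
  have hV : (finrank ℂ (Fin n → ℂ) : ℂ) ≠ 0 := by
    have := Cfsg.Agent.Lib.helper3.Central.finrank_ne_zero_of_irreducible ρ
    exact_mod_cast this
  have hωlam : ω = lam c := by
    have h1 : ρ.character (c : H) = ω * (finrank ℂ (Fin n → ℂ) : ℂ) := by
      unfold Representation.character
      rw [hω, map_smul, LinearMap.trace_id, smul_eq_mul]
    rw [hc, Representation.char_one] at h1
    have h2 : (finrank ℂ (Fin n → ℂ) : ℂ) * lam c = (finrank ℂ (Fin n → ℂ) : ℂ) * ω := by
      rw [h1]; ring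
    exact (mul_left_cancel₀ hV h2).symm
  unfold Representation.character
  rw [map_mul, hω, hωlam, smul_mul_assoc, map_smul, smul_eq_mul]
  rfl

end Cfsg.Agent.Lib.helper3.BrauerInd
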