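import Mathlib
import Cfsg.Prelude.Def_Characters
import Cfsg.Agent.Lib.helper3.Irr12
import Cfsg.Agent.Lib.helper3.Irr9
import Cfsg.Agent.Lib.helper3.Irr8

set_option autoImplicit false
set_option linter.style.haveILetI false
set_option linter.unusedSectionVars false

/-!
# Gallagher-type theorem: multiplication by an extension
-/

namespace Cfsg.Agent.Lib.helper3.Irr

open Cfsg Module Cfsg.Agent.Lib.helper3.IndFun Cfsg.Agent.Lib.helper3.CharBasic
open scoped ComplexConjugate

variable {G : Type*} [Group G]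

/-- Projection formula: `(θ · χ|_H)^G = θ^G · χ` for a class function `χ`. -/
theorem indFun_mul_restrict [Fintype G] (H : Subgroup G) (θ : H → ℂ) (χ : G → ℂ)
    (hχ : IsClassFunction G χ) :
    indFun H (θ * fun h : H => χ h) = indFun H θ * χ := by
  classical
  funext g
  rw [Pi.mul_apply, indFun_apply, indFun_apply, mul_assoc, Finset.sum_mul]
  congr 1
  apply Finset.sum_congr rfl
  intro x _
  have hx : χ (x⁻¹ * g * x) = χ g := by
    have := hχ g x⁻¹
    rwa [inv_inv] at this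
  by_cases hm : x⁻¹ * g * x ∈ H
  · rw [extendByZero_mem H _ hm, extendByZero_mem H _ hm, Pi.mul_apply]
    simp only
    rw [hx]
  · rw [extendByZero_not_mem H _ hm, extendByZero_not_mem H _ hm, zero_mul]

/-- Norm of the function induced from an invariant irreducible character of a normal
subgroup. -/
theorem card_mul_classInner_indFun_invariant [Fintype G] (H : Subgroup G) [hN : H.Normal]
    (θ : H → ℂ) (hθ : IsIrrCharacter H θ)
    (hinv : ∀ (g : G) (h : H), θ ⟨g * h * g⁻¹, hN.conj_mem h h.2 g⟩ = θ h) :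
    (Nat.card H : ℂ) * classInner (indFun H θ) (indFun H θ) = (Nat.card G : ℂ) := by
  rw [card_mul_classInner_indFun_normal H θ hθ]
  congr 1
  have : Nat.card {g : G // ∀ h : H, θ ⟨g * h * g⁻¹, hN.conj_mem h h.2 g⟩ = θ h}
      = Nat.card G := by
    apply Nat.card_congr
    exact Equiv.subtypeUnivEquiv (fun g => hinv g)
  exact this

/-- A purely arithmetical lemma: if `∑ E β ^ 2 = ∑ ∑ E β * E γ * A β γ` with `A β β ≥ 1`,
then on the support of `E` the matrix `A` is the identity. -/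
theorem nat_quadratic_rigidity {ι : Type*} [Fintype ι] [DecidableEq ι] (E : ι → ℕ)
    (A : ι → ι → ℕ) (hA : ∀ β, 1 ≤ A β β)
    (h : ∑ β, E β ^ 2 = ∑ β, ∑ γ, E β * E γ * A β γ) :
    ∀ β, E β ≠ 0 → A β β = 1 ∧ ∀ γ, γ ≠ β → E γ ≠ 0 → A β γ = 0 := by
  have hle : ∀ β ∈ (Finset.univ : Finset ι), E β ^ 2 ≤ ∑ γ, E β * E γ * A β γ := by
    intro β _
    calc E β ^ 2 = E β * E β * 1 := by ring
      _ ≤ E β * E β * A β β := Nat.mul_le_mul_left _ (hA β)
      _ ≤ ∑ γ, E β * E γ * A β γ :=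
        Finset.single_le_sum (f := fun γ => E β * E γ * A β γ) (fun _ _ => Nat.zero_le _)
          (Finset.mem_univ β)
  have heq := (Finset.sum_eq_sum_iff_of_le hle).mp h
  intro β hβ
  have h1 := heq β (Finset.mem_univ β)
  rw [← Finset.add_sum_erase Finset.univ (fun γ => E β * E γ * A β γ) (Finset.mem_univ β)] at h1
  have hpos : 0 < E β * E β := Nat.mul_pos (Nat.pos_of_ne_zero hβ) (Nat.pos_of_ne_zero hβ)
  have h2 : E β * E β * A β β ≤ E β * E β * 1 := by
    have : E β ^ 2 = E β * E β * 1 := by ring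
    rw [← this, h1]
    exact Nat.le_add_right _ _
  have h3 : A β β ≤ 1 := Nat.le_of_mul_le_mul_left h2 hpos
  have h4 : A β β = 1 := le_antisymm h3 (hA β)
  refine ⟨h4, ?_⟩
  intro γ hγ hEγ
  have h5 : ∑ x ∈ Finset.univ.erase β, E β * E x * A β x = 0 := by
    have : E β ^ 2 = E β * E β * A β β := by rw [h4]; ring
    rw [this] at h1
    omega
  have h6 := (Finset.sum_eq_zero_iff.mp h5) γ (Finset.mem_erase.mpr ⟨hγ, Finset.mem_univ γ⟩)
  rcases Nat.mul_eq_zero.mp h6 with h7 | h7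
  · rcases Nat.mul_eq_zero.mp h7 with h8 | h8
    · exact absurd h8 hβ
    · exact absurd h8 hEγ
  · exact h7

/-- The quadratic-form argument behind Gallagher's theorem. -/
theorem gallagher_aux [Fintype G] (N : Subgroup G) [hN : N.Normal] (φ ϑ : N → ℂ)
    (hφ : IsIrrCharacter N φ)
    (hφinv : ∀ (g : G) (n : N), φ ⟨g * n * g⁻¹, hN.conj_mem (n : G) n.2 g⟩ = φ n)
    (hϑinv : ∀ (g : G) (n : N), ϑ ⟨g * n * g⁻¹, hN.conj_mem (n : G) n.2 g⟩ = ϑ n)
    (hprod : IsIrrCharacter N (φ * ϑ)) (χ : G → ℂ) (hχ : IsCharacter G χ) (hχ1 : χ 1 ≠ 0)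
    (hext : ∀ n : N, χ n = ϑ n) :
    ∃ e : IrrCharacter G → ℕ,
      (∀ β : IrrCharacter G, classInner (indFun N φ) (β : G → ℂ) = e β) ∧
      indFun N (φ * ϑ) = ∑ β : IrrCharacter G, (e β : ℂ) • ((β : G → ℂ) * χ) ∧
      ∀ β : IrrCharacter G, e β ≠ 0 →
        classInner ((β : G → ℂ) * χ) ((β : G → ℂ) * χ) = 1 ∧
        ∀ γ : IrrCharacter G, γ ≠ β → e γ ≠ 0 →
          classInner ((β : G → ℂ) * χ) ((γ : G → ℂ) * χ) = 0 := by
  classical
  have hΦ : IsCharacter G (indFun N φ) := isCharacter_indFun N φ (isCharacter_of_isIrrCharacter hφ)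
  choose e he using fun β : IrrCharacter G => exists_nat_classInner_of_isCharacter hΦ β
  have hβχ : ∀ β : IrrCharacter G, IsCharacter G ((β : G → ℂ) * χ) := fun β =>
    isCharacter_mul (isCharacter_of_isIrrCharacter β.2) hχ
  choose a ha using fun β γ : IrrCharacter G =>
    exists_nat_classInner_of_isCharacter_of_isCharacter (hβχ β) (hβχ γ)
  have hΦdec : indFun N φ = ∑ β : IrrCharacter G, (e β : ℂ) • (β : G → ℂ) := by
    conv_lhs => rw [isCharacter_eq_sum_classInner hΦ]
    apply Finset.sum_congr rfl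
    intro β _
    rw [he]
  have hϑeq : ϑ = fun n : N => χ n := by
    funext n; exact (hext n).symm
  have hΨdec : indFun N (φ * ϑ) = ∑ β : IrrCharacter G, (e β : ℂ) • ((β : G → ℂ) * χ) := by
    rw [hϑeq, indFun_mul_restrict N φ χ (isClassFunction_of_isCharacter hχ)]
    conv_lhs => rw [hΦdec]
    rw [Finset.sum_mul]
    apply Finset.sum_congr rfl
    intro β _
    rw [smul_mul_assoc]
  have hprodinv : ∀ (g : G) (n : N),
      (φ * ϑ) ⟨g * n * g⁻¹, hN.conj_mem (n : G) n.2 g⟩ = (φ * ϑ) n := by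
    intro g n
    rw [Pi.mul_apply, Pi.mul_apply, hφinv, hϑinv]
  have h1 := card_mul_classInner_indFun_invariant N φ hφ hφinv
  have h2 := card_mul_classInner_indFun_invariant N (φ * ϑ) hprod hprodinv
  have hNne : (Nat.card N : ℂ) ≠ 0 := card_ne_zero_complex N
  have h3 : classInner (indFun N φ) (indFun N φ)
      = classInner (indFun N (φ * ϑ)) (indFun N (φ * ϑ)) := by
    apply mul_left_cancel₀ hNne
    rw [h1, h2]
  have h4 : classInner (indFun N φ) (indFun N φ) = ((∑ β : IrrCharacter G, e β ^ 2 : ℕ) : ℂ) := by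
    rw [hΦdec]
    exact classInner_self_decomposition e
  have h5 : classInner (indFun N (φ * ϑ)) (indFun N (φ * ϑ))
      = ((∑ β : IrrCharacter G, ∑ γ : IrrCharacter G, e β * e γ * a β γ : ℕ) : ℂ) := by
    rw [hΨdec, classInner_sum_left]
    push_cast
    apply Finset.sum_congr rfl
    intro β _
    rw [classInner_sum_right]
    apply Finset.sum_congr rfl
    intro γ _
    rw [classInner_smul_left, classInner_smul_right, ha, Complex.conj_natCast]
    ring
  have h6 : ∑ β : IrrCharacter G, e β ^ 2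
      = ∑ β : IrrCharacter G, ∑ γ : IrrCharacter G, e β * e γ * a β γ := by
    have : ((∑ β : IrrCharacter G, e β ^ 2 : ℕ) : ℂ)
        = ((∑ β : IrrCharacter G, ∑ γ : IrrCharacter G, e β * e γ * a β γ : ℕ) : ℂ) := by
      rw [← h4, ← h5, h3]
    exact_mod_cast this
  have hA : ∀ β : IrrCharacter G, 1 ≤ a β β := by
    intro β
    rw [Nat.one_le_iff_ne_zero]
    intro h0
    have h7 : classInner ((β : G → ℂ) * χ) ((β : G → ℂ) * χ) = 0 := by
      rw [ha, h0, Nat.cast_zero]
    have h8 := eq_zero_of_classInner_self_eq_zero _ h7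
    have h9 : ((β : G → ℂ) * χ) 1 = 0 := by rw [h8]; rfl
    rw [Pi.mul_apply] at h9
    rcases mul_eq_zero.mp h9 with h | h
    · exact apply_one_ne_zero β.2 h
    · exact hχ1 h
  have hrig := nat_quadratic_rigidity e a hA h6
  refine ⟨e, he, hΨdec, ?_⟩
  intro β hβ
  obtain ⟨r1, r2⟩ := hrig β hβ
  refine ⟨by rw [ha, r1, Nat.cast_one], ?_⟩
  intro γ hγ hEγ
  rw [ha, r2 γ hγ hEγ, Nat.cast_zero]

end Cfsg.Agent.Lib.helper3.Irr
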