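import Mathlib
import Cfsg.Prelude.Def_Characters
import Cfsg.Agent.Lib.helper3.BrauerInd1
import Cfsg.Agent.Lib.helper3.CliffCorr
import Cfsg.Agent.Lib.helper3.Ito
import Cfsg.Agent.Lib.helper3.Irr9
import Cfsg.Agent.Lib.helper3.Irr11
import Cfsg.Agent.Lib.helper3.Gallagher
import Cfsg.Agent.S0873

/-!
# Characters of `p`-quasi-elementary groups

`exists_proper_induced` : in a group `H = C P` (`C` a normal cyclic `p'`-subgroup, `P` a
`p`-group), every nonprincipal irreducible constituent of the permutation character on the cosets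
of `E ≥ C_C(P) P` is induced from a proper subgroup containing `C`.
-/

set_option autoImplicit false
set_option linter.style.haveILetI false
set_option linter.unusedSectionVars false

namespace Cfsg.Agent.Lib.helper3.BrauerInd

open Cfsg Module Cfsg.Agent.Lib.helper3.IndFun Cfsg.Agent.Lib.helper3.CharBasic
open Cfsg.Agent.Lib.helper3.Irr Cfsg.Agent.Lib.helper3.IndFunTrans Cfsg.Agent.Lib.helper3.Lin
open scoped ComplexConjugate

theorem comm_of_isCyclic {A : Type*} [Group A] (h : IsCyclic A) (a b : A) : a * b = b * a := by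
  obtain ⟨g, hg⟩ := h.exists_generator
  obtain ⟨i, rfl⟩ := Subgroup.mem_zpowers_iff.1 (hg a)
  obtain ⟨j, rfl⟩ := Subgroup.mem_zpowers_iff.1 (hg b)
  rw [← zpow_add, ← zpow_add, add_comm]

theorem exists_proper_induced {H : Type*} [Group H] [Fintype H] (p : ℕ) [hp : Fact p.Prime]
    (C : Subgroup H) [hC : C.Normal] (hcyc : IsCyclic C) (hcop : (Nat.card C).Coprime p)
    (P : Subgroup H) (hP : IsPGroup p P) (hCP : C ⊔ P = ⊤)
    (E : Subgroup H) (hPE : P ≤ E) (hZE : C ⊓ Subgroup.centralizer (P : Set H) ≤ E)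
    (ξ : H → ℂ) (hξ : IsIrrCharacter H ξ) (hne : ξ ≠ fun _ => 1)
    (hcon : classInner (indFun E (fun _ => (1 : ℂ))) ξ ≠ 0) :
    ∃ T : Subgroup H, C ≤ T ∧ T ≠ ⊤ ∧ ∃ ψ : T → ℂ, IsIrrCharacter T ψ ∧ indFun T ψ = ξ := by
  classical
  letI : Fintype C := Fintype.ofFinite C
  letI : Fintype E := Fintype.ofFinite E
  have hξc := isCharacter_of_isIrrCharacter hξ
  have hξcf := isClassFunction_of_isCharacter hξc
  -- a linear constituent of the restriction to `C`
  have hres : IsCharacter C (fun c : C => ξ c) := isCharacter_restrict hξc C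
  have hres0 : (fun c : C => ξ c) ≠ 0 := by
    intro h0
    have h1 := congrFun h0 1
    simp only [OneMemClass.coe_one, Pi.zero_apply] at h1
    obtain ⟨n, hn, -, hpos⟩ := Cfsg.Agent.Lib.helper3.Central.irr_degree_dvd_card hξ
    rw [hn] at h1
    have : n = 0 := by exact_mod_cast h1
    omega
  obtain ⟨lam, hlam⟩ := exists_constituent hres hres0
  have hlin : (lam : C → ℂ) 1 = 1 :=
    apply_one_eq_one_of_comm (comm_of_isCyclic hcyc) lam.2
  have hlamcf := isClassFunction_of_isCharacter (isCharacter_of_isIrrCharacter lam.2)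
  by_cases hT : inertia C (lam : C → ℂ) = ⊤
  · exfalso
    have hinv : ∀ (g : H) (c : C),
        (lam : C → ℂ) ⟨g * c * g⁻¹, hC.conj_mem (c : H) c.2 g⟩ = (lam : C → ℂ) c := by
      intro g c
      have hg : g ∈ inertia C (lam : C → ℂ) := by rw [hT]; trivial
      exact (mem_inertia_iff C _ g).1 hg c
    have hmul := apply_mul_of_invariant_linear C ξ hξ (lam : C → ℂ) lam.2 hlin hlam hinv
    -- the sum over `E`
    have hS : ∑ e : E, ξ e ≠ 0 := by
      rw [frobenius_reciprocity E _ ξ hξcf, classInner_apply] at hcon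
      have h1 := right_ne_zero_of_mul hcon
      simp only [one_mul] at h1
      intro h0
      apply h1
      rw [← map_sum, h0, map_zero]
    -- `lam` is trivial on `C_C(P)`
    have hker : ∀ c : C, (c : H) ∈ Subgroup.centralizer (P : Set H) → (lam : C → ℂ) c = 1 := by
      intro c hc
      have hcE : (c : H) ∈ E := hZE ⟨c.2, hc⟩
      have h1 : ∑ e : E, ξ e = ∑ e : E, ξ ((c : H) * e) := by
        symm
        apply Fintype.sum_equiv (Equiv.mulLeft (⟨(c : H), hcE⟩ : E))
        intro e
        rfl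
      have h1' : ∑ e : E, ξ ((c : H) * (e : H)) = (lam : C → ℂ) c * ∑ e : E, ξ e := by
        rw [Finset.mul_sum]
        exact Finset.sum_congr rfl (fun e _ => hmul c e)
      rw [h1'] at h1
      have h2 : ((lam : C → ℂ) c - 1) * ∑ e : E, ξ e = 0 := by
        rw [sub_mul, one_mul, ← h1, sub_self]
      rcases mul_eq_zero.1 h2 with h3 | h3
      · exact sub_eq_zero.1 h3
      · exact absurd h3 hS
    have hlam1 : (lam : C → ℂ) = fun _ => 1 :=
      Cfsg.Agent.S0873.result p C P hP hcop hCP (lam : C → ℂ)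
        ⟨isCharacter_of_isIrrCharacter lam.2, hlin⟩ hinv hker
    have hmul' : ∀ (c : C) (h : H), ξ ((c : H) * h) = ξ h := by
      intro c h
      rw [hmul c h, hlam1, one_mul]
    -- `ξ` factors through `H ⧸ C`
    letI : Fintype (H ⧸ C) := Fintype.ofFinite _
    obtain ⟨F, hF⟩ : ∃ F : H ⧸ C → ℂ, F = fun q => ξ q.out := ⟨_, rfl⟩
    have hξF : ∀ h : H, ξ h = F (h : H ⧸ C) := by
      intro h
      rw [hF]
      simp only
      obtain ⟨o, ho⟩ : ∃ o : H, o = ((h : H ⧸ C)).out := ⟨_, rfl⟩
      rw [← ho]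
      have hoh : ((o : H) : H ⧸ C) = (h : H ⧸ C) := by
        rw [ho]; exact QuotientGroup.out_eq' _
      have hmem : o⁻¹ * h ∈ C := QuotientGroup.eq.1 hoh
      have hmem' : h * o⁻¹ ∈ C := by
        have := hC.conj_mem _ hmem o
        have e : o * (o⁻¹ * h) * o⁻¹ = h * o⁻¹ := by group
        rwa [e] at this
      have := hmul' ⟨h * o⁻¹, hmem'⟩ o
      simp only [inv_mul_cancel_right] at this
      exact this
    have hsumH : ∑ h : H, ξ h = (Nat.card C : ℂ) * ∑ q : H ⧸ C, F q := by
      rw [Finset.sum_congr rfl (fun h _ => hξF h)]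
      exact sum_comp_mk C F
    obtain ⟨f, hf⟩ : ∃ f : E →* H ⧸ C, f = (QuotientGroup.mk' C).comp E.subtype := ⟨_, rfl⟩
    have hfsurj : Function.Surjective f := by
      intro q
      induction q using QuotientGroup.induction_on with
      | H h =>
        have hCE : C ⊔ E = ⊤ := by
          rw [eq_top_iff, ← hCP]
          exact sup_le_sup_left hPE C
        have hh : h ∈ ((C ⊔ E : Subgroup H) : Set H) := by rw [hCE]; trivial
        rw [Subgroup.normal_mul] at hh
        obtain ⟨c, hc, e, he, rfl⟩ := hh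
        refine ⟨⟨e, he⟩, ?_⟩
        rw [hf]
        show ((e : H) : H ⧸ C) = ((c * e : H) : H ⧸ C)
        rw [QuotientGroup.eq]
        have : e⁻¹ * (c * e) = e⁻¹ * c * e⁻¹⁻¹ := by group
        rw [this]
        exact hC.conj_mem c hc e⁻¹
    have hsumE : ∑ e : E, ξ e = (Nat.card f.ker : ℂ) * ∑ q : H ⧸ C, F q := by
      rw [← sum_comp_hom f hfsurj F]
      apply Finset.sum_congr rfl
      intro e _
      rw [hξF, hf]
      rfl
    have hFsum : ∑ q : H ⧸ C, F q ≠ 0 := by
      intro h0
      apply hS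
      rw [hsumE, h0, mul_zero]
    have hsumH0 : ∑ h : H, ξ h ≠ 0 := by
      rw [hsumH]
      exact mul_ne_zero (card_ne_zero_complex C) hFsum
    -- hence `ξ` is the principal character
    have hinner : classInner ξ (fun _ : H => (1 : ℂ)) ≠ 0 := by
      rw [classInner_apply]
      simp only [map_one, mul_one]
      exact mul_ne_zero (inv_ne_zero (card_ne_zero_complex H)) hsumH0
    rw [irr_classInner_eq hξ isIrrCharacter_one] at hinner
    by_cases h1 : ξ = fun _ => 1
    · exact hne h1
    · rw [if_neg h1] at hinner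
      exact hinner rfl
  · letI : Fintype (inertia C (lam : C → ℂ)) := Fintype.ofFinite _
    have hle : C ≤ inertia C (lam : C → ℂ) := le_inertia C _ hlamcf
    obtain ⟨ψ, hψ, hind, -⟩ := clifford_corr_surjective C (lam : C → ℂ) lam.2
      (inertia C (lam : C → ℂ)) (fun g => mem_inertia_iff C _ g) hle ξ hξ hlam
    exact ⟨inertia C (lam : C → ℂ), hle, hT, ψ, hψ, hind⟩

end Cfsg.Agent.Lib.helper3.BrauerInd
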