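import Mathlib
import Cfsg.Prelude.Def_Characters
import Cfsg.Agent.Lib.helper3.BrauerInd2

/-!
# Characters of `p`-quasi-elementary groups are integer combinations of characters induced from
`p`-elementary subgroups
-/

set_option autoImplicit false
set_option linter.style.haveILetI false
set_option linter.unusedSectionVars false

namespace Cfsg.Agent.Lib.helper3.BrauerInd

open Cfsg Module Cfsg.Agent.Lib.helper3.IndFun Cfsg.Agent.Lib.helper3.CharBasic
open Cfsg.Agent.Lib.helper3.Irr Cfsg.Agent.Lib.helper3.IndFunTrans Cfsg.Agent.Lib.helper3.Lin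
open scoped ComplexConjugate

universe u

theorem exists_zpowers_eq_of_le_cyclic {H : Type*} [Group H] {C Z : Subgroup H} (hC : IsCyclic C)
    (h : Z ≤ C) : ∃ z : H, Z = Subgroup.zpowers z := by
  haveI := hC
  have hZ : IsCyclic Z :=
    isCyclic_of_injective (Subgroup.inclusion h) (Subgroup.inclusion_injective h)
  obtain ⟨g, hg⟩ := (isCyclic_iff_exists_zpowers_eq_top (α := Z)).1 hZ
  refine ⟨(g : H), ?_⟩
  have h1 : (Subgroup.zpowers g).map Z.subtype = Subgroup.zpowers (g : H) := by
    rw [MonoidHom.map_zpowers]; rfl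
  rw [← h1, hg, ← MonoidHom.range_eq_map, Subgroup.range_subtype]

theorem qe_char_mem (p : ℕ) [hp : Fact p.Prime] : ∀ n : ℕ, ∀ (H : Type u) [Group H] [Fintype H],
    Fintype.card H = n → ∀ C : Subgroup H, C.Normal → IsCyclic C → (Nat.card C).Coprime p →
    (∃ k : ℕ, C.index = p ^ k) → ∀ χ : H → ℂ, IsCharacter H χ → χ ∈ BSpan p H := by
  intro n
  induction n using Nat.strong_induction_on with
  | _ n ih =>
    intro H _ _ hn C hCn hcyc hcop hidx χ hχ
    obtain ⟨k, hk⟩ := hidx
    classical
    haveI := hCn
    obtain ⟨P⟩ : Nonempty (Sylow p H) := inferInstance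
    have hCP : C ⊔ (P : Subgroup H) = ⊤ := by
      rw [← Subgroup.index_eq_one]
      have h1 : (C ⊔ (P : Subgroup H)).index ∣ C.index := Subgroup.index_dvd_of_le le_sup_left
      have h2 : (C ⊔ (P : Subgroup H)).index ∣ (P : Subgroup H).index :=
        Subgroup.index_dvd_of_le le_sup_right
      rw [hk] at h1
      obtain ⟨j, -, hj⟩ := (Nat.dvd_prime_pow hp.out).1 h1
      by_contra hne
      have hj0 : j ≠ 0 := by
        intro h0
        rw [h0, pow_zero] at hj
        exact hne hj
      exact P.not_dvd_index (dvd_trans (by rw [hj]; exact dvd_pow_self p hj0) h2)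
    obtain ⟨Z, hZ⟩ : ∃ Z, Z = C ⊓ Subgroup.centralizer ((P : Subgroup H) : Set H) := ⟨_, rfl⟩
    have hZC : Z ≤ C := by rw [hZ]; exact inf_le_left
    obtain ⟨z, hz⟩ := exists_zpowers_eq_of_le_cyclic hcyc hZC
    obtain ⟨E, hE⟩ : ∃ E, E = Z ⊔ (P : Subgroup H) := ⟨_, rfl⟩
    have hzZ : z ∈ Z := by rw [hz]; exact Subgroup.mem_zpowers z
    have hZcent : ∀ a ∈ Z, ∀ u ∈ (P : Subgroup H), u * a = a * u := by
      intro a ha u hu
      rw [hZ] at ha
      exact Subgroup.mem_centralizer_iff.1 ha.2 u hu
    have hEform : ∀ e ∈ E, ∃ a ∈ Z, ∃ u ∈ (P : Subgroup H), e = a * u := by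
      intro e he
      rw [hE, Subgroup.sup_eq_closure] at he
      induction he using Subgroup.closure_induction with
      | mem x hx =>
        rcases hx with hx | hx
        · exact ⟨x, hx, 1, Subgroup.one_mem _, (mul_one x).symm⟩
        · exact ⟨1, Subgroup.one_mem _, x, hx, (one_mul x).symm⟩
      | one => exact ⟨1, Subgroup.one_mem _, 1, Subgroup.one_mem _, (mul_one 1).symm⟩
      | mul x y _ _ hx hy =>
        obtain ⟨a, ha, u, hu, rfl⟩ := hx
        obtain ⟨a', ha', u', hu', rfl⟩ := hy
        refine ⟨a * a', Z.mul_mem ha ha', u * u', Subgroup.mul_mem _ hu hu', ?_⟩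
        calc a * u * (a' * u') = a * (u * a') * u' := by group
          _ = a * (a' * u) * u' := by rw [hZcent a' ha' u hu]
          _ = a * a' * (u * u') := by group
      | inv x _ hx =>
        obtain ⟨a, ha, u, hu, rfl⟩ := hx
        refine ⟨a⁻¹, Z.inv_mem ha, u⁻¹, Subgroup.inv_mem _ hu, ?_⟩
        have := hZcent a⁻¹ (Z.inv_mem ha) u⁻¹ (Subgroup.inv_mem _ hu)
        rw [mul_inv_rev, this]
    have hZE : Z ≤ E := by rw [hE]; exact le_sup_left
    have hPE : (P : Subgroup H) ≤ E := by rw [hE]; exact le_sup_right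
    have hEel : IsElementary p E := by
      apply isElementary_of E z (hZE hzZ)
      · intro e he
        obtain ⟨a, ha, u, hu, rfl⟩ := hEform e he
        rw [hz] at ha
        obtain ⟨i, rfl⟩ := Subgroup.mem_zpowers_iff.1 ha
        have h1 : u * z = z * u := hZcent z hzZ u hu
        have h2 : z ^ i * z = z * z ^ i := ((Commute.refl z).zpow_left i).eq
        calc z ^ i * u * z = z ^ i * (u * z) := by group
          _ = z ^ i * (z * u) := by rw [h1]
          _ = (z ^ i * z) * u := by group
          _ = (z * z ^ i) * u := by rw [h2]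
          _ = z * (z ^ i * u) := by group
      · have hzC : z ∈ C := hZC hzZ
        have h1 : orderOf z ∣ Nat.card C := by
          have := orderOf_dvd_natCard (⟨z, hzC⟩ : C)
          rwa [Subgroup.orderOf_mk] at this
        exact Nat.Coprime.coprime_dvd_left h1 hcop
      · intro e he
        obtain ⟨a, ha, u, hu, rfl⟩ := hEform e he
        obtain ⟨k', hk'⟩ := P.isPGroup' ⟨u, hu⟩
        have hu' : u ^ p ^ k' = 1 := congrArg Subtype.val hk'
        refine ⟨k', ?_⟩
        have hc : Commute a u := (hZcent a ha u hu).symm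
        rw [hc.mul_pow, hu', mul_one, ← hz]
        exact Z.pow_mem ha _
    letI : Fintype E := Fintype.ofFinite E
    have hχcf := isClassFunction_of_isCharacter hχ
    have hθ : IsCharacter H (indFun E (fun _ => (1 : ℂ))) := isCharacter_indFun E _ isCharacter_one
    obtain ⟨m, hm⟩ := exists_decomposition_of_isCharacter hθ
    obtain ⟨one, hone⟩ : ∃ one : IrrCharacter H, one = ⟨fun _ => 1, isIrrCharacter_one⟩ := ⟨_, rfl⟩
    have honefun : (one : H → ℂ) = fun _ => 1 := by rw [hone]
    have hmξ : ∀ ξ : IrrCharacter H, classInner (indFun E (fun _ => (1 : ℂ))) (ξ : H → ℂ) = m ξ := by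
      intro ξ
      rw [hm]
      exact classInner_decomposition_left (fun ψ => (m ψ : ℂ)) ξ
    have hm1 : m one = 1 := by
      have h1 := hmξ one
      rw [frobenius_reciprocity E _ _ (isClassFunction_of_isCharacter
        (isCharacter_of_isIrrCharacter one.2)), honefun, classInner_one_one] at h1
      exact_mod_cast h1.symm
    have hkey : χ = indFun E ((fun _ => (1 : ℂ)) * fun e : E => χ e)
        - ∑ ξ ∈ Finset.univ.erase one, (m ξ : ℂ) • ((ξ : H → ℂ) * χ) := by
      rw [indFun_mul_restrict E _ χ hχcf, hm, Finset.sum_mul,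
        ← Finset.add_sum_erase _ _ (Finset.mem_univ one), hm1, honefun]
      simp only [Nat.cast_one, one_smul, smul_mul_assoc]
      have : (fun _ : H => (1 : ℂ)) * χ = χ := by
        funext h
        simp
      rw [this]
      abel
    rw [hkey]
    apply AddSubgroup.sub_mem
    · apply AddSubgroup.subset_closure
      exact ⟨E, _, hEel, isCharacter_mul isCharacter_one (isCharacter_restrict hχ E), rfl⟩
    · apply AddSubgroup.sum_mem
      intro ξ hξ
      by_cases hmz : m ξ = 0
      · rw [hmz, Nat.cast_zero, zero_smul]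
        exact AddSubgroup.zero_mem _
      · rw [Nat.cast_smul_eq_nsmul]
        apply AddSubgroup.nsmul_mem
        have hξne : (ξ : H → ℂ) ≠ fun _ => 1 := by
          intro h
          apply Finset.ne_of_mem_erase hξ
          rw [hone]
          exact Subtype.ext h
        have hcon : classInner (indFun E (fun _ => (1 : ℂ))) (ξ : H → ℂ) ≠ 0 := by
          rw [hmξ]
          exact_mod_cast hmz
        obtain ⟨T, hCT, hT, ψ, hψ, hind⟩ := exists_proper_induced p C hcyc hcop (P : Subgroup H)
          P.isPGroup' hCP E hPE (by rw [← hZ]; exact hZE) (ξ : H → ℂ) ξ.2 hξne hcon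
        letI : Fintype T := Fintype.ofFinite T
        rw [← hind, ← indFun_mul_restrict T ψ χ hχcf]
        apply BSpan.indFun_mem
        -- the induction hypothesis on `T`
        have hcardT : Fintype.card T < n := by
          rw [← hn, ← Nat.card_eq_fintype_card, ← Nat.card_eq_fintype_card]
          exact lt_of_le_of_ne (Subgroup.card_le_card_group T)
            (fun h => hT (Subgroup.eq_top_of_card_eq T h))
        haveI := hcyc
        refine ih _ hcardT T rfl (C.subgroupOf T) (hCn.subgroupOf T) ?_ ?_ ?_ _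
          (isCharacter_mul (isCharacter_of_isIrrCharacter hψ) (isCharacter_restrict hχ T))
        · exact isCyclic_of_injective (Subgroup.subgroupOfEquivOfLe hCT).toMonoidHom
            (Subgroup.subgroupOfEquivOfLe hCT).injective
        · rw [card_subgroupOf_of_le hCT]
          exact hcop
        · have h1 : C.relIndex T ∣ C.index := Subgroup.relIndex_dvd_index_of_normal C T
          rw [hk] at h1
          obtain ⟨j, -, hj⟩ := (Nat.dvd_prime_pow hp.out).1 h1
          exact ⟨j, hj⟩

end Cfsg.Agent.Lib.helper3.BrauerInd
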