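import Mathlib
import Cfsg.Prelude.Def_Characters
import Cfsg.Agent.Lib.helper3.IndFun

set_option autoImplicit false
set_option linter.style.haveILetI false

/-!
# The permutation character as an induced function
-/

namespace Cfsg.Agent.Lib.helper3.PermChar

open Cfsg Cfsg.Agent.Lib.helper3.IndFun
open scoped ComplexConjugate

variable {G : Type*} [Group G]

/-- For a transitive action, `G ≃ X × Stab(x)`, compatibly with `y ↦ y • x`. -/
noncomputable def prodStabEquiv (X : Type*) [MulAction G X] [MulAction.IsPretransitive G X] (x : X) :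
    X × MulAction.stabilizer G x ≃ G where
  toFun p := (Classical.choose (MulAction.exists_smul_eq G x p.1)) * (p.2 : G)
  invFun y := (y • x, ⟨(Classical.choose (MulAction.exists_smul_eq G x (y • x)))⁻¹ * y, by
    rw [MulAction.mem_stabilizer_iff, mul_smul, inv_smul_eq_iff]
    exact (Classical.choose_spec (MulAction.exists_smul_eq G x (y • x))).symm⟩)
  left_inv p := by
    have h1 : (Classical.choose (MulAction.exists_smul_eq G x p.1) * (p.2 : G)) • x = p.1 := by
      rw [mul_smul, MulAction.mem_stabilizer_iff.mp p.2.2]
      exact Classical.choose_spec (MulAction.exists_smul_eq G x p.1)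
    ext
    · exact h1
    · simp only [h1]
      simp
  right_inv y := by
    simp

theorem prodStabEquiv_smul (X : Type*) [MulAction G X] [MulAction.IsPretransitive G X] (x : X)
    (p : X × MulAction.stabilizer G x) : (prodStabEquiv X x p) • x = p.1 := by
  unfold prodStabEquiv
  simp only [Equiv.coe_fn_mk]
  rw [mul_smul, MulAction.mem_stabilizer_iff.mp p.2.2]
  exact Classical.choose_spec (MulAction.exists_smul_eq G x p.1)

theorem sum_smul_eq [Fintype G] (X : Type*) [Fintype X] [MulAction G X]
    [MulAction.IsPretransitive G X] (x : X) (F : X → ℂ) :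
    ∑ y : G, F (y • x) = (Nat.card (MulAction.stabilizer G x) : ℂ) * ∑ z : X, F z := by
  classical
  letI : Fintype (MulAction.stabilizer G x) := Fintype.ofFinite _
  rw [← Fintype.sum_equiv (prodStabEquiv X x) (fun p => F p.1) (fun y => F (y • x))
    (fun p => by rw [prodStabEquiv_smul])]
  rw [Fintype.sum_prod_type]
  simp_rw [Finset.sum_const, Finset.card_univ, nsmul_eq_mul]
  rw [← Finset.mul_sum, Nat.card_eq_fintype_card]

theorem permChar_eq_indFun [Fintype G] (X : Type*) [MulAction G X] [Finite X]
    [MulAction.IsPretransitive G X] (x : X) :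
    (fun g : G => (Nat.card (MulAction.fixedBy X g) : ℂ))
      = indFun (MulAction.stabilizer G x) (fun _ => 1) := by
  classical
  letI : Fintype X := Fintype.ofFinite X
  funext g
  rw [indFun_apply]
  have h1 : ∀ y : G, extendByZero (MulAction.stabilizer G x) (fun _ => (1 : ℂ)) (y⁻¹ * g * y)
      = (fun z : X => if g • z = z then (1 : ℂ) else 0) (y • x) := by
    intro y
    rw [extendByZero_eq_ite]
    simp only [MulAction.mem_stabilizer_iff, mul_smul, inv_smul_eq_iff, dite_eq_ite]
  rw [Finset.sum_congr rfl (fun y _ => h1 y)]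
  rw [sum_smul_eq X x (fun z : X => if g • z = z then (1 : ℂ) else 0)]
  have hS : (Nat.card (MulAction.stabilizer G x) : ℂ) ≠ 0 := card_ne_zero_complex _
  rw [← mul_assoc, inv_mul_cancel₀ hS, one_mul]
  rw [Finset.sum_ite, Finset.sum_const_zero, add_zero, Finset.sum_const, nsmul_eq_mul, mul_one]
  congr 1
  rw [Nat.card_eq_fintype_card, Fintype.card_subtype]
  rfl

end Cfsg.Agent.Lib.helper3.PermChar
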