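import Mathlib
import Cfsg.Prelude.Def_Characters
import Cfsg.Agent.Lib.helper3.PermChar

/-!
# Permutation characters of arbitrary finite `G`-sets

* `sum_smul_eq_orbit` : `∑ y, F (y • x) = |Stab x| * ∑ z ∈ orbit x, F z`;
* `permChar_eq_sum_orbits` : the permutation character is the sum over the orbits of the functions
  induced from the trivial character of a point stabilizer;
* `indFun_one_mul_indFun_one` : the product of two transitive permutation characters.
-/

set_option autoImplicit false
set_option linter.style.haveILetI false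
set_option linter.unusedSectionVars false

namespace Cfsg.Agent.Lib.helper3.PermChar

open Cfsg Cfsg.Agent.Lib.helper3.IndFun

variable {G : Type*} [Group G]

theorem sum_smul_eq_orbit [Fintype G] (X : Type*) [Fintype X] [MulAction G X] (x : X)
    (F : X → ℂ) [DecidablePred (· ∈ MulAction.orbit G x)] :
    ∑ y : G, F (y • x) = (Nat.card (MulAction.stabilizer G x) : ℂ) *
      ∑ z : X, if z ∈ MulAction.orbit G x then F z else 0 := by
  classical
  letI : Fintype (MulAction.orbit G x) := Fintype.ofFinite _
  have h := sum_smul_eq (G := G) (MulAction.orbit G x) ⟨x, MulAction.mem_orbit_self x⟩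
    (fun z => F z.1)
  have hstab : MulAction.stabilizer G (⟨x, MulAction.mem_orbit_self x⟩ : MulAction.orbit G x)
      = MulAction.stabilizer G x := by
    ext y
    rw [MulAction.mem_stabilizer_iff, MulAction.mem_stabilizer_iff, Subtype.ext_iff]
    rfl
  rw [hstab] at h
  have h1 : ∀ y : G, F (y • x)
      = (fun z : MulAction.orbit G x => F z.1) (y • ⟨x, MulAction.mem_orbit_self x⟩) := by
    intro y; rfl
  rw [Finset.sum_congr rfl (fun y _ => h1 y), h]
  congr 1
  rw [← Finset.sum_filter]
  rw [Finset.sum_subtype (p := fun z : X => z ∈ MulAction.orbit G x) _ (by simp)]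

/-- The permutation character of a finite `G`-set is the sum over the orbits of the transitive
permutation characters. -/
theorem permChar_eq_sum_orbits [Fintype G] (X : Type*) [MulAction G X] [Finite X]
    [Fintype (MulAction.orbitRel.Quotient G X)]
    (r : MulAction.orbitRel.Quotient G X → X)
    (hr : ∀ ω, (Quotient.mk'' (r ω) : MulAction.orbitRel.Quotient G X) = ω) :
    (fun g : G => (Nat.card (MulAction.fixedBy X g) : ℂ))
      = ∑ ω : MulAction.orbitRel.Quotient G X,
          indFun (MulAction.stabilizer G (r ω)) (fun _ => 1) := by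
  classical
  letI : Fintype X := Fintype.ofFinite X
  funext g
  rw [Finset.sum_apply]
  have h1 : ∀ ω : MulAction.orbitRel.Quotient G X,
      indFun (MulAction.stabilizer G (r ω)) (fun _ => 1) g
        = ∑ z : X, if z ∈ MulAction.orbit G (r ω) then (if g • z = z then (1 : ℂ) else 0) else 0 := by
    intro ω
    rw [indFun_apply]
    have h2 : ∀ y : G, extendByZero (MulAction.stabilizer G (r ω)) (fun _ => (1 : ℂ)) (y⁻¹ * g * y)
        = (fun z : X => if g • z = z then (1 : ℂ) else 0) (y • r ω) := by
      intro y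
      rw [extendByZero_eq_ite]
      simp only [MulAction.mem_stabilizer_iff, mul_smul, inv_smul_eq_iff, dite_eq_ite]
    rw [Finset.sum_congr rfl (fun y _ => h2 y)]
    rw [sum_smul_eq_orbit X (r ω) (fun z : X => if g • z = z then (1 : ℂ) else 0)]
    have hS : (Nat.card (MulAction.stabilizer G (r ω)) : ℂ) ≠ 0 := card_ne_zero_complex _
    rw [← mul_assoc, inv_mul_cancel₀ hS, one_mul]
  rw [Finset.sum_congr rfl (fun ω _ => h1 ω), Finset.sum_comm]
  have h3 : ∀ z : X, (∑ ω : MulAction.orbitRel.Quotient G X,
      if z ∈ MulAction.orbit G (r ω) then (if g • z = z then (1 : ℂ) else 0) else 0)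
        = if g • z = z then (1 : ℂ) else 0 := by
    intro z
    rw [Finset.sum_eq_single (Quotient.mk'' z : MulAction.orbitRel.Quotient G X)]
    · rw [if_pos]
      have := hr (Quotient.mk'' z)
      have h4 : (MulAction.orbitRel G X) (r (Quotient.mk'' z)) z := Quotient.exact' this
      rw [MulAction.orbitRel_apply] at h4
      rw [MulAction.mem_orbit_iff] at h4 ⊢
      obtain ⟨y, hy⟩ := h4
      exact ⟨y⁻¹, by rw [← hy, inv_smul_smul]⟩
    · intro ω _ hω
      rw [if_neg]
      intro hz
      apply hω
      rw [← hr ω]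
      symm
      apply Quotient.sound'
      rw [MulAction.orbitRel_apply]
      exact hz
    · intro h; exact absurd (Finset.mem_univ _) h
  rw [Finset.sum_congr rfl (fun z _ => h3 z)]
  rw [Finset.sum_ite, Finset.sum_const_zero, add_zero, Finset.sum_const, nsmul_eq_mul, mul_one]
  congr 1
  rw [Nat.card_eq_fintype_card, Fintype.card_subtype]
  rfl

theorem card_fixedBy_prod' (X Y : Type*) [MulAction G X] [MulAction G Y] (g : G) :
    Nat.card (MulAction.fixedBy (X × Y) g)
      = Nat.card (MulAction.fixedBy X g) * Nat.card (MulAction.fixedBy Y g) := by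
  rw [← Nat.card_prod]
  apply Nat.card_congr
  refine
    { toFun := fun p => (⟨p.1.1, ?_⟩, ⟨p.1.2, ?_⟩)
      invFun := fun q => ⟨(q.1.1, q.2.1), ?_⟩
      left_inv := fun p => rfl
      right_inv := fun q => rfl }
  · have := p.2
    rw [MulAction.mem_fixedBy] at this ⊢
    exact congrArg Prod.fst this
  · have := p.2
    rw [MulAction.mem_fixedBy] at this ⊢
    exact congrArg Prod.snd this
  · rw [MulAction.mem_fixedBy]
    have h1 := q.1.2
    have h2 := q.2.2
    rw [MulAction.mem_fixedBy] at h1 h2
    exact Prod.ext h1 h2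

/-- The permutation character on the cosets of `H`. -/
theorem indFun_one_eq_card_fixedBy [Fintype G] (H : Subgroup G) :
    indFun H (fun _ => (1 : ℂ)) = fun g : G => (Nat.card (MulAction.fixedBy (G ⧸ H) g) : ℂ) := by
  have h := permChar_eq_indFun (G := G) (G ⧸ H) ((1 : G) : G ⧸ H)
  rw [h]
  have hst : MulAction.stabilizer G ((1 : G) : G ⧸ H) = H := MulAction.stabilizer_quotient H
  obtain ⟨S, hS⟩ : ∃ S : Subgroup G, S = MulAction.stabilizer G ((1 : G) : G ⧸ H) := ⟨_, rfl⟩
  rw [← hS]
  rw [← hS] at hst
  subst hst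
  rfl

/-- The product of two transitive permutation characters is a sum of transitive permutation
characters on subgroups of the first subgroup. -/
theorem indFun_one_mul_indFun_one [Fintype G] (H K : Subgroup G) :
    ∃ (ι : Type) (_ : Fintype ι) (U : ι → Subgroup G), (∀ i, U i ≤ H) ∧
      indFun H (fun _ => (1 : ℂ)) * indFun K (fun _ => 1) = ∑ i, indFun (U i) (fun _ => 1) := by
  classical
  letI : Fintype (MulAction.orbitRel.Quotient G ((G ⧸ H) × (G ⧸ K))) := Fintype.ofFinite _
  -- representatives with first coordinate the trivial coset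
  let r : MulAction.orbitRel.Quotient G ((G ⧸ H) × (G ⧸ K)) → (G ⧸ H) × (G ⧸ K) :=
    fun ω => ((Quotient.out ω).1.out)⁻¹ • Quotient.out ω
  have hr : ∀ ω, (Quotient.mk'' (r ω) : MulAction.orbitRel.Quotient G ((G ⧸ H) × (G ⧸ K))) = ω := by
    intro ω
    have h1 : (Quotient.mk'' (Quotient.out ω) : MulAction.orbitRel.Quotient G ((G ⧸ H) × (G ⧸ K)))
        = ω := Quotient.out_eq' ω
    conv_rhs => rw [← h1]
    apply Quotient.sound'
    rw [MulAction.orbitRel_apply]
    exact ⟨_, rfl⟩
  have hr1 : ∀ ω, (r ω).1 = ((1 : G) : G ⧸ H) := by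
    intro ω
    show ((Quotient.out ω).1.out)⁻¹ • (Quotient.out ω).1 = _
    obtain ⟨q, hq⟩ : ∃ q : G ⧸ H, q = (Quotient.out ω).1 := ⟨_, rfl⟩
    rw [← hq]
    have hq' : ((q.out : G) : G ⧸ H) = q := QuotientGroup.out_eq' q
    calc (q.out)⁻¹ • q = (q.out)⁻¹ • ((q.out : G) : G ⧸ H) :=
          congrArg (fun t => (q.out)⁻¹ • t) hq'.symm
      _ = (((q.out)⁻¹ * q.out : G) : G ⧸ H) := rfl
      _ = ((1 : G) : G ⧸ H) := by rw [inv_mul_cancel]
  have hmain := permChar_eq_sum_orbits (G := G) ((G ⧸ H) × (G ⧸ K)) r hr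
  obtain ⟨e⟩ : Nonempty (MulAction.orbitRel.Quotient G ((G ⧸ H) × (G ⧸ K))
      ≃ Fin (Fintype.card (MulAction.orbitRel.Quotient G ((G ⧸ H) × (G ⧸ K))))) :=
    ⟨Fintype.equivFin _⟩
  refine ⟨Fin (Fintype.card (MulAction.orbitRel.Quotient G ((G ⧸ H) × (G ⧸ K)))), inferInstance,
    fun i => MulAction.stabilizer G (r (e.symm i)), ?_, ?_⟩
  · intro i y hy
    rw [MulAction.mem_stabilizer_iff] at hy
    have h1 := congrArg Prod.fst hy
    have h2 : y • (r (e.symm i)).1 = (r (e.symm i)).1 := h1
    rw [hr1] at h2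
    have h3 : y ∈ MulAction.stabilizer G ((1 : G) : G ⧸ H) := h2
    rw [MulAction.stabilizer_quotient] at h3
    exact h3
  · rw [indFun_one_eq_card_fixedBy H, indFun_one_eq_card_fixedBy K]
    rw [← Equiv.sum_comp e.symm] at hmain
    rw [← hmain]
    funext g
    rw [Pi.mul_apply, card_fixedBy_prod']
    push_cast
    rfl

end Cfsg.Agent.Lib.helper3.PermChar
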