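import Mathlib
import Cfsg.Prelude.Def_Characters
import Cfsg.Agent.Lib.helper3.PermChar2

/-!
# `p`-quasi-elementary subgroups and permutation characters

`exists_pqe` : for `x : G` and a prime `p` there is a `p`-quasi-elementary subgroup `H` such that
the permutation character on the cosets of `H` takes at `x` a value prime to `p`.
-/

set_option autoImplicit false
set_option linter.style.haveILetI false
set_option linter.unusedSectionVars false

namespace Cfsg.Agent.Lib.helper3.QuasiElem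

open Cfsg Cfsg.Agent.Lib.helper3.IndFun Cfsg.Agent.Lib.helper3.PermChar

variable {G : Type*} [Group G]

/-- `H` is `p`-quasi-elementary: it has a cyclic normal subgroup of order prime to `p` and of
`p`-power index. -/
def IsPQE (p : ℕ) (H : Subgroup G) : Prop :=
  ∃ C : Subgroup G, C ≤ H ∧ H ≤ Subgroup.normalizer (C : Set G) ∧ IsCyclic C ∧
    Nat.Coprime (Nat.card C) p ∧ ∃ k : ℕ, C.relIndex H = p ^ k

/-- Translation by `x` as an endomorphism of the `G`-set `X`. -/
def smulEnd (X : Type*) [MulAction G X] (x : G) : Function.End X := fun q => x • q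

theorem smulEnd_apply (X : Type*) [MulAction G X] (x : G) (q : X) : smulEnd X x q = x • q := rfl

theorem smulEnd_pow (X : Type*) [MulAction G X] (x : G) (n : ℕ) :
    smulEnd X x ^ n = smulEnd X (x ^ n) := by
  induction n with
  | zero =>
    funext q
    show q = (x ^ 0) • q
    rw [pow_zero, one_smul]
  | succ n ih =>
    rw [pow_succ, ih]
    funext q
    show x ^ n • (x • q) = x ^ (n + 1) • q
    rw [pow_succ, mul_smul]

/-- The normal case. -/
theorem exists_pqe_aux [Fintype G] (p : ℕ) [hp : Fact p.Prime] (C : Subgroup G) [hC : C.Normal]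
    (x : G) (a : ℕ) (hx : x ^ p ^ a ∈ C) :
    ∃ H : Subgroup G, C ≤ H ∧ (∃ k : ℕ, C.relIndex H = p ^ k) ∧ x ∈ H ∧
      (∀ h ∈ H, (orderOf h).Coprime p → h ∈ C) ∧
      ∃ n : ℕ, indFun H (fun _ => (1 : ℂ)) x = n ∧ ¬ p ∣ n := by
  classical
  obtain ⟨π, hπ⟩ : ∃ π : G →* G ⧸ C, π = QuotientGroup.mk' C := ⟨_, rfl⟩
  have hπs : Function.Surjective π := by rw [hπ]; exact QuotientGroup.mk'_surjective C
  have hπk : ∀ g : G, π g = 1 ↔ g ∈ C := by
    intro g; rw [hπ]; exact QuotientGroup.eq_one_iff g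
  have hpg : IsPGroup p (Subgroup.zpowers (π x)) := by
    rintro ⟨y, hy⟩
    obtain ⟨k, rfl⟩ := Subgroup.mem_zpowers_iff.1 hy
    refine ⟨a, Subtype.ext ?_⟩
    show ((π x) ^ k) ^ (p ^ a) = 1
    rw [← zpow_natCast, ← zpow_mul, mul_comm, zpow_mul, zpow_natCast, ← map_pow,
      (hπk _).2 hx, one_zpow]
  obtain ⟨Q, hQ⟩ := hpg.exists_le_sylow
  obtain ⟨H, hH⟩ : ∃ H : Subgroup G, H = (Q : Subgroup (G ⧸ C)).comap π := ⟨_, rfl⟩
  have hCH : C ≤ H := by
    intro c hc
    rw [hH, Subgroup.mem_comap, (hπk c).2 hc]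
    exact Subgroup.one_mem _
  have hmap : H.map π = Q := by
    rw [hH]; exact Subgroup.map_comap_eq_self_of_surjective hπs _
  have hker : (⊥ : Subgroup (G ⧸ C)).comap π = C := by
    ext g
    rw [Subgroup.mem_comap, Subgroup.mem_bot, hπk]
  refine ⟨H, hCH, ?_, ?_, ?_, ?_⟩
  · obtain ⟨k, hk⟩ := IsPGroup.iff_card.1 Q.isPGroup'
    refine ⟨k, ?_⟩
    rw [← hker, Subgroup.relIndex_comap, hmap, Subgroup.relIndex_bot_left]
    exact hk
  · rw [hH, Subgroup.mem_comap]
    exact hQ (Subgroup.mem_zpowers _)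
  · intro h hh hcop
    refine (hπk h).1 ?_
    have h1 : π h ∈ (Q : Subgroup (G ⧸ C)) := by
      rw [hH] at hh; exact hh
    obtain ⟨k, hk⟩ := (Q.isPGroup') ⟨π h, h1⟩
    have h2 : (π h) ^ p ^ k = 1 := congrArg Subtype.val hk
    have h3 : orderOf (π h) ∣ p ^ k := orderOf_dvd_of_pow_eq_one h2
    have h4 : orderOf (π h) ∣ orderOf h := orderOf_map_dvd π h
    have h5 : orderOf (π h) = 1 :=
      Nat.eq_one_of_dvd_coprimes (Nat.Coprime.pow_right k hcop) h4 h3
    exact orderOf_eq_one_iff.1 h5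
  · rw [indFun_one_eq_card_fixedBy]
    refine ⟨Nat.card (MulAction.fixedBy (G ⧸ H) x), rfl, ?_⟩
    letI : Fintype (G ⧸ H) := Fintype.ofFinite _
    obtain ⟨f, hf⟩ : ∃ f : Function.End (G ⧸ H), f = smulEnd (G ⧸ H) x := ⟨_, rfl⟩
    have hfp : f ^ p ^ a = 1 := by
      rw [hf, smulEnd_pow]
      funext q
      induction q using QuotientGroup.induction_on with
      | H g =>
        show ((x ^ p ^ a * g : G) : G ⧸ H) = (g : G ⧸ H)
        rw [QuotientGroup.eq]
        apply hCH
        have : (x ^ p ^ a * g)⁻¹ * g = g⁻¹ * (x ^ p ^ a)⁻¹ * g⁻¹⁻¹ := by group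
        rw [this]
        exact hC.conj_mem _ (C.inv_mem hx) _
    have hmod := Equiv.Perm.card_fixedPoints_modEq (p := p) (n := a) hfp
    have hfix : Nat.card (Function.fixedPoints f) = Nat.card (MulAction.fixedBy (G ⧸ H) x) := by
      apply Nat.card_congr
      rw [hf]
      exact Equiv.refl _
    rw [Fintype.card_eq_nat_card, Fintype.card_eq_nat_card, hfix] at hmod
    intro hdvd
    have h1 : Nat.card (G ⧸ H) ≡ 0 [MOD p] := hmod.trans ((Nat.modEq_zero_iff_dvd).2 hdvd)
    have h2 : p ∣ H.index := (Nat.modEq_zero_iff_dvd).1 h1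
    have h3 : H.index = (Q : Subgroup (G ⧸ C)).index := by
      rw [hH]; exact Subgroup.index_comap_of_surjective _ hπs
    rw [h3] at h2
    exact Q.not_dvd_index h2

/-- For every `x` and `p` there is a `p`-quasi-elementary subgroup whose permutation character
takes at `x` a value prime to `p`. -/
theorem exists_pqe [Fintype G] (p : ℕ) [hp : Fact p.Prime] (x : G) :
    ∃ H : Subgroup G, IsPQE p H ∧ ∃ n : ℕ, indFun H (fun _ => (1 : ℂ)) x = n ∧ ¬ p ∣ n := by
  classical
  have hox : orderOf x ≠ 0 := (orderOf_pos x).ne'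
  obtain ⟨a, m, hm, hom⟩ := Nat.exists_eq_pow_mul_and_not_dvd hox p hp.out.ne_one
  obtain ⟨c, hc⟩ : ∃ c : G, c = x ^ p ^ a := ⟨_, rfl⟩
  have hoc : orderOf c = m := by
    rw [hc, orderOf_pow, hom, Nat.gcd_eq_right (dvd_mul_right _ _),
      Nat.mul_div_cancel_left _ (pow_pos hp.out.pos a)]
  have hmp : m.Coprime p := ((Nat.Prime.coprime_iff_not_dvd hp.out).2 hm).symm
  obtain ⟨C, hC⟩ : ∃ C : Subgroup G, C = Subgroup.zpowers c := ⟨_, rfl⟩
  have hcardC : Nat.card C = m := by rw [hC, Nat.card_zpowers, hoc]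
  obtain ⟨N, hN⟩ : ∃ N : Subgroup G, N = Subgroup.normalizer (C : Set G) := ⟨_, rfl⟩
  have hCN : C ≤ N := by rw [hN]; exact Subgroup.le_normalizer
  have hxN : x ∈ N := by
    rw [hN]
    apply Subgroup.centralizer_le_normalizer
    rw [Subgroup.mem_centralizer_iff]
    intro h hh
    rw [SetLike.mem_coe, hC] at hh
    obtain ⟨k, rfl⟩ := Subgroup.mem_zpowers_iff.1 hh
    rw [hc]
    exact (((Commute.refl x).pow_left (p ^ a)).zpow_left k).eq
  haveI hCnorm : (C.subgroupOf N).Normal := by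
    rw [hN]; exact Subgroup.normal_in_normalizer
  letI : Fintype N := Fintype.ofFinite N
  have hx1 : (⟨x, hxN⟩ : N) ^ p ^ a ∈ C.subgroupOf N := by
    rw [Subgroup.mem_subgroupOf]
    show x ^ p ^ a ∈ C
    rw [hC, ← hc]
    exact Subgroup.mem_zpowers c
  obtain ⟨H₁, hC₁H₁, ⟨k, hk⟩, hx₁H₁, hcop₁, n, hn, hpn⟩ :=
    exists_pqe_aux p (C.subgroupOf N) (⟨x, hxN⟩ : N) a hx1
  obtain ⟨H, hH⟩ : ∃ H : Subgroup G, H = H₁.map N.subtype := ⟨_, rfl⟩
  have hHN : H ≤ N := by rw [hH]; exact Subgroup.map_subtype_le H₁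
  have hmemH : ∀ z : N, (z : G) ∈ H ↔ z ∈ H₁ := by
    intro z
    rw [hH]
    exact Subgroup.mem_map_iff_mem (Subgroup.subtype_injective N)
  have hCH : C ≤ H := by
    intro c' hc'
    have : (⟨c', hCN hc'⟩ : N) ∈ H₁ := hC₁H₁ (Subgroup.mem_subgroupOf.2 hc')
    exact (hmemH ⟨c', hCN hc'⟩).2 this
  have hsub : H.subgroupOf N = H₁ := by
    rw [hH]
    exact Subgroup.comap_map_eq_self_of_injective (Subgroup.subtype_injective N) H₁
  refine ⟨H, ⟨C, hCH, ?_, ?_, ?_, k, ?_⟩, n, ?_, hpn⟩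
  · rw [← hN]; exact hHN
  · rw [hC]; infer_instance
  · rw [hcardC]; exact hmp
  · rw [← Subgroup.relIndex_subgroupOf hHN, hsub]
    exact hk
  · -- the two permutation characters agree at `x`
    rw [← hn, indFun_apply, indFun_apply]
    have hcard : Nat.card H = Nat.card H₁ := by
      rw [hH]; exact Subgroup.card_map_of_injective (Subgroup.subtype_injective N)
    rw [hcard]
    congr 1
    -- key: `y⁻¹ x y ∈ H` forces `y ∈ N`
    have hkey : ∀ y : G, y⁻¹ * x * y ∈ H → y ∈ N := by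
      intro y hy
      have hz1 : (⟨y⁻¹ * x * y, hHN hy⟩ : N) ∈ H₁ := (hmemH _).1 hy
      have hz2 : (⟨y⁻¹ * x * y, hHN hy⟩ : N) ^ p ^ a ∈ H₁ := H₁.pow_mem hz1 _
      have hconj : (y⁻¹ * x * y) ^ p ^ a = y⁻¹ * c * y := by
        rw [hc]
        have := conj_pow (a := y⁻¹) (b := x) (i := p ^ a)
        rw [inv_inv] at this
        exact this
      have hord : orderOf ((⟨y⁻¹ * x * y, hHN hy⟩ : N) ^ p ^ a) = m := by
        rw [← Subgroup.orderOf_coe, Subgroup.coe_pow]
        show orderOf ((y⁻¹ * x * y) ^ p ^ a) = m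
        rw [hconj, ← hoc]
        have hsc : SemiconjBy y⁻¹ c (y⁻¹ * c * y) := by
          show y⁻¹ * c = y⁻¹ * c * y * y⁻¹
          group
        exact (SemiconjBy.orderOf_eq _ hsc).symm
      have hmemC := hcop₁ _ hz2 (by rw [hord]; exact hmp)
      rw [Subgroup.mem_subgroupOf, Subgroup.coe_pow] at hmemC
      have hmemC' : y⁻¹ * c * y ∈ C := by
        rw [← hconj]; exact hmemC
      have hmap : C.map (MulAut.conj y⁻¹).toMonoidHom = C := by
        apply Subgroup.eq_of_le_of_card_ge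
        · rw [hC, MonoidHom.map_zpowers, Subgroup.zpowers_le]
          show (MulAut.conj y⁻¹) c ∈ Subgroup.zpowers c
          rw [MulAut.conj_apply, inv_inv, ← hC]
          exact hmemC'
        · rw [Subgroup.card_map_of_injective (MulAut.conj y⁻¹).injective]
      have hyinv : y⁻¹ ∈ N := by
        rw [hN, Subgroup.mem_normalizer_iff_map_conj_eq]
        exact hmap
      have := N.inv_mem hyinv
      rwa [inv_inv] at this
    have h1 : ∑ y : G, extendByZero H (fun _ => (1 : ℂ)) (y⁻¹ * x * y)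
        = ∑ y ∈ Finset.univ.filter (fun y : G => y ∈ N),
            extendByZero H (fun _ => (1 : ℂ)) (y⁻¹ * x * y) := by
      symm
      apply Finset.sum_subset (Finset.filter_subset _ _)
      intro y _ hy
      have hyN : y ∉ N := by simpa using hy
      apply extendByZero_not_mem
      intro hmem
      exact hyN (hkey y hmem)
    rw [h1, Finset.sum_subtype (p := fun y : G => y ∈ N) _ (by simp)]
    apply Finset.sum_congr rfl
    intro y _
    rw [extendByZero_eq_ite, extendByZero_eq_ite]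
    have hiff : ((y : G)⁻¹ * x * (y : G) ∈ H) ↔ (y⁻¹ * (⟨x, hxN⟩ : N) * y ∈ H₁) := by
      rw [← hmemH]
      rfl
    by_cases hy : (y : G)⁻¹ * x * (y : G) ∈ H
    · rw [dif_pos hy, dif_pos (hiff.1 hy)]
    · rw [dif_neg hy, dif_neg (fun h => hy (hiff.2 h))]

end Cfsg.Agent.Lib.helper3.QuasiElem
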