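import Mathlib
import Cfsg.Prelude.Def_Characters
import Cfsg.Agent.Lib.helper3.PermChar2

/-!
# Integer spans of permutation characters

* `piZ H` : the permutation character on the cosets of `H`, as a `ℤ`-valued function;
* `PSpanZ Q` : the additive group generated by the `piZ H` with `Q H`;
* `PSpanZ.mul_mem` : it is closed under products if `Q` passes to subgroups;
* `PSpanZ.exists_coeff` : explicit coefficients (over `ℂ`);
* `PSpanZ.rational`, `PSpanZ.classFun` : the members are class functions constant on the generators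
  of each cyclic subgroup.
-/

set_option autoImplicit false
set_option linter.style.haveILetI false
set_option linter.unusedSectionVars false

namespace Cfsg.Agent.Lib.helper3.QuasiElem

open Cfsg Cfsg.Agent.Lib.helper3.IndFun Cfsg.Agent.Lib.helper3.PermChar

variable {G : Type*} [Group G]

/-- The permutation character on the cosets of `H`, with integer values. -/
noncomputable def piZ (H : Subgroup G) : G → ℤ :=
  fun x => (Nat.card (MulAction.fixedBy (G ⧸ H) x) : ℤ)

theorem piZ_cast [Fintype G] (H : Subgroup G) :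
    (fun x => (piZ H x : ℂ)) = indFun H (fun _ => (1 : ℂ)) := by
  rw [indFun_one_eq_card_fixedBy]
  funext x
  unfold piZ
  push_cast
  rfl

/-- The additive group generated by the permutation characters `piZ H`, `Q H`. -/
def PSpanZ (Q : Subgroup G → Prop) : AddSubgroup (G → ℤ) :=
  AddSubgroup.closure {F | ∃ H, Q H ∧ F = piZ H}

theorem piZ_mem {Q : Subgroup G → Prop} {H : Subgroup G} (h : Q H) : piZ H ∈ PSpanZ Q :=
  AddSubgroup.subset_closure ⟨H, h, rfl⟩

theorem PSpanZ.mono {Q Q' : Subgroup G → Prop} (h : ∀ H, Q H → Q' H) : PSpanZ Q ≤ PSpanZ Q' := by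
  apply AddSubgroup.closure_mono
  rintro F ⟨H, hH, rfl⟩
  exact ⟨H, h H hH, rfl⟩

theorem piZ_mul_piZ [Fintype G] (H K : Subgroup G) :
    ∃ (ι : Type) (_ : Fintype ι) (U : ι → Subgroup G), (∀ i, U i ≤ H) ∧
      piZ H * piZ K = ∑ i, piZ (U i) := by
  obtain ⟨ι, hι, U, hU, hprod⟩ := indFun_one_mul_indFun_one H K
  refine ⟨ι, hι, U, hU, ?_⟩
  funext x
  have h1 := congrFun hprod x
  rw [← piZ_cast, ← piZ_cast, Pi.mul_apply, Finset.sum_apply] at h1
  simp only [← piZ_cast] at h1
  rw [Pi.mul_apply, Finset.sum_apply]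
  exact_mod_cast h1

theorem PSpanZ.mul_mem [Fintype G] {Q : Subgroup G → Prop}
    (hQ : ∀ H U : Subgroup G, Q H → U ≤ H → Q U) {F F' : G → ℤ} (hF : F ∈ PSpanZ Q)
    (hF' : F' ∈ PSpanZ Q) : F * F' ∈ PSpanZ Q := by
  induction hF, hF' using AddSubgroup.closure_induction₂ with
  | mem x y hx hy =>
    obtain ⟨H, hH, rfl⟩ := hx
    obtain ⟨K, hK, rfl⟩ := hy
    obtain ⟨ι, hι, U, hU, hprod⟩ := piZ_mul_piZ H K
    rw [hprod]
    apply AddSubgroup.sum_mem
    intro i _
    exact piZ_mem (hQ H (U i) hH (hU i))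
  | zero_left x hx => rw [zero_mul]; exact AddSubgroup.zero_mem _
  | zero_right x hx => rw [mul_zero]; exact AddSubgroup.zero_mem _
  | add_left x y z hx hy hz h1 h2 => rw [add_mul]; exact AddSubgroup.add_mem _ h1 h2
  | add_right y z x hy hz hx h1 h2 => rw [mul_add]; exact AddSubgroup.add_mem _ h1 h2
  | neg_left x y hx hy h => rw [neg_mul]; exact AddSubgroup.neg_mem _ h
  | neg_right x y hx hy h => rw [mul_neg]; exact AddSubgroup.neg_mem _ h

theorem PSpanZ.pow_mem [Fintype G] {Q : Subgroup G → Prop}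
    (hQ : ∀ H U : Subgroup G, Q H → U ≤ H → Q U) {F : G → ℤ} (hF : F ∈ PSpanZ Q) (n : ℕ) :
    F ^ (n + 1) ∈ PSpanZ Q := by
  induction n with
  | zero => rw [zero_add, pow_one]; exact hF
  | succ n ih => rw [pow_succ]; exact PSpanZ.mul_mem hQ ih hF

/-- Explicit coefficients. -/
theorem PSpanZ.exists_coeff [Fintype G] [Fintype (Subgroup G)] {Q : Subgroup G → Prop} {F : G → ℤ}
    (hF : F ∈ PSpanZ Q) :
    ∃ a : Subgroup G → ℤ, (∀ H, a H ≠ 0 → Q H) ∧
      (fun x => (F x : ℂ)) = ∑ H : Subgroup G, (a H : ℂ) • indFun H (fun _ => (1 : ℂ)) := by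
  classical
  induction hF using AddSubgroup.closure_induction with
  | mem F hF =>
    obtain ⟨H, hH, rfl⟩ := hF
    refine ⟨fun K => if K = H then 1 else 0, ?_, ?_⟩
    · intro K hK
      by_cases h : K = H
      · rw [h]; exact hH
      · exact absurd (if_neg h) hK
    · rw [piZ_cast]
      rw [Finset.sum_eq_single H]
      · simp only [if_true, Int.cast_one, one_smul]
      · intro K _ hK
        simp only [if_neg hK, Int.cast_zero, zero_smul]
      · intro h; exact absurd (Finset.mem_univ _) h
  | zero =>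
    refine ⟨fun _ => 0, fun H h => absurd rfl h, ?_⟩
    funext x
    simp
  | add F F' _ _ h1 h2 =>
    obtain ⟨a, ha, hFa⟩ := h1
    obtain ⟨a', ha', hFa'⟩ := h2
    refine ⟨a + a', ?_, ?_⟩
    · intro H hH
      by_cases h : a H = 0
      · apply ha'
        intro h'
        apply hH
        rw [Pi.add_apply, h, h', add_zero]
      · exact ha H h
    · have : (fun x => ((F + F') x : ℂ)) = (fun x => (F x : ℂ)) + fun x => (F' x : ℂ) := by
        funext x
        simp
      rw [this, hFa, hFa', ← Finset.sum_add_distrib]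
      apply Finset.sum_congr rfl
      intro H _
      rw [Pi.add_apply, Int.cast_add, add_smul]
  | neg F _ h =>
    obtain ⟨a, ha, hFa⟩ := h
    refine ⟨-a, ?_, ?_⟩
    · intro H hH
      apply ha
      intro h'
      apply hH
      rw [Pi.neg_apply, h', neg_zero]
    · have : (fun x => ((-F) x : ℂ)) = -fun x => (F x : ℂ) := by
        funext x
        simp
      rw [this, hFa, ← Finset.sum_neg_distrib]
      apply Finset.sum_congr rfl
      intro H _
      rw [Pi.neg_apply, Int.cast_neg, neg_smul]

theorem piZ_conj [Fintype G] (H : Subgroup G) (g h : G) : piZ H (h * g * h⁻¹) = piZ H g := by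
  have h1 := indFun_isClassFunction H (fun _ => (1 : ℂ)) g h
  rw [← piZ_cast] at h1
  simp only at h1
  exact_mod_cast h1

theorem piZ_rational (H : Subgroup G) (x y : G) (hxy : Subgroup.zpowers x = Subgroup.zpowers y) :
    piZ H x = piZ H y := by
  unfold piZ
  have : MulAction.fixedBy (G ⧸ H) x = MulAction.fixedBy (G ⧸ H) y := by
    have key : ∀ a b : G, Subgroup.zpowers a = Subgroup.zpowers b →
        MulAction.fixedBy (G ⧸ H) a ⊆ MulAction.fixedBy (G ⧸ H) b := by
      intro a b hab q hq
      rw [MulAction.mem_fixedBy] at hq ⊢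
      have hb : b ∈ Subgroup.zpowers a := by rw [hab]; exact Subgroup.mem_zpowers b
      have hle : Subgroup.zpowers a ≤ MulAction.stabilizer G q := by
        rw [Subgroup.zpowers_le]
        exact hq
      exact hle hb
    exact Set.Subset.antisymm (key x y hxy) (key y x hxy.symm)
  rw [this]

theorem PSpanZ.classFun [Fintype G] {Q : Subgroup G → Prop} {F : G → ℤ} (hF : F ∈ PSpanZ Q)
    (g h : G) : F (h * g * h⁻¹) = F g := by
  induction hF using AddSubgroup.closure_induction with
  | mem F hF =>
    obtain ⟨H, -, rfl⟩ := hF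
    exact piZ_conj H g h
  | zero => rfl
  | add F F' _ _ h1 h2 => rw [Pi.add_apply, Pi.add_apply, h1, h2]
  | neg F _ h1 => rw [Pi.neg_apply, Pi.neg_apply, h1]

theorem PSpanZ.rational {Q : Subgroup G → Prop} {F : G → ℤ} (hF : F ∈ PSpanZ Q)
    (x y : G) (hxy : Subgroup.zpowers x = Subgroup.zpowers y) : F x = F y := by
  induction hF using AddSubgroup.closure_induction with
  | mem F hF =>
    obtain ⟨H, -, rfl⟩ := hF
    exact piZ_rational H x y hxy
  | zero => rfl
  | add F F' _ _ h1 h2 => rw [Pi.add_apply, Pi.add_apply, h1, h2]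
  | neg F _ h1 => rw [Pi.neg_apply, Pi.neg_apply, h1]

end Cfsg.Agent.Lib.helper3.QuasiElem
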