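import Mathlib
import Cfsg.Prelude.Def_Characters
import Cfsg.Agent.Lib.helper3.QuasiElem1
import Cfsg.Agent.Lib.helper3.Solomon1
import Cfsg.Agent.Lib.helper3.IndFunTrans

/-!
# The local form of Solomon's induction theorem

`solomon_local` : for a prime `p` some constant function `m`, `p ∤ m`, is an integer combination
of permutation characters on the cosets of `p`-quasi-elementary subgroups.
-/

set_option autoImplicit false
set_option linter.style.haveILetI false
set_option linter.unusedSectionVars false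

namespace Cfsg.Agent.Lib.helper3.QuasiElem

open Cfsg Cfsg.Agent.Lib.helper3.IndFun Cfsg.Agent.Lib.helper3.PermChar

variable {G : Type*} [Group G]

/-- Subgroups of `p`-quasi-elementary groups are `p`-quasi-elementary. -/
theorem IsPQE.of_le [Finite G] {p : ℕ} [hp : Fact p.Prime] {H U : Subgroup G} (hH : IsPQE p H)
    (hUH : U ≤ H) : IsPQE p U := by
  obtain ⟨C, hCH, hHN, hcyc, hcop, k, hk⟩ := hH
  refine ⟨C ⊓ U, inf_le_right, ?_, ?_, ?_, ?_⟩
  · rw [Subgroup.le_normalizer_iff]
    intro u hu c hc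
    exact ⟨(Subgroup.le_normalizer_iff.1 hHN) u (hUH hu) c hc.1,
      U.mul_mem (U.mul_mem hu hc.2) (U.inv_mem hu)⟩
  · haveI := hcyc
    exact isCyclic_of_injective (Subgroup.inclusion (inf_le_left : C ⊓ U ≤ C))
      (Subgroup.inclusion_injective _)
  · exact Nat.Coprime.coprime_dvd_left (Subgroup.card_dvd_of_le inf_le_left) hcop
  · rw [Subgroup.inf_relIndex_right]
    haveI : (C.subgroupOf H).Normal := Subgroup.normal_subgroupOf_of_le_normalizer hHN
    have h1 : (C.subgroupOf H).relIndex (U.subgroupOf H) ∣ (C.subgroupOf H).index :=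
      Subgroup.relIndex_dvd_index_of_normal _ _
    rw [Subgroup.relIndex_subgroupOf hUH] at h1
    have h2 : (C.subgroupOf H).index = p ^ k := hk
    rw [h2] at h1
    obtain ⟨j, -, hj⟩ := (Nat.dvd_prime_pow hp.out).1 h1
    exact ⟨j, hj⟩

/-- Cyclic subgroups are `p`-quasi-elementary. -/
theorem IsPQE.of_isCyclic [Finite G] {p : ℕ} [hp : Fact p.Prime] {D : Subgroup G}
    (hD : IsCyclic D) : IsPQE p D := by
  obtain ⟨g, hg⟩ := (isCyclic_iff_exists_zpowers_eq_top (α := D)).1 hD
  have hDg : D = Subgroup.zpowers (g : G) := by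
    have h1 : (Subgroup.zpowers g).map D.subtype = Subgroup.zpowers (g : G) := by
      rw [MonoidHom.map_zpowers]; rfl
    rw [← h1, hg, ← MonoidHom.range_eq_map, Subgroup.range_subtype]
  obtain ⟨x, hx⟩ : ∃ x : G, x = (g : G) := ⟨_, rfl⟩
  rw [← hx] at hDg
  have hox : orderOf x ≠ 0 := (orderOf_pos x).ne'
  obtain ⟨a, m, hm, hom⟩ := Nat.exists_eq_pow_mul_and_not_dvd hox p hp.out.ne_one
  obtain ⟨c, hc⟩ : ∃ c : G, c = x ^ p ^ a := ⟨_, rfl⟩
  have hoc : orderOf c = m := by
    rw [hc, orderOf_pow, hom, Nat.gcd_eq_right (dvd_mul_right _ _),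
      Nat.mul_div_cancel_left _ (pow_pos hp.out.pos a)]
  have hmp : m.Coprime p := ((Nat.Prime.coprime_iff_not_dvd hp.out).2 hm).symm
  have hcD : Subgroup.zpowers c ≤ D := by
    rw [Subgroup.zpowers_le, hDg, hc]
    exact Subgroup.pow_mem _ (Subgroup.mem_zpowers x) _
  have hcard : Nat.card (Subgroup.zpowers c) = m := by rw [Nat.card_zpowers, hoc]
  refine ⟨Subgroup.zpowers c, hcD, ?_, inferInstance, ?_, a, ?_⟩
  · refine le_trans ?_ (Subgroup.centralizer_le_normalizer _)
    intro u hu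
    rw [Subgroup.mem_centralizer_iff]
    intro h hh
    rw [SetLike.mem_coe] at hh
    rw [hDg] at hu
    obtain ⟨i, rfl⟩ := Subgroup.mem_zpowers_iff.1 hu
    obtain ⟨j, rfl⟩ := Subgroup.mem_zpowers_iff.1 hh
    rw [hc]
    exact ((((Commute.refl x).pow_left (p ^ a)).zpow_left j).zpow_right i).eq
  · rw [hcard]; exact hmp
  · have h1 : Nat.card ((Subgroup.zpowers c).subgroupOf D) * ((Subgroup.zpowers c).subgroupOf D).index
        = Nat.card D := Subgroup.card_mul_index _
    rw [Cfsg.Agent.Lib.helper3.IndFunTrans.card_subgroupOf_of_le hcD, hcard] at h1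
    have h2 : Nat.card D = p ^ a * m := by rw [hDg, Nat.card_zpowers, hom]
    rw [h2, mul_comm] at h1
    have hm0 : 0 < m := Nat.pos_of_ne_zero (fun h => hm (h ▸ dvd_zero p))
    exact Nat.eq_of_mul_eq_mul_right hm0 h1

/-- A product-type element of a subring without unit. -/
theorem one_sub_prod_mem {R : Type*} [CommRing R] (S : AddSubgroup R)
    (hmul : ∀ a ∈ S, ∀ b ∈ S, a * b ∈ S) {ι : Type*} (s : Finset ι) (g : ι → R)
    (hg : ∀ i ∈ s, g i ∈ S) : 1 - ∏ i ∈ s, (1 - g i) ∈ S := by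
  classical
  induction s using Finset.induction_on with
  | empty =>
    rw [Finset.prod_empty, sub_self]
    exact S.zero_mem
  | insert i s hi ih =>
    rw [Finset.prod_insert hi]
    have h1 := ih (fun j hj => hg j (Finset.mem_insert_of_mem hj))
    have h2 := hg i (Finset.mem_insert_self i s)
    have : 1 - (1 - g i) * ∏ j ∈ s, (1 - g j)
        = (1 - ∏ j ∈ s, (1 - g j)) + g i - g i * (1 - ∏ j ∈ s, (1 - g j)) := by ring
    rw [this]
    exact S.sub_mem (S.add_mem h1 h2) (hmul _ h2 _ h1)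

/-- A member of the span congruent to `1` modulo `p ^ A` everywhere. -/
theorem exists_one_mod [Fintype G] (p : ℕ) [hp : Fact p.Prime] {Q : Subgroup G → Prop}
    (hQ : ∀ H U : Subgroup G, Q H → U ≤ H → Q U)
    (hx : ∀ x : G, ∃ H, Q H ∧ ¬ (p : ℤ) ∣ piZ H x) (A : ℕ) :
    ∃ ψ ∈ PSpanZ Q, ∀ y : G, (p : ℤ) ^ A ∣ ψ y - 1 := by
  classical
  choose H hHQ hHx using hx
  obtain ⟨E, hE⟩ : ∃ E : ℕ, E + 1 = Nat.totient (p ^ A) :=
    ⟨Nat.totient (p ^ A) - 1, Nat.sub_add_cancel (Nat.totient_pos.2 (pow_pos hp.out.pos A))⟩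
  have hg : ∀ x ∈ (Finset.univ : Finset G), (piZ (H x)) ^ (E + 1) ∈ PSpanZ Q :=
    fun x _ => PSpanZ.pow_mem hQ (piZ_mem (hHQ x)) E
  refine ⟨1 - ∏ x : G, (1 - (piZ (H x)) ^ (E + 1)),
    one_sub_prod_mem (PSpanZ Q) (fun a ha b hb => PSpanZ.mul_mem hQ ha hb) _ _ hg, ?_⟩
  intro y
  have h1 : (1 - ∏ x : G, (1 - (piZ (H x)) ^ (E + 1))) y - 1
      = - ∏ x : G, (1 - (piZ (H x) y) ^ (E + 1)) := by
    rw [Pi.sub_apply, Finset.prod_apply]
    simp only [Pi.sub_apply, Pi.one_apply, Pi.pow_apply]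
    ring
  rw [h1, dvd_neg]
  refine dvd_trans ?_ (Finset.dvd_prod_of_mem _ (Finset.mem_univ y))
  -- Euler
  obtain ⟨n, hn⟩ : ∃ n : ℕ, piZ (H y) y = n := ⟨_, rfl⟩
  have hpn : ¬ p ∣ n := by
    intro h
    apply hHx y
    rw [hn]
    exact Int.natCast_dvd_natCast.2 h
  have hcop : Nat.Coprime n (p ^ A) :=
    Nat.Coprime.pow_right A ((Nat.Prime.coprime_iff_not_dvd hp.out).2 hpn).symm
  have h2 := Nat.ModEq.pow_totient hcop
  rw [← hE] at h2
  have h3 := (Nat.modEq_iff_dvd.1 h2)
  rw [hn]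
  push_cast at h3
  exact h3

open Classical in
/-- The number of `y` with `⟨y⁻¹ x y⟩ = D`. -/
noncomputable def thetaZ [Fintype G] (D : Subgroup G) : G → ℤ :=
  fun x => ∑ y : G, if Subgroup.zpowers (y⁻¹ * x * y) = D then 1 else 0

theorem card_mul_piZ [Fintype G] (D : Subgroup G) (x : G) [DecidablePred (· ∈ D)] :
    (Nat.card D : ℤ) * piZ D x = ∑ y : G, if y⁻¹ * x * y ∈ D then 1 else 0 := by
  have h1 : (piZ D x : ℂ) = indFun D (fun _ => (1 : ℂ)) x := congrFun (piZ_cast D) x
  rw [indFun_apply] at h1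
  have hD : (Nat.card D : ℂ) ≠ 0 := card_ne_zero_complex _
  have h2 : (Nat.card D : ℂ) * (piZ D x : ℂ)
      = ∑ y : G, extendByZero D (fun _ => (1 : ℂ)) (y⁻¹ * x * y) := by
    rw [h1, ← mul_assoc, mul_inv_cancel₀ hD, one_mul]
  have h3 : ∀ y : G, extendByZero D (fun _ => (1 : ℂ)) (y⁻¹ * x * y)
      = ((if y⁻¹ * x * y ∈ D then 1 else 0 : ℤ) : ℂ) := by
    intro y
    rw [extendByZero_eq_ite]
    by_cases h : y⁻¹ * x * y ∈ D
    · rw [dif_pos h, if_pos h, Int.cast_one]
    · rw [dif_neg h, if_neg h, Int.cast_zero]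
  rw [Finset.sum_congr rfl (fun y _ => h3 y)] at h2
  exact_mod_cast h2

theorem sum_thetaZ_le [Fintype G] [Fintype (Subgroup G)] (D : Subgroup G) (x : G)
    [DecidablePred (· ∈ D)] [DecidablePred (· ≤ D)] :
    ∑ E ∈ Finset.univ.filter (fun E : Subgroup G => E ≤ D), thetaZ E x
      = ∑ y : G, if y⁻¹ * x * y ∈ D then 1 else 0 := by
  classical
  unfold thetaZ
  rw [Finset.sum_comm]
  apply Finset.sum_congr rfl
  intro y _
  rw [Finset.sum_ite_eq]
  simp only [Finset.mem_filter, Finset.mem_univ, true_and, Subgroup.zpowers_le]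

/-- The functions `thetaZ D` are integer combinations of permutation characters on the cosets of
cyclic subgroups. -/
theorem thetaZ_mem [Fintype G] : ∀ n : ℕ, ∀ D : Subgroup G, Nat.card D = n →
    thetaZ D ∈ PSpanZ (fun D : Subgroup G => IsCyclic D) := by
  classical
  letI : Fintype (Subgroup G) := Fintype.ofFinite _
  intro n
  induction n using Nat.strong_induction_on with
  | _ n ih =>
    intro D hD
    by_cases hcyc : IsCyclic D
    · have hdecomp : thetaZ D = (Nat.card D : ℤ) • piZ D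
          - ∑ E ∈ (Finset.univ.filter (fun E : Subgroup G => E ≤ D)).erase D, thetaZ E := by
        funext x
        rw [Pi.sub_apply, Pi.smul_apply, smul_eq_mul, Finset.sum_apply, card_mul_piZ,
          ← sum_thetaZ_le D x,
          ← Finset.add_sum_erase (Finset.univ.filter (fun E : Subgroup G => E ≤ D))
            (fun E => thetaZ E x) (Finset.mem_filter.2 ⟨Finset.mem_univ _, le_rfl⟩)]
        ring
      rw [hdecomp]
      apply AddSubgroup.sub_mem
      · exact AddSubgroup.zsmul_mem _ (piZ_mem hcyc) _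
      · apply AddSubgroup.sum_mem
        intro E hE
        rw [Finset.mem_erase, Finset.mem_filter] at hE
        obtain ⟨hne, -, hle⟩ := hE
        have hlt : Nat.card E < n := by
          rw [← hD]
          apply lt_of_le_of_ne (Subgroup.card_le_of_le hle)
          intro hcard
          exact hne (Subgroup.eq_of_le_of_card_ge hle hcard.ge)
        exact ih _ hlt E rfl
    · have h0 : thetaZ D = 0 := by
        funext x
        unfold thetaZ
        apply Finset.sum_eq_zero
        intro y _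
        rw [if_neg]
        intro h
        apply hcyc
        rw [← h]
        infer_instance
      rw [h0]
      exact AddSubgroup.zero_mem _

/-- `|G|` times a rational integer-valued class function is an integer combination of permutation
characters on the cosets of cyclic subgroups. -/
theorem card_mul_mem [Fintype G] (h : G → ℤ) (hcl : ∀ g k : G, h (k * g * k⁻¹) = h g)
    (hrat : ∀ x y : G, Subgroup.zpowers x = Subgroup.zpowers y → h x = h y) :
    (fun x => (Nat.card G : ℤ) * h x) ∈ PSpanZ (fun D : Subgroup G => IsCyclic D) := by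
  classical
  letI : Fintype (Subgroup G) := Fintype.ofFinite _
  let gen : Subgroup G → G := fun D =>
    if hc : ∃ d : G, Subgroup.zpowers d = D then Classical.choose hc else 1
  have hgen : ∀ g : G, h (gen (Subgroup.zpowers g)) = h g := by
    intro g
    apply hrat
    have hc : ∃ d : G, Subgroup.zpowers d = Subgroup.zpowers g := ⟨g, rfl⟩
    show Subgroup.zpowers (if hc : ∃ d : G, Subgroup.zpowers d = Subgroup.zpowers g
      then Classical.choose hc else 1) = _
    rw [dif_pos hc]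
    exact Classical.choose_spec hc
  have hdecomp : (fun x => (Nat.card G : ℤ) * h x) = ∑ D : Subgroup G, (h (gen D)) • thetaZ D := by
    funext x
    rw [Finset.sum_apply]
    simp only [Pi.smul_apply, smul_eq_mul]
    unfold thetaZ
    simp only [Finset.mul_sum]
    rw [Finset.sum_comm]
    have h1 : ∀ y : G, (∑ D : Subgroup G,
        h (gen D) * (if Subgroup.zpowers (y⁻¹ * x * y) = D then 1 else 0)) = h x := by
      intro y
      rw [Finset.sum_eq_single (Subgroup.zpowers (y⁻¹ * x * y))]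
      · rw [if_pos rfl, mul_one, hgen]
        have := hcl x y⁻¹
        rw [inv_inv] at this
        exact this
      · intro D _ hD
        rw [if_neg (Ne.symm hD), mul_zero]
      · intro hn; exact absurd (Finset.mem_univ _) hn
    rw [Finset.sum_congr rfl (fun y _ => h1 y), Finset.sum_const, Finset.card_univ, nsmul_eq_mul,
      Nat.card_eq_fintype_card]
  rw [hdecomp]
  apply AddSubgroup.sum_mem
  intro D _
  exact AddSubgroup.zsmul_mem _ (thetaZ_mem _ D rfl) _

/-- The local form of Solomon's theorem. -/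
theorem solomon_local [Fintype G] (p : ℕ) [hp : Fact p.Prime] :
    ∃ m : ℤ, ¬ (p : ℤ) ∣ m ∧ (fun _ : G => m) ∈ PSpanZ (IsPQE (G := G) p) := by
  classical
  have hQ : ∀ H U : Subgroup G, IsPQE p H → U ≤ H → IsPQE p U := fun H U h hU => h.of_le hU
  have hx : ∀ x : G, ∃ H, IsPQE p H ∧ ¬ (p : ℤ) ∣ piZ H x := by
    intro x
    obtain ⟨H, hH, n, hn, hpn⟩ := exists_pqe p x
    refine ⟨H, hH, ?_⟩
    have h1 : (piZ H x : ℂ) = indFun H (fun _ => (1 : ℂ)) x := congrFun (piZ_cast H) x
    rw [hn] at h1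
    have h2 : piZ H x = (n : ℤ) := by exact_mod_cast h1
    rw [h2]
    intro h
    exact hpn (Int.natCast_dvd_natCast.1 h)
  have hG0 : Nat.card G ≠ 0 := Nat.card_pos.ne'
  obtain ⟨A, l, hl, hGl⟩ := Nat.exists_eq_pow_mul_and_not_dvd hG0 p hp.out.ne_one
  obtain ⟨ψ, hψ, hψ1⟩ := exists_one_mod p hQ hx A
  refine ⟨(l : ℤ), fun h => hl (Int.natCast_dvd_natCast.1 h), ?_⟩
  -- the quotient function
  obtain ⟨h, hh⟩ : ∃ h : G → ℤ, h = fun y => (ψ y - 1) / (p : ℤ) ^ A := ⟨_, rfl⟩
  have hhy : ∀ y, ψ y - 1 = (p : ℤ) ^ A * h y := by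
    intro y
    rw [hh]
    exact (Int.mul_ediv_cancel' (hψ1 y)).symm
  have hcl : ∀ g k : G, h (k * g * k⁻¹) = h g := by
    intro g k
    rw [hh]
    simp only
    rw [PSpanZ.classFun hψ g k]
  have hrat : ∀ x y : G, Subgroup.zpowers x = Subgroup.zpowers y → h x = h y := by
    intro x y hxy
    rw [hh]
    simp only
    rw [PSpanZ.rational hψ x y hxy]
  have hmem := card_mul_mem h hcl hrat
  have hmem' : (fun x => (Nat.card G : ℤ) * h x) ∈ PSpanZ (IsPQE (G := G) p) :=
    PSpanZ.mono (fun D hD => IsPQE.of_isCyclic hD) hmem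
  have hfin : (fun _ : G => (l : ℤ)) = (l : ℤ) • ψ - fun x => (Nat.card G : ℤ) * h x := by
    funext x
    rw [Pi.sub_apply, Pi.smul_apply, smul_eq_mul, hGl]
    have := hhy x
    push_cast
    linear_combination (-(l : ℤ)) * this
  rw [hfin]
  exact AddSubgroup.sub_mem _ (AddSubgroup.zsmul_mem _ hψ _) hmem'

end Cfsg.Agent.Lib.helper3.QuasiElem
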