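import Mathlib
import Cfsg.Prelude.Def_Characters
import Cfsg.Agent.Lib.helper3.BrauerInd3
import Cfsg.Agent.Lib.helper3.Solomon2

/-!
# The local form of Brauer's induction theorem for the principal character
-/

set_option autoImplicit false
set_option linter.style.haveILetI false
set_option linter.unusedSectionVars false

namespace Cfsg.Agent.Lib.helper3.BrauerInd

open Cfsg Module Cfsg.Agent.Lib.helper3.IndFun Cfsg.Agent.Lib.helper3.CharBasic
open Cfsg.Agent.Lib.helper3.Irr Cfsg.Agent.Lib.helper3.IndFunTrans Cfsg.Agent.Lib.helper3.Lin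
open Cfsg.Agent.Lib.helper3.QuasiElem

variable {G : Type*} [Group G]

/-- The permutation character on the cosets of a `p`-quasi-elementary subgroup lies in `BSpan`. -/
theorem indFun_one_mem_of_isPQE [Fintype G] (p : ℕ) [hp : Fact p.Prime] (H : Subgroup G)
    (hH : IsPQE p H) : indFun H (fun _ => (1 : ℂ)) ∈ BSpan p G := by
  classical
  letI : Fintype H := Fintype.ofFinite H
  obtain ⟨C, hCH, hHN, hcyc, hcop, k, hk⟩ := hH
  apply BSpan.indFun_mem
  haveI := hcyc
  refine qe_char_mem p _ H rfl (C.subgroupOf H) (Subgroup.normal_subgroupOf_of_le_normalizer hHN)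
    ?_ ?_ ⟨k, hk⟩ _ isCharacter_one
  · exact isCyclic_of_injective (Subgroup.subgroupOfEquivOfLe hCH).toMonoidHom
      (Subgroup.subgroupOfEquivOfLe hCH).injective
  · rw [card_subgroupOf_of_le hCH]
    exact hcop

theorem cast_mem_of_mem_pspanZ [Fintype G] (p : ℕ) [hp : Fact p.Prime] {F : G → ℤ}
    (hF : F ∈ PSpanZ (IsPQE (G := G) p)) : (fun x => (F x : ℂ)) ∈ BSpan p G := by
  induction hF using AddSubgroup.closure_induction with
  | mem F hF =>
    obtain ⟨H, hH, rfl⟩ := hF
    rw [piZ_cast]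
    exact indFun_one_mem_of_isPQE p H hH
  | zero =>
    have : (fun x : G => (((0 : G → ℤ) x : ℤ) : ℂ)) = 0 := by
      funext x
      simp
    rw [this]
    exact AddSubgroup.zero_mem _
  | add F F' _ _ h1 h2 =>
    have : (fun x => ((F + F') x : ℂ)) = (fun x => (F x : ℂ)) + fun x => (F' x : ℂ) := by
      funext x
      simp
    rw [this]
    exact AddSubgroup.add_mem _ h1 h2
  | neg F _ h =>
    have : (fun x => ((-F) x : ℂ)) = -fun x => (F x : ℂ) := by
      funext x
      simp
    rw [this]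
    exact AddSubgroup.neg_mem _ h

theorem neg_list_sum [Fintype G] (l : List ((E : Subgroup G) × ((E → ℂ) × ℤ))) :
    -(l.map fun t => (t.2.2 : ℂ) • indFun t.1 t.2.1).sum
      = (l.map ((fun t : (E : Subgroup G) × ((E → ℂ) × ℤ) => (t.2.2 : ℂ) • indFun t.1 t.2.1) ∘
          fun t => ⟨t.1, (t.2.1, -t.2.2)⟩)).sum := by
  induction l with
  | nil => simp
  | cons a l ih =>
    rw [List.map_cons, List.sum_cons, List.map_cons, List.sum_cons, neg_add, ih]
    congr 1
    simp

/-- Explicit lists. -/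
theorem BSpan.exists_list [Fintype G] (p : ℕ) {f : G → ℂ} (hf : f ∈ BSpan p G) :
    ∃ l : List ((E : Subgroup G) × ((E → ℂ) × ℤ)),
      (∀ t ∈ l, IsElementary p t.1 ∧ IsCharacter t.1 t.2.1) ∧
      f = (l.map fun t => (t.2.2 : ℂ) • indFun t.1 t.2.1).sum := by
  induction hf using AddSubgroup.closure_induction with
  | mem f hf =>
    obtain ⟨E, φ, hE, hφ, rfl⟩ := hf
    refine ⟨[⟨E, (φ, 1)⟩], ?_, ?_⟩
    · intro t ht
      rw [List.mem_singleton] at ht
      subst ht
      exact ⟨hE, hφ⟩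
    · simp
  | zero => exact ⟨[], by simp, by simp⟩
  | add f g _ _ h1 h2 =>
    obtain ⟨l, hl, rfl⟩ := h1
    obtain ⟨l', hl', rfl⟩ := h2
    refine ⟨l ++ l', ?_, ?_⟩
    · intro t ht
      rcases List.mem_append.1 ht with h | h
      · exact hl t h
      · exact hl' t h
    · rw [List.map_append, List.sum_append]
  | neg f _ h =>
    obtain ⟨l, hl, rfl⟩ := h
    refine ⟨l.map (fun t => ⟨t.1, (t.2.1, -t.2.2)⟩), ?_, ?_⟩
    · intro t ht
      obtain ⟨s, hs, rfl⟩ := List.mem_map.1 ht
      exact hl s hs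
    · rw [List.map_map]
      exact neg_list_sum l

/-- The local form of Brauer's theorem for the principal character. -/
theorem brauer_local [Fintype G] (p : ℕ) [hp : Fact p.Prime] :
    ∃ m : ℤ, ¬ (p : ℤ) ∣ m ∧ (fun _ : G => (m : ℂ)) ∈ BSpan p G := by
  obtain ⟨m, hm, hmem⟩ := solomon_local (G := G) p
  exact ⟨m, hm, cast_mem_of_mem_pspanZ p hmem⟩

end Cfsg.Agent.Lib.helper3.BrauerInd
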