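import Mathlib
import Cfsg.Prelude.Def_Characters
import Cfsg.Agent.Lib.helper3.IndFunTrans
import Cfsg.Agent.Lib.helper3.Inflate

set_option autoImplicit false
set_option linter.style.haveILetI false
set_option linter.unusedSectionVars false

/-!
# Induction lemmas: congruence, transitivity through `Subgroup.map`, inflation, the full group
-/

namespace Cfsg.Agent.Lib.helper3.IndFun

open Cfsg Cfsg.Agent.Lib.helper3.IndFunTrans Cfsg.Agent.Lib.helper3.Irr
open scoped ComplexConjugate

variable {G : Type*} [Group G]

theorem indFun_congr [Fintype G] {H₁ H₂ : Subgroup G} (h : H₁ = H₂) (θ₁ : H₁ → ℂ) (θ₂ : H₂ → ℂ)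
    (hθ : ∀ (x : G) (h1 : x ∈ H₁) (h2 : x ∈ H₂), θ₁ ⟨x, h1⟩ = θ₂ ⟨x, h2⟩) :
    indFun H₁ θ₁ = indFun H₂ θ₂ := by
  subst h
  congr 1
  funext x
  exact hθ x x.2 x.2

/-- Transitivity of induction, for a subgroup of a subgroup. -/
theorem indFun_trans_map [Fintype G] (T : Subgroup G) [Fintype T] (H' : Subgroup T)
    (θ' : H' → ℂ) :
    indFun T (indFun H' θ')
      = indFun (H'.map T.subtype)
          (fun h => θ' ((H'.equivMapOfInjective T.subtype T.subtype_injective).symm h)) := by
  set e := H'.equivMapOfInjective T.subtype T.subtype_injective with he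
  have hle : H'.map T.subtype ≤ T := by
    rintro _ ⟨x, _, rfl⟩
    exact x.2
  rw [← indFun_trans (H'.map T.subtype) T hle (fun h => θ' (e.symm h))]
  congr 1
  have hsub : (H'.map T.subtype).subgroupOf T = H' :=
    Subgroup.comap_map_eq_self_of_injective T.subtype_injective H'
  apply indFun_congr hsub.symm
  intro x h1 h2
  congr 1
  apply e.injective
  rw [MulEquiv.apply_symm_apply]
  apply Subtype.ext
  rfl

/-- Induction from the whole group does nothing to class functions. -/
theorem indFun_top [Fintype G] (θ : G → ℂ) (hθ : IsClassFunction G θ) :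
    indFun (⊤ : Subgroup G) (fun h => θ h) = θ := by
  classical
  funext g
  rw [indFun_apply]
  have : ∀ x : G, extendByZero (⊤ : Subgroup G) (fun h => θ h) (x⁻¹ * g * x) = θ g := by
    intro x
    rw [extendByZero_mem _ _ (Subgroup.mem_top _)]
    have := hθ g x⁻¹
    rwa [inv_inv] at this
  simp only [this, Finset.sum_const, Finset.card_univ, nsmul_eq_mul]
  rw [Subgroup.card_top, ← Nat.card_eq_fintype_card, ← mul_assoc,
    inv_mul_cancel₀ (card_ne_zero_complex G), one_mul]

/-- Inflation commutes with induction. -/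
theorem inflate_indFun [Fintype G] (K : Subgroup G) [K.Normal] [Fintype (G ⧸ K)]
    (H : Subgroup (G ⧸ K)) (θ : H → ℂ) :
    inflate K (indFun H θ)
      = indFun (H.comap (QuotientGroup.mk' K))
          (fun h => θ ((QuotientGroup.mk' K).subgroupComap H h)) := by
  classical
  funext g
  rw [inflate_apply, indFun_apply, indFun_apply]
  have h1 : ∀ x : G, extendByZero (H.comap (QuotientGroup.mk' K))
      (fun h => θ ((QuotientGroup.mk' K).subgroupComap H h)) (x⁻¹ * g * x)
      = extendByZero H θ ((x : G ⧸ K)⁻¹ * (g : G ⧸ K) * (x : G ⧸ K)) := by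
    intro x
    by_cases hm : x⁻¹ * g * x ∈ H.comap (QuotientGroup.mk' K)
    · have hm' : (x : G ⧸ K)⁻¹ * (g : G ⧸ K) * (x : G ⧸ K) ∈ H := by
        have := Subgroup.mem_comap.mp hm
        simpa using this
      rw [extendByZero_mem _ _ hm, extendByZero_mem _ _ hm']
      congr 1
    · have hm' : (x : G ⧸ K)⁻¹ * (g : G ⧸ K) * (x : G ⧸ K) ∉ H := by
        intro h
        apply hm
        rw [Subgroup.mem_comap]
        simpa using h
      rw [extendByZero_not_mem _ _ hm, extendByZero_not_mem _ _ hm']
  simp only [h1]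
  rw [sum_comp_mk K (fun y => extendByZero H θ (y⁻¹ * (g : G ⧸ K) * y))]
  have hcard : (Nat.card (H.comap (QuotientGroup.mk' K)) : ℂ)
      = (Nat.card K : ℂ) * (Nat.card H : ℂ) := by
    have hi : (H.comap (QuotientGroup.mk' K)).index = H.index :=
      Subgroup.index_comap_of_surjective H (QuotientGroup.mk'_surjective K)
    have e1 := Subgroup.card_mul_index (H.comap (QuotientGroup.mk' K))
    have e2 := Subgroup.card_mul_index H
    have e3 : Nat.card G = Nat.card K * Nat.card (G ⧸ K) := by
      rw [← Subgroup.index_eq_card, Subgroup.card_mul_index]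
    have hidx : H.index ≠ 0 := Subgroup.index_ne_zero_of_finite
    have : Nat.card (H.comap (QuotientGroup.mk' K)) = Nat.card K * Nat.card H := by
      apply Nat.eq_of_mul_eq_mul_right (Nat.pos_of_ne_zero hidx)
      rw [← hi, e1, e3, hi, mul_assoc, e2]
    exact_mod_cast this
  rw [hcard]
  have hK := card_ne_zero_complex K
  have hH := card_ne_zero_complex H
  field_simp
end Cfsg.Agent.Lib.helper3.IndFun
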