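import Mathlib
import Cfsg.Prelude.Def_Characters
import Cfsg.Agent.Lib.helper3.FullyRam
import Cfsg.Agent.Lib.helper3.CharBasic2
import Cfsg.Agent.Lib.helper3.Lin

set_option autoImplicit false
set_option linter.style.haveILetI false
set_option linter.unusedSectionVars false

/-!
# Two lemmas for the monomiality of nilpotent groups
-/

namespace Cfsg.Agent.Lib.helper3.Irr

open Cfsg Module Cfsg.Agent.Lib.helper3.IndFun Cfsg.Agent.Lib.helper3.CharBasic
open Cfsg.Agent.Lib.helper3.Lin
open scoped ComplexConjugate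

variable {G : Type*} [Group G]

/-- A nonabelian nilpotent group has an abelian normal subgroup that is not central. -/
theorem exists_abelian_normal_noncentral [Group.IsNilpotent G]
    (hna : ¬ ∀ a b : G, a * b = b * a) :
    ∃ A : Subgroup G, A.Normal ∧ (∀ x ∈ A, ∀ y ∈ A, x * y = y * x) ∧
      ¬ A ≤ Subgroup.center G := by
  classical
  set Z := Subgroup.center G with hZ
  have hnt : Nontrivial (G ⧸ Z) := by
    by_contra hsub
    rw [not_nontrivial_iff_subsingleton] at hsub
    apply hna
    intro a b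
    have ha : (a : G ⧸ Z) = 1 := Subsingleton.elim _ _
    have : a ∈ Z := (QuotientGroup.eq_one_iff a).mp ha
    exact (Subgroup.mem_center_iff.mp this b).symm
  have hcb := Group.IsNilpotent.center_ne_bot (G := G ⧸ Z)
  obtain ⟨abar, habar, hne⟩ : ∃ abar : G ⧸ Z, abar ∈ Subgroup.center (G ⧸ Z) ∧ abar ≠ 1 := by
    obtain ⟨x, hx⟩ := (Subgroup.ne_bot_iff_exists_ne_one).mp hcb
    exact ⟨(x : G ⧸ Z), x.2, fun h => hx (Subtype.ext h)⟩
  obtain ⟨a, rfl⟩ := QuotientGroup.mk_surjective abar
  have haZ : a ∉ Z := fun h => hne ((QuotientGroup.eq_one_iff a).mpr h)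
  have hcomm : ∀ g : G, g * a * g⁻¹ * a⁻¹ ∈ Z := by
    intro g
    have h1 := Subgroup.mem_center_iff.mp habar (g : G ⧸ Z)
    rw [← QuotientGroup.eq_one_iff]
    simp only [QuotientGroup.mk_mul, QuotientGroup.mk_inv]
    rw [h1]
    group
  set S : Set G := insert a (Z : Set G) with hS
  have hScomm : ∀ x ∈ S, ∀ y ∈ S, x * y = y * x := by
    intro x hx y hy
    rcases hx with rfl | hx
    · rcases hy with rfl | hy
      · rfl
      · exact (Subgroup.mem_center_iff.mp hy x)
    · exact (Subgroup.mem_center_iff.mp hx y).symm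
  refine ⟨Subgroup.closure S, ?_, ?_, ?_⟩
  · -- normality
    constructor
    intro n hn g
    have hmap : (Subgroup.closure S).map (MulAut.conj g).toMonoidHom ≤ Subgroup.closure S := by
      rw [MonoidHom.map_closure, Subgroup.closure_le]
      rintro _ ⟨x, hx, rfl⟩
      show g * x * g⁻¹ ∈ Subgroup.closure S
      rcases hx with rfl | hx
      · have h1 : g * x * g⁻¹ = (g * x * g⁻¹ * x⁻¹) * x := by group
        rw [h1]
        exact Subgroup.mul_mem _ (Subgroup.subset_closure (Or.inr (hcomm g)))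
          (Subgroup.subset_closure (Or.inl rfl))
      · have h1 : g * x * g⁻¹ = x := by
          rw [Subgroup.mem_center_iff.mp hx g, mul_inv_cancel_right]
        rw [h1]
        exact Subgroup.subset_closure (Or.inr hx)
    exact hmap ⟨n, hn, rfl⟩
  · intro x hx y hy
    haveI := Subgroup.isMulCommutative_closure hScomm
    have := mul_comm' (⟨x, hx⟩ : Subgroup.closure S) ⟨y, hy⟩
    exact congrArg Subtype.val this
  · intro hle
    exact haZ (hle (Subgroup.subset_closure (Or.inl rfl)))

/-- If a faithful irreducible character of `G` lies over an invariant linear character of the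
normal subgroup `A`, then `A` is central. -/
theorem le_center_of_faithful_of_invariant [Fintype G] (A : Subgroup G) [hA : A.Normal]
    [Fintype A] (χ : G → ℂ) (hχ : IsIrrCharacter G χ) (hfaith : ∀ g, χ g = χ 1 → g = 1)
    (lam : A → ℂ) (hlam : IsIrrCharacter A lam) (hlam1 : lam 1 = 1)
    (hcon : classInner (fun a : A => χ a) lam ≠ 0)
    (hinv : ∀ (g : G) (a : A), lam ⟨g * a * g⁻¹, hA.conj_mem (a : G) a.2 g⟩ = lam a) :
    A ≤ Subgroup.center G := by
  classical
  have hres := restrict_eq_smul_of_invariant A χ hχ lam hlam hcon hinv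
  obtain ⟨n, ρ, hirr, rfl⟩ := hχ
  set c := classInner (fun a : A => ρ.character a) lam with hc
  have hc1 : ρ.character 1 = c := by
    have := congrFun hres 1
    simp only [Pi.smul_apply, smul_eq_mul, hlam1, mul_one] at this
    exact this
  have hfin : ρ.character 1 = (finrank ℂ (Fin n → ℂ) : ℂ) := Representation.char_one ρ
  intro x hx
  rw [Subgroup.mem_center_iff]
  intro g
  -- `ρ x` is a scalar
  have hχx : ρ.character x = c * lam ⟨x, hx⟩ := by
    have := congrFun hres ⟨x, hx⟩
    simpa using this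
  have hnorm1 : ‖lam ⟨x, hx⟩‖ = 1 := by
    have hp := pow_eq_one_of_linear (isCharacter_of_isIrrCharacter hlam) hlam1 ⟨x, hx⟩ _
      (pow_orderOf_eq_one _)
    exact Complex.norm_eq_one_of_pow_eq_one hp (orderOf_pos _).ne'
  have hnorm : ‖ρ.character x‖ = (finrank ℂ (Fin n → ℂ) : ℝ) := by
    rw [hχx, norm_mul, hnorm1, mul_one, ← hc1, hfin]
    simp
  obtain ⟨ω, hω⟩ := (norm_character_eq_finrank_iff ρ x).mp hnorm
  have hcomm : ρ (x * g) = ρ (g * x) := by
    rw [map_mul, map_mul, hω]
    ext v
    simp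
  have hone : ρ (x * g * x⁻¹ * g⁻¹) = LinearMap.id := by
    have e1 : x * g * x⁻¹ * g⁻¹ = (x * g) * (x⁻¹ * g⁻¹) := by group
    rw [e1, map_mul, hcomm, ← map_mul]
    have e2 : g * x * (x⁻¹ * g⁻¹) = 1 := by group
    rw [e2, map_one]
    rfl
  have h1 := (character_eq_finrank_iff ρ (x * g * x⁻¹ * g⁻¹)).mpr hone
  rw [← hfin] at h1
  have h2 := hfaith _ h1
  have h3 : x * g = g * x := by
    have : x * g = (x * g * x⁻¹ * g⁻¹) * (g * x) := by group
    rw [this, h2, one_mul]
  exact h3.symm

end Cfsg.Agent.Lib.helper3.Irr
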