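import Mathlib
import Cfsg.Prelude.Def_Characters
import Cfsg.Agent.Lib.helper3.Irr3
import Cfsg.Agent.Lib.helper3.Lin

set_option autoImplicit false
set_option linter.style.haveILetI false
set_option linter.unusedSectionVars false

/-!
# Linear characters as homomorphisms to `ℂˣ`, and the transfer
-/

namespace Cfsg.Agent.Lib.helper3.Lin

open Cfsg Module
open scoped ComplexConjugate

variable {G : Type*} [Group G]

/-- The one-dimensional representation attached to a homomorphism to `ℂˣ`. -/
noncomputable def repOfHom (μ : G →* ℂˣ) : Representation ℂ G ℂ where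
  toFun g := ((μ g : ℂˣ) : ℂ) • LinearMap.id
  map_one' := by
    simp only [map_one, Units.val_one, one_smul]
    rfl
  map_mul' a b := by
    ext
    simp [mul_comm]

theorem repOfHom_character (μ : G →* ℂˣ) (g : G) :
    (repOfHom μ).character g = ((μ g : ℂˣ) : ℂ) := by
  show LinearMap.trace ℂ ℂ (((μ g : ℂˣ) : ℂ) • LinearMap.id) = _
  rw [map_smul, LinearMap.trace_id, Module.finrank_self]
  simp

/-- A homomorphism to `ℂˣ` is a character (of degree one). -/
theorem isCharacter_of_hom (μ : G →* ℂˣ) : IsCharacter G (fun g => ((μ g : ℂˣ) : ℂ)) := by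
  have := Cfsg.Agent.Lib.helper3.Irr.isCharacter_of_rep (repOfHom μ)
  convert this using 1
  funext g
  exact (repOfHom_character μ g).symm

/-- A linear character as a homomorphism to `ℂˣ`. -/
noncomputable def toUnitsHom {χ : G → ℂ} (hχ : IsCharacter G χ) (h1 : χ 1 = 1) : G →* ℂˣ :=
  (toHom hχ h1).toHomUnits

theorem toUnitsHom_apply {χ : G → ℂ} (hχ : IsCharacter G χ) (h1 : χ 1 = 1) (g : G) :
    ((toUnitsHom hχ h1 g : ℂˣ) : ℂ) = χ g := by
  unfold toUnitsHom
  rw [MonoidHom.coe_toHomUnits]
  rfl

section transfer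

open MonoidHom Subgroup

variable {H : Subgroup G} {A : Type*} [CommGroup A] (ϕ : H →* A)

/-- The transfer evaluated at an element all of whose conjugate powers are sent by `ϕ` to
powers of a fixed element. -/
theorem transfer_eq_pow_of_invariant [H.FiniteIndex] (g : G) (c : A)
    (key : ∀ (k : ℕ) (g₀ : G) (hk : g₀⁻¹ * g ^ k * g₀ ∈ H), ϕ ⟨g₀⁻¹ * g ^ k * g₀, hk⟩ = c ^ k) :
    transfer ϕ g = c ^ H.index := by
  classical
  letI := H.fintypeQuotientOfFiniteIndex
  rw [transfer_eq_prod_quotient_orbitRel_zpowers_quot]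
  rw [Finset.prod_congr rfl (fun q _ => key _ _ _), Finset.prod_pow_eq_pow_sum,
    ← index_eq_sum_minimalPeriod H g]

/-- The transfer takes values in the range of `ϕ`. -/
theorem transfer_mem_range [H.FiniteIndex] (g : G) : transfer ϕ g ∈ ϕ.range := by
  classical
  letI := H.fintypeQuotientOfFiniteIndex
  rw [transfer_eq_prod_quotient_orbitRel_zpowers_quot]
  apply Subgroup.prod_mem
  intro q _
  exact ⟨_, rfl⟩

end transfer

end Cfsg.Agent.Lib.helper3.Lin
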