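import Mathlib
import Cfsg.Prelude.Def_Characters
import Cfsg.Agent.Lib.helper3.NilpM1
import Cfsg.Agent.Lib.helper3.NilpM2
import Cfsg.Agent.Lib.helper3.Ito
import Cfsg.Agent.Lib.helper3.TransferChar
import Cfsg.Agent.Lib.Helper4.Codegree

set_option autoImplicit false
set_option linter.style.haveILetI false
set_option linter.unusedSectionVars false

/-!
# Nilpotent groups are M-groups
-/

namespace Cfsg.Agent.Lib.helper3.Irr

open Cfsg Module Cfsg.Agent.Lib.helper3.IndFun Cfsg.Agent.Lib.helper3.CharBasic
open Cfsg.Agent.Lib.helper3.Lin Cfsg.Agent.Lib.Helper4.Codegree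
open scoped ComplexConjugate

universe u

theorem nilpotent_monomial_aux : ∀ (n : ℕ) (G : Type u) [Group G] [Fintype G]
    [Group.IsNilpotent G], Nat.card G = n → ∀ χ : G → ℂ, IsIrrCharacter G χ →
    ∃ (H : Subgroup G) (lam : H →* ℂˣ), χ = indFun H (fun h => ((lam h : ℂˣ) : ℂ)) := by
  intro n
  induction n using Nat.strong_induction_on with
  | _ n ih =>
    intro G _ _ _ hn χ hχ
    classical
    have hχc := isCharacter_of_isIrrCharacter hχ
    set K := charKer χ hχc with hK
    by_cases hKbot : K = ⊥
    · -- the faithful case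
      have hfaith : ∀ g, χ g = χ 1 → g = 1 := by
        intro g hg
        have : g ∈ K := (mem_charKer hχc g).mpr hg
        rw [hKbot] at this
        exact Subgroup.mem_bot.mp this
      by_cases hab : ∀ a b : G, a * b = b * a
      · have h1 : χ 1 = 1 := apply_one_eq_one_of_comm hab hχ
        refine ⟨⊤, (toUnitsHom hχc h1).comp (⊤ : Subgroup G).subtype, ?_⟩
        have h2 := indFun_top χ (isClassFunction_of_isCharacter hχc)
        have h3 : (fun h : (⊤ : Subgroup G) =>
            ((((toUnitsHom hχc h1).comp (⊤ : Subgroup G).subtype) h : ℂˣ) : ℂ))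
            = fun h : (⊤ : Subgroup G) => χ (h : G) := by
          funext h
          exact toUnitsHom_apply hχc h1 h
        rw [h3, h2]
      · obtain ⟨A, hAn, hAab, hAnc⟩ := exists_abelian_normal_noncentral hab
        haveI := hAn
        letI : Fintype A := Fintype.ofFinite A
        have hres := isCharacter_restrict hχc A
        have hne0 : (fun a : A => χ a) ≠ 0 := by
          intro h0
          have := congrFun h0 1
          exact apply_one_ne_zero hχ this
        obtain ⟨lam, hlam⟩ := exists_constituent hres hne0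
        have hlam1 : (lam : A → ℂ) 1 = 1 :=
          apply_one_eq_one_of_comm (fun a b => Subtype.ext (hAab a a.2 b b.2)) lam.2
        set T := inertia A (lam : A → ℂ) with hTdef
        letI : Fintype T := Fintype.ofFinite T
        have hT : ∀ g : G, g ∈ T ↔ ∀ a : A,
            (lam : A → ℂ) ⟨g * a * g⁻¹, hAn.conj_mem a a.2 g⟩ = (lam : A → ℂ) a :=
          mem_inertia_iff A (lam : A → ℂ)
        have hAT : A ≤ T := le_inertia A (lam : A → ℂ)
          (isClassFunction_of_isCharacter (isCharacter_of_isIrrCharacter lam.2))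
        have hTne : T ≠ ⊤ := by
          intro htop
          apply hAnc
          apply le_center_of_faithful_of_invariant A χ hχ hfaith (lam : A → ℂ) lam.2 hlam1 hlam
          intro g a
          exact (hT g).mp (htop ▸ Subgroup.mem_top g) a
        have hcardT : Nat.card T < n := by
          rw [← hn]
          apply lt_of_le_of_ne (Subgroup.card_le_card_group T)
          intro h
          exact hTne (Subgroup.eq_top_of_card_eq T h)
        obtain ⟨ψ, hψ, hψind, -⟩ :=
          clifford_corr_surjective A (lam : A → ℂ) lam.2 T hT hAT χ hχ hlam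
        obtain ⟨H', lam', hψeq⟩ := ih (Nat.card T) hcardT T rfl ψ hψ
        refine ⟨H'.map T.subtype,
          lam'.comp (H'.equivMapOfInjective T.subtype T.subtype_injective).symm.toMonoidHom, ?_⟩
        rw [← hψind, hψeq, indFun_trans_map]
        rfl
    · -- the non-faithful case: pass to the quotient by the kernel
      letI : Fintype (G ⧸ K) := Fintype.ofFinite _
      have hcardQ : Nat.card (G ⧸ K) < n := by
        rw [← hn, card_eq_card_ker_mul K]
        have h1 : 1 < Nat.card K := by
          rw [Subgroup.one_lt_card_iff_ne_bot]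
          exact hKbot
        have h2 : 0 < Nat.card (G ⧸ K) := Nat.card_pos
        nlinarith
      obtain ⟨ψ, hinf, -, -⟩ := exists_faithful_quotient ⟨χ, hχ⟩ K (fun g => Iff.rfl)
      obtain ⟨H', lam', hψeq⟩ := ih (Nat.card (G ⧸ K)) hcardQ (G ⧸ K) rfl (ψ : G ⧸ K → ℂ) ψ.2
      refine ⟨H'.comap (QuotientGroup.mk' K),
        lam'.comp ((QuotientGroup.mk' K).subgroupComap H'), ?_⟩
      have hinf' : χ = inflate K (ψ : G ⧸ K → ℂ) := hinf
      refine hinf'.trans ?_
      rw [hψeq, inflate_indFun]
      rfl

/-- A finite nilpotent group is an M-group. -/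
theorem nilpotent_monomial {G : Type u} [Group G] [Fintype G] [Group.IsNilpotent G]
    (χ : G → ℂ) (hχ : IsIrrCharacter G χ) :
    ∃ (H : Subgroup G) (lam : H →* ℂˣ), χ = indFun H (fun h => ((lam h : ℂˣ) : ℂ)) :=
  nilpotent_monomial_aux (Nat.card G) G rfl χ hχ

end Cfsg.Agent.Lib.helper3.Irr
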