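import Mathlib
import Cfsg.Prelude.Def_Characters
import Cfsg.Agent.Lib.helper3.BrauerInd4
import Cfsg.Agent.Lib.helper3.NilpM3

/-!
# Brauer's induction theorem

`brauer_induction` : every character is an integer combination of functions induced from linear
characters of elementary subgroups.
-/

set_option autoImplicit false
set_option linter.style.haveILetI false
set_option linter.unusedSectionVars false

namespace Cfsg.Agent.Lib.helper3.BrauerInd

open Cfsg Module Cfsg.Agent.Lib.helper3.IndFun Cfsg.Agent.Lib.helper3.CharBasic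
open Cfsg.Agent.Lib.helper3.Irr Cfsg.Agent.Lib.helper3.IndFunTrans Cfsg.Agent.Lib.helper3.Lin
open Cfsg.Agent.Lib.helper3.QuasiElem

universe u

/-- Elementary groups are nilpotent. -/
theorem isNilpotent_of_isElementary {E : Type*} [Group E] [Finite E] {p : ℕ} [hp : Fact p.Prime]
    (h : IsElementary p E) : Group.IsNilpotent E := by
  obtain ⟨x, hx, -, k, hk⟩ := h
  have hle : Subgroup.zpowers x ≤ Subgroup.center E := by
    rw [Subgroup.zpowers_le]; exact hx
  haveI : (Subgroup.zpowers x).Normal := by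
    constructor
    intro n hn g
    have := hle hn
    rw [Subgroup.mem_center_iff] at this
    rw [this g, mul_inv_cancel_right]
    exact hn
  have hpg : IsPGroup p (E ⧸ Subgroup.zpowers x) := by
    apply IsPGroup.of_card (n := k)
    rw [← Subgroup.index_eq_card]
    exact hk
  haveI : Group.IsNilpotent (E ⧸ Subgroup.zpowers x) := hpg.isNilpotent
  apply Subgroup.isNilpotent_of_ker_le_center (QuotientGroup.mk' (Subgroup.zpowers x))
  rw [QuotientGroup.ker_mk']
  exact hle

/-- Subgroups of elementary groups are elementary. -/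
theorem isElementary_subgroup {E : Type*} [Group E] [Finite E] {p : ℕ} [hp : Fact p.Prime]
    (h : IsElementary p E) (E' : Subgroup E) : IsElementary p E' := by
  obtain ⟨x, hx, hcop, k, hk⟩ := h
  have hle : Subgroup.zpowers x ≤ Subgroup.center E := by
    rw [Subgroup.zpowers_le]; exact hx
  haveI : (Subgroup.zpowers x).Normal := by
    constructor
    intro n hn g
    have := hle hn
    rw [Subgroup.mem_center_iff] at this
    rw [this g, mul_inv_cancel_right]
    exact hn
  obtain ⟨y, hy⟩ := exists_zpowers_eq_of_le_cyclic (C := Subgroup.zpowers x)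
    (Z := E' ⊓ Subgroup.zpowers x) inferInstance inf_le_right
  have hyy : y ∈ E' ⊓ Subgroup.zpowers x := by rw [hy]; exact Subgroup.mem_zpowers y
  apply isElementary_of E' y hyy.1
  · intro e _
    have := hle hyy.2
    rw [Subgroup.mem_center_iff] at this
    exact this e
  · have h1 : orderOf y ∣ orderOf x := orderOf_dvd_of_mem_zpowers hyy.2
    exact Nat.Coprime.coprime_dvd_left h1 hcop
  · intro e he
    refine ⟨k, ?_⟩
    rw [← hy]
    refine ⟨E'.pow_mem he _, ?_⟩
    have h1 : ((e : E ⧸ Subgroup.zpowers x)) ^ p ^ k = 1 := by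
      have h2 : Nat.card (E ⧸ Subgroup.zpowers x) = p ^ k := by
        rw [← Subgroup.index_eq_card]; exact hk
      rw [← h2]
      exact pow_card_eq_one'
    rw [← QuotientGroup.mk_pow, QuotientGroup.eq_one_iff] at h1
    exact h1

/-- The additive group generated by the functions induced from linear characters of elementary
subgroups. -/
def LSpan (G : Type*) [Group G] [Fintype G] : AddSubgroup (G → ℂ) :=
  AddSubgroup.closure {f | ∃ (p : ℕ) (E : Subgroup G) (lam : E →* ℂˣ),
    p.Prime ∧ IsElementary p E ∧ f = indFun E (fun e => ((lam e : ℂˣ) : ℂ))}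

/-- Characters induced from elementary subgroups lie in `LSpan`. -/
theorem indFun_mem_lspan {G : Type u} [Group G] [Fintype G] (p : ℕ) [hp : Fact p.Prime]
    (E : Subgroup G) (hE : IsElementary p E) (φ : E → ℂ) (hφ : IsCharacter E φ) :
    indFun E φ ∈ LSpan G := by
  classical
  letI : Fintype E := Fintype.ofFinite E
  haveI : Group.IsNilpotent E := isNilpotent_of_isElementary hE
  obtain ⟨m, hm⟩ := exists_decomposition_of_isCharacter hφ
  rw [hm, indFun_sum]
  apply AddSubgroup.sum_mem
  intro ψ _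
  rw [indFun_smul, Nat.cast_smul_eq_nsmul]
  apply AddSubgroup.nsmul_mem
  obtain ⟨E', lam, hlam⟩ := nilpotent_monomial (ψ : E → ℂ) ψ.2
  rw [hlam, indFun_trans_map]
  apply AddSubgroup.subset_closure
  refine ⟨p, E'.map E.subtype,
    lam.comp (E'.equivMapOfInjective E.subtype E.subtype_injective).symm.toMonoidHom, hp.out, ?_, rfl⟩
  exact isElementary_of_mulEquiv (E'.equivMapOfInjective E.subtype E.subtype_injective)
    (isElementary_subgroup hE E')

theorem bspan_le_lspan {G : Type u} [Group G] [Fintype G] (p : ℕ) [hp : Fact p.Prime] :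
    BSpan p G ≤ LSpan G := by
  apply (AddSubgroup.closure_le _).2
  rintro f ⟨E, φ, hE, hφ, rfl⟩
  exact indFun_mem_lspan p E hE φ hφ

/-- The principal character lies in `LSpan`. -/
theorem one_mem_lspan {G : Type u} [Group G] [Fintype G] : (fun _ : G => (1 : ℂ)) ∈ LSpan G := by
  classical
  -- the subgroup of integers `k` with `k · 1 ∈ LSpan`
  let I : AddSubgroup ℤ :=
    { carrier := {k | (fun _ : G => (k : ℂ)) ∈ LSpan G}
      zero_mem' := by
        show (fun _ : G => ((0 : ℤ) : ℂ)) ∈ LSpan G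
        have : (fun _ : G => ((0 : ℤ) : ℂ)) = 0 := by funext x; simp
        rw [this]; exact AddSubgroup.zero_mem _
      add_mem' := by
        intro a b ha hb
        show (fun _ : G => ((a + b : ℤ) : ℂ)) ∈ LSpan G
        have : (fun _ : G => ((a + b : ℤ) : ℂ)) = (fun _ : G => (a : ℂ)) + fun _ : G => (b : ℂ) := by
          funext x; simp
        rw [this]; exact AddSubgroup.add_mem _ ha hb
      neg_mem' := by
        intro a ha
        show (fun _ : G => ((-a : ℤ) : ℂ)) ∈ LSpan G
        have : (fun _ : G => ((-a : ℤ) : ℂ)) = -fun _ : G => (a : ℂ) := by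
          funext x; simp
        rw [this]; exact AddSubgroup.neg_mem _ ha }
  have hI : ∀ p : ℕ, p.Prime → ∃ m : ℤ, ¬ (p : ℤ) ∣ m ∧ m ∈ I := by
    intro p hp
    haveI : Fact p.Prime := ⟨hp⟩
    obtain ⟨m, hm, hmem⟩ := brauer_local (G := G) p
    exact ⟨m, hm, bspan_le_lspan p hmem⟩
  -- a positive member
  have hex : ∃ d : ℕ, 0 < d ∧ (d : ℤ) ∈ I := by
    obtain ⟨m, hm, hmI⟩ := hI 2 Nat.prime_two
    have hm0 : m ≠ 0 := by
      intro h0
      apply hm
      rw [h0]
      exact dvd_zero _
    refine ⟨m.natAbs, Int.natAbs_pos.2 hm0, ?_⟩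
    rcases Int.natAbs_eq m with h | h
    · rw [← h]; exact hmI
    · have : (m.natAbs : ℤ) = -m := by omega
      rw [this]; exact I.neg_mem hmI
  have hd := Nat.find_spec hex
  have hmin := fun d => Nat.find_min hex (m := d)
  obtain ⟨d, hdd⟩ : ∃ d, d = Nat.find hex := ⟨_, rfl⟩
  rw [← hdd] at hd hmin
  have hd1 : d = 1 := by
    by_contra hne
    obtain ⟨q, hq, hqd⟩ := Nat.exists_prime_and_dvd hne
    obtain ⟨m, hm, hmI⟩ := hI q hq
    -- the gcd lies in `I`
    have hg : ((Int.gcd (d : ℤ) m : ℕ) : ℤ) ∈ I := by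
      rw [Int.gcd_eq_gcd_ab]
      apply I.add_mem
      · rw [mul_comm]; exact I.zsmul_mem hd.2 _
      · rw [mul_comm]; exact I.zsmul_mem hmI _
    have hgpos : 0 < Int.gcd (d : ℤ) m := Int.gcd_pos_of_ne_zero_left _ (by exact_mod_cast hd.1.ne')
    have hgd : Int.gcd (d : ℤ) m ∣ d := by
      have := Int.gcd_dvd_left (d : ℤ) m
      exact_mod_cast this
    have hgle : Int.gcd (d : ℤ) m ≤ d := Nat.le_of_dvd hd.1 hgd
    have hgne : Int.gcd (d : ℤ) m ≠ d := by
      intro h
      apply hm
      have h1 : ((Int.gcd (d : ℤ) m : ℕ) : ℤ) ∣ m := Int.gcd_dvd_right (d : ℤ) m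
      rw [h] at h1
      exact dvd_trans (Int.natCast_dvd_natCast.2 hqd) h1
    exact hmin _ (lt_of_le_of_ne hgle hgne) ⟨hgpos, hg⟩
  rw [hd1] at hd
  have h2 : (fun _ : G => (((1 : ℕ) : ℤ) : ℂ)) ∈ LSpan G := hd.2
  simpa using h2

/-- Brauer's induction theorem. -/
theorem brauer_induction {G : Type u} [Group G] [Fintype G] (χ : G → ℂ) (hχ : IsCharacter G χ) :
    χ ∈ LSpan G := by
  classical
  have hχcf := isClassFunction_of_isCharacter hχ
  have key : ∀ f ∈ LSpan G, f * χ ∈ LSpan G := by
    intro f hf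
    induction hf using AddSubgroup.closure_induction with
    | mem f hf =>
      obtain ⟨p, E, lam, hp, hE, rfl⟩ := hf
      haveI : Fact p.Prime := ⟨hp⟩
      rw [← indFun_mul_restrict E _ χ hχcf]
      exact indFun_mem_lspan p E hE _
        (isCharacter_mul (isCharacter_of_hom lam) (isCharacter_restrict hχ E))
    | zero => rw [zero_mul]; exact AddSubgroup.zero_mem _
    | add f g _ _ h1 h2 => rw [add_mul]; exact AddSubgroup.add_mem _ h1 h2
    | neg f _ h => rw [neg_mul]; exact AddSubgroup.neg_mem _ h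
  have h1 := key _ one_mem_lspan
  have : (fun _ : G => (1 : ℂ)) * χ = χ := by
    funext x
    simp
  rwa [this] at h1

theorem neg_list_sum' {G : Type*} [Group G] [Fintype G]
    (l : List ((E : Subgroup G) × ((E →* ℂˣ) × ℤ))) :
    -(l.map fun t => (t.2.2 : ℂ) • indFun t.1 (fun e => ((t.2.1 e : ℂˣ) : ℂ))).sum
      = (l.map ((fun t : (E : Subgroup G) × ((E →* ℂˣ) × ℤ) =>
          (t.2.2 : ℂ) • indFun t.1 (fun e => ((t.2.1 e : ℂˣ) : ℂ))) ∘
          fun t => ⟨t.1, (t.2.1, -t.2.2)⟩)).sum := by
  induction l with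
  | nil => simp
  | cons a l ih =>
    rw [List.map_cons, List.sum_cons, List.map_cons, List.sum_cons, neg_add, ih]
    congr 1
    simp

theorem LSpan.exists_list {G : Type*} [Group G] [Fintype G] {f : G → ℂ} (hf : f ∈ LSpan G) :
    ∃ l : List ((E : Subgroup G) × ((E →* ℂˣ) × ℤ)),
      (∀ t ∈ l, ∃ p : ℕ, p.Prime ∧ IsElementary p t.1) ∧
      f = (l.map fun t => (t.2.2 : ℂ) • indFun t.1 (fun e => ((t.2.1 e : ℂˣ) : ℂ))).sum := by
  induction hf using AddSubgroup.closure_induction with
  | mem f hf =>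
    obtain ⟨p, E, lam, hp, hE, rfl⟩ := hf
    refine ⟨[⟨E, (lam, 1)⟩], ?_, ?_⟩
    · intro t ht
      rw [List.mem_singleton] at ht
      subst ht
      exact ⟨p, hp, hE⟩
    · simp
  | zero => exact ⟨[], by simp, by simp⟩
  | add f g _ _ h1 h2 =>
    obtain ⟨l, hl, rfl⟩ := h1
    obtain ⟨l', hl', rfl⟩ := h2
    refine ⟨l ++ l', ?_, ?_⟩
    · intro t ht
      rcases List.mem_append.1 ht with h | h
      · exact hl t h
      · exact hl' t h
    · rw [List.map_append, List.sum_append]
  | neg f _ h =>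
    obtain ⟨l, hl, rfl⟩ := h
    refine ⟨l.map (fun t => ⟨t.1, (t.2.1, -t.2.2)⟩), ?_, ?_⟩
    · intro t ht
      obtain ⟨s, hs, rfl⟩ := List.mem_map.1 ht
      exact hl s hs
    · rw [List.map_map]
      exact neg_list_sum' l

end Cfsg.Agent.Lib.helper3.BrauerInd
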