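import Mathlib
import Cfsg.Prelude.Def_Characters
import Cfsg.Agent.Lib.helper3.BrauerInd5

/-!
# Brauer's characterization of characters
-/

set_option autoImplicit false
set_option linter.style.haveILetI false
set_option linter.unusedSectionVars false

namespace Cfsg.Agent.Lib.helper3.BrauerInd

open Cfsg Module Cfsg.Agent.Lib.helper3.IndFun Cfsg.Agent.Lib.helper3.CharBasic
open Cfsg.Agent.Lib.helper3.Irr Cfsg.Agent.Lib.helper3.IndFunTrans Cfsg.Agent.Lib.helper3.Lin

universe u

theorem indFun_sub' {G : Type*} [Group G] [Fintype G] (H : Subgroup G) (a b : H → ℂ) :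
    indFun H (a - b) = indFun H a - indFun H b := by
  have h1 : a - b = a + (-1 : ℂ) • b := by
    funext x
    simp [sub_eq_add_neg]
  rw [h1, indFun_add, indFun_smul, neg_one_smul, sub_eq_add_neg]

/-- The additive group of generalized characters. -/
def genChars (G : Type*) [Group G] : AddSubgroup (G → ℂ) where
  carrier := {f | IsGeneralizedCharacter G f}
  zero_mem' := ⟨0, 0, isCharacter_zero, isCharacter_zero, (sub_zero 0).symm⟩
  add_mem' := by
    rintro _ _ ⟨a, b, ha, hb, rfl⟩ ⟨c, d, hc, hd, rfl⟩
    exact ⟨a + c, b + d, isCharacter_add ha hc, isCharacter_add hb hd, by abel⟩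
  neg_mem' := by
    rintro _ ⟨a, b, ha, hb, rfl⟩
    exact ⟨b, a, hb, ha, by abel⟩

theorem mem_genChars {G : Type*} [Group G] (f : G → ℂ) :
    f ∈ genChars G ↔ IsGeneralizedCharacter G f := Iff.rfl

/-- Brauer's characterization of characters. -/
theorem brauer_characterization {G : Type u} [Group G] [Fintype G] (θ : G → ℂ)
    (hθ : IsClassFunction G θ)
    (hE : ∀ (E : Subgroup G) (p : ℕ), p.Prime → IsElementary p E →
      IsGeneralizedCharacter E (fun e : E => θ e)) : IsGeneralizedCharacter G θ := by
  classical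
  have key : ∀ f ∈ LSpan G, f * θ ∈ genChars G := by
    intro f hf
    induction hf using AddSubgroup.closure_induction with
    | mem f hf =>
      obtain ⟨p, E, lam, hp, hEl, rfl⟩ := hf
      rw [← indFun_mul_restrict E _ θ hθ]
      obtain ⟨a, b, ha, hb, hab⟩ := hE E p hp hEl
      rw [hab, mul_sub, indFun_sub']
      exact ⟨_, _, isCharacter_indFun E _ (isCharacter_mul (isCharacter_of_hom lam) ha),
        isCharacter_indFun E _ (isCharacter_mul (isCharacter_of_hom lam) hb), rfl⟩
    | zero => rw [zero_mul]; exact AddSubgroup.zero_mem _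
    | add f g _ _ h1 h2 => rw [add_mul]; exact AddSubgroup.add_mem _ h1 h2
    | neg f _ h => rw [neg_mul]; exact AddSubgroup.neg_mem _ h
  have h1 := key _ one_mem_lspan
  have : (fun _ : G => (1 : ℂ)) * θ = θ := by
    funext x
    simp
  rwa [this] at h1

end Cfsg.Agent.Lib.helper3.BrauerInd
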