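import Mathlib
import Cfsg.Prelude.Def_Characters
import Cfsg.Agent.Lib.helper3.Clifford

set_option autoImplicit false
set_option linter.style.haveILetI false
set_option linter.unusedSectionVars false

/-!
# Characters of groups with a Frobenius-kernel-like normal subgroup
-/

namespace Cfsg.Agent.Lib.helper3.Irr

open Cfsg Module Cfsg.Agent.Lib.helper3.IndFun Cfsg.Agent.Lib.helper3.CharBasic
open Representation
open scoped ComplexConjugate

variable {G : Type*} [Group G]

/-- If the centralizers of the non-identity elements of the normal subgroup `N` lie in `N`, an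
element outside `N` fixes no nonprincipal irreducible character of `N`. -/
theorem conjFun_ne_of_centralizer_le [Finite G] (N : Subgroup G) [hN : N.Normal]
    (hC : ∀ n ∈ N, n ≠ 1 → Subgroup.centralizer ({n} : Set G) ≤ N)
    (τ : N → ℂ) (hτ : IsIrrCharacter N τ) (hτ1 : τ ≠ fun _ => 1) (g : G) (hg : g ∉ N) :
    conjFun N τ g ≠ τ := by
  classical
  intro hfix
  set α : N ≃* N := MulAut.conjNormal g with hα
  -- only the trivial class is fixed
  have hclasses : ∀ C : ConjClasses N, ConjClasses.map α.toMonoidHom C = C → C = ConjClasses.mk 1 := by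
    intro C hCfix
    obtain ⟨x, rfl⟩ := ConjClasses.mk_surjective C
    by_contra hne
    have hx1 : x ≠ 1 := by
      intro h
      apply hne
      rw [h]
    have hconj : IsConj (α x) x := ConjClasses.mk_eq_mk_iff_isConj.mp hCfix
    obtain ⟨m, hm⟩ := isConj_iff.mp hconj
    -- `m * g` centralizes `x`
    have hm' : (m : G) * (g * x * g⁻¹) * (m : G)⁻¹ = x := by
      have := congrArg Subtype.val hm
      simpa [hα, MulAut.conjNormal_apply] using this
    have hcent : (m : G) * g ∈ Subgroup.centralizer ({(x : G)} : Set G) := by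
      rw [Subgroup.mem_centralizer_iff]
      intro w hw
      rw [Set.mem_singleton_iff] at hw
      rw [hw]
      calc (x : G) * ((m : G) * g) = ((m : G) * (g * x * g⁻¹) * (m : G)⁻¹) * ((m : G) * g) := by
            rw [hm']
        _ = (m : G) * g * x := by group
    have hxN : (x : G) ≠ 1 := by
      intro h
      apply hx1
      exact Subtype.ext h
    have := hC x x.2 hxN hcent
    apply hg
    have h2 := N.mul_mem (N.inv_mem m.2) this
    simpa using h2
  have hcard1 : Nat.card {C : ConjClasses N // ConjClasses.map α.toMonoidHom C = C} ≤ 1 := by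
    rw [Finite.card_le_one_iff_subsingleton]
    constructor
    intro a b
    apply Subtype.ext
    rw [hclasses a.1 a.2, hclasses b.1 b.2]
  rw [brauer_permutation_aut α] at hcard1
  rw [Finite.card_le_one_iff_subsingleton] at hcard1
  have h1 : (⟨⟨τ, hτ⟩, by
      funext n
      have := congrFun hfix n
      rw [Function.comp_apply]
      rw [conjFun_eq_comp] at this
      exact this⟩ : {χ : IrrCharacter N // (χ : N → ℂ) ∘ α = (χ : N → ℂ)})
      = ⟨⟨fun _ => 1, isIrrCharacter_one⟩, by funext n; simp⟩ := Subsingleton.elim _ _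
  apply hτ1
  have := congrArg (fun z : {χ : IrrCharacter N // (χ : N → ℂ) ∘ α = (χ : N → ℂ)} =>
    ((z : IrrCharacter N) : N → ℂ)) h1
  exact this

/-- Under the same hypothesis, nonprincipal irreducible characters of `N` induce irreducibly. -/
theorem isIrrCharacter_indFun_of_centralizer_le [Fintype G] (N : Subgroup G) [hN : N.Normal]
    (hC : ∀ n ∈ N, n ≠ 1 → Subgroup.centralizer ({n} : Set G) ≤ N)
    (τ : N → ℂ) (hτ : IsIrrCharacter N τ) (hτ1 : τ ≠ fun _ => 1) :
    IsIrrCharacter G (indFun N τ) := by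
  classical
  apply isIrrCharacter_of_classInner_self_eq_one
    (isCharacter_indFun N τ (isCharacter_of_isIrrCharacter hτ))
  have h := card_mul_classInner_indFun_normal N τ hτ
  have hstab : Nat.card {g : G // ∀ h : N, τ ⟨g * h * g⁻¹, hN.conj_mem h h.2 g⟩ = τ h}
      = Nat.card N := by
    apply Nat.card_congr
    refine ⟨fun g => ⟨g.1, ?_⟩, fun n => ⟨n.1, ?_⟩, ?_, ?_⟩
    · by_contra hg
      apply conjFun_ne_of_centralizer_le N hC τ hτ hτ1 g.1 hg
      funext n
      exact g.2 n
    · intro h
      have hcf := isClassFunction_of_isCharacter (isCharacter_of_isIrrCharacter hτ)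
      have := hcf h n
      convert this using 2
      apply Subtype.ext
      simp
    · intro g; rfl
    · intro n; rfl
  rw [hstab] at h
  have hN0 : (Nat.card N : ℂ) ≠ 0 := card_ne_zero_complex N
  exact mul_left_cancel₀ hN0 (by rw [h, mul_one])

/-- An irreducible character of `G` not containing `N` in its kernel is induced from `N`. -/
theorem exists_eq_indFun_of_centralizer_le [Fintype G] (N : Subgroup G) [hN : N.Normal]
    (hC : ∀ n ∈ N, n ≠ 1 → Subgroup.centralizer ({n} : Set G) ≤ N)
    (χ : G → ℂ) (hχ : IsIrrCharacter G χ) (hker : ∃ n ∈ N, χ n ≠ χ 1) :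
    ∃ φ : N → ℂ, IsIrrCharacter N φ ∧ χ = indFun N φ := by
  classical
  letI : Fintype N := Fintype.ofFinite N
  have hχc := isCharacter_of_isIrrCharacter hχ
  have hcf := isClassFunction_of_isCharacter hχc
  have hres := isCharacter_restrict hχc N
  -- a nonprincipal constituent
  have hex : ∃ φ : IrrCharacter N, classInner (fun n : N => χ n) (φ : N → ℂ) ≠ 0 ∧
      (φ : N → ℂ) ≠ fun _ => 1 := by
    by_contra hcon
    push Not at hcon
    obtain ⟨n, hn, hne⟩ := hker
    apply hne
    have hdec := isCharacter_eq_sum_classInner hres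
    have hval : ∀ m : N, χ m = classInner (fun n : N => χ n) (fun _ => 1) := by
      intro m
      have := congrFun hdec m
      simp only [Finset.sum_apply, Pi.smul_apply, smul_eq_mul] at this
      rw [this]
      rw [Finset.sum_eq_single (⟨fun _ => 1, isIrrCharacter_one⟩ : IrrCharacter N)]
      · simp
      · intro ψ _ hψ
        by_cases h0 : classInner (fun n : N => χ n) (ψ : N → ℂ) = 0
        · rw [h0, zero_mul]
        · exfalso
          apply hψ
          exact Subtype.ext (hcon ψ h0)
      · intro h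
        exact absurd (Finset.mem_univ _) h
    have h1 := hval ⟨n, hn⟩
    have h2 := hval 1
    simp only [OneMemClass.coe_one] at h2
    rw [h1, h2]
  obtain ⟨φ, hφ, hφ1⟩ := hex
  refine ⟨φ, φ.2, ?_⟩
  have hirr := isIrrCharacter_indFun_of_centralizer_le N hC φ φ.2 hφ1
  have hne : classInner (indFun N (φ : N → ℂ)) χ ≠ 0 := by
    rw [frobenius_reciprocity N _ χ hcf, ← classInner_conj_symm]
    intro hz
    apply hφ
    have := congrArg conj hz
    simpa using this
  by_contra hneq
  exact hne (irr_classInner_eq_zero hirr hχ (fun h => hneq h.symm))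

/-- In a Frobenius group `K ⋊ H` the centralizers of non-identity elements of `K` lie in `K`. -/
theorem centralizer_le_of_frobenius [Finite G] (K H : Subgroup G) [hK : K.Normal]
    (hKH' : K ⊔ H = ⊤)
    (hfpf : ∀ h ∈ H, h ≠ 1 → ∀ k ∈ K, h * k = k * h → k = 1) :
    ∀ n ∈ K, n ≠ 1 → Subgroup.centralizer ({n} : Set G) ≤ K := by
  intro n hn hn1 y hy
  by_contra hyK
  have hy' : y ∈ (↑(K ⊔ H) : Set G) := by rw [hKH']; trivial
  rw [Subgroup.normal_mul] at hy'
  obtain ⟨k, hk, h, hh, hkh⟩ := hy'
  have hkh' : k * h = y := hkh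
  have hh1 : h ≠ 1 := by
    intro h1
    apply hyK
    rw [← hkh', h1, mul_one]
    exact hk
  -- the commutator map
  have hmem : ∀ k' : K, (k' : G) * h * (k' : G)⁻¹ * h⁻¹ ∈ K := by
    intro k'
    have : (k' : G) * h * (k' : G)⁻¹ * h⁻¹ = k' * (h * (k' : G)⁻¹ * h⁻¹) := by group
    rw [this]
    exact K.mul_mem k'.2 (hK.conj_mem _ (K.inv_mem k'.2) h)
  let f : K → K := fun k' => ⟨(k' : G) * h * (k' : G)⁻¹ * h⁻¹, hmem k'⟩
  have hinj : Function.Injective f := by
    intro a b hab
    have h1 : (a : G) * h * (a : G)⁻¹ * h⁻¹ = (b : G) * h * (b : G)⁻¹ * h⁻¹ :=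
      congrArg Subtype.val hab
    have h2 : (a : G) * h * (a : G)⁻¹ = (b : G) * h * (b : G)⁻¹ := mul_right_cancel h1
    have h3 : h * ((b : G)⁻¹ * a) = ((b : G)⁻¹ * a) * h := by
      calc h * ((b : G)⁻¹ * a) = (b : G)⁻¹ * ((b : G) * h * (b : G)⁻¹) * a := by group
        _ = (b : G)⁻¹ * ((a : G) * h * (a : G)⁻¹) * a := by rw [h2]
        _ = ((b : G)⁻¹ * a) * h := by group
    have h4 := hfpf h hh hh1 _ (K.mul_mem (K.inv_mem b.2) a.2) h3
    apply Subtype.ext
    have : (a : G) = b * ((b : G)⁻¹ * a) := by group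
    rw [this, h4, mul_one]
  have hsurj : Function.Surjective f := Finite.injective_iff_surjective.mp hinj
  obtain ⟨k', hk'⟩ := hsurj ⟨k, hk⟩
  have hk'' : (k' : G) * h * (k' : G)⁻¹ * h⁻¹ = k := congrArg Subtype.val hk'
  have hy2 : y = (k' : G) * h * (k' : G)⁻¹ := by
    rw [← hkh', ← hk'']
    group
  have hcomm : n * y = y * n := by
    rw [Subgroup.mem_centralizer_iff] at hy
    exact hy n rfl
  have h5 : h * ((k' : G)⁻¹ * n * k') = ((k' : G)⁻¹ * n * k') * h := by
    calc h * ((k' : G)⁻¹ * n * k') = (k' : G)⁻¹ * (y * n) * k' := by rw [hy2]; group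
      _ = (k' : G)⁻¹ * (n * y) * k' := by rw [hcomm]
      _ = ((k' : G)⁻¹ * n * k') * h := by rw [hy2]; group
  have h6 := hfpf h hh hh1 _ (by
    have := hK.conj_mem n hn (k' : G)⁻¹
    simpa using this) h5
  apply hn1
  calc n = (k' : G) * ((k' : G)⁻¹ * n * k') * (k' : G)⁻¹ := by group
    _ = 1 := by rw [h6]; group

end Cfsg.Agent.Lib.helper3.Irr
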