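import Mathlib
import Cfsg.Prelude.Def_OddOrderChar
import Cfsg.Agent.Lib.helper3.Frob
import Cfsg.Agent.Lib.helper3.Degrees
import Cfsg.Agent.Lib.helper3.Coh6

set_option autoImplicit false
set_option linter.style.haveILetI false
set_option linter.unusedSectionVars false

/-!
# Characters of a group with a Frobenius-kernel-like normal subgroup: the relevant characters
-/

namespace Cfsg.Agent.Lib.helper3.Tifn

open Cfsg Module Cfsg.Agent.Lib.helper3.CharBasic Cfsg.Agent.Lib.helper3.IndFun
open Cfsg.Agent.Lib.helper3.Irr Cfsg.Agent.Lib.helper3.Coh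
open scoped ComplexConjugate

variable {N : Type*} [Group N] [Fintype N]

/-- The irreducible characters not having the subgroup in their kernel. -/
def relSet (K : Subgroup N) : Set (N → ℂ) :=
  {χ | IsIrrCharacter N χ ∧ ∃ k : N, k ∈ K ∧ χ k ≠ χ 1}

theorem isIrr_of_mem_relSet {K : Subgroup N} {χ : N → ℂ} (h : χ ∈ relSet K) :
    IsIrrCharacter N χ := h.1

/-- An irreducible character outside the relevant set is constant on the subgroup. -/
theorem apply_eq_of_not_mem_relSet {K : Subgroup N} {θ : N → ℂ} (hθ : IsIrrCharacter N θ)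
    (h : θ ∉ relSet K) {k : N} (hk : k ∈ K) : θ k = θ 1 := by
  by_contra hne
  exact h ⟨hθ, k, hk, hne⟩

section frob

variable (K : Subgroup N) [hKn : K.Normal]
  (hC : ∀ n ∈ K, n ≠ 1 → Subgroup.centralizer ({n} : Set N) ≤ K)

include hC in
/-- A relevant character is induced from a nonprincipal irreducible character of the subgroup. -/
theorem exists_eq_indFun {χ : N → ℂ} (h : χ ∈ relSet K) :
    ∃ φ : K → ℂ, IsIrrCharacter K φ ∧ φ ≠ (fun _ => 1) ∧ χ = indFun K φ := by
  obtain ⟨hχ, k, hk, hne⟩ := h
  obtain ⟨φ, hφ, rfl⟩ := exists_eq_indFun_of_centralizer_le K hC χ hχ ⟨k, hk, hne⟩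
  refine ⟨φ, hφ, ?_, rfl⟩
  intro h1
  apply hne
  have hval : ∀ y : K, indFun K φ (y : N) = indFun K φ 1 := by
    intro y
    rw [indFun_normal_apply K φ y, indFun_apply_one, h1]
    have : ∀ x : N, Cfsg.Agent.Lib.helper3.Irr.conjFun K (fun _ => (1 : ℂ)) x y = 1 := fun x => rfl
    simp_rw [this]
    rw [Finset.sum_const, Finset.card_univ, nsmul_eq_mul, ← Nat.card_eq_fintype_card,
      ← K.card_mul_index]
    have hK : (Nat.card K : ℂ) ≠ 0 := card_ne_zero_complex K
    push_cast
    field_simp
  exact hval ⟨k, hk⟩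

include hC in
/-- A relevant character vanishes off the subgroup. -/
theorem apply_eq_zero_of_not_mem {χ : N → ℂ} (h : χ ∈ relSet K) {n : N} (hn : n ∉ K) :
    χ n = 0 := by
  obtain ⟨φ, -, -, rfl⟩ := exists_eq_indFun K hC h
  exact indFun_normal_apply_of_not_mem K φ hn

include hC in
/-- The function induced from a nonprincipal irreducible character is relevant. -/
theorem indFun_mem_relSet {φ : K → ℂ} (hφ : IsIrrCharacter K φ) (hφ1 : φ ≠ fun _ => 1) :
    indFun K φ ∈ relSet K := by
  classical
  letI : Fintype K := Fintype.ofFinite K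
  have hirr := isIrrCharacter_indFun_of_centralizer_le K hC φ hφ hφ1
  refine ⟨hirr, ?_⟩
  by_contra hcon
  push Not at hcon
  -- the restriction is constant, so orthogonal to `φ`
  have h1 : classInner (indFun K φ) (indFun K φ) = 1 := by
    rw [irr_classInner_eq hirr hirr, if_pos rfl]
  rw [frobenius_reciprocity K φ _ (isClassFunction_of_isCharacter
    (isCharacter_of_isIrrCharacter hirr))] at h1
  have h2 : (fun h : K => indFun K φ (h : N)) = (indFun K φ 1) • (fun _ : K => (1 : ℂ)) := by
    funext h
    rw [hcon h h.2]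
    simp
  rw [h2, classInner_smul_right, irr_classInner_eq hφ isIrrCharacter_one, if_neg hφ1,
    mul_zero] at h1
  exact zero_ne_one h1

end frob

/-- The weighted sum of the irreducible characters vanishes off the identity. -/
theorem sum_degree_mul_apply {n : N} (hn : n ≠ 1) :
    ∑ θ : IrrCharacter N, (θ : N → ℂ) 1 * (θ : N → ℂ) n = 0 := by
  classical
  have h := congrFun (leftRegular_character_eq_sum (G := N)) n
  rw [leftRegular_character, if_neg hn] at h
  rw [h]
  simp only [Finset.sum_apply, Pi.smul_apply, smul_eq_mul]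

/-- A class function whose coefficients on the relevant characters are proportional to the
degrees is constant off the identity of the subgroup. -/
theorem const_on_subgroup (K : Subgroup N) (β : N → ℂ) (hβ : IsClassFunction N β) (q : ℂ)
    (hq : ∀ ξ ∈ relSet K, classInner β ξ = q * ξ 1) {k : N} (hk : k ∈ K) (hk1 : k ≠ 1) :
    β k = β 1 - q * (Nat.card N : ℂ) := by
  have hdec := classFunction_eq_sum β hβ
  have hterm : ∀ θ : IrrCharacter N,
      (classInner β (θ : N → ℂ) - q * (θ : N → ℂ) 1) * (θ : N → ℂ) k =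
        (classInner β (θ : N → ℂ) - q * (θ : N → ℂ) 1) * (θ : N → ℂ) 1 := by
    intro θ
    by_cases hθ : (θ : N → ℂ) ∈ relSet K
    · rw [hq _ hθ, sub_self, zero_mul, zero_mul]
    · rw [apply_eq_of_not_mem_relSet θ.2 hθ hk]
  have h1 : β k = ∑ θ : IrrCharacter N, classInner β (θ : N → ℂ) * (θ : N → ℂ) k := by
    conv_lhs => rw [hdec]
    simp only [Finset.sum_apply, Pi.smul_apply, smul_eq_mul]
  have h2 : β 1 = ∑ θ : IrrCharacter N, classInner β (θ : N → ℂ) * (θ : N → ℂ) 1 := by
    conv_lhs => rw [hdec]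
    simp only [Finset.sum_apply, Pi.smul_apply, smul_eq_mul]
  have h3 : ∑ θ : IrrCharacter N, (classInner β (θ : N → ℂ) - q * (θ : N → ℂ) 1) * (θ : N → ℂ) k
      = β k := by
    rw [h1]
    have := sum_degree_mul_apply (N := N) hk1
    simp only [sub_mul, Finset.sum_sub_distrib]
    rw [sub_eq_self]
    simp only [mul_assoc]
    rw [← Finset.mul_sum, this, mul_zero]
  have h4 : ∑ θ : IrrCharacter N, (classInner β (θ : N → ℂ) - q * (θ : N → ℂ) 1) * (θ : N → ℂ) 1
      = β 1 - q * (Nat.card N : ℂ) := by
    rw [h2, ← sum_sq_degree (G := N)]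
    simp only [sub_mul, Finset.sum_sub_distrib]
    congr 1
    rw [Finset.mul_sum]
    apply Finset.sum_congr rfl
    intro θ _
    ring
  rw [← h3, ← h4]
  exact Finset.sum_congr rfl (fun θ _ => hterm θ)

end Cfsg.Agent.Lib.helper3.Tifn
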