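import Mathlib
import Cfsg.Prelude.Def_OddOrderChar
import Cfsg.Agent.Lib.helper3.Tifn1

set_option autoImplicit false
set_option linter.style.haveILetI false
set_option linter.unusedSectionVars false

/-!
# Relevant characters: sums over the subgroup and an integrality statement
-/

namespace Cfsg.Agent.Lib.helper3.Tifn

open Cfsg Module Cfsg.Agent.Lib.helper3.CharBasic Cfsg.Agent.Lib.helper3.IndFun
open Cfsg.Agent.Lib.helper3.Irr Cfsg.Agent.Lib.helper3.Coh
open scoped ComplexConjugate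

variable {N : Type*} [Group N] [Fintype N]

/-- The values of a nonprincipal irreducible character add up to zero. -/
theorem sum_irr_eq_zero {φ : N → ℂ} (hφ : IsIrrCharacter N φ) (hφ1 : φ ≠ fun _ => 1) :
    ∑ n : N, φ n = 0 := by
  have h := irr_classInner_eq hφ (isIrrCharacter_one (G := N))
  rw [if_neg hφ1, classInner_apply] at h
  have hN : (Nat.card N : ℂ) ≠ 0 := card_ne_zero_complex N
  have h2 : ∑ n : N, φ n * conj ((fun _ : N => (1 : ℂ)) n) = 0 := by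
    rcases mul_eq_zero.mp h with h | h
    · exact absurd (inv_eq_zero.mp h) hN
    · exact h
  simpa using h2

section frob

variable (K : Subgroup N) [hKn : K.Normal]
  (hC : ∀ n ∈ K, n ≠ 1 → Subgroup.centralizer ({n} : Set N) ≤ K)

include hC in
/-- The values of a relevant character on the subgroup add up to zero. -/
theorem sum_subgroup_eq_zero [Fintype K] {ξ : N → ℂ} (h : ξ ∈ relSet K) :
    ∑ k : K, ξ (k : N) = 0 := by
  obtain ⟨φ, hφ, hφ1, rfl⟩ := exists_eq_indFun K hC h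
  have h1 : ∀ k : K, indFun K φ (k : N) =
      (Nat.card K : ℂ)⁻¹ * ∑ x : N, Cfsg.Agent.Lib.helper3.Irr.conjFun K φ x k :=
    fun k => indFun_normal_apply K φ k
  simp_rw [h1]
  rw [← Finset.mul_sum, Finset.sum_comm]
  have h2 : ∀ x : N, ∑ k : K, Cfsg.Agent.Lib.helper3.Irr.conjFun K φ x k = 0 := by
    intro x
    rw [conjFun_eq_comp]
    rw [Fintype.sum_equiv (MulAut.conjNormal x : K ≃* K).toEquiv
      (fun k : K => φ (MulAut.conjNormal x k)) (fun k : K => φ k) (fun k => rfl)]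
    have := sum_irr_eq_zero hφ hφ1
    convert this
  simp_rw [h2]
  simp

include hC in
/-- If `c` times each relevant degree is an integer, so is `c` times the index. -/
theorem exists_int_mul_index (c : ℂ) (hS : (relSet K).Nonempty)
    (hc : ∀ χ ∈ relSet K, ∃ z : ℤ, c * χ 1 = z) : ∃ m : ℤ, c * (K.index : ℂ) = m := by
  classical
  letI : Fintype K := Fintype.ofFinite K
  obtain ⟨r, hr⟩ : ∃ r : ℂ, r = c * (K.index : ℂ) := ⟨_, rfl⟩
  rw [← hr]
  have hz : ∀ φ : IrrCharacter K, ∃ z : ℤ, (φ : K → ℂ) ≠ (fun _ => 1) →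
      r * (φ : K → ℂ) 1 = z := by
    intro φ
    by_cases h1 : (φ : K → ℂ) = fun _ => 1
    · exact ⟨0, fun h => absurd h1 h⟩
    · obtain ⟨z, hz⟩ := hc _ (indFun_mem_relSet K hC φ.2 h1)
      refine ⟨z, fun _ => ?_⟩
      rw [← hz, indFun_apply_one, hr]
      ring
  choose z hz using hz
  have hdeg : ∀ φ : IrrCharacter K, ∃ d : ℕ, (φ : K → ℂ) 1 = d ∧ d ∣ Nat.card K := by
    intro φ
    obtain ⟨d, hd1, hd2, -⟩ := Cfsg.Agent.Lib.helper3.Central.irr_degree_dvd_card φ.2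
    exact ⟨d, hd1, hd2⟩
  choose d hd hdvd using hdeg
  obtain ⟨one, hone⟩ : ∃ one : IrrCharacter K, (one : K → ℂ) = fun _ => 1 :=
    ⟨⟨fun _ => 1, isIrrCharacter_one⟩, rfl⟩
  -- a nonprincipal irreducible character
  obtain ⟨χ, hχ⟩ := hS
  obtain ⟨φ₀f, hφ₀, hφ₀1, -⟩ := exists_eq_indFun K hC hχ
  obtain ⟨φ₀, hφ₀e⟩ : ∃ φ₀ : IrrCharacter K, (φ₀ : K → ℂ) = φ₀f := ⟨⟨φ₀f, hφ₀⟩, rfl⟩
  have hφ₀ne : (φ₀ : K → ℂ) ≠ fun _ => 1 := by rw [hφ₀e]; exact hφ₀1
  obtain ⟨t, ht⟩ := hdvd φ₀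
  -- `r |K|` is an integer
  have hA : r * (Nat.card K : ℂ) = ((z φ₀ * (t : ℤ) : ℤ) : ℂ) := by
    rw [ht]
    push_cast
    rw [← hz φ₀ hφ₀ne, hd φ₀]
    ring
  -- `r (|K| - 1)` is an integer
  have hsq := sum_sq_degree (G := K)
  rw [← Finset.add_sum_erase Finset.univ _ (Finset.mem_univ one), hone] at hsq
  have hB : r * ((Nat.card K : ℂ) - 1) =
      ((∑ φ ∈ Finset.univ.erase one, z φ * (d φ : ℤ) : ℤ) : ℂ) := by
    have h1 : (Nat.card K : ℂ) - 1 = ∑ φ ∈ Finset.univ.erase one, (φ : K → ℂ) 1 ^ 2 := by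
      rw [← hsq]; ring
    rw [h1, Finset.mul_sum]
    push_cast
    apply Finset.sum_congr rfl
    intro φ hφ
    have hne : (φ : K → ℂ) ≠ fun _ => 1 := by
      intro h
      apply (Finset.mem_erase.mp hφ).1
      apply Subtype.ext
      rw [h, hone]
    rw [← hz φ hne, hd φ]
    ring
  refine ⟨z φ₀ * (t : ℤ) - ∑ φ ∈ Finset.univ.erase one, z φ * (d φ : ℤ), ?_⟩
  rw [Int.cast_sub, ← hA, ← hB]
  ring

end frob

end Cfsg.Agent.Lib.helper3.Tifn
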