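import Mathlib
import Cfsg.Prelude.Def_OddOrderChar
import Cfsg.Agent.Lib.helper3.Tifn2
import Cfsg.Agent.Lib.helper3.IndFunTI

set_option autoImplicit false
set_option linter.style.haveILetI false
set_option linter.unusedSectionVars false

/-!
# Relevant characters: constancy from orthogonality, and generalized characters
-/

namespace Cfsg.Agent.Lib.helper3.Tifn

open Cfsg Module Cfsg.Agent.Lib.helper3.CharBasic Cfsg.Agent.Lib.helper3.IndFun
open Cfsg.Agent.Lib.helper3.Irr Cfsg.Agent.Lib.helper3.Coh
open scoped ComplexConjugate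

section general

variable {G : Type*} [Group G]

/-- The value at the identity of a generalized character is an integer. -/
theorem exists_int_apply_one {θ : G → ℂ} (hθ : IsGeneralizedCharacter G θ) :
    ∃ z : ℤ, θ 1 = z := by
  obtain ⟨χ₁, χ₂, h₁, h₂, rfl⟩ := hθ
  obtain ⟨n₁, hn₁⟩ := exists_nat_apply_one h₁
  obtain ⟨n₂, hn₂⟩ := exists_nat_apply_one h₂
  refine ⟨(n₁ : ℤ) - (n₂ : ℤ), ?_⟩
  rw [Pi.sub_apply, hn₁, hn₂]
  push_cast
  rfl

/-- The restriction of a generalized character is a generalized character. -/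
theorem isGeneralizedCharacter_restrict {θ : G → ℂ} (hθ : IsGeneralizedCharacter G θ)
    (H : Subgroup G) : IsGeneralizedCharacter H (fun h : H => θ h) := by
  obtain ⟨χ₁, χ₂, h₁, h₂, rfl⟩ := hθ
  exact ⟨_, _, isCharacter_restrict h₁ H, isCharacter_restrict h₂ H, rfl⟩

/-- A generalized character is a class function. -/
theorem isClassFunction_of_isGeneralizedCharacter {θ : G → ℂ}
    (hθ : IsGeneralizedCharacter G θ) : IsClassFunction G θ := by
  obtain ⟨χ₁, χ₂, h₁, h₂, rfl⟩ := hθ
  intro g h
  rw [Pi.sub_apply, Pi.sub_apply, isClassFunction_of_isCharacter h₁ g h,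
    isClassFunction_of_isCharacter h₂ g h]

end general

variable {N : Type*} [Group N] [Fintype N]

/-- A class function orthogonal to the degree-zero two-term combinations of the relevant
characters is constant off the identity of the subgroup. -/
theorem const_of_ortho (K : Subgroup N) (β : N → ℂ) (hβ : IsClassFunction N β) {ξ₀ : N → ℂ}
    (hξ₀ : ξ₀ ∈ relSet K)
    (h : ∀ ξ ∈ relSet K, ξ₀ 1 * classInner β ξ = ξ 1 * classInner β ξ₀) {k : N} (hk : k ∈ K)
    (hk1 : k ≠ 1) :
    β k = β 1 - (classInner β ξ₀ / ξ₀ 1) * (Nat.card N : ℂ) := by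
  have h0 : ξ₀ 1 ≠ 0 := apply_one_ne_zero hξ₀.1
  apply const_on_subgroup K β hβ _ _ hk hk1
  intro ξ hξ
  have := h ξ hξ
  field_simp
  linear_combination this

end Cfsg.Agent.Lib.helper3.Tifn
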