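import Mathlib
import Cfsg.Prelude.Def_OddOrderChar
import Cfsg.Agent.Lib.helper3.Tifn3

set_option autoImplicit false
set_option linter.style.haveILetI false
set_option linter.unusedSectionVars false

/-!
# A trivial-intersection subgroup with Frobenius normalizer and a coherent isometry
-/

namespace Cfsg.Agent.Lib.helper3.Tifn

open Cfsg Module Cfsg.Agent.Lib.helper3.CharBasic Cfsg.Agent.Lib.helper3.IndFun
open Cfsg.Agent.Lib.helper3.Irr Cfsg.Agent.Lib.helper3.Coh Cfsg.Agent.Lib.helper3.IndFunTI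
open scoped ComplexConjugate

variable {G : Type*} [Group G] [Fintype G] (K : Subgroup G)

/-- The centralizer condition inside the normalizer. -/
theorem centralizer_le_subgroupOf
    (hC : ∀ k ∈ K, k ≠ 1 → Subgroup.centralizer ({k} : Set G) ≤ K) :
    ∀ n ∈ K.subgroupOf (Subgroup.normalizer (K : Set G)), n ≠ 1 →
      Subgroup.centralizer ({n} : Set ↥(Subgroup.normalizer (K : Set G))) ≤
        K.subgroupOf (Subgroup.normalizer (K : Set G)) := by
  intro n hn hn1 y hy
  rw [Subgroup.mem_subgroupOf] at hn ⊢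
  apply hC (n : G) hn (fun h => hn1 (Subtype.ext h))
  rw [Subgroup.mem_centralizer_iff] at hy ⊢
  intro z hz
  rw [Set.mem_singleton_iff] at hz
  rw [hz]
  have := hy n rfl
  exact congrArg Subtype.val this

section main

variable (hTI : ∀ g : G, g ∉ Subgroup.normalizer (K : Set G) → ∀ k ∈ K, g * k * g⁻¹ ∈ K → k = 1)
  (hC : ∀ k ∈ K, k ≠ 1 → Subgroup.centralizer ({k} : Set G) ≤ K)
  [Fintype ↥(Subgroup.normalizer (K : Set G))]
  (star : (↥(Subgroup.normalizer (K : Set G)) → ℂ) → (G → ℂ))
  (hstar : IsLinearIsometryOn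
    (zspan (relSet (K.subgroupOf (Subgroup.normalizer (K : Set G))))) star)
  (hext : ∀ α ∈ zspanOn (relSet (K.subgroupOf (Subgroup.normalizer (K : Set G))))
    ({1}ᶜ : Set ↥(Subgroup.normalizer (K : Set G))),
    star α = indFun (Subgroup.normalizer (K : Set G)) α)

include hC in
/-- A two-term combination of relevant characters vanishes off the subgroup. -/
theorem comb_apply_eq_zero {ξ ξ' : ↥(Subgroup.normalizer (K : Set G)) → ℂ}
    (hξ : ξ ∈ relSet (K.subgroupOf (Subgroup.normalizer (K : Set G))))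
    (hξ' : ξ' ∈ relSet (K.subgroupOf (Subgroup.normalizer (K : Set G)))) (a b : ℤ)
    (x : ↥(Subgroup.normalizer (K : Set G))) (hx : (x : G) ∉ K) : (a • ξ + b • ξ') x = 0 := by
  have hCn := centralizer_le_subgroupOf K hC
  rw [comb_apply,
    apply_eq_zero_of_not_mem (K.subgroupOf (Subgroup.normalizer (K : Set G))) hCn hξ
      (fun h => hx (Subgroup.mem_subgroupOf.mp h)),
    apply_eq_zero_of_not_mem (K.subgroupOf (Subgroup.normalizer (K : Set G))) hCn hξ'
      (fun h => hx (Subgroup.mem_subgroupOf.mp h))]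
  ring

/-- A two-term combination of relevant characters is a class function. -/
theorem comb_isClassFunction {ξ ξ' : ↥(Subgroup.normalizer (K : Set G)) → ℂ}
    (hξ : ξ ∈ relSet (K.subgroupOf (Subgroup.normalizer (K : Set G))))
    (hξ' : ξ' ∈ relSet (K.subgroupOf (Subgroup.normalizer (K : Set G)))) (a b : ℤ) :
    IsClassFunction ↥(Subgroup.normalizer (K : Set G)) (a • ξ + b • ξ') := by
  intro g h
  rw [comb_apply, comb_apply,
    isClassFunction_of_isCharacter (isCharacter_of_isIrrCharacter hξ.1) g h,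
    isClassFunction_of_isCharacter (isCharacter_of_isIrrCharacter hξ'.1) g h]

/-- A two-term combination of relevant characters of degree zero lies in the domain. -/
theorem comb_mem_zspanOn {ξ ξ' : ↥(Subgroup.normalizer (K : Set G)) → ℂ}
    (hξ : ξ ∈ relSet (K.subgroupOf (Subgroup.normalizer (K : Set G))))
    (hξ' : ξ' ∈ relSet (K.subgroupOf (Subgroup.normalizer (K : Set G)))) (a b : ℤ)
    (h1 : (a : ℂ) * ξ 1 + (b : ℂ) * ξ' 1 = 0) :
    (a • ξ + b • ξ') ∈ zspanOn (relSet (K.subgroupOf (Subgroup.normalizer (K : Set G))))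
      ({1}ᶜ : Set ↥(Subgroup.normalizer (K : Set G))) := by
  rw [mem_zspanOn_one_iff]
  refine ⟨zspan_add (zspan_zsmul _ (mem_zspan_of_mem hξ)) (zspan_zsmul _ (mem_zspan_of_mem hξ')),
    ?_⟩
  rw [comb_apply]
  exact h1

include hstar in
/-- Linearity of the isometry on two-term combinations. -/
theorem star_comb {ξ ξ' : ↥(Subgroup.normalizer (K : Set G)) → ℂ}
    (hξ : ξ ∈ relSet (K.subgroupOf (Subgroup.normalizer (K : Set G))))
    (hξ' : ξ' ∈ relSet (K.subgroupOf (Subgroup.normalizer (K : Set G)))) (a b : ℤ) :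
    star (a • ξ + b • ξ') = a • star ξ + b • star ξ' := by
  rw [hstar.1 _ (zspan_zsmul _ (mem_zspan_of_mem hξ)) _ (zspan_zsmul _ (mem_zspan_of_mem hξ')),
    hstar.2.1 _ (mem_zspan_of_mem hξ), hstar.2.1 _ (mem_zspan_of_mem hξ')]

include hTI hC hstar hext in
/-- On the nonidentity elements of the subgroup, the isometry agrees with the identity on
two-term combinations of degree zero. -/
theorem star_comb_apply {ξ ξ' : ↥(Subgroup.normalizer (K : Set G)) → ℂ}
    (hξ : ξ ∈ relSet (K.subgroupOf (Subgroup.normalizer (K : Set G))))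
    (hξ' : ξ' ∈ relSet (K.subgroupOf (Subgroup.normalizer (K : Set G)))) (a b : ℤ)
    (h1 : (a : ℂ) * ξ 1 + (b : ℂ) * ξ' 1 = 0)
    (k : ↥(Subgroup.normalizer (K : Set G))) (hk : (k : G) ∈ K) (hk1 : k ≠ 1) :
    (a : ℂ) * star ξ (k : G) + (b : ℂ) * star ξ' (k : G) = (a : ℂ) * ξ k + (b : ℂ) * ξ' k := by
  have hmem := comb_mem_zspanOn K hξ hξ' a b h1
  have h2 := hext _ hmem
  rw [star_comb K star hstar hξ hξ'] at h2
  have h3 := congrFun h2 (k : G)
  rw [comb_apply, indFun_TI_apply (K : Set G) hTI _ (comb_isClassFunction K hξ hξ' a b)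
    (comb_apply_eq_zero K hC hξ hξ' a b) k hk hk1, comb_apply] at h3
  exact h3

include hTI hC hstar hext in
/-- The differences `star χ - χ` on the nonidentity elements of the subgroup are proportional to
the degrees. -/
theorem proportional {χ ξ : ↥(Subgroup.normalizer (K : Set G)) → ℂ}
    (hχ : χ ∈ relSet (K.subgroupOf (Subgroup.normalizer (K : Set G))))
    (hξ : ξ ∈ relSet (K.subgroupOf (Subgroup.normalizer (K : Set G))))
    (k : ↥(Subgroup.normalizer (K : Set G))) (hk : (k : G) ∈ K) (hk1 : k ≠ 1) :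
    ξ 1 * (star χ (k : G) - χ k) = χ 1 * (star ξ (k : G) - ξ k) := by
  obtain ⟨c, -, hc⟩ := exists_pos_nat_apply_one hχ.1
  obtain ⟨e, -, he⟩ := exists_pos_nat_apply_one hξ.1
  have h := star_comb_apply K hTI hC star hstar hext hχ hξ (e : ℤ) (-(c : ℤ))
    (by rw [hc, he]; push_cast; ring) k hk hk1
  rw [hc, he]
  push_cast at h
  linear_combination h

end main

end Cfsg.Agent.Lib.helper3.Tifn
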