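import Mathlib
import Cfsg.Prelude.Def_OddOrderChar
import Cfsg.Agent.Lib.helper3.Tifn4

set_option autoImplicit false
set_option linter.style.haveILetI false
set_option linter.unusedSectionVars false

/-!
# A trivial-intersection subgroup with Frobenius normalizer: values on the subgroup
-/

namespace Cfsg.Agent.Lib.helper3.Tifn

open Cfsg Module Cfsg.Agent.Lib.helper3.CharBasic Cfsg.Agent.Lib.helper3.IndFun
open Cfsg.Agent.Lib.helper3.Irr Cfsg.Agent.Lib.helper3.Coh Cfsg.Agent.Lib.helper3.IndFunTI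
open scoped ComplexConjugate

variable {G : Type*} [Group G] [Fintype G] (K : Subgroup G)

section main

variable (hTI : ∀ g : G, g ∉ Subgroup.normalizer (K : Set G) → ∀ k ∈ K, g * k * g⁻¹ ∈ K → k = 1)
  (hC : ∀ k ∈ K, k ≠ 1 → Subgroup.centralizer ({k} : Set G) ≤ K)
  [Fintype ↥(Subgroup.normalizer (K : Set G))]
  (star : (↥(Subgroup.normalizer (K : Set G)) → ℂ) → (G → ℂ))
  (hstar : IsLinearIsometryOn
    (zspan (relSet (K.subgroupOf (Subgroup.normalizer (K : Set G))))) star)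
  (hext : ∀ α ∈ zspanOn (relSet (K.subgroupOf (Subgroup.normalizer (K : Set G))))
    ({1}ᶜ : Set ↥(Subgroup.normalizer (K : Set G))),
    star α = indFun (Subgroup.normalizer (K : Set G)) α)

include hext in
/-- The restriction to the normalizer of a class function suitably orthogonal to the image of the
isometry is constant on the nonidentity elements of the subgroup. -/
theorem restrict_const (Φ : G → ℂ) (hΦ : IsClassFunction G Φ)
    (γ : ↥(Subgroup.normalizer (K : Set G)) → ℂ)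
    (hγ : IsClassFunction ↥(Subgroup.normalizer (K : Set G)) γ)
    (hortho : ∀ ξ ∈ relSet (K.subgroupOf (Subgroup.normalizer (K : Set G))),
      ∀ ξ' ∈ relSet (K.subgroupOf (Subgroup.normalizer (K : Set G))), ∀ a b : ℤ,
      (a : ℂ) * ξ 1 + (b : ℂ) * ξ' 1 = 0 →
        classInner (star (a • ξ + b • ξ')) Φ = classInner (a • ξ + b • ξ') γ)
    {ξ₀ : ↥(Subgroup.normalizer (K : Set G)) → ℂ}
    (hξ₀ : ξ₀ ∈ relSet (K.subgroupOf (Subgroup.normalizer (K : Set G))))
    (k : ↥(Subgroup.normalizer (K : Set G))) (hk : (k : G) ∈ K) (hk1 : k ≠ 1) :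
    Φ (k : G) - γ k = (Φ 1 - γ 1) -
      (classInner ((fun n : ↥(Subgroup.normalizer (K : Set G)) => Φ (n : G)) - γ) ξ₀ / ξ₀ 1) *
        (Nat.card ↥(Subgroup.normalizer (K : Set G)) : ℂ) := by
  obtain ⟨β, hβ⟩ : ∃ β : ↥(Subgroup.normalizer (K : Set G)) → ℂ,
      β = (fun n : ↥(Subgroup.normalizer (K : Set G)) => Φ (n : G)) - γ := ⟨_, rfl⟩
  rw [← hβ]
  have hβcf : IsClassFunction ↥(Subgroup.normalizer (K : Set G)) β := by
    intro g h
    rw [hβ, Pi.sub_apply, Pi.sub_apply, hγ g h]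
    congr 1
    exact hΦ (g : G) (h : G)
  have hkey : ∀ ξ ∈ relSet (K.subgroupOf (Subgroup.normalizer (K : Set G))),
      ξ₀ 1 * classInner β ξ = ξ 1 * classInner β ξ₀ := by
    intro ξ hξ
    obtain ⟨n₀, -, hn₀⟩ := exists_pos_nat_apply_one hξ₀.1
    obtain ⟨n, -, hn⟩ := exists_pos_nat_apply_one hξ.1
    have h1 : ((n₀ : ℤ) : ℂ) * ξ 1 + ((-(n : ℤ) : ℤ) : ℂ) * ξ₀ 1 = 0 := by
      rw [hn, hn₀]; push_cast; ring
    have hmem := comb_mem_zspanOn K hξ hξ₀ (n₀ : ℤ) (-(n : ℤ)) h1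
    have h2 := hortho ξ hξ ξ₀ hξ₀ (n₀ : ℤ) (-(n : ℤ)) h1
    rw [hext _ hmem, frobenius_reciprocity _ _ Φ hΦ] at h2
    have h3 : classInner ((n₀ : ℤ) • ξ + (-(n : ℤ)) • ξ₀) β = 0 := by
      rw [hβ, classInner_sub_right, h2, sub_self]
    rw [classInner_add_left, classInner_zsmul_left, classInner_zsmul_left] at h3
    have h4 := congrArg conj h3
    rw [map_add, map_mul, map_mul, classInner_conj_symm, classInner_conj_symm, map_intCast,
      map_intCast, map_zero] at h4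
    rw [hn, hn₀]
    push_cast at h4
    linear_combination h4
  have := const_of_ortho (K.subgroupOf (Subgroup.normalizer (K : Set G))) β hβcf hξ₀ hkey
    (Subgroup.mem_subgroupOf.mpr hk) hk1
  have e1 : β k = Φ (k : G) - γ k := by rw [hβ]; rfl
  have e2 : β 1 = Φ 1 - γ 1 := by rw [hβ]; rfl
  rw [← e1, ← e2]
  exact this

include hstar hext in
/-- The difference `star χ - χ` is a constant integer on the nonidentity elements of the
subgroup. -/
theorem exists_int_const {χ : ↥(Subgroup.normalizer (K : Set G)) → ℂ}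
    (hχ : χ ∈ relSet (K.subgroupOf (Subgroup.normalizer (K : Set G)))) :
    ∃ M : ℤ, ∀ k : ↥(Subgroup.normalizer (K : Set G)), (k : G) ∈ K → k ≠ 1 →
      star χ (k : G) - χ k = M := by
  have hgen : IsGeneralizedCharacter G (star χ) := hstar.2.2.2 χ (mem_zspan_of_mem hχ)
  have hχcf := isClassFunction_of_isCharacter (isCharacter_of_isIrrCharacter hχ.1)
  have hortho : ∀ ξ ∈ relSet (K.subgroupOf (Subgroup.normalizer (K : Set G))),
      ∀ ξ' ∈ relSet (K.subgroupOf (Subgroup.normalizer (K : Set G))), ∀ a b : ℤ,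
      (a : ℂ) * ξ 1 + (b : ℂ) * ξ' 1 = 0 →
        classInner (star (a • ξ + b • ξ')) (star χ) = classInner (a • ξ + b • ξ') χ := by
    intro ξ hξ ξ' hξ' a b _
    exact hstar.2.2.1 _ (zspan_add (zspan_zsmul _ (mem_zspan_of_mem hξ))
      (zspan_zsmul _ (mem_zspan_of_mem hξ'))) _ (mem_zspan_of_mem hχ)
  have hmain := restrict_const K star hext (star χ)
    (isClassFunction_of_isGeneralizedCharacter hgen) χ hχcf hortho hχ
  obtain ⟨z₁, hz₁⟩ := exists_int_apply_one hgen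
  obtain ⟨d, hd, hdvd, hdpos⟩ := Cfsg.Agent.Lib.helper3.Central.irr_degree_dvd_card hχ.1
  have hβgen : IsGeneralizedCharacter ↥(Subgroup.normalizer (K : Set G))
      ((fun n : ↥(Subgroup.normalizer (K : Set G)) => star χ (n : G)) - χ) :=
    GenChar.sub (isGeneralizedCharacter_restrict hgen _) (GenChar.of_isIrrCharacter hχ.1)
  obtain ⟨z₂, hz₂⟩ := exists_int_classInner hβgen (GenChar.of_isIrrCharacter hχ.1)
  obtain ⟨t, ht⟩ := hdvd
  refine ⟨z₁ - (d : ℤ) - z₂ * (t : ℤ), ?_⟩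
  intro k hk hk1
  rw [hmain k hk hk1, hz₂, hz₁, hd, ht]
  have hd0 : (d : ℂ) ≠ 0 := Nat.cast_ne_zero.mpr hdpos.ne'
  push_cast
  field_simp

include hTI hC hstar hext in
/-- There is a single integer `m` with `star χ k - χ k = m χ(1) / e`. -/
theorem exists_int_difference
    (hne : (relSet (K.subgroupOf (Subgroup.normalizer (K : Set G)))).Nonempty) :
    ∃ m : ℤ, ∀ χ ∈ relSet (K.subgroupOf (Subgroup.normalizer (K : Set G))),
      ∀ k : ↥(Subgroup.normalizer (K : Set G)), (k : G) ∈ K → k ≠ 1 →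
        star χ (k : G) - χ k = (m : ℂ) * χ 1 /
          ((K.subgroupOf (Subgroup.normalizer (K : Set G))).index : ℂ) := by
  have hCn := centralizer_le_subgroupOf K hC
  -- the constants
  have hM : ∀ χ : ↥(Subgroup.normalizer (K : Set G)) → ℂ, ∃ M : ℤ,
      χ ∈ relSet (K.subgroupOf (Subgroup.normalizer (K : Set G))) →
      ∀ k : ↥(Subgroup.normalizer (K : Set G)), (k : G) ∈ K → k ≠ 1 →
        star χ (k : G) - χ k = M := by
    intro χ
    by_cases hχ : χ ∈ relSet (K.subgroupOf (Subgroup.normalizer (K : Set G)))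
    · obtain ⟨M, hM⟩ := exists_int_const K star hstar hext hχ
      exact ⟨M, fun _ => hM⟩
    · exact ⟨0, fun h => absurd h hχ⟩
  choose M hM using hM
  -- a nonidentity element of the subgroup
  have hk₀ : ∃ k : ↥(Subgroup.normalizer (K : Set G)), (k : G) ∈ K ∧ k ≠ 1 := by
    obtain ⟨χ, hχ⟩ := hne
    obtain ⟨-, k, hk, hne'⟩ := hχ
    exact ⟨k, Subgroup.mem_subgroupOf.mp hk, fun h => hne' (by rw [h])⟩
  obtain ⟨k₀, hk₀K, hk₀1⟩ := hk₀
  obtain ⟨χ₀, hχ₀⟩ := hne
  have hχ₀1 : χ₀ 1 ≠ 0 := apply_one_ne_zero hχ₀.1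
  obtain ⟨c, hc⟩ : ∃ c : ℂ, c = (M χ₀ : ℂ) / χ₀ 1 := ⟨_, rfl⟩
  have hcM : ∀ χ ∈ relSet (K.subgroupOf (Subgroup.normalizer (K : Set G))),
      c * χ 1 = (M χ : ℂ) := by
    intro χ hχ
    have h1 := proportional K hTI hC star hstar hext hχ₀ hχ k₀ hk₀K hk₀1
    rw [hM χ₀ hχ₀ k₀ hk₀K hk₀1, hM χ hχ k₀ hk₀K hk₀1] at h1
    rw [hc]
    field_simp
    linear_combination h1
  obtain ⟨m, hm⟩ := exists_int_mul_index (K.subgroupOf (Subgroup.normalizer (K : Set G))) hCn c
    ⟨χ₀, hχ₀⟩ (fun χ hχ => ⟨M χ, hcM χ hχ⟩)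
  refine ⟨m, ?_⟩
  intro χ hχ k hk hk1
  have he : ((K.subgroupOf (Subgroup.normalizer (K : Set G))).index : ℂ) ≠ 0 := by
    have : (K.subgroupOf (Subgroup.normalizer (K : Set G))).index ≠ 0 :=
      Subgroup.index_ne_zero_of_finite
    exact Nat.cast_ne_zero.mpr this
  rw [hM χ hχ k hk hk1, ← hcM χ hχ, ← hm]
  field_simp

end main

end Cfsg.Agent.Lib.helper3.Tifn
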