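import Mathlib
import Cfsg.Prelude.Def_OddOrderChar
import Cfsg.Agent.Lib.helper3.Tifn5
import Cfsg.Agent.Lib.helper3.GenChar

set_option autoImplicit false
set_option linter.style.haveILetI false
set_option linter.unusedSectionVars false

/-!
# The test function `Ind 1 - ξ₀` on a group with a Frobenius-kernel-like normal subgroup
-/

namespace Cfsg.Agent.Lib.helper3.FP

open Cfsg Module Cfsg.Agent.Lib.helper3.CharBasic Cfsg.Agent.Lib.helper3.IndFun
open Cfsg.Agent.Lib.helper3.Irr Cfsg.Agent.Lib.helper3.Coh Cfsg.Agent.Lib.helper3.Tifn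
open scoped ComplexConjugate

variable {N : Type*} [Group N] [Fintype N] (K : Subgroup N) [hKn : K.Normal]

/-- The function induced from the principal character of a normal subgroup. -/
theorem indFun_one_apply_of_mem {k : N} (hk : k ∈ K) :
    indFun K (fun _ => (1 : ℂ)) k = (K.index : ℂ) := by
  have h := indFun_normal_apply K (fun _ => (1 : ℂ)) ⟨k, hk⟩
  rw [h]
  have h1 : ∀ x : N, Cfsg.Agent.Lib.helper3.Irr.conjFun K (fun _ => (1 : ℂ)) x ⟨k, hk⟩ = 1 :=
    fun x => rfl
  simp only [h1, Finset.sum_const, Finset.card_univ, nsmul_eq_mul, mul_one]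
  rw [← Nat.card_eq_fintype_card, ← K.card_mul_index]
  have hK : (Nat.card K : ℂ) ≠ 0 := card_ne_zero_complex K
  push_cast
  field_simp

/-- The test function. -/
noncomputable def alpha0 (ξ₀ : N → ℂ) : N → ℂ := indFun K (fun _ => (1 : ℂ)) - ξ₀

theorem isGeneralizedCharacter_alpha0 {ξ₀ : N → ℂ} (hξ₀ : IsIrrCharacter N ξ₀) :
    IsGeneralizedCharacter N (alpha0 K ξ₀) :=
  GenChar.sub (GenChar.of_isCharacter (isCharacter_indFun K _ isCharacter_one))
    (GenChar.of_isIrrCharacter hξ₀)

theorem isClassFunction_alpha0 {ξ₀ : N → ℂ} (hξ₀ : IsIrrCharacter N ξ₀) :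
    IsClassFunction N (alpha0 K ξ₀) :=
  isClassFunction_of_isGeneralizedCharacter (isGeneralizedCharacter_alpha0 K hξ₀)

theorem alpha0_apply_of_mem (ξ₀ : N → ℂ) {k : N} (hk : k ∈ K) :
    alpha0 K ξ₀ k = (K.index : ℂ) - ξ₀ k := by
  unfold alpha0
  rw [Pi.sub_apply, indFun_one_apply_of_mem K hk]

section frob

variable (hC : ∀ n ∈ K, n ≠ 1 → Subgroup.centralizer ({n} : Set N) ≤ K)

include hC in
theorem alpha0_apply_of_not_mem {ξ₀ : N → ℂ} (hξ₀ : ξ₀ ∈ relSet K) {n : N} (hn : n ∉ K) :
    alpha0 K ξ₀ n = 0 := by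
  unfold alpha0
  rw [Pi.sub_apply, indFun_normal_apply_of_not_mem K _ hn,
    apply_eq_zero_of_not_mem K hC hξ₀ hn, sub_zero]

theorem alpha0_one {ξ₀ : N → ℂ} (h1 : ξ₀ 1 = (K.index : ℂ)) : alpha0 K ξ₀ 1 = 0 := by
  rw [alpha0_apply_of_mem K ξ₀ K.one_mem, h1, sub_self]

include hC in
/-- The inner product of the induced principal character with a relevant character vanishes. -/
theorem classInner_indFun_one_relSet {ξ : N → ℂ} (hξ : ξ ∈ relSet K) :
    classInner (indFun K (fun _ => (1 : ℂ))) ξ = 0 := by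
  classical
  letI : Fintype K := Fintype.ofFinite K
  rw [frobenius_reciprocity K _ ξ (isClassFunction_of_isCharacter
    (isCharacter_of_isIrrCharacter hξ.1)), classInner_apply]
  have h := sum_subgroup_eq_zero K hC hξ
  have h2 : ∑ k : K, (fun _ : K => (1 : ℂ)) k * conj (ξ (k : N)) = conj (∑ k : K, ξ (k : N)) := by
    rw [map_sum]
    apply Finset.sum_congr rfl
    intro k _
    rw [one_mul]
  rw [h2, h, map_zero, mul_zero]

include hC in
/-- The inner product of the test function with the principal character. -/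
theorem classInner_alpha0_one {ξ₀ : N → ℂ} (hξ₀ : ξ₀ ∈ relSet K) :
    classInner (alpha0 K ξ₀) (fun _ => (1 : ℂ)) = 1 := by
  classical
  letI : Fintype K := Fintype.ofFinite K
  unfold alpha0
  rw [classInner_sub_left, frobenius_reciprocity K _ _ (isClassFunction_of_isCharacter
    isCharacter_one)]
  have h1 : classInner (fun _ : K => (1 : ℂ)) (fun h : K => (fun _ : N => (1 : ℂ)) (h : N)) = 1 :=
    classInner_one_one
  rw [h1]
  have hne : ξ₀ ≠ fun _ => 1 := by
    intro h
    obtain ⟨-, k, -, hk⟩ := hξ₀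
    apply hk
    rw [h]
  rw [irr_classInner_eq hξ₀.1 isIrrCharacter_one, if_neg hne, sub_zero]

include hC in
/-- The inner product of the test function with a function constant off the identity of the
subgroup. -/
theorem classInner_alpha0_const {ξ₀ : N → ℂ} (hξ₀ : ξ₀ ∈ relSet K)
    (h1 : ξ₀ 1 = (K.index : ℂ)) (β : N → ℂ) (c : ℂ)
    (hβ : ∀ k ∈ K, k ≠ 1 → β k = c) : classInner (alpha0 K ξ₀) β = conj c := by
  have h := classInner_alpha0_one K hC hξ₀
  rw [classInner_apply] at h ⊢
  have hterm : ∀ n : N, alpha0 K ξ₀ n * conj (β n) =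
      conj c * (alpha0 K ξ₀ n * conj ((fun _ : N => (1 : ℂ)) n)) := by
    intro n
    by_cases hn : n ∈ K
    · by_cases hn1 : n = 1
      · subst hn1
        rw [alpha0_one K h1]
        ring
      · rw [hβ n hn hn1]
        simp only [map_one, mul_one]
        ring
    · rw [alpha0_apply_of_not_mem K hC hξ₀ hn]
      ring
  simp_rw [hterm]
  rw [← Finset.mul_sum, mul_left_comm, h, mul_one]

include hC in
/-- The norm of the test function. -/
theorem classInner_alpha0_self {ξ₀ : N → ℂ} (hξ₀ : ξ₀ ∈ relSet K) :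
    classInner (alpha0 K ξ₀) (alpha0 K ξ₀) = (K.index : ℂ) + 1 := by
  classical
  letI : Fintype K := Fintype.ofFinite K
  have hcf := isClassFunction_alpha0 K hξ₀.1
  have hA : classInner (indFun K (fun _ => (1 : ℂ))) (alpha0 K ξ₀) = (K.index : ℂ) := by
    rw [frobenius_reciprocity K _ _ hcf, classInner_apply]
    have h2 : ∑ k : K, (fun _ : K => (1 : ℂ)) k * conj (alpha0 K ξ₀ (k : N)) =
        (Nat.card K : ℂ) * (K.index : ℂ) := by
      have : ∀ k : K, (fun _ : K => (1 : ℂ)) k * conj (alpha0 K ξ₀ (k : N)) =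
          (K.index : ℂ) - conj (ξ₀ (k : N)) := by
        intro k
        rw [alpha0_apply_of_mem K ξ₀ k.2, one_mul, map_sub, Complex.conj_natCast]
      simp_rw [this]
      rw [Finset.sum_sub_distrib, ← map_sum, sum_subgroup_eq_zero K hC hξ₀, map_zero, sub_zero]
      simp only [Finset.sum_const, Finset.card_univ, nsmul_eq_mul]
      rw [Nat.card_eq_fintype_card]
    rw [h2, ← mul_assoc, inv_mul_cancel₀ (card_ne_zero_complex K), one_mul]
  have hB : classInner ξ₀ (alpha0 K ξ₀) = -1 := by
    unfold alpha0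
    rw [classInner_sub_right, irr_classInner_self hξ₀.1, ← classInner_conj_symm,
      classInner_indFun_one_relSet K hC hξ₀, map_zero, zero_sub]
  have : classInner (alpha0 K ξ₀) (alpha0 K ξ₀) =
      classInner (indFun K (fun _ => (1 : ℂ))) (alpha0 K ξ₀) - classInner ξ₀ (alpha0 K ξ₀) := by
    conv_lhs => rw [show alpha0 K ξ₀ = indFun K (fun _ => (1 : ℂ)) - ξ₀ from rfl]
    rw [classInner_sub_left]
    rfl
  rw [this, hA, hB, sub_neg_eq_add]

end frob

end Cfsg.Agent.Lib.helper3.FP
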