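import Mathlib
import Cfsg.Prelude.Def_OddOrderChar
import Cfsg.Agent.Lib.helper3.FP2
import Cfsg.Agent.Lib.helper3.BrauerChar
import Cfsg.Agent.H2.PF6.B

set_option autoImplicit false
set_option linter.style.haveILetI false
set_option linter.unusedSectionVars false

/-!
# Induction from the normalizer of a trivial-intersection subgroup as an isometry; degree sums
-/

namespace Cfsg.Agent.Lib.helper3.FP

open Cfsg Module Cfsg.Agent.Lib.helper3.CharBasic Cfsg.Agent.Lib.helper3.IndFun
open Cfsg.Agent.Lib.helper3.Irr Cfsg.Agent.Lib.helper3.Coh Cfsg.Agent.Lib.helper3.Tifn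
open Cfsg.Agent.Lib.helper3.IndFunTI
open scoped ComplexConjugate

section ti

variable {G : Type*} [Group G] [Fintype G]

/-- Induction sends generalized characters to generalized characters. -/
theorem isGeneralizedCharacter_indFun (H : Subgroup G) {θ : H → ℂ}
    (hθ : IsGeneralizedCharacter H θ) : IsGeneralizedCharacter G (indFun H θ) := by
  obtain ⟨χ, ψ, hχ, hψ, rfl⟩ := hθ
  rw [Cfsg.Agent.Lib.helper3.BrauerInd.indFun_sub']
  exact GenChar.sub (GenChar.of_isCharacter (isCharacter_indFun H χ hχ))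
    (GenChar.of_isCharacter (isCharacter_indFun H ψ hψ))

/-- Induction principle for the integer span. -/
theorem zspan_induction {X : Type*} {S : Set (X → ℂ)} (P : (X → ℂ) → Prop) (h0 : P 0)
    (hS : ∀ χ ∈ S, P χ) (hadd : ∀ a b, P a → P b → P (a + b))
    (hsmul : ∀ (n : ℤ) a, P a → P (n • a)) {α : X → ℂ} (hα : α ∈ zspan S) : P α := by
  unfold zspan at hα
  induction hα using Submodule.span_induction with
  | mem x h => exact hS x h
  | zero => exact h0
  | add x y _ _ hx hy => exact hadd x y hx hy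
  | smul a x _ hx => exact hsmul a x hx

/-- Induction from the normalizer of a trivial-intersection subgroup is a linear isometry on
the integer combinations, vanishing at the identity, of generalized characters vanishing off
the subgroup; and the induced functions vanish at the identity. -/
theorem isLinearIsometryOn_indFun_TI (K : Subgroup G)
    (hTI : ∀ g : G, g ∉ Subgroup.normalizer (K : Set G) → ∀ k ∈ K, g * k * g⁻¹ ∈ K → k = 1)
    [Fintype ↥(Subgroup.normalizer (K : Set G))]
    (S : Set (↥(Subgroup.normalizer (K : Set G)) → ℂ))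
    (hgen : ∀ χ ∈ S, IsGeneralizedCharacter ↥(Subgroup.normalizer (K : Set G)) χ)
    (hvan : ∀ χ ∈ S, ∀ x : ↥(Subgroup.normalizer (K : Set G)), (x : G) ∉ K → χ x = 0) :
    IsLinearIsometryOn (zspanOn S ({1}ᶜ : Set ↥(Subgroup.normalizer (K : Set G))))
      (fun α => indFun (Subgroup.normalizer (K : Set G)) α) ∧
    ∀ α ∈ zspanOn S ({1}ᶜ : Set ↥(Subgroup.normalizer (K : Set G))),
      indFun (Subgroup.normalizer (K : Set G)) α 1 = 0 := by
  have hgen' : ∀ α ∈ zspan S, IsGeneralizedCharacter ↥(Subgroup.normalizer (K : Set G)) α := by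
    intro α hα
    exact zspan_induction (fun α => IsGeneralizedCharacter ↥(Subgroup.normalizer (K : Set G)) α)
      GenChar.zero hgen (fun a b ha hb => GenChar.add ha hb)
      (fun n a ha => GenChar.zsmul ha n) hα
  have hvan' : ∀ α ∈ zspan S, ∀ x : ↥(Subgroup.normalizer (K : Set G)), (x : G) ∉ K →
      α x = 0 := by
    intro α hα
    refine zspan_induction (fun α => ∀ x : ↥(Subgroup.normalizer (K : Set G)), (x : G) ∉ K →
      α x = 0) (fun x _ => rfl) hvan ?_ ?_ hα
    · intro a b ha hb x hx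
      rw [Pi.add_apply, ha x hx, hb x hx, add_zero]
    · intro n a ha x hx
      rw [Pi.smul_apply, ha x hx, smul_zero]
  have hone : ∀ α ∈ zspanOn S ({1}ᶜ : Set ↥(Subgroup.normalizer (K : Set G))), α 1 = 0 := by
    intro α hα
    exact hα.2 1 (fun h => h rfl)
  refine ⟨⟨?_, ?_, ?_, ?_⟩, ?_⟩
  · intro α _ β _
    exact indFun_add _ α β
  · intro α _ n
    show indFun _ (n • α) = n • indFun _ α
    rw [zsmul_eq_smul, zsmul_eq_smul, indFun_smul]
  · intro α hα β hβ
    exact classInner_indFun_TI (K : Set G) hTI α β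
      (isClassFunction_of_isGeneralizedCharacter (hgen' β hβ.1)) (hvan' α hα.1) (hvan' β hβ.1)
      (hone α hα)
  · intro α hα
    exact isGeneralizedCharacter_indFun _ (hgen' α hα.1)
  · intro α hα
    exact indFun_one_of_apply_one_eq_zero _ α (hone α hα)

end ti

section nlevel

variable {N : Type*} [Group N] [Fintype N] (K : Subgroup N)

/-- The relevant irreducible characters, as a finset. -/
noncomputable def relFin : Finset (IrrCharacter N) := by
  classical
  exact Finset.univ.filter (fun χ => (χ : N → ℂ) ∈ relSet K)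

theorem mem_relFin {χ : IrrCharacter N} : χ ∈ relFin K ↔ (χ : N → ℂ) ∈ relSet K := by
  classical
  unfold relFin
  simp

theorem not_mem_relFin_iff {χ : IrrCharacter N} :
    χ ∉ relFin K ↔ χ ∈ Cfsg.Agent.H2.PF6.irrAbove K := by
  rw [mem_relFin, Cfsg.Agent.H2.PF6.mem_irrAbove]
  constructor
  · intro h n hn
    by_contra hne
    exact h ⟨χ.2, n, hn, hne⟩
  · rintro h ⟨-, n, hn, hne⟩
    exact hne (h n hn)

variable [hKn : K.Normal]

/-- The squares of the degrees of the relevant characters add up to `|N| - |N : K|`. -/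
theorem sum_sq_relFin :
    ∑ χ ∈ relFin K, (χ : N → ℂ) 1 ^ 2 = (Nat.card N : ℂ) - (K.index : ℂ) := by
  classical
  have h1 := sum_sq_degree (G := N)
  have h2 := Cfsg.Agent.H2.PF6.sum_sq_irrAbove K
  have h3 : ∑ χ : IrrCharacter N, (χ : N → ℂ) 1 ^ 2 =
      ∑ χ ∈ relFin K, (χ : N → ℂ) 1 ^ 2 +
        ∑ χ ∈ Cfsg.Agent.H2.PF6.irrAbove K, (χ : N → ℂ) 1 ^ 2 := by
    rw [← Finset.sum_add_sum_compl (relFin K)]
    congr 1
    apply Finset.sum_congr _ (fun _ _ => rfl)
    ext χ
    rw [Finset.mem_compl, not_mem_relFin_iff]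
  have h4 : ∑ χ ∈ Cfsg.Agent.H2.PF6.irrAbove K, (χ : N → ℂ) 1 ^ 2 = (K.index : ℂ) := by
    rw [← h2]
    apply Finset.sum_congr rfl
    intro χ _
    ring
  rw [h3, h4] at h1
  linear_combination h1

variable (hC : ∀ n ∈ K, n ≠ 1 → Subgroup.centralizer ({n} : Set N) ≤ K)

include hC in
/-- The degree of a relevant character is a positive multiple of the index. -/
theorem exists_mult {χ : N → ℂ} (hχ : χ ∈ relSet K) :
    ∃ m : ℕ, 0 < m ∧ χ 1 = (K.index : ℂ) * (m : ℂ) := by
  obtain ⟨φ, hφ, -, rfl⟩ := exists_eq_indFun K hC hχ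
  obtain ⟨m, hm, hm1⟩ := exists_pos_nat_apply_one hφ
  exact ⟨m, hm, by rw [indFun_apply_one, hm1]⟩

/-- The multiplicity `χ(1) / |N : K|` of a relevant character. -/
noncomputable def mult (χ : N → ℂ) : ℕ := by
  classical
  exact if h : ∃ m : ℕ, 0 < m ∧ χ 1 = (K.index : ℂ) * (m : ℂ) then Classical.choose h else 0

include hC in
theorem mult_spec {χ : N → ℂ} (hχ : χ ∈ relSet K) :
    0 < mult K χ ∧ χ 1 = (K.index : ℂ) * (mult K χ : ℂ) := by
  classical
  unfold mult
  rw [dif_pos (exists_mult K hC hχ)]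
  exact Classical.choose_spec (exists_mult K hC hχ)

include hC in
/-- The squares of the multiplicities of the relevant characters add up to `(|K| - 1) / e`. -/
theorem index_mul_sum_mult_sq :
    K.index * ∑ χ ∈ relFin K, (mult K (χ : N → ℂ)) ^ 2 = Nat.card K - 1 := by
  have h := sum_sq_relFin K
  have h1 : ∑ χ ∈ relFin K, (χ : N → ℂ) 1 ^ 2 =
      (((K.index ^ 2 * ∑ χ ∈ relFin K, (mult K (χ : N → ℂ)) ^ 2 : ℕ)) : ℂ) := by
    push_cast
    rw [Finset.mul_sum]
    apply Finset.sum_congr rfl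
    intro χ hχ
    rw [(mult_spec K hC ((mem_relFin K).mp hχ)).2]
    ring
  rw [h1, ← K.card_mul_index] at h
  have hK : 0 < Nat.card K := Nat.card_pos
  have hi : 0 < K.index := Nat.pos_of_ne_zero (Subgroup.index_ne_zero_of_finite)
  have h2 : ((K.index ^ 2 * ∑ χ ∈ relFin K, (mult K (χ : N → ℂ)) ^ 2 : ℕ) : ℂ) =
      ((Nat.card K * K.index - K.index : ℕ) : ℂ) := by
    rw [h]
    rw [Nat.cast_sub (Nat.le_mul_of_pos_left _ hK)]
  have h3 : K.index ^ 2 * ∑ χ ∈ relFin K, (mult K (χ : N → ℂ)) ^ 2 =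
      Nat.card K * K.index - K.index := by exact_mod_cast h2
  have h4 : Nat.card K * K.index - K.index = K.index * (Nat.card K - 1) := by
    rw [Nat.mul_sub, mul_one, mul_comm]
  rw [h4, pow_two, mul_assoc] at h3
  exact Nat.eq_of_mul_eq_mul_left hi h3

include hC in
/-- The index divides `|K| - 1`. -/
theorem index_dvd_card_sub_one : K.index ∣ Nat.card K - 1 :=
  ⟨_, (index_mul_sum_mult_sq K hC).symm⟩

include hC in
/-- The norm computation on the subgroup for a relevant character of minimal degree shifted by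
a real constant. -/
theorem sum_mul_conj_shift {ξ₀ : N → ℂ} (hξ₀ : ξ₀ ∈ relSet K) (h1 : ξ₀ 1 = (K.index : ℂ))
    (M : ℂ) (hM : conj M = M) [DecidablePred (fun n : N => n ∈ K ∧ n ≠ 1)] :
    ∑ n : N, (if n ∈ K ∧ n ≠ 1 then (ξ₀ n + M) * conj (ξ₀ n + M) else 0) =
      (Nat.card N : ℂ) - (K.index : ℂ) ^ 2 + M ^ 2 * ((Nat.card K : ℂ) - 1) -
        2 * (K.index : ℂ) * M := by
  classical
  letI : Fintype K := Fintype.ofFinite K
  have hsplit : ∀ n : N, (if n ∈ K ∧ n ≠ 1 then (ξ₀ n + M) * conj (ξ₀ n + M) else 0) =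
      (if n ∈ K then (ξ₀ n + M) * conj (ξ₀ n + M) else 0) -
        (if n = 1 then (ξ₀ 1 + M) * conj (ξ₀ 1 + M) else 0) := by
    intro n
    by_cases hn : n ∈ K
    · by_cases hn1 : n = 1
      · subst hn1
        rw [if_neg (fun h => h.2 rfl), if_pos hn, if_pos rfl, sub_self]
      · rw [if_pos ⟨hn, hn1⟩, if_pos hn, if_neg hn1, sub_zero]
    · have hn1 : n ≠ 1 := fun h => hn (h ▸ K.one_mem)
      rw [if_neg (fun h => hn h.1), if_neg hn, if_neg hn1, sub_zero]
  rw [Finset.sum_congr rfl (fun n _ => hsplit n), Finset.sum_sub_distrib,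
    Finset.sum_ite_eq' Finset.univ (1 : N), if_pos (Finset.mem_univ _)]
  have hexp : ∀ n : N, (if n ∈ K then (ξ₀ n + M) * conj (ξ₀ n + M) else 0) =
      ξ₀ n * conj (ξ₀ n) + M * (if n ∈ K then conj (ξ₀ n) else 0) +
        M * (if n ∈ K then ξ₀ n else 0) + M ^ 2 * (if n ∈ K then 1 else 0) := by
    intro n
    by_cases hn : n ∈ K
    · rw [if_pos hn, if_pos hn, if_pos hn, if_pos hn, map_add, hM]
      ring
    · rw [if_neg hn, if_neg hn, if_neg hn, if_neg hn, apply_eq_zero_of_not_mem K hC hξ₀ hn]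
      ring
  rw [Finset.sum_congr rfl (fun n _ => hexp n), Finset.sum_add_distrib, Finset.sum_add_distrib,
    Finset.sum_add_distrib, ← Finset.mul_sum, ← Finset.mul_sum, ← Finset.mul_sum]
  have hnorm : ∑ n : N, ξ₀ n * conj (ξ₀ n) = (Nat.card N : ℂ) := by
    have h := irr_classInner_eq hξ₀.1 hξ₀.1
    rw [if_pos rfl, classInner_apply] at h
    have hN : (Nat.card N : ℂ) ≠ 0 := card_ne_zero_complex N
    field_simp at h
    exact h
  have hsum0 : ∑ n : N, (if n ∈ K then ξ₀ n else 0) = 0 := by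
    rw [← Finset.sum_filter, Finset.sum_subtype (Finset.univ.filter (fun n : N => n ∈ K))
      (p := fun n => n ∈ K) (by simp) (fun n => ξ₀ n)]
    exact sum_subgroup_eq_zero K hC hξ₀
  have hsum0' : ∑ n : N, (if n ∈ K then conj (ξ₀ n) else 0) = 0 := by
    have : ∀ n : N, (if n ∈ K then conj (ξ₀ n) else 0) = conj (if n ∈ K then ξ₀ n else 0) := by
      intro n
      split_ifs
      · rfl
      · rw [map_zero]
    rw [Finset.sum_congr rfl (fun n _ => this n), ← map_sum, hsum0, map_zero]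
  have hcard : ∑ n : N, (if n ∈ K then (1 : ℂ) else 0) = (Nat.card K : ℂ) := by
    rw [sum_ite_mem K 1, mul_one]
  rw [hnorm, hsum0, hsum0', hcard, h1, map_add, hM, Complex.conj_natCast]
  ring

end nlevel

end Cfsg.Agent.Lib.helper3.FP
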