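import Mathlib
import Cfsg.Prelude.Def_OddOrderChar
import Cfsg.Agent.Lib.helper3.Coh13
import Cfsg.Agent.Lib.helper3.Coh14
import Cfsg.Agent.Lib.helper3.NormTwo

/-!
# Feit's coherence for sets of irreducible characters of constant degree

No closure under complex conjugation is assumed: the isometry is only required to take values
vanishing at the identity.
-/

set_option autoImplicit false
set_option linter.style.haveILetI false
set_option linter.unusedSectionVars false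

namespace Cfsg.Agent.Lib.helper3.Feit

open Cfsg Module Cfsg.Agent.Lib.helper3.CharBasic Cfsg.Agent.Lib.helper3.IndFun
open Cfsg.Agent.Lib.helper3.Irr Cfsg.Agent.Lib.helper3.Coh
open scoped ComplexConjugate

section comb

variable {I X : Type*} [DecidableEq X]

/-- The inner product of `a i - b i` and `a j - b j` in an orthonormal family. -/
def pat (a b : I → X) (i j : I) : ℤ :=
  (if a i = a j then 1 else 0) - (if a i = b j then 1 else 0) - (if b i = a j then 1 else 0)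
    + (if b i = b j then 1 else 0)

theorem pair_cases (a b : I → X) (hab : ∀ i, a i ≠ b i) {i j : I} (h : pat a b i j = 1) :
    (a i = a j ∧ b i ≠ b j ∧ a i ≠ b j ∧ b i ≠ a j) ∨
      (b i = b j ∧ a i ≠ a j ∧ a i ≠ b j ∧ b i ≠ a j) := by
  unfold pat at h
  by_cases h1 : a i = a j
  · rw [if_pos h1] at h
    by_cases h2 : a i = b j
    · exact absurd (h1.symm.trans h2) (hab j)
    · rw [if_neg h2] at h
      by_cases h3 : b i = a j
      · exact absurd (h1.trans h3.symm) (hab i)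
      · rw [if_neg h3] at h
        by_cases h4 : b i = b j
        · rw [if_pos h4] at h
          omega
        · left
          exact ⟨h1, h4, h2, h3⟩
  · rw [if_neg h1] at h
    by_cases h4 : b i = b j
    · by_cases h2 : a i = b j
      · exact absurd (h2.trans h4.symm) (hab i)
      · by_cases h3 : b i = a j
        · exact absurd (h3.symm.trans h4) (hab j)
        · right
          exact ⟨h4, h1, h2, h3⟩
    · rw [if_neg h4] at h
      exfalso
      split_ifs at h <;> omega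

theorem star_comb (a b : I → X) (hab : ∀ i, a i ≠ b i)
    (h : ∀ i j, i ≠ j → pat a b i j = 1) :
    (∀ i j, a i = a j) ∨ (∀ i j, b i = b j) := by
  classical
  by_cases hA : ∃ i j, i ≠ j ∧ a i = a j
  · left
    obtain ⟨i₀, j₀, hij, ha⟩ := hA
    have key : ∀ k, a k = a i₀ := by
      intro k
      by_cases hk : k = i₀
      · rw [hk]
      by_cases hk' : k = j₀
      · rw [hk', ha]
      rcases pair_cases a b hab (h k i₀ hk) with h1 | h1
      · exact h1.1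
      · exfalso
        rcases pair_cases a b hab (h k j₀ hk') with h2 | h2
        · exact h1.2.1 (h2.1.trans ha.symm)
        · rcases pair_cases a b hab (h i₀ j₀ hij) with h3 | h3
          · exact h3.2.1 (h1.1.symm.trans h2.1)
          · exact h3.2.1 ha
    intro i j
    rw [key i, key j]
  · right
    push Not at hA
    intro i j
    by_cases hij : i = j
    · rw [hij]
    rcases pair_cases a b hab (h i j hij) with h1 | h1
    · exact absurd h1.1 (hA i j hij)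
    · exact h1.1

end comb

section main

variable {L : Type*} [Group L] [Fintype L] {G : Type*} [Group G] [Fintype G]

theorem finite_of_irr {S : Set (L → ℂ)} (hirr : ∀ χ ∈ S, IsIrrCharacter L χ) : S.Finite := by
  apply (Set.finite_range (fun ψ : IrrCharacter L => (ψ : L → ℂ))).subset
  intro χ hχ
  exact ⟨⟨χ, hirr χ hχ⟩, rfl⟩

theorem sub_mem_zspanOn {S : Set (L → ℂ)} (hdeg : ∀ φ ∈ S, ∀ ψ ∈ S, φ 1 = ψ 1) {φ ψ : L → ℂ}
    (hφ : φ ∈ S) (hψ : ψ ∈ S) : φ - ψ ∈ zspanOn S ({1}ᶜ : Set L) := by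
  rw [mem_zspanOn_one_iff]
  refine ⟨zspan_sub (mem_zspan_of_mem hφ) (mem_zspan_of_mem hψ), ?_⟩
  rw [Pi.sub_apply, hdeg φ hφ ψ hψ, sub_self]

/-- Coherence from a star-shaped image of the differences with a base character. -/
theorem coherent_of_star (S : Set (L → ℂ)) (hirr : ∀ χ ∈ S, IsIrrCharacter L χ)
    (hdeg : ∀ φ ∈ S, ∀ ψ ∈ S, φ 1 = ψ 1) (τ : (L → ℂ) → (G → ℂ))
    (hτ : IsLinearIsometryOn (zspanOn S ({1}ᶜ : Set L)) τ)
    (χ₀ : L → ℂ) (hχ₀ : χ₀ ∈ S) (hne : ∃ ψ ∈ S, ψ ≠ χ₀)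
    (c : IrrCharacter G) (ε : ℂ) (hε : ε = 1 ∨ ε = -1) (x : (L → ℂ) → IrrCharacter G)
    (hxc : ∀ φ ∈ S, φ ≠ χ₀ → x φ ≠ c)
    (hxinj : ∀ φ ∈ S, ∀ ψ ∈ S, φ ≠ χ₀ → ψ ≠ χ₀ → x φ = x ψ → φ = ψ)
    (hx : ∀ φ ∈ S, φ ≠ χ₀ → τ (χ₀ - φ) = ε • ((c : G → ℂ) - (x φ : G → ℂ))) :
    IsCoherent S ({1}ᶜ : Set L) τ := by
  classical
  obtain ⟨ψ₀, hψ₀, hψ₀ne⟩ := hne
  refine ⟨⟨ψ₀ - χ₀, sub_mem_zspanOn hdeg hψ₀ hχ₀, fun h => hψ₀ne (sub_eq_zero.mp h)⟩, ?_⟩
  have hεε : ε * conj ε = 1 := by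
    rcases hε with rfl | rfl <;> simp
  have hεint : ∀ f : G → ℂ, IsGeneralizedCharacter G f → IsGeneralizedCharacter G (ε • f) := by
    intro f hf
    rcases hε with rfl | rfl
    · rw [one_smul]; exact hf
    · rw [neg_one_smul]; exact GenChar.neg hf
  obtain ⟨T, hTdef⟩ : ∃ T : (L → ℂ) → (G → ℂ), T = fun φ =>
      if φ = χ₀ then ε • (c : G → ℂ) else ε • (x φ : G → ℂ) := ⟨_, rfl⟩
  have hT0 : T χ₀ = ε • (c : G → ℂ) := by rw [hTdef]; simp
  have hT1 : ∀ φ, φ ≠ χ₀ → T φ = ε • (x φ : G → ℂ) := by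
    intro φ hφ
    rw [hTdef]
    simp only
    rw [if_neg hφ]
  have hTg : ∀ φ ∈ S, IsGeneralizedCharacter G (T φ) := by
    intro φ _
    by_cases h : φ = χ₀
    · rw [h, hT0]
      exact hεint _ (GenChar.of_isIrrCharacter c.2)
    · rw [hT1 φ h]
      exact hεint _ (GenChar.of_isIrrCharacter (x φ).2)
  have hinner : ∀ u v : IrrCharacter G, classInner (ε • (u : G → ℂ)) (ε • (v : G → ℂ))
      = if u = v then 1 else 0 := by
    intro u v
    rw [classInner_smul_left, classInner_smul_right, ← mul_assoc, hεε, one_mul,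
      irr_classInner_eq u.2 v.2]
    by_cases h : u = v
    · rw [if_pos h, if_pos (congrArg Subtype.val h)]
    · rw [if_neg h, if_neg (fun h' => h (Subtype.ext h'))]
  have hTT : ∀ φ ∈ S, ∀ ψ ∈ S, classInner (T φ) (T ψ) = if φ = ψ then classInner φ φ else 0 := by
    intro φ hφ ψ hψ
    by_cases h1 : φ = χ₀
    · by_cases h2 : ψ = χ₀
      · rw [h1, h2, if_pos rfl, hT0, hinner, if_pos rfl, irr_classInner_self (hirr χ₀ hχ₀)]
      · rw [h1, hT0, hT1 ψ h2, hinner, if_neg (fun h => hxc ψ hψ h2 h.symm),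
          if_neg (fun h => h2 h.symm)]
    · by_cases h2 : ψ = χ₀
      · rw [h2, hT0, hT1 φ h1, hinner, if_neg (hxc φ hφ h1), if_neg h1]
      · rw [hT1 φ h1, hT1 ψ h2, hinner]
        by_cases h3 : φ = ψ
        · rw [if_pos h3, if_pos (by rw [h3]), irr_classInner_self (hirr φ hφ)]
        · rw [if_neg h3, if_neg (fun h => h3 (hxinj φ hφ ψ hψ h1 h2 h))]
  have h0mem : (0 : L → ℂ) ∈ zspanOn S ({1}ᶜ : Set L) := zspanOn_zero _ _
  have hTd : ∀ φ ∈ S, τ (φ - χ₀) = T φ - T χ₀ := by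
    intro φ hφ
    by_cases h : φ = χ₀
    · rw [h, sub_self, sub_self]
      exact map_zero_of_isom hτ h0mem
    · have h1 : φ - χ₀ = (-1 : ℤ) • (χ₀ - φ) := by
        rw [neg_one_zsmul, neg_sub]
      rw [h1, hτ.2.1 _ (sub_mem_zspanOn hdeg hχ₀ hφ), hx φ hφ h, hT0, hT1 φ h, neg_one_zsmul,
        smul_sub, neg_sub]
  have hfin := finite_of_irr hirr
  obtain ⟨F, hF⟩ : ∃ F : Finset (L → ℂ), F = hfin.toFinset := ⟨_, rfl⟩
  have hFmem : ∀ φ, φ ∈ F ↔ φ ∈ S := fun φ => by rw [hF]; exact Set.Finite.mem_toFinset hfin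
  have hFcoe : (↑F : Set (L → ℂ)) = S := by
    ext φ
    rw [Finset.mem_coe]
    exact hFmem φ
  obtain ⟨τ₂, hτ₂, hτ₂comb⟩ := exists_isometry_of_gram F T
    (fun φ hφ ψ hψ => by
      by_cases h : φ = ψ
      · rw [if_pos h, h]
      · rw [if_neg h]
        exact irr_classInner_eq_zero (hirr φ ((hFmem φ).mp hφ)) (hirr ψ ((hFmem ψ).mp hψ)) h)
    (fun φ hφ => by
      rw [irr_classInner_self (hirr φ ((hFmem φ).mp hφ))]
      exact one_ne_zero)
    (fun φ hφ ψ hψ => hTT φ ((hFmem φ).mp hφ) ψ ((hFmem ψ).mp hψ))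
    (fun φ hφ => hTg φ ((hFmem φ).mp hφ))
  rw [hFcoe] at hτ₂
  refine ⟨τ₂, hτ₂, ?_⟩
  intro α hα
  rw [mem_zspanOn_one_iff] at hα
  obtain ⟨z, hz⟩ := exists_coeff_finset F hFmem hα.1
  have hδ : χ₀ 1 ≠ 0 := apply_one_ne_zero (hirr χ₀ hχ₀)
  have hsum0 : ∑ φ ∈ F, z φ = 0 := by
    have h1 : α 1 = ∑ φ ∈ F, (z φ : ℂ) * χ₀ 1 := by
      rw [hz, Finset.sum_apply]
      apply Finset.sum_congr rfl
      intro φ hφ
      rw [Pi.smul_apply, zsmul_eq_mul, hdeg φ ((hFmem φ).mp hφ) χ₀ hχ₀]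
    rw [hα.2, ← Finset.sum_mul] at h1
    have h2 : (∑ φ ∈ F, (z φ : ℂ)) = 0 := (mul_eq_zero.mp h1.symm).resolve_right hδ
    have h3 : ((∑ φ ∈ F, z φ : ℤ) : ℂ) = 0 := by push_cast; exact h2
    exact_mod_cast h3
  have hα' : α = ∑ φ ∈ F, z φ • (φ - χ₀) := by
    rw [hz]
    simp only [smul_sub]
    rw [Finset.sum_sub_distrib, ← Finset.sum_smul, hsum0, zero_smul, sub_zero]
  have hmap := map_sum_zsmul hτ h0mem
    (fun x hx y hy => zspanOn_add hx hy) (fun n x hx => zspanOn_zsmul n hx) F z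
    (fun φ => φ - χ₀) (fun φ hφ => sub_mem_zspanOn hdeg ((hFmem φ).mp hφ) hχ₀)
  rw [hz, hτ₂comb z]
  rw [← hz, hα', hmap.2]
  have h4 : ∀ φ ∈ F, z φ • τ (φ - χ₀) = z φ • T φ - z φ • T χ₀ := by
    intro φ hφ
    rw [hTd φ ((hFmem φ).mp hφ), smul_sub]
  rw [Finset.sum_congr rfl h4, Finset.sum_sub_distrib, ← Finset.sum_smul, hsum0, zero_smul,
    sub_zero]

end main

end Cfsg.Agent.Lib.helper3.Feit
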