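import Mathlib
import Cfsg.Prelude.Def_OddOrderChar
import Cfsg.Agent.Lib.helper3.Feit1

/-!
# Feit's coherence for sets of irreducible characters of constant degree (main statement)
-/

set_option autoImplicit false
set_option linter.style.haveILetI false
set_option linter.unusedSectionVars false

namespace Cfsg.Agent.Lib.helper3.Feit

open Cfsg Module Cfsg.Agent.Lib.helper3.CharBasic Cfsg.Agent.Lib.helper3.IndFun
open Cfsg.Agent.Lib.helper3.Irr Cfsg.Agent.Lib.helper3.Coh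
open scoped ComplexConjugate

variable {L : Type*} [Group L] [Fintype L] {G : Type*} [Group G] [Fintype G]

open Classical in
/-- **Feit.**  A set of at least two irreducible characters of the same degree is coherent for any
linear isometry on the combinations vanishing at `1` whose values vanish at `1`. -/
theorem coherent_of_constant_degree (S : Set (L → ℂ)) (hirr : ∀ χ ∈ S, IsIrrCharacter L χ)
    (htwo : ∃ χ ∈ S, ∃ ψ ∈ S, χ ≠ ψ) (hdeg : ∀ φ ∈ S, ∀ ψ ∈ S, φ 1 = ψ 1)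
    (τ : (L → ℂ) → (G → ℂ)) (hτ : IsLinearIsometryOn (zspanOn S ({1}ᶜ : Set L)) τ)
    (hτ1 : ∀ α ∈ zspanOn S ({1}ᶜ : Set L), τ α 1 = 0) :
    IsCoherent S ({1}ᶜ : Set L) τ := by
  obtain ⟨χ₀, hχ₀, ψ₀, hψ₀, hne⟩ := htwo
  have hdata : ∀ i : {φ : L → ℂ // φ ∈ S ∧ φ ≠ χ₀}, ∃ a b : IrrCharacter G, a ≠ b ∧
      τ (χ₀ - i.1) = (a : G → ℂ) - (b : G → ℂ) := by
    intro i
    have hmem := sub_mem_zspanOn hdeg hχ₀ i.2.1
    apply exists_sub_of_norm_two (hτ.2.2.2 _ hmem)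
    · rw [hτ.2.2.1 _ hmem _ hmem, classInner_sub_left, classInner_sub_right, classInner_sub_right,
        irr_classInner_self (hirr χ₀ hχ₀), irr_classInner_self (hirr _ i.2.1),
        irr_classInner_eq_zero (hirr χ₀ hχ₀) (hirr _ i.2.1) (fun h => i.2.2 h.symm),
        irr_classInner_eq_zero (hirr _ i.2.1) (hirr χ₀ hχ₀) i.2.2]
      norm_num
    · exact hτ1 _ hmem
  choose a b hab hτab using hdata
  have hpat : ∀ i j : {φ : L → ℂ // φ ∈ S ∧ φ ≠ χ₀}, i ≠ j → pat a b i j = 1 := by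
    intro i j hij
    have hmi := sub_mem_zspanOn hdeg hχ₀ i.2.1
    have hmj := sub_mem_zspanOn hdeg hχ₀ j.2.1
    have h1 := hτ.2.2.1 _ hmi _ hmj
    have hij' : i.1 ≠ j.1 := fun h => hij (Subtype.ext h)
    rw [hτab i, hτab j, classInner_sub_left, classInner_sub_right, classInner_sub_right,
      classInner_sub_left, classInner_sub_right, classInner_sub_right,
      irr_classInner_self (hirr χ₀ hχ₀),
      irr_classInner_eq_zero (hirr χ₀ hχ₀) (hirr _ j.2.1) (fun h => j.2.2 h.symm),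
      irr_classInner_eq_zero (hirr _ i.2.1) (hirr χ₀ hχ₀) i.2.2,
      irr_classInner_eq_zero (hirr _ i.2.1) (hirr _ j.2.1) hij',
      irr_classInner_eq (a i).2 (a j).2, irr_classInner_eq (a i).2 (b j).2,
      irr_classInner_eq (b i).2 (a j).2, irr_classInner_eq (b i).2 (b j).2] at h1
    have h2 : ((pat a b i j : ℤ) : ℂ) = 1 := by
      unfold pat
      push_cast
      have e : ∀ u v : IrrCharacter G, (if (u : G → ℂ) = (v : G → ℂ) then (1 : ℂ) else 0)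
          = if u = v then 1 else 0 := by
        intro u v
        by_cases h : u = v
        · rw [if_pos h, if_pos (congrArg Subtype.val h)]
        · rw [if_neg h, if_neg (fun h' => h (Subtype.ext h'))]
      rw [e, e, e, e] at h1
      linear_combination h1
    exact_mod_cast h2
  have hψ₀ne : ψ₀ ≠ χ₀ := fun h => hne h.symm
  obtain ⟨i₀, hi₀⟩ : ∃ i₀ : {φ : L → ℂ // φ ∈ S ∧ φ ≠ χ₀}, i₀ = ⟨ψ₀, hψ₀, hψ₀ne⟩ := ⟨_, rfl⟩
  rcases star_comb a b hab hpat with hA | hB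
  · -- common first member
    apply coherent_of_star S hirr hdeg τ hτ χ₀ hχ₀ ⟨ψ₀, hψ₀, hψ₀ne⟩ (a i₀) 1 (Or.inl rfl)
      (fun φ => if h : φ ∈ S ∧ φ ≠ χ₀ then b ⟨φ, h⟩ else a i₀)
    · intro φ hφ hφne
      rw [dif_pos ⟨hφ, hφne⟩, hA i₀ ⟨φ, hφ, hφne⟩]
      exact (hab _).symm
    · intro φ hφ ψ hψ hφne hψne hxx
      rw [dif_pos ⟨hφ, hφne⟩, dif_pos ⟨hψ, hψne⟩] at hxx
      by_contra hne'
      have hij : (⟨φ, hφ, hφne⟩ : {φ : L → ℂ // φ ∈ S ∧ φ ≠ χ₀}) ≠ ⟨ψ, hψ, hψne⟩ :=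
        fun h => hne' (congrArg Subtype.val h)
      rcases pair_cases a b hab (hpat _ _ hij) with h1 | h1
      · exact h1.2.1 hxx
      · exact h1.2.1 (hA _ _)
    · intro φ hφ hφne
      rw [dif_pos ⟨hφ, hφne⟩, one_smul, hA i₀ ⟨φ, hφ, hφne⟩]
      exact hτab ⟨φ, hφ, hφne⟩
  · -- common second member
    apply coherent_of_star S hirr hdeg τ hτ χ₀ hχ₀ ⟨ψ₀, hψ₀, hψ₀ne⟩ (b i₀) (-1) (Or.inr rfl)
      (fun φ => if h : φ ∈ S ∧ φ ≠ χ₀ then a ⟨φ, h⟩ else b i₀)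
    · intro φ hφ hφne
      rw [dif_pos ⟨hφ, hφne⟩, hB i₀ ⟨φ, hφ, hφne⟩]
      exact hab _
    · intro φ hφ ψ hψ hφne hψne hxx
      rw [dif_pos ⟨hφ, hφne⟩, dif_pos ⟨hψ, hψne⟩] at hxx
      by_contra hne'
      have hij : (⟨φ, hφ, hφne⟩ : {φ : L → ℂ // φ ∈ S ∧ φ ≠ χ₀}) ≠ ⟨ψ, hψ, hψne⟩ :=
        fun h => hne' (congrArg Subtype.val h)
      rcases pair_cases a b hab (hpat _ _ hij) with h1 | h1
      · exact h1.2.1 (hB _ _)
      · exact h1.2.1 hxx
    · intro φ hφ hφne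
      rw [dif_pos ⟨hφ, hφne⟩, neg_one_smul, neg_sub, hB i₀ ⟨φ, hφ, hφne⟩]
      exact hτab ⟨φ, hφ, hφne⟩

end Cfsg.Agent.Lib.helper3.Feit
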