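import Mathlib
import Cfsg.Prelude.Def_OddOrderChar
import Cfsg.Agent.Lib.helper3.FP3
import Cfsg.Agent.Lib.helper3.Feit2
import Cfsg.Agent.Lib.helper3.NormOne
import Cfsg.Agent.Lib.helper3.Coh14

set_option autoImplicit false
set_option linter.style.haveILetI false
set_option linter.unusedSectionVars false

/-!
# Induction from a subgroup with a TI-type support set: restriction, isometry, a norm bound and
coherence (part G for the Brauer-Leonard small degree theorem)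
-/

namespace Cfsg.Agent.Lib.helper3.BLPartG

open Cfsg Module Cfsg.Agent.Lib.helper3.CharBasic Cfsg.Agent.Lib.helper3.IndFun
open Cfsg.Agent.Lib.helper3.Irr Cfsg.Agent.Lib.helper3.Coh Cfsg.Agent.Lib.helper3.Tifn
open Cfsg.Agent.Lib.helper3.IndFunTI Cfsg.Agent.Lib.helper3.FP Cfsg.Agent.Lib.helper3.Feit
open scoped ComplexConjugate

variable {G : Type*} [Group G] [Fintype G] (N₀ : Subgroup G) [Fintype ↥N₀] (A : Set ↥N₀)

/-- (G1a) A class function of `N₀` supported on `A` is the restriction of its induced function. -/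
theorem indFun_restrict_of_TI
    (hTI : ∀ a ∈ A, ∀ y : G, y * (a : G) * y⁻¹ ∈ N₀ → y ∈ N₀)
    (hAinv : ∀ a ∈ A, ∀ n : ↥N₀, n * a * n⁻¹ ∈ A)
    (φ : ↥N₀ → ℂ) (hφ : IsClassFunction ↥N₀ φ) (hφA : ∀ n, n ∉ A → φ n = 0) (n : ↥N₀) :
    indFun N₀ φ (n : G) = φ n := by
  classical
  by_cases hn : n ∈ A
  · apply indFun_eq_of_forall N₀ φ hφ n
    intro x hx
    by_cases hmem : x⁻¹ * (n : G) * x ∈ N₀
    · exfalso
      apply hx
      have h1 := hTI n hn x⁻¹ (by rw [inv_inv]; exact hmem)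
      have h2 := N₀.inv_mem h1
      rwa [inv_inv] at h2
    · exact extendByZero_not_mem _ φ hmem
  · rw [hφA n hn, indFun_apply]
    have h0 : ∀ x : G, extendByZero N₀ φ (x⁻¹ * (n : G) * x) = 0 := by
      intro x
      by_cases hmem : x⁻¹ * (n : G) * x ∈ N₀
      · rw [extendByZero_mem _ φ hmem]
        apply hφA
        intro ha
        apply hn
        have e1 : x * (x⁻¹ * (n : G) * x) * x⁻¹ = (n : G) := by group
        have hxN : x ∈ N₀ := hTI _ ha x (by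
          show x * (x⁻¹ * (n : G) * x) * x⁻¹ ∈ N₀
          rw [e1]
          exact n.2)
        have h3 := hAinv _ ha ⟨x, hxN⟩
        have e2 : (⟨x, hxN⟩ : ↥N₀) * ⟨x⁻¹ * (n : G) * x, hmem⟩ * (⟨x, hxN⟩ : ↥N₀)⁻¹ = n := by
          apply Subtype.ext
          exact e1
        rwa [e2] at h3
      · exact extendByZero_not_mem _ φ hmem
    simp_rw [h0]
    simp

/-- (G1b) Induction is an isometry on class functions supported on `A`. -/
theorem classInner_indFun_of_TI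
    (hTI : ∀ a ∈ A, ∀ y : G, y * (a : G) * y⁻¹ ∈ N₀ → y ∈ N₀)
    (hAinv : ∀ a ∈ A, ∀ n : ↥N₀, n * a * n⁻¹ ∈ A)
    (φ φ' : ↥N₀ → ℂ) (hφ' : IsClassFunction ↥N₀ φ') (hφ'A : ∀ n, n ∉ A → φ' n = 0) :
    classInner (indFun N₀ φ) (indFun N₀ φ') = classInner φ φ' := by
  rw [frobenius_reciprocity _ φ _ (indFun_isClassFunction _ φ')]
  congr 1
  funext n
  exact indFun_restrict_of_TI N₀ A hTI hAinv φ' hφ' hφ'A n

/-- (G1c) The sum of `|ψ|²` over `A` is less than `|N₀|` for an irreducible character `ψ`. -/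
theorem sum_A_lt
    (hTI : ∀ a ∈ A, ∀ y : G, y * (a : G) * y⁻¹ ∈ N₀ → y ∈ N₀)
    (hAinv : ∀ a ∈ A, ∀ n : ↥N₀, n * a * n⁻¹ ∈ A)
    (hA1 : (1 : ↥N₀) ∉ A) [DecidablePred (· ∈ A)]
    (ψ : G → ℂ) (hψ : IsIrrCharacter G ψ) :
    ∃ r : ℝ, r < (Nat.card ↥N₀ : ℝ) ∧
      ∑ n : ↥N₀, (if n ∈ A then ψ n * (starRingEnd ℂ) (ψ n) else 0) = (r : ℂ) := by
  obtain ⟨φ, hφdef⟩ : ∃ φ : ↥N₀ → ℂ, φ = fun n => if n ∈ A then ψ n else 0 := ⟨_, rfl⟩
  have hψcf : IsClassFunction G ψ := isClassFunction_of_isCharacter (isCharacter_of_isIrrCharacter hψ)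
  have hmemA : ∀ g h : ↥N₀, h * g * h⁻¹ ∈ A ↔ g ∈ A := by
    intro g h
    constructor
    · intro hh
      have h1 := hAinv _ hh h⁻¹
      have e : h⁻¹ * (h * g * h⁻¹) * h⁻¹⁻¹ = g := by group
      rwa [e] at h1
    · intro hg
      exact hAinv g hg h
  have hφcf : IsClassFunction ↥N₀ φ := by
    intro g h
    rw [hφdef]
    show (if h * g * h⁻¹ ∈ A then ψ ((h * g * h⁻¹ : ↥N₀) : G) else 0) = if g ∈ A then ψ g else 0
    by_cases hg : g ∈ A
    · rw [if_pos hg, if_pos ((hmemA g h).mpr hg)]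
      exact hψcf (g : G) (h : G)
    · rw [if_neg hg, if_neg (fun hh => hg ((hmemA g h).mp hh))]
  have hφA : ∀ n, n ∉ A → φ n = 0 := by
    intro n hn
    rw [hφdef]
    exact if_neg hn
  obtain ⟨r, hrdef⟩ : ∃ r : ℝ, r = ∑ n : ↥N₀, (if n ∈ A then ‖ψ n‖ ^ 2 else 0) := ⟨_, rfl⟩
  have hsum : ∑ n : ↥N₀, (if n ∈ A then ψ n * (starRingEnd ℂ) (ψ n) else 0) = (r : ℂ) := by
    rw [hrdef]
    push_cast
    apply Finset.sum_congr rfl
    intro n _
    by_cases hn : n ∈ A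
    · rw [if_pos hn, if_pos hn, Complex.mul_conj, Complex.normSq_eq_norm_sq]
    · rw [if_neg hn, if_neg hn]
      simp
  refine ⟨r, ?_, hsum⟩
  have hN0 : (0 : ℝ) < (Nat.card ↥N₀ : ℝ) := by
    have : 0 < Nat.card ↥N₀ := Nat.card_pos
    exact_mod_cast this
  have hN0c : (Nat.card ↥N₀ : ℂ) ≠ 0 := card_ne_zero_complex _
  -- the three inner products
  have hs1 : classInner φ φ = (Nat.card ↥N₀ : ℂ)⁻¹ * (r : ℂ) := by
    rw [classInner_apply, ← hsum]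
    congr 1
    apply Finset.sum_congr rfl
    intro n _
    rw [hφdef]
    by_cases hn : n ∈ A
    · simp only [if_pos hn]
    · simp only [if_neg hn, zero_mul]
  have hs2 : classInner (indFun N₀ φ) ψ = (Nat.card ↥N₀ : ℂ)⁻¹ * (r : ℂ) := by
    rw [frobenius_reciprocity _ φ _ hψcf, classInner_apply, ← hsum]
    congr 1
    apply Finset.sum_congr rfl
    intro n _
    rw [hφdef]
    by_cases hn : n ∈ A
    · simp only [if_pos hn]
    · simp only [if_neg hn, zero_mul]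
  have hs3 : classInner (indFun N₀ φ) (indFun N₀ φ) = (Nat.card ↥N₀ : ℂ)⁻¹ * (r : ℂ) := by
    rw [classInner_indFun_of_TI N₀ A hTI hAinv φ φ hφcf hφA, hs1]
  have hs4 : classInner ψ (indFun N₀ φ) = (Nat.card ↥N₀ : ℂ)⁻¹ * (r : ℂ) := by
    rw [← classInner_conj_symm, hs2, map_mul, map_inv₀, Complex.conj_natCast, Complex.conj_ofReal]
  obtain ⟨D, hDdef⟩ : ∃ D : G → ℂ, D = ψ - indFun N₀ φ := ⟨_, rfl⟩
  have hDD : classInner D D = ((1 - (Nat.card ↥N₀ : ℝ)⁻¹ * r : ℝ) : ℂ) := by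
    rw [hDdef, classInner_sub_left, classInner_sub_right, classInner_sub_right,
      irr_classInner_self hψ, hs2, hs3, hs4]
    push_cast
    ring
  have hDD2 : classInner D D = (((Nat.card G : ℝ)⁻¹ * ∑ g : G, ‖D g‖ ^ 2 : ℝ) : ℂ) := by
    rw [classInner_apply]
    push_cast
    congr 1
    apply Finset.sum_congr rfl
    intro g _
    rw [Complex.mul_conj, Complex.normSq_eq_norm_sq]
    push_cast
    rfl
  have hreal : 1 - (Nat.card ↥N₀ : ℝ)⁻¹ * r = (Nat.card G : ℝ)⁻¹ * ∑ g : G, ‖D g‖ ^ 2 := by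
    have := hDD.symm.trans hDD2
    exact_mod_cast this
  have hG0 : (0 : ℝ) < (Nat.card G : ℝ) := by
    have : 0 < Nat.card G := Nat.card_pos
    exact_mod_cast this
  have hnonneg : 0 ≤ ∑ g : G, ‖D g‖ ^ 2 := Finset.sum_nonneg (fun g _ => by positivity)
  have hD1 : D 1 ≠ 0 := by
    rw [hDdef, Pi.sub_apply, indFun_one_of_apply_one_eq_zero N₀ φ (hφA 1 hA1), sub_zero]
    obtain ⟨d, hd0, hd⟩ := exists_pos_nat_apply_one hψ
    rw [hd]
    exact_mod_cast hd0.ne'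
  have hpos : 0 < ∑ g : G, ‖D g‖ ^ 2 := by
    apply lt_of_lt_of_le _ (Finset.single_le_sum (fun g _ => by positivity) (Finset.mem_univ (1 : G)))
    have : 0 < ‖D 1‖ := norm_pos_iff.mpr hD1
    positivity
  have h5 : 0 < 1 - (Nat.card ↥N₀ : ℝ)⁻¹ * r := by
    rw [hreal]
    positivity
  have h6 : (Nat.card ↥N₀ : ℝ)⁻¹ * r < 1 := by linarith
  have h7 : r < (Nat.card ↥N₀ : ℝ) * 1 := by
    rw [inv_mul_lt_iff₀ hN0] at h6
    exact h6
  linarith

/-- (G2) Coherence: a set of at least two irreducible characters of `N₀` agreeing off `A` lifts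
to irreducible characters of `G` up to sign, compatibly with induction of differences. -/
theorem exists_coherent_data
    (hTI : ∀ a ∈ A, ∀ y : G, y * (a : G) * y⁻¹ ∈ N₀ → y ∈ N₀)
    (hAinv : ∀ a ∈ A, ∀ n : ↥N₀, n * a * n⁻¹ ∈ A)
    (hA1 : (1 : ↥N₀) ∉ A)
    (S : Set (↥N₀ → ℂ)) (hirr : ∀ ξ ∈ S, IsIrrCharacter ↥N₀ ξ)
    (htwo : ∃ ξ ∈ S, ∃ ξ' ∈ S, ξ ≠ ξ')
    (hS : ∀ ξ ∈ S, ∀ ξ' ∈ S, ∀ n, n ∉ A → ξ n = ξ' n) :
    ∃ T : (↥N₀ → ℂ) → (G → ℂ),
      (∀ ξ ∈ S, IsIrrCharacter G (T ξ) ∨ IsIrrCharacter G (-(T ξ))) ∧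
      (∀ ξ ∈ S, ∀ ξ' ∈ S, T ξ - T ξ' = indFun N₀ (ξ - ξ')) ∧
      (∀ ξ ∈ S, ∀ ξ' ∈ S, ξ ≠ ξ' → classInner (T ξ) (T ξ') = 0) := by
  have hdeg : ∀ φ ∈ S, ∀ ψ ∈ S, φ 1 = ψ 1 := fun φ hφ ψ hψ => hS φ hφ ψ hψ 1 hA1
  obtain ⟨ξ₀, hξ₀, -⟩ := id htwo
  have hξ₀1 : ξ₀ 1 ≠ 0 := by
    obtain ⟨d, hd0, hd⟩ := exists_pos_nat_apply_one (hirr ξ₀ hξ₀)
    rw [hd]
    exact_mod_cast hd0.ne'
  have hgen' : ∀ α ∈ zspan S, IsGeneralizedCharacter ↥N₀ α := by
    intro α hα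
    exact zspan_induction (fun α => IsGeneralizedCharacter ↥N₀ α)
      GenChar.zero (fun χ hχ => GenChar.of_isIrrCharacter (hirr χ hχ))
      (fun a b ha hb => GenChar.add ha hb)
      (fun n a ha => GenChar.zsmul ha n) hα
  -- off `A` every combination is a multiple of `ξ₀`
  have hmult : ∀ α ∈ zspan S, ∃ k : ℤ, ∀ n, n ∉ A → α n = (k : ℂ) * ξ₀ n := by
    intro α hα
    refine zspan_induction (fun α => ∃ k : ℤ, ∀ n, n ∉ A → α n = (k : ℂ) * ξ₀ n)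
      ⟨0, fun n _ => by simp⟩ ?_ ?_ ?_ hα
    · intro χ hχ
      exact ⟨1, fun n hn => by rw [hS χ hχ ξ₀ hξ₀ n hn]; simp⟩
    · rintro a b ⟨k, hk⟩ ⟨l, hl⟩
      refine ⟨k + l, fun n hn => ?_⟩
      rw [Pi.add_apply, hk n hn, hl n hn]
      push_cast
      ring
    · rintro m a ⟨k, hk⟩
      refine ⟨m * k, fun n hn => ?_⟩
      rw [Pi.smul_apply, hk n hn, zsmul_eq_mul]
      push_cast
      ring
  have hvan : ∀ α ∈ zspanOn S ({1}ᶜ : Set ↥N₀), ∀ n, n ∉ A → α n = 0 := by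
    intro α hα n hn
    obtain ⟨k, hk⟩ := hmult α hα.1
    have h1 : α 1 = 0 := hα.2 1 (fun h => h rfl)
    have h2 := hk 1 hA1
    rw [h1] at h2
    have h3 : (k : ℂ) = 0 := by
      rcases mul_eq_zero.mp h2.symm with h | h
      · exact h
      · exact absurd h hξ₀1
    rw [hk n hn, h3, zero_mul]
  have hone : ∀ α ∈ zspanOn S ({1}ᶜ : Set ↥N₀), α 1 = 0 := by
    intro α hα
    exact hα.2 1 (fun h => h rfl)
  have hτ : IsLinearIsometryOn (zspanOn S ({1}ᶜ : Set ↥N₀)) (fun α => indFun N₀ α) := by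
    refine ⟨?_, ?_, ?_, ?_⟩
    · intro α _ β _
      exact indFun_add _ α β
    · intro α _ n
      show indFun _ (n • α) = n • indFun _ α
      rw [zsmul_eq_smul, zsmul_eq_smul, indFun_smul]
    · intro α hα β hβ
      exact classInner_indFun_of_TI N₀ A hTI hAinv α β
        (isClassFunction_of_isGeneralizedCharacter (hgen' β hβ.1)) (hvan β hβ)
    · intro α hα
      exact isGeneralizedCharacter_indFun _ (hgen' α hα.1)
  have hτ1 : ∀ α ∈ zspanOn S ({1}ᶜ : Set ↥N₀), (fun α => indFun N₀ α) α 1 = 0 := by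
    intro α hα
    exact indFun_one_of_apply_one_eq_zero _ α (hone α hα)
  obtain ⟨-, T, hT, hText⟩ := coherent_of_constant_degree S hirr htwo hdeg
    (fun α => indFun N₀ α) hτ hτ1
  refine ⟨T, ?_, ?_, ?_⟩
  · intro ξ hξ
    have hmem : ξ ∈ zspan S := mem_zspan_of_mem hξ
    have hnorm : classInner (T ξ) (T ξ) = 1 := by
      rw [hT.2.2.1 ξ hmem ξ hmem, irr_classInner_self (hirr ξ hξ)]
    obtain ⟨a, ha | ha⟩ := exists_irr_of_norm_one
      (hT.2.2.2 ξ hmem) hnorm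
    · left
      rw [ha]
      exact a.2
    · right
      rw [ha, neg_neg]
      exact a.2
  · intro ξ hξ ξ' hξ'
    rw [← isom_map_sub hT (fun n x hx => zspan_zsmul n hx) (mem_zspan_of_mem hξ)
      (mem_zspan_of_mem hξ')]
    exact hText _ (sub_mem_zspanOn hdeg hξ hξ')
  · intro ξ hξ ξ' hξ' hne
    rw [hT.2.2.1 ξ (mem_zspan_of_mem hξ) ξ' (mem_zspan_of_mem hξ'),
      irr_classInner_eq_zero (hirr ξ hξ) (hirr ξ' hξ') hne]

end Cfsg.Agent.Lib.helper3.BLPartG
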