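import Mathlib
import Cfsg.Prelude.Def_Characters
import Cfsg.Agent.Lib.helper3.Irr11
import Cfsg.Agent.Lib.helper3.Irr9

set_option autoImplicit false
set_option linter.style.haveILetI false
set_option linter.unusedSectionVars false
set_option linter.unusedVariables false

/-!
# Constituents of a character and multiplicities along a homomorphism
-/

namespace Cfsg.Agent.Lib.helper3.BLConst

open Cfsg Cfsg.Agent.Lib.helper3.Irr Cfsg.Agent.Lib.helper3.IndFun
open Cfsg.Agent.Lib.helper3.CharBasic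
open scoped ComplexConjugate

variable {G : Type*} [Group G] [Fintype G] {H : Type*} [Group H] [Fintype H]

theorem classInner_comp_decomp (f : H →* G) (m : IrrCharacter G → ℕ) (φ : H → ℂ) :
    classInner (fun x => (∑ ψ : IrrCharacter G, (m ψ : ℂ) • (ψ : G → ℂ)) (f x)) φ
      = ∑ ψ : IrrCharacter G, (m ψ : ℂ) * classInner (fun x => (ψ : G → ℂ) (f x)) φ := by
  have h1 : (fun x => (∑ ψ : IrrCharacter G, (m ψ : ℂ) • (ψ : G → ℂ)) (f x))
      = ∑ ψ : IrrCharacter G, (m ψ : ℂ) • (fun x : H => (ψ : G → ℂ) (f x)) := by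
    funext x
    simp only [Finset.sum_apply, Pi.smul_apply]
  rw [h1, classInner_sum_left]
  apply Finset.sum_congr rfl
  intro ψ _
  rw [classInner_smul_left]

theorem exists_nat_comp (f : H →* G) (ψ : IrrCharacter G) (φ : IrrCharacter H) :
    ∃ n : ℕ, classInner (fun x => (ψ : G → ℂ) (f x)) (φ : H → ℂ) = n :=
  exists_nat_classInner_of_isCharacter (isCharacter_comp (isCharacter_of_isIrrCharacter ψ.2) f) φ

/-- A nonzero multiplicity along `f` comes from a constituent. -/
theorem exists_constituent_of_comp_ne_zero (f : H →* G) {Θ : G → ℂ} (hΘ : IsCharacter G Θ)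
    (φ : H → ℂ) (hne : classInner (fun x => Θ (f x)) φ ≠ 0) :
    ∃ ψ : IrrCharacter G, classInner Θ (ψ : G → ℂ) ≠ 0 ∧
      classInner (fun x => (ψ : G → ℂ) (f x)) φ ≠ 0 := by
  obtain ⟨m, rfl⟩ := exists_decomposition_of_isCharacter hΘ
  rw [classInner_comp_decomp] at hne
  obtain ⟨ψ, -, hψ⟩ := Finset.exists_ne_zero_of_sum_ne_zero hne
  refine ⟨ψ, ?_, right_ne_zero_of_mul hψ⟩
  rw [classInner_decomposition_left]
  exact left_ne_zero_of_mul hψ

/-- A constituent with nonzero multiplicity along `f` gives a nonzero multiplicity. -/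
theorem comp_ne_zero_of_constituent (f : H →* G) {Θ : G → ℂ} (hΘ : IsCharacter G Θ)
    (φ : IrrCharacter H) (ψ0 : IrrCharacter G) (ha : classInner Θ (ψ0 : G → ℂ) ≠ 0)
    (hb : classInner (fun x => (ψ0 : G → ℂ) (f x)) (φ : H → ℂ) ≠ 0) :
    classInner (fun x => Θ (f x)) (φ : H → ℂ) ≠ 0 := by
  obtain ⟨m, rfl⟩ := exists_decomposition_of_isCharacter hΘ
  rw [classInner_decomposition_left] at ha
  choose n hn using fun ψ : IrrCharacter G => exists_nat_comp f ψ φ
  rw [classInner_comp_decomp]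
  have h1 : ∑ ψ : IrrCharacter G, (m ψ : ℂ) * classInner (fun x => (ψ : G → ℂ) (f x)) (φ : H → ℂ)
      = ((∑ ψ : IrrCharacter G, m ψ * n ψ : ℕ) : ℂ) := by
    push_cast
    apply Finset.sum_congr rfl
    intro ψ _
    rw [hn ψ]
  rw [h1]
  have hm0 : m ψ0 ≠ 0 := by
    intro h0
    apply ha
    rw [h0]
    simp
  have hn0 : n ψ0 ≠ 0 := by
    intro h0
    apply hb
    rw [hn ψ0, h0]
    simp
  have h2 : m ψ0 * n ψ0 ≤ ∑ ψ : IrrCharacter G, m ψ * n ψ :=
    Finset.single_le_sum (f := fun ψ : IrrCharacter G => m ψ * n ψ) (fun _ _ => Nat.zero_le _)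
      (Finset.mem_univ ψ0)
  have h3 : 0 < m ψ0 * n ψ0 := Nat.mul_pos (Nat.pos_of_ne_zero hm0) (Nat.pos_of_ne_zero hn0)
  have h4 : (∑ ψ : IrrCharacter G, m ψ * n ψ) ≠ 0 := by omega
  exact_mod_cast h4

/-- The principal character as an irreducible character. -/
noncomputable def one (G : Type*) [Group G] [Fintype G] : IrrCharacter G :=
  ⟨fun _ => 1, isIrrCharacter_one⟩

/-- If the principal character occurs once in `Θ` but at least twice along `f`, a nonprincipal
constituent contains the principal character along `f`. -/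
theorem exists_nonprincipal_constituent (f : H →* G) {Θ : G → ℂ} (hΘ : IsCharacter G Θ)
    (h1 : classInner Θ (fun _ => (1 : ℂ)) = 1) {r : ℕ}
    (hr : classInner (fun x => Θ (f x)) (fun _ : H => (1 : ℂ)) = r) (hr2 : 2 ≤ r) :
    ∃ ψ : IrrCharacter G, (ψ : G → ℂ) ≠ (fun _ => 1) ∧ classInner Θ (ψ : G → ℂ) ≠ 0 ∧
      classInner (fun x => (ψ : G → ℂ) (f x)) (fun _ : H => (1 : ℂ)) ≠ 0 := by
  classical
  by_contra hcon
  push_neg at hcon
  obtain ⟨m, rfl⟩ := exists_decomposition_of_isCharacter hΘ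
  have hm1 : classInner (∑ ψ : IrrCharacter G, (m ψ : ℂ) • (ψ : G → ℂ)) ((one G : IrrCharacter G) : G → ℂ)
      = 1 := h1
  rw [classInner_decomposition_left] at hm1
  rw [classInner_comp_decomp] at hr
  have hterm : ∀ ψ : IrrCharacter G, ψ ≠ one G →
      (m ψ : ℂ) * classInner (fun x => (ψ : G → ℂ) (f x)) (fun _ : H => (1 : ℂ)) = 0 := by
    intro ψ hψ
    have hψ' : (ψ : G → ℂ) ≠ fun _ => 1 := fun hh => hψ (Subtype.ext hh)
    by_cases hm : (m ψ : ℂ) = 0
    · rw [hm, zero_mul]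
    · have := hcon ψ hψ' (by rw [classInner_decomposition_left]; exact hm)
      rw [this, mul_zero]
  rw [Finset.sum_eq_single (one G) (fun ψ _ hψ => hterm ψ hψ)
    (fun hh => absurd (Finset.mem_univ _) hh), hm1, one_mul] at hr
  have h2 : classInner (fun x => ((one G : IrrCharacter G) : G → ℂ) (f x)) (fun _ : H => (1 : ℂ))
      = 1 := classInner_one_one
  rw [h2] at hr
  have h3 : (1 : ℕ) = r := by exact_mod_cast hr
  omega

/-- The degree of a constituent is at most the degree of the character. -/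
theorem degree_le_of_constituent {Θ : G → ℂ} (hΘ : IsCharacter G Θ) (ψ0 : IrrCharacter G)
    (ha : classInner Θ (ψ0 : G → ℂ) ≠ 0) {D k : ℕ} (hD : Θ 1 = D) (hk : (ψ0 : G → ℂ) 1 = k) :
    k ≤ D := by
  obtain ⟨m, rfl⟩ := exists_decomposition_of_isCharacter hΘ
  rw [classInner_decomposition_left] at ha
  choose dg hdg0 hdg using fun ψ : IrrCharacter G => exists_pos_nat_apply_one ψ.2
  have h1 : (D : ℂ) = ((∑ ψ : IrrCharacter G, m ψ * dg ψ : ℕ) : ℂ) := by
    rw [← hD]
    push_cast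
    simp only [Finset.sum_apply, Pi.smul_apply, smul_eq_mul]
    apply Finset.sum_congr rfl
    intro ψ _
    rw [hdg ψ]
  have h2 : D = ∑ ψ : IrrCharacter G, m ψ * dg ψ := by exact_mod_cast h1
  have hk' : dg ψ0 = k := by
    have := hdg ψ0
    rw [hk] at this
    exact_mod_cast this.symm
  have hm0 : m ψ0 ≠ 0 := by
    intro h0
    apply ha
    rw [h0]
    simp
  have h3 : m ψ0 * dg ψ0 ≤ ∑ ψ : IrrCharacter G, m ψ * dg ψ :=
    Finset.single_le_sum (f := fun ψ : IrrCharacter G => m ψ * dg ψ) (fun _ _ => Nat.zero_le _)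
      (Finset.mem_univ ψ0)
  have h4 : dg ψ0 ≤ m ψ0 * dg ψ0 := Nat.le_mul_of_pos_left _ (Nat.pos_of_ne_zero hm0)
  omega

/-- The degree of a nonprincipal constituent of a character containing the principal character
is less than the degree of the character. -/
theorem degree_succ_le_of_constituent {Θ : G → ℂ} (hΘ : IsCharacter G Θ)
    (h1 : classInner Θ (fun _ => (1 : ℂ)) ≠ 0) (ψ0 : IrrCharacter G)
    (hne : (ψ0 : G → ℂ) ≠ fun _ => 1)
    (ha : classInner Θ (ψ0 : G → ℂ) ≠ 0) {D k : ℕ} (hD : Θ 1 = D) (hk : (ψ0 : G → ℂ) 1 = k) :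
    k + 1 ≤ D := by
  classical
  obtain ⟨m, rfl⟩ := exists_decomposition_of_isCharacter hΘ
  have h1' : classInner (∑ ψ : IrrCharacter G, (m ψ : ℂ) • (ψ : G → ℂ))
      ((one G : IrrCharacter G) : G → ℂ) ≠ 0 := h1
  rw [classInner_decomposition_left] at ha h1'
  choose dg hdg0 hdg using fun ψ : IrrCharacter G => exists_pos_nat_apply_one ψ.2
  have e1 : (D : ℂ) = ((∑ ψ : IrrCharacter G, m ψ * dg ψ : ℕ) : ℂ) := by
    rw [← hD]
    push_cast
    simp only [Finset.sum_apply, Pi.smul_apply, smul_eq_mul]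
    apply Finset.sum_congr rfl
    intro ψ _
    rw [hdg ψ]
  have h2 : D = ∑ ψ : IrrCharacter G, m ψ * dg ψ := by exact_mod_cast e1
  have hk' : dg ψ0 = k := by
    have := hdg ψ0
    rw [hk] at this
    exact_mod_cast this.symm
  have hm0 : m ψ0 ≠ 0 := by
    intro h0
    apply ha
    rw [h0]
    simp
  have hm1 : m (one G) ≠ 0 := by
    intro h0
    apply h1'
    rw [h0]
    simp
  have hne' : ψ0 ≠ one G := fun hh => hne (congrArg Subtype.val hh)
  have h3 : ∑ ψ ∈ ({ψ0, one G} : Finset (IrrCharacter G)), m ψ * dg ψ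
      ≤ ∑ ψ : IrrCharacter G, m ψ * dg ψ :=
    Finset.sum_le_sum_of_subset (Finset.subset_univ _)
  rw [Finset.sum_pair hne'] at h3
  have h4 : dg ψ0 ≤ m ψ0 * dg ψ0 := Nat.le_mul_of_pos_left _ (Nat.pos_of_ne_zero hm0)
  have h5 : 1 ≤ m (one G) * dg (one G) :=
    Nat.mul_pos (Nat.pos_of_ne_zero hm1) (hdg0 (one G))
  omega

end Cfsg.Agent.Lib.helper3.BLConst
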