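import Mathlib
import Cfsg.Prelude.Def_Characters
import Cfsg.Prelude.Def_Blocks

/-!
# The local ring at a maximal ideal of the algebraic integers: basic facts
-/

set_option autoImplicit false
set_option linter.style.haveILetI false
set_option linter.unusedSectionVars false

namespace Cfsg.Agent.Lib.helper3.LocalM

open Cfsg

variable {M : Ideal AlgInt}

theorem memLocalIdeal_of_mem {a : AlgInt} (ha : a ∈ M) (hM : M ≠ ⊤) : MemLocalIdeal M (a : ℂ) :=
  ⟨a, 1, ha, (Ideal.ne_top_iff_one M).mp hM, by simp⟩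

theorem memLocalIdeal_zero (hM : M ≠ ⊤) : MemLocalIdeal M 0 := by
  have := memLocalIdeal_of_mem (M := M) (a := 0) M.zero_mem hM
  simpa using this

theorem coe_ne_zero_of_notMem {b : AlgInt} (hb : b ∉ M) : (b : ℂ) ≠ 0 := by
  intro h
  apply hb
  have : b = 0 := Subtype.ext h
  rw [this]
  exact M.zero_mem

theorem memLocalIdeal_add [hMp : M.IsPrime] {z w : ℂ} (hz : MemLocalIdeal M z)
    (hw : MemLocalIdeal M w) : MemLocalIdeal M (z + w) := by
  obtain ⟨a, b, ha, hb, rfl⟩ := hz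
  obtain ⟨a', b', ha', hb', rfl⟩ := hw
  refine ⟨a * b' + a' * b, b * b', M.add_mem (M.mul_mem_right _ ha) (M.mul_mem_right _ ha'), ?_, ?_⟩
  · intro h
    rcases hMp.mem_or_mem h with h | h
    · exact hb h
    · exact hb' h
  · have h1 := coe_ne_zero_of_notMem hb
    have h2 := coe_ne_zero_of_notMem hb'
    push_cast
    field_simp

theorem memLocalIdeal_neg {z : ℂ} (hz : MemLocalIdeal M z) : MemLocalIdeal M (-z) := by
  obtain ⟨a, b, ha, hb, rfl⟩ := hz
  refine ⟨-a, b, M.neg_mem ha, hb, ?_⟩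
  push_cast
  ring

theorem memLocalIdeal_sub [hMp : M.IsPrime] {z w : ℂ} (hz : MemLocalIdeal M z)
    (hw : MemLocalIdeal M w) : MemLocalIdeal M (z - w) := by
  rw [sub_eq_add_neg]
  exact memLocalIdeal_add hz (memLocalIdeal_neg hw)

theorem memLocalIdeal_mul_integral {z : ℂ} (hz : MemLocalIdeal M z) {c : ℂ}
    (hc : IsIntegral ℤ c) : MemLocalIdeal M (c * z) := by
  obtain ⟨a, b, ha, hb, rfl⟩ := hz
  refine ⟨⟨c, hc⟩ * a, b, M.mul_mem_left _ ha, hb, ?_⟩
  push_cast
  ring

theorem memLocalIdeal_sum [hMp : M.IsPrime] {ι : Type*} (s : Finset ι) (f : ι → ℂ)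
    (h : ∀ i ∈ s, MemLocalIdeal M (f i)) : MemLocalIdeal M (∑ i ∈ s, f i) := by
  classical
  induction s using Finset.induction_on with
  | empty =>
    rw [Finset.sum_empty]
    exact memLocalIdeal_zero hMp.ne_top
  | insert a s ha ih =>
    rw [Finset.sum_insert ha]
    exact memLocalIdeal_add (h a (Finset.mem_insert_self a s))
      (ih (fun i hi => h i (Finset.mem_insert_of_mem hi)))

/-- An algebraic integer in the local ideal lies in `M`. -/
theorem mem_of_memLocalIdeal [hMp : M.IsPrime] {z : AlgInt} (hz : MemLocalIdeal M (z : ℂ)) :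
    z ∈ M := by
  obtain ⟨a, b, ha, hb, h⟩ := hz
  have h1 := coe_ne_zero_of_notMem hb
  have h2 : z * b = a := by
    apply Subtype.ext
    push_cast
    rw [← h]
    field_simp
  have h3 : z * b ∈ M := h2 ▸ ha
  rcases hMp.mem_or_mem h3 with h4 | h4
  · exact h4
  · exact absurd h4 hb

theorem isPrime_of_isPModular {p : ℕ} (hM : IsPModular p M) : M.IsPrime := hM.2.1.isPrime

/-- A natural number lies in `M` iff it is divisible by `p`. -/
theorem natCast_mem_iff {p : ℕ} (hM : IsPModular p M) (n : ℕ) : (n : AlgInt) ∈ M ↔ p ∣ n := by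
  constructor
  · intro hn
    by_contra hpn
    have hcop : Nat.Coprime p n := (Nat.Prime.coprime_iff_not_dvd hM.1).mpr hpn
    have h1 : ((Nat.gcd p n : ℕ) : ℤ) = p * Nat.gcdA p n + n * Nat.gcdB p n := Nat.gcd_eq_gcd_ab p n
    rw [hcop.gcd_eq_one] at h1
    have h2 : (1 : AlgInt) = (p : AlgInt) * ((Nat.gcdA p n : ℤ) : AlgInt)
        + (n : AlgInt) * ((Nat.gcdB p n : ℤ) : AlgInt) := by
      have := congrArg (fun z : ℤ => (z : AlgInt)) h1
      push_cast at this
      exact this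
    apply (Ideal.ne_top_iff_one M).mp hM.2.1.ne_top
    rw [h2]
    exact M.add_mem (M.mul_mem_right _ hM.2.2) (M.mul_mem_right _ hn)
  · rintro ⟨k, rfl⟩
    push_cast
    exact M.mul_mem_right _ hM.2.2

/-- A `p`-power root of unity is congruent to `1` modulo `M`. -/
theorem sub_one_mem_of_pow {p : ℕ} (hM : IsPModular p M) (ε : AlgInt) (k : ℕ)
    (hε : ε ^ p ^ k = 1) : ε - 1 ∈ M := by
  haveI := hM.2.1
  haveI : Fact p.Prime := ⟨hM.1⟩
  letI : Field (AlgInt ⧸ M) := Ideal.Quotient.field M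
  haveI : CharP (AlgInt ⧸ M) p := by
    rw [CharP.charP_iff_prime_eq_zero hM.1]
    have : ((p : AlgInt) : AlgInt ⧸ M) = 0 := Ideal.Quotient.eq_zero_iff_mem.mpr hM.2.2
    simpa using this
  have h1 : ((Ideal.Quotient.mk M ε) - 1) ^ p ^ k = 0 := by
    rw [sub_pow_char_pow, ← map_pow, hε, map_one, one_pow, sub_self]
  have h2 := pow_eq_zero_iff (pow_ne_zero k hM.1.ne_zero) |>.mp h1
  have h3 : Ideal.Quotient.mk M (ε - 1) = 0 := by
    rw [map_sub, map_one]
    exact h2
  exact Ideal.Quotient.eq_zero_iff_mem.mp h3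

end Cfsg.Agent.Lib.helper3.LocalM
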