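import Mathlib
import Cfsg.Prelude.Def_Characters
import Cfsg.Prelude.Def_Blocks
import Cfsg.Agent.Lib.helper3.LocalM
import Cfsg.Agent.Lib.helper3.Central
import Cfsg.Agent.Lib.helper3.Irr9

/-!
# Basic facts on blocks: central characters are algebraic integers; `SameBlock` is an
equivalence relation
-/

set_option autoImplicit false
set_option linter.style.haveILetI false
set_option linter.unusedSectionVars false

namespace Cfsg.Agent.Lib.helper3.Block

open Cfsg Module Cfsg.Agent.Lib.helper3.CharBasic Cfsg.Agent.Lib.helper3.Irr
open Cfsg.Agent.Lib.helper3.Central Cfsg.Agent.Lib.helper3.LocalM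

variable {G : Type*} [Group G]

/-- The central character of an irreducible character takes algebraic integer values. -/
theorem isIntegral_centralChar [Finite G] {χ : G → ℂ} (hχ : IsIrrCharacter G χ) (g : G) :
    IsIntegral ℤ (centralChar χ g) := by
  classical
  letI : Fintype G := Fintype.ofFinite G
  obtain ⟨n, ρ, hirr, rfl⟩ := hχ
  haveI := hirr
  unfold centralChar
  rw [Representation.char_one]
  exact isIntegral_index_mul_character_div ρ g

theorem centralChar_one_fun (g : G) :
    centralChar (fun _ : G => (1 : ℂ)) g = ((Subgroup.centralizer ({g} : Set G)).index : ℂ) := by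
  unfold centralChar
  simp

variable {M : Ideal AlgInt}

theorem sameBlock_refl (hM : M ≠ ⊤) (χ : G → ℂ) : SameBlock M χ χ := by
  intro g
  rw [sub_self]
  exact memLocalIdeal_zero hM

theorem sameBlock_symm {χ ψ : G → ℂ} (h : SameBlock M χ ψ) : SameBlock M ψ χ := by
  intro g
  have := memLocalIdeal_neg (h g)
  rwa [neg_sub] at this

theorem sameBlock_trans [M.IsPrime] {χ ψ φ : G → ℂ} (h1 : SameBlock M χ ψ) (h2 : SameBlock M ψ φ) :
    SameBlock M χ φ := by
  intro g
  have := memLocalIdeal_add (h1 g) (h2 g)
  rwa [sub_add_sub_cancel] at this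

end Cfsg.Agent.Lib.helper3.Block
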