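import Mathlib
import Cfsg.Prelude.Def_Characters
import Cfsg.Agent.Lib.helper3.Cyclo
import Cfsg.Agent.Lib.helper3.CommCount
import Cfsg.Agent.Lib.helper3.Irr6
import Cfsg.Agent.Lib.helper3.Irr9
import Cfsg.Agent.Lib.helper3.Degrees

set_option autoImplicit false
set_option linter.style.haveILetI false
set_option linter.unusedSectionVars false

/-!
# Galois conjugates `g ↦ χ (g ^ k)` of irreducible characters
-/

namespace Cfsg.Agent.Lib.helper3.GalPow

open Cfsg Module Cfsg.Agent.Lib.helper3.Irr Cfsg.Agent.Lib.helper3.CharBasic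
open Cfsg.Agent.Lib.helper3.Cyclo Cfsg.Agent.Lib.helper3.Central
open scoped ComplexConjugate

variable {G : Type*} [Group G] [Fintype G]

/-- Multiplicativity of the central character, in averaged form. -/
theorem sum_irr_conj_mul {χ : G → ℂ} (hχ : IsIrrCharacter G χ) (a b : G) :
    χ 1 * ∑ y : G, χ (a * (y * b * y⁻¹)) = (Nat.card G : ℂ) * χ a * χ b := by
  classical
  obtain ⟨n, ρ, hirr, rfl⟩ := hχ
  haveI := hirr
  have hV := finrank_ne_zero_of_irreducible ρ
  have h1 : ∑ y : G, ρ.character (a * (y * b * y⁻¹))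
      = LinearMap.trace ℂ _ (ρ a * ∑ y : G, ρ (y * b * y⁻¹)) := by
    rw [Finset.mul_sum, map_sum]
    apply Finset.sum_congr rfl
    intro y _
    rw [← map_mul]
    rfl
  rw [h1, Cfsg.Agent.Lib.helper3.Central.conjSum_eq_smul ρ b, mul_smul_comm, map_smul,
    Representation.char_one, smul_eq_mul]
  have h2 : LinearMap.trace ℂ (Fin n → ℂ) (ρ a * LinearMap.id) = ρ.character a := rfl
  rw [h2]
  field_simp

/-- A class function of norm one, positive at `1`, satisfying the multiplicativity of central
characters is an irreducible character. -/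
theorem isIrrCharacter_of_mul_identity (f : G → ℂ) (hf : IsClassFunction G f) (d : ℕ)
    (hd : f 1 = d) (hd0 : 0 < d)
    (hII : ∀ a b : G, f 1 * ∑ y : G, f (a * (y * b * y⁻¹)) = (Nat.card G : ℂ) * f a * f b)
    (hnorm : classInner f f = 1) : IsIrrCharacter G f := by
  classical
  have hdec := classFunction_eq_sum f hf
  have hex : ∃ φ : IrrCharacter G, classInner f (φ : G → ℂ) ≠ 0 := by
    by_contra hne
    push Not at hne
    have h0 : f = 0 := by
      rw [hdec]
      apply Finset.sum_eq_zero
      intro ψ _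
      rw [hne ψ, zero_smul]
    have := congrFun h0 1
    rw [hd, Pi.zero_apply] at this
    have : (d : ℂ) ≠ 0 := by exact_mod_cast hd0.ne'
    contradiction
  obtain ⟨φ, hφ⟩ := hex
  obtain ⟨m, hm, -, hm0⟩ := irr_degree_dvd_card φ.2
  have hn0 : (Nat.card G : ℂ) ≠ 0 := by
    have : 0 < Nat.card G := Nat.card_pos
    exact_mod_cast this.ne'
  have hdne : (d : ℂ) ≠ 0 := by exact_mod_cast hd0.ne'
  have hmne : (m : ℂ) ≠ 0 := by exact_mod_cast hm0.ne'
  have key : ∀ b : G, (m : ℂ) * f b = (d : ℂ) * (φ : G → ℂ) b := by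
    intro b
    set F : G → ℂ := fun a => ∑ y : G, f (a * (y * b * y⁻¹)) with hF
    -- first computation
    have h1 : F = ∑ ψ : IrrCharacter G, classInner f (ψ : G → ℂ) •
        (((Nat.card G : ℂ) * (ψ : G → ℂ) b / (ψ : G → ℂ) 1) • (ψ : G → ℂ)) := by
      funext a
      rw [hF]
      simp only
      have h2 : ∀ y : G, f (a * (y * b * y⁻¹))
          = ∑ ψ : IrrCharacter G, classInner f (ψ : G → ℂ) * (ψ : G → ℂ) (a * (y * b * y⁻¹)) := by
        intro y
        have := congrFun hdec (a * (y * b * y⁻¹))
        simp only [Finset.sum_apply, Pi.smul_apply, smul_eq_mul] at this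
        exact this
      rw [Finset.sum_congr rfl (fun y _ => h2 y), Finset.sum_comm]
      simp only [Finset.sum_apply, Pi.smul_apply, smul_eq_mul]
      apply Finset.sum_congr rfl
      intro ψ _
      rw [← Finset.mul_sum]
      congr 1
      have h3 := sum_irr_conj_mul ψ.2 a b
      have h4 : (ψ : G → ℂ) 1 ≠ 0 := apply_one_ne_zero ψ.2
      field_simp
      linear_combination h3
    have e1 : classInner F (φ : G → ℂ)
        = classInner f (φ : G → ℂ) * ((Nat.card G : ℂ) * (φ : G → ℂ) b / (φ : G → ℂ) 1) := by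
      rw [h1, classInner_sum_left]
      rw [Finset.sum_eq_single φ]
      · rw [classInner_smul_left, classInner_smul_left, irr_classInner_self φ.2, mul_one]
      · intro ψ _ hne
        rw [classInner_smul_left, classInner_smul_left,
          irr_classInner_eq_zero ψ.2 φ.2 (fun h => hne (Subtype.ext h)), mul_zero, mul_zero]
      · intro h
        exact absurd (Finset.mem_univ φ) h
    -- second computation
    have h5 : F = ((Nat.card G : ℂ) * f b / (d : ℂ)) • f := by
      funext a
      rw [hF]
      simp only [Pi.smul_apply, smul_eq_mul]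
      have := hII a b
      rw [hd] at this
      field_simp
      linear_combination this
    have e2 : classInner F (φ : G → ℂ)
        = ((Nat.card G : ℂ) * f b / (d : ℂ)) * classInner f (φ : G → ℂ) := by
      rw [h5, classInner_smul_left]
    rw [e1, hm] at e2
    have e3 : (Nat.card G : ℂ) * (φ : G → ℂ) b / (m : ℂ) = (Nat.card G : ℂ) * f b / (d : ℂ) := by
      have := mul_left_cancel₀ hφ (e2.trans (mul_comm _ _))
      exact this
    field_simp at e3
    linear_combination -e3
  -- `f` is a positive multiple of `φ`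
  have hfeq : f = ((d : ℂ) / (m : ℂ)) • (φ : G → ℂ) := by
    funext b
    rw [Pi.smul_apply, smul_eq_mul]
    have := key b
    field_simp
    linear_combination this
  have hdm : d = m := by
    rw [hfeq, classInner_smul_left, classInner_smul_right, irr_classInner_self φ.2, mul_one] at hnorm
    have h6 : conj ((d : ℂ) / (m : ℂ)) = (d : ℂ) / (m : ℂ) := by
      rw [map_div₀, Complex.conj_natCast, Complex.conj_natCast]
    rw [h6] at hnorm
    have h7 : ((d : ℂ) / (m : ℂ)) ^ 2 = 1 := by rw [sq]; exact hnorm
    have h8 : ((d : ℝ) / (m : ℝ)) ^ 2 = 1 := by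
      have : (((d : ℝ) / (m : ℝ) : ℝ) : ℂ) ^ 2 = 1 := by
        push_cast
        exact h7
      exact_mod_cast this
    have h9 : (0 : ℝ) < (d : ℝ) / (m : ℝ) := by positivity
    have h10 : (d : ℝ) / (m : ℝ) = 1 := by nlinarith
    have hm0' : (m : ℝ) ≠ 0 := by exact_mod_cast hm0.ne'
    field_simp at h10
    exact_mod_cast h10
  rw [hfeq, hdm, div_self hmne, one_smul]
  exact φ.2

end Cfsg.Agent.Lib.helper3.GalPow

namespace Cfsg.Agent.Lib.helper3.GalPow

open Cfsg Module Cfsg.Agent.Lib.helper3.Irr Cfsg.Agent.Lib.helper3.CharBasic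
open Cfsg.Agent.Lib.helper3.Cyclo Cfsg.Agent.Lib.helper3.Central
open scoped ComplexConjugate

variable {G : Type*} [Group G] [Fintype G]

/-- The Galois conjugate `g ↦ χ (g ^ k)` of an irreducible character, `k` coprime to `|G|`, is an
irreducible character. -/
theorem isIrrCharacter_pow {χ : G → ℂ} (hχ : IsIrrCharacter G χ) (k : ℕ)
    (hk : k.Coprime (Nat.card G)) : IsIrrCharacter G (fun g => χ (g ^ k)) := by
  classical
  haveI : NeZero (Nat.card G) := ⟨Nat.card_pos.ne'⟩
  obtain ⟨d, hd, -, hd0⟩ := irr_degree_dvd_card hχ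
  have hχcf := isClassFunction_of_isCharacter (isCharacter_of_isIrrCharacter hχ)
  have hII := sum_irr_conj_mul hχ
  have hnormχ := irr_classInner_self hχ
  obtain ⟨m, ρ, hirr, rfl⟩ := hχ
  have hn : ∀ g : G, g ^ Nat.card G = 1 := fun g => pow_card_eq_one'
  choose A hAint hAemb hAσ using fun g => exists_cyclo_lift (Nat.card G) hn ρ g
  obtain ⟨σ, hσ⟩ := exists_aut (Nat.card G) k hk
  have hfeq : ∀ g : G, ρ.character (g ^ k) = emb (Nat.card G) (σ (A g)) :=
    fun g => (hAσ g σ k hσ).symm
  apply isIrrCharacter_of_mul_identity (fun g => ρ.character (g ^ k)) _ d _ hd0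
  · -- multiplicativity
    intro a b
    have hK : A 1 * ∑ y : G, A (a * (y * b * y⁻¹))
        = (Nat.card G : CyclotomicField (Nat.card G) ℚ) * A a * A b := by
      apply emb_injective (Nat.card G)
      rw [map_mul, map_sum, map_mul, map_mul, map_natCast]
      simp only [hAemb]
      exact hII a b
    have hK' := congrArg (fun z => emb (Nat.card G) (σ z)) hK
    simp only [map_mul, map_sum, map_natCast] at hK'
    simp only [hfeq]
    exact hK'
  · -- norm
    rw [Cfsg.Agent.Lib.helper3.IndFun.classInner_apply] at hnormχ ⊢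
    rw [← hnormχ]
    congr 1
    exact Equiv.sum_comp (powCoprime hk.symm) (fun g => ρ.character g * conj (ρ.character g))
  · -- class function
    intro g h
    simp only
    rw [conj_pow]
    exact hχcf (g ^ k) h
  · simp only [one_pow]
    exact hd

end Cfsg.Agent.Lib.helper3.GalPow
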