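import Mathlib
import Cfsg.Prelude.Def_Characters
import Cfsg.Prelude.Def_Blocks
import Cfsg.Agent.Lib.helper3.BlockBasic
import Cfsg.Agent.Lib.helper3.GalPow
import Cfsg.Agent.Lib.helper3.Irr13
import Cfsg.Agent.Lib.helper3.Irr7

/-!
# Central elements of the group algebra in Fourier coordinates

A central element `z = ∑_χ c_χ e_χ` of the group algebra is represented by the family
`c : IrrCharacter G → ℂ`; `coef c g` is the coefficient of `g` in `z`.  Pointwise multiplication
of families corresponds to convolution of coefficients.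
-/

set_option autoImplicit false
set_option linter.style.haveILetI false
set_option linter.unusedSectionVars false

namespace Cfsg.Agent.Lib.helper3.Block

open Cfsg Module Cfsg.Agent.Lib.helper3.CharBasic Cfsg.Agent.Lib.helper3.Irr
open Cfsg.Agent.Lib.helper3.Central Cfsg.Agent.Lib.helper3.LocalM Cfsg.Agent.Lib.helper3.IndFun
open scoped ComplexConjugate

variable {G : Type*} [Group G] [Fintype G]

/-- Generalized orthogonality relation. -/
theorem gen_orthogonality (χ ψ : IrrCharacter G) (g : G) :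
    ∑ x : G, (χ : G → ℂ) x * (ψ : G → ℂ) (x⁻¹ * g)
      = if χ = ψ then (Nat.card G : ℂ) * (χ : G → ℂ) g / (χ : G → ℂ) 1 else 0 := by
  classical
  have hψc := isCharacter_of_isIrrCharacter ψ.2
  have hχc := isCharacter_of_isIrrCharacter χ.2
  have hψcf := isClassFunction_of_isCharacter hψc
  have hχcf := isClassFunction_of_isCharacter hχc
  have hψ1 := apply_one_ne_zero ψ.2
  have hG0 : (Nat.card G : ℂ) ≠ 0 := by
    have : Nat.card G ≠ 0 := Nat.card_pos.ne'
    exact_mod_cast this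
  obtain ⟨S, hS⟩ : ∃ S : ℂ, S = ∑ x : G, (χ : G → ℂ) x * (ψ : G → ℂ) (x⁻¹ * g) := ⟨_, rfl⟩
  rw [← hS]
  -- reindex by conjugation
  have h1 : ∀ y : G, S = ∑ x : G, (χ : G → ℂ) x * (ψ : G → ℂ) (g * (y * x⁻¹ * y⁻¹)) := by
    intro y
    rw [hS, ← Equiv.sum_comp (MulAut.conj y).toEquiv]
    apply Finset.sum_congr rfl
    intro x _
    simp only [MulEquiv.toEquiv_eq_coe, EquivLike.coe_coe, MulAut.conj_apply]
    rw [hχcf x y]
    congr 1
    have e1 : (y * x * y⁻¹)⁻¹ * g = (y * x⁻¹ * y⁻¹) * (g * (y * x⁻¹ * y⁻¹)) * (y * x⁻¹ * y⁻¹)⁻¹ := by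
      group
    rw [e1, hψcf]
  have h2 : (Nat.card G : ℂ) * S
      = ∑ x : G, (χ : G → ℂ) x * ∑ y : G, (ψ : G → ℂ) (g * (y * x⁻¹ * y⁻¹)) := by
    have : (Nat.card G : ℂ) * S = ∑ _y : G, S := by
      rw [Finset.sum_const, Finset.card_univ, nsmul_eq_mul, Nat.card_eq_fintype_card]
    rw [this]
    rw [Finset.sum_congr rfl (fun y _ => h1 y), Finset.sum_comm]
    apply Finset.sum_congr rfl
    intro x _
    rw [Finset.mul_sum]
  have h3 : ∀ x : G, ∑ y : G, (ψ : G → ℂ) (g * (y * x⁻¹ * y⁻¹))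
      = (Nat.card G : ℂ) * (ψ : G → ℂ) g * conj ((ψ : G → ℂ) x) / (ψ : G → ℂ) 1 := by
    intro x
    have := Cfsg.Agent.Lib.helper3.GalPow.sum_irr_conj_mul ψ.2 g x⁻¹
    rw [isCharacter_apply_inv hψc x] at this
    field_simp
    linear_combination this
  rw [Finset.sum_congr rfl (fun x _ => by rw [h3 x])] at h2
  have h4 : ∑ x : G, (χ : G → ℂ) x * ((Nat.card G : ℂ) * (ψ : G → ℂ) g * conj ((ψ : G → ℂ) x)
      / (ψ : G → ℂ) 1) = (Nat.card G : ℂ) * (ψ : G → ℂ) g / (ψ : G → ℂ) 1
        * ((Nat.card G : ℂ) * classInner (χ : G → ℂ) (ψ : G → ℂ)) := by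
    rw [classInner_apply, Finset.mul_sum, Finset.mul_sum, Finset.mul_sum]
    apply Finset.sum_congr rfl
    intro x _
    field_simp
  rw [h4, irr_classInner_eq χ.2 ψ.2] at h2
  by_cases hχψ : χ = ψ
  · subst hχψ
    rw [if_pos rfl] at h2 ⊢
    have : (Nat.card G : ℂ) * S = (Nat.card G : ℂ) * ((Nat.card G : ℂ) * (χ : G → ℂ) g
        / (χ : G → ℂ) 1) := by
      rw [h2]; ring
    exact mul_left_cancel₀ hG0 this
  · have hne : (χ : G → ℂ) ≠ (ψ : G → ℂ) := fun h => hχψ (Subtype.ext h)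
    rw [if_neg hne] at h2
    rw [if_neg hχψ]
    have : (Nat.card G : ℂ) * S = (Nat.card G : ℂ) * 0 := by
      rw [h2]; ring
    exact mul_left_cancel₀ hG0 this

/-- The coefficient at `g` of the central element with Fourier coordinates `c`. -/
noncomputable def coef (c : IrrCharacter G → ℂ) (g : G) : ℂ :=
  (Nat.card G : ℂ)⁻¹ * ∑ χ : IrrCharacter G, c χ * (χ : G → ℂ) 1 * conj ((χ : G → ℂ) g)

theorem coef_add (c d : IrrCharacter G → ℂ) (g : G) : coef (c + d) g = coef c g + coef d g := by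
  unfold coef
  rw [← mul_add, ← Finset.sum_add_distrib]
  congr 1
  apply Finset.sum_congr rfl
  intro χ _
  simp only [Pi.add_apply]
  ring

theorem coef_sub (c d : IrrCharacter G → ℂ) (g : G) : coef (c - d) g = coef c g - coef d g := by
  unfold coef
  rw [← mul_sub, ← Finset.sum_sub_distrib]
  congr 1
  apply Finset.sum_congr rfl
  intro χ _
  simp only [Pi.sub_apply]
  ring

theorem coef_smul (r : ℂ) (c : IrrCharacter G → ℂ) (g : G) : coef (r • c) g = r * coef c g := by
  unfold coef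
  rw [mul_left_comm]
  congr 1
  rw [Finset.mul_sum]
  apply Finset.sum_congr rfl
  intro χ _
  simp only [Pi.smul_apply, smul_eq_mul]
  ring

theorem conj_apply_one (χ : IrrCharacter G) : conj ((χ : G → ℂ) 1) = (χ : G → ℂ) 1 := by
  obtain ⟨n, -, hn⟩ := exists_pos_nat_apply_one χ.2
  rw [hn, Complex.conj_natCast]

/-- Pointwise products correspond to convolutions. -/
theorem coef_mul (c d : IrrCharacter G → ℂ) (g : G) :
    coef (c * d) g = ∑ x : G, coef c x * coef d (x⁻¹ * g) := by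
  classical
  have hG0 : (Nat.card G : ℂ) ≠ 0 := by
    have : Nat.card G ≠ 0 := Nat.card_pos.ne'
    exact_mod_cast this
  unfold coef
  have h1 : ∀ x : G, ((Nat.card G : ℂ)⁻¹ * ∑ χ : IrrCharacter G, c χ * (χ : G → ℂ) 1 *
      conj ((χ : G → ℂ) x)) * ((Nat.card G : ℂ)⁻¹ * ∑ ψ : IrrCharacter G, d ψ * (ψ : G → ℂ) 1 *
      conj ((ψ : G → ℂ) (x⁻¹ * g)))
      = (Nat.card G : ℂ)⁻¹ * (Nat.card G : ℂ)⁻¹ * ∑ χ : IrrCharacter G, ∑ ψ : IrrCharacter G,
        c χ * (χ : G → ℂ) 1 * d ψ * (ψ : G → ℂ) 1 *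
          conj ((χ : G → ℂ) x * (ψ : G → ℂ) (x⁻¹ * g)) := by
    intro x
    rw [mul_mul_mul_comm, Finset.sum_mul_sum]
    congr 1
    apply Finset.sum_congr rfl
    intro χ _
    apply Finset.sum_congr rfl
    intro ψ _
    rw [map_mul]
    ring
  rw [Finset.sum_congr rfl (fun x _ => h1 x), ← Finset.mul_sum, Finset.sum_comm]
  have h2 : ∀ χ : IrrCharacter G, ∑ x : G, ∑ ψ : IrrCharacter G,
      c χ * (χ : G → ℂ) 1 * d ψ * (ψ : G → ℂ) 1 * conj ((χ : G → ℂ) x * (ψ : G → ℂ) (x⁻¹ * g))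
      = (Nat.card G : ℂ) * (c χ * d χ * (χ : G → ℂ) 1 * conj ((χ : G → ℂ) g)) := by
    intro χ
    rw [Finset.sum_comm]
    have h3 : ∀ ψ : IrrCharacter G, ∑ x : G,
        c χ * (χ : G → ℂ) 1 * d ψ * (ψ : G → ℂ) 1 * conj ((χ : G → ℂ) x * (ψ : G → ℂ) (x⁻¹ * g))
        = c χ * (χ : G → ℂ) 1 * d ψ * (ψ : G → ℂ) 1 *
          conj (if χ = ψ then (Nat.card G : ℂ) * (χ : G → ℂ) g / (χ : G → ℂ) 1 else 0) := by
      intro ψ
      rw [← Finset.mul_sum, ← map_sum, gen_orthogonality]
    rw [Finset.sum_congr rfl (fun ψ _ => h3 ψ), Finset.sum_eq_single χ]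
    · rw [if_pos rfl, map_div₀, map_mul, Complex.conj_natCast, conj_apply_one]
      have := apply_one_ne_zero χ.2
      field_simp
    · intro ψ _ hne
      rw [if_neg (Ne.symm hne), map_zero, mul_zero]
    · intro h
      exact absurd (Finset.mem_univ χ) h
  rw [Finset.sum_congr rfl (fun χ _ => h2 χ), ← Finset.mul_sum]
  have h4 : ∑ χ : IrrCharacter G, (c * d) χ * (χ : G → ℂ) 1 * conj ((χ : G → ℂ) g)
      = ∑ χ : IrrCharacter G, c χ * d χ * (χ : G → ℂ) 1 * conj ((χ : G → ℂ) g) := by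
    apply Finset.sum_congr rfl
    intro χ _
    rfl
  rw [h4]
  field_simp

open Classical in
theorem card_conj_eq (a g : G) :
    Nat.card {y : G // y * g * y⁻¹ = a}
      = if IsConj a g then Nat.card (Subgroup.centralizer ({a} : Set G)) else 0 := by
  classical
  split_ifs with h
  · obtain ⟨t, ht⟩ := isConj_iff.mp h
    -- `t * a * t⁻¹ = g`
    apply Nat.card_congr
    refine ⟨fun y => ⟨y.1 * t, ?_⟩, fun z => ⟨z.1 * t⁻¹, ?_⟩, ?_, ?_⟩
    · rw [Subgroup.mem_centralizer_iff]
      intro b hb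
      rw [Set.mem_singleton_iff] at hb
      subst hb
      have h5 : y.1 * (t * b * t⁻¹) * y.1⁻¹ = b := by
        rw [ht]; exact y.2
      calc b * (y.1 * t) = (y.1 * (t * b * t⁻¹) * y.1⁻¹) * (y.1 * t) := by rw [h5]
        _ = y.1 * t * b := by group
    · have hz := z.2
      rw [Subgroup.mem_centralizer_iff] at hz
      have h1 := hz a (Set.mem_singleton a)
      rw [← ht]
      calc z.1 * t⁻¹ * (t * a * t⁻¹) * (z.1 * t⁻¹)⁻¹ = (z.1 * a) * z.1⁻¹ := by group
        _ = (a * z.1) * z.1⁻¹ := by rw [h1]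
        _ = a := by group
    · intro y
      apply Subtype.ext
      simp
    · intro z
      apply Subtype.ext
      simp
  · rw [Nat.card_eq_zero]
    left
    constructor
    rintro ⟨y, hy⟩
    apply h
    rw [← hy]
    exact (isConj_iff.mpr ⟨y, rfl⟩ : IsConj g (y * g * y⁻¹)).symm

open Classical in
theorem coef_one (g : G) : coef (fun _ : IrrCharacter G => (1 : ℂ)) g = if g = 1 then 1 else 0 := by
  classical
  have hG0 : (Nat.card G : ℂ) ≠ 0 := by
    have : Nat.card G ≠ 0 := Nat.card_pos.ne'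
    exact_mod_cast this
  unfold coef
  have h1 : ∑ χ : IrrCharacter G, (1 : ℂ) * (χ : G → ℂ) 1 * conj ((χ : G → ℂ) g)
      = (Nat.card {y : G // y * g * y⁻¹ = 1} : ℂ) := by
    rw [← sum_irr_mul_conj 1 g]
    apply Finset.sum_congr rfl
    intro χ _
    ring
  rw [h1, card_conj_eq]
  by_cases hg : g = 1
  · subst hg
    rw [if_pos rfl, if_pos (IsConj.refl 1)]
    have : Nat.card (Subgroup.centralizer ({(1 : G)} : Set G)) = Nat.card G := by
      have h2 : Subgroup.centralizer ({(1 : G)} : Set G) = ⊤ := by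
        rw [eq_top_iff]
        intro x _
        rw [Subgroup.mem_centralizer_iff]
        intro b hb
        rw [Set.mem_singleton_iff] at hb
        subst hb
        simp
      rw [h2, Subgroup.card_top]
    rw [this]
    field_simp
  · rw [if_neg hg, if_neg]
    · simp
    · intro h
      apply hg
      exact isConj_one_right.mp h

open Classical in
theorem coef_centralChar (a g : G) :
    coef (fun χ : IrrCharacter G => centralChar (χ : G → ℂ) a) g
      = if IsConj a g then 1 else 0 := by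
  classical
  have hG0 : (Nat.card G : ℂ) ≠ 0 := by
    have : Nat.card G ≠ 0 := Nat.card_pos.ne'
    exact_mod_cast this
  unfold coef
  have h1 : ∑ χ : IrrCharacter G, centralChar (χ : G → ℂ) a * (χ : G → ℂ) 1 *
      conj ((χ : G → ℂ) g)
      = ((Subgroup.centralizer ({a} : Set G)).index : ℂ)
        * (Nat.card {y : G // y * g * y⁻¹ = a} : ℂ) := by
    rw [← sum_irr_mul_conj a g, Finset.mul_sum]
    apply Finset.sum_congr rfl
    intro χ _
    unfold centralChar
    have := apply_one_ne_zero χ.2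
    field_simp
  rw [h1, card_conj_eq]
  split_ifs with h
  · have h2 : ((Subgroup.centralizer ({a} : Set G)).index : ℂ)
        * (Nat.card (Subgroup.centralizer ({a} : Set G)) : ℂ) = (Nat.card G : ℂ) := by
      rw [← Nat.cast_mul, Subgroup.index_mul_card]
    rw [h2]
    field_simp
  · simp


/-- The central element with Fourier coordinates `c` has algebraic-integer coefficients. -/
def IntCoef (c : IrrCharacter G → ℂ) : Prop := ∀ g : G, IsIntegral ℤ (coef c g)

theorem intCoef_one : IntCoef (fun _ : IrrCharacter G => (1 : ℂ)) := by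
  classical
  intro g
  rw [coef_one]
  split_ifs
  · exact isIntegral_one
  · exact isIntegral_zero

theorem intCoef_centralChar (a : G) :
    IntCoef (fun χ : IrrCharacter G => centralChar (χ : G → ℂ) a) := by
  classical
  intro g
  rw [coef_centralChar]
  split_ifs
  · exact isIntegral_one
  · exact isIntegral_zero

theorem IntCoef.mul {c d : IrrCharacter G → ℂ} (hc : IntCoef c) (hd : IntCoef d) :
    IntCoef (c * d) := by
  intro g
  rw [coef_mul]
  exact IsIntegral.sum _ (fun x _ => (hc x).mul (hd _))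

theorem IntCoef.sub {c d : IrrCharacter G → ℂ} (hc : IntCoef c) (hd : IntCoef d) :
    IntCoef (c - d) := by
  intro g
  rw [coef_sub]
  exact (hc g).sub (hd g)

theorem IntCoef.add {c d : IrrCharacter G → ℂ} (hc : IntCoef c) (hd : IntCoef d) :
    IntCoef (c + d) := by
  intro g
  rw [coef_add]
  exact (hc g).add (hd g)

theorem IntCoef.smul {r : ℂ} (hr : IsIntegral ℤ r) {c : IrrCharacter G → ℂ} (hc : IntCoef c) :
    IntCoef (r • c) := by
  intro g
  rw [coef_smul]
  exact hr.mul (hc g)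

theorem intCoef_const {r : ℂ} (hr : IsIntegral ℤ r) :
    IntCoef (fun _ : IrrCharacter G => r) := by
  have : (fun _ : IrrCharacter G => r) = r • (fun _ : IrrCharacter G => (1 : ℂ)) := by
    funext χ
    simp
  rw [this]
  exact IntCoef.smul hr intCoef_one

theorem IntCoef.prod {ι : Type*} (s : Finset ι) (f : ι → IrrCharacter G → ℂ)
    (h : ∀ i ∈ s, IntCoef (f i)) : IntCoef (∏ i ∈ s, f i) := by
  classical
  induction s using Finset.induction_on with
  | empty =>
    rw [Finset.prod_empty]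
    exact intCoef_one
  | insert a s ha ih =>
    rw [Finset.prod_insert ha]
    exact IntCoef.mul (h a (Finset.mem_insert_self a s))
      (ih (fun i hi => h i (Finset.mem_insert_of_mem hi)))

variable {M : Ideal AlgInt}

theorem not_memLocalIdeal_one [hMp : M.IsPrime] : ¬ MemLocalIdeal M 1 := by
  intro h
  have h1 : ((1 : AlgInt) : ℂ) = 1 := rfl
  rw [← h1] at h
  exact (Ideal.ne_top_iff_one M).mp hMp.ne_top (mem_of_memLocalIdeal h)

theorem memLocalIdeal_or_of_mul [hMp : M.IsPrime] {a b : ℂ} (ha : IsIntegral ℤ a)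
    (hb : IsIntegral ℤ b) (h : MemLocalIdeal M (a * b)) :
    MemLocalIdeal M a ∨ MemLocalIdeal M b := by
  have h1 : (((⟨a, ha⟩ : AlgInt) * (⟨b, hb⟩ : AlgInt) : AlgInt) : ℂ) = a * b := rfl
  rw [← h1] at h
  rcases hMp.mem_or_mem (mem_of_memLocalIdeal h) with h2 | h2
  · left
    exact memLocalIdeal_of_mem (a := ⟨a, ha⟩) h2 hMp.ne_top
  · right
    exact memLocalIdeal_of_mem (a := ⟨b, hb⟩) h2 hMp.ne_top

theorem not_memLocalIdeal_prod [hMp : M.IsPrime] {ι : Type*} (s : Finset ι) (f : ι → ℂ)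
    (hf : ∀ i ∈ s, IsIntegral ℤ (f i)) (hn : ∀ i ∈ s, ¬ MemLocalIdeal M (f i)) :
    ¬ MemLocalIdeal M (∏ i ∈ s, f i) := by
  classical
  induction s using Finset.induction_on with
  | empty =>
    rw [Finset.prod_empty]
    exact not_memLocalIdeal_one
  | insert a s ha ih =>
    rw [Finset.prod_insert ha]
    intro h
    rcases memLocalIdeal_or_of_mul (hf a (Finset.mem_insert_self a s))
      (IsIntegral.prod _ (fun i hi => hf i (Finset.mem_insert_of_mem hi))) h with h1 | h1
    · exact hn a (Finset.mem_insert_self a s) h1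
    · exact ih (fun i hi => hf i (Finset.mem_insert_of_mem hi))
        (fun i hi => hn i (Finset.mem_insert_of_mem hi)) h1

/-- A central element with integral coefficients separating a block from the other characters. -/
theorem exists_separator {p : ℕ} (hM : IsPModular p M) (χ₀ : IrrCharacter G) :
    ∃ Q : IrrCharacter G → ℂ, IntCoef Q ∧ ∃ q : ℂ, IsIntegral ℤ q ∧ ¬ MemLocalIdeal M q ∧
      (∀ χ ∈ blockOf M (χ₀ : G → ℂ), Q χ = 0) ∧ (∀ ψ ∉ blockOf M (χ₀ : G → ℂ), Q ψ = q) := by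
  classical
  haveI := isPrime_of_isPModular hM
  have hMtop : M ≠ ⊤ := hM.2.1.ne_top
  obtain ⟨B, hB⟩ : ∃ B, B = blockOf M (χ₀ : G → ℂ) := ⟨_, rfl⟩
  rw [← hB]
  have hsep : ∀ ψ : IrrCharacter G, ∃ g : G, ψ ∉ B →
      ¬ MemLocalIdeal M (centralChar (χ₀ : G → ℂ) g - centralChar (ψ : G → ℂ) g) := by
    intro ψ
    by_cases h : ψ ∈ B
    · exact ⟨1, fun h' => absurd h h'⟩
    · rw [hB] at h
      have h' : ¬ ∀ g : G, MemLocalIdeal M (centralChar (χ₀ : G → ℂ) g
          - centralChar (ψ : G → ℂ) g) := h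
      push Not at h'
      obtain ⟨g, hg⟩ := h'
      exact ⟨g, fun _ => hg⟩
  choose gs hgs using hsep
  obtain ⟨S, hS⟩ : ∃ S : Finset (IrrCharacter G), S = Finset.univ.filter (· ∉ B) := ⟨_, rfl⟩
  obtain ⟨fac, hfac⟩ : ∃ fac : IrrCharacter G → IrrCharacter G → ℂ, fac = fun ψ =>
      (fun χ : IrrCharacter G => centralChar (χ : G → ℂ) (gs ψ))
        - (fun _ : IrrCharacter G => centralChar (ψ : G → ℂ) (gs ψ)) := ⟨_, rfl⟩
  have hfac_apply : ∀ ψ χ, fac ψ χ = centralChar (χ : G → ℂ) (gs ψ)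
      - centralChar (ψ : G → ℂ) (gs ψ) := by
    intro ψ χ
    rw [hfac]
    rfl
  obtain ⟨u, hu⟩ : ∃ u : IrrCharacter G → ℂ, u = ∏ ψ ∈ S, fac ψ := ⟨_, rfl⟩
  have hu_int : IntCoef u := by
    rw [hu]
    apply IntCoef.prod
    intro ψ _
    rw [hfac]
    exact IntCoef.sub (intCoef_centralChar (gs ψ))
      (intCoef_const (isIntegral_centralChar ψ.2 (gs ψ)))
  have hu_apply : ∀ χ, u χ = ∏ ψ ∈ S, fac ψ χ := by
    intro χ
    rw [hu, Finset.prod_apply]
  have hu_zero : ∀ ψ, ψ ∉ B → u ψ = 0 := by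
    intro ψ hψ
    rw [hu_apply]
    apply Finset.prod_eq_zero (i := ψ)
    · rw [hS, Finset.mem_filter]
      exact ⟨Finset.mem_univ _, hψ⟩
    · rw [hfac_apply, sub_self]
  have hfac_integral : ∀ ψ χ, IsIntegral ℤ (fac ψ χ) := by
    intro ψ χ
    rw [hfac_apply]
    exact (isIntegral_centralChar χ.2 _).sub (isIntegral_centralChar ψ.2 _)
  have hu_integral : ∀ χ, IsIntegral ℤ (u χ) := by
    intro χ
    rw [hu_apply]
    exact IsIntegral.prod _ (fun ψ _ => hfac_integral ψ χ)
  have hu_unit : ∀ χ, χ ∈ B → ¬ MemLocalIdeal M (u χ) := by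
    intro χ hχ
    rw [hu_apply]
    apply not_memLocalIdeal_prod _ _ (fun ψ _ => hfac_integral ψ χ)
    intro ψ hψ h
    rw [hS, Finset.mem_filter] at hψ
    apply hgs ψ hψ.2
    rw [hfac_apply] at h
    rw [hB] at hχ
    have h1 : MemLocalIdeal M (centralChar (χ₀ : G → ℂ) (gs ψ)
        - centralChar (χ : G → ℂ) (gs ψ)) := hχ (gs ψ)
    have h2 := memLocalIdeal_add h1 h
    have e : centralChar (χ₀ : G → ℂ) (gs ψ) - centralChar (χ : G → ℂ) (gs ψ)
        + (centralChar (χ : G → ℂ) (gs ψ) - centralChar (ψ : G → ℂ) (gs ψ))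
        = centralChar (χ₀ : G → ℂ) (gs ψ) - centralChar (ψ : G → ℂ) (gs ψ) := by ring
    rw [e] at h2
    exact h2
  obtain ⟨T, hT⟩ : ∃ T : Finset (IrrCharacter G), T = Finset.univ.filter (· ∈ B) := ⟨_, rfl⟩
  refine ⟨∏ χ' ∈ T, (u - fun _ : IrrCharacter G => u χ'), ?_, ∏ χ' ∈ T, (- u χ'), ?_, ?_, ?_, ?_⟩
  · apply IntCoef.prod
    intro χ' _
    exact IntCoef.sub hu_int (intCoef_const (hu_integral χ'))
  · exact IsIntegral.prod _ (fun χ' _ => (hu_integral χ').neg)
  · apply not_memLocalIdeal_prod _ _ (fun χ' _ => (hu_integral χ').neg)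
    intro χ' hχ' h
    rw [hT, Finset.mem_filter] at hχ'
    apply hu_unit χ' hχ'.2
    have := memLocalIdeal_neg h
    rwa [neg_neg] at this
  · intro χ hχ
    rw [Finset.prod_apply]
    apply Finset.prod_eq_zero (i := χ)
    · rw [hT, Finset.mem_filter]
      exact ⟨Finset.mem_univ _, hχ⟩
    · simp
  · intro ψ hψ
    rw [Finset.prod_apply]
    apply Finset.prod_congr rfl
    intro χ' _
    simp [hu_zero ψ hψ]

open Classical in
theorem blockCoeff_eq_coef (B : Set (IrrCharacter G)) (g : G) :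
    blockCoeff B g = coef (fun χ => if χ ∈ B then (1 : ℂ) else 0) g := by
  unfold blockCoeff coef
  congr 1
  rw [finsum_mem_def, finsum_eq_sum_of_fintype]
  apply Finset.sum_congr rfl
  intro χ _
  rw [Set.indicator_apply]
  beta_reduce
  by_cases h : χ ∈ B
  · rw [if_pos h, if_pos h]; ring
  · rw [if_neg h, if_neg h]; ring

/-- **Osima's theorem**: the coefficients of a block idempotent are local integers. -/
theorem osima {p : ℕ} (hM : IsPModular p M) (B : Set (IrrCharacter G)) (hB : IsPBlock M B)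
    (g : G) : MemLocalRing M (blockCoeff B g) := by
  classical
  haveI := isPrime_of_isPModular hM
  have hMtop : M ≠ ⊤ := hM.2.1.ne_top
  obtain ⟨χ₀, rfl⟩ := hB
  obtain ⟨Q, hQ, q, hq, hqM, hQB, hQn⟩ := exists_separator hM χ₀
  have hq0 : q ≠ 0 := by
    intro h
    apply hqM
    rw [h]
    exact memLocalIdeal_zero hMtop
  have hind : (fun χ : IrrCharacter G => if χ ∈ blockOf M (χ₀ : G → ℂ) then (1 : ℂ) else 0)
      = (fun _ : IrrCharacter G => (1 : ℂ)) - q⁻¹ • Q := by
    funext χ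
    simp only [Pi.sub_apply, Pi.smul_apply, smul_eq_mul]
    split_ifs with h
    · rw [hQB χ h]; ring
    · rw [hQn χ h]; field_simp; ring
  rw [blockCoeff_eq_coef, hind, coef_sub, coef_smul]
  have h1 := intCoef_one (G := G) g
  have h2 := hQ g
  refine ⟨⟨q * coef (fun _ : IrrCharacter G => (1 : ℂ)) g - coef Q g, (hq.mul h1).sub h2⟩,
    ⟨q, hq⟩, ?_, ?_⟩
  · intro h
    exact hqM (memLocalIdeal_of_mem (a := ⟨q, hq⟩) h hMtop)
  · show (q * coef (fun _ : IrrCharacter G => (1 : ℂ)) g - coef Q g) / q = _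
    field_simp

end Cfsg.Agent.Lib.helper3.Block
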