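import Mathlib
import Cfsg.Prelude.Def_Characters
import Cfsg.Prelude.Def_Blocks
import Cfsg.Agent.Lib.helper3.BlockIdem

/-!
# Consequences of Osima's theorem: unions of blocks, defect classes
-/

set_option autoImplicit false
set_option linter.style.haveILetI false
set_option linter.unusedSectionVars false

namespace Cfsg.Agent.Lib.helper3.Block

open Cfsg Module Cfsg.Agent.Lib.helper3.CharBasic Cfsg.Agent.Lib.helper3.Irr
open Cfsg.Agent.Lib.helper3.Central Cfsg.Agent.Lib.helper3.LocalM Cfsg.Agent.Lib.helper3.IndFun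
open scoped ComplexConjugate

variable {G : Type*} [Group G] [Fintype G]

theorem coef_conj (c : IrrCharacter G → ℂ) (g h : G) : coef c (h * g * h⁻¹) = coef c g := by
  unfold coef
  congr 1
  apply Finset.sum_congr rfl
  intro χ _
  rw [isClassFunction_of_isCharacter (isCharacter_of_isIrrCharacter χ.2) g h]

/-- Fourier inversion. -/
theorem sum_coef_mul (c : IrrCharacter G → ℂ) (χ : IrrCharacter G) :
    ∑ g : G, coef c g * (χ : G → ℂ) g = c χ * (χ : G → ℂ) 1 := by
  classical
  have hG0 : (Nat.card G : ℂ) ≠ 0 := by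
    have : Nat.card G ≠ 0 := Nat.card_pos.ne'
    exact_mod_cast this
  unfold coef
  have h1 : ∀ g : G, ((Nat.card G : ℂ)⁻¹ * ∑ φ : IrrCharacter G, c φ * (φ : G → ℂ) 1 *
      conj ((φ : G → ℂ) g)) * (χ : G → ℂ) g
      = ∑ φ : IrrCharacter G, c φ * (φ : G → ℂ) 1 *
        ((Nat.card G : ℂ)⁻¹ * ((χ : G → ℂ) g * conj ((φ : G → ℂ) g))) := by
    intro g
    rw [Finset.mul_sum, Finset.sum_mul]
    apply Finset.sum_congr rfl
    intro φ _
    ring
  rw [Finset.sum_congr rfl (fun g _ => h1 g), Finset.sum_comm]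
  have h2 : ∀ φ : IrrCharacter G, ∑ g : G, c φ * (φ : G → ℂ) 1 *
      ((Nat.card G : ℂ)⁻¹ * ((χ : G → ℂ) g * conj ((φ : G → ℂ) g)))
      = c φ * (φ : G → ℂ) 1 * classInner (χ : G → ℂ) (φ : G → ℂ) := by
    intro φ
    rw [classInner_apply, ← Finset.mul_sum, ← Finset.mul_sum]
  rw [Finset.sum_congr rfl (fun φ _ => h2 φ), Finset.sum_eq_single χ]
  · rw [irr_classInner_eq χ.2 χ.2, if_pos rfl, mul_one]
  · intro φ _ hne
    rw [irr_classInner_eq χ.2 φ.2, if_neg, mul_zero]
    intro h
    exact hne (Subtype.ext h.symm)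
  · intro h
    exact absurd (Finset.mem_univ χ) h

open Classical in
/-- Summing a class function over the group, class by class. -/
theorem sum_class_fun (F : G → ℂ) (hF : ∀ g h : G, F (h * g * h⁻¹) = F g) :
    ∑ g : G, F g = ∑ C : ConjClasses G,
      ((Subgroup.centralizer ({Quotient.out C} : Set G)).index : ℂ) * F (Quotient.out C) := by
  classical
  rw [← Finset.sum_fiberwise Finset.univ (ConjClasses.mk : G → ConjClasses G)]
  apply Finset.sum_congr rfl
  intro C _
  obtain ⟨g, hg⟩ : ∃ g, g = Quotient.out C := ⟨_, rfl⟩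
  have hC : C = ConjClasses.mk g := by
    rw [hg]
    exact (Quotient.out_eq C).symm
  rw [← hg, hC]
  have h1 : ∀ x ∈ Finset.univ.filter (fun x : G => ConjClasses.mk x = ConjClasses.mk g),
      F x = F g := by
    intro x hx
    simp only [Finset.mem_filter, Finset.mem_univ, true_and] at hx
    obtain ⟨c, hc⟩ := isConj_iff.mp (ConjClasses.mk_eq_mk_iff_isConj.mp hx)
    rw [← hF x c, hc]
  rw [Finset.sum_congr rfl h1, Finset.sum_const, nsmul_eq_mul]
  have h2 : (Finset.univ.filter (fun x : G => ConjClasses.mk x = ConjClasses.mk g))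
      = Finset.univ.filter (fun x : G => IsConj g x) := by
    ext x
    simp only [Finset.mem_filter, Finset.mem_univ, true_and]
    rw [ConjClasses.mk_eq_mk_iff_isConj]
    exact isConj_comm
  rw [h2, card_class_eq_index]

variable {M : Ideal AlgInt}

theorem memLocalRing_of_integral [hMp : M.IsPrime] {z : ℂ} (hz : IsIntegral ℤ z) :
    MemLocalRing M z :=
  ⟨⟨z, hz⟩, 1, (Ideal.ne_top_iff_one M).mp hMp.ne_top, by simp⟩

theorem memLocalIdeal_mul_localRing [hMp : M.IsPrime] {r z : ℂ} (hr : MemLocalRing M r)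
    (hz : MemLocalIdeal M z) : MemLocalIdeal M (r * z) := by
  obtain ⟨a, b, hb, rfl⟩ := hr
  obtain ⟨a', b', ha', hb', rfl⟩ := hz
  refine ⟨a * a', b * b', M.mul_mem_left _ ha', ?_, ?_⟩
  · intro h
    rcases hMp.mem_or_mem h with h | h
    · exact hb h
    · exact hb' h
  · have h1 := coe_ne_zero_of_notMem hb
    have h2 := coe_ne_zero_of_notMem hb'
    push_cast
    field_simp

theorem memLocalRing_mul [hMp : M.IsPrime] {r z : ℂ} (hr : MemLocalRing M r)
    (hz : MemLocalRing M z) : MemLocalRing M (r * z) := by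
  obtain ⟨a, b, hb, rfl⟩ := hr
  obtain ⟨a', b', hb', rfl⟩ := hz
  refine ⟨a * a', b * b', ?_, ?_⟩
  · intro h
    rcases hMp.mem_or_mem h with h | h
    · exact hb h
    · exact hb' h
  · have h1 := coe_ne_zero_of_notMem hb
    have h2 := coe_ne_zero_of_notMem hb'
    push_cast
    field_simp

/-- If a class function `F` has `|K_g| F(g)` in the local ideal for every `g`, its sum over the
group lies in the local ideal. -/
theorem memLocalIdeal_sum_class_fun [hMp : M.IsPrime] (F : G → ℂ)
    (hF : ∀ g h : G, F (h * g * h⁻¹) = F g)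
    (h : ∀ g : G, MemLocalIdeal M (((Subgroup.centralizer ({g} : Set G)).index : ℂ) * F g)) :
    MemLocalIdeal M (∑ g : G, F g) := by
  classical
  rw [sum_class_fun F hF]
  exact memLocalIdeal_sum _ _ (fun C _ => h _)

/-- The value `∑_g a(g) χ(g)/χ(1)` of the central character on the element with coefficients
`coef c`. -/
theorem sum_coef_mul_div (c : IrrCharacter G → ℂ) (χ : IrrCharacter G) :
    ∑ g : G, coef c g * ((χ : G → ℂ) g / (χ : G → ℂ) 1) = c χ := by
  have h0 := apply_one_ne_zero χ.2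
  have : ∑ g : G, coef c g * ((χ : G → ℂ) g / (χ : G → ℂ) 1)
      = (∑ g : G, coef c g * (χ : G → ℂ) g) / (χ : G → ℂ) 1 := by
    rw [Finset.sum_div]
    apply Finset.sum_congr rfl
    intro g _
    ring
  rw [this, sum_coef_mul]
  field_simp

/-- A set of irreducible characters whose idempotent has local coefficients is a union of
blocks. -/
theorem union_of_blocks {p : ℕ} (hM : IsPModular p M) (A : Set (IrrCharacter G))
    (hA : ∀ g : G, MemLocalRing M (blockCoeff A g)) (χ : IrrCharacter G) (hχ : χ ∈ A) :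
    blockOf M (χ : G → ℂ) ⊆ A := by
  classical
  haveI := isPrime_of_isPModular hM
  intro ψ hψ
  by_contra hψA
  have hψ' : ∀ g : G, MemLocalIdeal M (centralChar (χ : G → ℂ) g - centralChar (ψ : G → ℂ) g) :=
    hψ
  obtain ⟨c, hc⟩ : ∃ c : IrrCharacter G → ℂ, c = fun χ => if χ ∈ A then (1 : ℂ) else 0 :=
    ⟨_, rfl⟩
  have hcoef : ∀ g, blockCoeff A g = coef c g := by
    intro g
    rw [hc]
    exact blockCoeff_eq_coef A g
  have h1 := sum_coef_mul_div c χ
  have h2 := sum_coef_mul_div c ψ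
  have hcχ : c χ = 1 := by rw [hc]; exact if_pos hχ
  have hcψ : c ψ = 0 := by rw [hc]; exact if_neg hψA
  rw [hcχ] at h1
  rw [hcψ] at h2
  have h3 : ∑ g : G, coef c g * ((χ : G → ℂ) g / (χ : G → ℂ) 1 - (ψ : G → ℂ) g / (ψ : G → ℂ) 1)
      = 1 := by
    have : ∀ g : G, coef c g * ((χ : G → ℂ) g / (χ : G → ℂ) 1 - (ψ : G → ℂ) g / (ψ : G → ℂ) 1)
        = coef c g * ((χ : G → ℂ) g / (χ : G → ℂ) 1)
          - coef c g * ((ψ : G → ℂ) g / (ψ : G → ℂ) 1) := fun g => by ring
    rw [Finset.sum_congr rfl (fun g _ => this g), Finset.sum_sub_distrib, h1, h2, sub_zero]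
  apply not_memLocalIdeal_one (M := M)
  rw [← h3]
  apply memLocalIdeal_sum_class_fun
  · intro g h
    rw [coef_conj, isClassFunction_of_isCharacter (isCharacter_of_isIrrCharacter χ.2) g h,
      isClassFunction_of_isCharacter (isCharacter_of_isIrrCharacter ψ.2) g h]
  · intro g
    have h4 := memLocalIdeal_mul_localRing (hA g) (hψ' g)
    rw [hcoef] at h4
    convert h4 using 1
    unfold centralChar
    ring

/-- Every block has a defect class. -/
theorem exists_defectClass {p : ℕ} (hM : IsPModular p M) (B : Set (IrrCharacter G))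
    (hB : IsPBlock M B) : ∃ g : G, IsDefectClass M B g := by
  classical
  haveI := isPrime_of_isPModular hM
  have hMtop : M ≠ ⊤ := hM.2.1.ne_top
  have hOs := osima hM B hB
  obtain ⟨χ₀, hB'⟩ := hB
  have hχ₀ : χ₀ ∈ B := by
    rw [hB']
    exact sameBlock_refl hMtop _
  obtain ⟨c, hc⟩ : ∃ c : IrrCharacter G → ℂ, c = fun χ => if χ ∈ B then (1 : ℂ) else 0 :=
    ⟨_, rfl⟩
  have hcoef : ∀ g, blockCoeff B g = coef c g := by
    intro g
    rw [hc]
    exact blockCoeff_eq_coef B g
  have h1 := sum_coef_mul_div c χ₀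
  have hcχ : c χ₀ = 1 := by rw [hc]; exact if_pos hχ₀
  rw [hcχ] at h1
  -- some class has `a_B(g) ω(g)` outside the local ideal
  have h2 : ∃ g : G, ¬ MemLocalIdeal M (((Subgroup.centralizer ({g} : Set G)).index : ℂ) *
      (coef c g * ((χ₀ : G → ℂ) g / (χ₀ : G → ℂ) 1))) := by
    by_contra hcon
    push Not at hcon
    apply not_memLocalIdeal_one (M := M)
    rw [← h1]
    apply memLocalIdeal_sum_class_fun _ _ hcon
    intro g h
    rw [coef_conj, isClassFunction_of_isCharacter (isCharacter_of_isIrrCharacter χ₀.2) g h]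
  obtain ⟨g, hg⟩ := h2
  have e : ((Subgroup.centralizer ({g} : Set G)).index : ℂ) *
      (coef c g * ((χ₀ : G → ℂ) g / (χ₀ : G → ℂ) 1))
      = blockCoeff B g * centralChar (χ₀ : G → ℂ) g := by
    rw [hcoef]
    unfold centralChar
    ring
  rw [e] at hg
  have hω₀ : ¬ MemLocalIdeal M (centralChar (χ₀ : G → ℂ) g) := fun h =>
    hg (memLocalIdeal_mul_localRing (hOs g) h)
  refine ⟨g, hOs g, ?_, ?_⟩
  · intro h
    apply hg
    have := memLocalIdeal_mul_integral h (isIntegral_centralChar χ₀.2 g)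
    rwa [mul_comm] at this
  · intro χ hχ h
    rw [hB'] at hχ
    have h3 : MemLocalIdeal M (centralChar (χ₀ : G → ℂ) g - centralChar (χ : G → ℂ) g) := hχ g
    apply hω₀
    have := memLocalIdeal_add h3 h
    rwa [sub_add_cancel] at this

end Cfsg.Agent.Lib.helper3.Block
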