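import Mathlib
import Cfsg.Prelude.Def_Characters
import Cfsg.Prelude.Def_Blocks
import Cfsg.Agent.Lib.helper3.BlockIdem2

/-!
# Induced central characters
-/

set_option autoImplicit false
set_option linter.style.haveILetI false
set_option linter.unusedSectionVars false

namespace Cfsg.Agent.Lib.helper3.Block

open Cfsg Module Cfsg.Agent.Lib.helper3.CharBasic Cfsg.Agent.Lib.helper3.Irr
open Cfsg.Agent.Lib.helper3.Central Cfsg.Agent.Lib.helper3.LocalM Cfsg.Agent.Lib.helper3.IndFun
open scoped ComplexConjugate

variable {G : Type*} [Group G] [Fintype G]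

open Classical in
/-- Summing over all conjugates `x⁻¹ g x`. -/
theorem sum_conj_eq (F : G → ℂ) (g : G) :
    ∑ x : G, F (x⁻¹ * g * x)
      = (Nat.card (Subgroup.centralizer ({g} : Set G)) : ℂ)
        * ∑ y : G, if IsConj g y then F y else 0 := by
  rw [← Finset.sum_fiberwise Finset.univ (fun x : G => x⁻¹ * g * x), Finset.mul_sum]
  apply Finset.sum_congr rfl
  intro y _
  have h1 : ∀ x ∈ Finset.univ.filter (fun x : G => x⁻¹ * g * x = y), F (x⁻¹ * g * x) = F y := by
    intro x hx
    simp only [Finset.mem_filter, Finset.mem_univ, true_and] at hx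
    rw [hx]
  rw [Finset.sum_congr rfl h1, Finset.sum_const, nsmul_eq_mul]
  have h2 : (Finset.univ.filter (fun x : G => x⁻¹ * g * x = y)).card
      = Nat.card {x : G // x * y * x⁻¹ = g} := by
    rw [Nat.card_eq_fintype_card, Fintype.card_subtype]
    congr 1
    ext x
    simp only [Finset.mem_filter, Finset.mem_univ, true_and]
    constructor
    · intro h
      rw [← h]; group
    · intro h
      rw [← h]; group
  rw [h2, card_conj_eq]
  split_ifs with h
  · rfl
  · simp

open Classical in
theorem inducedCentralChar_eq_sum (H : Subgroup G) (ξ : H → ℂ) (g : G) :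
    inducedCentralChar H ξ g = ∑ h : H, if IsConj g (h : G) then ξ h / ξ 1 else 0 := by
  unfold inducedCentralChar
  rw [finsum_mem_def, finsum_eq_sum_of_fintype]
  apply Finset.sum_congr rfl
  intro h _
  rw [Set.indicator_apply]
  rfl

/-- The central character of an induced function is the induced central character. -/
theorem centralChar_indFun (H : Subgroup G) (ξ : H → ℂ) (hξ : ξ 1 ≠ 0) (g : G) :
    centralChar (indFun H ξ) g = inducedCentralChar H ξ g := by
  classical
  have hH0 : (Nat.card H : ℂ) ≠ 0 := card_ne_zero_complex H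
  have hG0 : (Nat.card G : ℂ) ≠ 0 := card_ne_zero_complex G
  have hC0 : (Nat.card (Subgroup.centralizer ({g} : Set G)) : ℂ) ≠ 0 := card_ne_zero_complex _
  unfold centralChar
  rw [indFun_apply, indFun_apply, sum_conj_eq (extendByZero H ξ) g]
  have h1 : ∑ x : G, extendByZero H ξ (x⁻¹ * 1 * x) = (Nat.card G : ℂ) * ξ 1 := by
    have : ∀ x : G, extendByZero H ξ (x⁻¹ * 1 * x) = ξ 1 := by
      intro x
      have e : x⁻¹ * 1 * x = ((1 : H) : G) := by simp
      rw [e, extendByZero_coe]
    rw [Finset.sum_congr rfl (fun x _ => this x), Finset.sum_const, Finset.card_univ,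
      nsmul_eq_mul, Nat.card_eq_fintype_card]
  rw [h1]
  have h2 : ∑ y : G, (if IsConj g y then extendByZero H ξ y else 0)
      = ∑ h : H, if IsConj g (h : G) then ξ h else 0 := by
    have h3 : ∀ y : G, (if IsConj g y then extendByZero H ξ y else 0)
        = extendByZero H ξ y * (if IsConj g y then 1 else 0) := by
      intro y
      split_ifs <;> simp
    rw [Finset.sum_congr rfl (fun y _ => h3 y), sum_extendByZero_mul]
    apply Finset.sum_congr rfl
    intro h _
    split_ifs <;> simp
  rw [h2, inducedCentralChar_eq_sum]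
  have h4 : ∑ h : H, (if IsConj g (h : G) then ξ h / ξ 1 else 0)
      = (∑ h : H, if IsConj g (h : G) then ξ h else 0) / ξ 1 := by
    rw [Finset.sum_div]
    apply Finset.sum_congr rfl
    intro h _
    split_ifs <;> simp
  rw [h4]
  have h5 : ((Subgroup.centralizer ({g} : Set G)).index : ℂ)
      * (Nat.card (Subgroup.centralizer ({g} : Set G)) : ℂ) = (Nat.card G : ℂ) := by
    rw [← Nat.cast_mul, Subgroup.index_mul_card]
  rw [← h5]
  have hi0 : ((Subgroup.centralizer ({g} : Set G)).index : ℂ) ≠ 0 := by
    intro h
    rw [h, zero_mul] at h5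
    exact hG0 h5.symm
  field_simp

variable {M : Ideal AlgInt}

/-- Characters of `H` in the same block have congruent induced central characters. -/
theorem memLocalIdeal_inducedCentralChar_sub [hMp : M.IsPrime] (H : Subgroup G)
    (ξ ξ' : IrrCharacter H) (h : SameBlock M (ξ : H → ℂ) (ξ' : H → ℂ)) (g : G) :
    MemLocalIdeal M (inducedCentralChar H (ξ : H → ℂ) g - inducedCentralChar H (ξ' : H → ℂ) g) := by
  classical
  rw [inducedCentralChar_eq_sum, inducedCentralChar_eq_sum, ← Finset.sum_sub_distrib]
  apply memLocalIdeal_sum_class_fun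
  · intro a b
    have e1 : IsConj g ((b * a * b⁻¹ : H) : G) ↔ IsConj g (a : G) := by
      have : IsConj (a : G) ((b * a * b⁻¹ : H) : G) := isConj_iff.mpr ⟨(b : G), by simp⟩
      exact ⟨fun h' => h'.trans this.symm, fun h' => h'.trans this⟩
    rw [isClassFunction_of_isCharacter (isCharacter_of_isIrrCharacter ξ.2) a b,
      isClassFunction_of_isCharacter (isCharacter_of_isIrrCharacter ξ'.2) a b]
    by_cases hc : IsConj g (a : G)
    · rw [if_pos (e1.mpr hc), if_pos (e1.mpr hc), if_pos hc, if_pos hc]
    · rw [if_neg (fun h' => hc (e1.mp h')), if_neg (fun h' => hc (e1.mp h')), if_neg hc, if_neg hc]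
  · intro a
    by_cases hc : IsConj g (a : G)
    · rw [if_pos hc, if_pos hc]
      have := h a
      unfold centralChar at this
      convert this using 1
      ring
    · rw [if_neg hc, if_neg hc, sub_zero, mul_zero]
      exact memLocalIdeal_zero hMp.ne_top

end Cfsg.Agent.Lib.helper3.Block
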