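import Mathlib
import Cfsg.Prelude.Def_Characters
import Cfsg.Prelude.Def_Blocks
import Cfsg.Agent.Lib.helper3.BlockIdem2
import Cfsg.Agent.Lib.helper3.Clifford
import Cfsg.Agent.Lib.helper3.Irr16
import Cfsg.Agent.Lib.helper3.Irr8
import Cfsg.Agent.Lib.helper3.Lin

/-!
# Characters lying above a character of a normal `p'`-subgroup form a union of blocks
-/

set_option autoImplicit false
set_option linter.style.haveILetI false
set_option linter.unusedSectionVars false

namespace Cfsg.Agent.Lib.helper3.Block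

open Cfsg Module Cfsg.Agent.Lib.helper3.CharBasic Cfsg.Agent.Lib.helper3.Irr
open Cfsg.Agent.Lib.helper3.Central Cfsg.Agent.Lib.helper3.LocalM Cfsg.Agent.Lib.helper3.IndFun
open Cfsg.Agent.Lib.helper3.Lin
open scoped ComplexConjugate

variable {G : Type*} [Group G] [Fintype G]

/-- The irreducible characters of `G` lying above the function `θ` on `N`. -/
def irrOver (N : Subgroup G) [Fintype N] (θ : N → ℂ) : Set (IrrCharacter G) :=
  {χ | classInner (fun n : N => (χ : G → ℂ) n) θ ≠ 0}

/-- Orbit-stabilizer for the conjugation action on functions. -/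
theorem card_image_conjFun_mul (N : Subgroup G) [hN : N.Normal] (θ : N → ℂ)
    [DecidableEq (N → ℂ)] :
    (Finset.univ.image (conjFun N θ)).card
      * Nat.card {g : G // ∀ h : N, θ ⟨g * h * g⁻¹, hN.conj_mem h h.2 g⟩ = θ h}
      = Nat.card G := by
  have h1 := Finset.card_eq_sum_card_fiberwise (f := conjFun N θ) (s := (Finset.univ : Finset G))
    (t := Finset.univ.image (conjFun N θ)) (fun x _ => Finset.mem_image_of_mem _ (Finset.mem_univ x))
  have h2 : ∀ ψ ∈ Finset.univ.image (conjFun N θ),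
      (Finset.univ.filter (fun x : G => conjFun N θ x = ψ)).card
        = Nat.card {g : G // ∀ h : N, θ ⟨g * h * g⁻¹, hN.conj_mem h h.2 g⟩ = θ h} := by
    intro ψ hψ
    obtain ⟨g, -, rfl⟩ := Finset.mem_image.mp hψ
    rw [card_fiber_conjFun, card_stab_conjFun]
  rw [Finset.sum_congr rfl h2, Finset.sum_const, smul_eq_mul, Finset.card_univ] at h1
  rw [← h1, Nat.card_eq_fintype_card]

/-- The degree of a character above `θ`. -/
theorem apply_one_of_over (N : Subgroup G) [hN : N.Normal] [Fintype N] (θ : IrrCharacter N)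
    (χ : IrrCharacter G) (hχ : χ ∈ irrOver N (θ : N → ℂ)) [DecidableEq (N → ℂ)] :
    (χ : G → ℂ) 1 = classInner (fun n : N => (χ : G → ℂ) n) (θ : N → ℂ)
      * ((Finset.univ.image (conjFun N (θ : N → ℂ))).card * (θ : N → ℂ) 1) := by
  have h := clifford N (χ : G → ℂ) χ.2 (θ : N → ℂ) θ.2 hχ
  rw [setOf_conj_eq, finsum_mem_coe_finset] at h
  have h1 := congrFun h 1
  simp only [Pi.smul_apply, smul_eq_mul, Finset.sum_apply] at h1
  have h2 : ∀ ψ ∈ Finset.univ.image (conjFun N (θ : N → ℂ)), ψ 1 = (θ : N → ℂ) 1 := by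
    intro ψ hψ
    obtain ⟨g, -, rfl⟩ := Finset.mem_image.mp hψ
    unfold conjFun
    have e : (⟨g * ((1 : N) : G) * g⁻¹, hN.conj_mem _ (1 : N).2 g⟩ : N) = 1 := by
      apply Subtype.ext
      simp
    rw [e]
  rw [Finset.sum_congr rfl h2, Finset.sum_const, nsmul_eq_mul] at h1
  exact h1

/-- The sum of `χ(1) χ` for the characters lying above `θ` is a multiple of `θ^G`. -/
theorem sum_over_eq (N : Subgroup G) [hN : N.Normal] [Fintype N] (θ : IrrCharacter N)
    [DecidableEq (N → ℂ)] (g : G) :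
    ∑ᶠ χ ∈ irrOver N (θ : N → ℂ), (χ : G → ℂ) 1 * (χ : G → ℂ) g
      = ((Finset.univ.image (conjFun N (θ : N → ℂ))).card : ℂ) * (θ : N → ℂ) 1
        * indFun N (θ : N → ℂ) g := by
  classical
  have hθc := isCharacter_of_isIrrCharacter θ.2
  have hind := isCharacter_indFun N (θ : N → ℂ) hθc
  have hdec := isCharacter_eq_sum_classInner hind
  have hdec' := congrFun hdec g
  rw [Finset.sum_apply] at hdec'
  rw [hdec', finsum_mem_def, finsum_eq_sum_of_fintype, Finset.mul_sum]
  apply Finset.sum_congr rfl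
  intro χ _
  simp only [Pi.smul_apply, smul_eq_mul]
  have hχc := isCharacter_of_isIrrCharacter χ.2
  have hfr := frobenius_reciprocity N (θ : N → ℂ) (χ : G → ℂ) (isClassFunction_of_isCharacter hχc)
  obtain ⟨m, hm⟩ := exists_nat_classInner_of_isCharacter (isCharacter_restrict hχc N) θ
  have hsym : classInner (θ : N → ℂ) (fun n : N => (χ : G → ℂ) n)
      = classInner (fun n : N => (χ : G → ℂ) n) (θ : N → ℂ) := by
    rw [← classInner_conj_symm, hm, Complex.conj_natCast]
  rw [hfr, hsym]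
  rw [Set.indicator_apply]
  by_cases hχ : χ ∈ irrOver N (θ : N → ℂ)
  · rw [if_pos hχ, apply_one_of_over N θ χ hχ]
    ring
  · rw [if_neg hχ]
    have : classInner (fun n : N => (χ : G → ℂ) n) (θ : N → ℂ) = 0 := by
      by_contra h
      exact hχ h
    rw [this]
    ring

variable {M : Ideal AlgInt}

/-- The idempotent of the set of characters above `θ` has local coefficients when `p ∤ |N|`. -/
theorem memLocalRing_blockCoeff_over {p : ℕ} (hM : IsPModular p M) (N : Subgroup G)
    [hN : N.Normal] [Fintype N] (hpN : ¬ p ∣ Nat.card N) (θ : IrrCharacter N) (g : G) :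
    MemLocalRing M (blockCoeff (irrOver N (θ : N → ℂ)) g) := by
  classical
  haveI := isPrime_of_isPModular hM
  have hG0 : (Nat.card G : ℂ) ≠ 0 := card_ne_zero_complex G
  have hN0 : (Nat.card N : ℂ) ≠ 0 := card_ne_zero_complex N
  unfold blockCoeff
  have h1 : ∑ᶠ χ ∈ irrOver N (θ : N → ℂ), (χ : G → ℂ) 1 * conj ((χ : G → ℂ) g)
      = conj (∑ᶠ χ ∈ irrOver N (θ : N → ℂ), (χ : G → ℂ) 1 * (χ : G → ℂ) g) := by
    rw [finsum_mem_def, finsum_eq_sum_of_fintype, finsum_mem_def, finsum_eq_sum_of_fintype,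
      map_sum]
    apply Finset.sum_congr rfl
    intro χ _
    rw [Set.indicator_apply, Set.indicator_apply]
    split_ifs
    · rw [map_mul, conj_apply_one]
    · rw [map_zero]
  rw [h1, sum_over_eq]
  by_cases hg : g ∈ N
  · obtain ⟨t, ht⟩ : ∃ t : ℕ, t = (Finset.univ.image (conjFun N (θ : N → ℂ))).card := ⟨_, rfl⟩
    obtain ⟨s, hs⟩ : ∃ s : ℕ, s = Nat.card {x : G // ∀ h : N,
        (θ : N → ℂ) ⟨x * h * x⁻¹, hN.conj_mem h h.2 x⟩ = (θ : N → ℂ) h} := ⟨_, rfl⟩
    have hts : t * s = Nat.card G := by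
      rw [ht, hs]
      exact card_image_conjFun_mul N (θ : N → ℂ)
    have h2 := indFun_normal_apply N (θ : N → ℂ) ⟨g, hg⟩
    have h3 := congrFun (sum_conjFun_eq N (θ : N → ℂ)) ⟨g, hg⟩
    rw [Finset.sum_apply] at h3
    simp only [Pi.smul_apply, smul_eq_mul, Finset.sum_apply] at h3
    rw [← hs] at h3
    have h2' : indFun N (θ : N → ℂ) g = (Nat.card N : ℂ)⁻¹ *
        ((s : ℂ) * ∑ ψ ∈ Finset.univ.image (conjFun N (θ : N → ℂ)), ψ ⟨g, hg⟩) := by
      rw [← h3]
      exact h2
    rw [h2', ← ht]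
    have hint : IsIntegral ℤ (conj ((θ : N → ℂ) 1 *
        ∑ ψ ∈ Finset.univ.image (conjFun N (θ : N → ℂ)), ψ ⟨g, hg⟩)) := by
      have : IsIntegral ℤ ((θ : N → ℂ) 1 *
          ∑ ψ ∈ Finset.univ.image (conjFun N (θ : N → ℂ)), ψ ⟨g, hg⟩) := by
        apply IsIntegral.mul (isIntegral_of_isCharacter (isCharacter_of_isIrrCharacter θ.2) 1)
        apply IsIntegral.sum
        intro ψ hψ
        obtain ⟨x, -, rfl⟩ := Finset.mem_image.mp hψ
        exact isIntegral_of_isCharacter (isCharacter_of_isIrrCharacter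
          (isIrrCharacter_conjFun N θ.2 x)) _
      exact this.map (Complex.conjAe.toAlgHom.restrictScalars ℤ)
    refine ⟨⟨_, hint⟩, (Nat.card N : AlgInt), ?_, ?_⟩
    · intro h
      exact hpN ((natCast_mem_iff hM _).mp h)
    · have hcast : (((Nat.card N : AlgInt) : AlgInt) : ℂ) = (Nat.card N : ℂ) := by
        push_cast; rfl
      rw [hcast]
      have hts' : (t : ℂ) * (s : ℂ) = (Nat.card G : ℂ) := by exact_mod_cast hts
      have ht0 : (t : ℂ) ≠ 0 := by
        intro h
        rw [h, zero_mul] at hts'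
        exact hG0 hts'.symm
      have hs0 : (s : ℂ) ≠ 0 := by
        intro h
        rw [h, mul_zero] at hts'
        exact hG0 hts'.symm
      simp only [map_mul, map_inv₀, Complex.conj_natCast]
      rw [← hts']
      field_simp
  · rw [indFun_normal_apply_of_not_mem N _ hg, mul_zero, map_zero, mul_zero]
    exact memLocalRing_of_integral isIntegral_zero

/-- Over a normal `p'`-subgroup, the characters lying above `θ` form a union of blocks. -/
theorem blockOf_subset_irrOver {p : ℕ} (hM : IsPModular p M) (N : Subgroup G)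
    [hN : N.Normal] [Fintype N] (hpN : ¬ p ∣ Nat.card N) (θ : IrrCharacter N)
    (χ : IrrCharacter G) (hχ : χ ∈ irrOver N (θ : N → ℂ)) :
    blockOf M (χ : G → ℂ) ⊆ irrOver N (θ : N → ℂ) :=
  union_of_blocks hM _ (memLocalRing_blockCoeff_over hM N hpN θ) χ hχ

end Cfsg.Agent.Lib.helper3.Block
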