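import Mathlib
import Cfsg.Prelude.Def_Characters
import Cfsg.Prelude.Def_Blocks
import Cfsg.Agent.Lib.helper3.BlockOver
import Cfsg.Agent.Lib.helper3.BlockInd
import Cfsg.Agent.Lib.helper3.Irr9
import Cfsg.Agent.Lib.helper3.Irr10

/-!
# Characters above a character of a normal subgroup and central characters
-/

set_option autoImplicit false
set_option linter.style.haveILetI false
set_option linter.unusedSectionVars false

namespace Cfsg.Agent.Lib.helper3.Block

open Cfsg Module Cfsg.Agent.Lib.helper3.CharBasic Cfsg.Agent.Lib.helper3.Irr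
open Cfsg.Agent.Lib.helper3.Central Cfsg.Agent.Lib.helper3.LocalM Cfsg.Agent.Lib.helper3.IndFun
open Cfsg.Agent.Lib.helper3.Lin
open scoped ComplexConjugate

variable {G : Type*} [Group G] [Fintype G]

theorem indFun_one_ne_zero (N : Subgroup G) (θ : N → ℂ) (hθ : θ 1 ≠ 0) : indFun N θ 1 ≠ 0 := by
  rw [indFun_apply_one]
  apply mul_ne_zero _ hθ
  have : N.index ≠ 0 := Subgroup.index_ne_zero_of_finite
  exact_mod_cast this

/-- On the normal subgroup, a character above `θ` is proportional to `θ^G`. -/
theorem apply_mul_indFun_one_of_over (N : Subgroup G) [hN : N.Normal] [Fintype N]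
    (χ : IrrCharacter G) (θ : IrrCharacter N) (h : χ ∈ irrOver N (θ : N → ℂ)) (n : N) :
    (χ : G → ℂ) n * indFun N (θ : N → ℂ) 1 = indFun N (θ : N → ℂ) n * (χ : G → ℂ) 1 := by
  have h1 := clifford N (χ : G → ℂ) χ.2 (θ : N → ℂ) θ.2 h
  have h2 := indFun_normal_restrict N (θ : N → ℂ)
  have a1 := congrFun h1 n
  have a2 := congrFun h1 1
  have b1 := congrFun h2 n
  have b2 := congrFun h2 1
  simp only [Pi.smul_apply, smul_eq_mul] at a1 a2 b1 b2
  have e1 : ((1 : N) : G) = 1 := rfl
  rw [e1] at a2 b2
  rw [a1, a2, b1, b2]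
  ring

/-- A character above `θ` has the induced central character of `θ` on the normal subgroup. -/
theorem centralChar_eq_of_over (N : Subgroup G) [hN : N.Normal] [Fintype N]
    (χ : IrrCharacter G) (θ : IrrCharacter N) (h : χ ∈ irrOver N (θ : N → ℂ)) (n : N) :
    centralChar (χ : G → ℂ) (n : G) = inducedCentralChar N (θ : N → ℂ) (n : G) := by
  have hθ1 := apply_one_ne_zero θ.2
  have hχ1 := apply_one_ne_zero χ.2
  have hi1 := indFun_one_ne_zero N (θ : N → ℂ) hθ1
  rw [← centralChar_indFun N (θ : N → ℂ) hθ1]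
  unfold centralChar
  have := apply_mul_indFun_one_of_over N χ θ h n
  field_simp
  rw [mul_assoc, this]
  ring

/-- Conversely, agreement of the central characters forces `θ` to lie under `χ`. -/
theorem over_of_centralChar_eq (N : Subgroup G) [hN : N.Normal] [Fintype N]
    (χ : IrrCharacter G) (θ : IrrCharacter N)
    (h : ∀ n : N, centralChar (χ : G → ℂ) (n : G) = inducedCentralChar N (θ : N → ℂ) (n : G)) :
    χ ∈ irrOver N (θ : N → ℂ) := by
  classical
  have hθ1 := apply_one_ne_zero θ.2
  have hχ1 := apply_one_ne_zero χ.2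
  have hi1 := indFun_one_ne_zero N (θ : N → ℂ) hθ1
  have hχc := isCharacter_of_isIrrCharacter χ.2
  have hcf := isClassFunction_of_isCharacter hχc
  -- values on `N`
  have hval : ∀ n : N, (χ : G → ℂ) n
      = (χ : G → ℂ) 1 / indFun N (θ : N → ℂ) 1 * indFun N (θ : N → ℂ) n := by
    intro n
    have := h n
    rw [← centralChar_indFun N (θ : N → ℂ) hθ1] at this
    unfold centralChar at this
    have hidx : ((Subgroup.centralizer ({(n : G)} : Set G)).index : ℂ) ≠ 0 := by
      have : (Subgroup.centralizer ({(n : G)} : Set G)).index ≠ 0 :=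
        Subgroup.index_ne_zero_of_finite
      exact_mod_cast this
    field_simp at this
    field_simp
    linear_combination this
  unfold irrOver
  simp only [Set.mem_ofPred_eq]
  intro h0
  have hfr := frobenius_reciprocity N (θ : N → ℂ) (χ : G → ℂ) hcf
  have hsym : classInner (θ : N → ℂ) (fun n : N => (χ : G → ℂ) n) = 0 := by
    rw [← classInner_conj_symm, h0, map_zero]
  rw [hsym, classInner_apply] at hfr
  have hG0 : (Nat.card G : ℂ) ≠ 0 := card_ne_zero_complex G
  have hsum : ∑ g : G, indFun N (θ : N → ℂ) g * conj ((χ : G → ℂ) g) = 0 := by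
    rcases mul_eq_zero.mp hfr with h' | h'
    · exact absurd (inv_eq_zero.mp h') hG0
    · exact h'
  -- rewrite the sum as a sum of squares
  have hterm : ∀ g : G, indFun N (θ : N → ℂ) g * conj ((χ : G → ℂ) g)
      = conj ((χ : G → ℂ) 1 / indFun N (θ : N → ℂ) 1)
        * ((Complex.normSq (indFun N (θ : N → ℂ) g) : ℝ) : ℂ) := by
    intro g
    by_cases hg : g ∈ N
    · have := hval ⟨g, hg⟩
      simp only at this
      rw [this, map_mul, ← Complex.mul_conj]
      ring
    · rw [indFun_normal_apply_of_not_mem N _ hg]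
      simp
  rw [Finset.sum_congr rfl (fun g _ => hterm g), ← Finset.mul_sum] at hsum
  rcases mul_eq_zero.mp hsum with h' | h'
  · have : (χ : G → ℂ) 1 / indFun N (θ : N → ℂ) 1 = 0 := by
      have := congrArg conj h'
      simpa using this
    rcases div_eq_zero_iff.mp this with h'' | h''
    · exact hχ1 h''
    · exact hi1 h''
  · have hre : ∑ g : G, Complex.normSq (indFun N (θ : N → ℂ) g) = 0 := by
      have := congrArg Complex.re h'
      simpa using this
    have hle : Complex.normSq (indFun N (θ : N → ℂ) 1)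
        ≤ ∑ g : G, Complex.normSq (indFun N (θ : N → ℂ) g) :=
      Finset.single_le_sum (f := fun g => Complex.normSq (indFun N (θ : N → ℂ) g))
        (fun g _ => Complex.normSq_nonneg _) (Finset.mem_univ 1)
    rw [hre] at hle
    have : Complex.normSq (indFun N (θ : N → ℂ) 1) = 0 :=
      le_antisymm hle (Complex.normSq_nonneg _)
    exact hi1 (Complex.normSq_eq_zero.mp this)

end Cfsg.Agent.Lib.helper3.Block
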