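import Mathlib

/-!
# Central elements of a modular group algebra killing the fixed vectors of a normal `p`-subgroup
are nilpotent
-/

set_option autoImplicit false
set_option linter.style.haveILetI false
set_option linter.unusedSectionVars false

namespace Cfsg.Agent.Lib.helper3.GroupAlgNil

/-- A finite `p`-group acting additively on a nonzero abelian group of exponent `p` has a nonzero
fixed point, which may be taken in the additive subgroup generated by the orbit of a given nonzero
element. -/
theorem exists_fixed_ne_zero {P : Type*} [Group P] [Finite P] {p : ℕ} [hp : Fact p.Prime]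
    (hP : IsPGroup p P) {V : Type*} [AddCommGroup V] [DistribMulAction P V]
    (hpV : ∀ v : V, p • v = 0) (w₀ : V) (hw₀ : w₀ ≠ 0) :
    ∃ v : V, v ≠ 0 ∧ (∀ u : P, u • v = v) ∧
      v ∈ AddSubgroup.closure (Set.range fun u : P => u • w₀) := by
  classical
  obtain ⟨S, hS⟩ : ∃ S : AddSubgroup V, S = AddSubgroup.closure (Set.range fun u : P => u • w₀) :=
    ⟨_, rfl⟩
  rw [← hS]
  have hw₀S : w₀ ∈ S := by
    rw [hS]
    apply AddSubgroup.subset_closure
    exact ⟨1, one_smul P w₀⟩
  -- `S` is stable under `P`
  have hstab : ∀ (u : P) (v : V), v ∈ S → u • v ∈ S := by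
    intro u v hv
    rw [hS] at hv ⊢
    induction hv using AddSubgroup.closure_induction with
    | mem x hx =>
      obtain ⟨u', rfl⟩ := hx
      apply AddSubgroup.subset_closure
      exact ⟨u * u', (mul_smul u u' w₀)⟩
    | zero => rw [smul_zero]; exact AddSubgroup.zero_mem _
    | add x y _ _ hx hy => rw [smul_add]; exact AddSubgroup.add_mem _ hx hy
    | neg x _ hx => rw [smul_neg]; exact AddSubgroup.neg_mem _ hx
  -- `S` is finite
  haveI hfin : Finite S := by
    haveI : AddGroup.FG S := by
      rw [AddGroup.fg_iff_addSubgroup_fg, AddSubgroup.fg_iff]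
      exact ⟨_, hS.symm, Set.finite_range _⟩
    apply AddCommGroup.finite_of_fg_isAddTorsion
    intro x
    rw [isOfFinAddOrder_iff_nsmul_eq_zero]
    refine ⟨p, hp.out.pos, ?_⟩
    apply Subtype.ext
    push_cast
    exact hpV x
  -- the action on `S`
  letI : MulAction P S :=
    { smul := fun u s => ⟨u • (s : V), hstab u s s.2⟩
      one_smul := fun s => Subtype.ext (one_smul P (s : V))
      mul_smul := fun u u' s => Subtype.ext (mul_smul u u' (s : V)) }
  have hsmul : ∀ (u : P) (s : S), ((u • s : S) : V) = u • (s : V) := fun _ _ => rfl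
  have hcard := hP.card_modEq_card_fixedPoints S
  -- `p` divides `|S|`
  have hpS : p ∣ Nat.card S := by
    have h1 : addOrderOf (⟨w₀, hw₀S⟩ : S) = p := by
      apply addOrderOf_eq_prime
      · apply Subtype.ext
        push_cast
        exact hpV w₀
      · intro h
        exact hw₀ (congrArg Subtype.val h)
    rw [← h1]
    exact addOrderOf_dvd_natCard _
  have hpF : p ∣ Nat.card (MulAction.fixedPoints P S) := by
    exact (Nat.modEq_zero_iff_dvd.mp ((hcard.symm).trans (Nat.modEq_zero_iff_dvd.mpr hpS)))
  have hF0 : (0 : S) ∈ MulAction.fixedPoints P S := by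
    intro u
    apply Subtype.ext
    rw [hsmul]
    exact smul_zero u
  haveI : Finite (MulAction.fixedPoints P S) := Subtype.finite
  have hFpos : 0 < Nat.card (MulAction.fixedPoints P S) := Nat.card_pos_iff.mpr ⟨⟨⟨0, hF0⟩⟩, inferInstance⟩
  have h2 : 1 < Nat.card (MulAction.fixedPoints P S) :=
    lt_of_lt_of_le hp.out.one_lt (Nat.le_of_dvd hFpos hpF)
  rw [Finite.one_lt_card_iff_nontrivial] at h2
  obtain ⟨x, hx⟩ := exists_ne (⟨0, hF0⟩ : MulAction.fixedPoints P S)
  refine ⟨((x : S) : V), ?_, ?_, (x : S).2⟩
  · intro h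
    apply hx
    apply Subtype.ext
    apply Subtype.ext
    exact h
  · intro u
    have := x.2 u
    exact congrArg Subtype.val this

/-- A central element of the group algebra in characteristic `p` which annihilates every vector
fixed by a `p`-subgroup (acting by left multiplication) is nilpotent. -/
theorem isNilpotent_of_central_of_kills_fixed {G : Type*} [Group G] [Finite G] {F : Type*}
    [Field F] (p : ℕ) [hp : Fact p.Prime] [CharP F p] (P : Subgroup G) (hP : IsPGroup p P)
    (z : MonoidAlgebra F G) (hz : ∀ a : MonoidAlgebra F G, z * a = a * z)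
    (hkill : ∀ v : MonoidAlgebra F G, (∀ u ∈ P, MonoidAlgebra.single u (1 : F) * v = v) →
      z * v = 0) :
    IsNilpotent z := by
  classical
  haveI : Module.Finite F (MonoidAlgebra F G) :=
    Module.Finite.equiv (MonoidAlgebra.coeffLinearEquiv (S := F) (M := G) F).symm
  obtain ⟨f, hf⟩ : ∃ f : Module.End F (MonoidAlgebra F G), f = LinearMap.mulLeft F z := ⟨_, rfl⟩
  have hfpow : ∀ (n : ℕ) (x : MonoidAlgebra F G), (f ^ n) x = z ^ n * x := by
    intro n
    induction n with
    | zero => intro x; simp
    | succ n ih =>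
      intro x
      rw [pow_succ', Module.End.mul_apply, ih, hf, LinearMap.mulLeft_apply, pow_succ', mul_assoc]
  obtain ⟨n, hn, hn1⟩ := ((LinearMap.eventually_isCompl_ker_pow_range_pow f).and
    (Filter.eventually_ge_atTop 1)).exists
  have hzpow : ∀ (n : ℕ) (a : MonoidAlgebra F G), z ^ n * a = a * z ^ n := by
    intro n a
    induction n with
    | zero => simp
    | succ n ih => rw [pow_succ, mul_assoc, hz, ← mul_assoc, ih, mul_assoc]
  have hrange : LinearMap.range (f ^ n) = ⊥ := by
    by_contra hne
    obtain ⟨w₀, hw₀mem, hw₀⟩ := (Submodule.ne_bot_iff _).mp hne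
    letI : DistribMulAction P (MonoidAlgebra F G) :=
      DistribMulAction.compHom (MonoidAlgebra F G) ((MonoidAlgebra.of F G).comp P.subtype)
    have hsmul : ∀ (u : P) (v : MonoidAlgebra F G),
        u • v = MonoidAlgebra.single (u : G) (1 : F) * v := fun _ _ => rfl
    have hpV : ∀ v : MonoidAlgebra F G, p • v = 0 := by
      intro v
      rw [← Nat.cast_smul_eq_nsmul F p v, CharP.cast_eq_zero F p, zero_smul]
    obtain ⟨v, hv0, hvfix, hvmem⟩ := exists_fixed_ne_zero (P := P) hP hpV w₀ hw₀
    have hle : AddSubgroup.closure (Set.range fun u : P => u • w₀)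
        ≤ (LinearMap.range (f ^ n)).toAddSubgroup := by
      rw [AddSubgroup.closure_le]
      rintro _ ⟨u, rfl⟩
      obtain ⟨x, rfl⟩ := hw₀mem
      refine ⟨MonoidAlgebra.single (u : G) (1 : F) * x, ?_⟩
      show (f ^ n) (MonoidAlgebra.single (u : G) (1 : F) * x) = u • (f ^ n) x
      rw [hfpow, hfpow, hsmul, ← mul_assoc, hzpow, mul_assoc]
    have hvrange : v ∈ LinearMap.range (f ^ n) := hle hvmem
    have hzv : z * v = 0 := by
      apply hkill
      intro u hu
      exact hvfix ⟨u, hu⟩
    have hvker : v ∈ LinearMap.ker (f ^ n) := by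
      rw [LinearMap.mem_ker, hfpow]
      obtain ⟨m, rfl⟩ : ∃ m, n = m + 1 := ⟨n - 1, by omega⟩
      rw [pow_succ, mul_assoc, hzv, mul_zero]
    have := hn.disjoint.le_bot ⟨hvker, hvrange⟩
    exact hv0 ((Submodule.mem_bot F).mp this)
  refine ⟨n, ?_⟩
  have h1 : (f ^ n) 1 ∈ LinearMap.range (f ^ n) := ⟨1, rfl⟩
  rw [hrange, Submodule.mem_bot, hfpow, mul_one] at h1
  exact h1

/-- In characteristic `p`, the sum of a function constant on the orbits of a fixed-point-free
action of a finite `p`-group vanishes. -/
theorem sum_eq_zero_of_fixedPoint_free {P X : Type*} [Group P] [Finite P] [Fintype X]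
    [MulAction P X] {p : ℕ} [hp : Fact p.Prime] (hP : IsPGroup p P) {V : Type*} [AddCommGroup V]
    (hpV : ∀ v : V, p • v = 0) (g : X → V) (hg : ∀ (u : P) (x : X), g (u • x) = g x)
    (hfree : ∀ x : X, ∃ u : P, u • x ≠ x) : ∑ x : X, g x = 0 := by
  classical
  rw [Finset.sum_comp (s := (Finset.univ : Finset X)) (fun a : V => a) g]
  apply Finset.sum_eq_zero
  intro a _
  -- the level set of `a`
  letI : MulAction P {x : X // g x = a} :=
    { smul := fun u x => ⟨u • (x : X), by rw [hg]; exact x.2⟩
      one_smul := fun x => Subtype.ext (one_smul P (x : X))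
      mul_smul := fun u u' x => Subtype.ext (mul_smul u u' (x : X)) }
  have hsmul : ∀ (u : P) (x : {x : X // g x = a}), ((u • x : {x : X // g x = a}) : X)
      = u • (x : X) := fun _ _ => rfl
  have hcard := hP.card_modEq_card_fixedPoints {x : X // g x = a}
  have hfix : IsEmpty (MulAction.fixedPoints P {x : X // g x = a}) := by
    constructor
    rintro ⟨x, hx⟩
    obtain ⟨u, hu⟩ := hfree (x : X)
    apply hu
    have := hx u
    rw [← hsmul, this]
  have hfix0 : Nat.card (MulAction.fixedPoints P {x : X // g x = a}) = 0 := Nat.card_of_isEmpty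
  rw [hfix0] at hcard
  have hdvd : p ∣ (Finset.univ.filter (fun x : X => g x = a)).card := by
    have h1 : Nat.card {x : X // g x = a} = (Finset.univ.filter (fun x : X => g x = a)).card := by
      rw [Nat.card_eq_fintype_card, Fintype.card_subtype]
    rw [← h1]
    exact Nat.modEq_zero_iff_dvd.mp hcard
  obtain ⟨k, hk⟩ := hdvd
  rw [hk, mul_comm, mul_smul, hpV, smul_zero]

section classSum

variable {G : Type*} [Group G]

/-- The conjugation action of `G` on the conjugates of `g`. -/
@[instance_reducible]
def conjAction (g : G) : MulAction G {x : G // IsConj g x} where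
  smul h x := ⟨h * (x : G) * h⁻¹, x.2.trans (isConj_iff.mpr ⟨h, rfl⟩)⟩
  one_smul x := Subtype.ext (by show (1 : G) * (x : G) * (1 : G)⁻¹ = x; simp)
  mul_smul h h' x := Subtype.ext (by
    show (h * h') * (x : G) * (h * h')⁻¹ = h * (h' * (x : G) * h'⁻¹) * h⁻¹
    group)

variable [Fintype G] {F : Type*} [Field F]

open Classical in
/-- The class sum is central. -/
theorem classSum_central (g : G) (a : MonoidAlgebra F G) :
    (∑ x : {x : G // IsConj g x}, MonoidAlgebra.single (x : G) (1 : F)) * a
      = a * ∑ x : {x : G // IsConj g x}, MonoidAlgebra.single (x : G) (1 : F) := by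
  letI := conjAction g
  induction a using MonoidAlgebra.induction_on with
  | of h =>
    rw [Finset.sum_mul, Finset.mul_sum]
    rw [← Equiv.sum_comp (MulAction.toPerm h : Equiv.Perm {x : G // IsConj g x})]
    apply Finset.sum_congr rfl
    intro x _
    have e : ((MulAction.toPerm h : Equiv.Perm {x : G // IsConj g x}) x : G)
        = h * (x : G) * h⁻¹ := rfl
    rw [e]
    simp only [MonoidAlgebra.of_apply, MonoidAlgebra.single_mul_single, mul_one]
    congr 1
    group
  | add a b ha hb => rw [mul_add, add_mul, ha, hb]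
  | smul r a ha => rw [mul_smul_comm, smul_mul_assoc, ha]

open Classical in
/-- **Nilpotency of class sums.** If no conjugate of `g` centralizes the normal `p`-subgroup `P`,
the class sum of `g` is nilpotent in characteristic `p`. -/
theorem isNilpotent_classSum (p : ℕ) [hp : Fact p.Prime] [CharP F p] (P : Subgroup G)
    [hPn : P.Normal] (hP : IsPGroup p P) (g : G)
    (hg : ∀ x : G, IsConj g x → x ∉ Subgroup.centralizer (P : Set G)) :
    IsNilpotent (∑ x : {x : G // IsConj g x}, MonoidAlgebra.single (x : G) (1 : F)) := by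
  letI := conjAction g
  apply isNilpotent_of_central_of_kills_fixed p P hP
  · exact classSum_central g
  · intro v hv
    rw [Finset.sum_mul]
    have hpV : ∀ v : MonoidAlgebra F G, p • v = 0 := by
      intro v
      rw [← Nat.cast_smul_eq_nsmul F p v, CharP.cast_eq_zero F p, zero_smul]
    apply sum_eq_zero_of_fixedPoint_free (P := P) hP hpV
    · intro u x
      have e : ((u • x : {x : G // IsConj g x}) : G) = (u : G) * (x : G) * (u : G)⁻¹ := rfl
      rw [e]
      have hmem : (x : G)⁻¹ * (u : G) * (x : G) * (u : G)⁻¹ ∈ P := by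
        apply P.mul_mem _ (P.inv_mem u.2)
        have := hPn.conj_mem (u : G) u.2 (x : G)⁻¹
        simpa using this
      have e2 : (u : G) * (x : G) * (u : G)⁻¹
          = (x : G) * ((x : G)⁻¹ * (u : G) * (x : G) * (u : G)⁻¹) := by group
      have e3 : MonoidAlgebra.single ((x : G) * ((x : G)⁻¹ * (u : G) * (x : G) * (u : G)⁻¹)) (1 : F)
          = MonoidAlgebra.single (x : G) (1 : F)
            * MonoidAlgebra.single ((x : G)⁻¹ * (u : G) * (x : G) * (u : G)⁻¹) (1 : F) := by
        rw [MonoidAlgebra.single_mul_single, mul_one]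
      rw [e2, e3, mul_assoc, hv _ hmem]
    · intro x
      have hx := hg (x : G) x.2
      rw [Subgroup.mem_centralizer_iff] at hx
      push Not at hx
      obtain ⟨u, hu, hne⟩ := hx
      refine ⟨⟨u, hu⟩, ?_⟩
      intro h
      apply hne
      have e : (((⟨u, hu⟩ : P) • x : {x : G // IsConj g x}) : G) = u * (x : G) * u⁻¹ := rfl
      have := congrArg Subtype.val h
      rw [e] at this
      calc u * (x : G) = u * (x : G) * u⁻¹ * u := by group
        _ = (x : G) * u := by rw [this]

end classSum

end Cfsg.Agent.Lib.helper3.GroupAlgNil
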