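import Mathlib
import Cfsg.Prelude.Def_Characters
import Cfsg.Prelude.Def_Blocks
import Cfsg.Agent.Lib.helper3.BlockIdem2
import Cfsg.Agent.Lib.helper3.GroupAlgNil

/-!
# The min-max theorem for defect classes (key step)
-/

set_option autoImplicit false
set_option linter.style.haveILetI false
set_option linter.unusedSectionVars false

namespace Cfsg.Agent.Lib.helper3.Block

open Cfsg Module Cfsg.Agent.Lib.helper3.CharBasic Cfsg.Agent.Lib.helper3.Irr
open Cfsg.Agent.Lib.helper3.Central Cfsg.Agent.Lib.helper3.LocalM Cfsg.Agent.Lib.helper3.IndFun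
open scoped ComplexConjugate

variable {M : Ideal AlgInt}

theorem memLocalRing_add [hMp : M.IsPrime] {r z : ℂ} (hr : MemLocalRing M r)
    (hz : MemLocalRing M z) : MemLocalRing M (r + z) := by
  obtain ⟨a, b, hb, rfl⟩ := hr
  obtain ⟨a', b', hb', rfl⟩ := hz
  refine ⟨a * b' + a' * b, b * b', ?_, ?_⟩
  · intro h
    rcases hMp.mem_or_mem h with h | h
    · exact hb h
    · exact hb' h
  · have h1 := coe_ne_zero_of_notMem hb
    have h2 := coe_ne_zero_of_notMem hb'
    push_cast
    field_simp

theorem memLocalRing_sum [hMp : M.IsPrime] {ι : Type*} (s : Finset ι) (f : ι → ℂ)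
    (h : ∀ i ∈ s, MemLocalRing M (f i)) : MemLocalRing M (∑ i ∈ s, f i) := by
  classical
  induction s using Finset.induction_on with
  | empty =>
    rw [Finset.sum_empty]
    exact memLocalRing_of_integral isIntegral_zero
  | insert a s ha ih =>
    rw [Finset.sum_insert ha]
    exact memLocalRing_add (h a (Finset.mem_insert_self a s))
      (ih (fun i hi => h i (Finset.mem_insert_of_mem hi)))

/-- A sum of local integers, constant on the orbits of a fixed-point-free action of a finite
`p`-group, lies in the local ideal. -/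
theorem memLocalIdeal_sum_of_fixedPoint_free {P X : Type*} [Group P] [Finite P] [Fintype X]
    [MulAction P X] {p : ℕ} (hM : IsPModular p M) (hP : IsPGroup p P) (g : X → ℂ)
    (hgR : ∀ x : X, MemLocalRing M (g x)) (hg : ∀ (u : P) (x : X), g (u • x) = g x)
    (hfree : ∀ x : X, ∃ u : P, u • x ≠ x) : MemLocalIdeal M (∑ x : X, g x) := by
  classical
  haveI : Fact p.Prime := ⟨hM.1⟩
  haveI hMp := isPrime_of_isPModular hM
  have hMtop : M ≠ ⊤ := hM.2.1.ne_top
  rw [Finset.sum_comp (s := (Finset.univ : Finset X)) (fun a : ℂ => a) g]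
  apply memLocalIdeal_sum
  intro a ha
  obtain ⟨x₀, -, rfl⟩ := Finset.mem_image.mp ha
  letI : MulAction P {x : X // g x = g x₀} :=
    { smul := fun u x => ⟨u • (x : X), by rw [hg]; exact x.2⟩
      one_smul := fun x => Subtype.ext (one_smul P (x : X))
      mul_smul := fun u u' x => Subtype.ext (mul_smul u u' (x : X)) }
  have hsmul : ∀ (u : P) (x : {x : X // g x = g x₀}), ((u • x : {x : X // g x = g x₀}) : X)
      = u • (x : X) := fun _ _ => rfl
  have hcard := hP.card_modEq_card_fixedPoints {x : X // g x = g x₀}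
  have hfix : IsEmpty (MulAction.fixedPoints P {x : X // g x = g x₀}) := by
    constructor
    rintro ⟨x, hx⟩
    obtain ⟨u, hu⟩ := hfree (x : X)
    apply hu
    have := hx u
    rw [← hsmul, this]
  have hfix0 : Nat.card (MulAction.fixedPoints P {x : X // g x = g x₀}) = 0 :=
    Nat.card_of_isEmpty
  rw [hfix0] at hcard
  have hdvd : p ∣ (Finset.univ.filter (fun x : X => g x = g x₀)).card := by
    have h1 : Nat.card {x : X // g x = g x₀}
        = (Finset.univ.filter (fun x : X => g x = g x₀)).card := by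
      rw [Nat.card_eq_fintype_card, Fintype.card_subtype]
    rw [← h1]
    exact Nat.modEq_zero_iff_dvd.mp hcard
  obtain ⟨k, hk⟩ := hdvd
  rw [hk, nsmul_eq_mul, mul_comm]
  apply memLocalIdeal_mul_localRing (hgR x₀)
  have e : (((p * k : ℕ) : ℂ)) = (((p : AlgInt) * (k : AlgInt) : AlgInt) : ℂ) := by
    push_cast
    rfl
  rw [e]
  exact memLocalIdeal_of_mem (M.mul_mem_right _ hM.2.2) hMtop

variable {G : Type*} [Group G] [Fintype G]

/-- A polynomial identity: `∏ (ω_χ(h) - ω_χ'(h)) = ω_χ(h) q(χ) + ∏ (-ω_χ'(h))` with `q` having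
integral coefficients. -/
theorem exists_quotient_family (h : G) (S : Finset (IrrCharacter G)) :
    ∃ q : IrrCharacter G → ℂ, IntCoef q ∧ ∀ χ : IrrCharacter G,
      ∏ χ' ∈ S, (centralChar (χ : G → ℂ) h - centralChar (χ' : G → ℂ) h)
        = centralChar (χ : G → ℂ) h * q χ + ∏ χ' ∈ S, (- centralChar (χ' : G → ℂ) h) := by
  classical
  induction S using Finset.induction_on with
  | empty =>
    refine ⟨fun _ => 0, ?_, ?_⟩
    · exact intCoef_const isIntegral_zero
    · intro χ
      simp
  | insert s S hs ih =>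
    obtain ⟨q, hq, hqe⟩ := ih
    obtain ⟨e, he⟩ : ∃ e : ℂ, e = ∏ χ' ∈ S, (- centralChar (χ' : G → ℂ) h) := ⟨_, rfl⟩
    have heint : IsIntegral ℤ e := by
      rw [he]
      exact IsIntegral.prod _ (fun χ' _ => (isIntegral_centralChar χ'.2 h).neg)
    refine ⟨q * ((fun χ : IrrCharacter G => centralChar (χ : G → ℂ) h)
        - (fun _ : IrrCharacter G => centralChar (s : G → ℂ) h))
        + (fun _ : IrrCharacter G => e), ?_, ?_⟩
    · apply IntCoef.add
      · apply IntCoef.mul hq
        exact IntCoef.sub (intCoef_centralChar h) (intCoef_const (isIntegral_centralChar s.2 h))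
      · exact intCoef_const heint
    · intro χ
      rw [Finset.prod_insert hs, Finset.prod_insert hs, hqe χ, ← he]
      simp only [Pi.add_apply, Pi.mul_apply, Pi.sub_apply]
      ring

/-- **Key step of the min-max theorem.** If the central character of the block `B` does not vanish
modulo `M` at `h` and the idempotent coefficient of `B` at `z` is a unit, then every `p`-subgroup
of `C(z)` centralizes some conjugate of `h`. -/
theorem exists_conj_centralized {p : ℕ} (hM : IsPModular p M) (B : Set (IrrCharacter G))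
    (hB : IsPBlock M B) (h z : G)
    (hh : ∃ χ ∈ B, ¬ MemLocalIdeal M (centralChar (χ : G → ℂ) h))
    (hz : ¬ MemLocalIdeal M (blockCoeff B z)) (P : Subgroup G) (hP : IsPGroup p P)
    (hPz : P ≤ Subgroup.centralizer ({z} : Set G)) :
    ∃ y : G, IsConj h y ∧ P ≤ Subgroup.centralizer ({y} : Set G) := by
  classical
  haveI : Fact p.Prime := ⟨hM.1⟩
  haveI hMp := isPrime_of_isPModular hM
  have hMtop : M ≠ ⊤ := hM.2.1.ne_top
  have hOs := osima hM B hB
  obtain ⟨χ₀, hB'⟩ := hB
  obtain ⟨χ₁, hχ₁, hχ₁h⟩ := hh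
  -- all members of `B` have central character a unit at `h`
  have hunit : ∀ χ ∈ B, ¬ MemLocalIdeal M (centralChar (χ : G → ℂ) h) := by
    intro χ hχ hmem
    apply hχ₁h
    rw [hB'] at hχ hχ₁
    have h1 : MemLocalIdeal M (centralChar (χ₀ : G → ℂ) h - centralChar (χ : G → ℂ) h) := hχ h
    have h2 : MemLocalIdeal M (centralChar (χ₀ : G → ℂ) h - centralChar (χ₁ : G → ℂ) h) := hχ₁ h
    have h3 := memLocalIdeal_add (memLocalIdeal_sub h1 h2) hmem
    have e : centralChar (χ₀ : G → ℂ) h - centralChar (χ : G → ℂ) h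
        - (centralChar (χ₀ : G → ℂ) h - centralChar (χ₁ : G → ℂ) h) + centralChar (χ : G → ℂ) h
        = centralChar (χ₁ : G → ℂ) h := by ring
    rwa [e] at h3
  obtain ⟨T, hT⟩ : ∃ T : Finset (IrrCharacter G), T = Finset.univ.filter (· ∈ B) := ⟨_, rfl⟩
  obtain ⟨q, hq, hqe⟩ := exists_quotient_family h T
  obtain ⟨e, he⟩ : ∃ e : ℂ, e = ∏ χ' ∈ T, (- centralChar (χ' : G → ℂ) h) := ⟨_, rfl⟩
  have heint : IsIntegral ℤ e := by
    rw [he]
    exact IsIntegral.prod _ (fun χ' _ => (isIntegral_centralChar χ'.2 h).neg)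
  have heunit : ¬ MemLocalIdeal M e := by
    rw [he]
    apply not_memLocalIdeal_prod _ _ (fun χ' _ => (isIntegral_centralChar χ'.2 h).neg)
    intro χ' hχ' hmem
    rw [hT, Finset.mem_filter] at hχ'
    apply hunit χ' hχ'.2
    have := memLocalIdeal_neg hmem
    rwa [neg_neg] at this
  have he0 : e ≠ 0 := by
    intro h0
    apply heunit
    rw [h0]
    exact memLocalIdeal_zero hMtop
  have hB_eq : ∀ χ ∈ B, centralChar (χ : G → ℂ) h * q χ = - e := by
    intro χ hχ
    have h1 := hqe χ
    rw [← he] at h1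
    have h2 : ∏ χ' ∈ T, (centralChar (χ : G → ℂ) h - centralChar (χ' : G → ℂ) h) = 0 := by
      apply Finset.prod_eq_zero (i := χ)
      · rw [hT, Finset.mem_filter]
        exact ⟨Finset.mem_univ _, hχ⟩
      · rw [sub_self]
    rw [h2] at h1
    linear_combination -h1
  -- the indicator of `B`
  obtain ⟨c, hc⟩ : ∃ c : IrrCharacter G → ℂ, c = fun χ => if χ ∈ B then (1 : ℂ) else 0 :=
    ⟨_, rfl⟩
  have hcoef : ∀ g, blockCoeff B g = coef c g := by
    intro g
    rw [hc]
    exact blockCoeff_eq_coef B g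
  -- the inverse family
  obtain ⟨v, hv⟩ : ∃ v : IrrCharacter G → ℂ, v = (-e⁻¹) • (c * q) := ⟨_, rfl⟩
  have hvR : ∀ x : G, MemLocalRing M (coef v x) := by
    intro x
    rw [hv, coef_smul, coef_mul]
    apply memLocalRing_mul
    · refine ⟨-1, ⟨e, heint⟩, ?_, ?_⟩
      · intro hmem
        exact heunit (memLocalIdeal_of_mem (a := ⟨e, heint⟩) hmem hMtop)
      · push_cast
        field_simp
    · apply memLocalRing_sum
      intro y _
      apply memLocalRing_mul
      · rw [← hcoef]
        exact hOs y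
      · exact memLocalRing_of_integral (hq _)
  have hprod : c = v * (fun χ : IrrCharacter G => centralChar (χ : G → ℂ) h) := by
    funext χ
    rw [hv, hc]
    simp only [Pi.mul_apply, Pi.smul_apply, smul_eq_mul]
    by_cases hχ : χ ∈ B
    · rw [if_pos hχ]
      have h1 := hB_eq χ hχ
      have e2 : -e⁻¹ * (1 * q χ) * centralChar (χ : G → ℂ) h
          = -e⁻¹ * (centralChar (χ : G → ℂ) h * q χ) := by ring
      rw [e2, h1]
      field_simp
    · rw [if_neg hχ]
      ring
  have hsum : blockCoeff B z = ∑ x : G, if IsConj h (x⁻¹ * z) then coef v x else 0 := by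
    rw [hcoef, hprod, coef_mul]
    apply Finset.sum_congr rfl
    intro x _
    rw [coef_centralChar]
    split_ifs <;> simp
  by_contra hcon
  push Not at hcon
  apply hz
  rw [hsum]
  -- restrict to the relevant `x`
  rw [← Finset.sum_filter, Finset.sum_subtype (Finset.univ.filter
    (fun x : G => IsConj h (x⁻¹ * z))) (p := fun x : G => IsConj h (x⁻¹ * z)) (by intro x; simp)
    (fun x : G => coef v x)]
  letI : MulAction P {x : G // IsConj h (x⁻¹ * z)} :=
    { smul := fun u x => ⟨(u : G) * (x : G) * (u : G)⁻¹, by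
        have hu := hPz u.2
        rw [Subgroup.mem_centralizer_iff] at hu
        have hzu := hu z (Set.mem_singleton z)
        have e1 : ((u : G) * (x : G) * (u : G)⁻¹)⁻¹ * z
            = (u : G) * ((x : G)⁻¹ * z) * (u : G)⁻¹ := by
          have : z = (u : G) * z * (u : G)⁻¹ := by
            rw [← hzu]; group
          calc ((u : G) * (x : G) * (u : G)⁻¹)⁻¹ * z
              = (u : G) * (x : G)⁻¹ * (u : G)⁻¹ * z := by group
            _ = (u : G) * (x : G)⁻¹ * (u : G)⁻¹ * ((u : G) * z * (u : G)⁻¹) := by rw [← this]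
            _ = (u : G) * ((x : G)⁻¹ * z) * (u : G)⁻¹ := by group
        rw [e1]
        exact x.2.trans (isConj_iff.mpr ⟨(u : G), rfl⟩)⟩
      one_smul := fun x => Subtype.ext (by
        show ((1 : P) : G) * (x : G) * ((1 : P) : G)⁻¹ = x
        simp)
      mul_smul := fun u u' x => Subtype.ext (by
        show ((u * u' : P) : G) * (x : G) * ((u * u' : P) : G)⁻¹
          = (u : G) * ((u' : G) * (x : G) * (u' : G)⁻¹) * (u : G)⁻¹
        push_cast
        group) }
  have hsmul : ∀ (u : P) (x : {x : G // IsConj h (x⁻¹ * z)}),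
      ((u • x : {x : G // IsConj h (x⁻¹ * z)}) : G) = (u : G) * (x : G) * (u : G)⁻¹ :=
    fun _ _ => rfl
  apply memLocalIdeal_sum_of_fixedPoint_free (P := P) hM hP
  · intro x
    exact hvR _
  · intro u x
    rw [hsmul, coef_conj]
  · intro x
    by_contra hfix
    push Not at hfix
    -- `x` is fixed by `P`, so `y = x⁻¹ z` is centralized by `P`
    apply hcon ((x : G)⁻¹ * z) x.2
    intro u hu
    rw [Subgroup.mem_centralizer_iff]
    intro b hb
    rw [Set.mem_singleton_iff] at hb
    subst hb
    have h1 := congrArg Subtype.val (hfix ⟨u, hu⟩)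
    rw [hsmul] at h1
    have h1' : u * (x : G) = (x : G) * u := by
      calc u * (x : G) = u * (x : G) * u⁻¹ * u := by group
        _ = (x : G) * u := by rw [h1]
    have h2 := hPz hu
    rw [Subgroup.mem_centralizer_iff] at h2
    have h3 := h2 z (Set.mem_singleton z)
    calc (x : G)⁻¹ * z * u = (x : G)⁻¹ * (z * u) := by group
      _ = (x : G)⁻¹ * (u * z) := by rw [h3]
      _ = (x : G)⁻¹ * (u * (x : G)) * (x : G)⁻¹ * z := by group
      _ = (x : G)⁻¹ * ((x : G) * u) * (x : G)⁻¹ * z := by rw [h1']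
      _ = u * ((x : G)⁻¹ * z) := by group

end Cfsg.Agent.Lib.helper3.Block
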