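import Mathlib
import Cfsg.Prelude.Def_Characters
import Cfsg.Agent.Lib.helper3.Clifford
import Cfsg.Agent.Lib.helper3.Degrees
import Cfsg.Agent.Lib.helper3.Irr9

set_option autoImplicit false
set_option linter.style.haveILetI false
set_option linter.unusedSectionVars false

/-!
# Degrees of constituents of restrictions to normal subgroups
-/

namespace Cfsg.Agent.Lib.helper3.Irr

open Cfsg Module Cfsg.Agent.Lib.helper3.IndFun Cfsg.Agent.Lib.helper3.CharBasic
open scoped ComplexConjugate

variable {G : Type*} [Group G]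

/-- The degree of an irreducible constituent of the restriction to a normal subgroup divides the
degree of the character. -/
theorem constituent_degree_dvd [Fintype G] (N : Subgroup G) [hN : N.Normal] [Fintype N]
    (χ : G → ℂ) (hχ : IsIrrCharacter G χ) (θ : N → ℂ) (hθ : IsIrrCharacter N θ)
    (hcon : classInner (fun n : N => χ n) θ ≠ 0) (dχ dθ : ℕ) (hdχ : χ 1 = dχ) (hdθ : θ 1 = dθ) :
    dθ ∣ dχ := by
  classical
  have h := clifford N χ hχ θ hθ hcon
  rw [setOf_conj_eq, finsum_mem_coe_finset] at h
  have hres := isCharacter_restrict (isCharacter_of_isIrrCharacter hχ) N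
  obtain ⟨c, hc⟩ := exists_nat_classInner_of_isCharacter hres ⟨θ, hθ⟩
  simp only at hc
  have h1 := congrFun h 1
  rw [hc, Pi.smul_apply, Finset.sum_apply] at h1
  have h2 : ∀ ψ ∈ Finset.univ.image (conjFun N θ), ψ 1 = (dθ : ℂ) := by
    intro ψ hψ
    obtain ⟨g, -, rfl⟩ := Finset.mem_image.mp hψ
    unfold conjFun
    rw [← hdθ]
    congr 1
    apply Subtype.ext
    simp
  rw [Finset.sum_congr rfl h2, Finset.sum_const, smul_eq_mul, nsmul_eq_mul] at h1
  have h3 : χ ((1 : N) : G) = (dχ : ℂ) := hdχ
  rw [h3] at h1
  have h4 : dχ = c * ((Finset.univ.image (conjFun N θ)).card * dθ) := by exact_mod_cast h1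
  rw [h4]
  exact ⟨c * (Finset.univ.image (conjFun N θ)).card, by ring⟩

/-- Every irreducible character of a normal subgroup lies under some irreducible character. -/
theorem exists_irr_over [Fintype G] (N : Subgroup G) [hN : N.Normal] [Fintype N]
    (θ : N → ℂ) (hθ : IsIrrCharacter N θ) :
    ∃ χ : IrrCharacter G, classInner (fun n : N => (χ : G → ℂ) n) θ ≠ 0 := by
  classical
  have hind := isCharacter_indFun N θ (isCharacter_of_isIrrCharacter hθ)
  have hne : indFun N θ ≠ 0 := by
    intro h
    have h1 := congrFun h 1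
    rw [indFun_apply_one, Pi.zero_apply] at h1
    rcases mul_eq_zero.mp h1 with h2 | h2
    · have : N.index ≠ 0 := Subgroup.index_ne_zero_of_finite
      exact this (by exact_mod_cast h2)
    · exact apply_one_ne_zero hθ h2
  obtain ⟨χ, hχ⟩ := exists_constituent hind hne
  refine ⟨χ, ?_⟩
  have hcf := isClassFunction_of_isCharacter (isCharacter_of_isIrrCharacter χ.2)
  rw [frobenius_reciprocity N θ _ hcf] at hχ
  intro h
  apply hχ
  rw [← classInner_conj_symm, h, map_zero]

end Cfsg.Agent.Lib.helper3.Irr
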