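import Mathlib
import Cfsg.Prelude.Def_Characters
import Cfsg.Prelude.Def_Transfer
import Cfsg.Agent.Lib.helper3.Irr12
import Cfsg.Agent.Lib.helper3.Irr2
import Cfsg.Agent.H1.PResidual

set_option autoImplicit false
set_option linter.style.haveILetI false
set_option linter.unusedSectionVars false

/-!
# Conjugation action on the irreducible characters of a normal subgroup, orbit counting,
and the abelianization of `O^p(G)`
-/

namespace Cfsg.Agent.Lib.helper3.PRes

open Cfsg Module Cfsg.Agent.Lib.helper3.Irr Cfsg.Agent.Lib.helper3.CharBasic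
open scoped ComplexConjugate

/-- Weighted orbit counting: if all orbits have `p`-power size and the weight of every fixed point
is divisible by `p`, so is the total weight. -/
theorem dvd_sum_of_orbits {Γ X : Type*} [Group Γ] [MulAction Γ X] [Fintype X] (p : ℕ) (w : X → ℤ)
    (hw : ∀ (g : Γ) (x : X), w (g • x) = w x)
    (horb : ∀ x : X, ∃ n : ℕ, Nat.card (MulAction.orbit Γ x) = p ^ n)
    (hfix : ∀ x : X, (∀ g : Γ, g • x = x) → (p : ℤ) ∣ w x) :
    (p : ℤ) ∣ ∑ x, w x := by
  classical
  set e := MulAction.selfEquivSigmaOrbits Γ X with he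
  rw [← Equiv.sum_comp e.symm, Fintype.sum_sigma]
  apply Finset.dvd_sum
  intro ω _
  set x := Quotient.out ω with hx
  have h1 : ∀ y : MulAction.orbit Γ x, w (e.symm ⟨ω, y⟩) = w x := by
    intro y
    obtain ⟨g, hg⟩ := y.2
    have : e.symm ⟨ω, y⟩ = (y : X) := rfl
    rw [this, ← hg]
    exact hw g x
  rw [Finset.sum_congr rfl (fun y _ => h1 y), Finset.sum_const, Finset.card_univ, nsmul_eq_mul]
  obtain ⟨n, hn⟩ := horb x
  rw [Nat.card_eq_fintype_card] at hn
  rcases Nat.eq_zero_or_pos n with h0 | hpos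
  · apply Dvd.dvd.mul_left
    apply hfix
    intro g
    rw [h0, pow_zero, Fintype.card_eq_one_iff] at hn
    obtain ⟨z, hz⟩ := hn
    have h2 := hz ⟨g • x, MulAction.mem_orbit _ _⟩
    have h3 := hz ⟨x, MulAction.mem_orbit_self _⟩
    have := h2.trans h3.symm
    exact congrArg Subtype.val this
  · apply Dvd.dvd.mul_right
    rw [hn]
    push_cast
    exact dvd_pow_self _ hpos.ne'

variable {G : Type*} [Group G]

/-- The conjugation action of `G` on the irreducible characters of a normal subgroup: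
`(g • ψ)(n) = ψ(g⁻¹ n g)`. -/
noncomputable def conjAction [Finite G] (N : Subgroup G) [hN : N.Normal] :
    MulAction G (IrrCharacter N) where
  smul g ψ := ⟨fun n => (ψ : N → ℂ) (MulAut.conjNormal g⁻¹ n),
    isIrrCharacter_comp_mulEquiv (MulAut.conjNormal g⁻¹ : N ≃* N) ψ.2⟩
  one_smul ψ := by
    apply Subtype.ext
    funext n
    show (ψ : N → ℂ) (MulAut.conjNormal (1 : G)⁻¹ n) = (ψ : N → ℂ) n
    rw [inv_one, map_one]
    rfl
  mul_smul g h ψ := by
    apply Subtype.ext
    funext n
    show (ψ : N → ℂ) (MulAut.conjNormal (g * h)⁻¹ n)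
      = (ψ : N → ℂ) (MulAut.conjNormal h⁻¹ (MulAut.conjNormal g⁻¹ n))
    rw [mul_inv_rev, map_mul]
    rfl

theorem conjAction_apply [Finite G] (N : Subgroup G) [hN : N.Normal] (g : G) (ψ : IrrCharacter N)
    (n : N) :
    letI := conjAction N
    ((g • ψ : IrrCharacter N) : N → ℂ) n
      = (ψ : N → ℂ) ⟨g⁻¹ * n * g, by
        have := hN.conj_mem (n : G) n.2 g⁻¹
        rwa [inv_inv] at this⟩ := by
  show (ψ : N → ℂ) (MulAut.conjNormal g⁻¹ n) = _
  apply congrArg (ψ : N → ℂ)
  apply Subtype.ext
  rw [MulAut.conjNormal_apply]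
  simp

theorem conjAction_apply_one [Finite G] (N : Subgroup G) [hN : N.Normal] (g : G)
    (ψ : IrrCharacter N) :
    letI := conjAction N
    ((g • ψ : IrrCharacter N) : N → ℂ) 1 = (ψ : N → ℂ) 1 := by
  show (ψ : N → ℂ) (MulAut.conjNormal g⁻¹ 1) = _
  rw [map_one]

/-- Fixed points of the conjugation action are the invariant characters. -/
theorem conjAction_fixed_iff [Finite G] (N : Subgroup G) [hN : N.Normal] (ψ : IrrCharacter N) :
    letI := conjAction N
    (∀ g : G, g • ψ = ψ) ↔
      ∀ (g : G) (n : N), (ψ : N → ℂ) ⟨g * n * g⁻¹, hN.conj_mem (n : G) n.2 g⟩ = (ψ : N → ℂ) n := by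
  letI := conjAction N
  constructor
  · intro h g n
    have h1 := congrArg (fun φ : IrrCharacter N => (φ : N → ℂ) n) (h g⁻¹)
    rw [conjAction_apply] at h1
    rw [← h1]
    apply congrArg (ψ : N → ℂ)
    apply Subtype.ext
    simp
  · intro h g
    apply Subtype.ext
    funext n
    rw [conjAction_apply]
    have := h g⁻¹ n
    rw [← this]
    apply congrArg (ψ : N → ℂ)
    apply Subtype.ext
    simp

/-- Orbits of the conjugation action have size dividing the index. -/
theorem conjAction_card_orbit_dvd [Finite G] (N : Subgroup G) [hN : N.Normal]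
    (ψ : IrrCharacter N) :
    letI := conjAction N
    Nat.card (MulAction.orbit G ψ) ∣ N.index := by
  letI := conjAction N
  have h1 : N ≤ MulAction.stabilizer G ψ := by
    intro g hg
    rw [MulAction.mem_stabilizer_iff]
    apply Subtype.ext
    funext n
    rw [conjAction_apply]
    have hcf := isClassFunction_of_isCharacter (isCharacter_of_isIrrCharacter ψ.2)
    have := hcf n ⟨g⁻¹, N.inv_mem hg⟩
    rw [← this]
    apply congrArg (ψ : N → ℂ)
    apply Subtype.ext
    simp
  have h2 := Subgroup.index_dvd_of_le h1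
  rw [MulAction.index_stabilizer, ← Nat.card_coe_set_eq] at h2
  exact h2

theorem conjAction_card_orbit_pow [Finite G] (N : Subgroup G) [hN : N.Normal] (p k : ℕ)
    (hp : p.Prime) (hidx : N.index = p ^ k) (ψ : IrrCharacter N) :
    letI := conjAction N
    ∃ n : ℕ, Nat.card (MulAction.orbit G ψ) = p ^ n := by
  letI := conjAction N
  have h := conjAction_card_orbit_dvd N ψ
  rw [hidx] at h
  obtain ⟨j, _, hj⟩ := (Nat.dvd_prime_pow hp).mp h
  exact ⟨j, hj⟩

section pres

open Cfsg.Agent.H1

/-- The abelianization of `O^p(G)` is a `p'`-group. -/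
theorem not_dvd_index_commutator_pResidual [Finite G] (p : ℕ) (hp : p.Prime) :
    ¬ p ∣ (commutator (Cfsg.pResidual p G)).index := by
  intro hdvd
  set H := Cfsg.pResidual p G with hH
  have hn0 : Nat.card H ≠ 0 := Nat.card_pos.ne'
  obtain ⟨a, m, hm, hn⟩ := Nat.exists_eq_pow_mul_and_not_dvd hn0 p hp.ne_one
  set K : Subgroup H :=
    ((powMonoidHom m : Abelianization H →* Abelianization H).ker).comap Abelianization.of with hK
  have hKmem : ∀ h : H, h ∈ K ↔ (Abelianization.of h) ^ m = 1 := by
    intro h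
    rw [hK, Subgroup.mem_comap, MonoidHom.mem_ker]
    rfl
  have hle : H ≤ K.map H.subtype := by
    show Subgroup.closure _ ≤ _
    rw [Subgroup.closure_le]
    intro g hg
    have hgH : g ∈ H := mem_pResidual_of_coprime hg
    refine ⟨⟨g, hgH⟩, ?_, rfl⟩
    show (⟨g, hgH⟩ : H) ∈ K
    rw [hKmem, ← map_pow]
    have h1 : orderOf (⟨g, hgH⟩ : H) ∣ Nat.card H := orderOf_dvd_natCard _
    have h2 : orderOf (⟨g, hgH⟩ : H) = orderOf g := Subgroup.orderOf_mk g hgH
    rw [h2, hn] at h1
    have hg' : Nat.Coprime (orderOf g) p := hg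
    have h3 : orderOf g ∣ m := (Nat.Coprime.pow_right a hg').dvd_of_dvd_mul_left h1
    have h4 : (⟨g, hgH⟩ : H) ^ m = 1 := by
      rw [← h2] at h3
      exact orderOf_dvd_iff_pow_eq_one.mp h3
    rw [h4, map_one]
  have hall : ∀ x : Abelianization H, x ^ m = 1 := by
    intro x
    obtain ⟨h, rfl⟩ := QuotientGroup.mk_surjective x
    obtain ⟨k, hk, hkh⟩ := hle h.2
    have : k = h := Subtype.ext hkh
    rw [this] at hk
    exact (hKmem h).mp hk
  have hcard : Nat.card (Abelianization H) = (commutator H).index :=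
    (Subgroup.index_eq_card _).symm
  rw [← hcard] at hdvd
  haveI : Fact p.Prime := ⟨hp⟩
  obtain ⟨x, hx⟩ := exists_prime_orderOf_dvd_card' p hdvd
  have := orderOf_dvd_of_pow_eq_one (hall x)
  rw [hx] at this
  exact hm this

end pres

end Cfsg.Agent.Lib.helper3.PRes
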