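import Mathlib
import Cfsg.Prelude.Def_Characters
import Cfsg.Agent.Lib.helper3.GalPow
import Cfsg.Agent.Lib.helper3.PRes1
import Cfsg.Agent.Lib.helper3.Clifford

set_option autoImplicit false
set_option linter.style.haveILetI false
set_option linter.unusedSectionVars false

/-!
# The power maps on irreducible characters and constituents of restrictions
-/

namespace Cfsg.Agent.Lib.helper3.GalPow

open Cfsg Module Cfsg.Agent.Lib.helper3.Irr Cfsg.Agent.Lib.helper3.CharBasic
open Cfsg.Agent.Lib.helper3.PRes Cfsg.Agent.Lib.helper3.IndFun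
open scoped ComplexConjugate

variable {G : Type*} [Group G] [Fintype G]

theorem classInner_pow_pow (f h : G → ℂ) (k : ℕ) (hk : k.Coprime (Nat.card G)) :
    classInner (fun g => f (g ^ k)) (fun g => h (g ^ k)) = classInner f h := by
  rw [classInner_apply, classInner_apply]
  congr 1
  exact Equiv.sum_comp (powCoprime hk.symm) (fun g => f g * conj (h g))

/-- The power map on irreducible characters. -/
noncomputable def powIrr (k : ℕ) (hk : k.Coprime (Nat.card G)) (φ : IrrCharacter G) :
    IrrCharacter G :=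
  ⟨fun g => (φ : G → ℂ) (g ^ k), isIrrCharacter_pow φ.2 k hk⟩

theorem powIrr_apply (k : ℕ) (hk : k.Coprime (Nat.card G)) (φ : IrrCharacter G) (g : G) :
    (powIrr k hk φ : G → ℂ) g = (φ : G → ℂ) (g ^ k) := rfl

theorem powIrr_iterate (k : ℕ) (hk : k.Coprime (Nat.card G)) (j : ℕ) (φ : IrrCharacter G) (g : G) :
    (((powIrr k hk)^[j] φ : IrrCharacter G) : G → ℂ) g = (φ : G → ℂ) (g ^ (k ^ j)) := by
  induction j generalizing φ with
  | zero => simp
  | succ j ih =>
    rw [Function.iterate_succ_apply, ih, powIrr_apply, ← pow_mul, pow_succ, mul_comm]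

theorem end_pow_apply {α : Type*} (f : Function.End α) (n : ℕ) (x : α) :
    (f ^ n) x = f^[n] x := by
  induction n generalizing x with
  | zero => rfl
  | succ n ih =>
    rw [pow_succ]
    show (f ^ n) (f x) = f^[n + 1] x
    rw [ih (f x)]
    rfl

/-- Constituents of the restriction of an irreducible character to a normal subgroup are
conjugate. -/
theorem exists_conj_of_constituents (N : Subgroup G) [hN : N.Normal] [Fintype N]
    (χ : G → ℂ) (hχ : IsIrrCharacter G χ) (θ φ : IrrCharacter N)
    (hθ : classInner (fun n : N => χ n) (θ : N → ℂ) ≠ 0)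
    (hφ : classInner (fun n : N => χ n) (φ : N → ℂ) ≠ 0) :
    ∃ g : G, (φ : N → ℂ) = conjFun N (θ : N → ℂ) g := by
  classical
  have h := clifford N χ hχ (θ : N → ℂ) θ.2 hθ
  rw [setOf_conj_eq, finsum_mem_coe_finset] at h
  rw [h, classInner_smul_left, classInner_sum_left] at hφ
  have h2 := right_ne_zero_of_mul hφ
  obtain ⟨ψ, hψmem, hψ⟩ := Finset.exists_ne_zero_of_sum_ne_zero h2
  obtain ⟨g, -, rfl⟩ := Finset.mem_image.mp hψmem
  refine ⟨g, ?_⟩
  by_contra hne
  apply hψ
  exact irr_classInner_eq_zero (isIrrCharacter_conjFun N θ.2 g) φ.2 (fun h => hne h.symm)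

end Cfsg.Agent.Lib.helper3.GalPow
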