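import Mathlib
import Cfsg.Prelude.Def_Characters
import Cfsg.Prelude.Def_Blocks
import Cfsg.Agent.Lib.helper3.BlockCover
import Cfsg.Agent.Lib.helper3.BlockMinMax
import Cfsg.Agent.Lib.helper3.GalPow2
import Cfsg.Agent.Lib.helper3.Clifford2

/-!
# Blocks of a normal subgroup lying under a block
-/

set_option autoImplicit false
set_option linter.style.haveILetI false
set_option linter.unusedSectionVars false

namespace Cfsg.Agent.Lib.helper3.Block

open Cfsg Module Cfsg.Agent.Lib.helper3.CharBasic Cfsg.Agent.Lib.helper3.Irr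
open Cfsg.Agent.Lib.helper3.Central Cfsg.Agent.Lib.helper3.LocalM Cfsg.Agent.Lib.helper3.IndFun
open Cfsg.Agent.Lib.helper3.Lin Cfsg.Agent.Lib.helper3.GalPow
open scoped ComplexConjugate

variable {G : Type*} [Group G] [Fintype G] {M : Ideal AlgInt}

/-- A set of irreducible characters closed under the block relation has local idempotent
coefficients. -/
theorem memLocalRing_blockCoeff_of_closed {p : ℕ} (hM : IsPModular p M)
    (S : Set (IrrCharacter G)) (hS : ∀ θ ∈ S, blockOf M (θ : G → ℂ) ⊆ S) (g : G) :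
    MemLocalRing M (blockCoeff S g) := by
  classical
  haveI := isPrime_of_isPModular hM
  have hMtop : M ≠ ⊤ := hM.2.1.ne_top
  choose Q hQ q hq hqM hQB hQn using fun χ₀ : IrrCharacter G => exists_separator hM χ₀
  obtain ⟨T, hT⟩ : ∃ T : Finset (IrrCharacter G), T = Finset.univ.filter (fun θ => θ ∈ S) :=
    ⟨_, rfl⟩
  have hTmem : ∀ θ, θ ∈ T ↔ θ ∈ S := by
    intro θ
    rw [hT]
    simp
  obtain ⟨P, hP⟩ : ∃ P : IrrCharacter G → ℂ, P = ∏ θ ∈ T, Q θ := ⟨_, rfl⟩
  obtain ⟨r, hr⟩ : ∃ r : ℂ, r = ∏ θ ∈ T, q θ := ⟨_, rfl⟩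
  have hPint : IntCoef P := by
    rw [hP]
    exact IntCoef.prod T Q (fun θ _ => hQ θ)
  have hrint : IsIntegral ℤ r := by
    rw [hr]
    exact IsIntegral.prod _ (fun θ _ => hq θ)
  have hrM : ¬ MemLocalIdeal M r := by
    rw [hr]
    exact not_memLocalIdeal_prod T q (fun θ _ => hq θ) (fun θ _ => hqM θ)
  have hr0 : r ≠ 0 := by
    intro h
    apply hrM
    rw [h]
    exact memLocalIdeal_zero hMtop
  have hPS : ∀ χ ∈ S, P χ = 0 := by
    intro χ hχ
    rw [hP, Finset.prod_apply]
    apply Finset.prod_eq_zero ((hTmem χ).mpr hχ)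
    apply hQB χ χ
    exact sameBlock_refl hMtop _
  have hPn : ∀ χ ∉ S, P χ = r := by
    intro χ hχ
    rw [hP, hr, Finset.prod_apply]
    apply Finset.prod_congr rfl
    intro θ hθ
    apply hQn θ χ
    intro h
    exact hχ (hS θ ((hTmem θ).mp hθ) h)
  have hind : (fun χ : IrrCharacter G => if χ ∈ S then (1 : ℂ) else 0)
      = (fun _ : IrrCharacter G => (1 : ℂ)) - r⁻¹ • P := by
    funext χ
    simp only [Pi.sub_apply, Pi.smul_apply, smul_eq_mul]
    split_ifs with h
    · rw [hPS χ h]; ring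
    · rw [hPn χ h]; field_simp; ring
  rw [blockCoeff_eq_coef, hind, coef_sub, coef_smul]
  have h1 := intCoef_one (G := G) g
  have h2 := hPint g
  refine ⟨⟨r * coef (fun _ : IrrCharacter G => (1 : ℂ)) g - coef P g, (hrint.mul h1).sub h2⟩,
    ⟨r, hrint⟩, ?_, ?_⟩
  · intro h
    exact hrM (memLocalIdeal_of_mem (a := ⟨r, hrint⟩) h hMtop)
  · show (r * coef (fun _ : IrrCharacter G => (1 : ℂ)) g - coef P g) / r = _
    field_simp

open Classical in
/-- Pairing the idempotent coefficients of a set of characters with a function. -/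
theorem sum_blockCoeff_mul (S : Set (IrrCharacter G)) (A : G → ℂ) :
    ∑ g : G, blockCoeff S g * A g
      = ∑ θ : IrrCharacter G, (if θ ∈ S then (1 : ℂ) else 0) * (θ : G → ℂ) 1
          * classInner A (θ : G → ℂ) := by
  have h1 : ∀ g : G, blockCoeff S g * A g
      = ∑ θ : IrrCharacter G, (if θ ∈ S then (1 : ℂ) else 0) * (θ : G → ℂ) 1
          * ((Nat.card G : ℂ)⁻¹ * (A g * conj ((θ : G → ℂ) g))) := by
    intro g
    rw [blockCoeff_eq_coef]
    unfold coef
    rw [Finset.mul_sum, Finset.sum_mul]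
    apply Finset.sum_congr rfl
    intro θ _
    ring
  rw [Finset.sum_congr rfl (fun g _ => h1 g), Finset.sum_comm]
  apply Finset.sum_congr rfl
  intro θ _
  rw [← Finset.mul_sum, classInner_apply, ← Finset.mul_sum]

section normal

variable (N : Subgroup G) [hN : N.Normal] [Fintype N]

/-- Stability of a set of characters of `N` under conjugation. -/
def ConjStable (S : Set (IrrCharacter N)) : Prop :=
  ∀ θ ∈ S, ∀ g : G, ∀ θ' : IrrCharacter N, (θ' : N → ℂ) = conjFun N (θ : N → ℂ) g → θ' ∈ S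

/-- The orbit of a set of characters. -/
def conjOrbit (b : Set (IrrCharacter N)) : Set (IrrCharacter N) :=
  {θ' | ∃ g : G, ∃ θ ∈ b, (θ' : N → ℂ) = conjFun N (θ : N → ℂ) g}

theorem conjStable_conjOrbit (b : Set (IrrCharacter N)) : ConjStable N (conjOrbit N b) := by
  rintro θ' ⟨g, θ, hθ, hg⟩ x θ'' hx
  refine ⟨g * x, θ, hθ, ?_⟩
  rw [hx, hg, conjFun_mul]

theorem subset_conjOrbit (b : Set (IrrCharacter N)) : b ⊆ conjOrbit N b := by
  intro θ hθ
  exact ⟨1, θ, hθ, (conjFun_one N _).symm⟩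

/-- Conjugation as a permutation of the irreducible characters. -/
noncomputable def conjIrr (g : G) : IrrCharacter N ≃ IrrCharacter N where
  toFun θ := ⟨conjFun N (θ : N → ℂ) g, isIrrCharacter_conjFun N θ.2 g⟩
  invFun θ := ⟨conjFun N (θ : N → ℂ) g⁻¹, isIrrCharacter_conjFun N θ.2 g⁻¹⟩
  left_inv θ := by
    apply Subtype.ext
    show conjFun N (conjFun N (θ : N → ℂ) g) g⁻¹ = _
    rw [conjFun_mul, mul_inv_cancel, conjFun_one]
  right_inv θ := by
    apply Subtype.ext
    show conjFun N (conjFun N (θ : N → ℂ) g⁻¹) g = _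
    rw [conjFun_mul, inv_mul_cancel, conjFun_one]

theorem conjFun_apply_one (θ : N → ℂ) (g : G) : conjFun N θ g 1 = θ 1 := by
  unfold conjFun
  congr 1
  apply Subtype.ext
  simp

theorem blockCoeff_conj_of_stable (S : Set (IrrCharacter N)) (hS : ConjStable N S) (g : G)
    (n : N) : blockCoeff S (⟨g * n * g⁻¹, hN.conj_mem n n.2 g⟩ : N) = blockCoeff S n := by
  classical
  rw [blockCoeff_eq_coef, blockCoeff_eq_coef]
  unfold coef
  congr 1
  apply Fintype.sum_equiv (conjIrr N g)
  intro θ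
  have h1 : ((conjIrr N g θ : IrrCharacter N) : N → ℂ) = conjFun N (θ : N → ℂ) g := rfl
  rw [h1, conjFun_apply_one]
  have h2 : conjFun N (θ : N → ℂ) g n = (θ : N → ℂ) ⟨g * n * g⁻¹, hN.conj_mem n n.2 g⟩ := rfl
  rw [h2]
  have h3 : θ ∈ S ↔ conjIrr N g θ ∈ S := by
    constructor
    · intro h
      exact hS θ h g _ h1
    · intro h
      have := hS _ h g⁻¹ θ (by
        have := congrArg Subtype.val ((conjIrr N g).left_inv θ)
        exact this.symm)
      exact this
  beta_reduce
  by_cases h : θ ∈ S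
  · rw [if_pos h, if_pos (h3.mp h)]
  · rw [if_neg h, if_neg (fun h' => h (h3.mpr h'))]

open Classical in
/-- Clifford's dichotomy for a stable set of characters. -/
theorem sum_over_stable (S : Set (IrrCharacter N)) (hS : ConjStable N S) (χ : IrrCharacter G) :
    ∑ θ : IrrCharacter N, (if θ ∈ S then (1 : ℂ) else 0) * (θ : N → ℂ) 1
        * classInner (fun n : N => (χ : G → ℂ) n) (θ : N → ℂ)
      = if ∃ θ ∈ S, classInner (fun n : N => (χ : G → ℂ) n) (θ : N → ℂ) ≠ 0
          then (χ : G → ℂ) 1 else 0 := by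
  have hχc := isCharacter_of_isIrrCharacter χ.2
  have hres := isCharacter_restrict hχc N
  split_ifs with h
  · obtain ⟨θ₀, hθ₀, hθ₀'⟩ := h
    have hdec := congrFun (isCharacter_eq_sum_classInner hres) 1
    rw [Finset.sum_apply] at hdec
    simp only [Pi.smul_apply, smul_eq_mul] at hdec
    have e1 : ((1 : N) : G) = 1 := rfl
    rw [e1] at hdec
    rw [hdec]
    apply Finset.sum_congr rfl
    intro θ _
    by_cases hθ : θ ∈ S
    · rw [if_pos hθ]; ring
    · rw [if_neg hθ]
      have : classInner (fun n : N => (χ : G → ℂ) n) (θ : N → ℂ) = 0 := by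
        by_contra hne
        obtain ⟨g, hg⟩ := exists_conj_of_constituents N (χ : G → ℂ) χ.2 θ₀ θ hθ₀' hne
        exact hθ (hS θ₀ hθ₀ g θ hg)
      rw [this]; ring
  · push Not at h
    apply Finset.sum_eq_zero
    intro θ _
    by_cases hθ : θ ∈ S
    · rw [h θ hθ, mul_zero]
    · rw [if_neg hθ]; ring

theorem index_centralizer_mulEquiv {H : Type*} [Group H] (φ : H ≃* H) (n : H) :
    (Subgroup.centralizer ({φ n} : Set H)).index = (Subgroup.centralizer ({n} : Set H)).index := by
  have e : Subgroup.centralizer ({φ n} : Set H)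
      = (Subgroup.centralizer ({n} : Set H)).map φ.toMonoidHom := by
    ext x
    rw [Subgroup.mem_map_equiv, Subgroup.mem_centralizer_singleton_iff,
      Subgroup.mem_centralizer_singleton_iff]
    constructor
    · intro h
      apply φ.injective
      rw [map_mul, map_mul, MulEquiv.apply_symm_apply]
      exact h
    · intro h
      have := congrArg φ h
      rw [map_mul, map_mul, MulEquiv.apply_symm_apply] at this
      exact this
  rw [e]
  exact Subgroup.index_map_equiv _ φ

theorem index_centralizer_conjNormal (g : G) (n : N) :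
    (Subgroup.centralizer ({(⟨g * n * g⁻¹, hN.conj_mem n n.2 g⟩ : N)} : Set N)).index
      = (Subgroup.centralizer ({n} : Set N)).index := by
  have e2 : (MulAut.conjNormal g : N ≃* N) n = ⟨g * n * g⁻¹, hN.conj_mem n n.2 g⟩ := by
    apply Subtype.ext
    simp
  rw [← e2]
  exact index_centralizer_mulEquiv _ n

theorem centralChar_conjFun (θ : N → ℂ) (g : G) (n : N) :
    centralChar (conjFun N θ g) n = centralChar θ ⟨g * n * g⁻¹, hN.conj_mem n n.2 g⟩ := by
  unfold centralChar
  rw [index_centralizer_conjNormal, conjFun_apply_one]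
  rfl

theorem sameBlock_conjFun {θ θ' : N → ℂ} (h : SameBlock M θ θ') (g : G) :
    SameBlock M (conjFun N θ g) (conjFun N θ' g) := by
  intro n
  rw [centralChar_conjFun, centralChar_conjFun]
  exact h _

/-- The orbit of a block is closed under the block relation. -/
theorem conjOrbit_closed [M.IsPrime] (b : Set (IrrCharacter N)) (hb : IsPBlock M b) :
    ∀ θ ∈ conjOrbit N b, blockOf M (θ : N → ℂ) ⊆ conjOrbit N b := by
  rintro θ' ⟨g, θ, hθ, hg⟩ θ'' hθ''
  obtain ⟨θ₁, rfl⟩ := hb
  have h1 : SameBlock M (θ' : N → ℂ) (θ'' : N → ℂ) := hθ''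
  have h2 := sameBlock_conjFun N h1 g⁻¹
  rw [hg, conjFun_mul, mul_inv_cancel, conjFun_one] at h2
  have h3 : SameBlock M (θ₁ : N → ℂ) (θ : N → ℂ) := hθ
  refine ⟨g, conjIrr N g⁻¹ θ'', sameBlock_trans h3 h2, ?_⟩
  have h4 : conjFun N (conjFun N (θ'' : N → ℂ) g⁻¹) g = (θ'' : N → ℂ) := by
    rw [conjFun_mul, inv_mul_cancel, conjFun_one]
  exact h4.symm

/-- Characters whose central characters agree modulo `M` on `N` pair congruently with a stable
union of blocks of `N`. -/
theorem memLocalIdeal_sum_sub_of_congr {p : ℕ} (hM : IsPModular p M) (S : Set (IrrCharacter N))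
    (hSst : ConjStable N S) (hScl : ∀ θ ∈ S, blockOf M (θ : N → ℂ) ⊆ S) (χ χ' : IrrCharacter G)
    (h : ∀ n : N, MemLocalIdeal M
      (centralChar (χ : G → ℂ) (n : G) - centralChar (χ' : G → ℂ) (n : G))) :
    MemLocalIdeal M ((∑ n : N, blockCoeff S n * (χ : G → ℂ) n) / (χ : G → ℂ) 1
      - (∑ n : N, blockCoeff S n * (χ' : G → ℂ) n) / (χ' : G → ℂ) 1) := by
  classical
  haveI := isPrime_of_isPModular hM
  have hMtop : M ≠ ⊤ := hM.2.1.ne_top
  have hχcf := isClassFunction_of_isCharacter (isCharacter_of_isIrrCharacter χ.2)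
  have hχ'cf := isClassFunction_of_isCharacter (isCharacter_of_isIrrCharacter χ'.2)
  obtain ⟨A, hA⟩ : ∃ A : G → ℂ, A = extendByZero N (fun n : N => blockCoeff S n) := ⟨_, rfl⟩
  obtain ⟨F, hF⟩ : ∃ F : G → ℂ, F = fun g => A g * ((χ : G → ℂ) g / (χ : G → ℂ) 1
      - (χ' : G → ℂ) g / (χ' : G → ℂ) 1) := ⟨_, rfl⟩
  have hAconj : ∀ g x : G, A (x * g * x⁻¹) = A g := by
    intro g x
    rw [hA]
    by_cases hg : g ∈ N
    · rw [extendByZero_mem N _ hg, extendByZero_mem N _ (hN.conj_mem g hg x)]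
      exact blockCoeff_conj_of_stable N S hSst x ⟨g, hg⟩
    · rw [extendByZero_not_mem N _ hg, extendByZero_not_mem N _]
      intro hmem
      apply hg
      have := hN.conj_mem _ hmem x⁻¹
      simpa [mul_assoc] using this
  have hsum : ∑ g : G, F g = (∑ n : N, blockCoeff S n * (χ : G → ℂ) n) / (χ : G → ℂ) 1
      - (∑ n : N, blockCoeff S n * (χ' : G → ℂ) n) / (χ' : G → ℂ) 1 := by
    rw [hF, hA, sum_extendByZero_mul, Finset.sum_div, Finset.sum_div, ← Finset.sum_sub_distrib]
    apply Finset.sum_congr rfl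
    intro n _
    ring
  rw [← hsum]
  apply memLocalIdeal_sum_class_fun
  · intro g x
    rw [hF]
    simp only
    rw [hAconj, hχcf g x, hχ'cf g x]
  · intro g
    by_cases hg : g ∈ N
    · have e : ((Subgroup.centralizer ({g} : Set G)).index : ℂ) * F g
          = A g * (centralChar (χ : G → ℂ) g - centralChar (χ' : G → ℂ) g) := by
        rw [hF]
        unfold centralChar
        ring
      rw [e]
      apply memLocalIdeal_mul_localRing
      · rw [hA, extendByZero_mem N _ hg]
        exact memLocalRing_blockCoeff_of_closed hM S hScl _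
      · exact h ⟨g, hg⟩
    · have : F g = 0 := by
        rw [hF, hA]
        simp only
        rw [extendByZero_not_mem N _ hg, zero_mul]
      rw [this, mul_zero]
      exact memLocalIdeal_zero hMtop

/-- If `χ` lies above the block `b` of `N` and the central characters of `χ'` and `χ` agree
modulo `M` on `N`, then `χ'` lies above `b`. -/
theorem over_of_congr {p : ℕ} (hM : IsPModular p M) (b : Set (IrrCharacter N))
    (hb : IsPBlock M b) (χ χ' : IrrCharacter G)
    (h : ∀ n : N, MemLocalIdeal M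
      (centralChar (χ : G → ℂ) (n : G) - centralChar (χ' : G → ℂ) (n : G)))
    (hχ : ∃ θ ∈ b, classInner (fun n : N => (χ : G → ℂ) n) (θ : N → ℂ) ≠ 0) :
    ∃ θ ∈ b, classInner (fun n : N => (χ' : G → ℂ) n) (θ : N → ℂ) ≠ 0 := by
  classical
  haveI := isPrime_of_isPModular hM
  have hst := conjStable_conjOrbit N b
  have hcl := conjOrbit_closed (M := M) N b hb
  have hkey := memLocalIdeal_sum_sub_of_congr N hM (conjOrbit N b) hst hcl χ χ' h
  rw [sum_blockCoeff_mul, sum_blockCoeff_mul, sum_over_stable N _ hst, sum_over_stable N _ hst]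
    at hkey
  obtain ⟨θ, hθ, hθ'⟩ := hχ
  have h1 : ∃ θ ∈ conjOrbit N b, classInner (fun n : N => (χ : G → ℂ) n) (θ : N → ℂ) ≠ 0 :=
    ⟨θ, subset_conjOrbit N b hθ, hθ'⟩
  rw [if_pos h1, div_self (apply_one_ne_zero χ.2)] at hkey
  by_cases h2 : ∃ θ ∈ conjOrbit N b, classInner (fun n : N => (χ' : G → ℂ) n) (θ : N → ℂ) ≠ 0
  · obtain ⟨θ'', ⟨g, θ₀, hθ₀, hg⟩, hne⟩ := h2
    refine ⟨θ₀, hθ₀, ?_⟩
    rw [hg, classInner_restrict_conjFun N _
      (isClassFunction_of_isCharacter (isCharacter_of_isIrrCharacter χ'.2))] at hne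
    exact hne
  · rw [if_neg h2, zero_div, sub_zero] at hkey
    exact absurd hkey not_memLocalIdeal_one

end normal

end Cfsg.Agent.Lib.helper3.Block
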