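import Mathlib
import Cfsg.Prelude.Def_Characters
import Cfsg.Prelude.Def_Blocks
import Cfsg.Agent.Lib.helper3.BlockIdem2
import Cfsg.Agent.Lib.helper3.GroupAlgNil

/-!
# Central characters vanish modulo `M` on classes missing the centralizer of a normal `p`-subgroup
-/

set_option autoImplicit false
set_option linter.style.haveILetI false
set_option linter.unusedSectionVars false

namespace Cfsg.Agent.Lib.helper3.Block

open Cfsg Module Cfsg.Agent.Lib.helper3.CharBasic Cfsg.Agent.Lib.helper3.Irr
open Cfsg.Agent.Lib.helper3.Central Cfsg.Agent.Lib.helper3.LocalM Cfsg.Agent.Lib.helper3.IndFun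
open Cfsg.Agent.Lib.helper3.GroupAlgNil
open scoped ComplexConjugate

variable {G : Type*} [Group G] [Fintype G]

open Classical in
/-- The class sum of `g` in the integral group ring. -/
noncomputable def classSumZ (g : G) : MonoidAlgebra ℤ G :=
  ∑ x : {x : G // IsConj g x}, MonoidAlgebra.single (x : G) (1 : ℤ)

open Classical in
theorem classSumZ_coeff (g z : G) :
    (classSumZ g).coeff z = if IsConj g z then 1 else 0 := by
  unfold classSumZ
  rw [MonoidAlgebra.coeff_sum, Finsupp.finsetSum_apply]
  by_cases h : IsConj g z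
  · rw [if_pos h, Finset.sum_eq_single (⟨z, h⟩ : {x : G // IsConj g x})]
    · simp
    · intro x _ hx
      rw [MonoidAlgebra.coeff_single, Finsupp.single_apply, if_neg]
      intro hxz
      exact hx (Subtype.ext hxz)
    · intro hn
      exact absurd (Finset.mem_univ _) hn
  · rw [if_neg h]
    apply Finset.sum_eq_zero
    intro x _
    rw [MonoidAlgebra.coeff_single, Finsupp.single_apply, if_neg]
    intro hxz
    exact h (hxz ▸ x.2)

open Classical in
theorem map_classSumZ {F : Type*} [Field F] (g : G) :
    MonoidAlgebra.mapRingHom G (Int.castRingHom F) (classSumZ g)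
      = ∑ x : {x : G // IsConj g x}, MonoidAlgebra.single (x : G) (1 : F) := by
  unfold classSumZ
  rw [map_sum]
  apply Finset.sum_congr rfl
  intro x _
  rw [MonoidAlgebra.mapRingHom_single, map_one]

/-- Powers of the central character function correspond to powers of the class sum. -/
theorem coef_pow_centralChar (g : G) (n : ℕ) (z : G) :
    coef ((fun χ : IrrCharacter G => centralChar (χ : G → ℂ) g) ^ n) z
      = (((classSumZ g) ^ n).coeff z : ℂ) := by
  classical
  induction n generalizing z with
  | zero =>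
    rw [pow_zero, pow_zero]
    have : (1 : IrrCharacter G → ℂ) = fun _ => (1 : ℂ) := rfl
    rw [this, coef_one, MonoidAlgebra.one_def, MonoidAlgebra.coeff_single, Finsupp.single_apply]
    by_cases h : z = 1
    · rw [if_pos h, if_pos h.symm]; simp
    · rw [if_neg h, if_neg (fun h' => h h'.symm)]; simp
  | succ n ih =>
    rw [pow_succ, pow_succ, coef_mul, MonoidAlgebra.coeff_mul_apply_left,
      Finsupp.sum_fintype _ _ (fun _ => zero_mul _)]
    push_cast
    apply Finset.sum_congr rfl
    intro x _
    rw [ih x, coef_centralChar, classSumZ_coeff]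
    split_ifs <;> simp

variable {M : Ideal AlgInt}

/-- If no conjugate of `g` centralizes the normal `p`-subgroup `P`, every central character
vanishes modulo `M` at `g`. -/
theorem memLocalIdeal_centralChar_of_not_centralizer {p : ℕ} (hM : IsPModular p M)
    (P : Subgroup G) [hPn : P.Normal] (hP : IsPGroup p P) (g : G)
    (hg : ∀ x : G, IsConj g x → x ∉ Subgroup.centralizer (P : Set G)) (χ : IrrCharacter G) :
    MemLocalIdeal M (centralChar (χ : G → ℂ) g) := by
  classical
  haveI : Fact p.Prime := ⟨hM.1⟩
  haveI hMp := isPrime_of_isPModular hM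
  have hMtop : M ≠ ⊤ := hM.2.1.ne_top
  obtain ⟨n, hn⟩ := isNilpotent_classSum (F := ZMod p) p P hP g hg
  rw [← map_classSumZ, ← map_pow] at hn
  have hdvd : ∀ z : G, (p : ℤ) ∣ ((classSumZ g) ^ n).coeff z := by
    intro z
    have h1 := congrArg (fun a : MonoidAlgebra (ZMod p) G => a.coeff z) hn
    simp only [MonoidAlgebra.coeff_mapRingHom, MonoidAlgebra.coeff_zero, Finsupp.coe_zero,
      Pi.zero_apply] at h1
    exact (ZMod.intCast_zmod_eq_zero_iff_dvd _ p).mp h1
  obtain ⟨d, hd⟩ : ∃ d : IrrCharacter G → ℂ,
      d = (fun χ : IrrCharacter G => centralChar (χ : G → ℂ) g) ^ n := ⟨_, rfl⟩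
  have hdχ : d χ = (centralChar (χ : G → ℂ) g) ^ n := by rw [hd]; rfl
  have hmem : MemLocalIdeal M (d χ) := by
    rw [← sum_coef_mul_div d χ]
    apply memLocalIdeal_sum_class_fun
    · intro z h
      rw [coef_conj, isClassFunction_of_isCharacter (isCharacter_of_isIrrCharacter χ.2) z h]
    · intro z
      obtain ⟨t, ht⟩ := hdvd z
      have h1 : coef d z = (((p : AlgInt) * (t : AlgInt) : AlgInt) : ℂ) := by
        rw [hd, coef_pow_centralChar, ht]
        push_cast
        rfl
      have h2 : MemLocalIdeal M (coef d z) := by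
        rw [h1]
        exact memLocalIdeal_of_mem (M.mul_mem_right _ hM.2.2) hMtop
      have h3 := memLocalIdeal_mul_integral h2 (isIntegral_centralChar χ.2 z)
      convert h3 using 1
      unfold centralChar
      ring
  rw [hdχ] at hmem
  obtain ⟨w, hw⟩ : ∃ w : AlgInt, (w : ℂ) = centralChar (χ : G → ℂ) g :=
    ⟨⟨_, isIntegral_centralChar χ.2 g⟩, rfl⟩
  have hwn : ((w ^ n : AlgInt) : ℂ) = (centralChar (χ : G → ℂ) g) ^ n := by
    push_cast
    rw [hw]
  rw [← hwn] at hmem
  have h4 : w ^ n ∈ M := mem_of_memLocalIdeal hmem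
  have h5 : w ∈ M := hMp.mem_of_pow_mem n h4
  rw [← hw]
  exact memLocalIdeal_of_mem h5 hMtop

end Cfsg.Agent.Lib.helper3.Block
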