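import Mathlib
import Cfsg.Prelude.Def_Characters
import Cfsg.Prelude.Def_Blocks
import Cfsg.Agent.Lib.helper3.BlockNil
import Cfsg.Agent.Lib.helper3.BlockInd

/-!
# The induced central character agrees modulo `M` with its Brauer-map version
-/

set_option autoImplicit false
set_option linter.style.haveILetI false
set_option linter.unusedSectionVars false

namespace Cfsg.Agent.Lib.helper3.Block

open Cfsg Module Cfsg.Agent.Lib.helper3.CharBasic Cfsg.Agent.Lib.helper3.Irr
open Cfsg.Agent.Lib.helper3.Central Cfsg.Agent.Lib.helper3.LocalM Cfsg.Agent.Lib.helper3.IndFun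
open scoped ComplexConjugate

variable {G : Type*} [Group G] [Fintype G]

open Classical in
theorem brauerCentralChar_eq_sum (P H : Subgroup G) (ξ : H → ℂ) (g : G) :
    brauerCentralChar P H ξ g = ∑ h : H,
      if IsConj g (h : G) ∧ (h : G) ∈ Subgroup.centralizer (P : Set G) then ξ h / ξ 1 else 0 := by
  unfold brauerCentralChar
  rw [finsum_mem_def, finsum_eq_sum_of_fintype]
  apply Finset.sum_congr rfl
  intro h _
  rw [Set.indicator_apply]
  rfl

variable {M : Ideal AlgInt}

/-- For `P ≤ H ≤ N_G(P)` with `P` a `p`-group, the induced central character and the Brauer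
central character agree modulo the local ideal. -/
theorem memLocalIdeal_induced_sub_brauer {p : ℕ} (hM : IsPModular p M) (P H : Subgroup G)
    (hP : IsPGroup p P) (hPH : P ≤ H) (hHN : H ≤ Subgroup.normalizer (P : Set G))
    (ξ : IrrCharacter H) (g : G) :
    MemLocalIdeal M (inducedCentralChar H (ξ : H → ℂ) g - brauerCentralChar P H (ξ : H → ℂ) g) := by
  classical
  haveI hMp := isPrime_of_isPModular hM
  have hMtop : M ≠ ⊤ := hM.2.1.ne_top
  have hnormal : ∀ a ∈ H, ∀ u ∈ P, a * u * a⁻¹ ∈ P := Subgroup.le_normalizer_iff.mp hHN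
  -- conjugation by `H` preserves the centralizer of `P`
  have hcent : ∀ a : H, ∀ h : H, ((a * h * a⁻¹ : H) : G) ∈ Subgroup.centralizer (P : Set G)
      ↔ (h : G) ∈ Subgroup.centralizer (P : Set G) := by
    have key : ∀ a : H, ∀ h : H, (h : G) ∈ Subgroup.centralizer (P : Set G) →
        ((a * h * a⁻¹ : H) : G) ∈ Subgroup.centralizer (P : Set G) := by
      intro a h hh
      rw [Subgroup.mem_centralizer_iff] at hh ⊢
      intro u hu
      have hu' : (a : G)⁻¹ * u * ((a : G)⁻¹)⁻¹ ∈ P := hnormal _ (H.inv_mem a.2) u hu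
      have h1 := hh _ hu'
      push_cast
      calc u * ((a : G) * (h : G) * (a : G)⁻¹)
          = (a : G) * (((a : G)⁻¹ * u * ((a : G)⁻¹)⁻¹) * (h : G)) * (a : G)⁻¹ := by group
        _ = (a : G) * ((h : G) * ((a : G)⁻¹ * u * ((a : G)⁻¹)⁻¹)) * (a : G)⁻¹ := by rw [h1]
        _ = (a : G) * (h : G) * (a : G)⁻¹ * u := by group
    intro a h
    constructor
    · intro hh
      have := key a⁻¹ (a * h * a⁻¹) hh
      have e : a⁻¹ * (a * h * a⁻¹) * a⁻¹⁻¹ = h := by group
      rwa [e] at this
    · exact key a h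
  rw [inducedCentralChar_eq_sum, brauerCentralChar_eq_sum, ← Finset.sum_sub_distrib]
  have hF : ∀ h : H, ((if IsConj g (h : G) then (ξ : H → ℂ) h / (ξ : H → ℂ) 1 else 0)
      - (if IsConj g (h : G) ∧ (h : G) ∈ Subgroup.centralizer (P : Set G)
          then (ξ : H → ℂ) h / (ξ : H → ℂ) 1 else 0))
      = if IsConj g (h : G) ∧ (h : G) ∉ Subgroup.centralizer (P : Set G)
          then (ξ : H → ℂ) h / (ξ : H → ℂ) 1 else 0 := by
    intro h
    by_cases h1 : IsConj g (h : G)
    · by_cases h2 : (h : G) ∈ Subgroup.centralizer (P : Set G)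
      · rw [if_pos h1, if_pos ⟨h1, h2⟩, if_neg (fun h' => h'.2 h2), sub_self]
      · rw [if_pos h1, if_neg (fun h' => h2 h'.2), if_pos ⟨h1, h2⟩, sub_zero]
    · rw [if_neg h1, if_neg (fun h' => h1 h'.1), if_neg (fun h' => h1 h'.1), sub_zero]
  rw [Finset.sum_congr rfl (fun h _ => hF h)]
  apply memLocalIdeal_sum_class_fun
  · intro h a
    have e1 : IsConj g ((a * h * a⁻¹ : H) : G) ↔ IsConj g (h : G) := by
      have : IsConj (h : G) ((a * h * a⁻¹ : H) : G) := isConj_iff.mpr ⟨(a : G), by simp⟩
      exact ⟨fun h' => h'.trans this.symm, fun h' => h'.trans this⟩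
    rw [isClassFunction_of_isCharacter (isCharacter_of_isIrrCharacter ξ.2) h a]
    by_cases hc : IsConj g (h : G) ∧ (h : G) ∉ Subgroup.centralizer (P : Set G)
    · rw [if_pos hc, if_pos ⟨e1.mpr hc.1, fun h' => hc.2 ((hcent a h).mp h')⟩]
    · rw [if_neg hc, if_neg]
      intro h'
      exact hc ⟨e1.mp h'.1, fun h'' => h'.2 ((hcent a h).mpr h'')⟩
  · intro h
    by_cases hc : IsConj g (h : G) ∧ (h : G) ∉ Subgroup.centralizer (P : Set G)
    · rw [if_pos hc]
      haveI hPHn : (P.subgroupOf H).Normal := Subgroup.normal_subgroupOf_of_le_normalizer hHN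
      have hPHp : IsPGroup p (P.subgroupOf H) := hP.comap_subtype
      have hno : ∀ x : H, IsConj h x → x ∉ Subgroup.centralizer ((P.subgroupOf H : Subgroup H) : Set H) := by
        intro x hx hxc
        obtain ⟨a, ha⟩ := isConj_iff.mp hx
        -- `x` centralizes `P`
        have hxG : (x : G) ∈ Subgroup.centralizer (P : Set G) := by
          rw [Subgroup.mem_centralizer_iff] at hxc ⊢
          intro u hu
          have hmem : (⟨u, hPH hu⟩ : H) ∈ ((P.subgroupOf H : Subgroup H) : Set H) := by
            show (⟨u, hPH hu⟩ : H) ∈ P.subgroupOf H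
            rw [Subgroup.mem_subgroupOf]
            exact hu
          have := hxc _ hmem
          exact congrArg Subtype.val this
        rw [← ha] at hxG
        exact hc.2 ((hcent a h).mp hxG)
      have h3 := memLocalIdeal_centralChar_of_not_centralizer hM (P.subgroupOf H) hPHp h hno ξ
      unfold centralChar at h3
      convert h3 using 1
      ring
    · rw [if_neg hc, mul_zero]
      exact memLocalIdeal_zero hMtop

end Cfsg.Agent.Lib.helper3.Block
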