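import Mathlib
import Cfsg.Prelude.Def_Characters
import Cfsg.Prelude.Def_Blocks
import Cfsg.Agent.Lib.helper3.BlockBrauer
import Cfsg.Agent.Lib.helper3.BlockMinMax
import Cfsg.Agent.Lib.helper3.BlockNil
import Cfsg.Agent.Lib.helper3.BlockBasic

/-!
# The induced block is defined for `P C_G(P) ≤ H ≤ N_G(P)`
-/

set_option autoImplicit false
set_option linter.style.haveILetI false
set_option linter.unusedSectionVars false

namespace Cfsg.Agent.Lib.helper3.Block

open Cfsg Module Cfsg.Agent.Lib.helper3.CharBasic Cfsg.Agent.Lib.helper3.Irr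
open Cfsg.Agent.Lib.helper3.Central Cfsg.Agent.Lib.helper3.LocalM Cfsg.Agent.Lib.helper3.IndFun
open scoped ComplexConjugate

variable {G : Type*} [Group G] [Fintype G]

/-- A class function acts on an irreducible representation as a scalar. -/
theorem sum_classFun_mul_apply (χ : IrrCharacter G) (u : G → ℂ)
    (hu : ∀ g x : G, u (x * g * x⁻¹) = u g) (y : G) :
    ∑ x : G, u x * (χ : G → ℂ) (x * y)
      = (∑ x : G, u x * (χ : G → ℂ) x / (χ : G → ℂ) 1) * (χ : G → ℂ) y := by
  obtain ⟨χ, d, ρ, hirr, rfl⟩ := χ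
  haveI := hirr
  have hV := finrank_ne_zero_of_irreducible ρ
  obtain ⟨T, hT⟩ : ∃ T : (Fin d → ℂ) →ₗ[ℂ] (Fin d → ℂ), T = ∑ x : G, u x • ρ x := ⟨_, rfl⟩
  have hcomm : ∀ g v, T (ρ g v) = ρ g (T v) := by
    intro g v
    have h1 : T * ρ g = ρ g * T := by
      rw [hT, Finset.sum_mul, Finset.mul_sum]
      apply Fintype.sum_equiv (MulAut.conj g⁻¹).toEquiv
      intro x
      simp only [MulEquiv.toEquiv_eq_coe, EquivLike.coe_coe, MulAut.conj_apply]
      rw [hu, smul_mul_assoc, mul_smul_comm, ← map_mul, ← map_mul]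
      congr 2
      group
    have := congrArg (fun f : (Fin d → ℂ) →ₗ[ℂ] (Fin d → ℂ) => f v) h1
    simpa using this
  obtain ⟨c, hc⟩ := exists_eq_smul_id ρ T hcomm
  have htr : ∀ y : G, ∑ x : G, u x * ρ.character (x * y) = c * ρ.character y := by
    intro y
    have h1 : LinearMap.trace ℂ _ (T * ρ y) = ∑ x : G, u x * ρ.character (x * y) := by
      rw [hT, Finset.sum_mul, map_sum]
      apply Finset.sum_congr rfl
      intro x _
      rw [smul_mul_assoc, map_smul, smul_eq_mul, ← map_mul]
      rfl
    rw [← h1, hc, smul_mul_assoc, map_smul, smul_eq_mul, ← Module.End.one_eq_id, one_mul]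
    rfl
  have h1 := htr 1
  simp only [mul_one] at h1
  have hχ1 : ρ.character 1 = (finrank ℂ (Fin d → ℂ) : ℂ) := by
    simp [Representation.character]
  show ∑ x : G, u x * ρ.character (x * y) = (∑ x : G, u x * ρ.character x / ρ.character 1) * ρ.character y
  rw [htr y, ← Finset.sum_div, h1, hχ1]
  field_simp

/-- The functional on central elements (encoded by their Fourier transforms) induced from a
function `ξ` on the subgroup `H`. -/
noncomputable def indFunctional (H : Subgroup G) [Fintype H] (ξ : H → ℂ)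
    (c : IrrCharacter G → ℂ) : ℂ :=
  ∑ h : H, coef c (h : G) * (ξ h / ξ 1)

theorem indFunctional_sub (H : Subgroup G) [Fintype H] (ξ : H → ℂ) (c d : IrrCharacter G → ℂ) :
    indFunctional H ξ (c - d) = indFunctional H ξ c - indFunctional H ξ d := by
  unfold indFunctional
  rw [← Finset.sum_sub_distrib]
  apply Finset.sum_congr rfl
  intro h _
  rw [coef_sub]
  ring

theorem indFunctional_smul (H : Subgroup G) [Fintype H] (ξ : H → ℂ) (r : ℂ)
    (c : IrrCharacter G → ℂ) : indFunctional H ξ (r • c) = r * indFunctional H ξ c := by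
  unfold indFunctional
  rw [Finset.mul_sum]
  apply Finset.sum_congr rfl
  intro h _
  rw [coef_smul]
  ring

theorem indFunctional_zero (H : Subgroup G) [Fintype H] (ξ : H → ℂ) :
    indFunctional H ξ (0 : IrrCharacter G → ℂ) = 0 := by
  have := indFunctional_sub H ξ (0 : IrrCharacter G → ℂ) 0
  rw [sub_self] at this
  rw [this, sub_self]

theorem indFunctional_one (H : Subgroup G) [Fintype H] (ξ : H → ℂ) (hξ : ξ 1 ≠ 0) :
    indFunctional H ξ (fun _ : IrrCharacter G => (1 : ℂ)) = 1 := by
  classical
  unfold indFunctional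
  rw [Finset.sum_eq_single (1 : H)]
  · rw [coef_one, if_pos (by rfl), one_mul, div_self hξ]
  · intro h _ hne
    rw [coef_one, if_neg, zero_mul]
    intro h1
    apply hne
    apply Subtype.ext
    exact h1
  · intro h
    exact absurd (Finset.mem_univ _) h

theorem indFunctional_centralChar (H : Subgroup G) [Fintype H] (ξ : H → ℂ) (a : G) :
    indFunctional H ξ (fun χ : IrrCharacter G => centralChar (χ : G → ℂ) a)
      = inducedCentralChar H ξ a := by
  classical
  unfold indFunctional
  rw [inducedCentralChar_eq_sum]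
  have e : ∀ h : H, coef (fun χ : IrrCharacter G => centralChar (χ : G → ℂ) a) (h : G) * (ξ h / ξ 1)
      = if IsConj a (h : G) then ξ h / ξ 1 else 0 := by
    intro h
    rw [coef_centralChar]
    split_ifs <;> simp
  rw [Finset.sum_congr rfl (fun h _ => e h)]
  apply Finset.sum_congr
  · ext
    simp
  · intro _ _
    rfl

theorem isIntegral_indFunctional (H : Subgroup G) [Fintype H] (ξ : IrrCharacter H)
    (c : IrrCharacter G → ℂ) (hc : IntCoef c) : IsIntegral ℤ (indFunctional H (ξ : H → ℂ) c) := by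
  classical
  unfold indFunctional
  rw [sum_class_fun (G := H)]
  · apply IsIntegral.sum
    intro C _
    have e : ((Subgroup.centralizer ({Quotient.out C} : Set H)).index : ℂ)
        * (coef c ((Quotient.out C : H) : G) * ((ξ : H → ℂ) (Quotient.out C) / (ξ : H → ℂ) 1))
        = coef c ((Quotient.out C : H) : G) * centralChar (ξ : H → ℂ) (Quotient.out C) := by
      unfold centralChar
      ring
    rw [e]
    exact (hc _).mul (isIntegral_centralChar ξ.2 _)
  · intro g h
    rw [isClassFunction_of_isCharacter (isCharacter_of_isIrrCharacter ξ.2) g h]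
    have : ((h * g * h⁻¹ : H) : G) = (h : G) * (g : G) * (h : G)⁻¹ := by simp
    rw [this, coef_conj]

variable {M : Ideal AlgInt}

/-- The central character of `ξ` lies in the local ideal at elements of `H` not centralizing the
normal `p`-subgroup `P`. -/
theorem memLocalIdeal_centralChar_of_not_mem {p : ℕ} (hM : IsPModular p M) (P H : Subgroup G)
    (hP : IsPGroup p P) (hPH : P ≤ H) (hHN : H ≤ Subgroup.normalizer (P : Set G))
    (ξ : IrrCharacter H) (h : H) (hh : (h : G) ∉ Subgroup.centralizer (P : Set G)) :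
    MemLocalIdeal M (centralChar (ξ : H → ℂ) h) := by
  classical
  have hnormal : ∀ a ∈ H, ∀ u ∈ P, a * u * a⁻¹ ∈ P := Subgroup.le_normalizer_iff.mp hHN
  have key : ∀ a : H, ∀ h : H, (h : G) ∈ Subgroup.centralizer (P : Set G) →
      ((a * h * a⁻¹ : H) : G) ∈ Subgroup.centralizer (P : Set G) := by
    intro a h hh
    rw [Subgroup.mem_centralizer_iff] at hh ⊢
    intro u hu
    have hu' : (a : G)⁻¹ * u * ((a : G)⁻¹)⁻¹ ∈ P := hnormal _ (H.inv_mem a.2) u hu
    have h1 := hh _ hu'
    push_cast
    calc u * ((a : G) * (h : G) * (a : G)⁻¹)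
        = (a : G) * (((a : G)⁻¹ * u * ((a : G)⁻¹)⁻¹) * (h : G)) * (a : G)⁻¹ := by group
      _ = (a : G) * ((h : G) * ((a : G)⁻¹ * u * ((a : G)⁻¹)⁻¹)) * (a : G)⁻¹ := by rw [h1]
      _ = (a : G) * (h : G) * (a : G)⁻¹ * u := by group
  haveI hPHn : (P.subgroupOf H).Normal := Subgroup.normal_subgroupOf_of_le_normalizer hHN
  have hPHp : IsPGroup p (P.subgroupOf H) := hP.comap_subtype
  have hno : ∀ x : H, IsConj h x →
      x ∉ Subgroup.centralizer ((P.subgroupOf H : Subgroup H) : Set H) := by
    intro x hx hxc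
    obtain ⟨a, ha⟩ := isConj_iff.mp hx
    have hxG : (x : G) ∈ Subgroup.centralizer (P : Set G) := by
      rw [Subgroup.mem_centralizer_iff] at hxc ⊢
      intro u hu
      have hmem : (⟨u, hPH hu⟩ : H) ∈ ((P.subgroupOf H : Subgroup H) : Set H) := by
        show (⟨u, hPH hu⟩ : H) ∈ P.subgroupOf H
        rw [Subgroup.mem_subgroupOf]
        exact hu
      have := hxc _ hmem
      exact congrArg Subtype.val this
    apply hh
    have := key a⁻¹ x hxG
    rw [← ha] at this
    have e : a⁻¹ * (a * h * a⁻¹) * a⁻¹⁻¹ = h := by group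
    rwa [e] at this
  exact memLocalIdeal_centralChar_of_not_centralizer hM (P.subgroupOf H) hPHp h hno ξ

/-- Product of the functional values as a convolution inside `H`. -/
theorem indFunctional_mul_eq (H : Subgroup G) [Fintype H] (ξ : IrrCharacter H)
    (c d : IrrCharacter G → ℂ) :
    indFunctional H (ξ : H → ℂ) c * indFunctional H (ξ : H → ℂ) d
      = ∑ h : H, (∑ x : H, coef c (x : G) * coef d ((x : G)⁻¹ * (h : G)))
          * ((ξ : H → ℂ) h / (ξ : H → ℂ) 1) := by
  have hξ1 := apply_one_ne_zero ξ.2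
  have hu : ∀ g x : H, coef c ((x * g * x⁻¹ : H) : G) = coef c (g : G) := by
    intro g x
    have : ((x * g * x⁻¹ : H) : G) = (x : G) * (g : G) * (x : G)⁻¹ := by simp
    rw [this, coef_conj]
  have h1 : ∀ y : H, ∑ x : H, coef c (x : G) * (ξ : H → ℂ) (x * y)
      = (∑ x : H, coef c (x : G) * (ξ : H → ℂ) x / (ξ : H → ℂ) 1) * (ξ : H → ℂ) y :=
    fun y => sum_classFun_mul_apply (G := H) ξ (fun x : H => coef c (x : G)) hu y
  unfold indFunctional
  calc (∑ h : H, coef c (h : G) * ((ξ : H → ℂ) h / (ξ : H → ℂ) 1))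
        * ∑ h : H, coef d (h : G) * ((ξ : H → ℂ) h / (ξ : H → ℂ) 1)
      = ∑ y : H, coef d (y : G) * ((∑ x : H, coef c (x : G) * (ξ : H → ℂ) x / (ξ : H → ℂ) 1)
          * (ξ : H → ℂ) y) / (ξ : H → ℂ) 1 := by
        rw [Finset.mul_sum]
        apply Finset.sum_congr rfl
        intro y _
        have : ∑ h : H, coef c (h : G) * ((ξ : H → ℂ) h / (ξ : H → ℂ) 1)
            = ∑ x : H, coef c (x : G) * (ξ : H → ℂ) x / (ξ : H → ℂ) 1 := by
          apply Finset.sum_congr rfl
          intro x _
          ring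
        rw [this]
        ring
    _ = ∑ y : H, ∑ x : H, coef c (x : G) * coef d (y : G) * (ξ : H → ℂ) (x * y)
          / (ξ : H → ℂ) 1 := by
        apply Finset.sum_congr rfl
        intro y _
        rw [← h1 y, Finset.mul_sum, Finset.sum_div]
        apply Finset.sum_congr rfl
        intro x _
        ring
    _ = ∑ x : H, ∑ y : H, coef c (x : G) * coef d (y : G) * (ξ : H → ℂ) (x * y)
          / (ξ : H → ℂ) 1 := Finset.sum_comm
    _ = ∑ x : H, ∑ h : H, coef c (x : G) * coef d ((x : G)⁻¹ * (h : G)) * (ξ : H → ℂ) h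
          / (ξ : H → ℂ) 1 := by
        apply Finset.sum_congr rfl
        intro x _
        apply Fintype.sum_equiv (Equiv.mulLeft x)
        intro y
        simp only [Equiv.coe_mulLeft, Subgroup.coe_mul, inv_mul_cancel_left]
    _ = ∑ h : H, ∑ x : H, coef c (x : G) * coef d ((x : G)⁻¹ * (h : G)) * (ξ : H → ℂ) h
          / (ξ : H → ℂ) 1 := Finset.sum_comm
    _ = _ := by
        apply Finset.sum_congr rfl
        intro h _
        rw [Finset.sum_mul]
        apply Finset.sum_congr rfl
        intro x _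
        ring

/-- The induced functional is multiplicative modulo the local ideal when
`P C_G(P) ≤ H ≤ N_G(P)`. -/
theorem memLocalIdeal_indFunctional_mul {p : ℕ} (hM : IsPModular p M) (P H : Subgroup G)
    [Fintype H] (hP : IsPGroup p P) (hPH : P ≤ H)
    (hCH : Subgroup.centralizer (P : Set G) ≤ H) (hHN : H ≤ Subgroup.normalizer (P : Set G))
    (ξ : IrrCharacter H) (c d : IrrCharacter G → ℂ) (hc : IntCoef c) (hd : IntCoef d) :
    MemLocalIdeal M (indFunctional H (ξ : H → ℂ) (c * d)
      - indFunctional H (ξ : H → ℂ) c * indFunctional H (ξ : H → ℂ) d) := by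
  classical
  haveI hMp := isPrime_of_isPModular hM
  have hMtop : M ≠ ⊤ := hM.2.1.ne_top
  rw [indFunctional_mul_eq]
  unfold indFunctional
  rw [← Finset.sum_sub_distrib]
  obtain ⟨w, hw⟩ : ∃ w : H → ℂ, w = fun h : H =>
      ∑ x : {x : G // x ∉ H}, coef c (x : G) * coef d ((x : G)⁻¹ * (h : G)) := ⟨_, rfl⟩
  have hterm : ∀ h : H, coef (c * d) (h : G) * ((ξ : H → ℂ) h / (ξ : H → ℂ) 1)
      - (∑ x : H, coef c (x : G) * coef d ((x : G)⁻¹ * (h : G)))
          * ((ξ : H → ℂ) h / (ξ : H → ℂ) 1)
      = w h * ((ξ : H → ℂ) h / (ξ : H → ℂ) 1) := by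
    intro h
    rw [coef_mul, hw]
    simp only
    rw [← sub_mul]
    congr 1
    rw [sub_eq_iff_eq_add]
    rw [← Finset.sum_filter_add_sum_filter_not Finset.univ (fun x : G => x ∈ H), add_comm]
    have e1 : ∑ x ∈ Finset.univ.filter (fun x : G => x ∈ H), coef c x * coef d (x⁻¹ * (h : G))
        = ∑ x : H, coef c (x : G) * coef d ((x : G)⁻¹ * (h : G)) :=
      Finset.sum_subtype _ (by intro x; simp) _
    have e2 : ∑ x ∈ Finset.univ.filter (fun x : G => ¬ x ∈ H), coef c x * coef d (x⁻¹ * (h : G))
        = ∑ x : {x : G // x ∉ H}, coef c (x : G) * coef d ((x : G)⁻¹ * (h : G)) :=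
      Finset.sum_subtype _ (by intro x; simp) _
    rw [e1, e2]
  rw [Finset.sum_congr rfl (fun h _ => hterm h)]
  have hwint : ∀ h : H, IsIntegral ℤ (w h) := by
    intro h
    rw [hw]
    exact IsIntegral.sum _ (fun x _ => (hc _).mul (hd _))
  apply memLocalIdeal_sum_class_fun (G := H)
  · -- class function
    intro h a
    rw [isClassFunction_of_isCharacter (isCharacter_of_isIrrCharacter ξ.2) h a]
    congr 1
    rw [hw]
    simp only
    have hmem : ∀ x : G, x ∉ H ↔ (a : G) * x * (a : G)⁻¹ ∉ H := by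
      intro x
      constructor
      · intro hx hx'
        apply hx
        have := H.mul_mem (H.mul_mem (H.inv_mem a.2) hx') a.2
        simpa [mul_assoc] using this
      · intro hx hx'
        exact hx (H.mul_mem (H.mul_mem a.2 hx') (H.inv_mem a.2))
    symm
    apply Fintype.sum_equiv ((MulAut.conj (a : G)).toEquiv.subtypeEquiv hmem)
    intro x
    simp only [Equiv.subtypeEquiv_apply, MulEquiv.toEquiv_eq_coe, EquivLike.coe_coe,
      MulAut.conj_apply]
    rw [coef_conj]
    congr 1
    have e : ((a : G) * (x : G) * (a : G)⁻¹)⁻¹ * ((a * h * a⁻¹ : H) : G)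
        = (a : G) * ((x : G)⁻¹ * (h : G)) * (a : G)⁻¹ := by
      push_cast
      group
    rw [e, coef_conj]
  · intro h
    have e : ((Subgroup.centralizer ({h} : Set H)).index : ℂ)
        * (w h * ((ξ : H → ℂ) h / (ξ : H → ℂ) 1)) = w h * centralChar (ξ : H → ℂ) h := by
      unfold centralChar
      ring
    rw [e]
    by_cases hh : (h : G) ∈ Subgroup.centralizer (P : Set G)
    · -- the orbit argument
      rw [mul_comm]
      apply memLocalIdeal_mul_integral _ (isIntegral_centralChar ξ.2 h)
      rw [hw]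
      letI : MulAction P {x : G // x ∉ H} :=
        { smul := fun u x => ⟨(u : G) * (x : G) * (u : G)⁻¹, by
            intro hx'
            apply x.2
            have := H.mul_mem (H.mul_mem (H.inv_mem (hPH u.2)) hx') (hPH u.2)
            simpa [mul_assoc] using this⟩
          one_smul := fun x => by
            apply Subtype.ext
            show ((1 : P) : G) * (x : G) * ((1 : P) : G)⁻¹ = x
            simp
          mul_smul := fun u u' x => by
            apply Subtype.ext
            show ((u * u' : P) : G) * (x : G) * ((u * u' : P) : G)⁻¹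
              = (u : G) * ((u' : G) * (x : G) * (u' : G)⁻¹) * (u : G)⁻¹
            push_cast
            group }
      have hsmul : ∀ (u : P) (x : {x : G // x ∉ H}), ((u • x : {x : G // x ∉ H}) : G)
          = (u : G) * (x : G) * (u : G)⁻¹ := fun _ _ => rfl
      apply memLocalIdeal_sum_of_fixedPoint_free (P := P) hM hP
      · intro x
        exact memLocalRing_of_integral ((hc _).mul (hd _))
      · intro u x
        rw [hsmul, coef_conj]
        congr 1
        have hcomm : (u : G) * (h : G) = (h : G) * (u : G) := by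
          rw [Subgroup.mem_centralizer_iff] at hh
          exact hh u u.2
        have e2 : ((u : G) * (x : G) * (u : G)⁻¹)⁻¹ * (h : G)
            = (u : G) * ((x : G)⁻¹ * (h : G)) * (u : G)⁻¹ := by
          have : (h : G) = (u : G) * (h : G) * (u : G)⁻¹ := by
            rw [hcomm]; group
          conv_lhs => rw [this]
          group
        rw [e2, coef_conj]
      · intro x
        by_contra hall
        push Not at hall
        apply x.2
        apply hCH
        rw [Subgroup.mem_centralizer_iff]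
        intro u hu
        have := congrArg Subtype.val (hall ⟨u, hu⟩)
        rw [hsmul] at this
        simp only at this
        calc u * (x : G) = u * (x : G) * u⁻¹ * u := by group
          _ = (x : G) * u := by rw [this]
    · exact memLocalIdeal_mul_integral
        (memLocalIdeal_centralChar_of_not_mem hM P H hP hPH hHN ξ h hh) (hwint h)

/-- A functional on the centre that is multiplicative modulo the local ideal agrees with some
central character modulo the local ideal. -/
theorem exists_centralChar_congr {p : ℕ} (hM : IsPModular p M)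
    (Λ : (IrrCharacter G → ℂ) → ℂ)
    (hsub : ∀ c d, Λ (c - d) = Λ c - Λ d) (hsmul : ∀ (r : ℂ) c, Λ (r • c) = r * Λ c)
    (hone : Λ (fun _ => 1) = 1) (hint : ∀ c, IntCoef c → IsIntegral ℤ (Λ c))
    (hmul : ∀ c d, IntCoef c → IntCoef d → MemLocalIdeal M (Λ (c * d) - Λ c * Λ d)) :
    ∃ χ : IrrCharacter G, ∀ a : G,
      MemLocalIdeal M (Λ (fun ψ : IrrCharacter G => centralChar (ψ : G → ℂ) a)
        - centralChar (χ : G → ℂ) a) := by
  classical
  haveI hMp := isPrime_of_isPModular hM
  have hMtop : M ≠ ⊤ := hM.2.1.ne_top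
  by_contra hcon
  push Not at hcon
  choose a ha using hcon
  obtain ⟨c, hc⟩ : ∃ c : IrrCharacter G → IrrCharacter G → ℂ, c = fun χ =>
      (fun ψ : IrrCharacter G => centralChar (ψ : G → ℂ) (a χ))
        - (centralChar (χ : G → ℂ) (a χ)) • (fun _ : IrrCharacter G => (1 : ℂ)) := ⟨_, rfl⟩
  have hcint : ∀ χ, IntCoef (c χ) := by
    intro χ
    rw [hc]
    exact (intCoef_centralChar (a χ)).sub
      (IntCoef.smul (isIntegral_centralChar χ.2 (a χ)) intCoef_one)
  have hΛc : ∀ χ, Λ (c χ) = Λ (fun ψ : IrrCharacter G => centralChar (ψ : G → ℂ) (a χ))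
      - centralChar (χ : G → ℂ) (a χ) := by
    intro χ
    rw [hc]
    simp only
    rw [hsub, hsmul, hone, mul_one]
  have hΛ0 : Λ 0 = 0 := by
    have := hsub 0 0
    rw [sub_self] at this
    rw [this, sub_self]
  -- the product vanishes
  have hprod0 : ∏ χ : IrrCharacter G, c χ = 0 := by
    funext ψ
    rw [Finset.prod_apply, Pi.zero_apply]
    apply Finset.prod_eq_zero (Finset.mem_univ ψ)
    rw [hc]
    simp
  -- multiplicativity for finite products
  have hind : ∀ s : Finset (IrrCharacter G),
      MemLocalIdeal M (Λ (∏ χ ∈ s, c χ) - ∏ χ ∈ s, Λ (c χ)) := by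
    intro s
    induction s using Finset.induction_on with
    | empty =>
      rw [Finset.prod_empty, Finset.prod_empty]
      have : (1 : IrrCharacter G → ℂ) = fun _ => 1 := rfl
      rw [this, hone, sub_self]
      exact memLocalIdeal_zero hMtop
    | insert b s hb ih =>
      rw [Finset.prod_insert hb, Finset.prod_insert hb]
      have hQ : IntCoef (∏ χ ∈ s, c χ) := IntCoef.prod s c (fun χ _ => hcint χ)
      have h1 := hmul (c b) (∏ χ ∈ s, c χ) (hcint b) hQ
      have h2 := memLocalIdeal_mul_integral ih (hint (c b) (hcint b))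
      have h3 := memLocalIdeal_add h1 h2
      convert h3 using 1
      ring
  have hfin := hind Finset.univ
  rw [hprod0, hΛ0, zero_sub] at hfin
  have hfin' := memLocalIdeal_neg hfin
  rw [neg_neg] at hfin'
  refine not_memLocalIdeal_prod Finset.univ (fun χ => Λ (c χ)) (fun χ _ => hint _ (hcint χ)) ?_ hfin'
  intro χ _
  rw [hΛc]
  exact ha χ

/-- The induced block is defined when `P C_G(P) ≤ H ≤ N_G(P)`. -/
theorem inducedBlockDefined_of_centralizer_le {p : ℕ} (hM : IsPModular p M) (P H : Subgroup G)
    (hP : IsPGroup p P) (hPH : P ≤ H)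
    (hCH : Subgroup.centralizer (P : Set G) ≤ H) (hHN : H ≤ Subgroup.normalizer (P : Set G))
    (b : Set (IrrCharacter H)) (hb : IsPBlock M b) : InducedBlockDefined M H b := by
  classical
  letI : Fintype H := Fintype.ofFinite H
  haveI hMp := isPrime_of_isPModular hM
  have hMtop : M ≠ ⊤ := hM.2.1.ne_top
  obtain ⟨ξ₁, hb'⟩ := hb
  have hξ1 := apply_one_ne_zero ξ₁.2
  obtain ⟨χ, hχ⟩ := exists_centralChar_congr hM (indFunctional H (ξ₁ : H → ℂ))
    (indFunctional_sub H _) (indFunctional_smul H _) (indFunctional_one H _ hξ1)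
    (isIntegral_indFunctional H ξ₁)
    (memLocalIdeal_indFunctional_mul hM P H hP hPH hCH hHN ξ₁)
  refine ⟨blockOf M (χ : G → ℂ), ⟨ξ₁, hb'⟩, ⟨χ, rfl⟩, ?_⟩
  intro ξ hξ χ' hχ' g
  rw [hb'] at hξ
  have h1 := memLocalIdeal_inducedCentralChar_sub H ξ ξ₁ (sameBlock_symm hξ) g
  have h2 := hχ g
  rw [indFunctional_centralChar] at h2
  have h3 : MemLocalIdeal M (centralChar (χ : G → ℂ) g - centralChar (χ' : G → ℂ) g) := hχ' g
  have h4 := memLocalIdeal_add (memLocalIdeal_add h1 h2) h3
  convert h4 using 1
  ring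

end Cfsg.Agent.Lib.helper3.Block
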