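import Mathlib
import Cfsg.Prelude.Def_Blocks
import Cfsg.Prelude.Def_BrauerPairs
import Cfsg.Agent.Lib.helper3.BlockIndDef

/-!
# The Brauer map at a `p`-subgroup is multiplicative modulo the local ideal
-/

set_option autoImplicit false
set_option linter.style.haveILetI false
set_option linter.unusedSectionVars false

namespace Cfsg.Agent.Lib.helper3.Block

open Cfsg Module Cfsg.Agent.Lib.helper3.CharBasic Cfsg.Agent.Lib.helper3.Irr
open Cfsg.Agent.Lib.helper3.Central Cfsg.Agent.Lib.helper3.LocalM Cfsg.Agent.Lib.helper3.IndFun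
open scoped ComplexConjugate

variable {G : Type*} [Group G] [Fintype G] {M : Ideal AlgInt}

/-- Convolution of functions on a finite group. -/
noncomputable def conv (a b : G → ℂ) (g : G) : ℂ := ∑ y : G, a y * b (y⁻¹ * g)

/-- Product of central character values as a convolution. -/
theorem centralFunctional_mul (ξ : IrrCharacter G) (α β : G → ℂ)
    (hα : ∀ g x : G, α (x * g * x⁻¹) = α g) :
    (∑ x : G, α x * ((ξ : G → ℂ) x / (ξ : G → ℂ) 1))
        * (∑ x : G, β x * ((ξ : G → ℂ) x / (ξ : G → ℂ) 1))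
      = ∑ h : G, conv α β h * ((ξ : G → ℂ) h / (ξ : G → ℂ) 1) := by
  have hξ1 := apply_one_ne_zero ξ.2
  have h1 : ∀ y : G, ∑ x : G, α x * (ξ : G → ℂ) (x * y)
      = (∑ x : G, α x * (ξ : G → ℂ) x / (ξ : G → ℂ) 1) * (ξ : G → ℂ) y :=
    fun y => sum_classFun_mul_apply ξ α hα y
  unfold conv
  calc (∑ h : G, α h * ((ξ : G → ℂ) h / (ξ : G → ℂ) 1))
        * ∑ h : G, β h * ((ξ : G → ℂ) h / (ξ : G → ℂ) 1)
      = ∑ y : G, β y * ((∑ x : G, α x * (ξ : G → ℂ) x / (ξ : G → ℂ) 1)
          * (ξ : G → ℂ) y) / (ξ : G → ℂ) 1 := by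
        rw [Finset.mul_sum]
        apply Finset.sum_congr rfl
        intro y _
        have : ∑ h : G, α h * ((ξ : G → ℂ) h / (ξ : G → ℂ) 1)
            = ∑ x : G, α x * (ξ : G → ℂ) x / (ξ : G → ℂ) 1 := by
          apply Finset.sum_congr rfl
          intro x _
          ring
        rw [this]
        ring
    _ = ∑ y : G, ∑ x : G, α x * β y * (ξ : G → ℂ) (x * y) / (ξ : G → ℂ) 1 := by
        apply Finset.sum_congr rfl
        intro y _
        rw [← h1 y, Finset.mul_sum, Finset.sum_div]
        apply Finset.sum_congr rfl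
        intro x _
        ring
    _ = ∑ x : G, ∑ y : G, α x * β y * (ξ : G → ℂ) (x * y) / (ξ : G → ℂ) 1 := Finset.sum_comm
    _ = ∑ x : G, ∑ h : G, α x * β (x⁻¹ * h) * (ξ : G → ℂ) h / (ξ : G → ℂ) 1 := by
        apply Finset.sum_congr rfl
        intro x _
        apply Fintype.sum_equiv (Equiv.mulLeft x)
        intro y
        simp only [Equiv.coe_mulLeft, inv_mul_cancel_left]
    _ = ∑ h : G, ∑ x : G, α x * β (x⁻¹ * h) * (ξ : G → ℂ) h / (ξ : G → ℂ) 1 := Finset.sum_comm
    _ = _ := by
        apply Finset.sum_congr rfl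
        intro h _
        rw [Finset.sum_mul]
        apply Finset.sum_congr rfl
        intro x _
        ring

/-- Modulo the local ideal, the coefficient of a convolution of `P`-invariant functions at an
element of `C_G(P)` only involves the elements of `C_G(P)`. -/
theorem memLocalIdeal_conv_sub_trunc {p : ℕ} (hM : IsPModular p M) (P : Subgroup G)
    (hP : IsPGroup p P) [Fintype (Subgroup.centralizer (P : Set G))] (a b : G → ℂ)
    (ha : ∀ g, MemLocalRing M (a g)) (hb : ∀ g, MemLocalRing M (b g))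
    (haP : ∀ u ∈ P, ∀ g, a (u * g * u⁻¹) = a g) (hbP : ∀ u ∈ P, ∀ g, b (u * g * u⁻¹) = b g)
    (x : G) (hx : x ∈ Subgroup.centralizer (P : Set G)) :
    MemLocalIdeal M (conv a b x
      - ∑ y : Subgroup.centralizer (P : Set G), a (y : G) * b ((y : G)⁻¹ * x)) := by
  classical
  haveI hMp := isPrime_of_isPModular hM
  have hMtop : M ≠ ⊤ := hM.2.1.ne_top
  have hsplit : conv a b x - ∑ y : Subgroup.centralizer (P : Set G), a (y : G) * b ((y : G)⁻¹ * x)
      = ∑ y : {y : G // y ∉ Subgroup.centralizer (P : Set G)}, a (y : G) * b ((y : G)⁻¹ * x) := by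
    unfold conv
    rw [sub_eq_iff_eq_add]
    rw [← Finset.sum_filter_add_sum_filter_not Finset.univ
      (fun y : G => y ∈ Subgroup.centralizer (P : Set G)), add_comm]
    have e1 : ∑ y ∈ Finset.univ.filter (fun y : G => y ∈ Subgroup.centralizer (P : Set G)),
        a y * b (y⁻¹ * x)
        = ∑ y : Subgroup.centralizer (P : Set G), a (y : G) * b ((y : G)⁻¹ * x) :=
      Finset.sum_subtype _ (by intro y; simp) _
    have e2 : ∑ y ∈ Finset.univ.filter (fun y : G => ¬ y ∈ Subgroup.centralizer (P : Set G)),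
        a y * b (y⁻¹ * x)
        = ∑ y : {y : G // y ∉ Subgroup.centralizer (P : Set G)}, a (y : G) * b ((y : G)⁻¹ * x) :=
      Finset.sum_subtype _ (by intro y; simp) _
    rw [e1, e2]
  rw [hsplit]
  have hnorm : ∀ u ∈ P, ∀ y : G, y ∉ Subgroup.centralizer (P : Set G) →
      u * y * u⁻¹ ∉ Subgroup.centralizer (P : Set G) := by
    intro u hu y hy hy'
    apply hy
    rw [Subgroup.mem_centralizer_iff] at hy' ⊢
    intro v hv
    have hv' : u * v * u⁻¹ ∈ P := P.mul_mem (P.mul_mem hu hv) (P.inv_mem hu)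
    have h1 := hy' (u * v * u⁻¹) hv'
    have h2 : u * (v * y) * u⁻¹ = u * (y * v) * u⁻¹ := by
      calc u * (v * y) * u⁻¹ = (u * v * u⁻¹) * (u * y * u⁻¹) := by group
        _ = (u * y * u⁻¹) * (u * v * u⁻¹) := h1
        _ = u * (y * v) * u⁻¹ := by group
    exact mul_left_cancel (mul_right_cancel h2)
  letI : MulAction P {y : G // y ∉ Subgroup.centralizer (P : Set G)} :=
    { smul := fun u y => ⟨(u : G) * (y : G) * (u : G)⁻¹, hnorm u u.2 y y.2⟩
      one_smul := fun y => by
        apply Subtype.ext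
        show ((1 : P) : G) * (y : G) * ((1 : P) : G)⁻¹ = y
        simp
      mul_smul := fun u u' y => by
        apply Subtype.ext
        show ((u * u' : P) : G) * (y : G) * ((u * u' : P) : G)⁻¹
          = (u : G) * ((u' : G) * (y : G) * (u' : G)⁻¹) * (u : G)⁻¹
        push_cast
        group }
  have hsmul : ∀ (u : P) (y : {y : G // y ∉ Subgroup.centralizer (P : Set G)}),
      ((u • y : {y : G // y ∉ Subgroup.centralizer (P : Set G)}) : G)
        = (u : G) * (y : G) * (u : G)⁻¹ := fun _ _ => rfl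
  apply memLocalIdeal_sum_of_fixedPoint_free (P := P) hM hP
  · intro y
    exact memLocalRing_mul (ha _) (hb _)
  · intro u y
    rw [hsmul, haP u u.2]
    congr 1
    have hcomm : (u : G) * x = x * (u : G) := by
      rw [Subgroup.mem_centralizer_iff] at hx
      exact hx u u.2
    have e2 : ((u : G) * (y : G) * (u : G)⁻¹)⁻¹ * x
        = (u : G) * ((y : G)⁻¹ * x) * (u : G)⁻¹ := by
      have : x = (u : G) * x * (u : G)⁻¹ := by
        rw [hcomm]; group
      conv_lhs => rw [this]
      group
    rw [e2, hbP u u.2]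
  · intro y
    by_contra hall
    push Not at hall
    apply y.2
    rw [Subgroup.mem_centralizer_iff]
    intro u hu
    have := congrArg Subtype.val (hall ⟨u, hu⟩)
    rw [hsmul] at this
    simp only at this
    calc u * (y : G) = u * (y : G) * u⁻¹ * u := by group
      _ = (y : G) * u := by rw [this]

end Cfsg.Agent.Lib.helper3.Block
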