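import Mathlib
import Cfsg.Prelude.Def_Blocks
import Cfsg.Prelude.Def_BrauerPairs
import Cfsg.Agent.Lib.helper3.BrauerMap1

/-!
# The Brauer functional attached to a character of `C_G(P)`
-/

set_option autoImplicit false
set_option linter.style.haveILetI false
set_option linter.unusedSectionVars false

namespace Cfsg.Agent.Lib.helper3.Block

open Cfsg Module Cfsg.Agent.Lib.helper3.CharBasic Cfsg.Agent.Lib.helper3.Irr
open Cfsg.Agent.Lib.helper3.Central Cfsg.Agent.Lib.helper3.LocalM Cfsg.Agent.Lib.helper3.IndFun
open scoped ComplexConjugate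

variable {G : Type*} [Group G] [Fintype G] {M : Ideal AlgInt}

theorem brauerOmega_eq_sum (P : Subgroup G) [Fintype (Subgroup.centralizer (P : Set G))]
    (β : G → ℂ) (ξ : Subgroup.centralizer (P : Set G) → ℂ) :
    brauerOmega P β ξ = ∑ x : Subgroup.centralizer (P : Set G), β (x : G) * (ξ x / ξ 1) := by
  unfold brauerOmega
  rw [finsum_eq_sum_of_fintype]
  apply Finset.sum_congr rfl
  intro x _
  ring

/-- The Brauer functional is multiplicative modulo the local ideal on functions with local values
that are invariant under conjugation by `P` and by `C_G(P)`. -/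
theorem memLocalIdeal_brauerOmega_conv {p : ℕ} (hM : IsPModular p M) (P : Subgroup G)
    (hP : IsPGroup p P) [Fintype (Subgroup.centralizer (P : Set G))] (a b : G → ℂ)
    (ha : ∀ g, MemLocalRing M (a g)) (hb : ∀ g, MemLocalRing M (b g))
    (haP : ∀ u ∈ P, ∀ g, a (u * g * u⁻¹) = a g) (hbP : ∀ u ∈ P, ∀ g, b (u * g * u⁻¹) = b g)
    (haC : ∀ c ∈ Subgroup.centralizer (P : Set G), ∀ g, a (c * g * c⁻¹) = a g)
    (hbC : ∀ c ∈ Subgroup.centralizer (P : Set G), ∀ g, b (c * g * c⁻¹) = b g)
    (ξ : IrrCharacter (Subgroup.centralizer (P : Set G))) :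
    MemLocalIdeal M (brauerOmega P (conv a b) (ξ : Subgroup.centralizer (P : Set G) → ℂ)
      - brauerOmega P a (ξ : Subgroup.centralizer (P : Set G) → ℂ)
        * brauerOmega P b (ξ : Subgroup.centralizer (P : Set G) → ℂ)) := by
  classical
  haveI hMp := isPrime_of_isPModular hM
  have hMtop : M ≠ ⊤ := hM.2.1.ne_top
  rw [brauerOmega_eq_sum, brauerOmega_eq_sum, brauerOmega_eq_sum]
  have hmul := centralFunctional_mul ξ (fun x : Subgroup.centralizer (P : Set G) => a (x : G))
    (fun x : Subgroup.centralizer (P : Set G) => b (x : G)) (by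
      intro g x
      show a ((x * g * x⁻¹ : Subgroup.centralizer (P : Set G)) : G) = a (g : G)
      have : ((x * g * x⁻¹ : Subgroup.centralizer (P : Set G)) : G)
          = (x : G) * (g : G) * (x : G)⁻¹ := by simp
      rw [this, haC x x.2])
  rw [hmul, ← Finset.sum_sub_distrib]
  obtain ⟨w, hw⟩ : ∃ w : Subgroup.centralizer (P : Set G) → ℂ, w = fun h : Subgroup.centralizer (P : Set G) =>
      conv a b (h : G) - conv (fun x : Subgroup.centralizer (P : Set G) => a (x : G))
        (fun x : Subgroup.centralizer (P : Set G) => b (x : G)) h := ⟨_, rfl⟩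
  have hterm : ∀ h : Subgroup.centralizer (P : Set G),
      conv a b (h : G) * ((ξ : Subgroup.centralizer (P : Set G) → ℂ) h
          / (ξ : Subgroup.centralizer (P : Set G) → ℂ) 1)
        - conv (fun x : Subgroup.centralizer (P : Set G) => a (x : G))
          (fun x : Subgroup.centralizer (P : Set G) => b (x : G)) h
          * ((ξ : Subgroup.centralizer (P : Set G) → ℂ) h
            / (ξ : Subgroup.centralizer (P : Set G) → ℂ) 1)
      = w h * ((ξ : Subgroup.centralizer (P : Set G) → ℂ) h
          / (ξ : Subgroup.centralizer (P : Set G) → ℂ) 1) := by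
    intro h
    rw [hw]
    ring
  rw [Finset.sum_congr rfl (fun h _ => hterm h)]
  have hwmem : ∀ h : Subgroup.centralizer (P : Set G), MemLocalIdeal M (w h) := by
    intro h
    rw [hw]
    have := memLocalIdeal_conv_sub_trunc hM P hP a b ha hb haP hbP (h : G) h.2
    convert this using 2
    unfold conv
    apply Finset.sum_congr rfl
    intro y _
    simp
  have hconvG : ∀ (c : Subgroup.centralizer (P : Set G)) (g : G),
      conv a b ((c : G) * g * (c : G)⁻¹) = conv a b g := by
    intro c g
    unfold conv
    symm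
    apply Fintype.sum_equiv (MulAut.conj (c : G)).toEquiv
    intro y
    simp only [MulEquiv.toEquiv_eq_coe, EquivLike.coe_coe, MulAut.conj_apply]
    rw [haC c c.2]
    congr 1
    have e : ((c : G) * y * (c : G)⁻¹)⁻¹ * ((c : G) * g * (c : G)⁻¹)
        = (c : G) * (y⁻¹ * g) * (c : G)⁻¹ := by group
    rw [e, hbC c c.2]
  have hconvC : ∀ (c h : Subgroup.centralizer (P : Set G)),
      conv (fun x : Subgroup.centralizer (P : Set G) => a (x : G))
        (fun x : Subgroup.centralizer (P : Set G) => b (x : G)) (c * h * c⁻¹)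
      = conv (fun x : Subgroup.centralizer (P : Set G) => a (x : G))
        (fun x : Subgroup.centralizer (P : Set G) => b (x : G)) h := by
    intro c h
    unfold conv
    symm
    apply Fintype.sum_equiv (MulAut.conj c).toEquiv
    intro y
    simp only [MulEquiv.toEquiv_eq_coe, EquivLike.coe_coe, MulAut.conj_apply]
    have e1 : ((c * y * c⁻¹ : Subgroup.centralizer (P : Set G)) : G)
        = (c : G) * (y : G) * (c : G)⁻¹ := by simp
    have e2 : (((c * y * c⁻¹)⁻¹ * (c * h * c⁻¹) : Subgroup.centralizer (P : Set G)) : G)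
        = (c : G) * (((y⁻¹ * h : Subgroup.centralizer (P : Set G)) : G)) * (c : G)⁻¹ := by
      push_cast
      group
    rw [e1, e2, haC c c.2, hbC c c.2]
  apply memLocalIdeal_sum_class_fun (G := Subgroup.centralizer (P : Set G))
  · intro h c
    rw [isClassFunction_of_isCharacter (isCharacter_of_isIrrCharacter ξ.2) h c]
    congr 1
    rw [hw]
    simp only
    rw [hconvC]
    have : ((c * h * c⁻¹ : Subgroup.centralizer (P : Set G)) : G)
        = (c : G) * (h : G) * (c : G)⁻¹ := by simp
    rw [this, hconvG]
  · intro h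
    have e : ((Subgroup.centralizer ({h} : Set (Subgroup.centralizer (P : Set G)))).index : ℂ)
        * (w h * ((ξ : Subgroup.centralizer (P : Set G) → ℂ) h
          / (ξ : Subgroup.centralizer (P : Set G) → ℂ) 1))
        = centralChar (ξ : Subgroup.centralizer (P : Set G) → ℂ) h * w h := by
      unfold centralChar
      ring
    rw [e]
    exact memLocalIdeal_mul_integral (hwmem h) (isIntegral_centralChar ξ.2 h)

/-- Characters of `C_G(P)` in the same block give congruent Brauer functionals. -/
theorem memLocalIdeal_brauerOmega_sub {p : ℕ} (hM : IsPModular p M) (P : Subgroup G)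
    [Fintype (Subgroup.centralizer (P : Set G))] (a : G → ℂ)
    (ha : ∀ g, MemLocalRing M (a g))
    (haC : ∀ c ∈ Subgroup.centralizer (P : Set G), ∀ g, a (c * g * c⁻¹) = a g)
    (ξ ξ' : IrrCharacter (Subgroup.centralizer (P : Set G)))
    (h : SameBlock M (ξ : Subgroup.centralizer (P : Set G) → ℂ)
      (ξ' : Subgroup.centralizer (P : Set G) → ℂ)) :
    MemLocalIdeal M (brauerOmega P a (ξ : Subgroup.centralizer (P : Set G) → ℂ)
      - brauerOmega P a (ξ' : Subgroup.centralizer (P : Set G) → ℂ)) := by
  classical
  haveI hMp := isPrime_of_isPModular hM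
  have hMtop : M ≠ ⊤ := hM.2.1.ne_top
  rw [brauerOmega_eq_sum, brauerOmega_eq_sum, ← Finset.sum_sub_distrib]
  apply memLocalIdeal_sum_class_fun (G := Subgroup.centralizer (P : Set G))
  · intro x c
    rw [isClassFunction_of_isCharacter (isCharacter_of_isIrrCharacter ξ.2) x c,
      isClassFunction_of_isCharacter (isCharacter_of_isIrrCharacter ξ'.2) x c]
    have : ((c * x * c⁻¹ : Subgroup.centralizer (P : Set G)) : G)
        = (c : G) * (x : G) * (c : G)⁻¹ := by simp
    rw [this, haC c c.2]
  · intro x
    have e : ((Subgroup.centralizer ({x} : Set (Subgroup.centralizer (P : Set G)))).index : ℂ)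
        * (a (x : G) * ((ξ : Subgroup.centralizer (P : Set G) → ℂ) x
            / (ξ : Subgroup.centralizer (P : Set G) → ℂ) 1)
          - a (x : G) * ((ξ' : Subgroup.centralizer (P : Set G) → ℂ) x
            / (ξ' : Subgroup.centralizer (P : Set G) → ℂ) 1))
        = a (x : G) * (centralChar (ξ : Subgroup.centralizer (P : Set G) → ℂ) x
          - centralChar (ξ' : Subgroup.centralizer (P : Set G) → ℂ) x) := by
      unfold centralChar
      ring
    rw [e]
    exact memLocalIdeal_mul_localRing (ha _) (h x)

end Cfsg.Agent.Lib.helper3.Block
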