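import Mathlib
import Cfsg.Prelude.Def_Characters
import Cfsg.Agent.Lib.helper3.CharBasic

set_option autoImplicit false
set_option linter.style.haveILetI false
set_option linter.unusedSectionVars false

/-!
# The trace of a centralizing element on the fixed vectors of a subgroup
-/

namespace Cfsg.Agent.Lib.helper3.Irr

open Cfsg Module Cfsg.Agent.Lib.helper3.CharBasic
open Representation
open scoped ComplexConjugate

variable {G : Type*} [Group G]
variable {V : Type*} [AddCommGroup V] [Module ℂ V] [FiniteDimensional ℂ V]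

/-- If `g` centralizes the finite subgroup `P`, the average of `χ(g u)` over `u ∈ P` is the trace
of `g` on the `P`-fixed vectors, hence an algebraic integer. -/
theorem isIntegral_avg_character [Finite G] (ρ : Representation ℂ G V) (P : Subgroup G)
    [Fintype P] (g : G) (hg : ∀ u ∈ P, g * u = u * g) :
    IsIntegral ℤ ((Nat.card P : ℂ)⁻¹ * ∑ u : P, ρ.character (g * (u : G))) := by
  classical
  have hP0 : (Nat.card P : ℂ) ≠ 0 := by
    have : Nat.card P ≠ 0 := Nat.card_pos.ne'
    exact_mod_cast this
  obtain ⟨W, hW⟩ : ∃ W : Submodule ℂ V, W = Representation.invariants (ρ.comp P.subtype) :=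
    ⟨_, rfl⟩
  have hWmem : ∀ v : V, v ∈ W ↔ ∀ u : P, ρ (u : G) v = v := by
    intro v
    rw [hW, Representation.mem_invariants]
    rfl
  obtain ⟨e, he⟩ : ∃ e : Module.End ℂ V, e = (Nat.card P : ℂ)⁻¹ • ∑ u : P, ρ (u : G) := ⟨_, rfl⟩
  have he_apply : ∀ v : V, e v = (Nat.card P : ℂ)⁻¹ • ∑ u : P, ρ (u : G) v := by
    intro v
    rw [he, LinearMap.smul_apply, LinearMap.sum_apply]
  have heW : ∀ v : V, e v ∈ W := by
    intro v
    rw [hWmem]
    intro u'
    rw [he_apply, map_smul, map_sum]
    congr 1
    apply Fintype.sum_equiv (Equiv.mulLeft u')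
    intro u
    rw [Equiv.coe_mulLeft, Subgroup.coe_mul, map_mul, Module.End.mul_apply]
  have heid : ∀ v ∈ W, e v = v := by
    intro v hv
    rw [he_apply, Finset.sum_congr rfl (fun u _ => (hWmem v).mp hv u), Finset.sum_const,
      Finset.card_univ, ← Nat.card_eq_fintype_card, ← Nat.cast_smul_eq_nsmul ℂ, smul_smul,
      inv_mul_cancel₀ hP0, one_smul]
  have hgW : ∀ w ∈ W, ρ g w ∈ W := by
    intro w hw
    rw [hWmem] at hw ⊢
    intro u
    rw [← Module.End.mul_apply, ← map_mul, ← hg u u.2, map_mul, Module.End.mul_apply, hw u]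
  obtain ⟨T, hT⟩ : ∃ T : Module.End ℂ V, T = ρ g * e := ⟨_, rfl⟩
  have hTW : ∀ v : V, T v ∈ W := by
    intro v
    rw [hT, Module.End.mul_apply]
    exact hgW _ (heW v)
  have hTW' : ∀ w ∈ W, T w ∈ W := fun w _ => hTW w
  have htr1 : LinearMap.trace ℂ V T
      = (Nat.card P : ℂ)⁻¹ * ∑ u : P, ρ.character (g * (u : G)) := by
    rw [hT, he, mul_smul_comm, map_smul, Finset.mul_sum, map_sum, smul_eq_mul]
    congr 1
    apply Finset.sum_congr rfl
    intro u _
    rw [← map_mul]
    rfl
  have htr2 := LinearMap.trace_restrict_eq_of_forall_mem W T hTW hTW'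
  rw [← htr1, ← htr2]
  -- the restriction has finite order
  have hn : 0 < orderOf g := orderOf_pos g
  have hpow : ∀ (k : ℕ) (w : W), (((T.restrict hTW') ^ k) w : V) = ρ (g ^ k) (w : V) := by
    intro k
    induction k with
    | zero =>
      intro w
      simp
    | succ k ih =>
      intro w
      rw [pow_succ', Module.End.mul_apply, LinearMap.restrict_apply]
      simp only
      rw [ih w, hT, Module.End.mul_apply, heid _ (by
        rw [← ih w]
        exact Subtype.property _), ← Module.End.mul_apply, ← map_mul, ← pow_succ']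
  have hfin : (T.restrict hTW') ^ orderOf g = 1 := by
    apply LinearMap.ext
    intro w
    apply Subtype.ext
    rw [hpow, pow_orderOf_eq_one, map_one]
    rfl
  obtain ⟨I, _, v, μ, hv, hμ⟩ := exists_eigenbasis_of_pow_eq_one (T.restrict hTW') (orderOf g) hn hfin
  rw [trace_eq_sum_of_eigenbasis v μ _ hv]
  apply IsIntegral.sum
  intro i _
  exact IsIntegral.of_pow hn (by rw [hμ i]; exact isIntegral_one)

end Cfsg.Agent.Lib.helper3.Irr
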