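import Mathlib
import Cfsg.Prelude.Def_Blocks
import Cfsg.Agent.Lib.helper3.BlockMinMax

/-!
# Idempotent matrices over the local ring that are congruent modulo the local ideal have equal trace
-/

set_option autoImplicit false
set_option linter.style.haveILetI false
set_option linter.unusedSectionVars false

namespace Cfsg.Agent.Lib.helper3.Block

open Cfsg Cfsg.Agent.Lib.helper3.LocalM

variable {M : Ideal AlgInt}

/-- The local ring at `M` as a subring of the complex numbers. -/
def locSubring (M : Ideal AlgInt) [hMp : M.IsPrime] : Subring ℂ where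
  carrier := {z | MemLocalRing M z}
  mul_mem' := fun ha hb => memLocalRing_mul ha hb
  one_mem' := memLocalRing_of_integral isIntegral_one
  add_mem' := fun ha hb => memLocalRing_add ha hb
  zero_mem' := memLocalRing_of_integral isIntegral_zero
  neg_mem' := by
    intro z hz
    have h1 : MemLocalRing M (-1 : ℂ) := memLocalRing_of_integral (isIntegral_one.neg)
    have := memLocalRing_mul h1 hz
    simpa using this

/-- The local ideal as an ideal of the local ring. -/
def locIdeal (M : Ideal AlgInt) [hMp : M.IsPrime] : Ideal (locSubring M) where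
  carrier := {z | MemLocalIdeal M (z : ℂ)}
  add_mem' := fun ha hb => memLocalIdeal_add ha hb
  zero_mem' := memLocalIdeal_zero hMp.ne_top
  smul_mem' := fun c z hz => memLocalIdeal_mul_localRing c.2 hz

theorem one_notMem_locIdeal [hMp : M.IsPrime] : (1 : locSubring M) ∉ locIdeal M := by
  intro h
  exact not_memLocalIdeal_one (M := M) h

/-- Idempotent matrices with local entries, congruent modulo the local ideal, have equal trace. -/
theorem trace_eq_of_idempotent_congr [hMp : M.IsPrime] {I : Type*} [Fintype I] [DecidableEq I]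
    (A B : Matrix I I ℂ) (hA : A * A = A) (hB : B * B = B)
    (hAloc : ∀ i j, MemLocalRing M (A i j)) (hBloc : ∀ i j, MemLocalRing M (B i j))
    (hcong : ∀ i j, MemLocalIdeal M (A i j - B i j)) : A.trace = B.trace := by
  obtain ⟨AR, hAR⟩ : ∃ AR : Matrix I I (locSubring M), AR = fun i j => ⟨A i j, hAloc i j⟩ :=
    ⟨_, rfl⟩
  obtain ⟨BR, hBR⟩ : ∃ BR : Matrix I I (locSubring M), BR = fun i j => ⟨B i j, hBloc i j⟩ :=
    ⟨_, rfl⟩
  have hAmap : AR.map (locSubring M).subtype = A := by
    ext i j
    rw [hAR]
    rfl
  have hBmap : BR.map (locSubring M).subtype = B := by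
    ext i j
    rw [hBR]
    rfl
  have hinj : Function.Injective (fun X : Matrix I I (locSubring M) =>
      X.map (locSubring M).subtype) := by
    intro X Y hXY
    ext i j
    have := congrFun (congrFun hXY i) j
    simp only [Matrix.map_apply] at this
    exact this
  have hARid : AR * AR = AR := by
    apply hinj
    simp only
    rw [Matrix.map_mul, hAmap, hA]
  obtain ⟨π, hπ⟩ : ∃ π : locSubring M →+* (locSubring M ⧸ locIdeal M),
      π = Ideal.Quotient.mk (locIdeal M) := ⟨_, rfl⟩
  have hABπ : AR.map π = BR.map π := by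
    ext i j
    simp only [Matrix.map_apply]
    rw [hπ, Ideal.Quotient.eq, hAR, hBR]
    exact hcong i j
  have hAπid : AR.map π * AR.map π = AR.map π := by
    rw [← Matrix.map_mul, hARid]
  obtain ⟨uR, huR⟩ : ∃ uR : Matrix I I (locSubring M), uR = AR * BR + (1 - AR) * (1 - BR) :=
    ⟨_, rfl⟩
  have huπ : uR.map π = 1 := by
    rw [huR, Matrix.map_add _ (map_add π), Matrix.map_mul, Matrix.map_mul,
      Matrix.map_sub _ (map_sub π), Matrix.map_sub _ (map_sub π),
      Matrix.map_one _ (map_zero π) (map_one π), ← hABπ]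
    rw [hAπid, sub_mul, mul_sub, mul_sub, hAπid]
    simp
  have hdet : uR.det ≠ 0 := by
    intro h0
    have h1 : π uR.det = 1 := by
      rw [RingHom.map_det, RingHom.mapMatrix_apply, huπ, Matrix.det_one]
    rw [h0, map_zero] at h1
    have h2 : π 1 = 0 := by rw [map_one]; exact h1.symm
    rw [hπ, Ideal.Quotient.eq_zero_iff_mem] at h2
    exact one_notMem_locIdeal h2
  obtain ⟨u, hu⟩ : ∃ u : Matrix I I ℂ, u = A * B + (1 - A) * (1 - B) := ⟨_, rfl⟩
  have humap : uR.map (locSubring M).subtype = u := by
    rw [huR, hu, Matrix.map_add _ (map_add _), Matrix.map_mul, Matrix.map_mul,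
      Matrix.map_sub _ (map_sub _), Matrix.map_sub _ (map_sub _),
      Matrix.map_one _ (map_zero _) (map_one _), hAmap, hBmap]
  have hudet : u.det ≠ 0 := by
    rw [← humap]
    have : (uR.map (locSubring M).subtype).det = (locSubring M).subtype uR.det := by
      rw [RingHom.map_det, RingHom.mapMatrix_apply]
    rw [this]
    intro h0
    apply hdet
    apply Subtype.ext
    exact h0
  have hA0 : A * (1 - A) = 0 := by rw [mul_sub, mul_one, hA, sub_self]
  have hB0 : (1 - B) * B = 0 := by rw [sub_mul, one_mul, hB, sub_self]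
  have h1 : A * u = A * B := by
    rw [hu, mul_add, ← mul_assoc, hA, ← mul_assoc, hA0, zero_mul, add_zero]
  have h2 : u * B = A * B := by
    rw [hu, add_mul, mul_assoc, hB, mul_assoc, hB0, mul_zero, add_zero]
  have hunit : IsUnit u.det := isUnit_iff_ne_zero.mpr hudet
  have h3 : A = u * B * u⁻¹ := by
    rw [h2, ← h1, mul_assoc, Matrix.mul_nonsing_inv u hunit, mul_one]
  rw [h3, Matrix.trace_mul_comm, ← mul_assoc, Matrix.nonsing_inv_mul u hunit, one_mul]

end Cfsg.Agent.Lib.helper3.Block
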