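import Mathlib
import Cfsg.Prelude.Def_Blocks
import Cfsg.Agent.Lib.helper3.ProjVanish1

/-!
# The matrices of an idempotent of the group algebra relative to a commutative subgroup
-/

set_option autoImplicit false
set_option linter.style.haveILetI false
set_option linter.unusedSectionVars false

namespace Cfsg.Agent.Lib.helper3.Block

open Cfsg Cfsg.Agent.Lib.helper3.LocalM

variable {G : Type*} [Group G] [Fintype G]

/-- Every element is uniquely a coset representative times an element of the subgroup. -/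
noncomputable def cosetProdEquiv (E : Subgroup G) : (G ⧸ E) × E ≃ G where
  toFun x := Quotient.out x.1 * (x.2 : G)
  invFun g := (QuotientGroup.mk g, ⟨(Quotient.out (QuotientGroup.mk g : G ⧸ E))⁻¹ * g, by
    rw [← QuotientGroup.eq]
    exact Quotient.out_eq' _⟩)
  left_inv := by
    rintro ⟨c, z⟩
    have h1 : (QuotientGroup.mk (Quotient.out c * (z : G)) : G ⧸ E) = c := by
      rw [QuotientGroup.mk_mul_of_mem _ z.2]
      exact Quotient.out_eq' c
    apply Prod.ext
    · exact h1
    · apply Subtype.ext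
      simp only
      rw [h1, inv_mul_cancel_left]
  right_inv := by
    intro g
    simp

theorem cosetProdEquiv_apply (E : Subgroup G) (c : G ⧸ E) (z : E) :
    cosetProdEquiv E (c, z) = Quotient.out c * (z : G) := rfl

/-- The matrix of left multiplication by `ε` on the `μ`-isotypic part for right multiplication by
`E`, in the basis of coset representatives. -/
noncomputable def idemMatrix (E : Subgroup G) [Fintype E] (μ : E →* ℂˣ) (ε : G → ℂ) :
    Matrix (G ⧸ E) (G ⧸ E) ℂ :=
  fun c' c => ∑ z : E, ((μ z : ℂˣ) : ℂ) * ε (Quotient.out c' * (z : G) * (Quotient.out c)⁻¹)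

theorem idemMatrix_mul_self (E : Subgroup G) [Fintype E] [Fintype (G ⧸ E)] (μ : E →* ℂˣ)
    (ε : G → ℂ) (hε : ∀ a : G, ∑ b : G, ε b * ε (b⁻¹ * a) = ε a) :
    idemMatrix E μ ε * idemMatrix E μ ε = idemMatrix E μ ε := by
  ext c'' c
  rw [Matrix.mul_apply]
  unfold idemMatrix
  -- expand the right-hand side with the convolution identity
  have hR : ∀ w : E, ε (Quotient.out c'' * (w : G) * (Quotient.out c)⁻¹)
      = ∑ c' : G ⧸ E, ∑ z' : E, ε (Quotient.out c'' * ((w * z'⁻¹ : E) : G) * (Quotient.out c')⁻¹)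
          * ε (Quotient.out c' * (z' : G) * (Quotient.out c)⁻¹) := by
    intro w
    rw [← hε (Quotient.out c'' * (w : G) * (Quotient.out c)⁻¹)]
    -- reindex b ↦ h
    have h1 : ∑ b : G, ε b * ε (b⁻¹ * (Quotient.out c'' * (w : G) * (Quotient.out c)⁻¹))
        = ∑ h : G, ε (Quotient.out c'' * (w : G) * h⁻¹) * ε (h * (Quotient.out c)⁻¹) := by
      apply Fintype.sum_equiv ((Equiv.inv G).trans (Equiv.mulRight (Quotient.out c'' * (w : G))))
      intro b
      simp only [Equiv.trans_apply, Equiv.inv_apply, Equiv.coe_mulRight]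
      congr 2 <;> group
    rw [h1, ← (cosetProdEquiv E).sum_comp, Fintype.sum_prod_type]
    apply Finset.sum_congr rfl
    intro c' _
    apply Finset.sum_congr rfl
    intro z' _
    rw [cosetProdEquiv_apply]
    congr 2
    · push_cast
      group
  have hRHS : ∑ w : E, ((μ w : ℂˣ) : ℂ) * ε (Quotient.out c'' * (w : G) * (Quotient.out c)⁻¹)
      = ∑ w : E, ∑ c' : G ⧸ E, ∑ z' : E, ((μ w : ℂˣ) : ℂ)
          * (ε (Quotient.out c'' * ((w * z'⁻¹ : E) : G) * (Quotient.out c')⁻¹)
          * ε (Quotient.out c' * (z' : G) * (Quotient.out c)⁻¹)) := by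
    apply Finset.sum_congr rfl
    intro w _
    rw [hR w, Finset.mul_sum]
    apply Finset.sum_congr rfl
    intro c' _
    rw [Finset.mul_sum]
  rw [hRHS, Finset.sum_comm]
  apply Finset.sum_congr rfl
  intro c' _
  rw [Finset.sum_mul_sum]
  rw [Finset.sum_comm (f := fun (z : E) (z' : E) =>
    ((μ z : ℂˣ) : ℂ) * ε (Quotient.out c'' * (z : G) * (Quotient.out c')⁻¹)
      * (((μ z' : ℂˣ) : ℂ) * ε (Quotient.out c' * (z' : G) * (Quotient.out c)⁻¹)))]
  rw [Finset.sum_comm (f := fun (w : E) (z' : E) => ((μ w : ℂˣ) : ℂ)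
          * (ε (Quotient.out c'' * ((w * z'⁻¹ : E) : G) * (Quotient.out c')⁻¹)
          * ε (Quotient.out c' * (z' : G) * (Quotient.out c)⁻¹)))]
  apply Finset.sum_congr rfl
  intro z' _
  symm
  apply Fintype.sum_equiv (Equiv.mulRight z'⁻¹)
  intro w
  simp only [Equiv.coe_mulRight]
  have hw : μ w = μ (w * z'⁻¹) * μ z' := by
    rw [← map_mul, inv_mul_cancel_right]
  rw [hw]
  push_cast
  ring

end Cfsg.Agent.Lib.helper3.Block
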