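import Mathlib
import Cfsg.Prelude.Def_Blocks
import Cfsg.Agent.Lib.helper3.ProjVanish2
import Cfsg.Agent.Lib.helper3.LocalM

/-!
# Idempotents of the group algebra with local coefficients: vanishing at `p`-singular elements
-/

set_option autoImplicit false
set_option linter.style.haveILetI false
set_option linter.unusedSectionVars false

namespace Cfsg.Agent.Lib.helper3.Block

open Cfsg Cfsg.Agent.Lib.helper3.LocalM

variable {G : Type*} [Group G] [Fintype G]

theorem trace_idemMatrix (E : Subgroup G) [Fintype E] [Fintype (G ⧸ E)] (μ : E →* ℂˣ)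
    (ε : G → ℂ) :
    (idemMatrix E μ ε).trace = ∑ z : E, ((μ z : ℂˣ) : ℂ)
      * ∑ c : G ⧸ E, ε (Quotient.out c * (z : G) * (Quotient.out c)⁻¹) := by
  have h1 : (idemMatrix E μ ε).trace = ∑ c : G ⧸ E, idemMatrix E μ ε c c := rfl
  rw [h1]
  unfold idemMatrix
  rw [Finset.sum_comm]
  apply Finset.sum_congr rfl
  intro z _
  rw [Finset.mul_sum]

/-- Dual orthogonality for the characters of a finite commutative group. -/
theorem sum_monoidHom_apply {E : Type*} [CommGroup E] [Finite E] [Fintype (E →* ℂˣ)] (a : E)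
    (ha : a ≠ 1) : ∑ μ : E →* ℂˣ, ((μ a : ℂˣ) : ℂ) = 0 := by
  haveI : NeZero ((Monoid.exponent E : ℕ) : ℂ) := by
    constructor
    have : Monoid.exponent E ≠ 0 := Monoid.exponent_ne_zero_of_finite
    exact_mod_cast this
  obtain ⟨φ, hφ⟩ := CommGroup.exists_apply_ne_one_of_hasEnoughRootsOfUnity E ℂ ha
  have h1 : ∑ μ : E →* ℂˣ, ((μ a : ℂˣ) : ℂ) = ∑ μ : E →* ℂˣ, (((φ * μ) a : ℂˣ) : ℂ) :=
    (Fintype.sum_equiv (Equiv.mulLeft φ) _ _ (fun μ => rfl)).symm
  have h2 : ∑ μ : E →* ℂˣ, (((φ * μ) a : ℂˣ) : ℂ)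
      = ((φ a : ℂˣ) : ℂ) * ∑ μ : E →* ℂˣ, ((μ a : ℂˣ) : ℂ) := by
    rw [Finset.mul_sum]
    apply Finset.sum_congr rfl
    intro μ _
    rw [MonoidHom.mul_apply]
    push_cast
    rfl
  rw [h2] at h1
  have h3 : (1 - ((φ a : ℂˣ) : ℂ)) * ∑ μ : E →* ℂˣ, ((μ a : ℂˣ) : ℂ) = 0 := by
    rw [sub_mul, one_mul, ← h1, sub_self]
  rcases mul_eq_zero.mp h3 with h | h
  · exfalso
    apply hφ
    have : ((φ a : ℂˣ) : ℂ) = 1 := (sub_eq_zero.mp h).symm
    exact Units.ext this
  · exact h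

variable {M : Ideal AlgInt}

/-- The congruence between the matrices attached to `μ` and to `μ * λ₀`, when `λ₀` has values
of `p`-power order. -/
theorem idemMatrix_congr {p : ℕ} (hM : IsPModular p M) (E : Subgroup G) [Fintype E]
    (μ lam : E →* ℂˣ) (hlam : ∀ z : E, (lam z) ^ p = 1) (ε : G → ℂ)
    (hεloc : ∀ g, MemLocalRing M (ε g)) (c' c : G ⧸ E) :
    MemLocalIdeal M (idemMatrix E (μ * lam) ε c' c - idemMatrix E μ ε c' c) := by
  classical
  haveI hMp := isPrime_of_isPModular hM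
  have hMtop : M ≠ ⊤ := hM.2.1.ne_top
  unfold idemMatrix
  rw [← Finset.sum_sub_distrib]
  apply memLocalIdeal_sum
  intro z _
  have hn : 0 < Nat.card E := Nat.card_pos
  have hμint : IsIntegral ℤ (((μ z : ℂˣ)) : ℂ) := by
    apply IsIntegral.of_pow hn
    have : (μ z) ^ Nat.card E = 1 := by
      rw [← map_pow, pow_card_eq_one', map_one]
    have h2 : (((μ z : ℂˣ)) : ℂ) ^ Nat.card E = 1 := by
      rw [← Units.val_pow_eq_pow_val, this, Units.val_one]
    rw [h2]
    exact isIntegral_one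
  have hlp : (((lam z : ℂˣ)) : ℂ) ^ p = 1 := by
    rw [← Units.val_pow_eq_pow_val, hlam z, Units.val_one]
  have hlint : IsIntegral ℤ (((lam z : ℂˣ)) : ℂ) := by
    apply IsIntegral.of_pow hM.1.pos
    rw [hlp]
    exact isIntegral_one
  have hl1 : MemLocalIdeal M ((((lam z : ℂˣ)) : ℂ) - 1) := by
    have h1 : (⟨_, hlint⟩ : AlgInt) ^ p ^ 1 = 1 := by
      apply Subtype.ext
      rw [pow_one]
      exact hlp
    have := sub_one_mem_of_pow hM ⟨_, hlint⟩ 1 h1
    exact memLocalIdeal_of_mem this hMtop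
  have e : (((μ * lam) z : ℂˣ) : ℂ) * ε (Quotient.out c' * (z : G) * (Quotient.out c)⁻¹)
      - ((μ z : ℂˣ) : ℂ) * ε (Quotient.out c' * (z : G) * (Quotient.out c)⁻¹)
      = ε (Quotient.out c' * (z : G) * (Quotient.out c)⁻¹)
        * (((μ z : ℂˣ) : ℂ) * ((((lam z : ℂˣ)) : ℂ) - 1)) := by
    rw [MonoidHom.mul_apply]
    push_cast
    ring
  rw [e]
  exact memLocalIdeal_mul_localRing (hεloc _) (memLocalIdeal_mul_integral hl1 hμint)

theorem memLocalRing_idemMatrix [hMp : M.IsPrime] (E : Subgroup G) [Fintype E]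
    (μ : E →* ℂˣ) (ε : G → ℂ) (hεloc : ∀ g, MemLocalRing M (ε g)) (c' c : G ⧸ E) :
    MemLocalRing M (idemMatrix E μ ε c' c) := by
  unfold idemMatrix
  apply memLocalRing_sum
  intro z _
  have hn : 0 < Nat.card E := Nat.card_pos
  have hμint : IsIntegral ℤ (((μ z : ℂˣ)) : ℂ) := by
    apply IsIntegral.of_pow hn
    have : (μ z) ^ Nat.card E = 1 := by
      rw [← map_pow, pow_card_eq_one', map_one]
    have h2 : (((μ z : ℂˣ)) : ℂ) ^ Nat.card E = 1 := by
      rw [← Units.val_pow_eq_pow_val, this, Units.val_one]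
    rw [h2]
    exact isIntegral_one
  exact memLocalRing_mul (memLocalRing_of_integral hμint) (hεloc _)

end Cfsg.Agent.Lib.helper3.Block
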