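import Mathlib
import Cfsg.Prelude.Def_Blocks
import Cfsg.Agent.Lib.helper3.ProjVanish3

/-!
# Idempotents of the group algebra with local coefficients vanish, in class-trace, at `p`-singular
elements
-/

set_option autoImplicit false
set_option linter.style.haveILetI false
set_option linter.unusedSectionVars false

namespace Cfsg.Agent.Lib.helper3.Block

open Cfsg Cfsg.Agent.Lib.helper3.LocalM

variable {G : Type*} [Group G] [Fintype G] {M : Ideal AlgInt}

/-- Key step: the coset-representative sum at `y` vanishes. -/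
theorem sum_out_conj_eq_zero {p : ℕ} (hM : IsPModular p M) (ε : G → ℂ)
    (hεloc : ∀ g, MemLocalRing M (ε g)) (hε : ∀ a : G, ∑ b : G, ε b * ε (b⁻¹ * a) = ε a)
    (E : Subgroup G) (hEc : ∀ a b : E, a * b = b * a) [Fintype (G ⧸ E)] (y : E) (lam : E →* ℂˣ)
    (hlam : ∀ z : E, (lam z) ^ p = 1) (hy : lam y ≠ 1) :
    ∑ c : G ⧸ E, ε (Quotient.out c * (y : G) * (Quotient.out c)⁻¹) = 0 := by
  classical
  letI : Fintype E := Fintype.ofFinite E
  haveI hMp := isPrime_of_isPModular hM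
  letI : CommGroup E := { (inferInstance : Group E) with mul_comm := hEc }
  haveI : NeZero ((Monoid.exponent E : ℕ) : ℂ) := by
    constructor
    have : Monoid.exponent E ≠ 0 := Monoid.exponent_ne_zero_of_finite
    exact_mod_cast this
  letI : Fintype (E →* ℂˣ) := Fintype.ofFinite _
  obtain ⟨S, hS⟩ : ∃ S : E → ℂ, S = fun z : E =>
      ∑ c : G ⧸ E, ε (Quotient.out c * (z : G) * (Quotient.out c)⁻¹) := ⟨_, rfl⟩
  -- equality of traces
  have htr : ∀ μ : E →* ℂˣ, ∑ z : E, ((μ z : ℂˣ) : ℂ) * S z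
      = ∑ z : E, (((μ * lam) z : ℂˣ) : ℂ) * S z := by
    intro μ
    have h1 := trace_eq_of_idempotent_congr (M := M) (idemMatrix E (μ * lam) ε) (idemMatrix E μ ε)
      (idemMatrix_mul_self E _ ε hε) (idemMatrix_mul_self E _ ε hε)
      (memLocalRing_idemMatrix E _ ε hεloc) (memLocalRing_idemMatrix E _ ε hεloc)
      (idemMatrix_congr hM E μ lam hlam ε hεloc)
    rw [trace_idemMatrix, trace_idemMatrix] at h1
    rw [hS]
    exact h1.symm
  -- Fourier inversion at `y`
  have horth : ∀ a : E, ∑ μ : E →* ℂˣ, ((μ a : ℂˣ) : ℂ)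
      = if a = 1 then (Fintype.card (E →* ℂˣ) : ℂ) else 0 := by
    intro a
    split_ifs with h
    · rw [h]
      simp
    · exact sum_monoidHom_apply a h
  have hF : ∀ F : E → ℂ, ∑ μ : E →* ℂˣ, ((μ y⁻¹ : ℂˣ) : ℂ) * ∑ z : E, ((μ z : ℂˣ) : ℂ) * F z
      = (Fintype.card (E →* ℂˣ) : ℂ) * F y := by
    intro F
    simp_rw [Finset.mul_sum]
    rw [Finset.sum_comm]
    have h2 : ∀ z : E, ∑ μ : E →* ℂˣ, ((μ y⁻¹ : ℂˣ) : ℂ) * (((μ z : ℂˣ) : ℂ) * F z)
        = (if y⁻¹ * z = 1 then (Fintype.card (E →* ℂˣ) : ℂ) else 0) * F z := by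
      intro z
      rw [← horth (y⁻¹ * z), Finset.sum_mul]
      apply Finset.sum_congr rfl
      intro μ _
      rw [map_mul]
      push_cast
      ring
    rw [Finset.sum_congr rfl (fun z _ => h2 z), Finset.sum_eq_single y]
    · rw [if_pos (inv_mul_cancel y)]
    · intro z _ hz
      rw [if_neg, zero_mul]
      intro h
      apply hz
      have := eq_inv_of_mul_eq_one_right h
      rw [inv_inv] at this
      exact this
    · intro h
      exact absurd (Finset.mem_univ _) h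
  have h3 := hF S
  have h4 := hF (fun z => ((lam z : ℂˣ) : ℂ) * S z)
  have h5 : ∑ μ : E →* ℂˣ, ((μ y⁻¹ : ℂˣ) : ℂ) * ∑ z : E, ((μ z : ℂˣ) : ℂ) * S z
      = ∑ μ : E →* ℂˣ, ((μ y⁻¹ : ℂˣ) : ℂ)
          * ∑ z : E, ((μ z : ℂˣ) : ℂ) * (((lam z : ℂˣ) : ℂ) * S z) := by
    apply Finset.sum_congr rfl
    intro μ _
    rw [htr μ]
    congr 1
    apply Finset.sum_congr rfl
    intro z _
    rw [MonoidHom.mul_apply]
    push_cast
    ring
  rw [h3, h4] at h5
  have hcard : (Fintype.card (E →* ℂˣ) : ℂ) ≠ 0 := by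
    have : Fintype.card (E →* ℂˣ) ≠ 0 := Fintype.card_ne_zero
    exact_mod_cast this
  have h6 : S y = ((lam y : ℂˣ) : ℂ) * S y := mul_left_cancel₀ hcard h5
  have h7 : (1 - ((lam y : ℂˣ) : ℂ)) * S y = 0 := by
    rw [sub_mul, one_mul, ← h6, sub_self]
  rcases mul_eq_zero.mp h7 with h | h
  · exfalso
    apply hy
    have : ((lam y : ℂˣ) : ℂ) = 1 := (sub_eq_zero.mp h).symm
    exact Units.ext this
  · rw [hS] at h
    exact h

end Cfsg.Agent.Lib.helper3.Block
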