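import Mathlib
import Cfsg.Prelude.Def_Blocks
import Cfsg.Agent.Lib.helper3.ProjVanish4

/-!
# Idempotents of the group algebra with local coefficients vanish, in class-trace, at `p`-singular
elements: the final statement
-/

set_option autoImplicit false
set_option linter.style.haveILetI false
set_option linter.unusedSectionVars false

namespace Cfsg.Agent.Lib.helper3.Block

open Cfsg Cfsg.Agent.Lib.helper3.LocalM

variable {G : Type*} [Group G] [Fintype G] {M : Ideal AlgInt}

/-- An idempotent `ε` of the group algebra whose coefficients are local at `M` has class-trace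
zero at every `p`-singular element. -/
theorem sum_conj_eq_zero_of_idempotent {p : ℕ} (hM : IsPModular p M) (ε : G → ℂ)
    (hεloc : ∀ g, MemLocalRing M (ε g)) (hε : ∀ a : G, ∑ b : G, ε b * ε (b⁻¹ * a) = ε a)
    (y : G) (hy : p ∣ orderOf y) : ∑ g : G, ε (g * y * g⁻¹) = 0 := by
  classical
  have hp : p.Prime := hM.1
  obtain ⟨E, hE⟩ : ∃ E : Subgroup G, E = Subgroup.zpowers y := ⟨_, rfl⟩
  have hmemE : ∀ a : E, ∃ i : ℤ, y ^ i = (a : G) := by
    intro a
    have h1 : (a : G) ∈ Subgroup.zpowers y := hE ▸ a.2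
    exact Subgroup.mem_zpowers_iff.mp h1
  have hEc : ∀ a b : E, a * b = b * a := by
    intro a b
    obtain ⟨i, hi⟩ := hmemE a
    obtain ⟨j, hj⟩ := hmemE b
    apply Subtype.ext
    rw [Subgroup.coe_mul, Subgroup.coe_mul, ← hi, ← hj, ← zpow_add, ← zpow_add, add_comm]
  letI : Fintype E := Fintype.ofFinite E
  letI : Fintype (G ⧸ E) := Fintype.ofFinite _
  letI : CommGroup E := { (inferInstance : Group E) with mul_comm := hEc }
  haveI : NeZero ((Monoid.exponent E : ℕ) : ℂ) := by
    constructor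
    have : Monoid.exponent E ≠ 0 := Monoid.exponent_ne_zero_of_finite
    exact_mod_cast this
  have hyE : y ∈ E := by
    rw [hE]
    exact Subgroup.mem_zpowers y
  obtain ⟨k, hk⟩ := hy
  have hn0 : 0 < orderOf y := orderOf_pos y
  have hk0 : 0 < k := by
    rcases Nat.eq_zero_or_pos k with h | h
    · rw [h, mul_zero] at hk
      omega
    · exact h
  have hkn : k < orderOf y := by
    rw [hk]
    have := hp.two_le
    nlinarith
  have hv : (⟨y, hyE⟩ : E) ^ k ≠ 1 := by
    intro h
    have h1 : y ^ k = 1 := by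
      have := congrArg (Subtype.val) h
      simpa using this
    have := orderOf_dvd_of_pow_eq_one h1
    have := Nat.le_of_dvd hk0 this
    omega
  obtain ⟨φ, hφ⟩ := CommGroup.exists_apply_ne_one_of_hasEnoughRootsOfUnity E ℂ hv
  have hzn : ∀ z : E, z ^ orderOf y = 1 := by
    intro z
    obtain ⟨i, hi⟩ := hmemE z
    apply Subtype.ext
    rw [Subgroup.coe_pow, ← hi, Subgroup.coe_one, ← zpow_natCast, ← zpow_mul, mul_comm, zpow_mul,
      zpow_natCast, pow_orderOf_eq_one, one_zpow]
  have hlam : ∀ z : E, ((φ ^ k) z) ^ p = 1 := by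
    intro z
    rw [MonoidHom.pow_apply, ← pow_mul, ← map_pow, mul_comm, ← hk, hzn z, map_one]
  have hlamy : (φ ^ k) (⟨y, hyE⟩ : E) ≠ 1 := by
    rw [MonoidHom.pow_apply, ← map_pow]
    exact hφ
  have h0 := sum_out_conj_eq_zero hM ε hεloc hε E hEc (⟨y, hyE⟩ : E) (φ ^ k) hlam hlamy
  -- decompose the sum along cosets
  rw [← (cosetProdEquiv E).sum_comp, Fintype.sum_prod_type]
  have h1 : ∀ c : G ⧸ E, ∑ z : E, ε (cosetProdEquiv E (c, z) * y * (cosetProdEquiv E (c, z))⁻¹)
      = (Fintype.card E : ℂ) * ε (Quotient.out c * y * (Quotient.out c)⁻¹) := by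
    intro c
    rw [← nsmul_eq_mul, ← Finset.card_univ, ← Finset.sum_const]
    apply Finset.sum_congr rfl
    intro z _
    rw [cosetProdEquiv_apply]
    have h2 : (z : G) * y * (z : G)⁻¹ = y := by
      have := hEc z ⟨y, hyE⟩
      have h3 := congrArg Subtype.val this
      simp only [Subgroup.coe_mul] at h3
      rw [h3, mul_inv_cancel_right]
    congr 1
    rw [mul_inv_rev]
    calc Quotient.out c * (z : G) * y * ((z : G)⁻¹ * (Quotient.out c)⁻¹)
        = Quotient.out c * ((z : G) * y * (z : G)⁻¹) * (Quotient.out c)⁻¹ := by group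
      _ = _ := by rw [h2]
  rw [Finset.sum_congr rfl (fun c _ => h1 c), ← Finset.mul_sum]
  have h4 : ∑ c : G ⧸ E, ε (Quotient.out c * y * (Quotient.out c)⁻¹) = 0 := h0
  rw [h4, mul_zero]

end Cfsg.Agent.Lib.helper3.Block
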