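import Mathlib
import Cfsg.Prelude.Def_Blocks
import Cfsg.Agent.Lib.helper3.ProjVanish5
import Cfsg.Agent.Lib.helper3.BlockCover2
import Cfsg.Agent.Lib.helper3.GalPow
import Cfsg.Agent.Lib.helper3.Irr13

/-!
# Weak block orthogonality
-/

set_option autoImplicit false
set_option linter.style.haveILetI false
set_option linter.unusedSectionVars false

namespace Cfsg.Agent.Lib.helper3.Block

open Cfsg Cfsg.Agent.Lib.helper3.LocalM Cfsg.Agent.Lib.helper3.CharBasic
open Cfsg.Agent.Lib.helper3.Irr Cfsg.Agent.Lib.helper3.GalPow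
open scoped ComplexConjugate

/-- Fourier inversion on a finite commutative group. -/
theorem fourier_inversion {E : Type*} [CommGroup E] [Fintype E] [Fintype (E →* ℂˣ)]
    (F : E → ℂ) (y : E) :
    ∑ μ : E →* ℂˣ, ((μ y⁻¹ : ℂˣ) : ℂ) * ∑ z : E, ((μ z : ℂˣ) : ℂ) * F z
      = (Fintype.card (E →* ℂˣ) : ℂ) * F y := by
  classical
  have horth : ∀ a : E, ∑ μ : E →* ℂˣ, ((μ a : ℂˣ) : ℂ)
      = if a = 1 then (Fintype.card (E →* ℂˣ) : ℂ) else 0 := by
    intro a
    split_ifs with h
    · rw [h]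
      simp
    · exact sum_monoidHom_apply a h
  simp_rw [Finset.mul_sum]
  rw [Finset.sum_comm]
  have h2 : ∀ z : E, ∑ μ : E →* ℂˣ, ((μ y⁻¹ : ℂˣ) : ℂ) * (((μ z : ℂˣ) : ℂ) * F z)
      = (if y⁻¹ * z = 1 then (Fintype.card (E →* ℂˣ) : ℂ) else 0) * F z := by
    intro z
    rw [← horth (y⁻¹ * z), Finset.sum_mul]
    apply Finset.sum_congr rfl
    intro μ _
    rw [map_mul]
    push_cast
    ring
  rw [Finset.sum_congr rfl (fun z _ => h2 z), Finset.sum_eq_single y]
  · rw [if_pos (inv_mul_cancel y)]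
  · intro z _ hz
    rw [if_neg, zero_mul]
    intro h
    apply hz
    have := eq_inv_of_mul_eq_one_right h
    rw [inv_inv] at this
    exact this
  · intro h
    exact absurd (Finset.mem_univ _) h

variable {G : Type*} [Group G] [Fintype G] {M : Ideal AlgInt}

theorem blockCoeff_conj' (S : Set (IrrCharacter G)) (g h : G) :
    blockCoeff S (h * g * h⁻¹) = blockCoeff S g := by
  classical
  rw [blockCoeff_eq_coef, blockCoeff_eq_coef, coef_conj]

theorem blockCoeff_idem (S : Set (IrrCharacter G)) (a : G) :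
    ∑ b : G, blockCoeff S b * blockCoeff S (b⁻¹ * a) = blockCoeff S a := by
  classical
  have h1 : (fun χ : IrrCharacter G => if χ ∈ S then (1 : ℂ) else 0)
      * (fun χ : IrrCharacter G => if χ ∈ S then (1 : ℂ) else 0)
      = (fun χ : IrrCharacter G => if χ ∈ S then (1 : ℂ) else 0) := by
    funext χ
    simp only [Pi.mul_apply]
    split_ifs <;> simp
  have h2 := coef_mul (fun χ : IrrCharacter G => if χ ∈ S then (1 : ℂ) else 0)
    (fun χ : IrrCharacter G => if χ ∈ S then (1 : ℂ) else 0) a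
  rw [h1] at h2
  rw [blockCoeff_eq_coef, h2]
  apply Finset.sum_congr rfl
  intro b _
  rw [blockCoeff_eq_coef, blockCoeff_eq_coef]

open Classical in
theorem sum_blockCoeff_mul_conj (S : Set (IrrCharacter G)) (a y : G) :
    ∑ g : G, blockCoeff S (a * (g * y * g⁻¹))
      = ∑ χ : IrrCharacter G, (if χ ∈ S then (1 : ℂ) else 0)
          * (conj ((χ : G → ℂ) a) * conj ((χ : G → ℂ) y)) := by
  have hG0 : (Nat.card G : ℂ) ≠ 0 := by
    have : Nat.card G ≠ 0 := Nat.card_pos.ne'
    exact_mod_cast this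
  have h1 : ∀ g : G, blockCoeff S (a * (g * y * g⁻¹))
      = (Nat.card G : ℂ)⁻¹ * ∑ χ : IrrCharacter G, (if χ ∈ S then (1 : ℂ) else 0)
          * (χ : G → ℂ) 1 * conj ((χ : G → ℂ) (a * (g * y * g⁻¹))) := by
    intro g
    rw [blockCoeff_eq_coef]
    rfl
  rw [Finset.sum_congr rfl (fun g _ => h1 g), ← Finset.mul_sum, Finset.sum_comm, Finset.mul_sum]
  apply Finset.sum_congr rfl
  intro χ _
  rw [← Finset.mul_sum, ← map_sum]
  have h2 := sum_irr_conj_mul χ.2 a y
  have h3 := apply_one_ne_zero χ.2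
  have h4 : ∑ g : G, (χ : G → ℂ) (a * (g * y * g⁻¹))
      = (Nat.card G : ℂ) * (χ : G → ℂ) a * (χ : G → ℂ) y / (χ : G → ℂ) 1 := by
    rw [eq_div_iff h3, mul_comm]
    exact h2
  rw [h4, map_div₀, map_mul, map_mul, Complex.conj_natCast, conj_apply_one]
  field_simp

open Classical in
/-- **Weak block orthogonality**, for any set of characters closed under the block relation. -/
theorem weak_block_orthogonality {p : ℕ} (hM : IsPModular p M) (S : Set (IrrCharacter G))
    (hS : ∀ θ ∈ S, blockOf M (θ : G → ℂ) ⊆ S) (x y : G) (hx : ¬ p ∣ orderOf x)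
    (hy : p ∣ orderOf y) :
    ∑ χ : IrrCharacter G, (if χ ∈ S then (1 : ℂ) else 0)
      * ((χ : G → ℂ) x * conj ((χ : G → ℂ) y)) = 0 := by
  classical
  haveI hMp := isPrime_of_isPModular hM
  obtain ⟨E, hE⟩ : ∃ E : Subgroup G, E = Subgroup.zpowers x := ⟨_, rfl⟩
  have hmemE : ∀ a : E, ∃ i : ℤ, x ^ i = (a : G) := by
    intro a
    have h1 : (a : G) ∈ Subgroup.zpowers x := hE ▸ a.2
    exact Subgroup.mem_zpowers_iff.mp h1
  have hEc : ∀ a b : E, a * b = b * a := by
    intro a b
    obtain ⟨i, hi⟩ := hmemE a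
    obtain ⟨j, hj⟩ := hmemE b
    apply Subtype.ext
    rw [Subgroup.coe_mul, Subgroup.coe_mul, ← hi, ← hj, ← zpow_add, ← zpow_add, add_comm]
  letI : Fintype E := Fintype.ofFinite E
  letI : CommGroup E := { (inferInstance : Group E) with mul_comm := hEc }
  letI : Fintype (E →* ℂˣ) := Fintype.ofFinite _
  have hxE : x ∈ E := by
    rw [hE]
    exact Subgroup.mem_zpowers x
  have hcardE : Fintype.card E = orderOf x := by
    rw [← Nat.card_eq_fintype_card, hE, Nat.card_zpowers]
  -- the function `T`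
  obtain ⟨T, hT⟩ : ∃ T : E → ℂ, T = fun z : E =>
      ∑ χ : IrrCharacter G, (if χ ∈ S then (1 : ℂ) else 0)
        * ((χ : G → ℂ) (z : G) * conj ((χ : G → ℂ) y)) := ⟨_, rfl⟩
  have hTz : ∀ z : E, ∑ g : G, blockCoeff S ((z : G)⁻¹ * (g * y * g⁻¹)) = T z := by
    intro z
    rw [sum_blockCoeff_mul_conj, hT]
    apply Finset.sum_congr rfl
    intro χ _
    rw [isCharacter_apply_inv (isCharacter_of_isIrrCharacter χ.2), Complex.conj_conj]
  -- the key vanishing
  have hkey : ∀ μ : E →* ℂˣ, ∑ z : E, ((μ z : ℂˣ) : ℂ) * T z = 0 := by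
    intro μ
    obtain ⟨ε, hεdef⟩ : ∃ ε : G → ℂ, ε = fun g : G => (Fintype.card E : ℂ)⁻¹
        * ∑ z : E, ((μ z : ℂˣ) : ℂ) * blockCoeff S ((z : G)⁻¹ * g) := ⟨_, rfl⟩
    have hcard0 : (Fintype.card E : ℂ) ≠ 0 := by
      have : Fintype.card E ≠ 0 := Fintype.card_ne_zero
      exact_mod_cast this
    have hεloc : ∀ g, MemLocalRing M (ε g) := by
      intro g
      rw [hεdef]
      have h1 : MemLocalRing M ((Fintype.card E : ℂ)⁻¹) := by
        refine ⟨1, (Fintype.card E : AlgInt), ?_, ?_⟩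
        · rw [natCast_mem_iff hM, hcardE]
          exact hx
        · simp
      have h2 : MemLocalRing M (∑ z : E, ((μ z : ℂˣ) : ℂ) * blockCoeff S ((z : G)⁻¹ * g)) := by
        apply memLocalRing_sum
        intro z _
        have hn : 0 < Nat.card E := Nat.card_pos
        have hμint : IsIntegral ℤ (((μ z : ℂˣ)) : ℂ) := by
          apply IsIntegral.of_pow hn
          have : (μ z) ^ Nat.card E = 1 := by
            rw [← map_pow, pow_card_eq_one', map_one]
          have h2 : (((μ z : ℂˣ)) : ℂ) ^ Nat.card E = 1 := by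
            rw [← Units.val_pow_eq_pow_val, this, Units.val_one]
          rw [h2]
          exact isIntegral_one
        exact memLocalRing_mul (memLocalRing_of_integral hμint)
          (memLocalRing_blockCoeff_of_closed hM S hS _)
      exact memLocalRing_mul h1 h2
    have hε : ∀ a : G, ∑ b : G, ε b * ε (b⁻¹ * a) = ε a := by
      intro a
      have h1 : ∀ b : G, ε b * ε (b⁻¹ * a) = (Fintype.card E : ℂ)⁻¹ * (Fintype.card E : ℂ)⁻¹
          * ∑ z : E, ∑ w : E, ((μ z : ℂˣ) : ℂ) * ((μ w : ℂˣ) : ℂ)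
            * (blockCoeff S ((z : G)⁻¹ * b) * blockCoeff S ((w : G)⁻¹ * (b⁻¹ * a))) := by
        intro b
        rw [hεdef]
        beta_reduce
        rw [mul_mul_mul_comm, Finset.sum_mul_sum]
        congr 1
        apply Finset.sum_congr rfl
        intro z _
        apply Finset.sum_congr rfl
        intro w _
        ring
      rw [Finset.sum_congr rfl (fun b _ => h1 b), ← Finset.mul_sum, Finset.sum_comm]
      have h2 : ∀ z : E, ∑ b : G, ∑ w : E, ((μ z : ℂˣ) : ℂ) * ((μ w : ℂˣ) : ℂ)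
            * (blockCoeff S ((z : G)⁻¹ * b) * blockCoeff S ((w : G)⁻¹ * (b⁻¹ * a)))
          = ∑ w : E, (((μ (z * w) : ℂˣ) : ℂ)) * blockCoeff S (((z * w : E) : G)⁻¹ * a) := by
        intro z
        rw [Finset.sum_comm]
        apply Finset.sum_congr rfl
        intro w _
        rw [← Finset.mul_sum, map_mul, Units.val_mul]
        congr 1
        have h4 : blockCoeff S (((z * w : E) : G)⁻¹ * a)
            = blockCoeff S ((z : G)⁻¹ * a * (w : G)⁻¹) := by
          rw [← blockCoeff_conj' S ((z : G)⁻¹ * a * (w : G)⁻¹) (w : G)⁻¹]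
          congr 1
          rw [Subgroup.coe_mul]
          group
        rw [h4, ← blockCoeff_idem S ((z : G)⁻¹ * a * (w : G)⁻¹)]
        apply Fintype.sum_equiv (Equiv.mulLeft ((z : G)⁻¹))
        intro b
        rw [Equiv.coe_mulLeft]
        congr 1
        rw [← blockCoeff_conj' S _ (w : G)]
        congr 1
        group
      rw [Finset.sum_congr rfl (fun z _ => h2 z)]
      have h3 : ∀ z : E, ∑ w : E, (((μ (z * w) : ℂˣ) : ℂ)) * blockCoeff S (((z * w : E) : G)⁻¹ * a)
          = ∑ w : E, (((μ w : ℂˣ) : ℂ)) * blockCoeff S ((w : G)⁻¹ * a) := by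
        intro z
        exact Fintype.sum_equiv (Equiv.mulLeft z) _ _ (fun w => rfl)
      rw [Finset.sum_congr rfl (fun z _ => h3 z), Finset.sum_const, Finset.card_univ, hεdef,
        nsmul_eq_mul]
      field_simp
    have h0 := sum_conj_eq_zero_of_idempotent hM ε hεloc hε y hy
    rw [hεdef] at h0
    beta_reduce at h0
    rw [← Finset.mul_sum, Finset.sum_comm] at h0
    have h5 : ∑ z : E, ∑ g : G, ((μ z : ℂˣ) : ℂ) * blockCoeff S ((z : G)⁻¹ * (g * y * g⁻¹)) = 0 := by
      rcases mul_eq_zero.mp h0 with h | h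
      · exact absurd (inv_eq_zero.mp h) hcard0
      · exact h
    rw [← h5]
    apply Finset.sum_congr rfl
    intro z _
    rw [← hTz z, Finset.mul_sum]
  have h6 := fourier_inversion T (⟨x, hxE⟩ : E)
  rw [Finset.sum_congr rfl (fun μ _ => by rw [hkey μ, mul_zero]), Finset.sum_const_zero] at h6
  have hcard : (Fintype.card (E →* ℂˣ) : ℂ) ≠ 0 := by
    have : Fintype.card (E →* ℂˣ) ≠ 0 := Fintype.card_ne_zero
    exact_mod_cast this
  have h7 : T (⟨x, hxE⟩ : E) = 0 := by
    rcases mul_eq_zero.mp h6.symm with h | h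
    · exact absurd h hcard
    · exact h
  rw [hT] at h7
  exact h7

end Cfsg.Agent.Lib.helper3.Block
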