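import Mathlib
import Cfsg.Prelude.Def_Blocks
import Cfsg.Agent.Lib.helper3.ProjVanish6
import Cfsg.Agent.Lib.helper3.InvTrace
import Cfsg.Agent.Lib.helper3.BlockBasic
import Cfsg.Agent.Lib.helper3.Degrees
import Cfsg.Agent.Lib.helper3.Irr5
import Cfsg.Agent.Lib.helper3.Irr13
import Cfsg.Agent.Lib.helper3.Lin

/-!
# The order of a defect group
-/

set_option autoImplicit false
set_option linter.style.haveILetI false
set_option linter.unusedSectionVars false

namespace Cfsg.Agent.Lib.helper3.Block

open Cfsg Cfsg.Agent.Lib.helper3.LocalM Cfsg.Agent.Lib.helper3.CharBasic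
open Cfsg.Agent.Lib.helper3.Irr Cfsg.Agent.Lib.helper3.Central Cfsg.Agent.Lib.helper3.Lin
open scoped ComplexConjugate

variable {G : Type*} [Group G] [Fintype G] {M : Ideal AlgInt}

theorem charDegree_eq {χ : G → ℂ} {d : ℕ} (hd : χ 1 = d) : charDegree χ = d := by
  unfold charDegree
  rw [hd, Complex.natCast_re, Nat.floor_natCast]

open Classical in
/-- The sum of `χ(1) χ(y)` over a closed set of characters vanishes at `p`-singular `y`. -/
theorem sum_degree_mul_eq_zero {p : ℕ} (hM : IsPModular p M) (S : Set (IrrCharacter G))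
    (hS : ∀ θ ∈ S, blockOf M (θ : G → ℂ) ⊆ S) (y : G) (hy : p ∣ orderOf y) :
    ∑ χ : IrrCharacter G, (if χ ∈ S then (1 : ℂ) else 0)
      * ((χ : G → ℂ) 1 * (χ : G → ℂ) y) = 0 := by
  have hp : p.Prime := hM.1
  have h1 := weak_block_orthogonality hM S hS 1 y⁻¹
    (by rw [orderOf_one]; exact hp.one_lt.ne' ∘ Nat.dvd_one.mp) (by rw [orderOf_inv]; exact hy)
  refine Eq.trans (Finset.sum_congr rfl ?_) h1
  intro χ _
  rw [isCharacter_apply_inv (isCharacter_of_isIrrCharacter χ.2), Complex.conj_conj]

/-- The `p`-part of the centralizer order of a defect class is `p` to the defect of the block. -/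
theorem factorization_centralizer_of_isDefectClass {p : ℕ} [Fact p.Prime] (hM : IsPModular p M)
    (B : Set (IrrCharacter G)) (hB : IsPBlock M B) (g : G) (hg : IsDefectClass M B g) :
    (Nat.card (Subgroup.centralizer ({g} : Set G))).factorization p = blockDefect p B := by
  classical
  haveI hMp := isPrime_of_isPModular hM
  have hMtop : M ≠ ⊤ := hM.2.1.ne_top
  have hp : p.Prime := hM.1
  obtain ⟨χ₀, hBeq⟩ := hB
  have hS : ∀ θ ∈ B, blockOf M (θ : G → ℂ) ⊆ B := by
    intro θ hθ ψ hψ
    rw [hBeq] at hθ ⊢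
    exact sameBlock_trans hθ hψ
  have hχ₀ : χ₀ ∈ B := by
    rw [hBeq]
    exact sameBlock_refl hMtop _
  obtain ⟨a, ha⟩ : ∃ a, a = (Nat.card G).factorization p := ⟨_, rfl⟩
  obtain ⟨e, he⟩ : ∃ e, e = sInf ((fun χ : IrrCharacter G =>
      (charDegree (χ : G → ℂ)).factorization p) '' B) := ⟨_, rfl⟩
  obtain ⟨δ, hδ⟩ : ∃ δ, δ = (Nat.card (Subgroup.centralizer ({g} : Set G))).factorization p :=
    ⟨_, rfl⟩
  have hdef : blockDefect p B = a - e := by
    unfold blockDefect
    rw [ha, he]
  rw [hdef, ← hδ]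
  have hne : ((fun χ : IrrCharacter G => (charDegree (χ : G → ℂ)).factorization p) '' B).Nonempty :=
    ⟨_, χ₀, hχ₀, rfl⟩
  obtain ⟨χ₁, hχ₁, hχ₁e⟩ := Nat.sInf_mem hne
  rw [← he] at hχ₁e
  beta_reduce at hχ₁e
  have hle : ∀ χ ∈ B, e ≤ (charDegree (χ : G → ℂ)).factorization p := by
    intro χ hχ
    rw [he]
    exact Nat.sInf_le ⟨χ, hχ, rfl⟩
  -- the class size
  obtain ⟨C, hC⟩ : ∃ C : Subgroup G, C = Subgroup.centralizer ({g} : Set G) := ⟨_, rfl⟩
  rw [← hC] at hδ
  have hGC : Nat.card G = C.index * Nat.card C := (Subgroup.index_mul_card C).symm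
  have hidx0 : C.index ≠ 0 := Subgroup.index_ne_zero_of_finite
  have hC0 : Nat.card C ≠ 0 := Nat.card_pos.ne'
  have hfac : a = (C.index).factorization p + δ := by
    rw [ha, hδ, hGC, Nat.factorization_mul hidx0 hC0]
    rfl
  obtain ⟨m, hm⟩ : p ^ a ∣ Nat.card G := ha ▸ Nat.ordProj_dvd _ _
  have hmp : ¬ p ∣ m := by
    intro h
    have h1 : p ^ (a + 1) ∣ Nat.card G := by
      rw [hm, pow_succ]
      exact mul_dvd_mul_left _ h
    rw [ha] at h1
    exact Nat.pow_succ_factorization_not_dvd Nat.card_pos.ne' hp h1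
  have hG0 : (Nat.card G : ℂ) ≠ 0 := by
    have : Nat.card G ≠ 0 := Nat.card_pos.ne'
    exact_mod_cast this
  have hp0 : (p : ℂ) ≠ 0 := by
    have : p ≠ 0 := hp.ne_zero
    exact_mod_cast this
  -- first inequality
  have h1 : (C.index).factorization p ≤ e := by
    by_contra hcon
    push Not at hcon
    obtain ⟨d₁, hd₁, -, hpos₁⟩ := irr_degree_dvd_card χ₁.2
    have hcd₁ := charDegree_eq hd₁
    rw [hcd₁] at hχ₁e
    obtain ⟨n₁, hn₁⟩ : p ^ e ∣ d₁ := hχ₁e ▸ Nat.ordProj_dvd _ _
    have hn₁p : ¬ p ∣ n₁ := by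
      intro h
      have h2 : p ^ (e + 1) ∣ d₁ := by
        rw [hn₁, pow_succ]
        exact mul_dvd_mul_left _ h
      rw [← hχ₁e] at h2
      exact Nat.pow_succ_factorization_not_dvd hpos₁.ne' hp h2
    obtain ⟨k, hk⟩ : p ^ (e + 1) ∣ C.index :=
      (Nat.Prime.pow_dvd_iff_le_factorization hp hidx0).mpr hcon
    apply hg.2.2 χ₁ hχ₁
    have hint := isIntegral_of_isCharacter (isCharacter_of_isIrrCharacter χ₁.2) g
    refine ⟨(p : AlgInt) * ((k : AlgInt) * ⟨_, hint⟩), (n₁ : AlgInt), M.mul_mem_right _ hM.2.2,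
      ?_, ?_⟩
    · rw [natCast_mem_iff hM]
      exact hn₁p
    · unfold centralChar
      rw [← hC, hk, hd₁, hn₁]
      have hn₁0 : (n₁ : ℂ) ≠ 0 := by
        have : n₁ ≠ 0 := by
          intro h
          rw [h, mul_zero] at hn₁
          omega
        exact_mod_cast this
      push_cast
      field_simp
      ring
  -- second inequality
  have h2 : e + δ ≤ a := by
    by_contra hcon
    push Not at hcon
    by_cases hgp : p ∣ orderOf g
    · apply hg.2.1
      have h3 : blockCoeff B g = 0 := by
        rw [blockCoeff_eq_coef]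
        unfold coef
        have h4 := weak_block_orthogonality hM B hS 1 g
          (by rw [orderOf_one]; exact hp.one_lt.ne' ∘ Nat.dvd_one.mp) hgp
        have h5 : ∑ χ : IrrCharacter G, (fun χ => if χ ∈ B then (1 : ℂ) else 0) χ
            * (χ : G → ℂ) 1 * conj ((χ : G → ℂ) g) = 0 := by
          refine Eq.trans (Finset.sum_congr rfl ?_) h4
          intro χ _
          beta_reduce
          ring
        rw [h5, mul_zero]
      rw [h3]
      exact memLocalIdeal_zero hMtop
    · -- the Sylow subgroup of the centralizer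
      obtain ⟨P₀⟩ : Nonempty (Sylow p C) := inferInstance
      obtain ⟨P, hPdef⟩ : ∃ P : Subgroup G, P = (P₀ : Subgroup C).map C.subtype := ⟨_, rfl⟩
      letI : Fintype P := Fintype.ofFinite P
      have hPcard : Nat.card P = p ^ δ := by
        rw [hPdef, Subgroup.card_map_of_injective C.subtype_injective, hδ]
        exact Sylow.card_eq_multiplicity P₀
      have hPcomm : ∀ u ∈ P, g⁻¹ * u = u * g⁻¹ := by
        intro u hu
        rw [hPdef] at hu
        obtain ⟨c, -, rfl⟩ := hu
        have hc : (c : G) ∈ Subgroup.centralizer ({g} : Set G) := hC ▸ c.2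
        have h3 := (Subgroup.mem_centralizer_iff.mp hc) g rfl
        have h4 : C.subtype c = (c : G) := rfl
        rw [h4, inv_mul_eq_iff_eq_mul, ← mul_assoc, h3, mul_inv_cancel_right]
      have hPp : ∀ u : P, u ≠ 1 → p ∣ orderOf (u : G) := by
        intro u hne
        have hPG : IsPGroup p P := by
          rw [hPdef]
          exact P₀.isPGroup'.map _
        obtain ⟨k, hk⟩ := hPG u
        have hk' : (u : G) ^ p ^ k = 1 := by
          have := congrArg Subtype.val hk
          simpa using this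
        obtain ⟨j, hj, hj'⟩ := (Nat.dvd_prime_pow hp).mp (orderOf_dvd_of_pow_eq_one hk')
        rw [hj']
        rcases Nat.eq_zero_or_pos j with h0 | h0
        · exfalso
          rw [h0, pow_zero, orderOf_eq_one_iff] at hj'
          exact hne (Subtype.ext hj')
        · exact dvd_pow_self p h0.ne'
      -- the character `Θ`
      obtain ⟨mult, hmult⟩ : ∃ mult : IrrCharacter G → ℕ, mult = fun χ =>
          if χ ∈ B then charDegree (χ : G → ℂ) / p ^ e else 0 := ⟨_, rfl⟩
      have hmult_spec : ∀ χ : IrrCharacter G, ((p ^ e : ℕ) : ℂ) * (mult χ : ℂ)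
          = (if χ ∈ B then (1 : ℂ) else 0) * (χ : G → ℂ) 1 := by
        intro χ
        rw [hmult]
        beta_reduce
        by_cases hχ : χ ∈ B
        · rw [if_pos hχ, if_pos hχ, one_mul]
          obtain ⟨d, hd, -, hpos⟩ := irr_degree_dvd_card χ.2
          have hcd := charDegree_eq hd
          have hdvd : p ^ e ∣ d := by
            have := hle χ hχ
            rw [hcd] at this
            exact (Nat.Prime.pow_dvd_iff_le_factorization hp hpos.ne').mpr this
          rw [hcd, hd, ← Nat.cast_mul, Nat.mul_div_cancel' hdvd]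
        · rw [if_neg hχ, if_neg hχ, Nat.cast_zero, mul_zero, zero_mul]
      obtain ⟨n, ρ, hρ⟩ := isCharacter_of_decomposition mult
      have hΘ : ∀ y : G, ((p ^ e : ℕ) : ℂ) * ρ.character y
          = ∑ χ : IrrCharacter G, (if χ ∈ B then (1 : ℂ) else 0)
            * ((χ : G → ℂ) 1 * (χ : G → ℂ) y) := by
        intro y
        rw [hρ, Finset.sum_apply, Finset.mul_sum]
        apply Finset.sum_congr rfl
        intro χ _
        rw [Pi.smul_apply, smul_eq_mul, ← mul_assoc, hmult_spec χ, mul_assoc]
      have hpe0 : ((p ^ e : ℕ) : ℂ) ≠ 0 := by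
        push_cast
        exact pow_ne_zero _ hp0
      have hΘ0 : ∀ y : G, p ∣ orderOf y → ρ.character y = 0 := by
        intro y hy
        have h3 := hΘ y
        rw [sum_degree_mul_eq_zero hM B hS y hy] at h3
        rcases mul_eq_zero.mp h3 with h | h
        · exact absurd h hpe0
        · exact h
      have hI := isIntegral_avg_character ρ P g⁻¹ hPcomm
      have hsum : ∑ u : P, ρ.character (g⁻¹ * (u : G)) = ρ.character g⁻¹ := by
        rw [Finset.sum_eq_single (1 : P)]
        · rw [Subgroup.coe_one, mul_one]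
        · intro u _ hne
          apply hΘ0
          have hcomm : Commute g⁻¹ (u : G) := hPcomm u u.2
          have hpu := hPp u hne
          have hcop : (orderOf g⁻¹).Coprime (orderOf (u : G)) := by
            have hPG : IsPGroup p P := by
              rw [hPdef]
              exact P₀.isPGroup'.map _
            obtain ⟨k, hk⟩ := hPG u
            have hk' : (u : G) ^ p ^ k = 1 := by
              have := congrArg Subtype.val hk
              simpa using this
            obtain ⟨j, hj, hj'⟩ := (Nat.dvd_prime_pow hp).mp (orderOf_dvd_of_pow_eq_one hk')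
            rw [hj', orderOf_inv]
            exact Nat.Coprime.pow_right _ ((Nat.Prime.coprime_iff_not_dvd hp).mpr hgp).symm
          rw [hcomm.orderOf_mul_eq_mul_orderOf_of_coprime hcop]
          exact Dvd.dvd.mul_left hpu _
        · intro h
          exact absurd (Finset.mem_univ _) h
      rw [hsum, hPcard] at hI
      -- the coefficient
      apply hg.2.1
      obtain ⟨t, ht⟩ : ∃ t, e + δ = a + 1 + t := ⟨e + δ - (a + 1), by omega⟩
      have hcoef : blockCoeff B g = ((p : ℂ) * ((p : ℂ) ^ t
          * (((p ^ δ : ℕ) : ℂ)⁻¹ * ρ.character g⁻¹))) / (m : ℂ) := by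
        rw [blockCoeff_eq_coef]
        unfold coef
        have h5 : ∑ χ : IrrCharacter G, (fun χ => if χ ∈ B then (1 : ℂ) else 0) χ
            * (χ : G → ℂ) 1 * conj ((χ : G → ℂ) g) = ((p ^ e : ℕ) : ℂ) * ρ.character g⁻¹ := by
          rw [hΘ g⁻¹]
          apply Finset.sum_congr rfl
          intro χ _
          beta_reduce
          rw [isCharacter_apply_inv (isCharacter_of_isIrrCharacter χ.2)]
          ring
        rw [h5, hm]
        have hm0 : (m : ℂ) ≠ 0 := by
          have : m ≠ 0 := by
            intro h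
            rw [h, mul_zero] at hm
            exact Nat.card_pos.ne' hm
          exact_mod_cast this
        have hpa : (p : ℂ) ^ e * (p : ℂ) ^ δ = (p : ℂ) ^ a * (p : ℂ) * (p : ℂ) ^ t := by
          rw [← pow_add, ht, pow_add, pow_add, pow_one]
        push_cast
        have hpδ0 : (p : ℂ) ^ δ ≠ 0 := pow_ne_zero _ hp0
        have hpa0 : (p : ℂ) ^ a ≠ 0 := pow_ne_zero _ hp0
        field_simp
        linear_combination (ρ.character g⁻¹) * hpa
      rw [hcoef]
      have hpint : IsIntegral ℤ ((p : ℂ) ^ t) := (IsIntegral.pow (by exact_mod_cast (isIntegral_algebraMap (R := ℤ) (A := ℂ) (x := (p : ℤ)))) t)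
      refine ⟨(p : AlgInt) * (⟨_, hpint⟩ * ⟨_, hI⟩), (m : AlgInt), M.mul_mem_right _ hM.2.2,
        ?_, ?_⟩
      · rw [natCast_mem_iff hM]
        exact hmp
      · push_cast
        rfl
  omega

end Cfsg.Agent.Lib.helper3.Block
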