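import Mathlib
import Cfsg.Prelude.Def_Blocks
import Cfsg.Agent.Lib.helper3.DefectOrder2
import Cfsg.Agent.Lib.helper3.ProjVanish1

/-!
# Pairing blocks with classes; a counting lemma over the residue ring
-/

set_option autoImplicit false
set_option linter.style.haveILetI false
set_option linter.unusedSectionVars false

namespace Cfsg.Agent.Lib.helper3.Block

open Cfsg Cfsg.Agent.Lib.helper3.LocalM Cfsg.Agent.Lib.helper3.CharBasic
open Cfsg.Agent.Lib.helper3.Irr Cfsg.Agent.Lib.helper3.Central Cfsg.Agent.Lib.helper3.Lin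
open scoped ComplexConjugate

variable {G : Type*} [Group G] [Fintype G] {M : Ideal AlgInt}

open Classical in
/-- The value of the central character of `ψ` at the idempotent of `B`, summed class by class. -/
theorem sum_classes_blockCoeff_mul_centralChar (B : Set (IrrCharacter G)) (ψ : IrrCharacter G) :
    ∑ C : ConjClasses G, blockCoeff B (Quotient.out C) * centralChar (ψ : G → ℂ) (Quotient.out C)
      = if ψ ∈ B then 1 else 0 := by
  have h1 := sum_coef_mul_div (fun χ : IrrCharacter G => if χ ∈ B then (1 : ℂ) else 0) ψ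
  beta_reduce at h1
  rw [← h1]
  have hF : ∀ g h : G, coef (fun χ : IrrCharacter G => if χ ∈ B then (1 : ℂ) else 0) (h * g * h⁻¹)
      * ((ψ : G → ℂ) (h * g * h⁻¹) / (ψ : G → ℂ) 1)
      = coef (fun χ : IrrCharacter G => if χ ∈ B then (1 : ℂ) else 0) g
        * ((ψ : G → ℂ) g / (ψ : G → ℂ) 1) := by
    intro g h
    rw [coef_conj, isClassFunction_of_isCharacter (isCharacter_of_isIrrCharacter ψ.2) g h]
  rw [sum_class_fun (fun g : G => coef (fun χ : IrrCharacter G => if χ ∈ B then (1 : ℂ) else 0) g
    * ((ψ : G → ℂ) g / (ψ : G → ℂ) 1)) hF]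
  apply Finset.sum_congr rfl
  intro C _
  rw [blockCoeff_eq_coef]
  unfold centralChar
  ring

open Classical in
/-- Osima's theorem, exact form: the idempotent coefficients of a block vanish at the `p`-singular
elements. -/
theorem blockCoeff_eq_zero_of_dvd {p : ℕ} (hM : IsPModular p M) (B : Set (IrrCharacter G))
    (hB : IsPBlock M B) (g : G) (hgp : p ∣ orderOf g) : blockCoeff B g = 0 := by
  haveI hMp := isPrime_of_isPModular hM
  have hp : p.Prime := hM.1
  obtain ⟨χ₀, hBeq⟩ := hB
  have hS : ∀ θ ∈ B, blockOf M (θ : G → ℂ) ⊆ B := by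
    intro θ hθ ψ hψ
    rw [hBeq] at hθ ⊢
    exact sameBlock_trans hθ hψ
  rw [blockCoeff_eq_coef]
  unfold coef
  have h4 := weak_block_orthogonality hM B hS 1 g
    (by rw [orderOf_one]; exact hp.one_lt.ne' ∘ Nat.dvd_one.mp) hgp
  have h5 : ∑ χ : IrrCharacter G, (fun χ => if χ ∈ B then (1 : ℂ) else 0) χ
      * (χ : G → ℂ) 1 * conj ((χ : G → ℂ) g) = 0 := by
    refine Eq.trans (Finset.sum_congr rfl ?_) h4
    intro χ _
    beta_reduce
    ring
  rw [h5, mul_zero]

/-- A counting lemma: a pairing with local entries that is the identity modulo the local ideal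
forces an inequality of cardinalities. -/
theorem card_le_of_local_pairing [hMp : M.IsPrime] {I J : Type*} [Fintype I] [Fintype J]
    [DecidableEq I] (A : I → J → ℂ) (E : J → I → ℂ) (hA : ∀ i j, MemLocalRing M (A i j))
    (hE : ∀ j i, MemLocalRing M (E j i))
    (h : ∀ i i', MemLocalIdeal M (∑ j, A i j * E j i' - (if i = i' then 1 else 0))) :
    Fintype.card I ≤ Fintype.card J := by
  classical
  haveI : Nontrivial (locSubring M ⧸ locIdeal M) := by
    apply Ideal.Quotient.nontrivial_iff.mpr
    intro htop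
    apply one_notMem_locIdeal (M := M)
    rw [htop]
    exact Submodule.mem_top
  obtain ⟨AQ, hAQ⟩ : ∃ AQ : Matrix I J (locSubring M ⧸ locIdeal M),
      AQ = fun i j => Ideal.Quotient.mk (locIdeal M) ⟨A i j, hA i j⟩ := ⟨_, rfl⟩
  obtain ⟨EQ, hEQ⟩ : ∃ EQ : Matrix J I (locSubring M ⧸ locIdeal M),
      EQ = fun j i => Ideal.Quotient.mk (locIdeal M) ⟨E j i, hE j i⟩ := ⟨_, rfl⟩
  have hmul : AQ * EQ = 1 := by
    ext i i'
    rw [Matrix.mul_apply, hAQ, hEQ]
    beta_reduce
    simp_rw [← map_mul]
    rw [← map_sum, Matrix.one_apply]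
    have h1 : (if i = i' then (1 : locSubring M ⧸ locIdeal M) else 0)
        = Ideal.Quotient.mk (locIdeal M) (if i = i' then 1 else 0) := by
      split_ifs
      · rw [map_one]
      · rw [map_zero]
    rw [h1, Ideal.Quotient.eq]
    show MemLocalIdeal M _
    have h2 := h i i'
    convert h2 using 1
    push_cast
    congr 1
    split_ifs
    · rfl
    · rfl
  have hsurj : Function.Surjective (Matrix.mulVecLin AQ) := by
    intro v
    refine ⟨Matrix.mulVec EQ v, ?_⟩
    rw [Matrix.mulVecLin_apply, Matrix.mulVec_mulVec, hmul, Matrix.one_mulVec]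
  exact card_le_of_surjective (locSubring M ⧸ locIdeal M) _ hsurj

end Cfsg.Agent.Lib.helper3.Block
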