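import Mathlib
import Cfsg.Prelude.Def_Blocks
import Cfsg.Agent.Lib.helper3.DefectOrder3

/-!
# Counting blocks against classes
-/

set_option autoImplicit false
set_option linter.style.haveILetI false
set_option linter.unusedSectionVars false

namespace Cfsg.Agent.Lib.helper3.Block

open Cfsg Cfsg.Agent.Lib.helper3.LocalM Cfsg.Agent.Lib.helper3.CharBasic
open Cfsg.Agent.Lib.helper3.Irr Cfsg.Agent.Lib.helper3.Central Cfsg.Agent.Lib.helper3.Lin
open scoped ComplexConjugate

variable {G : Type*} [Group G] [Fintype G] {M : Ideal AlgInt}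

theorem block_eq_of_mem [hMp : M.IsPrime] {B B' : Set (IrrCharacter G)} (hB : IsPBlock M B)
    (hB' : IsPBlock M B') (χ : IrrCharacter G) (hχ : χ ∈ B) (hχ' : χ ∈ B') : B = B' := by
  obtain ⟨χ₀, rfl⟩ := hB
  obtain ⟨χ₁, rfl⟩ := hB'
  ext ψ
  constructor
  · intro h
    exact sameBlock_trans hχ' (sameBlock_trans (sameBlock_symm hχ) h)
  · intro h
    exact sameBlock_trans hχ (sameBlock_trans (sameBlock_symm hχ') h)

/-- If, for the blocks of a family and the classes outside a set `𝒦`, the products of central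
characters and idempotent coefficients all lie in the local ideal, then the family has at most as
many members as `𝒦`. -/
theorem card_blocks_le_card_classes {p : ℕ} (hM : IsPModular p M)
    (𝔅 : Set (Set (IrrCharacter G))) (h𝔅 : ∀ B ∈ 𝔅, IsPBlock M B) (𝒦 : Set (ConjClasses G))
    (hbad : ∀ B ∈ 𝔅, ∀ B' ∈ 𝔅, ∀ χ ∈ B, ∀ C : ConjClasses G, C ∉ 𝒦 →
      MemLocalIdeal M (centralChar (χ : G → ℂ) (Quotient.out C)
        * blockCoeff B' (Quotient.out C))) :
    Nat.card 𝔅 ≤ Nat.card 𝒦 := by
  classical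
  haveI hMp := isPrime_of_isPModular hM
  have hMtop : M ≠ ⊤ := hM.2.1.ne_top
  letI : Fintype 𝔅 := Fintype.ofFinite _
  letI : Fintype 𝒦 := Fintype.ofFinite _
  rw [Nat.card_eq_fintype_card, Nat.card_eq_fintype_card]
  have hex : ∀ i : 𝔅, ∃ χ : IrrCharacter G, χ ∈ (i : Set (IrrCharacter G)) := by
    intro i
    obtain ⟨χ₀, h⟩ := h𝔅 i i.2
    refine ⟨χ₀, ?_⟩
    rw [h]
    exact sameBlock_refl hMtop _
  choose rep hrep using hex
  apply card_le_of_local_pairing (M := M)
    (fun (i : 𝔅) (j : 𝒦) => centralChar (rep i : G → ℂ) (Quotient.out (j : ConjClasses G)))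
    (fun (j : 𝒦) (i : 𝔅) => blockCoeff (i : Set (IrrCharacter G)) (Quotient.out (j : ConjClasses G)))
  · intro i j
    exact memLocalRing_of_integral (isIntegral_centralChar (rep i).2 _)
  · intro j i
    exact osima hM _ (h𝔅 i i.2) _
  · intro i i'
    have h1 := sum_classes_blockCoeff_mul_centralChar (i' : Set (IrrCharacter G)) (rep i)
    have h2 : (if rep i ∈ (i' : Set (IrrCharacter G)) then (1 : ℂ) else 0)
        = if i = i' then 1 else 0 := by
      by_cases hii : i = i'
      · rw [if_pos hii, if_pos (hii ▸ hrep i)]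
      · rw [if_neg hii, if_neg]
        intro hmem
        apply hii
        apply Subtype.ext
        exact block_eq_of_mem (h𝔅 i i.2) (h𝔅 i' i'.2) (rep i) (hrep i) hmem
    rw [h2] at h1
    rw [← h1]
    obtain ⟨f, hf⟩ : ∃ f : ConjClasses G → ℂ, f = fun C =>
        blockCoeff (i' : Set (IrrCharacter G)) (Quotient.out C)
          * centralChar (rep i : G → ℂ) (Quotient.out C) := ⟨_, rfl⟩
    have h3 : ∑ j : 𝒦, centralChar (rep i : G → ℂ) (Quotient.out (j : ConjClasses G))
        * blockCoeff (i' : Set (IrrCharacter G)) (Quotient.out (j : ConjClasses G))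
        = ∑ C ∈ Finset.univ.filter (fun C : ConjClasses G => C ∈ 𝒦), f C := by
      rw [Finset.sum_subtype (p := fun C => C ∈ 𝒦)
        (Finset.univ.filter (fun C : ConjClasses G => C ∈ 𝒦)) (by intro x; simp)]
      apply Finset.sum_congr rfl
      intro j _
      rw [hf, mul_comm]
    have h4 : ∑ C : ConjClasses G, blockCoeff (i' : Set (IrrCharacter G)) (Quotient.out C)
        * centralChar (rep i : G → ℂ) (Quotient.out C)
        = ∑ C ∈ Finset.univ.filter (fun C : ConjClasses G => C ∈ 𝒦), f C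
          + ∑ C ∈ Finset.univ.filter (fun C : ConjClasses G => ¬ C ∈ 𝒦), f C := by
      rw [Finset.sum_filter_add_sum_filter_not, hf]
    rw [h3, h4, sub_add_cancel_left]
    apply memLocalIdeal_neg
    apply memLocalIdeal_sum
    intro C hC
    rw [Finset.mem_filter] at hC
    rw [hf]
    beta_reduce
    rw [mul_comm]
    exact hbad i i.2 i' i'.2 (rep i) (hrep i) C hC.2

end Cfsg.Agent.Lib.helper3.Block
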