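import Mathlib
import Cfsg.Prelude.Def_Blocks
import Cfsg.Prelude.Def_BrauerPairs
import Cfsg.Agent.Lib.helper3.BrauerMap2
import Cfsg.Agent.Lib.helper3.DefectOrder4
import Cfsg.Agent.Lib.helper3.BlockCover2

/-!
# Brauer functionals of block idempotents
-/

set_option autoImplicit false
set_option linter.style.haveILetI false
set_option linter.unusedSectionVars false

namespace Cfsg.Agent.Lib.helper3.Block

open Cfsg Module Cfsg.Agent.Lib.helper3.CharBasic Cfsg.Agent.Lib.helper3.Irr
open Cfsg.Agent.Lib.helper3.Central Cfsg.Agent.Lib.helper3.LocalM Cfsg.Agent.Lib.helper3.IndFun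
open scoped ComplexConjugate

variable {G : Type*} [Group G] [Fintype G] {M : Ideal AlgInt}

theorem memLocalIdeal_or_of_mul_local [hMp : M.IsPrime] {a b : ℂ} (ha : MemLocalRing M a)
    (hb : MemLocalRing M b) (h : MemLocalIdeal M (a * b)) :
    MemLocalIdeal M a ∨ MemLocalIdeal M b := by
  obtain ⟨a1, a2, ha2, rfl⟩ := ha
  obtain ⟨b1, b2, hb2, rfl⟩ := hb
  obtain ⟨m, s, hm, hs, hms⟩ := h
  have h1 := coe_ne_zero_of_notMem ha2
  have h2 := coe_ne_zero_of_notMem hb2
  have h3 := coe_ne_zero_of_notMem hs
  have h4 : ((m * a2 * b2 : AlgInt) : ℂ) = ((a1 * b1 * s : AlgInt) : ℂ) := by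
    push_cast
    field_simp at hms
    linear_combination hms
  have h5 : m * a2 * b2 = a1 * b1 * s := Subtype.ext h4
  have h6 : a1 * b1 * s ∈ M := by
    rw [← h5]
    exact M.mul_mem_right _ (M.mul_mem_right _ hm)
  rcases hMp.mem_or_mem h6 with h7 | h7
  · rcases hMp.mem_or_mem h7 with h8 | h8
    · left
      exact ⟨a1, a2, h8, ha2, rfl⟩
    · right
      exact ⟨b1, b2, h8, hb2, rfl⟩
  · exact absurd h7 hs

/-- The set of blocks as a finite set. -/
noncomputable def blocksFinset (M : Ideal AlgInt) (G : Type*) [Group G] [Fintype G] :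
    Finset (Set (IrrCharacter G)) := by
  classical
  exact Finset.univ.image (fun χ : IrrCharacter G => blockOf M (χ : G → ℂ))

theorem mem_blocksFinset (B : Set (IrrCharacter G)) : B ∈ blocksFinset M G ↔ IsPBlock M B := by
  classical
  unfold blocksFinset
  rw [Finset.mem_image]
  constructor
  · rintro ⟨χ, -, rfl⟩
    exact ⟨χ, rfl⟩
  · rintro ⟨χ, rfl⟩
    exact ⟨χ, Finset.mem_univ _, rfl⟩

open Classical in
/-- The block idempotents sum to one. -/
theorem sum_blocks_blockCoeff [hMp : M.IsPrime] (g : G) :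
    ∑ B ∈ blocksFinset M G, blockCoeff B g = if g = 1 then 1 else 0 := by
  have hMtop : M ≠ ⊤ := hMp.ne_top
  rw [← coef_one]
  simp_rw [blockCoeff_eq_coef]
  unfold coef
  rw [← Finset.mul_sum, Finset.sum_comm]
  congr 1
  apply Finset.sum_congr rfl
  intro χ _
  rw [← Finset.sum_mul, ← Finset.sum_mul]
  congr 2
  rw [Finset.sum_eq_single (blockOf M (χ : G → ℂ))]
  · beta_reduce
    rw [if_pos]
    exact sameBlock_refl hMtop _
  · intro B hB hne
    beta_reduce
    rw [if_neg]
    intro hχ
    apply hne
    exact block_eq_of_mem ((mem_blocksFinset B).mp hB) ⟨χ, rfl⟩ χ hχ (sameBlock_refl hMtop _)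
  · intro h
    exact absurd ((mem_blocksFinset _).mpr ⟨χ, rfl⟩) h

/-- The Brauer functionals of the block idempotents sum to one. -/
theorem sum_blocks_brauerOmega [hMp : M.IsPrime] (P : Subgroup G)
    [Fintype (Subgroup.centralizer (P : Set G))]
    (ξ : IrrCharacter (Subgroup.centralizer (P : Set G))) :
    ∑ B ∈ blocksFinset M G,
      brauerOmega P (blockCoeff B) (ξ : Subgroup.centralizer (P : Set G) → ℂ) = 1 := by
  classical
  have hξ1 := apply_one_ne_zero ξ.2
  simp_rw [brauerOmega_eq_sum]
  rw [Finset.sum_comm]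
  simp_rw [← Finset.sum_mul, sum_blocks_blockCoeff]
  rw [Finset.sum_eq_single (1 : Subgroup.centralizer (P : Set G))]
  · rw [if_pos (by rfl), one_mul, div_self hξ1]
  · intro x _ hne
    rw [if_neg, zero_mul]
    intro h1
    apply hne
    apply Subtype.ext
    exact h1
  · intro h
    exact absurd (Finset.mem_univ _) h

theorem conv_blockCoeff_self (B : Set (IrrCharacter G)) :
    conv (blockCoeff B) (blockCoeff B) = blockCoeff B := by
  funext g
  unfold conv
  exact blockCoeff_idem B g

open Classical in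
theorem conv_blockCoeff_of_disjoint (B B' : Set (IrrCharacter G)) (h : ∀ χ ∈ B, χ ∉ B') :
    conv (blockCoeff B) (blockCoeff B') = 0 := by
  funext g
  unfold conv
  simp_rw [blockCoeff_eq_coef]
  rw [← coef_mul]
  have h1 : (fun χ : IrrCharacter G => if χ ∈ B then (1 : ℂ) else 0)
      * (fun χ : IrrCharacter G => if χ ∈ B' then (1 : ℂ) else 0) = 0 := by
    funext χ
    simp only [Pi.mul_apply, Pi.zero_apply]
    by_cases hχ : χ ∈ B
    · rw [if_neg (h χ hχ), mul_zero]
    · rw [if_neg hχ, zero_mul]
  rw [h1]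
  unfold coef
  simp

theorem brauerOmega_zero (P : Subgroup G) [Fintype (Subgroup.centralizer (P : Set G))]
    (ξ : Subgroup.centralizer (P : Set G) → ℂ) : brauerOmega P (0 : G → ℂ) ξ = 0 := by
  rw [brauerOmega_eq_sum]
  simp


/-- The Brauer functional takes local values on local-valued functions invariant under
`C_G(P)`. -/
theorem memLocalRing_brauerOmega [hMp : M.IsPrime] (P : Subgroup G)
    [Fintype (Subgroup.centralizer (P : Set G))] (a : G → ℂ)
    (ha : ∀ g, MemLocalRing M (a g))
    (haC : ∀ c ∈ Subgroup.centralizer (P : Set G), ∀ g, a (c * g * c⁻¹) = a g)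
    (ξ : IrrCharacter (Subgroup.centralizer (P : Set G))) :
    MemLocalRing M (brauerOmega P a (ξ : Subgroup.centralizer (P : Set G) → ℂ)) := by
  classical
  rw [brauerOmega_eq_sum, sum_class_fun (G := Subgroup.centralizer (P : Set G))]
  · apply memLocalRing_sum
    intro K _
    have e : ((Subgroup.centralizer ({Quotient.out K} :
          Set (Subgroup.centralizer (P : Set G)))).index : ℂ)
        * (a ((Quotient.out K : Subgroup.centralizer (P : Set G)) : G)
          * ((ξ : Subgroup.centralizer (P : Set G) → ℂ) (Quotient.out K)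
            / (ξ : Subgroup.centralizer (P : Set G) → ℂ) 1))
        = a ((Quotient.out K : Subgroup.centralizer (P : Set G)) : G)
          * centralChar (ξ : Subgroup.centralizer (P : Set G) → ℂ) (Quotient.out K) := by
      unfold centralChar
      ring
    rw [e]
    exact memLocalRing_mul (ha _) (memLocalRing_of_integral (isIntegral_centralChar ξ.2 _))
  · intro x c
    rw [isClassFunction_of_isCharacter (isCharacter_of_isIrrCharacter ξ.2) x c]
    have : ((c * x * c⁻¹ : Subgroup.centralizer (P : Set G)) : G)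
        = (c : G) * (x : G) * (c : G)⁻¹ := by simp
    rw [this, haC c c.2]

end Cfsg.Agent.Lib.helper3.Block
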