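import Mathlib
import Cfsg.Prelude.Def_Blocks
import Cfsg.Prelude.Def_BlockLocal
import Cfsg.Prelude.Def_BrauerPairs
import Cfsg.Agent.Lib.helper3.BrauerMap3
import Cfsg.Agent.Lib.helper3.BlockCover2

/-!
# Automorphisms acting on irreducible characters and on blocks
-/

set_option autoImplicit false
set_option linter.style.haveILetI false
set_option linter.unusedSectionVars false

namespace Cfsg.Agent.Lib.helper3.Block

open Cfsg Module Cfsg.Agent.Lib.helper3.CharBasic Cfsg.Agent.Lib.helper3.Irr
open Cfsg.Agent.Lib.helper3.Central Cfsg.Agent.Lib.helper3.LocalM Cfsg.Agent.Lib.helper3.IndFun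
open Cfsg.Agent.Lib.helper3.Lin
open scoped ComplexConjugate

section aut

variable {H : Type*} [Group H] [Fintype H] {M : Ideal AlgInt}

/-- The action of an automorphism on an irreducible character. -/
noncomputable def autIrr (α : MulAut H) (θ : IrrCharacter H) : IrrCharacter H :=
  ⟨fun h => (θ : H → ℂ) (α⁻¹ h), isIrrCharacter_comp_mulEquiv (α⁻¹ : MulAut H) θ.2⟩

theorem autIrr_apply (α : MulAut H) (θ : IrrCharacter H) (h : H) :
    (autIrr α θ : H → ℂ) h = (θ : H → ℂ) (α⁻¹ h) := rfl

theorem autIrr_one (θ : IrrCharacter H) : autIrr 1 θ = θ := by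
  apply Subtype.ext
  funext h
  rw [autIrr_apply, inv_one]
  rfl

theorem autIrr_mul (α β : MulAut H) (θ : IrrCharacter H) :
    autIrr (α * β) θ = autIrr α (autIrr β θ) := by
  apply Subtype.ext
  funext h
  rw [autIrr_apply, autIrr_apply, autIrr_apply, mul_inv_rev]
  rfl

theorem autIrr_injective (α : MulAut H) : Function.Injective (autIrr α) := by
  intro θ θ' h
  have h1 := congrArg (autIrr α⁻¹) h
  rw [← autIrr_mul, ← autIrr_mul, inv_mul_cancel, autIrr_one, autIrr_one] at h1
  exact h1

theorem centralChar_autIrr (α : MulAut H) (θ : IrrCharacter H) (h : H) :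
    centralChar (autIrr α θ : H → ℂ) h = centralChar (θ : H → ℂ) (α⁻¹ h) := by
  unfold centralChar
  rw [autIrr_apply, autIrr_apply, map_one, index_centralizer_mulEquiv (α⁻¹ : MulAut H) h]

theorem sameBlock_autIrr (α : MulAut H) {θ θ' : IrrCharacter H}
    (h : SameBlock M (θ : H → ℂ) (θ' : H → ℂ)) :
    SameBlock M (autIrr α θ : H → ℂ) (autIrr α θ' : H → ℂ) := by
  intro x
  rw [centralChar_autIrr, centralChar_autIrr]
  exact h _

theorem image_autIrr_blockOf (α : MulAut H) (χ : IrrCharacter H) :
    autIrr α '' blockOf M (χ : H → ℂ) = blockOf M (autIrr α χ : H → ℂ) := by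
  ext ψ
  constructor
  · rintro ⟨θ, hθ, rfl⟩
    exact sameBlock_autIrr α hθ
  · intro hψ
    refine ⟨autIrr α⁻¹ ψ, ?_, ?_⟩
    · have := sameBlock_autIrr (M := M) α⁻¹ hψ
      rw [← autIrr_mul, inv_mul_cancel, autIrr_one] at this
      exact this
    · rw [← autIrr_mul, mul_inv_cancel, autIrr_one]

theorem isPBlock_image_autIrr (α : MulAut H) (S : Set (IrrCharacter H)) (hS : IsPBlock M S) :
    IsPBlock M (autIrr α '' S) := by
  obtain ⟨χ, rfl⟩ := hS
  exact ⟨autIrr α χ, image_autIrr_blockOf α χ⟩

theorem isPBlock_image_autIrr_iff (α : MulAut H) (S : Set (IrrCharacter H)) :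
    IsPBlock M (autIrr α '' S) ↔ IsPBlock M S := by
  constructor
  · intro h
    have h1 := isPBlock_image_autIrr α⁻¹ _ h
    rw [Set.image_image] at h1
    have h2 : (fun x => autIrr α⁻¹ (autIrr α x)) = id := by
      funext x
      rw [← autIrr_mul, inv_mul_cancel, autIrr_one]
      rfl
    rw [h2, Set.image_id] at h1
    exact h1
  · exact isPBlock_image_autIrr α S

theorem blockCoeff_image_autIrr (α : MulAut H) (S : Set (IrrCharacter H)) (h : H) :
    blockCoeff (autIrr α '' S) h = blockCoeff S (α⁻¹ h) := by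
  unfold blockCoeff
  rw [finsum_mem_image (fun a _ b _ hab => autIrr_injective α hab)]
  congr 1
  apply finsum_congr
  intro θ
  apply finsum_congr
  intro _
  rw [autIrr_apply, autIrr_apply, map_one]

end aut

end Cfsg.Agent.Lib.helper3.Block
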