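import Mathlib
import Cfsg.Prelude.Def_Blocks
import Cfsg.Prelude.Def_BlockLocal
import Cfsg.Prelude.Def_BrauerPairs
import Cfsg.Agent.Lib.helper3.AutBlock

/-!
# Block idempotents of a subgroup, extended by zero to the whole group
-/

set_option autoImplicit false
set_option linter.style.haveILetI false
set_option linter.unusedSectionVars false

namespace Cfsg.Agent.Lib.helper3.Block

open Cfsg Module Cfsg.Agent.Lib.helper3.CharBasic Cfsg.Agent.Lib.helper3.Irr
open Cfsg.Agent.Lib.helper3.Central Cfsg.Agent.Lib.helper3.LocalM Cfsg.Agent.Lib.helper3.IndFun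
open Cfsg.Agent.Lib.helper3.Lin
open scoped ComplexConjugate

variable {G : Type*} [Group G] [Fintype G] {M : Ideal AlgInt}

theorem subgroupBlockCoeff_of_mem (H : Subgroup G) (f : Set (IrrCharacter H)) {g : G}
    (hg : g ∈ H) : subgroupBlockCoeff H f g = blockCoeff f ⟨g, hg⟩ := by
  unfold subgroupBlockCoeff
  rw [dif_pos hg]

theorem subgroupBlockCoeff_of_notMem (H : Subgroup G) (f : Set (IrrCharacter H)) {g : G}
    (hg : g ∉ H) : subgroupBlockCoeff H f g = 0 := by
  unfold subgroupBlockCoeff
  rw [dif_neg hg]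

/-- Convolution of two functions supported on a subgroup. -/
theorem conv_of_support (H : Subgroup G) [Fintype H] (a b : G → ℂ)
    (ha : ∀ g, g ∉ H → a g = 0) (g : G) :
    conv a b g = ∑ y : H, a (y : G) * b ((y : G)⁻¹ * g) := by
  classical
  unfold conv
  rw [← Finset.sum_subset (Finset.subset_univ (Finset.univ.filter (fun x : G => x ∈ H)))]
  · rw [Finset.sum_subtype (p := fun x : G => x ∈ H)
      (Finset.univ.filter (fun x : G => x ∈ H)) (by intro x; simp)]
  · intro x _ hx
    rw [Finset.mem_filter] at hx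
    rw [ha x (fun h => hx ⟨Finset.mem_univ _, h⟩), zero_mul]

open Classical in
theorem conv_subgroupBlockCoeff (H : Subgroup G) [Fintype H] (f f' : Set (IrrCharacter H))
    (g : G) :
    conv (subgroupBlockCoeff H f) (subgroupBlockCoeff H f') g
      = if h : g ∈ H then conv (blockCoeff f) (blockCoeff f') ⟨g, h⟩ else 0 := by
  rw [conv_of_support H _ _ (fun g hg => subgroupBlockCoeff_of_notMem H f hg)]
  by_cases hg : g ∈ H
  · rw [dif_pos hg]
    unfold conv
    apply Finset.sum_congr rfl
    intro y _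
    rw [subgroupBlockCoeff_of_mem H f y.2,
      subgroupBlockCoeff_of_mem H f' (H.mul_mem (H.inv_mem y.2) hg)]
    rfl
  · rw [dif_neg hg]
    apply Finset.sum_eq_zero
    intro y _
    rw [subgroupBlockCoeff_of_notMem H f' (g := (y : G)⁻¹ * g), mul_zero]
    intro h
    apply hg
    have := H.mul_mem y.2 h
    rwa [mul_inv_cancel_left] at this

theorem conv_subgroupBlockCoeff_self (H : Subgroup G) [Fintype H] (f : Set (IrrCharacter H)) :
    conv (subgroupBlockCoeff H f) (subgroupBlockCoeff H f) = subgroupBlockCoeff H f := by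
  funext g
  rw [conv_subgroupBlockCoeff, conv_blockCoeff_self]
  by_cases hg : g ∈ H
  · rw [dif_pos hg, subgroupBlockCoeff_of_mem H f hg]
  · rw [dif_neg hg, subgroupBlockCoeff_of_notMem H f hg]

theorem conv_subgroupBlockCoeff_of_disjoint (H : Subgroup G) [Fintype H]
    (f f' : Set (IrrCharacter H)) (h : ∀ χ ∈ f, χ ∉ f') :
    conv (subgroupBlockCoeff H f) (subgroupBlockCoeff H f') = 0 := by
  funext g
  rw [conv_subgroupBlockCoeff, conv_blockCoeff_of_disjoint f f' h]
  by_cases hg : g ∈ H
  · rw [dif_pos hg]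
    rfl
  · rw [dif_neg hg]
    rfl

open Classical in
theorem sum_blocks_subgroupBlockCoeff [hMp : M.IsPrime] (H : Subgroup G) [Fintype H] (g : G) :
    ∑ f ∈ blocksFinset M H, subgroupBlockCoeff H f g = if g = 1 then 1 else 0 := by
  by_cases hg : g ∈ H
  · simp_rw [subgroupBlockCoeff_of_mem H _ hg]
    rw [sum_blocks_blockCoeff]
    by_cases h1 : g = 1
    · rw [if_pos h1, if_pos (Subtype.ext h1)]
    · rw [if_neg h1, if_neg (fun h => h1 (congrArg Subtype.val h))]
  · simp_rw [subgroupBlockCoeff_of_notMem H _ hg]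
    rw [Finset.sum_const_zero, if_neg]
    rintro rfl
    exact hg H.one_mem

theorem subgroupBlockCoeff_conj_of_mem (H : Subgroup G) [Fintype H] (f : Set (IrrCharacter H)) (c : G)
    (hc : c ∈ H) (g : G) : subgroupBlockCoeff H f (c * g * c⁻¹) = subgroupBlockCoeff H f g := by
  by_cases hg : g ∈ H
  · rw [subgroupBlockCoeff_of_mem H f hg,
      subgroupBlockCoeff_of_mem H f (H.mul_mem (H.mul_mem hc hg) (H.inv_mem hc))]
    exact blockCoeff_conj' f ⟨g, hg⟩ ⟨c, hc⟩
  · rw [subgroupBlockCoeff_of_notMem H f hg, subgroupBlockCoeff_of_notMem H f]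
    intro h
    apply hg
    have := H.mul_mem (H.mul_mem (H.inv_mem hc) h) hc
    rw [show c⁻¹ * (c * g * c⁻¹) * c = g by group] at this
    exact this

theorem memLocalRing_subgroupBlockCoeff {p : ℕ} (hM : IsPModular p M) (H : Subgroup G)
    [Fintype H] (f : Set (IrrCharacter H)) (hf : IsPBlock M f) (g : G) :
    MemLocalRing M (subgroupBlockCoeff H f g) := by
  haveI hMp := isPrime_of_isPModular hM
  by_cases hg : g ∈ H
  · rw [subgroupBlockCoeff_of_mem H f hg]
    exact osima hM f hf _
  · rw [subgroupBlockCoeff_of_notMem H f hg]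
    exact memLocalRing_of_integral isIntegral_zero

/-- The idempotent of the image of `f` under conjugation by a normalizing element. -/
theorem subgroupBlockCoeff_image_autIrr (H : Subgroup G) [Fintype H] (f : Set (IrrCharacter H))
    (n : Subgroup.normalizer (H : Set G)) (g : G) :
    subgroupBlockCoeff H (autIrr (H.normalizerMonoidHom n) '' f) g
      = subgroupBlockCoeff H f ((n : G)⁻¹ * g * (n : G)) := by
  have hn : ∀ x : G, x ∈ H ↔ (n : G)⁻¹ * x * (n : G) ∈ H := by
    intro x
    have := (Subgroup.inv_mem _ n.2) x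
    rwa [inv_inv] at this
  by_cases hg : g ∈ H
  · rw [subgroupBlockCoeff_of_mem H _ hg, subgroupBlockCoeff_of_mem H f ((hn g).mp hg),
      blockCoeff_image_autIrr]
    congr 1
    apply Subtype.ext
    rw [← map_inv]
    simp
  · rw [subgroupBlockCoeff_of_notMem H _ hg,
      subgroupBlockCoeff_of_notMem H f (fun h => hg ((hn g).mpr h))]

end Cfsg.Agent.Lib.helper3.Block
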