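import Mathlib
import Cfsg.Prelude.Def_Blocks
import Cfsg.Agent.Lib.helper3.BlockIdem2
import Cfsg.Agent.Lib.helper3.BrauerMap3

/-!
# Central elements all of whose central character values lie in the local ideal
-/

set_option autoImplicit false
set_option linter.style.haveILetI false

namespace Cfsg.Agent.Lib.helper3.Block

open Cfsg Cfsg.Agent.Lib.helper3.LocalM Polynomial Cfsg.Agent.Lib.helper3.Irr
open Cfsg.Agent.Lib.helper3.CharBasic Cfsg.Agent.Lib.helper3.Lin Cfsg.Agent.Lib.helper3.Central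
open Cfsg.Agent.Lib.helper3.IndFun
open scoped ComplexConjugate

variable {M : Ideal AlgInt}

theorem intCast_mem_iff {p : ℕ} (hM : IsPModular p M) (n : ℤ) :
    ((n : ℤ) : AlgInt) ∈ M ↔ (p : ℤ) ∣ n := by
  rw [Int.natCast_dvd, ← natCast_mem_iff hM]
  rcases Int.natAbs_eq n with h | h
  · conv_lhs => rw [h]
    simp
  · conv_lhs => rw [h]
    simp

/-- A power of an element of `M` is, up to a unit of the local ring, a multiple of `p`. -/
theorem exists_mul_pow_eq_p_mul {p : ℕ} (hM : IsPModular p M) (a : AlgInt) (ha : a ∈ M) :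
    ∃ r : ℕ, ∃ u w : AlgInt, u ∉ M ∧ u * a ^ r = (p : AlgInt) * w := by
  haveI hMp := isPrime_of_isPModular hM
  haveI : Fact p.Prime := ⟨hM.1⟩
  obtain ⟨f, hmonic, hf⟩ := integralClosure.isIntegral a
  obtain ⟨fbar, hfbar⟩ : ∃ fbar : (ZMod p)[X], fbar = f.map (Int.castRingHom (ZMod p)) := ⟨_, rfl⟩
  have hfbar0 : fbar ≠ 0 := by
    rw [hfbar]
    exact (hmonic.map _).ne_zero
  obtain ⟨q, hq, hXq⟩ := exists_eq_pow_rootMultiplicity_mul_and_not_dvd fbar hfbar0 0
  rw [C_0, sub_zero] at hq hXq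
  obtain ⟨r, hr⟩ : ∃ r, r = rootMultiplicity 0 fbar := ⟨_, rfl⟩
  rw [← hr] at hq
  have hq0 : q.coeff 0 ≠ 0 := fun h => hXq (X_dvd_iff.mpr h)
  obtain ⟨g, hg⟩ := map_surjective (Int.castRingHom (ZMod p)) (ZMod.intCast_surjective) q
  have hker : (f - X ^ r * g).map (Int.castRingHom (ZMod p)) = 0 := by
    rw [Polynomial.map_sub, Polynomial.map_mul, Polynomial.map_pow, map_X, hg, ← hfbar, hq,
      sub_self]
  have hdvd : C (p : ℤ) ∣ f - X ^ r * g := by
    rw [C_dvd_iff_dvd_coeff]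
    intro i
    have := congrArg (fun P => P.coeff i) hker
    simp only [coeff_map, coeff_zero] at this
    rw [← ZMod.intCast_zmod_eq_zero_iff_dvd]
    exact_mod_cast this
  obtain ⟨h, hh⟩ := hdvd
  have heval := congrArg (eval₂ (algebraMap ℤ AlgInt) a) hh
  rw [eval₂_sub, hf, eval₂_mul, eval₂_mul, eval₂_pow, eval₂_X, eval₂_C, zero_sub] at heval
  refine ⟨r, eval₂ (algebraMap ℤ AlgInt) a g, - eval₂ (algebraMap ℤ AlgInt) a h, ?_, ?_⟩
  · intro hu
    apply hq0
    have h1 : eval₂ (algebraMap ℤ AlgInt) a g - eval₂ (algebraMap ℤ AlgInt) 0 g ∈ M := by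
      rw [eval₂_eq_eval_map, eval₂_eq_eval_map]
      have := sub_dvd_eval_sub a 0 (g.map (algebraMap ℤ AlgInt))
      rw [sub_zero] at this
      exact Ideal.mem_of_dvd M this ha
    have h2 : eval₂ (algebraMap ℤ AlgInt) 0 g ∈ M := by
      have := M.sub_mem hu h1
      rwa [sub_sub_cancel] at this
    rw [eval₂_at_zero] at h2
    have h3 : (p : ℤ) ∣ g.coeff 0 := (intCast_mem_iff hM _).mp (by simpa using h2)
    rw [← hg, coeff_map]
    exact (ZMod.intCast_zmod_eq_zero_iff_dvd _ p).mpr h3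
  · have : (algebraMap ℤ AlgInt) (p : ℤ) = (p : AlgInt) := by simp
    rw [this] at heval
    rw [mul_comm, mul_neg, ← heval, neg_neg]


theorem memLocalIdeal_pow_div {p : ℕ} (hM : IsPModular p M) (N0 : ℕ) (hN0 : N0 ≠ 0) :
    MemLocalIdeal M ((p : ℂ) ^ N0 / (N0 : ℂ)) := by
  haveI hMp := isPrime_of_isPModular hM
  have hp := hM.1
  obtain ⟨v, m', hm', hN⟩ := Nat.exists_eq_pow_mul_and_not_dvd hN0 p hp.ne_one
  have hv : v < N0 := by
    have h1 : v < p ^ v := Nat.lt_pow_self hp.one_lt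
    have h2 : p ^ v ≤ N0 := by
      rw [hN]
      exact Nat.le_mul_of_pos_right _ (Nat.pos_of_ne_zero (fun h => hm' (h ▸ dvd_zero p)))
    omega
  have hm0 : (m' : ℂ) ≠ 0 := by
    have : m' ≠ 0 := fun h => hm' (h ▸ dvd_zero p)
    exact_mod_cast this
  have hp0 : (p : ℂ) ≠ 0 := by exact_mod_cast hp.ne_zero
  refine ⟨((p ^ (N0 - v) : ℕ) : AlgInt), (m' : AlgInt), ?_, ?_, ?_⟩
  · rw [natCast_mem_iff hM]
    exact dvd_pow_self p (by omega)
  · rw [natCast_mem_iff hM]
    exact hm'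
  · have e1 : (N0 : ℂ) = (p : ℂ) ^ v * (m' : ℂ) := by
      conv_lhs => rw [hN]
      push_cast
      ring
    have e2 : (p : ℂ) ^ N0 = (p : ℂ) ^ (N0 - v) * (p : ℂ) ^ v := by
      rw [← pow_add]
      congr 1
      omega
    rw [e1, e2]
    push_cast
    field_simp

/-- High powers of an element of the local ideal are divisible by any given natural number, with
quotient in the local ideal. -/
theorem exists_pow_div_memLocalIdeal {p : ℕ} (hM : IsPModular p M) {x : ℂ}
    (hx : MemLocalIdeal M x) (N0 : ℕ) (hN0 : N0 ≠ 0) :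
    ∃ n : ℕ, ∀ m ≥ n, MemLocalIdeal M (x ^ m / (N0 : ℂ)) := by
  haveI hMp := isPrime_of_isPModular hM
  obtain ⟨a, b, ha, hb, rfl⟩ := hx
  obtain ⟨r, u, w, hu, huw⟩ := exists_mul_pow_eq_p_mul hM a ha
  have hb0 := coe_ne_zero_of_notMem hb
  have hu0 := coe_ne_zero_of_notMem hu
  have hxloc : MemLocalRing M ((a : ℂ) / (b : ℂ)) := ⟨a, b, hb, rfl⟩
  have hub : u * b ^ r ∉ M := by
    intro h
    rcases hMp.mem_or_mem h with h | h
    · exact hu h
    · exact hb (hMp.mem_of_pow_mem r h)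
  have hy : MemLocalRing M ((w : ℂ) / ((u : ℂ) * (b : ℂ) ^ r)) :=
    ⟨w, u * b ^ r, hub, by push_cast; rfl⟩
  have hxr : ((a : ℂ) / (b : ℂ)) ^ r = (p : ℂ) * ((w : ℂ) / ((u : ℂ) * (b : ℂ) ^ r)) := by
    have := congrArg (fun z : AlgInt => (z : ℂ)) huw
    push_cast at this
    rw [div_pow]
    field_simp
    linear_combination this
  have hpow : ∀ k : ℕ, MemLocalRing M (((w : ℂ) / ((u : ℂ) * (b : ℂ) ^ r)) ^ k) := by
    intro k
    induction k with
    | zero =>
      rw [pow_zero]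
      exact memLocalRing_of_integral isIntegral_one
    | succ k ih =>
      rw [pow_succ]
      exact memLocalRing_mul ih hy
  have hxpow : ∀ k : ℕ, MemLocalRing M (((a : ℂ) / (b : ℂ)) ^ k) := by
    intro k
    induction k with
    | zero =>
      rw [pow_zero]
      exact memLocalRing_of_integral isIntegral_one
    | succ k ih =>
      rw [pow_succ]
      exact memLocalRing_mul ih hxloc
  refine ⟨r * N0, ?_⟩
  intro m hm
  have e1 : ((a : ℂ) / (b : ℂ)) ^ m / (N0 : ℂ)
      = ((a : ℂ) / (b : ℂ)) ^ (m - r * N0) * (((w : ℂ) / ((u : ℂ) * (b : ℂ) ^ r)) ^ N0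
        * ((p : ℂ) ^ N0 / (N0 : ℂ))) := by
    have : m = (m - r * N0) + r * N0 := by omega
    conv_lhs => rw [this, pow_add, pow_mul, hxr, mul_pow]
    ring
  rw [e1]
  exact memLocalIdeal_mul_localRing (hxpow _)
    (memLocalIdeal_mul_localRing (hpow _) (memLocalIdeal_pow_div hM N0 hN0))


section fourier

variable {H : Type*} [Group H] [Fintype H]

/-- If all Fourier coordinates lie in the local ideal, then a power of the element has all
coefficients in the local ideal. -/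
theorem exists_pow_coef_memLocalIdeal {p : ℕ} (hM : IsPModular p M) (c : IrrCharacter H → ℂ)
    (hc : ∀ θ, MemLocalIdeal M (c θ)) :
    ∃ n : ℕ, ∀ h : H, MemLocalIdeal M (coef (c ^ n) h) := by
  classical
  haveI hMp := isPrime_of_isPModular hM
  have hH0 : Nat.card H ≠ 0 := Nat.card_pos.ne'
  choose nθ hnθ using fun θ => exists_pow_div_memLocalIdeal hM (hc θ) (Nat.card H) hH0
  refine ⟨∑ θ, nθ θ, ?_⟩
  intro h
  unfold coef
  rw [Finset.mul_sum]
  apply memLocalIdeal_sum
  intro θ _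
  have h1 : nθ θ ≤ ∑ θ, nθ θ := Finset.single_le_sum (fun _ _ => Nat.zero_le _) (Finset.mem_univ θ)
  have h2 := hnθ θ _ h1
  have hint : IsIntegral ℤ ((θ : H → ℂ) 1 * conj ((θ : H → ℂ) h)) := by
    have hθc := isCharacter_of_isIrrCharacter θ.2
    apply IsIntegral.mul (isIntegral_of_isCharacter hθc 1)
    rw [← isCharacter_apply_inv hθc]
    exact isIntegral_of_isCharacter hθc _
  have h3 := memLocalIdeal_mul_integral h2 hint
  convert h3 using 1
  rw [Pi.pow_apply]
  ring

/-- Fourier inversion for class functions. -/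
theorem eq_coef_of_classFunction (z : H → ℂ) (hz : ∀ g x : H, z (x * g * x⁻¹) = z g) (g : H) :
    z g = coef (fun θ : IrrCharacter H => ∑ h : H, z h * ((θ : H → ℂ) h / (θ : H → ℂ) 1)) g := by
  classical
  have hH0 : (Nat.card H : ℂ) ≠ 0 := card_ne_zero_complex H
  unfold coef
  have h1 : ∀ θ : IrrCharacter H, (∑ h : H, z h * ((θ : H → ℂ) h / (θ : H → ℂ) 1))
      * (θ : H → ℂ) 1 * conj ((θ : H → ℂ) g)
      = ∑ h : H, z h * ((θ : H → ℂ) h * conj ((θ : H → ℂ) g)) := by
    intro θ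
    have hθ1 := apply_one_ne_zero θ.2
    rw [Finset.sum_mul, Finset.sum_mul]
    apply Finset.sum_congr rfl
    intro h _
    field_simp
  rw [Finset.sum_congr rfl (fun θ _ => h1 θ), Finset.sum_comm]
  simp_rw [← Finset.mul_sum, sum_irr_mul_conj]
  have h2 : ∑ h : H, z h * (Nat.card {y : H // y * g * y⁻¹ = h} : ℂ)
      = ∑ y : H, z (y * g * y⁻¹) := by
    rw [← Finset.sum_fiberwise Finset.univ (fun y : H => y * g * y⁻¹)
      (fun y => z (y * g * y⁻¹))]
    apply Finset.sum_congr rfl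
    intro h _
    have h3 : ∀ y ∈ Finset.univ.filter (fun y : H => y * g * y⁻¹ = h), z (y * g * y⁻¹) = z h := by
      intro y hy
      rw [(Finset.mem_filter.mp hy).2]
    rw [Finset.sum_congr rfl h3, Finset.sum_const, nsmul_eq_mul, Nat.card_eq_fintype_card,
      Fintype.card_subtype]
    ring
  rw [h2, Finset.sum_congr rfl (fun y _ => hz g y), Finset.sum_const, Finset.card_univ,
    nsmul_eq_mul, ← Nat.card_eq_fintype_card]
  field_simp

end fourier

end Cfsg.Agent.Lib.helper3.Block
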