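import Mathlib
import Cfsg.Prelude.Def_Blocks
import Cfsg.Prelude.Def_BrauerPairs
import Cfsg.Agent.Lib.helper3.NilCentral
import Cfsg.Agent.Lib.helper3.AutBlock2
import Cfsg.Agent.Lib.helper3.BlockMinMax

/-!
# The Brauer functional vanishes on elements with central character values in the local ideal
-/

set_option autoImplicit false
set_option linter.style.haveILetI false
set_option linter.unusedSectionVars false

namespace Cfsg.Agent.Lib.helper3.Block

open Cfsg Module Cfsg.Agent.Lib.helper3.CharBasic Cfsg.Agent.Lib.helper3.Irr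
open Cfsg.Agent.Lib.helper3.Central Cfsg.Agent.Lib.helper3.LocalM Cfsg.Agent.Lib.helper3.IndFun
open Cfsg.Agent.Lib.helper3.Lin
open scoped ComplexConjugate

variable {G : Type*} [Group G] [Fintype G] {M : Ideal AlgInt}

open Classical in
/-- The coefficient function of the identity element. -/
noncomputable def deltaOne (G : Type*) [Group G] : G → ℂ := fun g => if g = 1 then 1 else 0

open Classical in
/-- Iterated convolution powers. -/
noncomputable def cpow (z : G → ℂ) : ℕ → G → ℂ
  | 0 => deltaOne G
  | n + 1 => conv (cpow z n) z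

theorem cpow_zero (z : G → ℂ) : cpow z 0 = deltaOne G := rfl

theorem cpow_succ (z : G → ℂ) (n : ℕ) : cpow z (n + 1) = conv (cpow z n) z := rfl

theorem deltaOne_conj (u g : G) : deltaOne G (u * g * u⁻¹) = deltaOne G g := by
  classical
  unfold deltaOne
  have : u * g * u⁻¹ = 1 ↔ g = 1 := by
    constructor
    · intro h
      have h1 : g = u⁻¹ * (u * g * u⁻¹) * u := by group
      rw [h1, h]
      group
    · rintro rfl
      group
  by_cases hg : g = 1
  · rw [if_pos hg, if_pos (this.mpr hg)]
  · rw [if_neg hg, if_neg (fun h => hg (this.mp h))]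

theorem conv_conj (a b : G → ℂ) (u : G) (ha : ∀ g, a (u * g * u⁻¹) = a g)
    (hb : ∀ g, b (u * g * u⁻¹) = b g) (g : G) : conv a b (u * g * u⁻¹) = conv a b g := by
  unfold conv
  apply (Fintype.sum_equiv (MulAut.conj u).toEquiv _ _ _).symm
  intro y
  show a y * b (y⁻¹ * g) = a (u * y * u⁻¹) * b ((u * y * u⁻¹)⁻¹ * (u * g * u⁻¹))
  rw [ha]
  have : (u * y * u⁻¹)⁻¹ * (u * g * u⁻¹) = u * (y⁻¹ * g) * u⁻¹ := by group
  rw [this, hb]

theorem memLocalRing_conv [hMp : M.IsPrime] (a b : G → ℂ) (ha : ∀ g, MemLocalRing M (a g))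
    (hb : ∀ g, MemLocalRing M (b g)) (g : G) : MemLocalRing M (conv a b g) := by
  unfold conv
  apply memLocalRing_sum
  intro y _
  exact memLocalRing_mul (ha y) (hb _)

theorem memLocalRing_deltaOne [hMp : M.IsPrime] (g : G) : MemLocalRing M (deltaOne G g) := by
  classical
  unfold deltaOne
  by_cases hg : g = 1
  · rw [if_pos hg]
    exact memLocalRing_of_integral isIntegral_one
  · rw [if_neg hg]
    exact memLocalRing_of_integral isIntegral_zero

theorem cpow_conj (z : G → ℂ) (u : G) (hz : ∀ g, z (u * g * u⁻¹) = z g) (n : ℕ) (g : G) :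
    cpow z n (u * g * u⁻¹) = cpow z n g := by
  induction n generalizing g with
  | zero => exact deltaOne_conj u g
  | succ n ih =>
    rw [cpow_succ]
    exact conv_conj _ _ u ih hz g

theorem memLocalRing_cpow [hMp : M.IsPrime] (z : G → ℂ) (hz : ∀ g, MemLocalRing M (z g))
    (n : ℕ) (g : G) : MemLocalRing M (cpow z n g) := by
  induction n generalizing g with
  | zero => exact memLocalRing_deltaOne g
  | succ n ih =>
    rw [cpow_succ]
    exact memLocalRing_conv _ _ ih hz g

theorem brauerOmega_deltaOne (P : Subgroup G) [Fintype (Subgroup.centralizer (P : Set G))]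
    (ξ : IrrCharacter (Subgroup.centralizer (P : Set G))) :
    brauerOmega P (deltaOne G) (ξ : Subgroup.centralizer (P : Set G) → ℂ) = 1 := by
  classical
  have hξ1 := apply_one_ne_zero ξ.2
  rw [brauerOmega_eq_sum]
  unfold deltaOne
  rw [Finset.sum_eq_single (1 : Subgroup.centralizer (P : Set G))]
  · rw [if_pos (show ((1 : Subgroup.centralizer (P : Set G)) : G) = 1 from rfl), one_mul,
      div_self hξ1]
  · intro x _ hx
    rw [if_neg (show ¬ (x : G) = 1 from fun h => hx (Subtype.ext h)), zero_mul]
  · intro h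
    exact absurd (Finset.mem_univ _) h

/-- The Brauer functional of a function with values in the local ideal. -/
theorem memLocalIdeal_brauerOmega_of_forall [hMp : M.IsPrime] (P : Subgroup G)
    [Fintype (Subgroup.centralizer (P : Set G))] (a : G → ℂ)
    (ha : ∀ g, MemLocalIdeal M (a g))
    (haC : ∀ c ∈ Subgroup.centralizer (P : Set G), ∀ g, a (c * g * c⁻¹) = a g)
    (ξ : IrrCharacter (Subgroup.centralizer (P : Set G))) :
    MemLocalIdeal M (brauerOmega P a (ξ : Subgroup.centralizer (P : Set G) → ℂ)) := by
  classical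
  rw [brauerOmega_eq_sum]
  apply memLocalIdeal_sum_class_fun (G := Subgroup.centralizer (P : Set G))
  · intro x c
    rw [isClassFunction_of_isCharacter (isCharacter_of_isIrrCharacter ξ.2) x c]
    have : ((c * x * c⁻¹ : Subgroup.centralizer (P : Set G)) : G)
        = (c : G) * (x : G) * (c : G)⁻¹ := by simp
    rw [this, haC c c.2]
  · intro x
    have e : ((Subgroup.centralizer ({x} : Set (Subgroup.centralizer (P : Set G)))).index : ℂ)
        * (a (x : G) * ((ξ : Subgroup.centralizer (P : Set G) → ℂ) x
            / (ξ : Subgroup.centralizer (P : Set G) → ℂ) 1))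
        = centralChar (ξ : Subgroup.centralizer (P : Set G) → ℂ) x * a (x : G) := by
      unfold centralChar
      ring
    rw [e]
    exact memLocalIdeal_mul_integral (ha _) (isIntegral_centralChar ξ.2 x)

theorem memLocalIdeal_of_pow [hMp : M.IsPrime] {x : ℂ} (hx : MemLocalRing M x) (n : ℕ)
    (h : MemLocalIdeal M (x ^ n)) : MemLocalIdeal M x := by
  induction n with
  | zero =>
    rw [pow_zero] at h
    exact absurd h not_memLocalIdeal_one
  | succ n ih =>
    rw [pow_succ] at h
    have hxn : MemLocalRing M (x ^ n) := by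
      clear ih h
      induction n with
      | zero =>
        rw [pow_zero]
        exact memLocalRing_of_integral isIntegral_one
      | succ n ih =>
        rw [pow_succ]
        exact memLocalRing_mul ih hx
    rcases memLocalIdeal_or_of_mul_local hxn hx h with h1 | h1
    · exact ih h1
    · exact h1

/-- The Brauer functional of a convolution power. -/
theorem memLocalIdeal_brauerOmega_cpow {p : ℕ} (hM : IsPModular p M) (P : Subgroup G)
    (hP : IsPGroup p P) [Fintype (Subgroup.centralizer (P : Set G))] (z : G → ℂ)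
    (hz : ∀ g, MemLocalRing M (z g)) (hzP : ∀ u ∈ P, ∀ g, z (u * g * u⁻¹) = z g)
    (hzC : ∀ c ∈ Subgroup.centralizer (P : Set G), ∀ g, z (c * g * c⁻¹) = z g)
    (ξ : IrrCharacter (Subgroup.centralizer (P : Set G))) (n : ℕ) :
    MemLocalIdeal M (brauerOmega P (cpow z n) (ξ : Subgroup.centralizer (P : Set G) → ℂ)
      - brauerOmega P z (ξ : Subgroup.centralizer (P : Set G) → ℂ) ^ n) := by
  haveI hMp := isPrime_of_isPModular hM
  have hMtop : M ≠ ⊤ := hM.2.1.ne_top
  induction n with
  | zero =>
    rw [cpow_zero, brauerOmega_deltaOne, pow_zero, sub_self]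
    exact memLocalIdeal_zero hMtop
  | succ n ih =>
    rw [cpow_succ, pow_succ]
    have h1 := memLocalIdeal_brauerOmega_conv hM P hP (cpow z n) z
      (memLocalRing_cpow z hz n) hz
      (fun u hu g => cpow_conj z u (hzP u hu) n g) hzP
      (fun c hc g => cpow_conj z c (hzC c hc) n g) hzC ξ
    have h2 := memLocalIdeal_mul_localRing (memLocalRing_brauerOmega P z hz hzC ξ) ih
    have h3 := memLocalIdeal_add h1 h2
    convert h3 using 1
    ring


/-- The convolution powers of a function supported on a subgroup `H` and invariant under `H`, in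
terms of its Fourier coordinates on `H`. -/
theorem cpow_eq_coef (H : Subgroup G) [Fintype H] (z : G → ℂ) (hsupp : ∀ g, g ∉ H → z g = 0)
    (hzH : ∀ h ∈ H, ∀ g, z (h * g * h⁻¹) = z g) (n : ℕ) :
    (∀ g, g ∉ H → cpow z n g = 0) ∧ ∀ h : H, cpow z n (h : G)
      = coef ((fun θ : IrrCharacter H =>
          ∑ x : H, z (x : G) * ((θ : H → ℂ) x / (θ : H → ℂ) 1)) ^ n) h := by
  classical
  have hinv := eq_coef_of_classFunction (fun h : H => z (h : G)) (fun g x => by
    show z ((x * g * x⁻¹ : H) : G) = z (g : G)
    push_cast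
    exact hzH x x.2 g)
  induction n with
  | zero =>
    constructor
    · intro g hg
      rw [cpow_zero]
      unfold deltaOne
      rw [if_neg]
      rintro rfl
      exact hg H.one_mem
    · intro h
      rw [cpow_zero, pow_zero]
      have := coef_one (G := H) h
      rw [show (1 : IrrCharacter H → ℂ) = fun _ => (1 : ℂ) from rfl, this]
      unfold deltaOne
      by_cases hh : h = 1
      · rw [if_pos hh, if_pos (by rw [hh]; rfl)]
      · rw [if_neg hh, if_neg (show ¬ (h : G) = 1 from fun h' => hh (Subtype.ext h'))]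
  | succ n ih =>
    obtain ⟨ih1, ih2⟩ := ih
    constructor
    · intro g hg
      rw [cpow_succ, conv_of_support H _ _ ih1]
      apply Finset.sum_eq_zero
      intro y _
      rw [hsupp ((y : G)⁻¹ * g), mul_zero]
      intro h
      apply hg
      have := H.mul_mem y.2 h
      rwa [mul_inv_cancel_left] at this
    · intro h
      rw [cpow_succ, conv_of_support H _ _ ih1, pow_succ, coef_mul]
      apply Finset.sum_congr rfl
      intro y _
      rw [ih2 y]
      congr 1
      exact hinv (y⁻¹ * h)

/-- The Brauer functional vanishes modulo the local ideal on the elements supported on an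
intermediate subgroup `H` all of whose central character values on `H` lie in the local ideal. -/
theorem memLocalIdeal_brauerOmega_of_centralChar {p : ℕ} (hM : IsPModular p M) (P : Subgroup G)
    (hP : IsPGroup p P) [Fintype (Subgroup.centralizer (P : Set G))] (H : Subgroup G) [Fintype H]
    (z : G → ℂ)
    (hz : ∀ g, MemLocalRing M (z g)) (hzP : ∀ u ∈ P, ∀ g, z (u * g * u⁻¹) = z g)
    (hzC : ∀ c ∈ Subgroup.centralizer (P : Set G), ∀ g, z (c * g * c⁻¹) = z g)
    (hsupp : ∀ g, g ∉ H → z g = 0) (hzH : ∀ h ∈ H, ∀ g, z (h * g * h⁻¹) = z g)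
    (hc : ∀ θ : IrrCharacter H,
      MemLocalIdeal M (∑ x : H, z (x : G) * ((θ : H → ℂ) x / (θ : H → ℂ) 1)))
    (ξ : IrrCharacter (Subgroup.centralizer (P : Set G))) :
    MemLocalIdeal M (brauerOmega P z (ξ : Subgroup.centralizer (P : Set G) → ℂ)) := by
  haveI hMp := isPrime_of_isPModular hM
  have hMtop : M ≠ ⊤ := hM.2.1.ne_top
  obtain ⟨n, hn⟩ := exists_pow_coef_memLocalIdeal hM _ hc
  obtain ⟨h1, h2⟩ := cpow_eq_coef H z hsupp hzH n
  have hval : ∀ g, MemLocalIdeal M (cpow z n g) := by
    intro g
    by_cases hg : g ∈ H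
    · have := h2 ⟨g, hg⟩
      rw [show ((⟨g, hg⟩ : H) : G) = g from rfl] at this
      rw [this]
      exact hn _
    · rw [h1 g hg]
      exact memLocalIdeal_zero hMtop
  have h3 := memLocalIdeal_brauerOmega_of_forall P (cpow z n) hval
    (fun c hc g => cpow_conj z c (hzC c hc) n g) ξ
  have h4 := memLocalIdeal_brauerOmega_cpow hM P hP z hz hzP hzC ξ n
  have h5 := memLocalIdeal_sub h3 h4
  rw [sub_sub_cancel] at h5
  exact memLocalIdeal_of_pow (memLocalRing_brauerOmega P z hz hzC ξ) n h5

end Cfsg.Agent.Lib.helper3.Block
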