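import Mathlib
import Cfsg.Prelude.Def_Blocks
import Cfsg.Prelude.Def_BrauerPairs
import Cfsg.Agent.Lib.helper3.NilCentral2
import Cfsg.Agent.Lib.helper3.BlockInd

/-!
# Detecting the Brauer map image of a block idempotent by central characters
-/

set_option autoImplicit false
set_option linter.style.haveILetI false
set_option linter.unusedSectionVars false

namespace Cfsg.Agent.Lib.helper3.Block

open Cfsg Module Cfsg.Agent.Lib.helper3.CharBasic Cfsg.Agent.Lib.helper3.Irr
open Cfsg.Agent.Lib.helper3.Central Cfsg.Agent.Lib.helper3.LocalM Cfsg.Agent.Lib.helper3.IndFun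
open Cfsg.Agent.Lib.helper3.Lin
open scoped ComplexConjugate

variable {G : Type*} [Group G] [Fintype G] {M : Ideal AlgInt}

theorem conv_deltaOne (z : G → ℂ) : conv (deltaOne G) z = z := by
  classical
  funext g
  unfold conv deltaOne
  rw [Finset.sum_eq_single (1 : G)]
  · rw [if_pos rfl, one_mul, inv_one, one_mul]
  · intro y _ hy
    rw [if_neg hy, zero_mul]
  · intro h
    exact absurd (Finset.mem_univ _) h

/-- If the Brauer functional of the idempotent of `B` at every irreducible character of `C_G(P)`
lies in the local ideal, then all the coefficients of the idempotent on `C_G(P)` lie in the local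
ideal. -/
theorem memLocalIdeal_blockCoeff_of_brauerOmega {p : ℕ} [hp : Fact p.Prime]
    (hM : IsPModular p M) (P : Subgroup G) (hP : IsPGroup p P)
    [Fintype (Subgroup.centralizer (P : Set G))] (B : Set (IrrCharacter G)) (hB : IsPBlock M B)
    (h : ∀ ξ : IrrCharacter (Subgroup.centralizer (P : Set G)),
      MemLocalIdeal M (brauerOmega P (blockCoeff B)
        (ξ : Subgroup.centralizer (P : Set G) → ℂ)))
    (c : G) (hc : c ∈ Subgroup.centralizer (P : Set G)) :
    MemLocalIdeal M (blockCoeff B c) := by
  classical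
  haveI hMp := isPrime_of_isPModular hM
  have hMtop : M ≠ ⊤ := hM.2.1.ne_top
  obtain ⟨z, hz⟩ : ∃ z : G → ℂ, z = fun g =>
      if g ∈ Subgroup.centralizer (P : Set G) then blockCoeff B g else 0 := ⟨_, rfl⟩
  have haloc : ∀ g, MemLocalRing M (blockCoeff B g) := fun g => osima hM B hB g
  have hz_mem : ∀ g, g ∈ Subgroup.centralizer (P : Set G) → z g = blockCoeff B g := by
    intro g hg
    rw [hz]
    beta_reduce
    rw [if_pos hg]
  have hz_supp : ∀ g, g ∉ Subgroup.centralizer (P : Set G) → z g = 0 := by
    intro g hg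
    rw [hz]
    beta_reduce
    rw [if_neg hg]
  have hz_loc : ∀ g, MemLocalRing M (z g) := by
    intro g
    by_cases hg : g ∈ Subgroup.centralizer (P : Set G)
    · rw [hz_mem g hg]
      exact haloc g
    · rw [hz_supp g hg]
      exact memLocalRing_of_integral isIntegral_zero
  have hz_C : ∀ x ∈ Subgroup.centralizer (P : Set G), ∀ g, z (x * g * x⁻¹) = z g := by
    intro x hx g
    have hiff : g ∈ Subgroup.centralizer (P : Set G)
        ↔ x * g * x⁻¹ ∈ Subgroup.centralizer (P : Set G) := by
      constructor
      · intro hg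
        exact Subgroup.mul_mem _ (Subgroup.mul_mem _ hx hg) (Subgroup.inv_mem _ hx)
      · intro hg
        have := Subgroup.mul_mem _ (Subgroup.mul_mem _ (Subgroup.inv_mem _ hx) hg) hx
        rwa [show x⁻¹ * (x * g * x⁻¹) * x = g by group] at this
    by_cases hg : g ∈ Subgroup.centralizer (P : Set G)
    · rw [hz_mem g hg, hz_mem _ (hiff.mp hg), blockCoeff_conj' B g x]
    · rw [hz_supp g hg, hz_supp _ (fun h' => hg (hiff.mpr h'))]
  -- the Fourier coordinates
  have hcθ : ∀ θ : IrrCharacter (Subgroup.centralizer (P : Set G)),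
      MemLocalIdeal M (∑ x : Subgroup.centralizer (P : Set G), z (x : G)
        * ((θ : Subgroup.centralizer (P : Set G) → ℂ) x
          / (θ : Subgroup.centralizer (P : Set G) → ℂ) 1)) := by
    intro θ
    have := h θ
    rw [brauerOmega_eq_sum] at this
    convert this using 1
    apply Finset.sum_congr rfl
    intro x _
    rw [hz_mem _ x.2]

  obtain ⟨n, hn⟩ := exists_pow_coef_memLocalIdeal hM _ hcθ
  obtain ⟨h1, h2⟩ := cpow_eq_coef (Subgroup.centralizer (P : Set G)) z hz_supp hz_C n
  have hval : ∀ g, MemLocalIdeal M (cpow z n g) := by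
    intro g
    by_cases hg : g ∈ Subgroup.centralizer (P : Set G)
    · have := h2 ⟨g, hg⟩
      rw [show ((⟨g, hg⟩ : Subgroup.centralizer (P : Set G)) : G) = g from rfl] at this
      rw [this]
      exact hn _
    · rw [h1 g hg]
      exact memLocalIdeal_zero hMtop
  have hval' : ∀ g, MemLocalIdeal M (cpow z (n + 1) g) := by
    intro g
    rw [cpow_succ]
    unfold conv
    apply memLocalIdeal_sum
    intro y _
    rw [mul_comm]
    exact memLocalIdeal_mul_localRing (hz_loc _) (hval y)
  -- idempotency modulo the local ideal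
  have hidem : ∀ m : ℕ, ∀ x ∈ Subgroup.centralizer (P : Set G),
      MemLocalIdeal M (cpow z (m + 1) x - z x) := by
    intro m
    induction m with
    | zero =>
      intro x _
      rw [cpow_succ, cpow_zero, conv_deltaOne, sub_self]
      exact memLocalIdeal_zero hMtop
    | succ m ih =>
      intro x hx
      have hsupp_m : ∀ g, g ∉ Subgroup.centralizer (P : Set G) → cpow z (m + 1) g = 0 :=
        (cpow_eq_coef (Subgroup.centralizer (P : Set G)) z hz_supp hz_C (m + 1)).1
      rw [cpow_succ, conv_of_support (Subgroup.centralizer (P : Set G)) _ _ hsupp_m]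
      have e1 := memLocalIdeal_conv_sub_trunc hM P hP (blockCoeff B) (blockCoeff B) haloc haloc
        (fun u _ g => blockCoeff_conj' B g u) (fun u _ g => blockCoeff_conj' B g u) x hx
      rw [conv_blockCoeff_self] at e1
      have e2 : MemLocalIdeal M (∑ y : Subgroup.centralizer (P : Set G),
          (cpow z (m + 1) (y : G) - z (y : G)) * z ((y : G)⁻¹ * x)) := by
        apply memLocalIdeal_sum
        intro y _
        rw [mul_comm]
        exact memLocalIdeal_mul_localRing (hz_loc _) (ih y y.2)
      have e3 : ∑ y : Subgroup.centralizer (P : Set G), z (y : G) * z ((y : G)⁻¹ * x)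
          = ∑ y : Subgroup.centralizer (P : Set G),
            blockCoeff B (y : G) * blockCoeff B ((y : G)⁻¹ * x) := by
        apply Finset.sum_congr rfl
        intro y _
        rw [hz_mem _ y.2, hz_mem _ (Subgroup.mul_mem _ (Subgroup.inv_mem _ y.2) hx)]
      have e4 := memLocalIdeal_sub e2 e1
      convert e4 using 1
      have : ∀ y : Subgroup.centralizer (P : Set G),
          (cpow z (m + 1) (y : G) - z (y : G)) * z ((y : G)⁻¹ * x)
          = cpow z (m + 1) (y : G) * z ((y : G)⁻¹ * x) - z (y : G) * z ((y : G)⁻¹ * x) := by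
        intro y
        ring
      rw [hz_mem x hx, ← e3, Finset.sum_congr rfl (fun y _ => this y), Finset.sum_sub_distrib]
      ring
  have h3 := hidem n c hc
  have h4 := memLocalIdeal_sub (hval' c) h3
  rw [sub_sub_cancel, hz_mem c hc] at h4
  exact h4


/-- An induced block determines the values of the central characters of `H` on the truncations of
the local class functions of `G`. -/
theorem memLocalIdeal_sum_sub_of_induced [hMp : M.IsPrime] (H : Subgroup G) [Fintype H]
    (b : Set (IrrCharacter H)) (B : Set (IrrCharacter G)) (hind : IsInducedBlock M H b B)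
    (ξ : IrrCharacter H) (hξ : ξ ∈ b) (χ : IrrCharacter G) (hχ : χ ∈ B) (z : G → ℂ)
    (hz : ∀ g, MemLocalRing M (z g)) (hzc : ∀ g x : G, z (x * g * x⁻¹) = z g) :
    MemLocalIdeal M (∑ h : H, z (h : G) * ((ξ : H → ℂ) h / (ξ : H → ℂ) 1)
      - ∑ g : G, z g * ((χ : G → ℂ) g / (χ : G → ℂ) 1)) := by
  classical
  have hzconj : ∀ g g' : G, IsConj g g' → z g = z g' := by
    intro g g' hgg
    obtain ⟨y, hy⟩ := isConj_iff.mp hgg
    rw [← hy, hzc]
  have h1 : ∑ g : G, z g * ((χ : G → ℂ) g / (χ : G → ℂ) 1)
      = ∑ K : ConjClasses G, z (Quotient.out K) * centralChar (χ : G → ℂ) (Quotient.out K) := by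
    rw [sum_class_fun]
    · apply Finset.sum_congr rfl
      intro K _
      unfold centralChar
      ring
    · intro g x
      rw [isClassFunction_of_isCharacter (isCharacter_of_isIrrCharacter χ.2) g x, hzc]
  have h2 : ∑ h : H, z (h : G) * ((ξ : H → ℂ) h / (ξ : H → ℂ) 1)
      = ∑ K : ConjClasses G, z (Quotient.out K)
        * inducedCentralChar H (ξ : H → ℂ) (Quotient.out K) := by
    have h0 : ∀ g : G, inducedCentralChar H (ξ : H → ℂ) g
        = ∑ h : H, if IsConj g (h : G) then (ξ : H → ℂ) h / (ξ : H → ℂ) 1 else 0 := by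
      intro g
      rw [inducedCentralChar_eq_sum]
      congr!
    simp_rw [h0, Finset.mul_sum]
    rw [Finset.sum_comm]
    apply Finset.sum_congr rfl
    intro h _
    rw [Finset.sum_eq_single (ConjClasses.mk (h : G))]
    · have hc : IsConj (Quotient.out (ConjClasses.mk (h : G))) (h : G) := by
        rw [← ConjClasses.mk_eq_mk_iff_isConj]
        exact Quotient.out_eq _
      rw [if_pos hc, hzconj _ _ hc]
    · intro K _ hK
      rw [if_neg, mul_zero]
      intro hc
      apply hK
      rw [← Quotient.out_eq K]
      exact ConjClasses.mk_eq_mk_iff_isConj.mpr hc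
    · intro h'
      exact absurd (Finset.mem_univ _) h'
  rw [h1, h2, ← Finset.sum_sub_distrib]
  apply memLocalIdeal_sum
  intro K _
  rw [← mul_sub]
  exact memLocalIdeal_mul_localRing (hz _) (hind.2.2 ξ hξ χ hχ _)

end Cfsg.Agent.Lib.helper3.Block
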