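import Mathlib
import Cfsg.Prelude.Def_Characters
import Cfsg.Agent.Lib.helper3.BrauerChar
import Cfsg.Agent.Lib.helper3.HallNilp

/-!
# The `p`-regular part of a character

`pregular_part_generalized` : `p ^ a * χ` on the `p`-regular elements (and `0` elsewhere) is a
generalized character, `p ^ a` the `p`-part of `|G|`.
-/

set_option autoImplicit false
set_option linter.style.haveILetI false
set_option linter.unusedSectionVars false

namespace Cfsg.Agent.Lib.helper3.BrauerInd

open Cfsg Module Cfsg.Agent.Lib.helper3.IndFun Cfsg.Agent.Lib.helper3.CharBasic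
open Cfsg.Agent.Lib.helper3.Irr Cfsg.Agent.Lib.helper3.IndFunTrans Cfsg.Agent.Lib.helper3.Lin
open Cfsg.Agent.Lib.helper3.HallNilp

universe u

/-- Induction of the restriction of a class function from a normal subgroup. -/
theorem indFun_restrict_normal {E : Type*} [Group E] [Fintype E] (K : Subgroup E) [hK : K.Normal]
    (ψ : E → ℂ) (hψ : IsClassFunction E ψ) (e : E) [Decidable (e ∈ K)] :
    indFun K (fun k : K => ψ k) e = if e ∈ K then (K.index : ℂ) * ψ e else 0 := by
  classical
  rw [indFun_apply]
  by_cases he : e ∈ K
  · rw [if_pos he]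
    have h1 : ∀ y : E, extendByZero K (fun k : K => ψ k) (y⁻¹ * e * y) = ψ e := by
      intro y
      have hmem : y⁻¹ * e * y ∈ K := by
        have := hK.conj_mem e he y⁻¹
        rwa [inv_inv] at this
      rw [extendByZero_mem K _ hmem]
      have := hψ e y⁻¹
      rw [inv_inv] at this
      exact this
    rw [Finset.sum_congr rfl (fun y _ => h1 y), Finset.sum_const, Finset.card_univ, nsmul_eq_mul,
      ← Nat.card_eq_fintype_card, ← Subgroup.card_mul_index K]
    have hK0 : (Nat.card K : ℂ) ≠ 0 := card_ne_zero_complex K
    push_cast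
    field_simp
  · rw [if_neg he]
    have h1 : ∀ y : E, extendByZero K (fun k : K => ψ k) (y⁻¹ * e * y) = 0 := by
      intro y
      apply extendByZero_not_mem
      intro hmem
      apply he
      have := hK.conj_mem _ hmem y
      have e1 : y * (y⁻¹ * e * y) * y⁻¹ = e := by group
      rwa [e1] at this
    rw [Finset.sum_congr rfl (fun y _ => h1 y), Finset.sum_const_zero, mul_zero]

theorem pregular_part_generalized {G : Type u} [Group G] [Fintype G] (p : ℕ) [hp : Fact p.Prime]
    (χ : G → ℂ) (hχ : IsCharacter G χ) (a : ℕ) (ha : ∀ j : ℕ, p ^ j ∣ Nat.card G → j ≤ a) :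
    IsGeneralizedCharacter G (fun x => if p ∣ orderOf x then 0 else ((p ^ a : ℕ) : ℂ) * χ x) := by
  classical
  have hχcf := isClassFunction_of_isCharacter hχ
  apply brauer_characterization
  · intro g h
    simp only
    rw [orderOf_conj', hχcf g h]
  · intro E q hq hE
    haveI : Fact q.Prime := ⟨hq⟩
    letI : Fintype E := Fintype.ofFinite E
    haveI : Group.IsNilpotent E := isNilpotent_of_isElementary hE
    obtain ⟨K, hKn, hKmem, j, hj⟩ := exists_hall_pprime (E := E) p
    haveI := hKn
    have hja : j ≤ a := by
      apply ha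
      rw [← hj]
      exact dvd_trans (Subgroup.index_dvd_card K) (Subgroup.card_subgroup_dvd_card E)
    have hψcf : IsClassFunction E (fun e : E => χ e) :=
      isClassFunction_of_isCharacter (isCharacter_restrict hχ E)
    have hfun : (fun e : E => if p ∣ orderOf (e : G) then 0 else ((p ^ a : ℕ) : ℂ) * χ e)
        = ((p ^ (a - j) : ℕ) : ℂ) • indFun K (fun k : K => χ ((k : E) : G)) := by
      funext e
      rw [Pi.smul_apply, indFun_restrict_normal K (fun e : E => χ e) hψcf e, Subgroup.orderOf_coe]
      by_cases he : p ∣ orderOf e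
      · rw [if_pos he, if_neg (fun h => (hKmem e).1 h he), smul_zero]
      · rw [if_neg he, if_pos ((hKmem e).2 he), hj, smul_eq_mul, ← mul_assoc]
        congr 1
        rw [← Nat.cast_mul, ← pow_add, Nat.sub_add_cancel hja]
    rw [hfun]
    refine ⟨_, 0, isCharacter_nsmul (isCharacter_indFun K _
      (isCharacter_restrict (isCharacter_restrict hχ E) K)) _, isCharacter_zero, (sub_zero _).symm⟩

end Cfsg.Agent.Lib.helper3.BrauerInd
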