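import Mathlib
import Cfsg.Prelude.Def_Characters
import Cfsg.Agent.Lib.helper3.PRegular

/-!
# The indicator of the `p`-elements

`pelement_part_generalized` : the `p'`-part of `|G|` times the indicator function of the set of
`p`-elements is a generalized character.
-/

set_option autoImplicit false
set_option linter.style.haveILetI false
set_option linter.unusedSectionVars false

namespace Cfsg.Agent.Lib.helper3.BrauerInd

open Cfsg Module Cfsg.Agent.Lib.helper3.IndFun Cfsg.Agent.Lib.helper3.CharBasic
open Cfsg.Agent.Lib.helper3.Irr Cfsg.Agent.Lib.helper3.IndFunTrans Cfsg.Agent.Lib.helper3.Lin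
open Cfsg.Agent.Lib.helper3.HallNilp

universe u

/-- In a finite nilpotent group the `p`-elements form a normal subgroup of index prime to `p`. -/
theorem exists_sylow_pelements {E : Type*} [Group E] [Finite E] [hnil : Group.IsNilpotent E]
    (p : ℕ) [hp : Fact p.Prime] :
    ∃ K : Subgroup E, K.Normal ∧ (∀ y : E, y ∈ K ↔ ∃ k : ℕ, orderOf y = p ^ k) ∧
      ¬ p ∣ K.index := by
  classical
  obtain ⟨P⟩ : Nonempty (Sylow p E) := inferInstance
  haveI hPn : (P : Subgroup E).Normal := inferInstance
  refine ⟨P, hPn, ?_, P.not_dvd_index⟩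
  intro y
  constructor
  · intro hy
    obtain ⟨i, hi⟩ := (P.isPGroup') ⟨y, hy⟩
    have hyi : y ^ p ^ i = 1 := congrArg Subtype.val hi
    exact (Nat.dvd_prime_pow hp.out).1 (orderOf_dvd_of_pow_eq_one hyi) |>.imp fun k hk => hk.2
  · rintro ⟨k, hk⟩
    have hpg : IsPGroup p (Subgroup.zpowers y) := by
      rw [IsPGroup.iff_card]
      exact ⟨k, by rw [Nat.card_zpowers, hk]⟩
    obtain ⟨Q, hQ⟩ := hpg.exists_le_sylow
    haveI := Sylow.unique_of_normal P hPn
    have hQP : Q = P := Subsingleton.elim _ _
    rw [hQP] at hQ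
    exact hQ (Subgroup.mem_zpowers y)

open Classical in
theorem pelement_part_generalized {G : Type u} [Group G] [Fintype G] (p : ℕ) [hp : Fact p.Prime] :
    IsGeneralizedCharacter G (fun x => if ∃ k : ℕ, orderOf x = p ^ k
      then ((ordCompl[p] (Nat.card G) : ℕ) : ℂ) else 0) := by
  classical
  apply brauer_characterization
  · intro g h
    simp only [orderOf_conj']
  · intro E q hq hE
    haveI : Fact q.Prime := ⟨hq⟩
    letI : Fintype E := Fintype.ofFinite E
    haveI : Group.IsNilpotent E := isNilpotent_of_isElementary hE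
    obtain ⟨K, hKn, hKmem, hKidx⟩ := exists_sylow_pelements (E := E) p
    haveI := hKn
    have hdvd : K.index ∣ ordCompl[p] (Nat.card G) := by
      have h1 : K.index ∣ Nat.card G :=
        dvd_trans (Subgroup.index_dvd_card K) (Subgroup.card_subgroup_dvd_card E)
      rw [← Nat.ordProj_mul_ordCompl_eq_self (Nat.card G) p] at h1
      apply Nat.Coprime.dvd_of_dvd_mul_left _ h1
      apply Nat.Coprime.pow_right
      exact ((Nat.Prime.coprime_iff_not_dvd hp.out).2 hKidx).symm
    obtain ⟨c, hc⟩ := hdvd
    have hψcf : IsClassFunction E (fun _ : E => (1 : ℂ)) := fun _ _ => rfl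
    have hfun : (fun e : E => if ∃ k : ℕ, orderOf (e : G) = p ^ k
          then ((ordCompl[p] (Nat.card G) : ℕ) : ℂ) else 0)
        = ((c : ℕ) : ℂ) • indFun K (fun _ : K => (1 : ℂ)) := by
      funext e
      rw [Pi.smul_apply, indFun_restrict_normal K (fun _ : E => (1 : ℂ)) hψcf e,
        Subgroup.orderOf_coe]
      by_cases he : ∃ k : ℕ, orderOf e = p ^ k
      · rw [if_pos he, if_pos ((hKmem e).2 he), hc, smul_eq_mul, mul_one]
        push_cast
        ring
      · rw [if_neg he, if_neg (fun h => he ((hKmem e).1 h)), smul_zero]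
    rw [hfun]
    refine ⟨_, 0, isCharacter_nsmul (isCharacter_indFun K _
      (isCharacter_of_isIrrCharacter isIrrCharacter_one)) _, isCharacter_zero, (sub_zero _).symm⟩

end Cfsg.Agent.Lib.helper3.BrauerInd
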