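import Mathlib
import Cfsg.Prelude.Def_Blocks
import Cfsg.Agent.Lib.helper3.DefectOrder
import Cfsg.Agent.Lib.helper3.BlockIdem2
import Cfsg.Agent.Lib.helper3.Irr11

/-!
# When the principal character is alone among the characters of degree prime to `p`
in the principal block
-/

set_option autoImplicit false
set_option linter.style.haveILetI false
set_option linter.unusedSectionVars false

namespace Cfsg.Agent.Lib.helper3.PrincOnly

open Cfsg Cfsg.Agent.Lib.helper3.LocalM Cfsg.Agent.Lib.helper3.CharBasic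
open Cfsg.Agent.Lib.helper3.Irr Cfsg.Agent.Lib.helper3.Central Cfsg.Agent.Lib.helper3.Lin
open Cfsg.Agent.Lib.helper3.Block
open scoped ComplexConjugate

variable {G : Type*} [Group G] [Fintype G] {M : Ideal AlgInt}

/-- The principal character as a member of `IrrCharacter G`. -/
noncomputable def one (G : Type*) [Group G] [Finite G] : IrrCharacter G :=
  ⟨fun _ => (1 : ℂ), isIrrCharacter_one⟩

/-- When `p` does not divide the group order, the principal block is the singleton of the
principal character. -/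
theorem principalBlock_subset {p : ℕ} (hM : IsPModular p M) (hp : ¬ p ∣ Nat.card G) :
    principalBlock M G ⊆ {one G} := by
  haveI := isPrime_of_isPModular hM
  apply union_of_blocks hM ({one G} : Set (IrrCharacter G)) _ (one G) rfl
  intro g
  unfold blockCoeff
  rw [finsum_mem_singleton]
  have hnot : (((Nat.card G : ℕ) : AlgInt)) ∉ M := by
    rw [natCast_mem_iff hM]; exact hp
  refine ⟨1, ((Nat.card G : ℕ) : AlgInt), hnot, ?_⟩
  show ((1 : AlgInt) : ℂ) / (((Nat.card G : ℕ) : AlgInt) : ℂ) = _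
  simp [one, div_eq_inv_mul]

open Classical in
/-- If `p` divides the group order, the principal block contains a non-principal character of degree
prime to `p`. -/
theorem exists_of_dvd {p : ℕ} [hpf : Fact p.Prime] (hM : IsPModular p M) (hp : p ∣ Nat.card G) :
    ∃ χ : IrrCharacter G, χ ∈ principalBlock M G ∧ ¬ p ∣ charDegree (χ : G → ℂ) ∧
      (χ : G → ℂ) ≠ fun _ => (1 : ℂ) := by
  haveI hMp := isPrime_of_isPModular hM
  by_contra hne
  push Not at hne
  obtain ⟨y, hy⟩ := exists_prime_orderOf_dvd_card' p hp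
  have hS : ∀ θ ∈ principalBlock M G, blockOf M (θ : G → ℂ) ⊆ principalBlock M G := by
    intro θ hθ ψ hψ
    exact sameBlock_trans (show SameBlock M (fun _ : G => (1 : ℂ)) (θ : G → ℂ) from hθ) hψ
  have h0 := sum_degree_mul_eq_zero hM (principalBlock M G) hS y (by rw [hy])
  have hone : one G ∈ principalBlock M G := sameBlock_refl hMp.ne_top _
  -- every other member has degree divisible by `p`
  have hdiv : ∀ χ : IrrCharacter G, χ ≠ one G → χ ∈ principalBlock M G →
      ∃ z : ℂ, IsIntegral ℤ z ∧ (χ : G → ℂ) 1 * (χ : G → ℂ) y = (p : ℂ) * z := by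
    intro χ hχ1 hχB
    have hpd : p ∣ charDegree (χ : G → ℂ) := by
      by_contra hnd
      apply hχ1
      apply Subtype.ext
      exact hne χ hχB hnd
    obtain ⟨n, hn1, _, _⟩ := irr_degree_dvd_card χ.2
    rw [charDegree_eq hn1] at hpd
    obtain ⟨k, hk⟩ := hpd
    refine ⟨(k : ℂ) * (χ : G → ℂ) y, ?_, ?_⟩
    · have hk : IsIntegral ℤ ((k : ℕ) : ℂ) := by
        have := isIntegral_algebraMap (R := ℤ) (A := ℂ) (x := (k : ℤ))
        simpa using this
      exact IsIntegral.mul hk (isIntegral_of_isCharacter (isCharacter_of_isIrrCharacter χ.2) y)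
    · rw [hn1, hk]; push_cast; ring
  choose z hz1 hz2 using hdiv
  have hsplit : ∑ χ : IrrCharacter G, (if χ ∈ principalBlock M G then (1 : ℂ) else 0)
      * ((χ : G → ℂ) 1 * (χ : G → ℂ) y) =
      1 + (p : ℂ) * ∑ χ ∈ (Finset.univ.erase (one G)),
        (if h : χ ≠ one G ∧ χ ∈ principalBlock M G then z χ h.1 h.2 else 0) := by
    rw [← Finset.add_sum_erase Finset.univ _ (Finset.mem_univ (one G)), if_pos hone]
    congr 1
    · simp [one]
    · rw [Finset.mul_sum]
      apply Finset.sum_congr rfl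
      intro χ hχ
      have hχ1 : χ ≠ one G := (Finset.mem_erase.mp hχ).1
      by_cases hχB : χ ∈ principalBlock M G
      · rw [if_pos hχB, one_mul, dif_pos ⟨hχ1, hχB⟩, hz2 χ hχ1 hχB]
      · rw [if_neg hχB, zero_mul, dif_neg (fun h => hχB h.2), mul_zero]
  rw [hsplit] at h0
  obtain ⟨w, hw⟩ : ∃ w : ℂ, w = ∑ χ ∈ (Finset.univ.erase (one G)),
        (if h : χ ≠ one G ∧ χ ∈ principalBlock M G then z χ h.1 h.2 else 0) := ⟨_, rfl⟩
  have hwint : IsIntegral ℤ w := by
    rw [hw]
    apply IsIntegral.sum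
    intro χ _
    by_cases h : χ ≠ one G ∧ χ ∈ principalBlock M G
    · rw [dif_pos h]; exact hz1 χ h.1 h.2
    · rw [dif_neg h]; exact isIntegral_zero
  rw [← hw] at h0
  -- `-1 = p w` is impossible for an algebraic integer `w`
  have hpc : (p : ℂ) ≠ 0 := by exact_mod_cast hpf.out.ne_zero
  have hw2 : w = ((-1 / p : ℚ) : ℂ) := by
    push_cast
    field_simp
    linear_combination h0
  rw [hw2] at hwint
  have hq : IsIntegral ℤ ((-1 / p : ℚ)) := by
    have := (isIntegral_algebraMap_iff (algebraMap ℚ ℂ).injective (R := ℤ) (x := (-1 / p : ℚ))).mp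
    exact this (by simpa using hwint)
  obtain ⟨m, hm⟩ := IsIntegrallyClosed.isIntegral_iff.mp hq
  have hm2 : (m : ℚ) * p = -1 := by
    have : (algebraMap ℤ ℚ) m = (m : ℚ) := rfl
    rw [this] at hm
    rw [hm]
    have hpq : (p : ℚ) ≠ 0 := by exact_mod_cast hpf.out.ne_zero
    field_simp
  have hm3 : m * (p : ℤ) = -1 := by exact_mod_cast hm2
  have hdvd : (p : ℤ) ∣ 1 := ⟨-m, by linarith⟩
  have : p ∣ 1 := by exact_mod_cast hdvd
  exact hpf.out.one_lt.ne' (Nat.dvd_one.mp this)

end Cfsg.Agent.Lib.helper3.PrincOnly
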