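import Mathlib
import Cfsg.Prelude.Def_Blocks
import Cfsg.Agent.Lib.helper3.ProjVanish6
import Cfsg.Agent.Lib.helper3.BlockBasic

/-!
# Block orthogonality on the `p`-regular elements
-/

set_option autoImplicit false
set_option linter.style.haveILetI false
set_option linter.unusedSectionVars false

namespace Cfsg.Agent.Lib.helper3.Block

open Cfsg Cfsg.Agent.Lib.helper3.LocalM Cfsg.Agent.Lib.helper3.CharBasic
open Cfsg.Agent.Lib.helper3.Irr Cfsg.Agent.Lib.helper3.GalPow Cfsg.Agent.Lib.helper3.IndFun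
open scoped ComplexConjugate

variable {G : Type*} [Group G] [Fintype G] {M : Ideal AlgInt}

theorem sum_irr_mul_conj_eq (χ ψ : IrrCharacter G) :
    ∑ g : G, (χ : G → ℂ) g * conj ((ψ : G → ℂ) g)
      = if χ = ψ then (Nat.card G : ℂ) else 0 := by
  have hG0 : (Nat.card G : ℂ) ≠ 0 := by
    have : Nat.card G ≠ 0 := Nat.card_pos.ne'
    exact_mod_cast this
  have h1 := irr_classInner_eq χ.2 ψ.2
  rw [classInner_apply] at h1
  have h2 : ∑ g : G, (χ : G → ℂ) g * conj ((ψ : G → ℂ) g)
      = (Nat.card G : ℂ) * (if (χ : G → ℂ) = (ψ : G → ℂ) then (1 : ℂ) else 0) := by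
    rw [← h1]
    field_simp
  rw [h2]
  by_cases h : χ = ψ
  · rw [if_pos h, if_pos (congrArg Subtype.val h), mul_one]
  · rw [if_neg h, if_neg (fun h' => h (Subtype.ext h')), mul_zero]

open Classical in
/-- Characters in different blocks are orthogonal on the `p`-regular elements. -/
theorem regular_orthogonality {p : ℕ} (hM : IsPModular p M) (χ ψ : IrrCharacter G)
    (h : ¬ SameBlock M (χ : G → ℂ) (ψ : G → ℂ)) :
    ∑ y : G, (if p ∣ orderOf y then (0 : ℂ) else 1)
      * ((χ : G → ℂ) y * conj ((ψ : G → ℂ) y)) = 0 := by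
  haveI hMp := isPrime_of_isPModular hM
  have hG0 : (Nat.card G : ℂ) ≠ 0 := by
    have : Nat.card G ≠ 0 := Nat.card_pos.ne'
    exact_mod_cast this
  obtain ⟨S, hSdef⟩ : ∃ S : Set (IrrCharacter G), S = blockOf M (ψ : G → ℂ) := ⟨_, rfl⟩
  have hS : ∀ θ ∈ S, blockOf M (θ : G → ℂ) ⊆ S := by
    intro θ hθ φ hφ
    rw [hSdef] at hθ ⊢
    exact sameBlock_trans hθ hφ
  have hψS : ψ ∈ S := by
    rw [hSdef]
    intro g
    rw [sub_self]
    exact memLocalIdeal_zero hM.2.1.ne_top
  have hχS : χ ∉ S := by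
    intro hχ
    rw [hSdef] at hχ
    exact h (sameBlock_symm hχ)
  obtain ⟨K, hK⟩ : ∃ K : G → G → ℂ, K = fun x y => ∑ φ : IrrCharacter G,
      (if φ ∈ S then (1 : ℂ) else 0) * ((φ : G → ℂ) x * conj ((φ : G → ℂ) y)) := ⟨_, rfl⟩
  have hK0 : ∀ x y : G, ¬ p ∣ orderOf x → p ∣ orderOf y → K x y = 0 := by
    intro x y hx hy
    rw [hK]
    exact weak_block_orthogonality hM S hS x y hx hy
  have hKconj : ∀ x y : G, conj (K x y) = K y x := by
    intro x y
    rw [hK]
    beta_reduce
    rw [map_sum]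
    apply Finset.sum_congr rfl
    intro φ _
    rw [map_mul, map_mul, Complex.conj_conj]
    split_ifs
    · rw [map_one, mul_comm ((starRingEnd ℂ) ((φ : G → ℂ) x))]
    · rw [map_zero, zero_mul, zero_mul]
  have hK0' : ∀ x y : G, p ∣ orderOf x → ¬ p ∣ orderOf y → K x y = 0 := by
    intro x y hx hy
    rw [← hKconj y x, hK0 y x hy hx, map_zero]
  obtain ⟨r, hr⟩ : ∃ r : G → ℂ, r = fun y => if p ∣ orderOf y then (0 : ℂ) else 1 := ⟨_, rfl⟩
  -- the function `H` vanishes identically
  have hH : ∀ x : G, ∑ y : G, r y * (χ : G → ℂ) y * K x y = 0 := by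
    intro x
    by_cases hx : p ∣ orderOf x
    · apply Finset.sum_eq_zero
      intro y _
      by_cases hy : p ∣ orderOf y
      · rw [hr]
        beta_reduce
        rw [if_pos hy, zero_mul, zero_mul]
      · rw [hK0' x y hx hy, mul_zero]
    · have h1 : ∀ y : G, r y * (χ : G → ℂ) y * K x y = (χ : G → ℂ) y * K x y := by
        intro y
        by_cases hy : p ∣ orderOf y
        · rw [hK0 x y hx hy, mul_zero, mul_zero]
        · rw [hr]
          beta_reduce
          rw [if_neg hy, one_mul]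
      rw [Finset.sum_congr rfl (fun y _ => h1 y), hK]
      beta_reduce
      simp_rw [Finset.mul_sum]
      rw [Finset.sum_comm]
      apply Finset.sum_eq_zero
      intro φ _
      have h2 : ∀ y : G, (χ : G → ℂ) y * ((if φ ∈ S then (1 : ℂ) else 0)
          * ((φ : G → ℂ) x * conj ((φ : G → ℂ) y)))
          = (if φ ∈ S then (1 : ℂ) else 0) * (φ : G → ℂ) x
            * ((χ : G → ℂ) y * conj ((φ : G → ℂ) y)) := by
        intro y
        ring
      rw [Finset.sum_congr rfl (fun y _ => h2 y), ← Finset.mul_sum, sum_irr_mul_conj_eq]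
      by_cases hφ : φ ∈ S
      · have hne : ¬ χ = φ := by
          intro hχφ
          rw [hχφ] at hχS
          exact hχS hφ
        rw [if_neg hne, mul_zero]
      · rw [if_neg hφ, zero_mul, zero_mul]
  -- pair with `ψ`
  have h3 : ∑ x : G, (∑ y : G, r y * (χ : G → ℂ) y * K x y) * conj ((ψ : G → ℂ) x) = 0 := by
    apply Finset.sum_eq_zero
    intro x _
    rw [hH x, zero_mul]
  simp_rw [Finset.sum_mul] at h3
  rw [Finset.sum_comm] at h3
  have h4 : ∀ y : G, ∑ x : G, r y * (χ : G → ℂ) y * K x y * conj ((ψ : G → ℂ) x)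
      = (Nat.card G : ℂ) * (r y * ((χ : G → ℂ) y * conj ((ψ : G → ℂ) y))) := by
    intro y
    rw [hK]
    beta_reduce
    simp_rw [Finset.mul_sum, Finset.sum_mul]
    rw [Finset.sum_comm]
    have h5 : ∀ φ : IrrCharacter G, ∑ x : G, r y * (χ : G → ℂ) y
        * ((if φ ∈ S then (1 : ℂ) else 0) * ((φ : G → ℂ) x * conj ((φ : G → ℂ) y)))
        * conj ((ψ : G → ℂ) x)
        = r y * (χ : G → ℂ) y * (if φ ∈ S then (1 : ℂ) else 0) * conj ((φ : G → ℂ) y)
          * (if φ = ψ then (Nat.card G : ℂ) else 0) := by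
      intro φ
      rw [← sum_irr_mul_conj_eq, Finset.mul_sum]
      apply Finset.sum_congr rfl
      intro x _
      ring
    rw [Finset.sum_congr rfl (fun φ _ => h5 φ), Finset.sum_eq_single ψ]
    · rw [if_pos hψS, if_pos rfl]
      ring
    · intro φ _ hne
      rw [if_neg hne, mul_zero]
    · intro h'
      exact absurd (Finset.mem_univ _) h'
  rw [Finset.sum_congr rfl (fun y _ => h4 y), ← Finset.mul_sum] at h3
  rcases mul_eq_zero.mp h3 with h' | h'
  · exact absurd h' hG0
  · rw [hr] at h'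
    exact h'

end Cfsg.Agent.Lib.helper3.Block
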