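import Mathlib
import Cfsg.Prelude.Def_Blocks
import Cfsg.Agent.Lib.helper3.PrincIdem1
import Cfsg.Agent.Lib.helper3.Coh6
import Cfsg.Agent.Lib.helper3.NilCentral
import Cfsg.Agent.Lib.helper3.BlockIdem2
import Cfsg.Agent.Lib.helper3.ProjVanish7
import Cfsg.Agent.Lib.helper3.PrincOnly
import Cfsg.Agent.Lib.helper3.GenChar

/-!
# The idempotent of the principal block

For `p`-regular `g`, the coefficient of `g` in the idempotent of the principal block is congruent
to `N_g / R`, where `N_g` counts the factorizations `g = x y` with `x` a `p`-element and `y`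
`p`-regular, and `R` is the number of `p`-regular elements.
-/

set_option autoImplicit false
set_option linter.style.haveILetI false
set_option linter.unusedSectionVars false

namespace Cfsg.Agent.Lib.helper3.Block

open Cfsg Module Cfsg.Agent.Lib.helper3.CharBasic Cfsg.Agent.Lib.helper3.Irr
open Cfsg.Agent.Lib.helper3.Central Cfsg.Agent.Lib.helper3.LocalM Cfsg.Agent.Lib.helper3.IndFun
open Cfsg.Agent.Lib.helper3.Lin Cfsg.Agent.Lib.helper3.BrauerInd Cfsg.Agent.Lib.helper3.HallNilp
open scoped ComplexConjugate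

universe u

variable {G : Type u} [Group G] [Fintype G] {M : Ideal AlgInt}

open Classical in
/-- `|G|⁻¹ ∑ χ(x)` over the `p`-elements `x` is a local integer. -/
theorem memLocalRing_sum_pelements {p : ℕ} [hp : Fact p.Prime] (hM : IsPModular p M)
    (χ : IrrCharacter G) :
    MemLocalRing M ((Nat.card G : ℂ)⁻¹ * ∑ x : G,
      (if ∃ k : ℕ, orderOf x = p ^ k then (1 : ℂ) else 0) * (χ : G → ℂ) x) := by
  obtain ⟨z, hz⟩ := Cfsg.Agent.Lib.helper3.Coh.exists_int_classInner
    (pelement_part_generalized (G := G) p)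
    (Cfsg.Agent.Lib.helper3.GenChar.of_isIrrCharacter χ.2)
  rw [classInner_apply] at hz
  have hG0 : Nat.card G ≠ 0 := Nat.card_pos.ne'
  obtain ⟨m, hm⟩ : ∃ m : ℕ, m = ordCompl[p] (Nat.card G) := ⟨_, rfl⟩
  have hmp : ¬ p ∣ m := by
    rw [hm]
    exact Nat.not_dvd_ordCompl hp.out hG0
  have hm0 : (m : ℂ) ≠ 0 := by
    have : m ≠ 0 := fun h0 => hmp (h0 ▸ dvd_zero p)
    exact_mod_cast this
  have hz' := congrArg conj hz
  rw [map_mul, map_inv₀, Complex.conj_natCast, map_sum, map_intCast] at hz'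
  refine ⟨(z : AlgInt), ((m : ℕ) : AlgInt), ?_, ?_⟩
  · rw [natCast_mem_iff hM]
    exact hmp
  · have e1 : (((z : ℤ) : AlgInt) : ℂ) = (z : ℂ) := by simp
    have e2 : (((m : ℕ) : AlgInt) : ℂ) = (m : ℂ) := by simp
    rw [e1, e2, ← hz', div_eq_iff hm0, mul_assoc, Finset.sum_mul]
    congr 1
    apply Finset.sum_congr rfl
    intro x _
    rw [map_mul, Complex.conj_conj, ← hm]
    split_ifs
    · rw [Complex.conj_natCast]
      ring
    · rw [map_zero]
      ring

open Classical in
/-- The key congruence: `N_g ≡ R · e₀(g)` for `p`-regular `g`. -/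
theorem principal_idem_congr {p : ℕ} [hp : Fact p.Prime] (hM : IsPModular p M) (g : G)
    (hg : ¬ p ∣ orderOf g) :
    MemLocalIdeal M ((∑ x : G, (if ∃ k : ℕ, orderOf x = p ^ k then (1 : ℂ) else 0)
        * (if p ∣ orderOf (x⁻¹ * g) then (0 : ℂ) else 1))
      - (∑ y : G, (if p ∣ orderOf y then (0 : ℂ) else 1)) * blockCoeff (principalBlock M G) g) := by
  haveI hMp := isPrime_of_isPModular hM
  have hMtop : M ≠ ⊤ := hM.2.1.ne_top
  have hG0 : (Nat.card G : ℂ) ≠ 0 := card_ne_zero_complex G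
  obtain ⟨σ, hσ⟩ : ∃ σ : G → ℂ, σ = fun x => if ∃ k : ℕ, orderOf x = p ^ k then (1 : ℂ) else 0 :=
    ⟨_, rfl⟩
  obtain ⟨τ, hτ⟩ : ∃ τ : G → ℂ, τ = fun y => if p ∣ orderOf y then (0 : ℂ) else 1 := ⟨_, rfl⟩
  have hσapp : ∀ x, σ x = if ∃ k : ℕ, orderOf x = p ^ k then (1 : ℂ) else 0 := by
    intro x; rw [hσ]
  have hτapp : ∀ y, τ y = if p ∣ orderOf y then (0 : ℂ) else 1 := by
    intro y; rw [hτ]
  have hσcl : ∀ a x : G, σ (x * a * x⁻¹) = σ a := by
    intro a x
    rw [hσapp, hσapp, orderOf_conj']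
  have hτcl : ∀ a x : G, τ (x * a * x⁻¹) = τ a := by
    intro a x
    rw [hτapp, hτapp, orderOf_conj']
  obtain ⟨B, hB⟩ : ∃ B : Set (IrrCharacter G), B = principalBlock M G := ⟨_, rfl⟩
  have hBblock : IsPBlock M B := ⟨Cfsg.Agent.Lib.helper3.PrincOnly.one G, hB⟩
  have hS : ∀ θ ∈ B, blockOf M (θ : G → ℂ) ⊆ B := by
    intro θ hθ ψ hψ
    rw [hB] at hθ ⊢
    exact sameBlock_trans (show SameBlock M (fun _ : G => (1 : ℂ)) (θ : G → ℂ) from hθ) hψ
  -- the Fourier coefficients
  obtain ⟨s, hs⟩ : ∃ s : IrrCharacter G → ℂ,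
      s = fun θ : IrrCharacter G => ∑ h : G, σ h * ((θ : G → ℂ) h / (θ : G → ℂ) 1) := ⟨_, rfl⟩
  obtain ⟨t, ht⟩ : ∃ t : IrrCharacter G → ℂ,
      t = fun θ : IrrCharacter G => ∑ h : G, τ h * ((θ : G → ℂ) h / (θ : G → ℂ) 1) := ⟨_, rfl⟩
  have hsapp : ∀ θ, s θ = ∑ h : G, σ h * ((θ : G → ℂ) h / (θ : G → ℂ) 1) := by
    intro θ; rw [hs]
  have htapp : ∀ θ, t θ = ∑ h : G, τ h * ((θ : G → ℂ) h / (θ : G → ℂ) 1) := by
    intro θ; rw [ht]
  have hσcoef : ∀ x, σ x = coef s x := by
    intro x
    rw [hs]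
    exact eq_coef_of_classFunction σ hσcl x
  have hτcoef : ∀ x, τ x = coef t x := by
    intro x
    rw [ht]
    exact eq_coef_of_classFunction τ hτcl x
  obtain ⟨R, hR⟩ : ∃ R : ℂ, R = ∑ y : G, τ y := ⟨_, rfl⟩
  obtain ⟨a, ha⟩ : ∃ a : IrrCharacter G → ℂ,
      a = fun χ : IrrCharacter G => (Nat.card G : ℂ)⁻¹ * ∑ x : G, σ x * (χ : G → ℂ) x := ⟨_, rfl⟩
  have haapp : ∀ χ, a χ = (Nat.card G : ℂ)⁻¹ * ∑ x : G, σ x * (χ : G → ℂ) x := by
    intro χ; rw [ha]
  have haloc : ∀ χ, MemLocalRing M (a χ) := by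
    intro χ
    rw [haapp]
    have := memLocalRing_sum_pelements hM χ
    convert this using 4
    rw [hσapp]
  -- step 1: the count as a character sum
  have h1 : ∑ x : G, σ x * τ (x⁻¹ * g)
      = ∑ χ : IrrCharacter G, a χ * t χ * conj ((χ : G → ℂ) g) := by
    have e1 : ∑ x : G, σ x * τ (x⁻¹ * g) = coef (s * t) g := by
      rw [coef_mul]
      apply Finset.sum_congr rfl
      intro x _
      rw [hσcoef, hτcoef]
    rw [e1]
    unfold coef
    rw [Finset.mul_sum]
    apply Finset.sum_congr rfl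
    intro χ _
    have hχ1 := apply_one_ne_zero χ.2
    rw [Pi.mul_apply, haapp, hsapp]
    have e2 : (∑ h : G, σ h * ((χ : G → ℂ) h / (χ : G → ℂ) 1)) * (χ : G → ℂ) 1
        = ∑ x : G, σ x * (χ : G → ℂ) x := by
      rw [Finset.sum_mul]
      apply Finset.sum_congr rfl
      intro x _
      field_simp
    rw [← e2]
    ring
  -- step 2: `t` vanishes off the principal block
  have h2 : ∀ χ : IrrCharacter G, χ ∉ B → t χ = 0 := by
    intro χ hχ
    have hnot : ¬ SameBlock M (χ : G → ℂ) ((Cfsg.Agent.Lib.helper3.PrincOnly.one G : IrrCharacter G) : G → ℂ) := by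
      intro hsame
      apply hχ
      rw [hB]
      exact sameBlock_symm hsame
    have h := regular_orthogonality hM χ (Cfsg.Agent.Lib.helper3.PrincOnly.one G) hnot
    rw [htapp]
    have hχ1 := apply_one_ne_zero χ.2
    have e : ∑ h : G, τ h * ((χ : G → ℂ) h / (χ : G → ℂ) 1)
        = (∑ y : G, (if p ∣ orderOf y then (0 : ℂ) else 1) * ((χ : G → ℂ) y *
          conj (((Cfsg.Agent.Lib.helper3.PrincOnly.one G : IrrCharacter G) : G → ℂ) y)))
            / (χ : G → ℂ) 1 := by
      rw [Finset.sum_div]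
      apply Finset.sum_congr rfl
      intro y _
      rw [hτapp]
      have : ((Cfsg.Agent.Lib.helper3.PrincOnly.one G : IrrCharacter G) : G → ℂ) y = 1 := rfl
      rw [this, map_one, mul_one, mul_div_assoc]
    rw [e, h, zero_div]
  -- step 3: `t ≡ R` on the principal block
  have h3 : ∀ χ : IrrCharacter G, χ ∈ B → MemLocalIdeal M (t χ - R) := by
    intro χ hχ
    rw [hB] at hχ
    have hsame : ∀ y : G, MemLocalIdeal M
        (centralChar (fun _ : G => (1 : ℂ)) y - centralChar (χ : G → ℂ) y) := hχ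
    have e : t χ - R = ∑ y : G, τ y * ((χ : G → ℂ) y / (χ : G → ℂ) 1 - 1) := by
      rw [htapp, hR, ← Finset.sum_sub_distrib]
      apply Finset.sum_congr rfl
      intro y _
      ring
    rw [e]
    apply memLocalIdeal_sum_class_fun
    · intro y h
      rw [hτcl, isClassFunction_of_isCharacter (isCharacter_of_isIrrCharacter χ.2) y h]
    · intro y
      have h4 := memLocalIdeal_neg (hsame y)
      have e2 : ((Subgroup.centralizer ({y} : Set G)).index : ℂ)
          * (τ y * ((χ : G → ℂ) y / (χ : G → ℂ) 1 - 1))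
          = τ y * -(centralChar (fun _ : G => (1 : ℂ)) y - centralChar (χ : G → ℂ) y) := by
        unfold centralChar
        ring
      rw [e2, hτapp]
      split_ifs
      · rw [zero_mul]
        exact memLocalIdeal_zero hMtop
      · rw [one_mul]
        exact h4
  -- step 4: the principal block idempotent
  have h4 : blockCoeff B g
      = ∑ χ : IrrCharacter G, (if χ ∈ B then (1 : ℂ) else 0) * (a χ * conj ((χ : G → ℂ) g)) := by
    rw [blockCoeff_eq_coef]
    unfold coef
    have e1 : ∀ χ : IrrCharacter G, (if χ ∈ B then (1 : ℂ) else 0) * (a χ * conj ((χ : G → ℂ) g))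
        = (Nat.card G : ℂ)⁻¹ * ∑ x : G, σ x * ((if χ ∈ B then (1 : ℂ) else 0)
          * ((χ : G → ℂ) x * conj ((χ : G → ℂ) g))) := by
      intro χ
      rw [haapp, Finset.mul_sum, Finset.mul_sum, Finset.sum_mul, Finset.mul_sum]
      apply Finset.sum_congr rfl
      intro x _
      ring
    rw [Finset.sum_congr rfl (fun χ _ => e1 χ), ← Finset.mul_sum, Finset.sum_comm]
    congr 1
    have e2 : ∀ x : G, ∑ χ : IrrCharacter G, σ x * ((if χ ∈ B then (1 : ℂ) else 0)
          * ((χ : G → ℂ) x * conj ((χ : G → ℂ) g)))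
        = σ x * ∑ χ : IrrCharacter G, (if χ ∈ B then (1 : ℂ) else 0)
          * ((χ : G → ℂ) x * conj ((χ : G → ℂ) g)) := by
      intro x
      rw [Finset.mul_sum]
    rw [Finset.sum_congr rfl (fun x _ => e2 x)]
    rw [Finset.sum_eq_single (1 : G)]
    · rw [hσapp, if_pos ⟨0, by rw [orderOf_one, pow_zero]⟩, one_mul]
      apply Finset.sum_congr rfl
      intro χ _
      simp only
      ring
    · intro x _ hx1
      rw [hσapp]
      split_ifs with hx
      · obtain ⟨k, hk⟩ := hx
        have hk0 : k ≠ 0 := by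
          rintro rfl
          rw [pow_zero, orderOf_eq_one_iff] at hk
          exact hx1 hk
        have hpx : p ∣ orderOf x := by
          rw [hk]
          exact dvd_pow_self p hk0
        have hw := weak_block_orthogonality hM B hS g x hg hpx
        have hw' := congrArg conj hw
        rw [map_sum, map_zero] at hw'
        rw [one_mul]
        refine Eq.trans ?_ hw'
        apply Finset.sum_congr rfl
        intro χ _
        by_cases hχ : χ ∈ B
        · simp only [if_pos hχ, one_mul, map_mul, Complex.conj_conj]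
          rw [mul_comm]
        · simp only [if_neg hχ, zero_mul, map_zero]
      · rw [zero_mul]
    · intro h
      exact absurd (Finset.mem_univ _) h
  -- conclusion
  have e0 : ∑ x : G, (if ∃ k : ℕ, orderOf x = p ^ k then (1 : ℂ) else 0)
        * (if p ∣ orderOf (x⁻¹ * g) then (0 : ℂ) else 1) = ∑ x : G, σ x * τ (x⁻¹ * g) := by
    apply Finset.sum_congr rfl
    intro x _
    rw [hσapp, hτapp]
  have e0' : ∑ y : G, (if p ∣ orderOf y then (0 : ℂ) else 1) = R := by
    rw [hR]
    apply Finset.sum_congr rfl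
    intro y _
    rw [hτapp]
  have e5 : (∑ x : G, (if ∃ k : ℕ, orderOf x = p ^ k then (1 : ℂ) else 0)
        * (if p ∣ orderOf (x⁻¹ * g) then (0 : ℂ) else 1))
      - (∑ y : G, (if p ∣ orderOf y then (0 : ℂ) else 1)) * blockCoeff (principalBlock M G) g
      = ∑ χ : IrrCharacter G, (if χ ∈ B then (1 : ℂ) else 0)
          * (conj ((χ : G → ℂ) g) * (a χ * (t χ - R))) := by
    rw [e0, e0', ← hB, h1, h4, Finset.mul_sum, ← Finset.sum_sub_distrib]
    apply Finset.sum_congr rfl
    intro χ _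
    by_cases hχ : χ ∈ B
    · rw [if_pos hχ]
      ring
    · rw [if_neg hχ, h2 χ hχ]
      ring
  rw [e5]
  apply memLocalIdeal_sum
  intro χ _
  by_cases hχ : χ ∈ B
  · rw [if_pos hχ, one_mul]
    apply memLocalIdeal_mul_integral (memLocalIdeal_mul_localRing (haloc χ) (h3 χ hχ))
    rw [← isCharacter_apply_inv (isCharacter_of_isIrrCharacter χ.2)]
    exact isIntegral_of_isCharacter (isCharacter_of_isIrrCharacter χ.2) _
  · rw [if_neg hχ, zero_mul]
    exact memLocalIdeal_zero hMtop

/-- Dividing a member of the local ideal by a natural number prime to `p`. -/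
theorem memLocalIdeal_div_natCast {p : ℕ} (hM : IsPModular p M) {z : ℂ} (hz : MemLocalIdeal M z)
    (n : ℕ) (hn : ¬ p ∣ n) : MemLocalIdeal M (z / (n : ℂ)) := by
  haveI hMp := isPrime_of_isPModular hM
  obtain ⟨a, b, ha, hb, rfl⟩ := hz
  have hnM : ((n : ℕ) : AlgInt) ∉ M := by
    rw [natCast_mem_iff hM]
    exact hn
  refine ⟨a, b * ((n : ℕ) : AlgInt), ha, ?_, ?_⟩
  · intro h
    rcases hMp.mem_or_mem h with h | h
    · exact hb h
    · exact hnM h
  · have h1 := coe_ne_zero_of_notMem hb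
    have h2 := coe_ne_zero_of_notMem hnM
    push_cast at h2 ⊢
    field_simp

open Classical in
/-- The idempotent of the principal block at a `p`-regular element. -/
theorem principal_idem {p : ℕ} [hp : Fact p.Prime] (hM : IsPModular p M) (g : G)
    (hg : ¬ p ∣ orderOf g) :
    MemLocalIdeal M (blockCoeff (principalBlock M G) g
      - (Nat.card {xy : G × G // (∃ k : ℕ, orderOf xy.1 = p ^ k) ∧ ¬ p ∣ orderOf xy.2
          ∧ xy.1 * xy.2 = g} : ℂ) / (Nat.card {y : G // ¬ p ∣ orderOf y} : ℂ)) := by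
  haveI hMp := isPrime_of_isPModular hM
  have hMtop : M ≠ ⊤ := hM.2.1.ne_top
  -- the number of `p`-regular elements
  have hR : (Nat.card {y : G // ¬ p ∣ orderOf y} : ℂ)
      = ∑ y : G, (if p ∣ orderOf y then (0 : ℂ) else 1) := by
    rw [Nat.card_eq_fintype_card, Fintype.card_subtype, ← Finset.sum_boole]
    apply Finset.sum_congr rfl
    intro y _
    rw [ite_not]
  -- the number of factorizations
  have hN : (Nat.card {xy : G × G // (∃ k : ℕ, orderOf xy.1 = p ^ k) ∧ ¬ p ∣ orderOf xy.2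
          ∧ xy.1 * xy.2 = g} : ℂ)
      = ∑ x : G, (if ∃ k : ℕ, orderOf x = p ^ k then (1 : ℂ) else 0)
        * (if p ∣ orderOf (x⁻¹ * g) then (0 : ℂ) else 1) := by
    have e : {xy : G × G // (∃ k : ℕ, orderOf xy.1 = p ^ k) ∧ ¬ p ∣ orderOf xy.2
          ∧ xy.1 * xy.2 = g} ≃ {x : G // (∃ k : ℕ, orderOf x = p ^ k) ∧
            ¬ p ∣ orderOf (x⁻¹ * g)} :=
      { toFun := fun xy => ⟨xy.1.1, xy.2.1, by
          have h3 := xy.2.2.2
          have h2 := xy.2.2.1
          have : xy.1.1⁻¹ * g = xy.1.2 := inv_mul_eq_of_eq_mul h3.symm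
          rw [this]
          exact h2⟩
        invFun := fun x => ⟨(x.1, x.1⁻¹ * g), x.2.1, x.2.2, by simp⟩
        left_inv := by
          rintro ⟨⟨x, y⟩, h1, h2, h3⟩
          apply Subtype.ext
          simp only
          rw [← h3]
          congr 1
          group
        right_inv := by
          rintro ⟨x, h1, h2⟩
          rfl }
    rw [Nat.card_congr e, Nat.card_eq_fintype_card, Fintype.card_subtype, ← Finset.sum_boole]
    apply Finset.sum_congr rfl
    intro x _
    by_cases h1 : ∃ k : ℕ, orderOf x = p ^ k <;> by_cases h2 : p ∣ orderOf (x⁻¹ * g) <;>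
      simp [h1, h2]
  -- `p` does not divide the number of `p`-regular elements
  have hpR : ¬ p ∣ Nat.card {y : G // ¬ p ∣ orderOf y} := by
    intro hdvd
    have h1 := principal_idem_congr hM (1 : G) (by rw [orderOf_one]; exact hp.out.not_dvd_one)
    rw [← hR] at h1
    have hN1 : ∑ x : G, (if ∃ k : ℕ, orderOf x = p ^ k then (1 : ℂ) else 0)
        * (if p ∣ orderOf (x⁻¹ * 1) then (0 : ℂ) else 1) = 1 := by
      rw [Finset.sum_eq_single (1 : G)]
      · rw [if_pos ⟨0, by rw [orderOf_one, pow_zero]⟩, if_neg, one_mul]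
        rw [inv_one, one_mul, orderOf_one]
        exact hp.out.not_dvd_one
      · intro x _ hx1
        by_cases hx : ∃ k : ℕ, orderOf x = p ^ k
        · obtain ⟨k, hk⟩ := hx
          have hk0 : k ≠ 0 := by
            rintro rfl
            rw [pow_zero, orderOf_eq_one_iff] at hk
            exact hx1 hk
          have hpx : p ∣ orderOf (x⁻¹ * 1) := by
            rw [mul_one, orderOf_inv, hk]
            exact dvd_pow_self p hk0
          rw [if_pos hpx, mul_zero]
        · rw [if_neg hx, zero_mul]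
      · intro h
        exact absurd (Finset.mem_univ _) h
    rw [hN1] at h1
    have hRM : MemLocalIdeal M ((Nat.card {y : G // ¬ p ∣ orderOf y} : ℂ)) := by
      have : ((Nat.card {y : G // ¬ p ∣ orderOf y} : ℕ) : AlgInt) ∈ M := by
        rw [natCast_mem_iff hM]
        exact hdvd
      have h := memLocalIdeal_of_mem this hMtop
      simpa using h
    have h2 := memLocalIdeal_mul_localRing
      (osima hM (principalBlock M G) ⟨Cfsg.Agent.Lib.helper3.PrincOnly.one G, rfl⟩ (1 : G)) hRM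
    rw [mul_comm] at h2
    have h3 := memLocalIdeal_add h1 h2
    rw [sub_add_cancel] at h3
    exact not_memLocalIdeal_one h3
  have hR0 : (Nat.card {y : G // ¬ p ∣ orderOf y} : ℂ) ≠ 0 := by
    have : Nat.card {y : G // ¬ p ∣ orderOf y} ≠ 0 := fun h0 => hpR (h0 ▸ dvd_zero p)
    exact_mod_cast this
  have h1 := principal_idem_congr hM g hg
  rw [← hR, ← hN] at h1
  have h2 := memLocalIdeal_neg (memLocalIdeal_div_natCast hM h1 _ hpR)
  convert h2 using 1
  field_simp
  ring

end Cfsg.Agent.Lib.helper3.Block
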