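import Mathlib
import Cfsg.Prelude.Def_Blocks
import Cfsg.Agent.Lib.helper3.ProjVanish1

/-!
# Matrices over the local ring: inverses, and traces of congruent idempotents against a
commuting matrix
-/

set_option autoImplicit false
set_option linter.style.haveILetI false
set_option linter.unusedSectionVars false

namespace Cfsg.Agent.Lib.helper3.Block

open Cfsg Cfsg.Agent.Lib.helper3.LocalM

variable {M : Ideal AlgInt}

/-- A matrix with local entries comes from a matrix over the local ring. -/
theorem exists_lift_matrix [hMp : M.IsPrime] {I : Type*} [Fintype I] [DecidableEq I]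
    (A : Matrix I I ℂ) (hA : ∀ i j, MemLocalRing M (A i j)) :
    ∃ AR : Matrix I I (locSubring M), AR.map (locSubring M).subtype = A := by
  refine ⟨fun i j => ⟨A i j, hA i j⟩, ?_⟩
  ext i j
  rfl

theorem memLocalRing_map_subtype [hMp : M.IsPrime] {I : Type*} [Fintype I] [DecidableEq I]
    (AR : Matrix I I (locSubring M)) (i j : I) :
    MemLocalRing M ((AR.map (locSubring M).subtype) i j) := (AR i j).2

/-- A local number congruent to one has a local inverse. -/
theorem memLocalRing_inv_of_sub_one [hMp : M.IsPrime] {z : ℂ} (hz : MemLocalRing M z)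
    (h1 : MemLocalIdeal M (z - 1)) : MemLocalRing M z⁻¹ := by
  obtain ⟨a, b, hb, rfl⟩ := hz
  have ha : a ∉ M := by
    intro ha
    have h2 : MemLocalIdeal M ((a : ℂ) / (b : ℂ)) := ⟨a, b, ha, hb, rfl⟩
    have h3 := memLocalIdeal_sub h2 h1
    rw [sub_sub_cancel] at h3
    exact not_memLocalIdeal_one h3
  exact ⟨b, a, ha, by rw [inv_div]⟩

/-- The determinant of a matrix with local entries is local. -/
theorem memLocalRing_det [hMp : M.IsPrime] {I : Type*} [Fintype I] [DecidableEq I]
    (A : Matrix I I ℂ) (hA : ∀ i j, MemLocalRing M (A i j)) : MemLocalRing M A.det := by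
  obtain ⟨AR, rfl⟩ := exists_lift_matrix A hA
  have : (AR.map (locSubring M).subtype).det = (locSubring M).subtype AR.det := by
    rw [RingHom.map_det, RingHom.mapMatrix_apply]
  rw [this]
  exact AR.det.2

/-- The adjugate of a matrix with local entries has local entries. -/
theorem memLocalRing_adjugate [hMp : M.IsPrime] {I : Type*} [Fintype I] [DecidableEq I]
    (A : Matrix I I ℂ) (hA : ∀ i j, MemLocalRing M (A i j)) (i j : I) :
    MemLocalRing M (A.adjugate i j) := by
  obtain ⟨AR, rfl⟩ := exists_lift_matrix A hA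
  have : (AR.map (locSubring M).subtype).adjugate
      = (AR.adjugate).map (locSubring M).subtype := by
    have := RingHom.map_adjugate (locSubring M).subtype AR
    rw [RingHom.mapMatrix_apply, RingHom.mapMatrix_apply] at this
    exact this.symm
  rw [this]
  exact (AR.adjugate i j).2

/-- A matrix with local entries and determinant congruent to one has an inverse with local
entries. -/
theorem memLocalRing_inv_matrix [hMp : M.IsPrime] {I : Type*} [Fintype I] [DecidableEq I]
    (S : Matrix I I ℂ) (hS : ∀ i j, MemLocalRing M (S i j))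
    (hdet : MemLocalIdeal M (S.det - 1)) :
    IsUnit S.det ∧ ∀ i j, MemLocalRing M (S⁻¹ i j) := by
  have hne : S.det ≠ 0 := by
    intro h0
    rw [h0, zero_sub] at hdet
    have := memLocalIdeal_neg hdet
    rw [neg_neg] at this
    exact not_memLocalIdeal_one this
  refine ⟨isUnit_iff_ne_zero.mpr hne, ?_⟩
  intro i j
  rw [Matrix.inv_def, Ring.inverse_eq_inv', Matrix.smul_apply, smul_eq_mul]
  exact memLocalRing_mul (memLocalRing_inv_of_sub_one (memLocalRing_det S hS) hdet)
    (memLocalRing_adjugate S hS i j)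

/-- If all entries of `F` lie in the local ideal then `det (1 - F)` is congruent to one. -/
theorem memLocalIdeal_det_one_sub_sub_one [hMp : M.IsPrime] {I : Type*} [Fintype I]
    [DecidableEq I] (F : Matrix I I ℂ) (hF : ∀ i j, MemLocalIdeal M (F i j)) :
    MemLocalIdeal M ((1 - F).det - 1) := by
  have hFloc : ∀ i j, MemLocalRing M (F i j) := by
    intro i j
    obtain ⟨a, b, -, hb, h⟩ := hF i j
    exact ⟨a, b, hb, h⟩
  obtain ⟨FR, hFR⟩ : ∃ FR : Matrix I I (locSubring M), FR = fun i j => ⟨F i j, hFloc i j⟩ :=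
    ⟨_, rfl⟩
  have hFmap : FR.map (locSubring M).subtype = F := by
    ext i j
    rw [hFR]
    rfl
  obtain ⟨π, hπ⟩ : ∃ π : locSubring M →+* (locSubring M ⧸ locIdeal M),
      π = Ideal.Quotient.mk (locIdeal M) := ⟨_, rfl⟩
  have hFπ : FR.map π = 0 := by
    ext i j
    simp only [Matrix.map_apply, Matrix.zero_apply]
    rw [hπ, Ideal.Quotient.eq_zero_iff_mem, hFR]
    exact hF i j
  have h1 : π ((1 - FR).det) = 1 := by
    rw [RingHom.map_det, RingHom.mapMatrix_apply, Matrix.map_sub _ (map_sub π),
      Matrix.map_one _ (map_zero π) (map_one π), hFπ, sub_zero, Matrix.det_one]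
  have h2 : (1 - FR).det - 1 ∈ locIdeal M := by
    rw [← Ideal.Quotient.eq_zero_iff_mem, ← hπ, map_sub, h1, map_one, sub_self]
  have h3 : ((1 - FR).map (locSubring M).subtype) = 1 - F := by
    rw [Matrix.map_sub _ (map_sub _), Matrix.map_one _ (map_zero _) (map_one _), hFmap]
  have h4 : (1 - F).det = (locSubring M).subtype (1 - FR).det := by
    rw [RingHom.map_det, RingHom.mapMatrix_apply, h3]
  rw [h4]
  exact h2

/-- Idempotent matrices with local entries, congruent modulo the local ideal and both commuting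
with a matrix `P`, have equal trace against `P`. -/
theorem trace_mul_eq_of_idempotent_congr [hMp : M.IsPrime] {I : Type*} [Fintype I]
    [DecidableEq I] (A B P : Matrix I I ℂ) (hA : A * A = A) (hB : B * B = B)
    (hAP : A * P = P * A) (hBP : B * P = P * B)
    (hAloc : ∀ i j, MemLocalRing M (A i j)) (hBloc : ∀ i j, MemLocalRing M (B i j))
    (hcong : ∀ i j, MemLocalIdeal M (A i j - B i j)) : (A * P).trace = (B * P).trace := by
  obtain ⟨AR, hAR⟩ : ∃ AR : Matrix I I (locSubring M), AR = fun i j => ⟨A i j, hAloc i j⟩ :=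
    ⟨_, rfl⟩
  obtain ⟨BR, hBR⟩ : ∃ BR : Matrix I I (locSubring M), BR = fun i j => ⟨B i j, hBloc i j⟩ :=
    ⟨_, rfl⟩
  have hAmap : AR.map (locSubring M).subtype = A := by
    ext i j
    rw [hAR]
    rfl
  have hBmap : BR.map (locSubring M).subtype = B := by
    ext i j
    rw [hBR]
    rfl
  have hinj : Function.Injective (fun X : Matrix I I (locSubring M) =>
      X.map (locSubring M).subtype) := by
    intro X Y hXY
    ext i j
    have := congrFun (congrFun hXY i) j
    simp only [Matrix.map_apply] at this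
    exact this
  have hARid : AR * AR = AR := by
    apply hinj
    simp only
    rw [Matrix.map_mul, hAmap, hA]
  obtain ⟨π, hπ⟩ : ∃ π : locSubring M →+* (locSubring M ⧸ locIdeal M),
      π = Ideal.Quotient.mk (locIdeal M) := ⟨_, rfl⟩
  have hABπ : AR.map π = BR.map π := by
    ext i j
    simp only [Matrix.map_apply]
    rw [hπ, Ideal.Quotient.eq, hAR, hBR]
    exact hcong i j
  have hAπid : AR.map π * AR.map π = AR.map π := by
    rw [← Matrix.map_mul, hARid]
  obtain ⟨uR, huR⟩ : ∃ uR : Matrix I I (locSubring M), uR = AR * BR + (1 - AR) * (1 - BR) :=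
    ⟨_, rfl⟩
  have huπ : uR.map π = 1 := by
    rw [huR, Matrix.map_add _ (map_add π), Matrix.map_mul, Matrix.map_mul,
      Matrix.map_sub _ (map_sub π), Matrix.map_sub _ (map_sub π),
      Matrix.map_one _ (map_zero π) (map_one π), ← hABπ]
    rw [hAπid, sub_mul, mul_sub, mul_sub, hAπid]
    simp
  have hdet : uR.det ≠ 0 := by
    intro h0
    have h1 : π uR.det = 1 := by
      rw [RingHom.map_det, RingHom.mapMatrix_apply, huπ, Matrix.det_one]
    rw [h0, map_zero] at h1
    have h2 : π 1 = 0 := by rw [map_one]; exact h1.symm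
    rw [hπ, Ideal.Quotient.eq_zero_iff_mem] at h2
    exact one_notMem_locIdeal h2
  obtain ⟨u, hu⟩ : ∃ u : Matrix I I ℂ, u = A * B + (1 - A) * (1 - B) := ⟨_, rfl⟩
  have humap : uR.map (locSubring M).subtype = u := by
    rw [huR, hu, Matrix.map_add _ (map_add _), Matrix.map_mul, Matrix.map_mul,
      Matrix.map_sub _ (map_sub _), Matrix.map_sub _ (map_sub _),
      Matrix.map_one _ (map_zero _) (map_one _), hAmap, hBmap]
  have hudet : u.det ≠ 0 := by
    rw [← humap]
    have : (uR.map (locSubring M).subtype).det = (locSubring M).subtype uR.det := by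
      rw [RingHom.map_det, RingHom.mapMatrix_apply]
    rw [this]
    intro h0
    apply hdet
    apply Subtype.ext
    exact h0
  have hA0 : A * (1 - A) = 0 := by rw [mul_sub, mul_one, hA, sub_self]
  have hB0 : (1 - B) * B = 0 := by rw [sub_mul, one_mul, hB, sub_self]
  have h1 : A * u = A * B := by
    rw [hu, mul_add, ← mul_assoc, hA, ← mul_assoc, hA0, zero_mul, add_zero]
  have h2 : u * B = A * B := by
    rw [hu, add_mul, mul_assoc, hB, mul_assoc, hB0, mul_zero, add_zero]
  have hunit : IsUnit u.det := isUnit_iff_ne_zero.mpr hudet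
  have h3 : A = u * B * u⁻¹ := by
    rw [h2, ← h1, mul_assoc, Matrix.mul_nonsing_inv u hunit, mul_one]
  have hcA : Commute A P := hAP
  have hcB : Commute B P := hBP
  have hcu : Commute u P := by
    rw [hu]
    exact (hcA.mul_left hcB).add_left
      (((Commute.one_left P).sub_left hcA).mul_left ((Commute.one_left P).sub_left hcB))
  have hcu' : u⁻¹ * P = P * u⁻¹ := by
    calc u⁻¹ * P = u⁻¹ * P * (u * u⁻¹) := by rw [Matrix.mul_nonsing_inv u hunit, mul_one]
      _ = u⁻¹ * (P * u) * u⁻¹ := by simp only [mul_assoc]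
      _ = u⁻¹ * (u * P) * u⁻¹ := by rw [hcu.eq]
      _ = (u⁻¹ * u) * P * u⁻¹ := by simp only [mul_assoc]
      _ = P * u⁻¹ := by rw [Matrix.nonsing_inv_mul u hunit, one_mul]
  calc (A * P).trace = (u * B * u⁻¹ * P).trace := by rw [← h3]
    _ = (u * B * P * u⁻¹).trace := by rw [mul_assoc (u * B), hcu', ← mul_assoc]
    _ = (u⁻¹ * (u * B * P)).trace := Matrix.trace_mul_comm _ _
    _ = (B * P).trace := by
        rw [mul_assoc u, ← mul_assoc u⁻¹, Matrix.nonsing_inv_mul u hunit, one_mul]

end Cfsg.Agent.Lib.helper3.Block
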