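import Mathlib
import Cfsg.Prelude.Def_Blocks
import Cfsg.Agent.Lib.helper3.SecMain1

/-!
# The trace of a local idempotent against a permutation matrix whose cycles all have
length divisible by `p` on the support of the idempotent
-/

set_option autoImplicit false
set_option linter.style.haveILetI false
set_option linter.unusedSectionVars false

namespace Cfsg.Agent.Lib.helper3.Block

open Cfsg Cfsg.Agent.Lib.helper3.LocalM Equiv

variable {M : Ideal AlgInt}

section Twist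

variable {Ω : Type*} [Fintype Ω] [DecidableEq Ω]

/-- A chosen representative of the cycle of `w`. -/
noncomputable def cycRep (σ : Perm Ω) (w : Ω) : Ω :=
  Quotient.out (Quotient.mk (Perm.SameCycle.setoid σ) w)

theorem sameCycle_cycRep (σ : Perm Ω) (w : Ω) : σ.SameCycle (cycRep σ w) w :=
  Quotient.exact (Quotient.out_eq (Quotient.mk (Perm.SameCycle.setoid σ) w))

theorem cycRep_apply (σ : Perm Ω) (w : Ω) : cycRep σ (σ w) = cycRep σ w := by
  unfold cycRep
  congr 1
  apply Quotient.sound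
  exact Perm.sameCycle_apply_left.mpr (Perm.SameCycle.refl σ w)

theorem exists_pow_cycRep (σ : Perm Ω) (w : Ω) : ∃ i : ℕ, (σ ^ i) (cycRep σ w) = w :=
  (sameCycle_cycRep σ w).exists_nat_pow_eq

theorem pow_apply_eq_iff_isPeriodicPt (σ : Perm Ω) (n : ℕ) (r : Ω) :
    (σ ^ n) r = r ↔ Function.IsPeriodicPt σ n r := by
  unfold Function.IsPeriodicPt Function.IsFixedPt
  rw [Equiv.Perm.iterate_eq_pow]

theorem prime_dvd_of_pow_apply_eq {p : ℕ} (hp : p.Prime) (σ : Perm Ω) (m' m : ℕ)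
    (hσ : σ ^ (m' * p ^ m) = 1) (r : Ω) (hr : (σ ^ m') r ≠ r) (k : ℕ)
    (hk : (σ ^ k) r = r) : p ∣ k := by
  have h1 : Function.minimalPeriod σ r ∣ k :=
    ((pow_apply_eq_iff_isPeriodicPt σ k r).mp hk).minimalPeriod_dvd
  have h2 : Function.minimalPeriod σ r ∣ m' * p ^ m := by
    apply Function.IsPeriodicPt.minimalPeriod_dvd
    rw [← pow_apply_eq_iff_isPeriodicPt, hσ]
    rfl
  have h3 : p ∣ Function.minimalPeriod σ r := by
    by_contra h
    have hcop : Nat.Coprime (Function.minimalPeriod σ r) (p ^ m) :=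
      Nat.Coprime.pow_right m ((Nat.Prime.coprime_iff_not_dvd hp).mpr h).symm
    have h4 : Function.minimalPeriod σ r ∣ m' := hcop.dvd_of_dvd_mul_right h2
    apply hr
    rw [pow_apply_eq_iff_isPeriodicPt]
    exact (Function.isPeriodicPt_minimalPeriod σ r).trans_dvd h4
  exact h3.trans h1

theorem pow_eq_of_pow_apply_eq {p : ℕ} (hp : p.Prime) (σ : Perm Ω) (m' m : ℕ)
    (hσ : σ ^ (m' * p ^ m) = 1) (r : Ω) (hr : (σ ^ m') r ≠ r) (θ : ℂ) (hθ : θ ^ p = 1)
    (i j : ℕ) (hij : (σ ^ i) r = (σ ^ j) r) : θ ^ i = θ ^ j := by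
  wlog h : i ≤ j generalizing i j
  · exact (this j i hij.symm (le_of_not_ge h)).symm
  obtain ⟨k, rfl⟩ := Nat.exists_eq_add_of_le h
  have hk : (σ ^ k) r = r := by
    rw [pow_add, Perm.mul_apply] at hij
    exact ((σ ^ i).injective hij).symm
  obtain ⟨t, rfl⟩ := prime_dvd_of_pow_apply_eq hp σ m' m hσ r hr k hk
  rw [pow_add, pow_mul, hθ, one_pow, mul_one]

/-- The twisting function: `1` on the points fixed by `σ ^ m'`, and multiplied by `θ` along
`σ` elsewhere. -/
noncomputable def twist (σ : Perm Ω) (m' : ℕ) (θ : ℂ) (w : Ω) : ℂ :=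
  if (σ ^ m') w = w then 1 else θ ^ (Classical.choose (exists_pow_cycRep σ w))

theorem twist_of_fixed (σ : Perm Ω) (m' : ℕ) (θ : ℂ) (w : Ω) (hw : (σ ^ m') w = w) :
    twist σ m' θ w = 1 := if_pos hw

theorem twist_pow (σ : Perm Ω) (m' : ℕ) (θ : ℂ) {p : ℕ} (hθ : θ ^ p = 1) (w : Ω) :
    twist σ m' θ w ^ p = 1 := by
  unfold twist
  split_ifs
  · exact one_pow p
  · rw [← pow_mul, mul_comm, pow_mul, hθ, one_pow]

theorem pow_apply_apply_eq_iff (σ : Perm Ω) (n : ℕ) (w : Ω) :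
    (σ ^ n) (σ w) = σ w ↔ (σ ^ n) w = w := by
  have : (σ ^ n) (σ w) = σ ((σ ^ n) w) := by
    rw [← Perm.mul_apply, ← Perm.mul_apply, ← pow_succ, ← pow_succ']
  rw [this]
  exact σ.injective.eq_iff

theorem twist_apply {p : ℕ} (hp : p.Prime) (σ : Perm Ω) (m' m : ℕ)
    (hσ : σ ^ (m' * p ^ m) = 1) (θ : ℂ) (hθ : θ ^ p = 1) (w : Ω) (hw : (σ ^ m') w ≠ w) :
    twist σ m' θ (σ w) = θ * twist σ m' θ w := by
  have hw' : (σ ^ m') (σ w) ≠ σ w := fun h => hw ((pow_apply_apply_eq_iff σ m' w).mp h)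
  unfold twist
  rw [if_neg hw, if_neg hw']
  have hi := Classical.choose_spec (exists_pow_cycRep σ w)
  have hj := Classical.choose_spec (exists_pow_cycRep σ (σ w))
  obtain ⟨i, hi'⟩ : ∃ i, i = Classical.choose (exists_pow_cycRep σ w) := ⟨_, rfl⟩
  obtain ⟨j, hj'⟩ : ∃ j, j = Classical.choose (exists_pow_cycRep σ (σ w)) := ⟨_, rfl⟩
  rw [← hi'] at hi ⊢
  rw [← hj'] at hj ⊢
  rw [cycRep_apply] at hj
  have hr : (σ ^ m') (cycRep σ w) ≠ cycRep σ w := by
    intro h
    apply hw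
    rw [← hi, ← Perm.mul_apply, ← pow_add, add_comm, pow_add, Perm.mul_apply, h]
  have h1 : (σ ^ j) (cycRep σ w) = (σ ^ (i + 1)) (cycRep σ w) := by
    rw [hj, pow_succ', Perm.mul_apply, hi]
  rw [pow_eq_of_pow_apply_eq hp σ m' m hσ (cycRep σ w) hr θ hθ j (i + 1) h1, pow_succ']

end Twist

section PermMat

variable {Ω : Type*} [Fintype Ω] [DecidableEq Ω]

/-- The permutation matrix with `E * permMat σ` having `(i, j)` entry `E i (σ j)`. -/
def permMat (σ : Perm Ω) : Matrix Ω Ω ℂ := fun v w => if v = σ w then 1 else 0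

/-- The diagonal idempotent on the fixed points of `σ ^ m'`. -/
def fixDiag (σ : Perm Ω) (m' : ℕ) : Matrix Ω Ω ℂ :=
  Matrix.diagonal (fun w => if (σ ^ m') w = w then 1 else 0)

theorem perm_inv_apply_self (σ : Perm Ω) (w : Ω) : σ⁻¹ (σ w) = w :=
  Equiv.Perm.inv_eq_iff_eq.mpr rfl

theorem perm_apply_inv_self (σ : Perm Ω) (w : Ω) : σ (σ⁻¹ w) = w :=
  Equiv.Perm.eq_inv_iff_eq.mp rfl

theorem mul_permMat_apply (E : Matrix Ω Ω ℂ) (σ : Perm Ω) (i j : Ω) :
    (E * permMat σ) i j = E i (σ j) := by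
  rw [Matrix.mul_apply]
  unfold permMat
  simp only [mul_ite, mul_one, mul_zero]
  rw [Finset.sum_ite_eq' Finset.univ (σ j) (fun v => E i v), if_pos (Finset.mem_univ _)]

theorem permMat_mul_apply (E : Matrix Ω Ω ℂ) (σ : Perm Ω) (i j : Ω) :
    (permMat σ * E) i j = E (σ⁻¹ i) j := by
  rw [Matrix.mul_apply]
  unfold permMat
  simp only [ite_mul, one_mul, zero_mul]
  have : ∀ v : Ω, (i = σ v) ↔ (v = σ⁻¹ i) := by
    intro v
    constructor
    · intro h
      rw [h, perm_inv_apply_self]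
    · intro h
      rw [h, perm_apply_inv_self]
  simp only [this]
  rw [Finset.sum_ite_eq' Finset.univ (σ⁻¹ i) (fun v => E v j), if_pos (Finset.mem_univ _)]

theorem trace_mul_permMat (E : Matrix Ω Ω ℂ) (σ : Perm Ω) :
    (E * permMat σ).trace = ∑ w, E w (σ w) := by
  unfold Matrix.trace
  apply Finset.sum_congr rfl
  intro w _
  rw [Matrix.diag_apply, mul_permMat_apply]

theorem mul_permMat_comm_iff (E : Matrix Ω Ω ℂ) (σ : Perm Ω) :
    E * permMat σ = permMat σ * E ↔ ∀ i j, E (σ i) (σ j) = E i j := by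
  constructor
  · intro h i j
    have := congrFun (congrFun h (σ i)) j
    rw [mul_permMat_apply, permMat_mul_apply, perm_inv_apply_self] at this
    exact this
  · intro h
    ext i j
    rw [mul_permMat_apply, permMat_mul_apply]
    have := h (σ⁻¹ i) j
    rw [perm_apply_inv_self] at this
    exact this

theorem fixDiag_mul_apply (E : Matrix Ω Ω ℂ) (σ : Perm Ω) (m' : ℕ) (i j : Ω) :
    (fixDiag σ m' * E) i j = if (σ ^ m') i = i then E i j else 0 := by
  unfold fixDiag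
  rw [Matrix.diagonal_mul]
  split_ifs <;> simp

theorem mul_fixDiag_apply (E : Matrix Ω Ω ℂ) (σ : Perm Ω) (m' : ℕ) (i j : Ω) :
    (E * fixDiag σ m') i j = if (σ ^ m') j = j then E i j else 0 := by
  unfold fixDiag
  rw [Matrix.mul_diagonal]
  split_ifs <;> simp

end PermMat

section Main

variable {Ω : Type*} [Fintype Ω] [DecidableEq Ω]

theorem memLocalIdeal_sub_one_of_pow {p : ℕ} (hM : IsPModular p M) (ζ : ℂ) (hζ : ζ ^ p = 1) :
    MemLocalIdeal M (ζ - 1) := by
  have hp0 : 0 < p := hM.1.pos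
  have hint : IsIntegral ℤ ζ := by
    apply IsIntegral.of_pow hp0
    rw [hζ]
    exact isIntegral_one
  have h1 := sub_one_mem_of_pow hM ⟨ζ, hint⟩ 1 (by
    apply Subtype.ext
    simp only [pow_one]
    exact hζ)
  have := memLocalIdeal_of_mem h1 hM.2.1.ne_top
  exact this

/-- Let `σ` be a permutation with `σ ^ (m' p^m) = 1`, `p ∤ m'`, and `E` an idempotent matrix with
local entries, invariant under `σ` and with zero rows and columns at the points fixed by
`σ ^ m'`.  Then `∑ w, E w (σ w) = 0`. -/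
theorem sum_apply_perm_eq_zero {p : ℕ} (hM : IsPModular p M) (σ : Perm Ω) (m' m : ℕ)
    (hσ : σ ^ (m' * p ^ m) = 1)
    (E : Matrix Ω Ω ℂ) (hE : E * E = E) (hEloc : ∀ i j, MemLocalRing M (E i j))
    (hEσ : ∀ i j, E (σ i) (σ j) = E i j)
    (hrow : ∀ i j, (σ ^ m') i = i → E i j = 0) (hcol : ∀ i j, (σ ^ m') j = j → E i j = 0) :
    ∑ w, E w (σ w) = 0 := by
  haveI hMp := isPrime_of_isPModular hM
  have hp : p.Prime := hM.1
  obtain ⟨θ, hθ⟩ : ∃ θ : ℂ, θ = Complex.exp (2 * Real.pi * Complex.I / p) := ⟨_, rfl⟩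
  have hprim : IsPrimitiveRoot θ p := by
    rw [hθ]
    exact Complex.isPrimitiveRoot_exp p hp.ne_zero
  have hθp : θ ^ p = 1 := hprim.pow_eq_one
  have hθ1 : θ ≠ 1 := hprim.ne_one hp.one_lt
  have hθ0 : θ ≠ 0 := by
    intro h
    rw [h, zero_pow hp.ne_zero] at hθp
    exact zero_ne_one hθp
  obtain ⟨φ, hφ⟩ : ∃ φ : Ω → ℂ, φ = twist σ m' θ := ⟨_, rfl⟩
  have hφp : ∀ w, φ w ^ p = 1 := by
    intro w
    rw [hφ]
    exact twist_pow σ m' θ hθp w
  have hφ0 : ∀ w, φ w ≠ 0 := by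
    intro w h
    have := hφp w
    rw [h, zero_pow hp.ne_zero] at this
    exact zero_ne_one this
  have hφfix : ∀ w, (σ ^ m') w = w → φ w = 1 := by
    intro w hw
    rw [hφ]
    exact twist_of_fixed σ m' θ w hw
  have hφσ : ∀ w, (σ ^ m') w ≠ w → φ (σ w) = θ * φ w := by
    intro w hw
    rw [hφ]
    exact twist_apply hp σ m' m hσ θ hθp w hw
  have hφint : ∀ w, IsIntegral ℤ (φ w) := by
    intro w
    apply IsIntegral.of_pow hp.pos
    rw [hφp]
    exact isIntegral_one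
  have hφinv : ∀ w, (φ w)⁻¹ = φ w ^ (p - 1) := by
    intro w
    have h1 : φ w ^ (p - 1) * φ w = 1 := by
      rw [← pow_succ, Nat.sub_add_cancel hp.one_le, hφp]
    exact (eq_inv_of_mul_eq_one_left h1).symm
  obtain ⟨E', hE'⟩ : ∃ E' : Matrix Ω Ω ℂ, E' = fun i j => φ i * E i j * (φ j)⁻¹ := ⟨_, rfl⟩
  have hE'app : ∀ i j, E' i j = φ i * E i j * (φ j)⁻¹ := by
    intro i j
    rw [hE']
  have hE'id : E' * E' = E' := by
    ext i j
    rw [Matrix.mul_apply]
    have h1 : ∀ v, E' i v * E' v j = φ i * (E i v * E v j) * (φ j)⁻¹ := by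
      intro v
      rw [hE'app, hE'app]
      field_simp [hφ0 v]
    rw [Finset.sum_congr rfl (fun v _ => h1 v), ← Finset.sum_mul, ← Finset.mul_sum,
      ← Matrix.mul_apply, hE, hE'app]
  have hE'loc : ∀ i j, MemLocalRing M (E' i j) := by
    intro i j
    rw [hE'app, hφinv]
    exact memLocalRing_mul (memLocalRing_mul (memLocalRing_of_integral (hφint i)) (hEloc i j))
      (memLocalRing_of_integral ((hφint j).pow _))
  have hcong : ∀ i j, MemLocalIdeal M (E' i j - E i j) := by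
    intro i j
    have h1 : E' i j - E i j = E i j * (φ i * (φ j)⁻¹ - 1) := by
      rw [hE'app]
      ring
    rw [h1]
    apply memLocalIdeal_mul_localRing (hEloc i j)
    apply memLocalIdeal_sub_one_of_pow hM
    rw [mul_pow, inv_pow, hφp, hφp, inv_one, mul_one]
  have hE'σ : ∀ i j, E' (σ i) (σ j) = E' i j := by
    intro i j
    rw [hE'app, hE'app]
    by_cases hi : (σ ^ m') i = i
    · rw [hEσ, hrow i j hi]
      ring
    · by_cases hj : (σ ^ m') j = j
      · rw [hEσ, hcol i j hj]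
        ring
      · rw [hEσ, hφσ i hi, hφσ j hj]
        field_simp [hφ0 j]
  have htr := trace_mul_eq_of_idempotent_congr (M := M) E' E (permMat σ) hE'id hE
    ((mul_permMat_comm_iff E' σ).mpr hE'σ) ((mul_permMat_comm_iff E σ).mpr hEσ) hE'loc hEloc hcong
  rw [trace_mul_permMat, trace_mul_permMat] at htr
  have h2 : ∑ w, E' w (σ w) = θ⁻¹ * ∑ w, E w (σ w) := by
    rw [Finset.mul_sum]
    apply Finset.sum_congr rfl
    intro w _
    rw [hE'app]
    by_cases hw : (σ ^ m') w = w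
    · rw [hrow w (σ w) hw]
      ring
    · rw [hφσ w hw]
      field_simp [hφ0 w]
  rw [h2] at htr
  have h3 : (θ⁻¹ - 1) * ∑ w, E w (σ w) = 0 := by
    rw [sub_mul, htr, one_mul, sub_self]
  rcases mul_eq_zero.mp h3 with h4 | h4
  · exfalso
    apply hθ1
    have : θ⁻¹ = 1 := by
      rw [sub_eq_zero] at h4
      exact h4
    rw [← inv_inv θ, this, inv_one]
  · exact h4

end Main

end Cfsg.Agent.Lib.helper3.Block
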