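import Mathlib
import Cfsg.Prelude.Def_Blocks
import Cfsg.Agent.Lib.helper3.SecMain2

/-!
# The trace of a local idempotent against a permutation matrix, when the idempotent lies in
the local ideal on the points whose cycle length is prime to `p`
-/

set_option autoImplicit false
set_option linter.style.haveILetI false
set_option linter.unusedSectionVars false

namespace Cfsg.Agent.Lib.helper3.Block

open Cfsg Cfsg.Agent.Lib.helper3.LocalM Equiv

variable {M : Ideal AlgInt}

variable {Ω : Type*} [Fintype Ω] [DecidableEq Ω]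

theorem memLocalRing_matrix_mul [hMp : M.IsPrime] (A B : Matrix Ω Ω ℂ)
    (hA : ∀ i j, MemLocalRing M (A i j)) (hB : ∀ i j, MemLocalRing M (B i j)) (i j : Ω) :
    MemLocalRing M ((A * B) i j) := by
  rw [Matrix.mul_apply]
  apply memLocalRing_sum
  intro v _
  exact memLocalRing_mul (hA i v) (hB v j)

theorem memLocalRing_matrix_sub [hMp : M.IsPrime] (A B : Matrix Ω Ω ℂ)
    (hA : ∀ i j, MemLocalRing M (A i j)) (hB : ∀ i j, MemLocalRing M (B i j)) (i j : Ω) :
    MemLocalRing M ((A - B) i j) := by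
  rw [Matrix.sub_apply, sub_eq_add_neg]
  have h1 : MemLocalRing M (-1 : ℂ) := memLocalRing_of_integral (isIntegral_one.neg)
  have := memLocalRing_mul h1 (hB i j)
  rw [neg_one_mul] at this
  exact memLocalRing_add (hA i j) this

theorem memLocalRing_matrix_one [hMp : M.IsPrime] (i j : Ω) :
    MemLocalRing M ((1 : Matrix Ω Ω ℂ) i j) := by
  rw [Matrix.one_apply]
  split_ifs
  · exact memLocalRing_of_integral isIntegral_one
  · exact memLocalRing_of_integral isIntegral_zero

theorem fixDiag_mul_self (σ : Perm Ω) (m' : ℕ) : fixDiag σ m' * fixDiag σ m' = fixDiag σ m' := by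
  unfold fixDiag
  rw [Matrix.diagonal_mul_diagonal]
  congr 1
  funext w
  split_ifs <;> simp

theorem fixDiag_comm_permMat (σ : Perm Ω) (m' : ℕ) :
    fixDiag σ m' * permMat σ = permMat σ * fixDiag σ m' := by
  rw [mul_permMat_comm_iff]
  intro i j
  unfold fixDiag
  rw [Matrix.diagonal_apply, Matrix.diagonal_apply]
  by_cases hij : i = j
  · rw [if_pos hij, if_pos (congrArg σ hij)]
    by_cases hi : (σ ^ m') i = i
    · rw [if_pos hi, if_pos ((pow_apply_apply_eq_iff σ m' i).mpr hi)]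
    · rw [if_neg hi, if_neg (fun h => hi ((pow_apply_apply_eq_iff σ m' i).mp h))]
  · rw [if_neg hij, if_neg (fun h => hij (σ.injective h))]

theorem memLocalRing_fixDiag [hMp : M.IsPrime] (σ : Perm Ω) (m' : ℕ) (i j : Ω) :
    MemLocalRing M (fixDiag σ m' i j) := by
  unfold fixDiag
  rw [Matrix.diagonal_apply]
  split_ifs
  · exact memLocalRing_of_integral isIntegral_one
  · exact memLocalRing_of_integral isIntegral_zero
  · exact memLocalRing_of_integral isIntegral_zero

/-- Let `σ` be a permutation with `σ ^ (m' p^m) = 1` and `E` an idempotent matrix with local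
entries, invariant under `σ`, whose entries at pairs of points fixed by `σ ^ m'` lie in the local
ideal.  Then `∑ w, E w (σ w) = 0`. -/
theorem sum_apply_perm_eq_zero_of_fixed {p : ℕ} (hM : IsPModular p M) (σ : Perm Ω) (m' m : ℕ)
    (hσ : σ ^ (m' * p ^ m) = 1)
    (E : Matrix Ω Ω ℂ) (hE : E * E = E) (hEloc : ∀ i j, MemLocalRing M (E i j))
    (hEσ : ∀ i j, E (σ i) (σ j) = E i j)
    (hfix : ∀ i j, (σ ^ m') i = i → (σ ^ m') j = j → MemLocalIdeal M (E i j)) :
    ∑ w, E w (σ w) = 0 := by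
  haveI hMp := isPrime_of_isPModular hM
  have hMtop : M ≠ ⊤ := hM.2.1.ne_top
  obtain ⟨g, hg⟩ : ∃ g : Matrix Ω Ω ℂ, g = fixDiag σ m' := ⟨_, rfl⟩
  obtain ⟨P, hP⟩ : ∃ P : Matrix Ω Ω ℂ, P = permMat σ := ⟨_, rfl⟩
  have hgg : g * g = g := by rw [hg]; exact fixDiag_mul_self σ m'
  have hgP : Commute g P := by rw [hg, hP]; exact fixDiag_comm_permMat σ m'
  have hEP : Commute E P := by rw [hP]; exact (mul_permMat_comm_iff E σ).mpr hEσ
  have hgloc : ∀ i j, MemLocalRing M (g i j) := by
    intro i j; rw [hg]; exact memLocalRing_fixDiag σ m' i j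
  obtain ⟨S, hS⟩ : ∃ S : Matrix Ω Ω ℂ, S = 1 - g * E := ⟨_, rfl⟩
  have hSloc : ∀ i j, MemLocalRing M (S i j) := by
    intro i j
    rw [hS]
    exact memLocalRing_matrix_sub _ _ memLocalRing_matrix_one
      (memLocalRing_matrix_mul _ _ hgloc hEloc) i j
  have hFmem : ∀ i j, MemLocalIdeal M ((g * E * g) i j) := by
    intro i j
    rw [hg, mul_fixDiag_apply]
    split_ifs with hj
    · rw [fixDiag_mul_apply]
      split_ifs with hi
      · exact hfix i j hi hj
      · exact memLocalIdeal_zero hMtop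
    · exact memLocalIdeal_zero hMtop
  have hdetS : MemLocalIdeal M (S.det - 1) := by
    have h1 : S = 1 - g * (g * E) := by rw [hS, ← mul_assoc, hgg]
    rw [h1, Matrix.det_one_sub_mul_comm]
    exact memLocalIdeal_det_one_sub_sub_one _ hFmem
  obtain ⟨hunit, hSinvloc⟩ := memLocalRing_inv_matrix S hSloc hdetS
  have hSS : S * S⁻¹ = 1 := Matrix.mul_nonsing_inv S hunit
  have hSS' : S⁻¹ * S = 1 := Matrix.nonsing_inv_mul S hunit
  have hSP : Commute S P := by
    rw [hS]
    exact (Commute.one_left P).sub_left (hgP.mul_left hEP)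
  have hSinvP : Commute S⁻¹ P := by
    show S⁻¹ * P = P * S⁻¹
    calc S⁻¹ * P = S⁻¹ * P * (S * S⁻¹) := by rw [hSS, mul_one]
      _ = S⁻¹ * (P * S) * S⁻¹ := by simp only [mul_assoc]
      _ = S⁻¹ * (S * P) * S⁻¹ := by rw [hSP.eq]
      _ = (S⁻¹ * S) * P * S⁻¹ := by simp only [mul_assoc]
      _ = P * S⁻¹ := by rw [hSS', one_mul]
  obtain ⟨E1, hE1⟩ : ∃ E1 : Matrix Ω Ω ℂ, E1 = S * E * S⁻¹ := ⟨_, rfl⟩
  have hgSE : g * S * E = 0 := by
    rw [hS, mul_sub, mul_one, ← mul_assoc, hgg, sub_mul, mul_assoc, hE, sub_self]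
  have hgE1 : g * E1 = 0 := by
    rw [hE1, ← mul_assoc, ← mul_assoc, hgSE, zero_mul]
  have hE1id : E1 * E1 = E1 := by
    rw [hE1]
    calc S * E * S⁻¹ * (S * E * S⁻¹) = S * E * (S⁻¹ * S) * E * S⁻¹ := by simp only [mul_assoc]
      _ = S * (E * E) * S⁻¹ := by rw [hSS', mul_one]; simp only [mul_assoc]
      _ = S * E * S⁻¹ := by rw [hE]
  have hE1P : Commute E1 P := by
    rw [hE1]
    exact (hSP.mul_left hEP).mul_left hSinvP
  have hE1loc : ∀ i j, MemLocalRing M (E1 i j) := by
    rw [hE1]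
    exact memLocalRing_matrix_mul _ _ (memLocalRing_matrix_mul _ _ hSloc hEloc) hSinvloc
  obtain ⟨E2, hE2⟩ : ∃ E2 : Matrix Ω Ω ℂ, E2 = E1 * (1 - g) := ⟨_, rfl⟩
  have hE2id : E2 * E2 = E2 := by
    rw [hE2]
    have h0 : (1 - g) * E1 = E1 - g * E1 := by rw [sub_mul, one_mul]
    calc E1 * (1 - g) * (E1 * (1 - g)) = E1 * ((1 - g) * E1) * (1 - g) := by
          simp only [mul_assoc]
      _ = E1 * (1 - g) := by rw [h0, hgE1, sub_zero, hE1id]
  have h1g : Commute (1 - g) P := (Commute.one_left P).sub_left hgP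
  have hE2P : Commute E2 P := by
    rw [hE2]
    exact hE1P.mul_left h1g
  have hE2loc : ∀ i j, MemLocalRing M (E2 i j) := by
    rw [hE2]
    exact memLocalRing_matrix_mul _ _ hE1loc
      (memLocalRing_matrix_sub _ _ memLocalRing_matrix_one hgloc)
  have hgE2 : g * E2 = 0 := by
    rw [hE2, ← mul_assoc, hgE1, zero_mul]
  have hE2g : E2 * g = 0 := by
    rw [hE2, mul_assoc, sub_mul, one_mul, hgg, sub_self, mul_zero]
  have hrow : ∀ i j, (σ ^ m') i = i → E2 i j = 0 := by
    intro i j hi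
    have := congrFun (congrFun hgE2 i) j
    rw [hg, fixDiag_mul_apply, if_pos hi] at this
    exact this
  have hcol : ∀ i j, (σ ^ m') j = j → E2 i j = 0 := by
    intro i j hj
    have := congrFun (congrFun hE2g i) j
    rw [hg, mul_fixDiag_apply, if_pos hj] at this
    exact this
  have hE2σ : ∀ i j, E2 (σ i) (σ j) = E2 i j := by
    rw [← mul_permMat_comm_iff, ← hP]
    exact hE2P
  have hzero := sum_apply_perm_eq_zero hM σ m' m hσ E2 hE2id hE2loc hE2σ hrow hcol
  rw [← trace_mul_permMat, ← hP] at hzero ⊢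
  rw [← hzero]
  have ht1 : (E1 * g * P).trace = 0 := by
    calc (E1 * g * P).trace = (E1 * (P * g)).trace := by rw [mul_assoc, hgP.eq]
      _ = (E1 * P * g).trace := by rw [mul_assoc]
      _ = (g * (E1 * P)).trace := Matrix.trace_mul_comm _ _
      _ = 0 := by rw [← mul_assoc, hgE1, zero_mul, Matrix.trace_zero]
  have ht2 : (E1 * P).trace = (E * P).trace := by
    calc (E1 * P).trace = (S * E * (S⁻¹ * P)).trace := by rw [hE1, mul_assoc]
      _ = (S * E * P * S⁻¹).trace := by rw [hSinvP.eq]; simp only [mul_assoc]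
      _ = (S⁻¹ * (S * E * P)).trace := Matrix.trace_mul_comm _ _
      _ = (E * P).trace := by
          rw [mul_assoc S, ← mul_assoc S⁻¹, hSS', one_mul]
  have ht3 : (E2 * P).trace = (E1 * P).trace - (E1 * g * P).trace := by
    rw [hE2, mul_sub, mul_one, sub_mul, Matrix.trace_sub]
  rw [ht3, ht1, sub_zero, ht2]

end Cfsg.Agent.Lib.helper3.Block
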