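import Mathlib
import Cfsg.Prelude.Def_Blocks
import Cfsg.Agent.Lib.helper3.SecMain3
import Cfsg.Agent.Lib.helper3.IndBlockLocal
import Cfsg.Agent.Lib.helper3.CommCount

/-!
# Vanishing of conjugation sums of local idempotents of the group algebra, and block
orthogonality
-/

set_option autoImplicit false
set_option linter.style.haveILetI false
set_option linter.unusedSectionVars false

namespace Cfsg.Agent.Lib.helper3.Block

open Cfsg Module Cfsg.Agent.Lib.helper3.CharBasic Cfsg.Agent.Lib.helper3.Irr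
open Cfsg.Agent.Lib.helper3.Central Cfsg.Agent.Lib.helper3.LocalM Cfsg.Agent.Lib.helper3.IndFun
open Equiv
open scoped ComplexConjugate

variable {G : Type*} [Group G] [Fintype G] {M : Ideal AlgInt}

/-- The permutation `w ↦ g * w * h⁻¹` of the group. -/
def lrPerm (g h : G) : Perm G where
  toFun w := g * w * h⁻¹
  invFun w := g⁻¹ * w * h
  left_inv w := by group
  right_inv w := by group

theorem lrPerm_apply (g h w : G) : lrPerm g h w = g * w * h⁻¹ := rfl

theorem lrPerm_pow_apply (g h : G) (n : ℕ) (w : G) :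
    (lrPerm g h ^ n) w = g ^ n * w * (h ^ n)⁻¹ := by
  induction n generalizing w with
  | zero => simp
  | succ n ih =>
    rw [pow_succ, Perm.mul_apply, ih, lrPerm_apply, pow_succ, pow_succ, mul_inv_rev]
    group

theorem lrPerm_pow_eq_one (g h : G) (n : ℕ) (hg : g ^ n = 1) (hh : h ^ n = 1) :
    lrPerm g h ^ n = 1 := by
  ext w
  rw [lrPerm_pow_apply, hg, hh]
  simp

/-- Let `ι` be an idempotent of the group algebra with local coefficients, commuting with `g`.
If `g ^ (m' p^m) = h ^ (m' p^m) = 1` and `ι (w * w'⁻¹)` lies in the local ideal whenever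
`w, w'` both conjugate `h ^ m'` to `g ^ m'`, then the sum of `ι (w * h * w⁻¹ * g⁻¹)` over `w`
vanishes. -/
theorem sum_conj_eq_zero_of_fixed [DecidableEq G] {p : ℕ} (hM : IsPModular p M) (ι : G → ℂ)
    (hι : conv ι ι = ι) (hloc : ∀ z, MemLocalRing M (ι z)) (g h : G)
    (hinv : ∀ z, ι (g * z * g⁻¹) = ι z) (m' m : ℕ) (hg : g ^ (m' * p ^ m) = 1)
    (hh : h ^ (m' * p ^ m) = 1)
    (hfix : ∀ w w' : G, g ^ m' * w = w * h ^ m' → g ^ m' * w' = w' * h ^ m' →
      MemLocalIdeal M (ι (w * w'⁻¹))) :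
    ∑ w : G, ι (w * h * w⁻¹ * g⁻¹) = 0 := by
  obtain ⟨E, hE⟩ : ∃ E : Matrix G G ℂ, E = fun w w' => ι (w * w'⁻¹) := ⟨_, rfl⟩
  have hEapp : ∀ w w', E w w' = ι (w * w'⁻¹) := by
    intro w w'
    rw [hE]
  have hEid : E * E = E := by
    ext w w''
    rw [Matrix.mul_apply, hEapp]
    conv_rhs => rw [← hι]
    unfold conv
    apply Fintype.sum_equiv ((Equiv.inv G).trans (Equiv.mulLeft w))
    intro w'
    rw [hEapp, hEapp]
    simp only [Equiv.trans_apply, Equiv.inv_apply, Equiv.coe_mulLeft]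
    congr 2
    group
  have hEσ : ∀ i j, E (lrPerm g h i) (lrPerm g h j) = E i j := by
    intro i j
    rw [hEapp, hEapp, lrPerm_apply, lrPerm_apply]
    rw [show g * i * h⁻¹ * (g * j * h⁻¹)⁻¹ = g * (i * j⁻¹) * g⁻¹ by group]
    exact hinv _
  have hfix' : ∀ i j, (lrPerm g h ^ m') i = i → (lrPerm g h ^ m') j = j →
      MemLocalIdeal M (E i j) := by
    intro i j hi hj
    rw [lrPerm_pow_apply, mul_inv_eq_iff_eq_mul] at hi hj
    rw [hEapp]
    exact hfix i j hi hj
  have := sum_apply_perm_eq_zero_of_fixed hM (lrPerm g h) m' m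
    (lrPerm_pow_eq_one g h _ hg hh) E hEid (fun i j => by rw [hEapp]; exact hloc _) hEσ hfix'
  rw [← this]
  apply Finset.sum_congr rfl
  intro w _
  rw [hEapp, lrPerm_apply]
  congr 1
  group

/-- The sum of an irreducible character over the products of the conjugates of `h` with `z`. -/
theorem sum_conj_mul_apply (χ : IrrCharacter G) (h z : G) :
    ∑ w : G, (χ : G → ℂ) (w * h * w⁻¹ * z)
      = (Nat.card G : ℂ) * (χ : G → ℂ) h * (χ : G → ℂ) z / (χ : G → ℂ) 1 := by
  obtain ⟨χ, d, ρ, hirr, rfl⟩ := χ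
  haveI := hirr
  have hV := finrank_ne_zero_of_irreducible ρ
  have h1 : ∑ w : G, ρ.character (w * h * w⁻¹ * z)
      = LinearMap.trace ℂ _ ((∑ w : G, ρ (w * h * w⁻¹)) * ρ z) := by
    rw [Finset.sum_mul, map_sum]
    apply Finset.sum_congr rfl
    intro w _
    rw [← map_mul]
    rfl
  show ∑ w : G, ρ.character (w * h * w⁻¹ * z)
    = (Nat.card G : ℂ) * ρ.character h * ρ.character z / ρ.character 1
  rw [h1, conjSum_eq_smul, smul_mul_assoc, map_smul, smul_eq_mul, ← Module.End.one_eq_id, one_mul]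
  have hχ1 : ρ.character 1 = (finrank ℂ (Fin d → ℂ) : ℂ) := by
    simp [Representation.character]
  rw [hχ1]
  have : LinearMap.trace ℂ _ (ρ z) = ρ.character z := rfl
  rw [this]
  ring

open Classical in
/-- Block orthogonality: the sum over a block of `χ g * χ h⁻¹` vanishes as soon as no conjugate
of a suitable power of `h` equals the corresponding power of `g`. -/
theorem block_orthogonality_aux {p : ℕ} (hM : IsPModular p M)
    (B : Set (IrrCharacter G)) (hB : IsPBlock M B) (g h : G) (m' m : ℕ)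
    (hg : g ^ (m' * p ^ m) = 1) (hh : h ^ (m' * p ^ m) = 1)
    (hne : ∀ w : G, g ^ m' * w ≠ w * h ^ m') :
    ∑ χ : IrrCharacter G, (if χ ∈ B then (1 : ℂ) else 0)
      * ((χ : G → ℂ) g * (χ : G → ℂ) h⁻¹) = 0 := by
  classical
  have hG0 : (Nat.card G : ℂ) ≠ 0 := card_ne_zero_complex G
  have h1 := sum_conj_eq_zero_of_fixed hM (blockCoeff B) (conv_blockCoeff_self B)
    (osima hM B hB) g h (fun z => blockCoeff_conj' B z g) m' m hg hh
    (by
      intro w w' hw
      exact absurd hw (hne w))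
  simp_rw [blockCoeff_eq_coef] at h1
  unfold coef at h1
  rw [← Finset.mul_sum, Finset.sum_comm] at h1
  have h4 : ∀ χ : IrrCharacter G, ∑ w : G, (fun χ => if χ ∈ B then (1 : ℂ) else 0) χ
      * (χ : G → ℂ) 1 * conj ((χ : G → ℂ) (w * h * w⁻¹ * g⁻¹))
      = (Nat.card G : ℂ) * ((if χ ∈ B then (1 : ℂ) else 0)
        * ((χ : G → ℂ) g * (χ : G → ℂ) h⁻¹)) := by
    intro χ
    have hχ1 := apply_one_ne_zero χ.2
    have hχc := isCharacter_of_isIrrCharacter χ.2
    have h3 : ∑ w : G, (fun χ => if χ ∈ B then (1 : ℂ) else 0) χ * (χ : G → ℂ) 1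
        * conj ((χ : G → ℂ) (w * h * w⁻¹ * g⁻¹))
        = (if χ ∈ B then (1 : ℂ) else 0) * (χ : G → ℂ) 1
          * conj (∑ w : G, (χ : G → ℂ) (w * h * w⁻¹ * g⁻¹)) := by
      rw [map_sum, Finset.mul_sum]
    rw [h3, sum_conj_mul_apply, map_div₀, map_mul, map_mul, Complex.conj_natCast,
      conj_apply_one χ, ← isCharacter_apply_inv hχc, ← isCharacter_apply_inv hχc, inv_inv]
    field_simp
  rw [Finset.sum_congr rfl (fun χ _ => h4 χ), ← Finset.mul_sum] at h1
  rcases mul_eq_zero.mp h1 with h2 | h2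
  · exact absurd (inv_eq_zero.mp h2) hG0
  · rcases mul_eq_zero.mp h2 with h5 | h5
    · exact absurd h5 hG0
    · exact h5

end Cfsg.Agent.Lib.helper3.Block
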