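import Mathlib
import Cfsg.Prelude.Def_Blocks
import Cfsg.Agent.Lib.helper3.SecMain4

/-!
# Block orthogonality
-/

set_option autoImplicit false
set_option linter.style.haveILetI false
set_option linter.unusedSectionVars false

namespace Cfsg.Agent.Lib.helper3.Block

open Cfsg Module Cfsg.Agent.Lib.helper3.CharBasic Cfsg.Agent.Lib.helper3.Irr
open Cfsg.Agent.Lib.helper3.Central Cfsg.Agent.Lib.helper3.LocalM Cfsg.Agent.Lib.helper3.IndFun
open scoped ComplexConjugate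

/-- Every element of a finite group has a `p`-part. -/
theorem exists_isPPart {G : Type*} [Group G] [Finite G] (p : ℕ) (hp : p.Prime) (g : G) :
    ∃ x, IsPPart p g x := by
  have hn : orderOf g ≠ 0 := (orderOf_pos g).ne'
  obtain ⟨a, m'', hm'', hn'⟩ := Nat.exists_eq_pow_mul_and_not_dvd hn p hp.ne_one
  have hcop : IsCoprime ((p ^ a : ℕ) : ℤ) (m'' : ℤ) :=
    Nat.isCoprime_iff_coprime.mpr
      (Nat.Coprime.pow_left a ((Nat.Prime.coprime_iff_not_dvd hp).mpr hm''))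
  obtain ⟨u, v, huv⟩ := hcop
  refine ⟨g ^ (v * (m'' : ℤ)), g ^ (u * ((p ^ a : ℕ) : ℤ)), ?_, ?_, ?_, ?_⟩
  · rw [← zpow_add, add_comm, huv, zpow_one]
  · exact (Commute.refl g).zpow_zpow _ _
  · have h1 : (g ^ (v * (m'' : ℤ))) ^ (p ^ a) = 1 := by
      rw [← zpow_natCast, ← zpow_mul, mul_assoc, ← Nat.cast_mul, mul_comm m'', ← hn', zpow_mul',
        zpow_natCast, pow_orderOf_eq_one, one_zpow]
    obtain ⟨k, -, hk⟩ := (Nat.dvd_prime_pow hp).mp (orderOf_dvd_of_pow_eq_one h1)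
    exact ⟨k, hk⟩
  · have h1 : (g ^ (u * ((p ^ a : ℕ) : ℤ))) ^ m'' = 1 := by
      rw [← zpow_natCast, ← zpow_mul, mul_assoc, ← Nat.cast_mul, ← hn', zpow_mul',
        zpow_natCast, pow_orderOf_eq_one, one_zpow]
    intro hdvd
    exact hm'' (hdvd.trans (orderOf_dvd_of_pow_eq_one h1))

/-- Two `p`-elements are conjugate as soon as their `m'`-th powers are, for `m'` prime to `p`. -/
theorem isConj_of_pow_conj {G : Type*} [Group G] {p : ℕ} (hp : p.Prime) (x y w : G)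
    (k1 k2 : ℕ) (hx : orderOf x = p ^ k1) (hy : orderOf y = p ^ k2) (m' : ℕ) (hm' : ¬ p ∣ m')
    (h : x ^ m' * w = w * y ^ m') : IsConj x y := by
  have hcop : IsCoprime (m' : ℤ) ((p ^ (k1 + k2) : ℕ) : ℤ) :=
    Nat.isCoprime_iff_coprime.mpr
      (Nat.Coprime.pow_right _ ((Nat.Prime.coprime_iff_not_dvd hp).mpr hm').symm)
  obtain ⟨u, v, huv⟩ := hcop
  have hxp : x ^ (p ^ (k1 + k2)) = 1 := by
    rw [pow_add, pow_mul, ← hx, pow_orderOf_eq_one, one_pow]
  have hyp : y ^ (p ^ (k1 + k2)) = 1 := by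
    rw [pow_add, mul_comm, pow_mul, ← hy, pow_orderOf_eq_one, one_pow]
  have hxu : (x ^ m') ^ u = x := by
    have : x ^ (u * (m' : ℤ) + v * ((p ^ (k1 + k2) : ℕ) : ℤ)) = x := by rw [huv, zpow_one]
    rw [zpow_add, zpow_mul', zpow_natCast, zpow_mul', zpow_natCast, hxp, one_zpow, mul_one] at this
    exact this
  have hyu : (y ^ m') ^ u = y := by
    have : y ^ (u * (m' : ℤ) + v * ((p ^ (k1 + k2) : ℕ) : ℤ)) = y := by rw [huv, zpow_one]
    rw [zpow_add, zpow_mul', zpow_natCast, zpow_mul', zpow_natCast, hyp, one_zpow, mul_one] at this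
    exact this
  have h1 : w⁻¹ * x ^ m' * w⁻¹⁻¹ = y ^ m' := by
    rw [inv_inv, mul_assoc, h]
    group
  rw [isConj_iff]
  refine ⟨w⁻¹, ?_⟩
  rw [← hyu, ← h1, conj_zpow, hxu]

open Classical in
theorem finsum_mem_set_eq_sum_ite {α : Type*} [Fintype α] (B : Set α) (f : α → ℂ) :
    ∑ᶠ a ∈ B, f a = ∑ a, (if a ∈ B then (1 : ℂ) else 0) * f a := by
  rw [finsum_mem_def, finsum_eq_sum_of_fintype]
  apply Finset.sum_congr rfl
  intro a _
  by_cases h : a ∈ B
  · rw [Set.indicator_of_mem h, if_pos h, one_mul]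
  · rw [Set.indicator_of_notMem h, if_neg h, zero_mul]

variable {G : Type*} [Group G] [Fintype G] {M : Ideal AlgInt}

open Classical in
/-- Block orthogonality. -/
theorem block_orthogonality {p : ℕ} (hM : IsPModular p M)
    (B : Set (IrrCharacter G)) (hB : IsPBlock M B) (g h x y : G) (hx : IsPPart p g x)
    (hy : IsPPart p h y) (hxy : ¬ IsConj x y) :
    ∑ χ : IrrCharacter G, (if χ ∈ B then (1 : ℂ) else 0)
      * ((χ : G → ℂ) g * (χ : G → ℂ) h⁻¹) = 0 := by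
  have hp : p.Prime := hM.1
  obtain ⟨yg, hxg, hcg, ⟨k1, hk1⟩, hyg⟩ := hx
  obtain ⟨yh, hyh', hch, ⟨k2, hk2⟩, hyh⟩ := hy
  obtain ⟨m', hm'⟩ : ∃ m' : ℕ, m' = orderOf yg * orderOf yh := ⟨_, rfl⟩
  have hpm' : ¬ p ∣ m' := by
    rw [hm']
    intro hd
    rcases (Nat.Prime.dvd_mul hp).mp hd with h1 | h1
    · exact hyg h1
    · exact hyh h1
  have hygm : yg ^ m' = 1 := by rw [hm', pow_mul, pow_orderOf_eq_one, one_pow]
  have hyhm : yh ^ m' = 1 := by rw [hm', mul_comm, pow_mul, pow_orderOf_eq_one, one_pow]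
  have hgm : g ^ m' = x ^ m' := by rw [← hxg, hcg.mul_pow, hygm, mul_one]
  have hhm : h ^ m' = y ^ m' := by rw [← hyh', hch.mul_pow, hyhm, mul_one]
  have hxp : x ^ (p ^ (k1 + k2)) = 1 := by
    rw [pow_add, pow_mul, ← hk1, pow_orderOf_eq_one, one_pow]
  have hyp : y ^ (p ^ (k1 + k2)) = 1 := by
    rw [pow_add, mul_comm, pow_mul, ← hk2, pow_orderOf_eq_one, one_pow]
  apply block_orthogonality_aux hM B hB g h m' (k1 + k2)
  · rw [pow_mul, hgm, ← pow_mul, mul_comm, pow_mul, hxp, one_pow]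
  · rw [pow_mul, hhm, ← pow_mul, mul_comm, pow_mul, hyp, one_pow]
  · intro w hw
    rw [hgm, hhm] at hw
    exact hxy (isConj_of_pow_conj hp x y w k1 k2 hk1 hk2 m' hpm' hw)

end Cfsg.Agent.Lib.helper3.Block
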