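import Mathlib
import Cfsg.Prelude.Def_Blocks
import Cfsg.Agent.Lib.helper3.SecMain5

/-!
# Convolution algebra, and idempotents whose truncation to a subgroup has Fourier coordinates in
the local ideal
-/

set_option autoImplicit false
set_option linter.style.haveILetI false
set_option linter.unusedSectionVars false

namespace Cfsg.Agent.Lib.helper3.Block

open Cfsg Module Cfsg.Agent.Lib.helper3.CharBasic Cfsg.Agent.Lib.helper3.Irr
open Cfsg.Agent.Lib.helper3.Central Cfsg.Agent.Lib.helper3.LocalM Cfsg.Agent.Lib.helper3.IndFun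
open scoped ComplexConjugate

variable {G : Type*} [Group G] [Fintype G] {M : Ideal AlgInt}

theorem conv_assoc (a b c : G → ℂ) : conv (conv a b) c = conv a (conv b c) := by
  funext g
  unfold conv
  simp_rw [Finset.sum_mul, Finset.mul_sum]
  rw [Finset.sum_comm]
  apply Finset.sum_congr rfl
  intro z _
  apply Fintype.sum_equiv (Equiv.mulLeft z⁻¹)
  intro y
  simp only [Equiv.coe_mulLeft]
  rw [mul_assoc]
  congr 3
  group

theorem conv_comm_of_classFun (u f : G → ℂ) (hf : ∀ g x : G, f (x * g * x⁻¹) = f g) :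
    conv u f = conv f u := by
  funext g
  unfold conv
  apply Fintype.sum_equiv ((Equiv.inv G).trans (Equiv.mulLeft g))
  intro y
  simp only [Equiv.trans_apply, Equiv.inv_apply, Equiv.coe_mulLeft]
  have h1 : f (g * y⁻¹) = f (y⁻¹ * g) := by
    have := hf (y⁻¹ * g) y
    rw [← this]
    congr 1
    group
  have h2 : (g * y⁻¹)⁻¹ * g = y := by group
  rw [h1, h2, mul_comm]

/-- Let `ι` be an idempotent of the group algebra with local coefficients, invariant under a
subgroup `H` that contains the `p`-subgroup `P` and its centralizer.  If the truncation of `ι` to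
`H` has all its Fourier coordinates in the local ideal, then `ι` takes values in the local ideal
on `C_G(P)`. -/
theorem memLocalIdeal_of_fourier {p : ℕ} [hp : Fact p.Prime] (hM : IsPModular p M)
    (P H : Subgroup G) [Fintype H] (hP : IsPGroup p P) (hPH : P ≤ H)
    (hCH : Subgroup.centralizer (P : Set G) ≤ H)
    [Fintype (Subgroup.centralizer (P : Set G))]
    (ι : G → ℂ) (hι : conv ι ι = ι) (hloc : ∀ g, MemLocalRing M (ι g))
    (hinv : ∀ k ∈ H, ∀ g, ι (k * g * k⁻¹) = ι g)
    (hF : ∀ θ : IrrCharacter H,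
      MemLocalIdeal M (∑ k : H, ι (k : G) * ((θ : H → ℂ) k / (θ : H → ℂ) 1)))
    (c : G) (hc : c ∈ Subgroup.centralizer (P : Set G)) : MemLocalIdeal M (ι c) := by
  classical
  haveI hMp := isPrime_of_isPModular hM
  have hMtop : M ≠ ⊤ := hM.2.1.ne_top
  obtain ⟨z, hz⟩ : ∃ z : G → ℂ, z = fun g => if g ∈ H then ι g else 0 := ⟨_, rfl⟩
  have hz_mem : ∀ g, g ∈ H → z g = ι g := by
    intro g hg
    rw [hz]
    beta_reduce
    rw [if_pos hg]
  have hz_supp : ∀ g, g ∉ H → z g = 0 := by
    intro g hg
    rw [hz]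
    beta_reduce
    rw [if_neg hg]
  have hz_loc : ∀ g, MemLocalRing M (z g) := by
    intro g
    by_cases hg : g ∈ H
    · rw [hz_mem g hg]
      exact hloc g
    · rw [hz_supp g hg]
      exact memLocalRing_of_integral isIntegral_zero
  have hz_H : ∀ x ∈ H, ∀ g, z (x * g * x⁻¹) = z g := by
    intro x hx g
    have hiff : g ∈ H ↔ x * g * x⁻¹ ∈ H := by
      constructor
      · intro hg
        exact H.mul_mem (H.mul_mem hx hg) (H.inv_mem hx)
      · intro hg
        have := H.mul_mem (H.mul_mem (H.inv_mem hx) hg) hx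
        rwa [show x⁻¹ * (x * g * x⁻¹) * x = g by group] at this
    by_cases hg : g ∈ H
    · rw [hz_mem g hg, hz_mem _ (hiff.mp hg), hinv x hx]
    · rw [hz_supp g hg, hz_supp _ (fun h' => hg (hiff.mpr h'))]
  have hz_P : ∀ u ∈ P, ∀ g, z (u * g * u⁻¹) = z g := fun u hu g => hz_H u (hPH hu) g
  have hι_P : ∀ u ∈ P, ∀ g, ι (u * g * u⁻¹) = ι g := fun u hu g => hinv u (hPH hu) g
  have hcθ : ∀ θ : IrrCharacter H,
      MemLocalIdeal M (∑ x : H, z (x : G) * ((θ : H → ℂ) x / (θ : H → ℂ) 1)) := by
    intro θ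
    convert hF θ using 1
    apply Finset.sum_congr rfl
    intro x _
    rw [hz_mem _ x.2]
  obtain ⟨n, hn⟩ := exists_pow_coef_memLocalIdeal hM _ hcθ
  obtain ⟨h1, h2⟩ := cpow_eq_coef H z hz_supp hz_H n
  have hval : ∀ g, MemLocalIdeal M (cpow z n g) := by
    intro g
    by_cases hg : g ∈ H
    · have := h2 ⟨g, hg⟩
      rw [show ((⟨g, hg⟩ : H) : G) = g from rfl] at this
      rw [this]
      exact hn _
    · rw [h1 g hg]
      exact memLocalIdeal_zero hMtop
  have hval' : ∀ g, MemLocalIdeal M (cpow z (n + 1) g) := by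
    intro g
    rw [cpow_succ]
    unfold conv
    apply memLocalIdeal_sum
    intro y _
    rw [mul_comm]
    exact memLocalIdeal_mul_localRing (hz_loc _) (hval y)
  have hidem : ∀ m : ℕ, ∀ x ∈ Subgroup.centralizer (P : Set G),
      MemLocalIdeal M (cpow z (m + 1) x - ι x) := by
    intro m
    induction m with
    | zero =>
      intro x hx
      rw [cpow_succ, cpow_zero, conv_deltaOne, hz_mem x (hCH hx), sub_self]
      exact memLocalIdeal_zero hMtop
    | succ m ih =>
      intro x hx
      rw [cpow_succ]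
      have e1 := memLocalIdeal_conv_sub_trunc hM P hP (cpow z (m + 1)) z
        (memLocalRing_cpow z hz_loc (m + 1)) hz_loc
        (fun u hu g => cpow_conj z u (hz_P u hu) (m + 1) g) hz_P x hx
      have e1' := memLocalIdeal_conv_sub_trunc hM P hP ι ι hloc hloc hι_P hι_P x hx
      rw [hι] at e1'
      have e2 : MemLocalIdeal M (∑ y : Subgroup.centralizer (P : Set G),
          (cpow z (m + 1) (y : G) - ι (y : G)) * z ((y : G)⁻¹ * x)) := by
        apply memLocalIdeal_sum
        intro y _
        rw [mul_comm]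
        exact memLocalIdeal_mul_localRing (hz_loc _) (ih y y.2)
      have e3 : ∑ y : Subgroup.centralizer (P : Set G), ι (y : G) * z ((y : G)⁻¹ * x)
          = ∑ y : Subgroup.centralizer (P : Set G), ι (y : G) * ι ((y : G)⁻¹ * x) := by
        apply Finset.sum_congr rfl
        intro y _
        rw [hz_mem _ (hCH (Subgroup.mul_mem _ (Subgroup.inv_mem _ y.2) hx))]
      have e4 := memLocalIdeal_sub (memLocalIdeal_add e1 e2) e1'
      convert e4 using 1
      have : ∀ y : Subgroup.centralizer (P : Set G),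
          (cpow z (m + 1) (y : G) - ι (y : G)) * z ((y : G)⁻¹ * x)
          = cpow z (m + 1) (y : G) * z ((y : G)⁻¹ * x) - ι (y : G) * z ((y : G)⁻¹ * x) := by
        intro y
        ring
      rw [Finset.sum_congr rfl (fun y _ => this y), Finset.sum_sub_distrib, e3]
      ring
  have h3 := hidem n c hc
  have h4 := memLocalIdeal_sub (hval' c) h3
  rw [sub_sub_cancel] at h4
  exact h4

end Cfsg.Agent.Lib.helper3.Block
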