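import Mathlib
import Cfsg.Prelude.Def_Blocks
import Cfsg.Agent.Lib.helper3.SecMain6

/-!
# Brauer's second main theorem, idempotent form
-/

set_option autoImplicit false
set_option linter.style.haveILetI false
set_option linter.unusedSectionVars false
set_option maxHeartbeats 1000000

namespace Cfsg.Agent.Lib.helper3.Block

open Cfsg Module Cfsg.Agent.Lib.helper3.CharBasic Cfsg.Agent.Lib.helper3.Irr
open Cfsg.Agent.Lib.helper3.Central Cfsg.Agent.Lib.helper3.LocalM Cfsg.Agent.Lib.helper3.IndFun
open scoped ComplexConjugate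

variable {G : Type*} [Group G] [Fintype G] {M : Ideal AlgInt}

theorem deltaOne_one : deltaOne G (1 : G) = 1 := by
  unfold deltaOne
  simp

theorem deltaOne_of_ne {g : G} (hg : g ≠ 1) : deltaOne G g = 0 := by
  unfold deltaOne
  simp [hg]

theorem deltaOne_eq_coef (g : G) : deltaOne G g = coef (fun _ : IrrCharacter G => (1 : ℂ)) g := by
  classical
  rw [coef_one]
  by_cases hg : g = 1
  · rw [if_pos hg, hg, deltaOne_one]
  · rw [if_neg hg, deltaOne_of_ne hg]

theorem sum_of_support (H : Subgroup G) [Fintype H] (F : G → ℂ) (hF : ∀ g, g ∉ H → F g = 0) :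
    ∑ g : G, F g = ∑ k : H, F (k : G) := by
  classical
  rw [← Finset.sum_subset (Finset.subset_univ (Finset.univ.filter (fun x : G => x ∈ H)))]
  · rw [Finset.sum_subtype (p := fun x : G => x ∈ H)
      (Finset.univ.filter (fun x : G => x ∈ H)) (by intro x; simp)]
  · intro x _ hx
    rw [Finset.mem_filter] at hx
    exact hF x (fun h => hx ⟨Finset.mem_univ _, h⟩)

/-- The complement idempotent `1 - e_B`. -/
noncomputable def coBlockCoeff (B : Set (IrrCharacter G)) (g : G) : ℂ :=
  deltaOne G g - blockCoeff B g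

open Classical in
theorem coBlockCoeff_eq_coef (B : Set (IrrCharacter G)) (g : G) :
    coBlockCoeff B g = coef ((fun _ : IrrCharacter G => (1 : ℂ))
      - (fun χ : IrrCharacter G => if χ ∈ B then (1 : ℂ) else 0)) g := by
  unfold coBlockCoeff
  rw [coef_sub, deltaOne_eq_coef, blockCoeff_eq_coef]

theorem conv_coBlockCoeff_self (B : Set (IrrCharacter G)) :
    conv (coBlockCoeff B) (coBlockCoeff B) = coBlockCoeff B := by
  classical
  funext g
  unfold conv
  simp_rw [coBlockCoeff_eq_coef]
  rw [← coef_mul]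
  congr 1
  funext χ
  simp only [Pi.mul_apply, Pi.sub_apply]
  split_ifs <;> ring

theorem coBlockCoeff_conj (B : Set (IrrCharacter G)) (g x : G) :
    coBlockCoeff B (x * g * x⁻¹) = coBlockCoeff B g := by
  unfold coBlockCoeff
  rw [deltaOne_conj, blockCoeff_conj']

theorem memLocalRing_coBlockCoeff {p : ℕ} (hM : IsPModular p M) (B : Set (IrrCharacter G))
    (hB : IsPBlock M B) (g : G) : MemLocalRing M (coBlockCoeff B g) := by
  haveI hMp := isPrime_of_isPModular hM
  unfold coBlockCoeff
  rw [sub_eq_add_neg]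
  have h1 : MemLocalRing M (-1 : ℂ) := memLocalRing_of_integral (isIntegral_one.neg)
  have := memLocalRing_mul h1 (osima hM B hB g)
  rw [neg_one_mul] at this
  exact memLocalRing_add (memLocalRing_deltaOne g) this

/-- The product `e_b (1 - e_B)`, as a coefficient function. -/
noncomputable def secIdem (H : Subgroup G) (b : Set (IrrCharacter H)) (B : Set (IrrCharacter G)) :
    G → ℂ :=
  conv (subgroupBlockCoeff H b) (coBlockCoeff B)

theorem subgroupBlockCoeff_conj (H : Subgroup G) [Fintype H] (b : Set (IrrCharacter H))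
    (k : G) (hk : k ∈ H) (g : G) :
    subgroupBlockCoeff H b (k * g * k⁻¹) = subgroupBlockCoeff H b g := by
  have hiff : g ∈ H ↔ k * g * k⁻¹ ∈ H := by
    constructor
    · intro hg
      exact H.mul_mem (H.mul_mem hk hg) (H.inv_mem hk)
    · intro hg
      have := H.mul_mem (H.mul_mem (H.inv_mem hk) hg) hk
      rwa [show k⁻¹ * (k * g * k⁻¹) * k = g by group] at this
  by_cases hg : g ∈ H
  · rw [subgroupBlockCoeff_of_mem H b hg, subgroupBlockCoeff_of_mem H b (hiff.mp hg)]
    have : (⟨k * g * k⁻¹, hiff.mp hg⟩ : H) = ⟨k, hk⟩ * ⟨g, hg⟩ * ⟨k, hk⟩⁻¹ := rfl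
    rw [this, blockCoeff_conj']
  · rw [subgroupBlockCoeff_of_notMem H b hg,
      subgroupBlockCoeff_of_notMem H b (fun h' => hg (hiff.mpr h'))]

theorem conv_secIdem_self (H : Subgroup G) [Fintype H] (b : Set (IrrCharacter H))
    (B : Set (IrrCharacter G)) : conv (secIdem H b B) (secIdem H b B) = secIdem H b B := by
  unfold secIdem
  have hcomm : conv (coBlockCoeff B) (subgroupBlockCoeff H b)
      = conv (subgroupBlockCoeff H b) (coBlockCoeff B) :=
    (conv_comm_of_classFun _ _ (fun g x => coBlockCoeff_conj B g x)).symm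
  calc conv (conv (subgroupBlockCoeff H b) (coBlockCoeff B))
        (conv (subgroupBlockCoeff H b) (coBlockCoeff B))
      = conv (subgroupBlockCoeff H b) (conv (conv (coBlockCoeff B) (subgroupBlockCoeff H b))
          (coBlockCoeff B)) := by
        rw [conv_assoc, conv_assoc]
    _ = conv (subgroupBlockCoeff H b) (conv (subgroupBlockCoeff H b)
          (conv (coBlockCoeff B) (coBlockCoeff B))) := by
        rw [hcomm, conv_assoc]
    _ = conv (subgroupBlockCoeff H b) (coBlockCoeff B) := by
        rw [conv_coBlockCoeff_self, ← conv_assoc, conv_subgroupBlockCoeff_self]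

theorem memLocalRing_secIdem {p : ℕ} (hM : IsPModular p M) (H : Subgroup G) [Fintype H]
    (b : Set (IrrCharacter H)) (hb : IsPBlock M b) (B : Set (IrrCharacter G)) (hB : IsPBlock M B)
    (g : G) : MemLocalRing M (secIdem H b B g) := by
  haveI hMp := isPrime_of_isPModular hM
  unfold secIdem
  apply memLocalRing_conv
  · intro g
    by_cases hg : g ∈ H
    · rw [subgroupBlockCoeff_of_mem H b hg]
      exact osima hM b hb _
    · rw [subgroupBlockCoeff_of_notMem H b hg]
      exact memLocalRing_of_integral isIntegral_zero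
  · exact memLocalRing_coBlockCoeff hM B hB

theorem secIdem_conj (H : Subgroup G) [Fintype H] (b : Set (IrrCharacter H))
    (B : Set (IrrCharacter G)) (k : G) (hk : k ∈ H) (g : G) :
    secIdem H b B (k * g * k⁻¹) = secIdem H b B g := by
  unfold secIdem
  exact conv_conj _ _ k (subgroupBlockCoeff_conj H b k hk) (fun g => coBlockCoeff_conj B g k) g

open Classical in
/-- The Fourier coordinates on `H` of the truncation of `e_b (1 - e_B)` to `H`. -/
theorem sum_secIdem_mul (H : Subgroup G) [Fintype H] (b : Set (IrrCharacter H))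
    (B : Set (IrrCharacter G)) (θ : IrrCharacter H) :
    ∑ k : H, secIdem H b B (k : G) * ((θ : H → ℂ) k / (θ : H → ℂ) 1)
      = (if θ ∈ b then (1 : ℂ) else 0)
        * (1 - ∑ k : H, blockCoeff B (k : G) * ((θ : H → ℂ) k / (θ : H → ℂ) 1)) := by
  have hθ1 := apply_one_ne_zero θ.2
  obtain ⟨aH, haH⟩ : ∃ aH : H → ℂ, aH = fun k : H => coBlockCoeff B (k : G) := ⟨_, rfl⟩
  have h1 : ∀ k : H, secIdem H b B (k : G) = conv (blockCoeff b) aH k := by
    intro k
    unfold secIdem
    rw [conv_of_support H _ _ (fun g hg => subgroupBlockCoeff_of_notMem H b hg)]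
    unfold conv
    apply Finset.sum_congr rfl
    intro y _
    rw [subgroupBlockCoeff_of_mem H b y.2, haH]
    rfl
  rw [Finset.sum_congr rfl (fun k _ => by rw [h1 k])]
  rw [← centralFunctional_mul θ (blockCoeff b) aH (fun g x => blockCoeff_conj' b g x)]
  congr 1
  · simp_rw [blockCoeff_eq_coef]
    exact sum_coef_mul_div _ θ
  · rw [haH]
    unfold coBlockCoeff
    simp_rw [sub_mul]
    rw [Finset.sum_sub_distrib]
    congr 1
    rw [Finset.sum_eq_single (1 : H)]
    · rw [show ((1 : H) : G) = 1 from rfl, deltaOne_one, one_mul, div_self hθ1]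
    · intro k _ hk
      rw [deltaOne_of_ne (fun h' => hk (Subtype.ext h')), zero_mul]
    · intro h'
      exact absurd (Finset.mem_univ _) h'

end Cfsg.Agent.Lib.helper3.Block
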