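import Mathlib
import Cfsg.Prelude.Def_Blocks
import Cfsg.Agent.Lib.helper3.SecMain7

/-!
# Brauer's second main theorem, idempotent form (continued)
-/

set_option autoImplicit false
set_option linter.style.haveILetI false
set_option linter.unusedSectionVars false
set_option maxHeartbeats 1000000

namespace Cfsg.Agent.Lib.helper3.Block

open Cfsg Module Cfsg.Agent.Lib.helper3.CharBasic Cfsg.Agent.Lib.helper3.Irr
open Cfsg.Agent.Lib.helper3.Central Cfsg.Agent.Lib.helper3.LocalM Cfsg.Agent.Lib.helper3.IndFun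
open scoped ComplexConjugate

variable {G : Type*} [Group G] [Fintype G] {M : Ideal AlgInt}

/-- The Fourier coordinates of the truncation of `e_b (1 - e_B)` to `H` lie in the local ideal
when `b` induces `B`. -/
theorem memLocalIdeal_sum_secIdem_mul {p : ℕ} (hM : IsPModular p M) (H : Subgroup G) [Fintype H]
    (b : Set (IrrCharacter H)) (B : Set (IrrCharacter G)) (hind : IsInducedBlock M H b B)
    (θ : IrrCharacter H) :
    MemLocalIdeal M (∑ k : H, secIdem H b B (k : G) * ((θ : H → ℂ) k / (θ : H → ℂ) 1)) := by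
  classical
  haveI hMp := isPrime_of_isPModular hM
  have hMtop : M ≠ ⊤ := hM.2.1.ne_top
  rw [sum_secIdem_mul]
  by_cases hθ : θ ∈ b
  · rw [if_pos hθ, one_mul]
    obtain ⟨-, hB, -⟩ := id hind
    obtain ⟨χ₀, hB'⟩ := id hB
    have hχ₀ : χ₀ ∈ B := by
      rw [hB']
      exact sameBlock_refl hMtop _
    have h1 := memLocalIdeal_sum_sub_of_induced H b B hind θ hθ χ₀ hχ₀ (blockCoeff B)
      (osima hM B hB) (fun g x => blockCoeff_conj' B g x)
    have h2 : ∑ g : G, blockCoeff B g * ((χ₀ : G → ℂ) g / (χ₀ : G → ℂ) 1) = 1 := by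
      simp_rw [blockCoeff_eq_coef]
      rw [sum_coef_mul_div, if_pos hχ₀]
    rw [h2] at h1
    have := memLocalIdeal_neg h1
    rw [neg_sub] at this
    exact this
  · rw [if_neg hθ, zero_mul]
    exact memLocalIdeal_zero hMtop

open Classical in
/-- An irreducible character outside `B` annihilates `e_B z`. -/
theorem sum_blockCoeff_mul_apply_of_notMem (B : Set (IrrCharacter G)) (χ : IrrCharacter G)
    (hχ : χ ∉ B) (z : G) : ∑ g : G, blockCoeff B g * (χ : G → ℂ) (g * z) = 0 := by
  rw [sum_classFun_mul_apply χ (blockCoeff B) (fun g x => blockCoeff_conj' B g x) z]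
  have h1 : ∑ x : G, blockCoeff B x * (χ : G → ℂ) x / (χ : G → ℂ) 1 = 0 := by
    have := sum_coef_mul_div (fun χ : IrrCharacter G => if χ ∈ B then (1 : ℂ) else 0) χ
    rw [if_neg hχ] at this
    rw [← this]
    apply Finset.sum_congr rfl
    intro x _
    rw [blockCoeff_eq_coef]
    ring
  rw [h1, zero_mul]

/-- The value of an irreducible character outside `B` on `e_b (1 - e_B) h` is its value on
`e_b h`. -/
theorem sum_secIdem_mul_apply (H : Subgroup G) [Fintype H] (b : Set (IrrCharacter H))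
    (B : Set (IrrCharacter G)) (χ : IrrCharacter G) (hχ : χ ∉ B) (h : G) :
    ∑ g : G, secIdem H b B g * (χ : G → ℂ) (g * h)
      = ∑ k : H, blockCoeff b k * (χ : G → ℂ) ((k : G) * h) := by
  classical
  have hχcf := isClassFunction_of_isCharacter (isCharacter_of_isIrrCharacter χ.2)
  unfold secIdem conv
  simp_rw [Finset.sum_mul]
  rw [Finset.sum_comm]
  have h1 : ∀ y : G, ∑ g : G, subgroupBlockCoeff H b y * coBlockCoeff B (y⁻¹ * g)
      * (χ : G → ℂ) (g * h) = subgroupBlockCoeff H b y * (χ : G → ℂ) (y * h) := by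
    intro y
    have e1 : ∑ g : G, subgroupBlockCoeff H b y * coBlockCoeff B (y⁻¹ * g) * (χ : G → ℂ) (g * h)
        = ∑ g' : G, subgroupBlockCoeff H b y * coBlockCoeff B g' * (χ : G → ℂ) (y * g' * h) := by
      apply Fintype.sum_equiv (Equiv.mulLeft y⁻¹)
      intro g
      simp only [Equiv.coe_mulLeft]
      rw [mul_inv_cancel_left]
    rw [e1]
    unfold coBlockCoeff
    simp_rw [mul_sub, sub_mul]
    rw [Finset.sum_sub_distrib]
    have e2 : ∑ g' : G, subgroupBlockCoeff H b y * deltaOne G g' * (χ : G → ℂ) (y * g' * h)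
        = subgroupBlockCoeff H b y * (χ : G → ℂ) (y * h) := by
      rw [Finset.sum_eq_single (1 : G)]
      · rw [deltaOne_one, mul_one, mul_one]
      · intro g' _ hg'
        rw [deltaOne_of_ne hg', mul_zero, zero_mul]
      · intro h'
        exact absurd (Finset.mem_univ _) h'
    have e3 : ∑ g' : G, subgroupBlockCoeff H b y * blockCoeff B g' * (χ : G → ℂ) (y * g' * h)
        = 0 := by
      have e4 : ∀ g' : G, (χ : G → ℂ) (y * g' * h) = (χ : G → ℂ) (g' * (h * y)) := by
        intro g'
        rw [← hχcf (g' * (h * y)) y]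
        congr 1
        group
      simp_rw [e4, mul_assoc]
      rw [← Finset.mul_sum, sum_blockCoeff_mul_apply_of_notMem B χ hχ, mul_zero]
    rw [e2, e3, sub_zero]
  rw [Finset.sum_congr rfl (fun y _ => h1 y)]
  rw [sum_of_support H (fun y => subgroupBlockCoeff H b y * (χ : G → ℂ) (y * h))
    (fun g hg => by
      show subgroupBlockCoeff H b g * (χ : G → ℂ) (g * h) = 0
      rw [subgroupBlockCoeff_of_notMem H b hg, zero_mul])]
  apply Finset.sum_congr rfl
  intro k _
  show subgroupBlockCoeff H b (k : G) * _ = _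
  rw [subgroupBlockCoeff_of_mem H b k.2]

/-- If all the conjugation sums of `ι (· h⁻¹)` vanish then every irreducible character
annihilates `ι h`. -/
theorem sum_mul_apply_eq_zero_of_conj (ι : G → ℂ) (h : G)
    (hvan : ∀ u : G, ∑ w : G, ι (w * u * w⁻¹ * h⁻¹) = 0) (χ : IrrCharacter G) :
    ∑ g : G, ι g * (χ : G → ℂ) (g * h) = 0 := by
  have hχcf := isClassFunction_of_isCharacter (isCharacter_of_isIrrCharacter χ.2)
  have hG0 : (Nat.card G : ℂ) ≠ 0 := card_ne_zero_complex G
  have h1 : ∀ w : G, ∑ g : G, ι g * (χ : G → ℂ) (g * h)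
      = ∑ z : G, ι (w * z * w⁻¹ * h⁻¹) * (χ : G → ℂ) z := by
    intro w
    symm
    apply Fintype.sum_equiv ((MulAut.conj w).toEquiv.trans (Equiv.mulRight h⁻¹))
    intro z
    simp only [Equiv.trans_apply, MulEquiv.toEquiv_eq_coe, EquivLike.coe_coe, MulAut.conj_apply,
      Equiv.coe_mulRight]
    rw [inv_mul_cancel_right, hχcf z w]
  have h2 : ∑ _w : G, ∑ g : G, ι g * (χ : G → ℂ) (g * h) = 0 := by
    rw [Finset.sum_congr rfl (fun w _ => h1 w), Finset.sum_comm]
    apply Finset.sum_eq_zero
    intro z _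
    rw [← Finset.sum_mul, hvan z, zero_mul]
  rw [Finset.sum_const, Finset.card_univ, nsmul_eq_mul] at h2
  rcases mul_eq_zero.mp h2 with h3 | h3
  · exfalso
    have : (Fintype.card G : ℂ) ≠ 0 := by
      have : Fintype.card G ≠ 0 := Fintype.card_ne_zero
      exact_mod_cast this
    exact this h3
  · exact h3

end Cfsg.Agent.Lib.helper3.Block
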