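import Mathlib
import Cfsg.Prelude.Def_Blocks
import Cfsg.Agent.Lib.helper3.SecMain8

/-!
# Brauer's second main theorem, idempotent form: the theorem
-/

set_option autoImplicit false
set_option linter.style.haveILetI false
set_option linter.unusedSectionVars false
set_option maxHeartbeats 1000000

namespace Cfsg.Agent.Lib.helper3.Block

open Cfsg Module Cfsg.Agent.Lib.helper3.CharBasic Cfsg.Agent.Lib.helper3.Irr
open Cfsg.Agent.Lib.helper3.Central Cfsg.Agent.Lib.helper3.LocalM Cfsg.Agent.Lib.helper3.IndFun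
open scoped ComplexConjugate

variable {G : Type*} [Group G] [Fintype G] {M : Ideal AlgInt}

/-- Second main theorem, idempotent form: if `b` induces `B`, the centralizer of the `p`-part of
`h ∈ H` lies in `H` and `χ ∉ B`, then `χ` annihilates `e_b h`. -/
theorem second_main_idem {p : ℕ} [hpf : Fact p.Prime] (hM : IsPModular p M) (H : Subgroup G)
    [Fintype H] (b : Set (IrrCharacter H)) (B : Set (IrrCharacter G))
    (hind : IsInducedBlock M H b B) (h : H)
    (hC : ∀ z : G, IsPPart p (h : G) z → Subgroup.centralizer ({z} : Set G) ≤ H)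
    (χ : IrrCharacter G) (hχ : χ ∉ B) :
    ∑ k : H, blockCoeff b k * (χ : G → ℂ) ((k : G) * (h : G)) = 0 := by
  classical
  have hp : p.Prime := hpf.out
  haveI hMp := isPrime_of_isPModular hM
  obtain ⟨hb, hB, -⟩ := id hind
  obtain ⟨x', yh, hxy, hcomm, ⟨k, hk⟩, hreg⟩ := exists_isPPart p hp h
  obtain ⟨x, hx⟩ : ∃ x : G, x = (x' : G) := ⟨_, rfl⟩
  obtain ⟨y, hy⟩ : ∃ y : G, y = (yh : G) := ⟨_, rfl⟩
  have hxyG : x * y = (h : G) := by rw [hx, hy, ← Subgroup.coe_mul, hxy]
  have hcommG : Commute x y := by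
    rw [hx, hy]
    show (x' : G) * yh = yh * x'
    rw [← Subgroup.coe_mul, ← Subgroup.coe_mul, hcomm.eq]
  have hkG : orderOf x = p ^ k := by rw [hx, Subgroup.orderOf_coe, hk]
  have hregG : ¬ p ∣ orderOf y := by
    rw [hy, Subgroup.orderOf_coe]
    exact hreg
  have hCx : Subgroup.centralizer ({x} : Set G) ≤ H := hC x ⟨y, hxyG, hcommG, ⟨k, hkG⟩, hregG⟩
  obtain ⟨P, hPdef⟩ : ∃ P : Subgroup G, P = Subgroup.zpowers x := ⟨_, rfl⟩
  have hP : IsPGroup p P := by
    rw [hPdef]
    exact IsPGroup.of_card (n := k) (by rw [Nat.card_zpowers, hkG])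
  have hPH : P ≤ H := by
    rw [hPdef, Subgroup.zpowers_le, hx]
    exact x'.2
  have hxP : x ∈ P := by
    rw [hPdef]
    exact Subgroup.mem_zpowers x
  have hCP : Subgroup.centralizer (P : Set G) ≤ H := by
    intro c hc
    apply hCx
    rw [Subgroup.mem_centralizer_singleton_iff]
    exact (Subgroup.mem_centralizer_iff.mp hc x hxP).symm
  have hmemCP : ∀ c : G, Commute x c → c ∈ Subgroup.centralizer (P : Set G) := by
    intro c hc
    rw [Subgroup.mem_centralizer_iff]
    intro u hu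
    rw [hPdef] at hu
    obtain ⟨i, rfl⟩ := Subgroup.mem_zpowers_iff.mp hu
    exact (hc.zpow_left i).eq
  letI : Fintype (Subgroup.centralizer (P : Set G)) := Fintype.ofFinite _
  have hιloc := memLocalRing_secIdem hM H b hb B hB
  have hcent : ∀ c ∈ Subgroup.centralizer (P : Set G), MemLocalIdeal M (secIdem H b B c) := by
    intro c hc
    exact memLocalIdeal_of_fourier hM P H hP hPH hCP (secIdem H b B) (conv_secIdem_self H b B)
      hιloc (secIdem_conj H b B) (memLocalIdeal_sum_secIdem_mul hM H b B hind) c hc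
  have hvan : ∀ u : G, ∑ w : G, secIdem H b B (w * u * w⁻¹ * (h : G)⁻¹) = 0 := by
    intro u
    obtain ⟨au, mu, hmu, hou⟩ :=
      Nat.exists_eq_pow_mul_and_not_dvd (orderOf_pos u).ne' p hp.ne_one
    obtain ⟨m', hm'⟩ : ∃ m' : ℕ, m' = orderOf y * mu := ⟨_, rfl⟩
    have hpm' : ¬ p ∣ m' := by
      rw [hm']
      intro hd
      rcases (Nat.Prime.dvd_mul hp).mp hd with h1 | h1
      · exact hregG h1
      · exact hmu h1
    have hym : y ^ m' = 1 := by rw [hm', pow_mul, pow_orderOf_eq_one, one_pow]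
    have hhm : (h : G) ^ m' = x ^ m' := by rw [← hxyG, hcommG.mul_pow, hym, mul_one]
    have hxp : x ^ (p ^ (k + au)) = 1 := by
      rw [pow_add, pow_mul, ← hkG, pow_orderOf_eq_one, one_pow]
    have hg1 : (h : G) ^ (m' * p ^ (k + au)) = 1 := by
      rw [pow_mul, hhm, ← pow_mul, mul_comm, pow_mul, hxp, one_pow]
    have hu1 : u ^ (m' * p ^ (k + au)) = 1 := by
      rw [← orderOf_dvd_iff_pow_eq_one, hou, hm', mul_comm (orderOf y * mu)]
      exact Nat.mul_dvd_mul (pow_dvd_pow p (Nat.le_add_left au k)) (Dvd.intro_left _ rfl)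
    apply sum_conj_eq_zero_of_fixed hM (secIdem H b B) (conv_secIdem_self H b B) hιloc (h : G) u
      (fun z => secIdem_conj H b B h h.2 z) m' (k + au) hg1 hu1
    intro w w' hw hw'
    apply hcent
    apply hmemCP
    have e1 : u ^ m' = w'⁻¹ * (h : G) ^ m' * w' := by
      rw [mul_assoc, hw']
      group
    have e2 : Commute ((h : G) ^ m') (w * w'⁻¹) := by
      show (h : G) ^ m' * (w * w'⁻¹) = w * w'⁻¹ * (h : G) ^ m'
      rw [← mul_assoc, hw, e1]
      group
    rw [hhm] at e2
    have hcop : Nat.Coprime m' (orderOf x) := by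
      rw [hkG]
      exact Nat.Coprime.pow_right k ((Nat.Prime.coprime_iff_not_dvd hp).mpr hpm').symm
    obtain ⟨j, hj⟩ := exists_pow_eq_self_of_coprime hcop
    have := e2.pow_left j
    rw [hj] at this
    exact this
  have h1 := sum_mul_apply_eq_zero_of_conj (secIdem H b B) (h : G) hvan χ
  rw [sum_secIdem_mul_apply H b B χ hχ (h : G)] at h1
  exact h1

end Cfsg.Agent.Lib.helper3.Block
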