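import Mathlib
import Cfsg.Prelude.Def_Blocks
import Cfsg.Agent.Lib.helper3.SecMain9

/-!
# Brauer's second main theorem in terms of ordinary characters
-/

set_option autoImplicit false
set_option linter.style.haveILetI false
set_option linter.unusedSectionVars false
set_option maxHeartbeats 1000000

namespace Cfsg.Agent.Lib.helper3.Block

open Cfsg Module Cfsg.Agent.Lib.helper3.CharBasic Cfsg.Agent.Lib.helper3.Irr
open Cfsg.Agent.Lib.helper3.Central Cfsg.Agent.Lib.helper3.LocalM Cfsg.Agent.Lib.helper3.IndFun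
open scoped ComplexConjugate

variable {G : Type*} [Group G] [Fintype G] {M : Ideal AlgInt}

/-- Second main theorem, idempotent form, with an explicit decomposition `h = x y`. -/
theorem second_main_idem_of_decomp {p : ℕ} [hpf : Fact p.Prime] (hM : IsPModular p M)
    (H : Subgroup G) [Fintype H] (b : Set (IrrCharacter H)) (B : Set (IrrCharacter G))
    (hind : IsInducedBlock M H b B) (h x y : G) (hh : h ∈ H) (hxyG : x * y = h)
    (hcommG : Commute x y) (k : ℕ) (hkG : orderOf x = p ^ k) (hregG : ¬ p ∣ orderOf y)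
    (hCx : Subgroup.centralizer ({x} : Set G) ≤ H)
    (χ : IrrCharacter G) (hχ : χ ∉ B) :
    ∑ k : H, blockCoeff b k * (χ : G → ℂ) ((k : G) * h) = 0 := by
  classical
  have hp : p.Prime := hpf.out
  haveI hMp := isPrime_of_isPModular hM
  obtain ⟨hb, hB, -⟩ := id hind
  have hxH : x ∈ H := hCx (Subgroup.mem_centralizer_singleton_iff.mpr rfl)
  obtain ⟨P, hPdef⟩ : ∃ P : Subgroup G, P = Subgroup.zpowers x := ⟨_, rfl⟩
  have hP : IsPGroup p P := by
    rw [hPdef]
    exact IsPGroup.of_card (n := k) (by rw [Nat.card_zpowers, hkG])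
  have hPH : P ≤ H := by
    rw [hPdef, Subgroup.zpowers_le]
    exact hxH
  have hxP : x ∈ P := by
    rw [hPdef]
    exact Subgroup.mem_zpowers x
  have hCP : Subgroup.centralizer (P : Set G) ≤ H := by
    intro c hc
    apply hCx
    rw [Subgroup.mem_centralizer_singleton_iff]
    exact (Subgroup.mem_centralizer_iff.mp hc x hxP).symm
  have hmemCP : ∀ c : G, Commute x c → c ∈ Subgroup.centralizer (P : Set G) := by
    intro c hc
    rw [Subgroup.mem_centralizer_iff]
    intro u hu
    rw [hPdef] at hu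
    obtain ⟨i, rfl⟩ := Subgroup.mem_zpowers_iff.mp hu
    exact (hc.zpow_left i).eq
  letI : Fintype (Subgroup.centralizer (P : Set G)) := Fintype.ofFinite _
  have hιloc := memLocalRing_secIdem hM H b hb B hB
  have hcent : ∀ c ∈ Subgroup.centralizer (P : Set G), MemLocalIdeal M (secIdem H b B c) := by
    intro c hc
    exact memLocalIdeal_of_fourier hM P H hP hPH hCP (secIdem H b B) (conv_secIdem_self H b B)
      hιloc (secIdem_conj H b B) (memLocalIdeal_sum_secIdem_mul hM H b B hind) c hc
  have hvan : ∀ u : G, ∑ w : G, secIdem H b B (w * u * w⁻¹ * h⁻¹) = 0 := by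
    intro u
    obtain ⟨au, mu, hmu, hou⟩ :=
      Nat.exists_eq_pow_mul_and_not_dvd (orderOf_pos u).ne' p hp.ne_one
    obtain ⟨m', hm'⟩ : ∃ m' : ℕ, m' = orderOf y * mu := ⟨_, rfl⟩
    have hpm' : ¬ p ∣ m' := by
      rw [hm']
      intro hd
      rcases (Nat.Prime.dvd_mul hp).mp hd with h1 | h1
      · exact hregG h1
      · exact hmu h1
    have hym : y ^ m' = 1 := by rw [hm', pow_mul, pow_orderOf_eq_one, one_pow]
    have hhm : h ^ m' = x ^ m' := by rw [← hxyG, hcommG.mul_pow, hym, mul_one]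
    have hxp : x ^ (p ^ (k + au)) = 1 := by
      rw [pow_add, pow_mul, ← hkG, pow_orderOf_eq_one, one_pow]
    have hg1 : h ^ (m' * p ^ (k + au)) = 1 := by
      rw [pow_mul, hhm, ← pow_mul, mul_comm, pow_mul, hxp, one_pow]
    have hu1 : u ^ (m' * p ^ (k + au)) = 1 := by
      rw [← orderOf_dvd_iff_pow_eq_one, hou, hm', mul_comm (orderOf y * mu)]
      exact Nat.mul_dvd_mul (pow_dvd_pow p (Nat.le_add_left au k)) (Dvd.intro_left _ rfl)
    apply sum_conj_eq_zero_of_fixed hM (secIdem H b B) (conv_secIdem_self H b B) hιloc h u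
      (fun z => secIdem_conj H b B h hh z) m' (k + au) hg1 hu1
    intro w w' hw hw'
    apply hcent
    apply hmemCP
    have e1 : u ^ m' = w'⁻¹ * h ^ m' * w' := by
      rw [mul_assoc, hw']
      group
    have e2 : Commute (h ^ m') (w * w'⁻¹) := by
      show h ^ m' * (w * w'⁻¹) = w * w'⁻¹ * h ^ m'
      rw [← mul_assoc, hw, e1]
      group
    rw [hhm] at e2
    have hcop : Nat.Coprime m' (orderOf x) := by
      rw [hkG]
      exact Nat.Coprime.pow_right k ((Nat.Prime.coprime_iff_not_dvd hp).mpr hpm').symm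
    obtain ⟨j, hj⟩ := exists_pow_eq_self_of_coprime hcop
    have := e2.pow_left j
    rw [hj] at this
    exact this
  have h1 := sum_mul_apply_eq_zero_of_conj (secIdem H b B) h hvan χ
  rw [sum_secIdem_mul_apply H b B χ hχ h] at h1
  exact h1

open Classical in
/-- The value of an irreducible character on `e_B z`. -/
theorem sum_blockCoeff_mul_apply (B : Set (IrrCharacter G)) (χ : IrrCharacter G) (z : G) :
    ∑ g : G, blockCoeff B g * (χ : G → ℂ) (g * z)
      = (if χ ∈ B then (1 : ℂ) else 0) * (χ : G → ℂ) z := by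
  rw [sum_classFun_mul_apply χ (blockCoeff B) (fun g x => blockCoeff_conj' B g x) z]
  congr 1
  have := sum_coef_mul_div (fun χ : IrrCharacter G => if χ ∈ B then (1 : ℂ) else 0) χ
  rw [← this]
  apply Finset.sum_congr rfl
  intro x _
  rw [blockCoeff_eq_coef]
  ring

open Classical in
/-- The value of a class function on `e_B y` is the value of its `B`-part at `y`. -/
theorem sum_blockCoeff_mul_classFun (B : Set (IrrCharacter G)) (ϑ : G → ℂ)
    (hϑ : IsClassFunction G ϑ) (y : G) :
    ∑ k : G, blockCoeff B k * ϑ (k * y)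
      = ∑ ψ : IrrCharacter G, (if ψ ∈ B then (1 : ℂ) else 0)
          * (classInner ϑ (ψ : G → ℂ) * (ψ : G → ℂ) y) := by
  have h1 := classFunction_eq_sum ϑ hϑ
  have h2 : ∀ k : G, ϑ (k * y)
      = ∑ ψ : IrrCharacter G, classInner ϑ (ψ : G → ℂ) * (ψ : G → ℂ) (k * y) := by
    intro k
    conv_lhs => rw [h1]
    simp only [Finset.sum_apply, Pi.smul_apply, smul_eq_mul]
  simp_rw [h2, Finset.mul_sum]
  rw [Finset.sum_comm]
  apply Finset.sum_congr rfl
  intro ψ _
  have h3 : ∀ k : G, blockCoeff B k * (classInner ϑ (ψ : G → ℂ) * (ψ : G → ℂ) (k * y))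
      = classInner ϑ (ψ : G → ℂ) * (blockCoeff B k * (ψ : G → ℂ) (k * y)) := by
    intro k
    ring
  rw [Finset.sum_congr rfl (fun k _ => h3 k), ← Finset.mul_sum, sum_blockCoeff_mul_apply]
  ring

end Cfsg.Agent.Lib.helper3.Block
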