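import Mathlib
import Cfsg.Prelude.Def_Blocks
import Cfsg.Agent.Lib.helper3.SecMain10

/-!
# Brauer's second main theorem in terms of ordinary characters (continued)
-/

set_option autoImplicit false
set_option linter.style.haveILetI false
set_option linter.unusedSectionVars false
set_option maxHeartbeats 1000000

namespace Cfsg.Agent.Lib.helper3.Block

open Cfsg Module Cfsg.Agent.Lib.helper3.CharBasic Cfsg.Agent.Lib.helper3.Irr
open Cfsg.Agent.Lib.helper3.Central Cfsg.Agent.Lib.helper3.LocalM Cfsg.Agent.Lib.helper3.IndFun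
open scoped ComplexConjugate

variable {G : Type*} [Group G] [Fintype G] {M : Ideal AlgInt}

/-- Two blocks with a common member are equal. -/
theorem isPBlock_eq_of_mem [hMp : M.IsPrime] {B B' : Set (IrrCharacter G)} (hB : IsPBlock M B)
    (hB' : IsPBlock M B') (χ : IrrCharacter G) (h : χ ∈ B) (h' : χ ∈ B') : B = B' := by
  obtain ⟨χ₁, rfl⟩ := hB
  obtain ⟨χ₂, rfl⟩ := hB'
  have h1 : SameBlock M (χ₁ : G → ℂ) (χ : G → ℂ) := h
  have h2 : SameBlock M (χ₂ : G → ℂ) (χ : G → ℂ) := h'
  ext ψ
  constructor
  · intro hψ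
    exact sameBlock_trans h2 (sameBlock_trans (sameBlock_symm h1) hψ)
  · intro hψ
    exact sameBlock_trans h1 (sameBlock_trans (sameBlock_symm h2) hψ)

theorem centralizer_zpowers_eq (x : G) :
    Subgroup.centralizer ((Subgroup.zpowers x : Subgroup G) : Set G)
      = Subgroup.centralizer ({x} : Set G) := by
  ext c
  rw [Subgroup.mem_centralizer_iff, Subgroup.mem_centralizer_singleton_iff]
  constructor
  · intro h
    exact (h x (Subgroup.mem_zpowers x)).symm
  · intro h u hu
    obtain ⟨i, rfl⟩ := Subgroup.mem_zpowers_iff.mp hu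
    have hc : Commute x c := h.symm
    exact (hc.zpow_left i).eq

/-- The induced block of a block of the centralizer of a `p`-element is defined. -/
theorem inducedBlockDefined_centralizer {p : ℕ} (hM : IsPModular p M) (x : G) (k : ℕ)
    (hx : orderOf x = p ^ k)
    (b : Set (IrrCharacter (Subgroup.centralizer ({x} : Set G)))) (hb : IsPBlock M b) :
    InducedBlockDefined M (Subgroup.centralizer ({x} : Set G)) b := by
  have hP : IsPGroup p (Subgroup.zpowers x) :=
    IsPGroup.of_card (n := k) (by rw [Nat.card_zpowers, hx])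
  have hxC : x ∈ Subgroup.centralizer ({x} : Set G) :=
    Subgroup.mem_centralizer_singleton_iff.mpr rfl
  apply inducedBlockDefined_of_centralizer_le hM (Subgroup.zpowers x) _ hP
  · rw [Subgroup.zpowers_le]
    exact hxC
  · rw [centralizer_zpowers_eq]
  · rw [← centralizer_zpowers_eq]
    exact Subgroup.centralizer_le_normalizer _
  · exact hb

open Classical in
/-- Brauer's second main theorem: the `b`-part of `c ↦ χ (x c)` vanishes on the `p`-regular
elements of `C_G(x)` when `b` does not induce the block of `χ`. -/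
theorem second_main_char {p : ℕ} [hpf : Fact p.Prime] (hM : IsPModular p M) (x : G) (k : ℕ)
    (hx : orderOf x = p ^ k) (B : Set (IrrCharacter G)) (hB : IsPBlock M B)
    (χ : IrrCharacter G) (hχ : χ ∈ B)
    [Fintype (Subgroup.centralizer ({x} : Set G))]
    (b : Set (IrrCharacter (Subgroup.centralizer ({x} : Set G)))) (hb : IsPBlock M b)
    (hnot : ¬ IsInducedBlock M (Subgroup.centralizer ({x} : Set G)) b B)
    (y : Subgroup.centralizer ({x} : Set G)) (hy : ¬ p ∣ orderOf y) :
    ∑ ψ : IrrCharacter (Subgroup.centralizer ({x} : Set G)), (if ψ ∈ b then (1 : ℂ) else 0)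
      * (classInner (fun c : Subgroup.centralizer ({x} : Set G) => (χ : G → ℂ) (x * (c : G)))
          (ψ : Subgroup.centralizer ({x} : Set G) → ℂ)
        * (ψ : Subgroup.centralizer ({x} : Set G) → ℂ) y) = 0 := by
  haveI hMp := isPrime_of_isPModular hM
  have hχcf := isClassFunction_of_isCharacter (isCharacter_of_isIrrCharacter χ.2)
  obtain ⟨B', hB'ind⟩ := inducedBlockDefined_centralizer hM x k hx b hb
  have hχ' : χ ∉ B' := by
    intro h'
    apply hnot
    rw [isPBlock_eq_of_mem hB hB'ind.2.1 χ hχ h']
    exact hB'ind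
  have hcomm : ∀ c : Subgroup.centralizer ({x} : Set G), x * (c : G) = (c : G) * x :=
    fun c => (Subgroup.mem_centralizer_singleton_iff.mp c.2).symm
  have hxyC : x * (y : G) ∈ Subgroup.centralizer ({x} : Set G) :=
    Subgroup.mul_mem _ (Subgroup.mem_centralizer_singleton_iff.mpr rfl) y.2
  have h1 := second_main_idem_of_decomp hM (Subgroup.centralizer ({x} : Set G)) b B' hB'ind
    (x * (y : G)) x (y : G) hxyC rfl (hcomm y) k hx
    (by rw [Subgroup.orderOf_coe]; exact hy) le_rfl χ hχ'
  have hϑcf : IsClassFunction (Subgroup.centralizer ({x} : Set G))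
      (fun c : Subgroup.centralizer ({x} : Set G) => (χ : G → ℂ) (x * (c : G))) := by
    intro c t
    show (χ : G → ℂ) (x * ((t * c * t⁻¹ : Subgroup.centralizer ({x} : Set G)) : G))
      = (χ : G → ℂ) (x * (c : G))
    have e1 : x * ((t * c * t⁻¹ : Subgroup.centralizer ({x} : Set G)) : G)
        = (t : G) * (x * (c : G)) * (t : G)⁻¹ := by
      push_cast
      rw [← mul_assoc, ← mul_assoc, hcomm t]
      group
    rw [e1, hχcf]
  rw [← sum_blockCoeff_mul_classFun b _ hϑcf y, ← h1]
  apply Finset.sum_congr rfl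
  intro c _
  congr 1
  show (χ : G → ℂ) (x * ((c * y : Subgroup.centralizer ({x} : Set G)) : G)) = _
  push_cast
  rw [← mul_assoc, hcomm c, mul_assoc]

end Cfsg.Agent.Lib.helper3.Block
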