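import Mathlib
import Cfsg.Prelude.Def_Blocks
import Cfsg.Agent.Lib.helper3.PrincIdem2
import Cfsg.Agent.Lib.helper3.IndBlockLocal
import Cfsg.Agent.Lib.helper3.SecMain11

/-!
# Brauer's third main theorem

The sum `T` of the `p`-regular elements acts as zero on every irreducible character outside the
principal block, and as a unit modulo `M` on the principal block.  Since the restriction of `T` to
a subgroup `H` is the corresponding element of `H`, an induced block `b^G` is principal if and
only if `b` is.
-/

set_option autoImplicit false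
set_option linter.style.haveILetI false
set_option linter.unusedSectionVars false

namespace Cfsg.Agent.Lib.helper3.Block

open Cfsg Module Cfsg.Agent.Lib.helper3.CharBasic Cfsg.Agent.Lib.helper3.Irr
open Cfsg.Agent.Lib.helper3.Central Cfsg.Agent.Lib.helper3.LocalM Cfsg.Agent.Lib.helper3.IndFun
open Cfsg.Agent.Lib.helper3.Lin Cfsg.Agent.Lib.helper3.HallNilp
open scoped ComplexConjugate

universe u

variable {G : Type u} [Group G] [Fintype G] {M : Ideal AlgInt}

open Classical in
/-- The value of the central character of `χ` on the sum of the `p`-regular elements. -/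
noncomputable def regOmega (p : ℕ) (χ : G → ℂ) : ℂ :=
  ∑ g : G, (if p ∣ orderOf g then (0 : ℂ) else 1) * (χ g / χ 1)

open Classical in
/-- The number of `p`-regular elements, as a complex number. -/
noncomputable def regCount (p : ℕ) (G : Type u) [Group G] [Fintype G] : ℂ :=
  ∑ g : G, (if p ∣ orderOf g then (0 : ℂ) else 1)

open Classical in
/-- Outside the principal block, `regOmega` vanishes. -/
theorem regOmega_eq_zero {p : ℕ} (hM : IsPModular p M) (χ : IrrCharacter G)
    (hχ : χ ∉ principalBlock M G) : regOmega p (χ : G → ℂ) = 0 := by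
  have hnot : ¬ SameBlock M (χ : G → ℂ)
      ((Cfsg.Agent.Lib.helper3.PrincOnly.one G : IrrCharacter G) : G → ℂ) := by
    intro hsame
    apply hχ
    exact sameBlock_symm hsame
  have h := regular_orthogonality hM χ (Cfsg.Agent.Lib.helper3.PrincOnly.one G) hnot
  unfold regOmega
  have e : ∑ g : G, (if p ∣ orderOf g then (0 : ℂ) else 1) * ((χ : G → ℂ) g / (χ : G → ℂ) 1)
      = (∑ y : G, (if p ∣ orderOf y then (0 : ℂ) else 1) * ((χ : G → ℂ) y *
        conj (((Cfsg.Agent.Lib.helper3.PrincOnly.one G : IrrCharacter G) : G → ℂ) y)))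
          / (χ : G → ℂ) 1 := by
    rw [Finset.sum_div]
    apply Finset.sum_congr rfl
    intro y _
    have : ((Cfsg.Agent.Lib.helper3.PrincOnly.one G : IrrCharacter G) : G → ℂ) y = 1 := rfl
    rw [this, map_one, mul_one, mul_div_assoc]
  rw [e, h, zero_div]

open Classical in
/-- On the principal block, `regOmega` is congruent to the number of `p`-regular elements. -/
theorem memLocalIdeal_regOmega_sub {p : ℕ} (hM : IsPModular p M) (χ : IrrCharacter G)
    (hχ : χ ∈ principalBlock M G) :
    MemLocalIdeal M (regOmega p (χ : G → ℂ) - regCount p G) := by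
  haveI hMp := isPrime_of_isPModular hM
  have hMtop : M ≠ ⊤ := hM.2.1.ne_top
  have hsame : ∀ y : G, MemLocalIdeal M
      (centralChar (fun _ : G => (1 : ℂ)) y - centralChar (χ : G → ℂ) y) := hχ
  have e : regOmega p (χ : G → ℂ) - regCount p G
      = ∑ y : G, (if p ∣ orderOf y then (0 : ℂ) else 1)
        * ((χ : G → ℂ) y / (χ : G → ℂ) 1 - 1) := by
    unfold regOmega regCount
    rw [← Finset.sum_sub_distrib]
    apply Finset.sum_congr rfl
    intro y _
    ring
  rw [e]
  apply memLocalIdeal_sum_class_fun
  · intro y h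
    rw [orderOf_conj', isClassFunction_of_isCharacter (isCharacter_of_isIrrCharacter χ.2) y h]
  · intro y
    have h4 := memLocalIdeal_neg (hsame y)
    have e2 : ((Subgroup.centralizer ({y} : Set G)).index : ℂ)
        * ((if p ∣ orderOf y then (0 : ℂ) else 1) * ((χ : G → ℂ) y / (χ : G → ℂ) 1 - 1))
        = (if p ∣ orderOf y then (0 : ℂ) else 1)
          * -(centralChar (fun _ : G => (1 : ℂ)) y - centralChar (χ : G → ℂ) y) := by
      unfold centralChar
      ring
    rw [e2]
    split_ifs
    · rw [zero_mul]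
      exact memLocalIdeal_zero hMtop
    · rw [one_mul]
      exact h4

open Classical in
/-- The number of `p`-regular elements is prime to `p`. -/
theorem exists_regCount_eq {p : ℕ} [hp : Fact p.Prime] (hM : IsPModular p M) :
    ∃ n : ℕ, regCount p G = (n : ℂ) ∧ ¬ p ∣ n := by
  haveI hMp := isPrime_of_isPModular hM
  have hMtop : M ≠ ⊤ := hM.2.1.ne_top
  have hR : (Nat.card {y : G // ¬ p ∣ orderOf y} : ℂ) = regCount p G := by
    unfold regCount
    rw [Nat.card_eq_fintype_card, Fintype.card_subtype, ← Finset.sum_boole]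
    apply Finset.sum_congr rfl
    intro y _
    rw [ite_not]
  refine ⟨Nat.card {y : G // ¬ p ∣ orderOf y}, hR.symm, ?_⟩
  intro hdvd
  have h1 := principal_idem_congr hM (1 : G) (by rw [orderOf_one]; exact hp.out.not_dvd_one)
  have hR' : ∑ y : G, (if p ∣ orderOf y then (0 : ℂ) else 1)
      = (Nat.card {y : G // ¬ p ∣ orderOf y} : ℂ) := hR.symm
  rw [hR'] at h1
  have hN1 : ∑ x : G, (if ∃ k : ℕ, orderOf x = p ^ k then (1 : ℂ) else 0)
      * (if p ∣ orderOf (x⁻¹ * 1) then (0 : ℂ) else 1) = 1 := by
    rw [Finset.sum_eq_single (1 : G)]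
    · rw [if_pos ⟨0, by rw [orderOf_one, pow_zero]⟩, if_neg, one_mul]
      rw [inv_one, one_mul, orderOf_one]
      exact hp.out.not_dvd_one
    · intro x _ hx1
      by_cases hx : ∃ k : ℕ, orderOf x = p ^ k
      · obtain ⟨k, hk⟩ := hx
        have hk0 : k ≠ 0 := by
          rintro rfl
          rw [pow_zero, orderOf_eq_one_iff] at hk
          exact hx1 hk
        have hpx : p ∣ orderOf (x⁻¹ * 1) := by
          rw [mul_one, orderOf_inv, hk]
          exact dvd_pow_self p hk0
        rw [if_pos hpx, mul_zero]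
      · rw [if_neg hx, zero_mul]
    · intro h
      exact absurd (Finset.mem_univ _) h
  rw [hN1] at h1
  have hRM : MemLocalIdeal M ((Nat.card {y : G // ¬ p ∣ orderOf y} : ℂ)) := by
    have : ((Nat.card {y : G // ¬ p ∣ orderOf y} : ℕ) : AlgInt) ∈ M := by
      rw [natCast_mem_iff hM]
      exact hdvd
    have h := memLocalIdeal_of_mem this hMtop
    simpa using h
  have h2 := memLocalIdeal_mul_localRing
    (osima hM (principalBlock M G) ⟨Cfsg.Agent.Lib.helper3.PrincOnly.one G, rfl⟩ (1 : G)) hRM
  rw [mul_comm] at h2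
  have h3 := memLocalIdeal_add h1 h2
  rw [sub_add_cancel] at h3
  exact not_memLocalIdeal_one h3

/-- On the principal block, `regOmega` is a unit of the local ring. -/
theorem not_memLocalIdeal_regOmega {p : ℕ} [hp : Fact p.Prime] (hM : IsPModular p M)
    (χ : IrrCharacter G) (hχ : χ ∈ principalBlock M G) :
    ¬ MemLocalIdeal M (regOmega p (χ : G → ℂ)) := by
  haveI hMp := isPrime_of_isPModular hM
  intro h
  obtain ⟨n, hn, hpn⟩ := exists_regCount_eq (G := G) hM
  have h1 := memLocalIdeal_regOmega_sub hM χ hχ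
  have h2 := memLocalIdeal_sub h h1
  rw [sub_sub_cancel, hn] at h2
  have h3 : (((n : ℕ) : AlgInt) : ℂ) = (n : ℂ) := by simp
  rw [← h3] at h2
  have h4 := mem_of_memLocalIdeal h2
  rw [natCast_mem_iff hM] at h4
  exact hpn h4

/-- A character outside the local ideal under `regOmega` lies in the principal block. -/
theorem mem_principalBlock_of_regOmega {p : ℕ} (hM : IsPModular p M) (χ : IrrCharacter G)
    (h : ¬ MemLocalIdeal M (regOmega p (χ : G → ℂ))) : χ ∈ principalBlock M G := by
  by_contra hχ
  apply h
  rw [regOmega_eq_zero hM χ hχ]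
  exact memLocalIdeal_zero hM.2.1.ne_top

open Classical in
/-- `regOmega` is compatible with block induction. -/
theorem memLocalIdeal_regOmega_sub_of_induced {p : ℕ} (hM : IsPModular p M) (H : Subgroup G)
    [Fintype H] (b : Set (IrrCharacter H)) (B : Set (IrrCharacter G))
    (hind : IsInducedBlock M H b B) (ξ : IrrCharacter H) (hξ : ξ ∈ b) (χ : IrrCharacter G)
    (hχ : χ ∈ B) :
    MemLocalIdeal M (regOmega p (ξ : H → ℂ) - regOmega p (χ : G → ℂ)) := by
  haveI hMp := isPrime_of_isPModular hM
  have h := memLocalIdeal_sum_sub_of_induced H b B hind ξ hξ χ hχ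
    (fun g : G => if p ∣ orderOf g then (0 : ℂ) else 1)
    (fun g => by
      split_ifs
      · exact memLocalRing_of_integral isIntegral_zero
      · exact memLocalRing_of_integral isIntegral_one)
    (fun g x => by simp only [orderOf_conj'])
  unfold regOmega
  convert h using 3
  rw [Subgroup.orderOf_coe]

open Classical in
/-- **Brauer's third main theorem.** -/
theorem third_main {p : ℕ} [hp : Fact p.Prime] (hM : IsPModular p M) (H : Subgroup G)
    [Fintype H] (b : Set (IrrCharacter H)) (B : Set (IrrCharacter G))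
    (hind : IsInducedBlock M H b B) : B = principalBlock M G ↔ b = principalBlock M H := by
  haveI hMp := isPrime_of_isPModular hM
  have hMtop : M ≠ ⊤ := hM.2.1.ne_top
  obtain ⟨ξ, hξ⟩ : ∃ ξ, ξ ∈ b := by
    obtain ⟨χ, hχ⟩ := hind.1
    exact ⟨χ, by rw [hχ]; exact sameBlock_refl hMtop _⟩
  obtain ⟨χ, hχ⟩ : ∃ χ, χ ∈ B := by
    obtain ⟨χ, hχ⟩ := hind.2.1
    exact ⟨χ, by rw [hχ]; exact sameBlock_refl hMtop _⟩
  have hcong := memLocalIdeal_regOmega_sub_of_induced hM H b B hind ξ hξ χ hχ
  have hBG : IsPBlock M (principalBlock M G) := ⟨Cfsg.Agent.Lib.helper3.PrincOnly.one G, rfl⟩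
  have hBH : IsPBlock M (principalBlock M H) := ⟨Cfsg.Agent.Lib.helper3.PrincOnly.one H, rfl⟩
  constructor
  · intro hB
    rw [hB] at hχ
    have h1 := not_memLocalIdeal_regOmega hM χ hχ
    have h2 : ¬ MemLocalIdeal M (regOmega p (ξ : H → ℂ)) := by
      intro h
      apply h1
      have := memLocalIdeal_sub h hcong
      rwa [sub_sub_cancel] at this
    have h3 := mem_principalBlock_of_regOmega hM ξ h2
    exact isPBlock_eq_of_mem hind.1 hBH ξ hξ h3
  · intro hb
    rw [hb] at hξ
    have h1 := not_memLocalIdeal_regOmega hM ξ hξ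
    have h2 : ¬ MemLocalIdeal M (regOmega p (χ : G → ℂ)) := by
      intro h
      apply h1
      have := memLocalIdeal_add hcong h
      rwa [sub_add_cancel] at this
    have h3 := mem_principalBlock_of_regOmega hM χ h2
    exact isPBlock_eq_of_mem hind.2.1 hBG χ hχ h3

end Cfsg.Agent.Lib.helper3.Block
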