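import Mathlib
import Cfsg.Prelude.Def_Blocks
import Cfsg.Agent.Lib.helper3.PrincIdem3
import Cfsg.Agent.Lib.helper3.BlockCover2
import Cfsg.Agent.Lib.helper3.GalPow2
import Cfsg.Agent.Lib.helper3.Irr6
import Cfsg.Agent.Lib.helper3.Irr10
import Cfsg.Agent.Lib.helper3.HallNilp
import Cfsg.Agent.Lib.helper3.PrincOnly

set_option autoImplicit false
set_option linter.style.haveILetI false
set_option linter.unusedSectionVars false

/-!
# The principal block and a normal subgroup
-/

namespace Cfsg.Agent.Lib.helper3.Block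

open Cfsg Module Cfsg.Agent.Lib.helper3.CharBasic Cfsg.Agent.Lib.helper3.Irr
open Cfsg.Agent.Lib.helper3.Central Cfsg.Agent.Lib.helper3.LocalM Cfsg.Agent.Lib.helper3.IndFun
open Cfsg.Agent.Lib.helper3.GalPow Cfsg.Agent.Lib.helper3.HallNilp
open scoped ComplexConjugate

universe u

variable {G : Type u} [Group G] [Fintype G] {M : Ideal AlgInt}

/-- The constituents on a normal subgroup of a character in the principal block lie in the
principal block. -/
theorem constituent_mem_principalBlock {p : ℕ} (hM : IsPModular p M) (H : Subgroup G)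
    [hH : H.Normal] [Fintype H] (χ : IrrCharacter G) (hχ : χ ∈ principalBlock M G)
    (θ : IrrCharacter H)
    (hθ : classInner (fun n : H => (χ : G → ℂ) n) (θ : H → ℂ) ≠ 0) :
    θ ∈ principalBlock M H := by
  classical
  haveI := isPrime_of_isPModular hM
  have hMtop : M ≠ ⊤ := hM.2.1.ne_top
  have hb : IsPBlock M (principalBlock M H) := ⟨Cfsg.Agent.Lib.helper3.PrincOnly.one H, rfl⟩
  have h1 : ∀ n : H, MemLocalIdeal M
      (centralChar ((Cfsg.Agent.Lib.helper3.PrincOnly.one G : IrrCharacter G) : G → ℂ) (n : G)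
        - centralChar (χ : G → ℂ) (n : G)) := fun n => hχ (n : G)
  have h2 : ∃ θ₀ ∈ principalBlock M H, classInner
      (fun n : H => ((Cfsg.Agent.Lib.helper3.PrincOnly.one G : IrrCharacter G) : G → ℂ) n)
      (θ₀ : H → ℂ) ≠ 0 := by
    refine ⟨Cfsg.Agent.Lib.helper3.PrincOnly.one H, sameBlock_refl hMtop _, ?_⟩
    have : (fun n : H => ((Cfsg.Agent.Lib.helper3.PrincOnly.one G : IrrCharacter G) : G → ℂ) n)
        = ((Cfsg.Agent.Lib.helper3.PrincOnly.one H : IrrCharacter H) : H → ℂ) := rfl
    rw [this, irr_classInner_self (Cfsg.Agent.Lib.helper3.PrincOnly.one H).2]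
    exact one_ne_zero
  obtain ⟨θ₀, hθ₀, hθ₀'⟩ := over_of_congr H hM _ hb (Cfsg.Agent.Lib.helper3.PrincOnly.one G) χ h1 h2
  obtain ⟨g, hg⟩ := exists_conj_of_constituents H (χ : G → ℂ) χ.2 θ₀ θ hθ₀' hθ
  have h3 := sameBlock_conjFun H (M := M)
    (show SameBlock M (fun _ : H => (1 : ℂ)) (θ₀ : H → ℂ) from hθ₀) g
  show SameBlock M (fun _ : H => (1 : ℂ)) (θ : H → ℂ)
  rw [hg]
  exact h3

open Classical in
theorem classInner_regInd {X : Type u} [Group X] [Fintype X] (p : ℕ) (χ : X → ℂ)
    (h1 : χ 1 ≠ 0) :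
    classInner χ (fun g : X => if p ∣ orderOf g then (0 : ℂ) else 1)
      = (Nat.card X : ℂ)⁻¹ * (χ 1 * regOmega p χ) := by
  rw [classInner_apply]
  congr 1
  unfold regOmega
  rw [Finset.mul_sum]
  apply Finset.sum_congr rfl
  intro g _
  split_ifs
  · simp
  · simp only [map_one, mul_one, one_mul]
    field_simp

open Classical in
/-- Every character in the principal block of a subgroup lies under a character in the
principal block of the group. -/
theorem exists_over_mem_principalBlock {p : ℕ} [hp : Fact p.Prime] (hM : IsPModular p M)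
    (H : Subgroup G) [Fintype H] (θ : IrrCharacter H) (hθ : θ ∈ principalBlock M H) :
    ∃ χ ∈ principalBlock M G, classInner (fun n : H => (χ : G → ℂ) n) (θ : H → ℂ) ≠ 0 := by
  haveI := isPrime_of_isPModular hM
  have hMtop : M ≠ ⊤ := hM.2.1.ne_top
  by_contra hcon
  push Not at hcon
  obtain ⟨a, ha⟩ : ∃ a : G → ℂ, a = fun g : G => if p ∣ orderOf g then (0 : ℂ) else 1 := ⟨_, rfl⟩
  have hacf : IsClassFunction G a := by
    intro g h
    rw [ha]
    simp only [orderOf_conj']
  have hfrob := frobenius_reciprocity H (θ : H → ℂ) a hacf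
  have hres : (fun h : H => a h) = fun h : H => if p ∣ orderOf h then (0 : ℂ) else 1 := by
    funext h
    rw [ha]
    simp only [Subgroup.orderOf_coe]
  rw [hres, classInner_regInd p _ (apply_one_ne_zero θ.2)] at hfrob
  have hL : classInner (indFun H (θ : H → ℂ)) a = 0 := by
    rw [classFunction_eq_sum (indFun H (θ : H → ℂ)) (indFun_isClassFunction H _),
      classInner_sum_left]
    apply Finset.sum_eq_zero
    intro χ _
    rw [classInner_smul_left]
    by_cases hχ : χ ∈ principalBlock M G
    · have h1 := hcon χ hχ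
      rw [frobenius_reciprocity H _ _
        (isClassFunction_of_isCharacter (isCharacter_of_isIrrCharacter χ.2)),
        ← classInner_conj_symm, h1, map_zero, zero_mul]
    · rw [ha, classInner_regInd p _ (apply_one_ne_zero χ.2), regOmega_eq_zero hM χ hχ]
      ring
  rw [hL] at hfrob
  have h0 : regOmega p (θ : H → ℂ) = 0 := by
    have h1 : (Nat.card H : ℂ) ≠ 0 := card_ne_zero_complex H
    have h2 := apply_one_ne_zero θ.2
    have h3 := hfrob.symm
    rcases mul_eq_zero.mp h3 with h4 | h4
    · exact absurd (inv_eq_zero.mp h4) h1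
    · rcases mul_eq_zero.mp h4 with h5 | h5
      · exact absurd h5 h2
      · exact h5
  apply not_memLocalIdeal_regOmega hM θ hθ
  rw [h0]
  exact memLocalIdeal_zero hMtop

end Cfsg.Agent.Lib.helper3.Block
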