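import Mathlib
import Cfsg.Prelude.Def_Blocks

/-!
# Alperin–Dade (S4551), Step B: shared definitions

`ExtU M N H hNH` : every `θ` in the principal block of `N` has exactly one extension to `H`
lying in the principal block of `H` (clean form of part (b) of the theorem for the pair `(H, N)`).

`Key M N θ f` : the function `f : X → ℂ` agrees, on every subgroup `H ≥ N` with `H/N` solvable,
with every principal-block extension of `θ` to `H`.
-/

set_option autoImplicit false

namespace Cfsg.Agent.Lib.helper3.ADB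

open Cfsg

universe u

variable {X : Type u} [Group X]

/-- Unique principal-block extension from `N` to `H`. -/
def ExtU (M : Ideal AlgInt) (N H : Subgroup X) (hNH : N ≤ H) : Prop :=
  ∀ θ ∈ principalBlock M ↥N, ∃! ψ : IrrCharacter ↥H,
    ψ ∈ principalBlock M ↥H ∧ ∀ n : N, (ψ : ↥H → ℂ) ⟨n, hNH n.2⟩ = (θ : ↥N → ℂ) n

/-- `f` restricts, on every solvable-over-`N` subgroup, to the principal-block extensions
of `θ`. -/
def Key (M : Ideal AlgInt) (N : Subgroup X) [N.Normal] (θ : IrrCharacter ↥N) (f : X → ℂ) :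
    Prop :=
  ∀ (H : Subgroup X) (hNH : N ≤ H), Group.IsSolvable (↥H ⧸ N.subgroupOf H) →
    ∀ ψ : IrrCharacter ↥H, ψ ∈ principalBlock M ↥H →
      (∀ n : N, (ψ : ↥H → ℂ) ⟨n, hNH n.2⟩ = (θ : ↥N → ℂ) n) →
        ∀ h : H, f h = (ψ : ↥H → ℂ) h

end Cfsg.Agent.Lib.helper3.ADB
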