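import Mathlib
import Cfsg.Prelude.Def_Characters
import Cfsg.Agent.Lib.helper3.Gallagher
import Cfsg.Agent.Lib.helper3.Inflate
import Cfsg.Agent.Lib.helper3.Irr7
import Cfsg.Agent.Lib.helper3.Irr10
import Cfsg.Agent.Lib.helper3.Irr11
import Cfsg.Agent.Lib.helper3.FullyRam
import Cfsg.Agent.Lib.helper3.IndLin
import Cfsg.Agent.Lib.helper3.Lin

set_option autoImplicit false
set_option linter.style.haveILetI false
set_option linter.unusedSectionVars false

/-!
# Invariant characters of a normal subgroup with abelian quotient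
-/

namespace Cfsg.Agent.Lib.helper3.Irr

open Cfsg Module Cfsg.Agent.Lib.helper3.IndFun Cfsg.Agent.Lib.helper3.CharBasic
open Cfsg.Agent.Lib.helper3.Lin
open scoped ComplexConjugate

variable {K : Type*} [Group K]

/-- The function induced from the trivial character of a normal subgroup. -/
theorem indFun_one_normal_apply [Fintype K] (M : Subgroup K) [hM : M.Normal] (g : K)
    [Decidable (g ∈ M)] :
    indFun M (fun _ => (1 : ℂ)) g = if g ∈ M then (M.index : ℂ) else 0 := by
  classical
  split_ifs with hg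
  · rw [indFun_apply]
    have : ∀ x : K, extendByZero M (fun _ => (1 : ℂ)) (x⁻¹ * g * x) = 1 := by
      intro x
      have hmem : x⁻¹ * g * x ∈ M := by
        have := hM.conj_mem g hg x⁻¹
        rwa [inv_inv] at this
      rw [extendByZero_mem M _ hmem]
    simp only [this, Finset.sum_const, Finset.card_univ, nsmul_eq_mul, mul_one]
    rw [← Nat.card_eq_fintype_card, ← Subgroup.index_mul_card M]
    push_cast
    field_simp [card_ne_zero_complex M]
  · exact indFun_normal_apply_of_not_mem M _ hg

theorem quotient_comm_of_commutator_mem (M : Subgroup K) [hM : M.Normal]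
    (hab : ∀ x y : K, x * y * x⁻¹ * y⁻¹ ∈ M) : ∀ a b : K ⧸ M, a * b = b * a := by
  intro a b
  obtain ⟨x, rfl⟩ := QuotientGroup.mk_surjective a
  obtain ⟨y, rfl⟩ := QuotientGroup.mk_surjective b
  rw [← QuotientGroup.mk_mul, ← QuotientGroup.mk_mul, QuotientGroup.eq]
  have := hab y⁻¹ x⁻¹
  convert this using 1
  group

/-- If `K ⧸ M` is abelian then `(1_M)^K` is the sum of the (inflated) irreducible characters
of `K ⧸ M`. -/
theorem indFun_one_eq_sum_inflate [Fintype K] (M : Subgroup K) [hM : M.Normal]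
    (hab : ∀ x y : K, x * y * x⁻¹ * y⁻¹ ∈ M) :
    indFun M (fun _ => (1 : ℂ))
      = ∑ β : IrrCharacter (K ⧸ M), inflate M (β : K ⧸ M → ℂ) := by
  classical
  letI : Fintype (K ⧸ M) := Fintype.ofFinite _
  have hcomm := quotient_comm_of_commutator_mem M hab
  funext g
  rw [indFun_one_normal_apply, Finset.sum_apply]
  have h1 : ∀ β : IrrCharacter (K ⧸ M), inflate M (β : K ⧸ M → ℂ) g
      = (β : K ⧸ M → ℂ) (g : K ⧸ M) * conj ((β : K ⧸ M → ℂ) 1) := by
    intro β
    rw [inflate_apply, apply_one_eq_one_of_comm hcomm β.2, map_one, mul_one]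
  rw [Finset.sum_congr rfl (fun β _ => h1 β), sum_irr_mul_conj]
  split_ifs with hg
  · have hg1 : (g : K ⧸ M) = 1 := (QuotientGroup.eq_one_iff g).mpr hg
    rw [hg1]
    have : Nat.card {y : K ⧸ M // y * 1 * y⁻¹ = 1} = M.index := by
      rw [Subgroup.index_eq_card]
      apply Nat.card_congr
      exact Equiv.subtypeUnivEquiv (fun y => by simp)
    rw [this]
  · have hg1 : (g : K ⧸ M) ≠ 1 := fun h => hg ((QuotientGroup.eq_one_iff g).mp h)
    have : IsEmpty {y : K ⧸ M // y * 1 * y⁻¹ = (g : K ⧸ M)} := by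
      constructor
      rintro ⟨y, hy⟩
      apply hg1
      rw [← hy]
      simp
    rw [Nat.card_of_isEmpty, Nat.cast_zero]

/-- Multiplying an irreducible character by a linear character gives an irreducible
character. -/
theorem isIrrCharacter_linear_mul [Fintype K] {lam ψ : K → ℂ} (hlam : IsCharacter K lam)
    (h1 : lam 1 = 1) (hψ : IsIrrCharacter K ψ) : IsIrrCharacter K (lam * ψ) := by
  apply isIrrCharacter_of_classInner_self_eq_one
    (isCharacter_mul hlam (isCharacter_of_isIrrCharacter hψ))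
  rw [← irr_classInner_self hψ, classInner_apply, classInner_apply]
  congr 1
  apply Finset.sum_congr rfl
  intro g _
  have hn : lam g * conj (lam g) = 1 := by
    have hp : lam g ^ orderOf g = 1 := pow_eq_one_of_linear hlam h1 g _ (pow_orderOf_eq_one g)
    have hnorm : ‖lam g‖ = 1 :=
      Complex.norm_eq_one_of_pow_eq_one hp (orderOf_pos g).ne'
    rw [Complex.mul_conj, Complex.normSq_eq_norm_sq, hnorm]
    simp
  rw [Pi.mul_apply, map_mul]
  calc lam g * ψ g * (conj (lam g) * conj (ψ g))
      = (lam g * conj (lam g)) * (ψ g * conj (ψ g)) := by ring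
    _ = ψ g * conj (ψ g) := by rw [hn, one_mul]

/-- If `θ` is an invariant irreducible character of the normal subgroup `M` and `K ⧸ M` is
abelian, all irreducible constituents of `θ^K` occur with the same multiplicity. -/
theorem mult_const_of_abelian_quotient [Fintype K] (M : Subgroup K) [hM : M.Normal] [Fintype M]
    (θ : M → ℂ) (hθ : IsIrrCharacter M θ)
    (hinv : ∀ (g : K) (n : M), θ ⟨g * n * g⁻¹, hM.conj_mem (n : K) n.2 g⟩ = θ n)
    (hab : ∀ x y : K, x * y * x⁻¹ * y⁻¹ ∈ M) (ψ ψ' : K → ℂ) (hψ : IsIrrCharacter K ψ)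
    (hψ' : IsIrrCharacter K ψ') (h : classInner (indFun M θ) ψ ≠ 0)
    (h' : classInner (indFun M θ) ψ' ≠ 0) :
    classInner (indFun M θ) ψ = classInner (indFun M θ) ψ' := by
  classical
  have hcomm := quotient_comm_of_commutator_mem M hab
  have hcf := isClassFunction_of_isCharacter (isCharacter_of_isIrrCharacter hψ)
  have hcf' := isClassFunction_of_isCharacter (isCharacter_of_isIrrCharacter hψ')
  have hfr := frobenius_reciprocity M θ ψ hcf
  have hfr' := frobenius_reciprocity M θ ψ' hcf'
  set c := classInner (fun n : M => ψ n) θ with hc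
  have hc0 : c ≠ 0 := by
    intro h0
    apply h
    rw [hfr, ← classInner_conj_symm, ← hc, h0, map_zero]
  have hres : (fun n : M => ψ n) = c • θ := restrict_eq_smul_of_invariant M ψ hψ θ hθ hc0 hinv
  have h4 : indFun M (fun m : M => ψ m) = c • indFun M θ := by
    rw [hres, indFun_smul]
  have h5 : indFun M (fun m : M => ψ m)
      = ∑ β : IrrCharacter (K ⧸ M), inflate M (β : K ⧸ M → ℂ) * ψ := by
    have e1 : (fun m : M => ψ m) = (fun _ : M => (1 : ℂ)) * fun m : M => ψ m := by
      funext m; simp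
    rw [e1, indFun_mul_restrict M _ ψ hcf, indFun_one_eq_sum_inflate M hab, Finset.sum_mul]
  have h6 : classInner (indFun M (fun m : M => ψ m)) ψ' ≠ 0 := by
    rw [h4, classInner_smul_left]
    exact mul_ne_zero hc0 h'
  rw [h5, classInner_sum_left] at h6
  obtain ⟨β, -, hβ⟩ := Finset.exists_ne_zero_of_sum_ne_zero h6
  have hB : IsCharacter K (inflate M (β : K ⧸ M → ℂ)) :=
    isCharacter_of_isIrrCharacter (isIrrCharacter_inflate M β.2)
  have hB1 : inflate M (β : K ⧸ M → ℂ) 1 = 1 := by
    rw [inflate_apply, QuotientGroup.mk_one]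
    exact apply_one_eq_one_of_comm hcomm β.2
  have hirr : IsIrrCharacter K (inflate M (β : K ⧸ M → ℂ) * ψ) :=
    isIrrCharacter_linear_mul hB hB1 hψ
  have heq : inflate M (β : K ⧸ M → ℂ) * ψ = ψ' := by
    by_contra hne
    exact hβ (irr_classInner_eq_zero hirr hψ' hne)
  rw [hfr, hfr']
  congr 1
  funext m
  rw [← heq, Pi.mul_apply, inflate_apply_of_mem M _ m.2, hB1, one_mul]

/-- Degree of a constituent of `θ^K` for invariant `θ`. -/
theorem apply_one_of_invariant [Fintype K] (M : Subgroup K) [hM : M.Normal] [Fintype M]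
    (θ : M → ℂ) (hθ : IsIrrCharacter M θ)
    (hinv : ∀ (g : K) (n : M), θ ⟨g * n * g⁻¹, hM.conj_mem (n : K) n.2 g⟩ = θ n)
    (ψ : K → ℂ) (hψ : IsIrrCharacter K ψ) (e : ℕ) (he : classInner (indFun M θ) ψ = e)
    (he0 : e ≠ 0) : ψ 1 = e * θ 1 := by
  have hcf := isClassFunction_of_isCharacter (isCharacter_of_isIrrCharacter hψ)
  have hfr := frobenius_reciprocity M θ ψ hcf
  have hc : classInner (fun n : M => ψ n) θ = e := by
    rw [← classInner_conj_symm, ← hfr, he, Complex.conj_natCast]
  have hc0 : classInner (fun n : M => ψ n) θ ≠ 0 := by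
    rw [hc]; exact_mod_cast he0
  have hres := restrict_eq_smul_of_invariant M ψ hψ θ hθ hc0 hinv
  have := congrFun hres 1
  rw [hc] at this
  simpa using this

end Cfsg.Agent.Lib.helper3.Irr
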