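import Mathlib
import Cfsg.Prelude.Def_Characters
import Cfsg.Agent.Lib.helper3.Gallagher
import Cfsg.Agent.Lib.helper3.Inflate
import Cfsg.Agent.Lib.helper3.Irr11

set_option autoImplicit false
set_option linter.style.haveILetI false
set_option linter.unusedSectionVars false

/-!
# Gallagher's theorem for characters of the quotient
-/

namespace Cfsg.Agent.Lib.helper3.Irr

open Cfsg Module Cfsg.Agent.Lib.helper3.IndFun Cfsg.Agent.Lib.helper3.CharBasic
open scoped ComplexConjugate

variable {G : Type*} [Group G]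

/-- Gallagher: if `χ` restricts irreducibly to `N`, the products `β χ` for `β ∈ Irr(G/N)` are
irreducible and pairwise distinct. -/
theorem gallagher_inflate [Fintype G] (N : Subgroup G) [hN : N.Normal] [Fintype N] (χ : G → ℂ)
    (hχ : IsCharacter G χ) (hχ1 : χ 1 ≠ 0) (hχN : IsIrrCharacter N (fun n : N => χ n)) :
    (∀ β : IrrCharacter (G ⧸ N), IsIrrCharacter G (inflate N (β : G ⧸ N → ℂ) * χ)) ∧
    ∀ β γ : IrrCharacter (G ⧸ N),
      inflate N (β : G ⧸ N → ℂ) * χ = inflate N (γ : G ⧸ N → ℂ) * χ → β = γ := by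
  classical
  have hcf := isClassFunction_of_isCharacter hχ
  have hprodeq : ((fun _ : N => (1 : ℂ)) * fun n : N => χ n) = fun n : N => χ n := by
    funext n; simp
  obtain ⟨e, he, -, hrig⟩ := gallagher_aux N (fun _ => 1) (fun n : N => χ n)
    isIrrCharacter_one (fun _ _ => rfl) (fun g n => hcf n g) (by rw [hprodeq]; exact hχN)
    χ hχ hχ1 (fun _ => rfl)
  have hB : ∀ β : IrrCharacter (G ⧸ N), IsIrrCharacter G (inflate N (β : G ⧸ N → ℂ)) :=
    fun β => isIrrCharacter_inflate N β.2
  have heB : ∀ β : IrrCharacter (G ⧸ N), e ⟨inflate N (β : G ⧸ N → ℂ), hB β⟩ ≠ 0 := by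
    intro β h0
    have h1 := he ⟨inflate N (β : G ⧸ N → ℂ), hB β⟩
    rw [h0, Nat.cast_zero, frobenius_reciprocity N _ _
      (isClassFunction_of_isCharacter (isCharacter_of_isIrrCharacter (hB β)))] at h1
    have h2 : (fun h : N => inflate N (β : G ⧸ N → ℂ) (h : G))
        = ((β : G ⧸ N → ℂ) 1) • (fun _ : N => (1 : ℂ)) := by
      funext h
      rw [inflate_apply_of_mem N _ h.2, inflate_apply, Pi.smul_apply, smul_eq_mul, mul_one,
        QuotientGroup.mk_one]
    rw [h2, classInner_smul_right, classInner_one_one, mul_one] at h1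
    have h3 : (β : G ⧸ N → ℂ) 1 = 0 := by
      have := congrArg conj h1
      simpa using this
    exact apply_one_ne_zero β.2 h3
  refine ⟨?_, ?_⟩
  · intro β
    exact isIrrCharacter_of_classInner_self_eq_one
      (isCharacter_mul (isCharacter_of_isIrrCharacter (hB β)) hχ)
      (hrig ⟨inflate N (β : G ⧸ N → ℂ), hB β⟩ (heB β)).1
  · intro β γ heq
    by_contra hne
    have hne2 : (⟨inflate N (γ : G ⧸ N → ℂ), hB γ⟩ : IrrCharacter G)
        ≠ ⟨inflate N (β : G ⧸ N → ℂ), hB β⟩ := by
      intro h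
      apply hne
      have h2 := congrArg Subtype.val h
      simp only at h2
      exact (Subtype.ext (inflate_injective N h2)).symm
    have h1 := (hrig ⟨inflate N (β : G ⧸ N → ℂ), hB β⟩ (heB β)).2 _ hne2 (heB γ)
    have h2 := (hrig ⟨inflate N (β : G ⧸ N → ℂ), hB β⟩ (heB β)).1
    simp only at h1 h2
    rw [← heq, h2] at h1
    exact one_ne_zero h1

end Cfsg.Agent.Lib.helper3.Irr
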