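import Mathlib
import Cfsg.Prelude.Def_Characters
import Cfsg.Agent.Lib.helper3.Gallagher2
import Cfsg.Agent.Lib.helper3.AbelianInertia

set_option autoImplicit false
set_option linter.style.haveILetI false
set_option linter.unusedSectionVars false

/-!
# Gallagher: two extensions of the same irreducible character differ by a linear character
-/

namespace Cfsg.Agent.Lib.helper3.Irr

open Cfsg Module Cfsg.Agent.Lib.helper3.IndFun Cfsg.Agent.Lib.helper3.CharBasic
open scoped ComplexConjugate

variable {G : Type*} [Group G]

/-- A character of degree one is irreducible. -/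
theorem isIrrCharacter_of_linear [Finite G] {lam : G → ℂ} (hlam : IsCharacter G lam)
    (h1 : lam 1 = 1) : IsIrrCharacter G lam := by
  classical
  letI : Fintype G := Fintype.ofFinite G
  have := isIrrCharacter_linear_mul hlam h1 (isIrrCharacter_one (G := G))
  convert this using 1
  funext g
  simp

/-- Two irreducible characters of `G` with the same irreducible restriction to the normal
subgroup `N` differ by a linear character trivial on `N`. -/
theorem exists_linear_mul_of_restrict_eq [Fintype G] (N : Subgroup G) [hN : N.Normal] [Fintype N]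
    (η χ' : G → ℂ) (hη : IsIrrCharacter G η) (hχ' : IsIrrCharacter G χ')
    (hηN : IsIrrCharacter N (fun n : N => η n)) (hres : ∀ n : N, χ' n = η n) :
    ∃ β : G → ℂ, IsCharacter G β ∧ β 1 = 1 ∧ (∀ n : N, β n = 1) ∧ χ' = β * η := by
  classical
  have hηc := isCharacter_of_isIrrCharacter hη
  have hcf := isClassFunction_of_isCharacter hηc
  have hcf' := isClassFunction_of_isCharacter (isCharacter_of_isIrrCharacter hχ')
  have hprodeq : ((fun _ : N => (1 : ℂ)) * fun n : N => η n) = fun n : N => η n := by
    funext n; simp
  obtain ⟨e, he, hΨ, hrig⟩ := gallagher_aux N (fun _ => 1) (fun n : N => η n)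
    isIrrCharacter_one (fun _ _ => rfl) (fun g n => hcf n g) (by rw [hprodeq]; exact hηN)
    η hηc (apply_one_ne_zero hη) (fun _ => rfl)
  rw [hprodeq] at hΨ
  -- `χ'` is a constituent of the induced function
  have h1 : classInner (indFun N (fun n : N => η n)) χ' ≠ 0 := by
    rw [frobenius_reciprocity N _ χ' hcf']
    have : (fun h : N => χ' h) = fun n : N => η n := by
      funext n; exact hres n
    rw [this, irr_classInner_self hηN]
    exact one_ne_zero
  rw [hΨ, classInner_sum_left] at h1
  obtain ⟨β, -, hβ⟩ := Finset.exists_ne_zero_of_sum_ne_zero h1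
  rw [classInner_smul_left] at hβ
  have hβ0 : e β ≠ 0 := by
    intro h0
    rw [h0, Nat.cast_zero, zero_mul] at hβ
    exact hβ rfl
  have hβ1 : classInner ((β : G → ℂ) * η) χ' ≠ 0 := right_ne_zero_of_mul hβ
  have hβc := isCharacter_of_isIrrCharacter β.2
  have hirr : IsIrrCharacter G ((β : G → ℂ) * η) :=
    isIrrCharacter_of_classInner_self_eq_one (isCharacter_mul hβc hηc) (hrig β hβ0).1
  have heq : (β : G → ℂ) * η = χ' := by
    by_contra hne
    exact hβ1 (irr_classInner_eq_zero hirr hχ' hne)
  -- the degree of `β` is one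
  have hdeg : (β : G → ℂ) 1 = 1 := by
    have h2 := congrFun heq 1
    rw [Pi.mul_apply] at h2
    have h3 : χ' 1 = η 1 := hres 1
    rw [h3] at h2
    have h4 := apply_one_ne_zero hη
    exact mul_right_cancel₀ h4 (by rw [h2, one_mul])
  -- the restriction of `β` to `N` is trivial
  have hβN : IsIrrCharacter N (fun n : N => (β : G → ℂ) n) :=
    isIrrCharacter_of_linear (isCharacter_restrict hβc N) hdeg
  have hne0 : classInner (fun _ : N => (1 : ℂ)) (fun n : N => (β : G → ℂ) n) ≠ 0 := by
    rw [← frobenius_reciprocity N _ _ (isClassFunction_of_isCharacter hβc), he]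
    exact_mod_cast hβ0
  have htriv : (fun _ : N => (1 : ℂ)) = fun n : N => (β : G → ℂ) n := by
    by_contra hne
    exact hne0 (irr_classInner_eq_zero isIrrCharacter_one hβN hne)
  refine ⟨(β : G → ℂ), hβc, hdeg, ?_, heq.symm⟩
  intro n
  exact (congrFun htriv n).symm

end Cfsg.Agent.Lib.helper3.Irr
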