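import Mathlib
import Cfsg.Prelude.Def_Blocks
import Cfsg.Agent.Lib.helper3.ADB0
import Cfsg.Agent.Lib.helper3.AbelianInertia
import Cfsg.Agent.Lib.helper3.Gallagher2
import Cfsg.Agent.Lib.helper3.Gallagher3
import Cfsg.Agent.Lib.helper3.PrincNormal
import Cfsg.Agent.Lib.helper3.SecMain1
import Cfsg.Agent.Lib.Helper8.AD1
import Cfsg.Agent.H2.AD1

/-!
# Alperin–Dade (S4551), Step B, piece B7: from the existence of principal-block extensions
to the full statement
-/

set_option autoImplicit false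
set_option linter.style.haveILetI false
set_option linter.unusedSectionVars false
set_option linter.unusedVariables false
set_option maxHeartbeats 1000000

namespace Cfsg.Agent.Lib.helper3.ADB

open Cfsg Cfsg.Agent.Lib.helper3.Irr Cfsg.Agent.Lib.helper3.IndFun
open Cfsg.Agent.Lib.helper3.CharBasic Cfsg.Agent.Lib.helper3.LocalM Cfsg.Agent.Lib.helper3.Block
open scoped ComplexConjugate

universe u

section general

variable {K : Type*} [Group K]

/-- The function induced from the trivial character of a normal subgroup is the inflation of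
the regular character of the quotient. -/
theorem indFun_one_eq_sum_smul_inflate [Fintype K] (N : Subgroup K) [hN : N.Normal] :
    indFun N (fun _ => (1 : ℂ))
      = ∑ β : IrrCharacter (K ⧸ N), conj ((β : K ⧸ N → ℂ) 1) • inflate N (β : K ⧸ N → ℂ) := by
  classical
  letI : Fintype (K ⧸ N) := Fintype.ofFinite _
  funext g
  rw [indFun_one_normal_apply, Finset.sum_apply]
  have h1 : ∀ β : IrrCharacter (K ⧸ N),
      (conj ((β : K ⧸ N → ℂ) 1) • inflate N (β : K ⧸ N → ℂ)) g
      = (β : K ⧸ N → ℂ) (g : K ⧸ N) * conj ((β : K ⧸ N → ℂ) 1) := by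
    intro β
    rw [Pi.smul_apply, smul_eq_mul, inflate_apply, mul_comm]
  rw [Finset.sum_congr rfl (fun β _ => h1 β), sum_irr_mul_conj]
  split_ifs with hg
  · have hg1 : (g : K ⧸ N) = 1 := (QuotientGroup.eq_one_iff g).mpr hg
    rw [hg1]
    have : Nat.card {y : K ⧸ N // y * 1 * y⁻¹ = 1} = N.index := by
      rw [Subgroup.index_eq_card]
      apply Nat.card_congr
      exact Equiv.subtypeUnivEquiv (fun y => by simp)
    rw [this]
  · have hg1 : (g : K ⧸ N) ≠ 1 := fun h => hg ((QuotientGroup.eq_one_iff g).mp h)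
    have : IsEmpty {y : K ⧸ N // y * 1 * y⁻¹ = (g : K ⧸ N)} := by
      constructor
      rintro ⟨y, hy⟩
      apply hg1
      rw [← hy]
      simp
    rw [Nat.card_of_isEmpty, Nat.cast_zero]

/-- Gallagher: every irreducible character lying over `η|_N` (irreducible) is `β η` with `β`
inflated from an irreducible character of the quotient. -/
theorem exists_inflate_mul_of_over [Fintype K] (N : Subgroup K) [hN : N.Normal] [Fintype N]
    (η χ : K → ℂ) (hη : IsIrrCharacter K η) (hχ : IsIrrCharacter K χ)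
    (hηN : IsIrrCharacter N (fun n : N => η n))
    (hov : classInner (fun n : N => χ n) (fun n : N => η n) ≠ 0) :
    ∃ β : IrrCharacter (K ⧸ N), χ = inflate N (β : K ⧸ N → ℂ) * η := by
  classical
  have hηc := isCharacter_of_isIrrCharacter hη
  have hcf := isClassFunction_of_isCharacter hηc
  have hcf' := isClassFunction_of_isCharacter (isCharacter_of_isIrrCharacter hχ)
  obtain ⟨hirr, -⟩ := gallagher_inflate N η hηc (apply_one_ne_zero hη) hηN
  have h1 : classInner (indFun N (fun n : N => η n)) χ ≠ 0 := by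
    rw [frobenius_reciprocity N _ χ hcf']
    intro h0
    apply hov
    have := congrArg conj h0
    rw [classInner_conj_symm, map_zero] at this
    exact this
  have hprodeq : (fun n : N => η n) = (fun _ : N => (1 : ℂ)) * fun n : N => η n := by
    funext n; simp
  rw [hprodeq, indFun_mul_restrict N _ η hcf, indFun_one_eq_sum_smul_inflate N, Finset.sum_mul,
    classInner_sum_left] at h1
  obtain ⟨β, -, hβ⟩ := Finset.exists_ne_zero_of_sum_ne_zero h1
  rw [smul_mul_assoc, classInner_smul_left] at hβ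
  have hβ1 : classInner (inflate N (β : K ⧸ N → ℂ) * η) χ ≠ 0 := right_ne_zero_of_mul hβ
  refine ⟨β, ?_⟩
  by_contra hne
  exact hβ1 (irr_classInner_eq_zero (hirr β) hχ (fun h => hne h.symm))

end general

variable {X : Type u} [Group X] [Finite X] {p : ℕ} [hp : Fact p.Prime] {M : Ideal AlgInt}

/-- An irreducible character of the principal block lying over `χ̂|_N`, where `χ̂` is a
principal-block character restricting irreducibly to `N`, equals `χ̂`. -/
theorem eq_of_over (hM : IsPModular p M) (N : Subgroup X) [hN : N.Normal] [Fintype N]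
    (hidx : ¬ p ∣ N.index) (Q : Sylow p X)
    (hsup : N ⊔ Subgroup.centralizer ((Q : Subgroup X) : Set X) = ⊤)
    (η : IrrCharacter X) (hη : η ∈ principalBlock M X)
    (hηN : IsIrrCharacter N (fun n : N => (η : X → ℂ) n))
    (χ : IrrCharacter X) (hχ : χ ∈ principalBlock M X)
    (hov : classInner (fun n : N => (χ : X → ℂ) n) (fun n : N => (η : X → ℂ) n) ≠ 0) :
    χ = η := by
  classical
  letI : Fintype X := Fintype.ofFinite X
  haveI := isPrime_of_isPModular hM
  obtain ⟨β, hβ⟩ := exists_inflate_mul_of_over N (η : X → ℂ) (χ : X → ℂ) η.2 χ.2 hηN hov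
  have hη1 : (η : X → ℂ) 1 ≠ 0 := apply_one_ne_zero η.2
  have hβ1 : (β : X ⧸ N → ℂ) 1 ≠ 0 := apply_one_ne_zero β.2
  have hβone : ∀ q, (β : X ⧸ N → ℂ) q = 1 := by
    apply Cfsg.Agent.H2.AD.irr_quot_eq_one hM N hidx Q hsup β
    intro c hc
    have e1 := Cfsg.Agent.H2.AD.princ_ratio hM Q c hc χ hχ
    have e2 := Cfsg.Agent.H2.AD.princ_ratio hM Q c hc η hη
    have r1 := Cfsg.Agent.H2.AD.princ_ratio_memLocalRing hM Q c hc χ hχ
    have r2 := Cfsg.Agent.H2.AD.princ_ratio_memLocalRing hM Q c hc η hη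
    have r3 := Cfsg.Agent.Lib.helper3.Block.memLocalRing_inv_of_sub_one r2 e2
    have hηc : (η : X → ℂ) c ≠ 0 := Cfsg.Agent.H2.AD.princ_apply_ne_zero hM Q c hc η hη
    have hval : (β : X ⧸ N → ℂ) (c : X ⧸ N) / (β : X ⧸ N → ℂ) 1
        = ((χ : X → ℂ) c / (χ : X → ℂ) 1) * ((η : X → ℂ) c / (η : X → ℂ) 1)⁻¹ := by
      have hc' : (χ : X → ℂ) c = (β : X ⧸ N → ℂ) (c : X ⧸ N) * (η : X → ℂ) c := by
        rw [hβ, Pi.mul_apply, inflate_apply]
      have h1' : (χ : X → ℂ) 1 = (β : X ⧸ N → ℂ) 1 * (η : X → ℂ) 1 := by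
        rw [hβ, Pi.mul_apply, inflate_apply, QuotientGroup.mk_one]
      rw [hc', h1']
      field_simp
    rw [hval]
    -- x * y⁻¹ - 1 = (x - 1) * y⁻¹ - (y - 1) * y⁻¹
    have hy0 : (η : X → ℂ) c / (η : X → ℂ) 1 ≠ 0 := div_ne_zero hηc hη1
    have hrew : ((χ : X → ℂ) c / (χ : X → ℂ) 1) * ((η : X → ℂ) c / (η : X → ℂ) 1)⁻¹ - 1
        = ((η : X → ℂ) c / (η : X → ℂ) 1)⁻¹ * ((χ : X → ℂ) c / (χ : X → ℂ) 1 - 1)
          - ((η : X → ℂ) c / (η : X → ℂ) 1)⁻¹ * ((η : X → ℂ) c / (η : X → ℂ) 1 - 1) := by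
      field_simp
      ring
    rw [hrew]
    exact memLocalIdeal_sub (memLocalIdeal_mul_localRing r3 e1) (memLocalIdeal_mul_localRing r3 e2)
  apply Subtype.ext
  rw [hβ]
  funext g
  rw [Pi.mul_apply, inflate_apply, hβone, one_mul]

/-- **B7**: if every `θ` in the principal block of `N` has an extension in the principal block
of `X`, the Alperin–Dade statement holds for `(X, N)`. -/
theorem stmt_of_exists_ext (hM : IsPModular p M) (N : Subgroup X) [hN : N.Normal]
    (hidx : ¬ p ∣ N.index) (Q : Sylow p X)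
    (hsup : N ⊔ Subgroup.centralizer ((Q : Subgroup X) : Set X) = ⊤)
    (h : ∀ θ ∈ principalBlock M ↥N, ∃ χ : IrrCharacter X, χ ∈ principalBlock M X ∧
      ∀ n : N, (χ : X → ℂ) n = (θ : ↥N → ℂ) n) :
    Cfsg.Agent.Lib.Helper8.AD.Stmt M X N := by
  classical
  letI : Fintype X := Fintype.ofFinite X
  letI : Fintype N := Fintype.ofFinite N
  constructor
  · intro χ hχ
    obtain ⟨θ, hθ⟩ := exists_constituent
      (isCharacter_restrict (isCharacter_of_isIrrCharacter χ.2) N) (fun h0 =>
        apply_one_ne_zero χ.2 (by simpa using congrFun h0 1))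
    have hθB := constituent_mem_principalBlock hM N χ hχ θ hθ
    obtain ⟨η, hη, hres⟩ := h θ hθB
    have hηN : IsIrrCharacter N (fun n : N => (η : X → ℂ) n) := by
      have : (fun n : N => (η : X → ℂ) n) = (θ : ↥N → ℂ) := funext hres
      rw [this]; exact θ.2
    have heq := eq_of_over hM N hidx Q hsup η hη hηN χ hχ (by
      have : (fun n : N => (η : X → ℂ) n) = (θ : ↥N → ℂ) := funext hres
      rw [this]; exact hθ)
    refine ⟨θ, hθB, ?_⟩
    intro n
    rw [heq]
    exact hres n
  · intro θ hθ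
    obtain ⟨η, hη, hres⟩ := h θ hθ
    have hηN : IsIrrCharacter N (fun n : N => (η : X → ℂ) n) := by
      have : (fun n : N => (η : X → ℂ) n) = (θ : ↥N → ℂ) := funext hres
      rw [this]; exact θ.2
    refine ⟨η, ⟨hη, hres⟩, ?_⟩
    rintro χ ⟨hχ, hχres⟩
    apply eq_of_over hM N hidx Q hsup η hη hηN χ hχ
    have e1 : (fun n : N => (χ : X → ℂ) n) = (θ : ↥N → ℂ) := funext hχres
    have e2 : (fun n : N => (η : X → ℂ) n) = (θ : ↥N → ℂ) := funext hres
    rw [e1, e2, irr_classInner_self θ.2]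
    exact one_ne_zero

end Cfsg.Agent.Lib.helper3.ADB
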