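import Mathlib
import Cfsg.Prelude.Def_Characters
import Cfsg.Prelude.Def_CharExt
import Cfsg.Agent.Lib.helper3.RepEquiv
import Cfsg.Agent.Lib.helper3.TransferChar

set_option autoImplicit false
set_option linter.style.haveILetI false
set_option linter.unusedSectionVars false

/-!
# The determinantal character
-/

namespace Cfsg.Agent.Lib.helper3.Det

open Cfsg Module Cfsg.Agent.Lib.helper3.Irr Cfsg.Agent.Lib.helper3.Lin
open scoped ComplexConjugate

universe u v

variable {G : Type u} [Group G]

/-- The determinantal character can be computed from any representation affording the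
character. -/
theorem detChar_character [Finite G] {V : Type v} [AddCommGroup V] [Module ℂ V]
    [FiniteDimensional ℂ V] (ρ : Representation ℂ G V) (g : G) :
    detChar ρ.character g = LinearMap.det (ρ g) := by
  classical
  letI : Fintype G := Fintype.ofFinite G
  have h : IsCharacter G ρ.character := isCharacter_of_rep ρ
  unfold detChar
  rw [dif_pos h]
  have hσ := Classical.choose_spec (Classical.choose_spec h)
  set σ := Classical.choose (Classical.choose_spec h) with hσdef
  obtain ⟨e⟩ := nonempty_equiv_of_character_eq (finrank ℂ V) V _ ρ σ rfl hσ.symm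
  show LinearMap.det (σ g) = LinearMap.det (ρ g)
  rw [← Representation.Equiv.conj_apply_self g e, LinearEquiv.conj_apply]
  exact LinearMap.det_conj (ρ g) e.toLinearEquiv

/-- The determinant of a representation as a homomorphism to `ℂˣ`. -/
noncomputable def detHom {V : Type v} [AddCommGroup V] [Module ℂ V]
    (ρ : Representation ℂ G V) : G →* ℂˣ :=
  ((LinearMap.det : (V →ₗ[ℂ] V) →* ℂ).comp ρ).toHomUnits

theorem detHom_apply {V : Type v} [AddCommGroup V] [Module ℂ V]
    (ρ : Representation ℂ G V) (g : G) : ((detHom ρ g : ℂˣ) : ℂ) = LinearMap.det (ρ g) := by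
  unfold detHom
  rw [MonoidHom.coe_toHomUnits]
  rfl

/-- Twisting a representation by a homomorphism to `ℂˣ`. -/
noncomputable def twist {V : Type v} [AddCommGroup V] [Module ℂ V] (μ : G →* ℂˣ)
    (ρ : Representation ℂ G V) : Representation ℂ G V where
  toFun g := ((μ g : ℂˣ) : ℂ) • ρ g
  map_one' := by simp
  map_mul' a b := by
    ext v
    simp [smul_smul, mul_comm]

theorem twist_apply {V : Type v} [AddCommGroup V] [Module ℂ V] (μ : G →* ℂˣ)
    (ρ : Representation ℂ G V) (g : G) : twist μ ρ g = ((μ g : ℂˣ) : ℂ) • ρ g := rfl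

theorem twist_character {V : Type v} [AddCommGroup V] [Module ℂ V] [FiniteDimensional ℂ V]
    (μ : G →* ℂˣ) (ρ : Representation ℂ G V) :
    (twist μ ρ).character = (fun g => ((μ g : ℂˣ) : ℂ)) * ρ.character := by
  funext g
  show LinearMap.trace ℂ V (((μ g : ℂˣ) : ℂ) • ρ g) = _
  rw [map_smul]
  rfl

/-- Determinantal character of a twist. -/
theorem detChar_twist [Finite G] {V : Type v} [AddCommGroup V] [Module ℂ V]
    [FiniteDimensional ℂ V] (μ : G →* ℂˣ) (ρ : Representation ℂ G V) (g : G) :
    detChar ((fun g => ((μ g : ℂˣ) : ℂ)) * ρ.character) g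
      = ((μ g : ℂˣ) : ℂ) ^ finrank ℂ V * detChar ρ.character g := by
  rw [← twist_character, detChar_character, detChar_character, twist_apply, LinearMap.det_smul]

/-- Determinantal character of a restriction. -/
theorem detChar_restrict [Finite G] (N : Subgroup G) {χ : G → ℂ} (hχ : IsCharacter G χ)
    (x : N) : detChar (fun n : N => χ n) x = detChar χ x := by
  obtain ⟨n, ρ, rfl⟩ := hχ
  set σ : Representation ℂ N (Fin n → ℂ) := MonoidHom.comp ρ N.subtype with hσ
  have h1 : (fun n : N => ρ.character n) = σ.character := rfl
  rw [h1, detChar_character, detChar_character]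
  rfl

end Cfsg.Agent.Lib.helper3.Det
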