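import Mathlib
import Cfsg.Prelude.Def_Characters
import Cfsg.Prelude.Def_CharExt
import Cfsg.Agent.Lib.helper3.Det
import Cfsg.Agent.Lib.helper3.CycExt2
import Cfsg.Agent.Lib.helper3.Irr12
import Cfsg.Agent.Lib.helper3.Irr5
import Cfsg.Agent.S0862

set_option autoImplicit false
set_option linter.style.haveILetI false
set_option linter.unusedSectionVars false

/-!
# Extending invariant characters when the quotient is solvable
-/

namespace Cfsg.Agent.Lib.helper3.SolvExt

open Cfsg Module Cfsg.Agent.Lib.helper3.Irr Cfsg.Agent.Lib.helper3.Lin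
open Cfsg.Agent.Lib.helper3.Det Cfsg.Agent.Lib.helper3.CharBasic
open scoped ComplexConjugate

universe u

/-- Determinantal character of a pullback along a homomorphism. -/
theorem detChar_comp_hom {G H : Type*} [Group G] [Group H] [Finite G] [Finite H] (f : H →* G)
    {χ : G → ℂ} (hχ : IsCharacter G χ) (x : H) :
    detChar (fun h : H => χ (f h)) x = detChar χ (f x) := by
  obtain ⟨n, ρ, rfl⟩ := hχ
  set σ : Representation ℂ H (Fin n → ℂ) := MonoidHom.comp ρ f with hσ
  have h1 : (fun h : H => ρ.character (f h)) = σ.character := rfl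
  rw [h1, detChar_character, detChar_character]
  rfl

/-- The determinantal character is a character of degree one. -/
theorem isCharacter_detChar {G : Type*} [Group G] [Finite G] {χ : G → ℂ} (hχ : IsCharacter G χ) :
    IsCharacter G (detChar χ) ∧ detChar χ 1 = 1 := by
  obtain ⟨n, ρ, rfl⟩ := hχ
  have h : detChar ρ.character = fun g => ((detHom ρ g : ℂˣ) : ℂ) := by
    funext g
    rw [detChar_character, detHom_apply]
  rw [h]
  exact ⟨isCharacter_of_hom _, by simp⟩

theorem exists_normal_cyclic_quotient {G : Type*} [Group G] [Finite G] (N : Subgroup G) [N.Normal]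
    (hsolv : Group.IsSolvable (G ⧸ N)) (hne : N ≠ ⊤) :
    ∃ (M : Subgroup G) (_ : M.Normal), N ≤ M ∧ M ≠ ⊤ ∧ IsCyclic (G ⧸ M) := by
  have hfin : ({M : Subgroup G | M.Normal ∧ N ≤ M ∧ M ≠ ⊤} : Set (Subgroup G)).Finite :=
    Set.toFinite _
  obtain ⟨M, ⟨hMn, hNM, hMtop⟩, hmax⟩ := hfin.exists_maximal ⟨N, inferInstance, le_refl _, hne⟩
  haveI := hMn
  refine ⟨M, hMn, hNM, hMtop, ?_⟩
  have hsimple : ∀ H : Subgroup (G ⧸ M), H.Normal → H = ⊥ ∨ H = ⊤ := by
    intro H hH
    haveI := hH
    set K := H.comap (QuotientGroup.mk' M) with hK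
    have hKn : K.Normal := inferInstance
    have hMK : M ≤ K := by
      intro x hx
      rw [hK, Subgroup.mem_comap]
      have : (QuotientGroup.mk' M) x = 1 := (QuotientGroup.eq_one_iff x).mpr hx
      rw [this]
      exact one_mem _
    have hHK : H = K.map (QuotientGroup.mk' M) := by
      rw [hK, Subgroup.map_comap_eq_self_of_surjective (QuotientGroup.mk'_surjective M)]
    by_cases hKtop : K = ⊤
    · right
      rw [hHK, hKtop, ← MonoidHom.range_eq_map, MonoidHom.range_eq_top]
      exact QuotientGroup.mk'_surjective M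
    · left
      have hKM : K ≤ M := hmax ⟨hKn, hNM.trans hMK, hKtop⟩ hMK
      rw [hHK, eq_bot_iff]
      rintro _ ⟨x, hx, rfl⟩
      rw [Subgroup.mem_bot]
      exact (QuotientGroup.eq_one_iff x).mpr (hKM hx)
  haveI : Group.IsSolvable (G ⧸ M) := by
    have hsurj : Function.Surjective (QuotientGroup.map N M (MonoidHom.id G) hNM) := by
      intro q
      obtain ⟨g, rfl⟩ := QuotientGroup.mk_surjective q
      exact ⟨(g : G ⧸ N), rfl⟩
    exact Group.isSolvable_of_surjective hsurj
  haveI : Nontrivial (G ⧸ M) := by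
    by_contra h
    rw [not_nontrivial_iff_subsingleton] at h
    apply hMtop
    rw [eq_top_iff]
    intro x _
    exact (QuotientGroup.eq_one_iff x).mp (Subsingleton.elim _ _)
  haveI : IsSimpleGroup (G ⧸ M) := (isSimpleGroup_iff _).mpr ⟨inferInstance, hsimple⟩
  have hcomm : ∀ a b : G ⧸ M, a * b = b * a := IsSimpleGroup.comm_iff_isSolvable.mpr inferInstance
  obtain ⟨x, hx⟩ := exists_ne (1 : G ⧸ M)
  have hzn : (Subgroup.zpowers x).Normal := by
    constructor
    intro n hn g
    rw [hcomm g n, mul_inv_cancel_right]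
    exact hn
  rcases hsimple _ hzn with h | h
  · exact absurd (Subgroup.zpowers_eq_bot.mp h) hx
  · exact ⟨x, fun y => by rw [← Subgroup.mem_zpowers_iff]; rw [h]; trivial⟩

/-- The quotient of a subgroup `M ≥ N` by `N` embeds in `G ⧸ N`. -/
theorem isSolvable_subgroupOf_quotient {G : Type*} [Group G] (N M : Subgroup G) [N.Normal]
    (hsolv : Group.IsSolvable (G ⧸ N)) : Group.IsSolvable (M ⧸ N.subgroupOf M) := by
  have hle : N.subgroupOf M ≤ N.comap M.subtype := le_refl _
  have hinj : Function.Injective (QuotientGroup.map (N.subgroupOf M) N M.subtype hle) := by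
    rw [injective_iff_map_eq_one]
    intro q hq
    obtain ⟨m, rfl⟩ := QuotientGroup.mk_surjective q
    rw [QuotientGroup.map_mk, QuotientGroup.eq_one_iff] at hq
    exact (QuotientGroup.eq_one_iff m).mpr hq
  exact solvable_of_solvable_injective hinj

/-- Isaacs 6.25 (one direction): an invariant irreducible character of a normal subgroup with
solvable quotient and degree coprime to the index extends once its determinant does. -/
theorem exists_extension_aux : ∀ (k : ℕ) (G : Type u) [Group G] [Finite G] (N : Subgroup G)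
    [hN : N.Normal], N.index = k → Group.IsSolvable (G ⧸ N) →
    ∀ (ϑ : N → ℂ), IsIrrCharacter N ϑ →
    (∀ (g : G) (n : N), ϑ ⟨g * n * g⁻¹, hN.conj_mem (n : G) n.2 g⟩ = ϑ n) →
    ∀ d : ℕ, ϑ 1 = d → Nat.Coprime N.index d →
    ∀ μ : G → ℂ, IsCharacter G μ → μ 1 = 1 → (∀ n : N, μ n = detChar ϑ n) →
    ∃ χ : G → ℂ, IsIrrCharacter G χ ∧ ∀ n : N, χ n = ϑ n := by
  intro k
  induction k using Nat.strong_induction_on with
  | _ k ih =>
  intro G _ _ N hN hk hsolv ϑ hϑ hinv d hd hcop μ hμ hμ1 hμN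
  by_cases hNtop : N = ⊤
  · subst hNtop
    refine ⟨fun g => ϑ (Subgroup.topEquiv.symm g), ?_, ?_⟩
    · exact isIrrCharacter_comp_mulEquiv (Subgroup.topEquiv.symm) hϑ
    · intro n
      congr 1
  · obtain ⟨M, hMn, hNM, hMtop, hcyc⟩ := exists_normal_cyclic_quotient N hsolv hNtop
    haveI := hMn
    -- transport to `M`
    set N' : Subgroup M := N.subgroupOf M with hN'
    haveI hN'n : N'.Normal := Subgroup.normal_subgroupOf
    set e : N' ≃* N := Subgroup.subgroupOfEquivOfLe hNM with he
    have hec : ∀ x : N', ((e x : N) : G) = ((x : M) : G) := fun x => rfl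
    set ϑ' : N' → ℂ := fun x => ϑ (e x) with hϑ'
    have hϑ'irr : IsIrrCharacter N' ϑ' := isIrrCharacter_comp_mulEquiv e hϑ
    have hidx : N'.index * M.index = N.index := Subgroup.relIndex_mul_index hNM
    have hNidx : N.index ≠ 0 := Subgroup.index_ne_zero_of_finite
    have hMidx : M.index ≠ 1 := fun h => hMtop (Subgroup.index_eq_one.mp h)
    have hMidx0 : M.index ≠ 0 := Subgroup.index_ne_zero_of_finite
    have hlt : N'.index < k := by
      rw [← hk, ← hidx]
      have h0 : N'.index ≠ 0 := fun h => hNidx (by rw [← hidx, h, zero_mul])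
      have h2 : 2 ≤ M.index := by omega
      nlinarith [Nat.pos_of_ne_zero h0]
    have hinv' : ∀ (g : M) (n : N'), ϑ' ⟨g * n * g⁻¹, hN'n.conj_mem (n : M) n.2 g⟩ = ϑ' n := by
      intro g n
      have := hinv (g : G) (e n)
      rw [hϑ']
      simp only
      rw [← this]
      congr 1
    have hd' : ϑ' 1 = d := by
      rw [hϑ']
      simp only [map_one]
      exact hd
    have hcop' : Nat.Coprime N'.index d :=
      Nat.Coprime.coprime_dvd_left (Dvd.intro _ hidx) hcop
    set μ' : M → ℂ := fun m => μ m with hμ'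
    have hμ'c : IsCharacter M μ' := isCharacter_restrict hμ M
    have hμ'1 : μ' 1 = 1 := hμ1
    have hϑc : IsCharacter N ϑ := isCharacter_of_isIrrCharacter hϑ
    have hμ'N : ∀ n : N', μ' n = detChar ϑ' n := by
      intro n
      have h1 := detChar_comp_hom e.toMonoidHom hϑc n
      exact (hμN (e n)).trans h1.symm
    obtain ⟨ψ, hψ, hψN⟩ := ih N'.index hlt M N' rfl (isSolvable_subgroupOf_quotient N M hsolv)
      ϑ' hϑ'irr hinv' d hd' hcop' μ' hμ'c hμ'1 hμ'N
    obtain ⟨ψ₀, ⟨hψ₀, hψ₀N, hψ₀det⟩, huniq⟩ := Cfsg.Agent.S0862.result N' ϑ' hϑ'irr d hd' hcop'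
      ⟨ψ, hψ, hψN⟩ μ' ⟨hμ'c, hμ'1⟩ hμ'N
    -- `ψ₀` is `G`-invariant
    have hψ₀inv : ∀ (g : G) (m : M), ψ₀ ⟨g * m * g⁻¹, hMn.conj_mem (m : G) m.2 g⟩ = ψ₀ m := by
      intro g m
      set α : M ≃* M := MulAut.conjNormal g with hα
      have hαv : ∀ m : M, ((α m : M) : G) = g * m * g⁻¹ := fun m => MulAut.conjNormal_apply g m
      have hαm : ∀ m : M, (⟨g * m * g⁻¹, hMn.conj_mem (m : G) m.2 g⟩ : M) = α m :=
        fun m => Subtype.ext (hαv m).symm
      have h1 : IsIrrCharacter M (fun m => ψ₀ (α m)) := isIrrCharacter_comp_mulEquiv α hψ₀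
      have h2 : ∀ n : N', (fun m => ψ₀ (α m)) n = ϑ' n := by
        intro n
        have hmem : α (n : M) ∈ N' := by
          show α (n : M) ∈ N.subgroupOf M
          rw [Subgroup.mem_subgroupOf, hαv]
          exact hN.conj_mem _ (Subgroup.mem_subgroupOf.mp n.2) g
        have h3 := hψ₀N ⟨α (n : M), hmem⟩
        simp only at h3 ⊢
        rw [h3]
        show ϑ (e ⟨α (n : M), hmem⟩) = ϑ (e n)
        rw [← hinv g (e n)]
        congr 1
      have h3 : detChar (fun m => ψ₀ (α m)) = μ' := by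
        funext m
        have h5 := detChar_comp_hom α.toMonoidHom (isCharacter_of_isIrrCharacter hψ₀) m
        refine h5.trans ?_
        rw [hψ₀det, hμ']
        simp only
        have : ((α.toMonoidHom m : M) : G) = g * m * g⁻¹ := hαv m
        rw [this]
        exact isClassFunction_of_isCharacter hμ (m : G) g
      have h4 := huniq _ ⟨h1, h2, h3⟩
      rw [hαm m]
      exact congrFun h4 m
    obtain ⟨χ, hχ, hχM⟩ := Cfsg.Agent.Lib.helper3.CycExt.exists_extension_of_cyclic M hcyc ψ₀ hψ₀
      hψ₀inv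
    refine ⟨χ, hχ, ?_⟩
    intro n
    have h1 := hχM ⟨(n : G), hNM n.2⟩
    have h2 := hψ₀N ⟨⟨(n : G), hNM n.2⟩, Subgroup.mem_subgroupOf.mpr n.2⟩
    simp only at h1 h2
    rw [h1, h2, hϑ']
    simp only
    congr 1

end Cfsg.Agent.Lib.helper3.SolvExt
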