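import Mathlib
import Cfsg.Prelude.Def_Characters
import Cfsg.Prelude.Def_CharExt
import Cfsg.Agent.Lib.helper3.SolvExt
import Cfsg.Agent.Lib.helper3.Degrees
import Cfsg.Agent.S0865

set_option autoImplicit false
set_option linter.style.haveILetI false
set_option linter.unusedSectionVars false

/-!
# Coprime extension with solvable quotient
-/

namespace Cfsg.Agent.Lib.helper3.SolvExt

open Cfsg Module Cfsg.Agent.Lib.helper3.Irr Cfsg.Agent.Lib.helper3.Lin
open Cfsg.Agent.Lib.helper3.Det Cfsg.Agent.Lib.helper3.CharBasic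
open scoped ComplexConjugate

universe u

/-- The determinantal character of an invariant character is invariant. -/
theorem detChar_invariant {G : Type*} [Group G] [Finite G] (N : Subgroup G) [hN : N.Normal]
    (ϑ : N → ℂ) (hϑ : IsCharacter N ϑ)
    (hinv : ∀ (g : G) (n : N), ϑ ⟨g * n * g⁻¹, hN.conj_mem (n : G) n.2 g⟩ = ϑ n) (g : G) (n : N) :
    detChar ϑ ⟨g * n * g⁻¹, hN.conj_mem (n : G) n.2 g⟩ = detChar ϑ n := by
  set α : N ≃* N := MulAut.conjNormal g with hα
  have hαv : ∀ m : N, ((α m : N) : G) = g * m * g⁻¹ := fun m => MulAut.conjNormal_apply g m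
  have hαm : ∀ m : N, (⟨g * m * g⁻¹, hN.conj_mem (m : G) m.2 g⟩ : N) = α m :=
    fun m => Subtype.ext (hαv m).symm
  have h1 := detChar_comp_hom α.toMonoidHom hϑ n
  have h2 : (fun h : N => ϑ (α.toMonoidHom h)) = ϑ := by
    funext h
    have := hinv g h
    rw [hαm h] at this
    exact this
  rw [h2] at h1
  rw [hαm n]
  exact h1.symm

/-- Coprime extension (solvable quotient): an invariant irreducible character of a normal
subgroup `N` with `G ⧸ N` solvable and `|N|` coprime to `|G : N|` extends to `G`. -/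
theorem exists_extension_of_coprime_solvable {G : Type u} [Group G] [Finite G] (N : Subgroup G)
    [hN : N.Normal] (hsolv : Group.IsSolvable (G ⧸ N)) (ϑ : N → ℂ) (hϑ : IsIrrCharacter N ϑ)
    (hinv : ∀ (g : G) (n : N), ϑ ⟨g * n * g⁻¹, hN.conj_mem (n : G) n.2 g⟩ = ϑ n)
    (hcop : Nat.Coprime (Nat.card N) N.index) :
    ∃ χ : G → ℂ, IsIrrCharacter G χ ∧ ∀ n : N, χ n = ϑ n := by
  classical
  letI : Fintype N := Fintype.ofFinite N
  obtain ⟨d, hd, hdvd, _⟩ := Cfsg.Agent.Lib.helper3.Central.irr_degree_dvd_card hϑ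
  have hϑc := isCharacter_of_isIrrCharacter hϑ
  obtain ⟨hc, h1⟩ := isCharacter_detChar hϑc
  have hpow : detChar ϑ ^ Nat.card N = 1 := by
    funext n
    rw [Pi.pow_apply, Pi.one_apply]
    exact pow_eq_one_of_linear hc h1 n (Nat.card N) pow_card_eq_one'
  have hord : orderOf (detChar ϑ) ∣ Nat.card N := orderOf_dvd_of_pow_eq_one hpow
  have hcop1 : Nat.Coprime N.index (orderOf (detChar ϑ)) :=
    Nat.Coprime.coprime_dvd_right hord hcop.symm
  obtain ⟨μ, ⟨hμ, hμ1, hμN, _⟩, _⟩ := Cfsg.Agent.S0865.result N (detChar ϑ) ⟨hc, h1⟩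
    (detChar_invariant N ϑ hϑc hinv) hcop1
  have hcop2 : Nat.Coprime N.index d := Nat.Coprime.coprime_dvd_right hdvd hcop.symm
  exact exists_extension_aux N.index G N rfl hsolv ϑ hϑ hinv d hd hcop2 μ hμ hμ1 hμN

end Cfsg.Agent.Lib.helper3.SolvExt
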