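import Mathlib
import Cfsg.Prelude.Def_Characters
import Cfsg.Prelude.Def_CharExt
import Cfsg.Agent.Lib.helper3.SolvExt2
import Cfsg.Agent.Lib.helper3.Gallagher3
import Cfsg.Agent.Lib.helper3.Irr12

set_option autoImplicit false
set_option linter.style.haveILetI false
set_option linter.unusedSectionVars false

/-!
# The canonical extension of an invariant character of a normal `p'`-subgroup of `p`-power index
-/

namespace Cfsg.Agent.Lib.helper3.FongB

open Cfsg Module Cfsg.Agent.Lib.helper3.Irr Cfsg.Agent.Lib.helper3.Lin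
open Cfsg.Agent.Lib.helper3.Det Cfsg.Agent.Lib.helper3.CharBasic Cfsg.Agent.Lib.helper3.SolvExt
open Cfsg.Agent.Lib.helper3.Central
open scoped ComplexConjugate

universe u

theorem eq_one_of_pow_eq_one_of_coprime {z : ℂ} {a b : ℕ} (ha : z ^ a = 1) (hb : z ^ b = 1)
    (hab : Nat.Coprime a b) : z = 1 := by
  have h1 : orderOf z ∣ a := orderOf_dvd_of_pow_eq_one ha
  have h2 : orderOf z ∣ b := orderOf_dvd_of_pow_eq_one hb
  have h3 : orderOf z ∣ 1 := by
    rw [← hab.gcd_eq_one]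
    exact Nat.dvd_gcd h1 h2
  exact orderOf_eq_one_iff.mp (Nat.dvd_one.mp h3)

theorem exists_mul_add_one_dvd {a m : ℕ} (h : Nat.Coprime a m) (hm : 0 < m) :
    ∃ s : ℕ, m ∣ a * s + 1 := by
  haveI : NeZero m := ⟨hm.ne'⟩
  let u := ZMod.unitOfCoprime a h
  refine ⟨((-(u⁻¹ : (ZMod m)ˣ) : (ZMod m)ˣ) : ZMod m).val, ?_⟩
  rw [← ZMod.natCast_eq_zero_iff]
  push_cast
  rw [ZMod.natCast_zmod_val]
  have h1 : (a : ZMod m) = (u : ZMod m) := (ZMod.coe_unitOfCoprime a h).symm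
  rw [h1]
  have h2 : (u : ZMod m) * ((u⁻¹ : (ZMod m)ˣ) : ZMod m) = 1 := Units.mul_inv u
  have h3 : (((-(u⁻¹ : (ZMod m)ˣ) : (ZMod m)ˣ)) : ZMod m) = -((u⁻¹ : (ZMod m)ˣ) : ZMod m) :=
    Units.val_neg _
  calc (u : ZMod m) * (((-(u⁻¹ : (ZMod m)ˣ) : (ZMod m)ˣ)) : ZMod m) + 1
      = -((u : ZMod m) * ((u⁻¹ : (ZMod m)ˣ) : ZMod m)) + 1 := by rw [h3, mul_neg]
    _ = 0 := by rw [h2]; ring

variable {X : Type u} [Group X] [Finite X]

/-- The power of a linear character given by a homomorphism into the units. -/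
theorem detChar_hom_mul (μ : X →* ℂˣ) {η : X → ℂ} (hη : IsCharacter X η) (d : ℕ) (hd : η 1 = d)
    (x : X) :
    detChar ((fun g => ((μ g : ℂˣ) : ℂ)) * η) x = ((μ x : ℂˣ) : ℂ) ^ d * detChar η x := by
  obtain ⟨n, ρ, rfl⟩ := hη
  rw [detChar_twist]
  rw [Representation.char_one] at hd
  have : finrank ℂ (Fin n → ℂ) = d := by exact_mod_cast hd
  rw [this]

/-- Existence of the canonical extension. -/
theorem exists_canonical_extension (p : ℕ) [hp : Fact p.Prime] (Y : Subgroup X) [hY : Y.Normal]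
    (hcop : ¬ p ∣ Nat.card Y) (k : ℕ) (hidx : Y.index = p ^ k) (ϑ : Y → ℂ)
    (hϑ : IsIrrCharacter Y ϑ)
    (hinv : ∀ (g : X) (n : Y), ϑ ⟨g * n * g⁻¹, hY.conj_mem (n : X) n.2 g⟩ = ϑ n) :
    ∃ η : X → ℂ, IsIrrCharacter X η ∧ (∀ y : Y, η y = ϑ y) ∧
      ∀ x : X, detChar η x ^ Nat.card Y = 1 := by
  classical
  letI : Fintype X := Fintype.ofFinite X
  have hPG : IsPGroup p (X ⧸ Y) := by
    apply IsPGroup.of_card (n := k)
    rw [← hidx, Subgroup.index_eq_card]
  haveI : Group.IsNilpotent (X ⧸ Y) := hPG.isNilpotent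
  have hsolv : Group.IsSolvable (X ⧸ Y) := inferInstance
  have hcopY : Nat.Coprime (Nat.card Y) p :=
    ((Nat.Prime.coprime_iff_not_dvd hp.out).mpr hcop).symm
  have hcop' : Nat.Coprime (Nat.card Y) Y.index := by
    rw [hidx]
    exact Nat.Coprime.pow_right k hcopY
  obtain ⟨η₀, hη₀, hη₀Y⟩ := exists_extension_of_coprime_solvable Y hsolv ϑ hϑ hinv hcop'
  have hη₀c := isCharacter_of_isIrrCharacter hη₀
  obtain ⟨hδ, hδ1⟩ := isCharacter_detChar hη₀c
  obtain ⟨d, hd, hdvd, hd0⟩ := irr_degree_dvd_card hϑ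
  have hη₀1 : η₀ 1 = d := by
    have := hη₀Y 1
    rw [← hd, ← this]
    rfl
  set μ : X →* ℂˣ := toUnitsHom hδ hδ1 with hμ
  have hμapp : ∀ x, ((μ x : ℂˣ) : ℂ) = detChar η₀ x := fun x => toUnitsHom_apply hδ hδ1 x
  have hcopd : Nat.Coprime (Nat.card Y * d) (p ^ k) := by
    apply Nat.Coprime.pow_right
    apply Nat.Coprime.mul_left hcopY
    exact Nat.Coprime.coprime_dvd_left hdvd hcopY
  obtain ⟨s, hs⟩ := exists_mul_add_one_dvd hcopd (pow_pos hp.out.pos k)
  set β : X →* ℂˣ := μ ^ (Nat.card Y * s) with hβ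
  have hβapp : ∀ x, ((β x : ℂˣ) : ℂ) = ((μ x : ℂˣ) : ℂ) ^ (Nat.card Y * s) := by
    intro x
    rw [hβ, MonoidHom.pow_apply, Units.val_pow_eq_pow_val]
  have hcardX : Nat.card X = Nat.card Y * p ^ k := by
    rw [← hidx, mul_comm]
    exact (Subgroup.index_mul_card Y).symm
  have hμcard : ∀ x : X, ((μ x : ℂˣ) : ℂ) ^ Nat.card X = 1 := by
    intro x
    rw [← Units.val_pow_eq_pow_val, ← map_pow, pow_card_eq_one', map_one, Units.val_one]
  have hμY : ∀ y : Y, ((μ (y : X) : ℂˣ) : ℂ) ^ Nat.card Y = 1 := by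
    intro y
    rw [← Units.val_pow_eq_pow_val, ← map_pow]
    have : ((y : X)) ^ Nat.card Y = 1 := by
      have h1 : (y ^ Nat.card Y : Y) = 1 := pow_card_eq_one'
      have h2 := congrArg (fun t : Y => (t : X)) h1
      exact h2
    rw [this, map_one, Units.val_one]
  have hβc : IsCharacter X (fun g => ((β g : ℂˣ) : ℂ)) := isCharacter_of_hom β
  have hβ1 : (fun g => ((β g : ℂˣ) : ℂ)) 1 = 1 := by
    show ((β 1 : ℂˣ) : ℂ) = 1
    rw [map_one, Units.val_one]
  refine ⟨(fun g => ((β g : ℂˣ) : ℂ)) * η₀, isIrrCharacter_linear_mul hβc hβ1 hη₀, ?_, ?_⟩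
  · intro y
    rw [Pi.mul_apply, hβapp, pow_mul, hμY, one_pow, one_mul, hη₀Y]
  · intro x
    rw [detChar_hom_mul β hη₀c d hη₀1, hβapp, ← hμapp, ← pow_mul, ← pow_succ, ← pow_mul]
    obtain ⟨t, ht⟩ := hs
    have e : (Nat.card Y * s * d + 1) * Nat.card Y = Nat.card X * t := by
      rw [hcardX]
      have : Nat.card Y * s * d + 1 = p ^ k * t := by
        rw [← ht]
        ring
      rw [this]
      ring
    rw [e, pow_mul, hμcard, one_pow]

/-- Uniqueness of the canonical extension. -/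
theorem canonical_extension_unique (p : ℕ) [hp : Fact p.Prime] (Y : Subgroup X) [hY : Y.Normal]
    (hcop : ¬ p ∣ Nat.card Y) (k : ℕ) (hidx : Y.index = p ^ k) (ϑ : Y → ℂ)
    (hϑ : IsIrrCharacter Y ϑ) (η η' : X → ℂ) (hη : IsIrrCharacter X η)
    (hη' : IsIrrCharacter X η') (hηY : ∀ y : Y, η y = ϑ y) (hη'Y : ∀ y : Y, η' y = ϑ y)
    (hdet : ∀ x : X, detChar η x ^ Nat.card Y = 1)
    (hdet' : ∀ x : X, detChar η' x ^ Nat.card Y = 1) : η' = η := by
  classical
  letI : Fintype X := Fintype.ofFinite X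
  have hcopY : Nat.Coprime (Nat.card Y) p :=
    ((Nat.Prime.coprime_iff_not_dvd hp.out).mpr hcop).symm
  obtain ⟨d, hd, hdvd, hd0⟩ := irr_degree_dvd_card hϑ
  have hη1 : η 1 = d := by
    have := hηY 1
    rw [← hd, ← this]
    rfl
  have hηN : IsIrrCharacter Y (fun n : Y => η n) := by
    have : (fun n : Y => η n) = ϑ := funext hηY
    rw [this]
    exact hϑ
  obtain ⟨β, hβc, hβ1, hβY, hmul⟩ := exists_linear_mul_of_restrict_eq Y η η' hη hη' hηN
    (fun n => by rw [hη'Y, hηY])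
  have hηc := isCharacter_of_isIrrCharacter hη
  set μ : X →* ℂˣ := toUnitsHom hβc hβ1 with hμ
  have hμapp : ∀ x, ((μ x : ℂˣ) : ℂ) = β x := fun x => toUnitsHom_apply hβc hβ1 x
  have hβeq : β = fun g => ((μ g : ℂˣ) : ℂ) := funext fun x => (hμapp x).symm
  have hone : ∀ x : X, β x = 1 := by
    intro x
    have h1 : detChar η' x = β x ^ d * detChar η x := by
      rw [hmul]
      have e : β * η = (fun g => ((μ g : ℂˣ) : ℂ)) * η := by rw [← hβeq]
      rw [e, detChar_hom_mul μ hηc d hη1, hμapp]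
    have h2 : (β x) ^ (d * Nat.card Y) = 1 := by
      have := hdet' x
      rw [h1, mul_pow, hdet x, mul_one, ← pow_mul] at this
      exact this
    have h3 : (β x) ^ (p ^ k) = 1 := by
      have hxY : x ^ (p ^ k) ∈ Y := by
        rw [← QuotientGroup.eq_one_iff, QuotientGroup.mk_pow]
        have : Nat.card (X ⧸ Y) = p ^ k := by rw [← hidx, Subgroup.index_eq_card]
        rw [← this]
        exact pow_card_eq_one'
      rw [← hμapp, ← Units.val_pow_eq_pow_val, ← map_pow, hμapp]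
      exact hβY ⟨_, hxY⟩
    apply eq_one_of_pow_eq_one_of_coprime h2 h3
    apply Nat.Coprime.pow_right
    exact Nat.Coprime.mul_left (Nat.Coprime.coprime_dvd_left hdvd hcopY) hcopY
  rw [hmul]
  funext x
  rw [Pi.mul_apply, hone x, one_mul]

/-- The canonical extension is fixed by every automorphism fixing the character below. -/
theorem canonical_extension_comp (p : ℕ) [hp : Fact p.Prime] (Y : Subgroup X) [hY : Y.Normal]
    (hcop : ¬ p ∣ Nat.card Y) (k : ℕ) (hidx : Y.index = p ^ k) (ϑ : Y → ℂ)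
    (hϑ : IsIrrCharacter Y ϑ) (η : X → ℂ) (hη : IsIrrCharacter X η)
    (hηY : ∀ y : Y, η y = ϑ y) (hdet : ∀ x : X, detChar η x ^ Nat.card Y = 1)
    (α : X ≃* X) (hαY : ∀ y : Y, α y ∈ Y) (hαϑ : ∀ y : Y, ϑ ⟨α y, hαY y⟩ = ϑ y) (x : X) :
    η (α x) = η x := by
  have h1 : IsIrrCharacter X (fun h => η (α h)) := isIrrCharacter_comp_mulEquiv α hη
  have h2 := canonical_extension_unique p Y hcop k hidx ϑ hϑ η (fun h => η (α h)) hη h1 hηY
    (fun y => by
      show η (α y) = ϑ y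
      rw [← hαϑ y]
      exact hηY ⟨α y, hαY y⟩) hdet
    (fun x => by
      have := detChar_comp_hom α.toMonoidHom (isCharacter_of_isIrrCharacter hη) x
      show detChar (fun h => η (α h)) x ^ Nat.card Y = 1
      have e : (fun h : X => η (α.toMonoidHom h)) = fun h => η (α h) := rfl
      rw [e] at this
      rw [this]
      exact hdet _)
  exact congrFun h2 x

end Cfsg.Agent.Lib.helper3.FongB
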