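import Mathlib
import Cfsg.Prelude.Def_Blocks
import Cfsg.Agent.Lib.helper3.FongB1
import Cfsg.Agent.Lib.helper3.CliffCorr
import Cfsg.Agent.Lib.helper3.Clifford2
import Cfsg.Agent.Lib.helper3.DefectOrder
import Cfsg.Agent.Lib.helper3.BlockOver

/-!
# Characters over an invariant character of a normal `p'`-subgroup: an invariant extension to a
normal subgroup of `p`-power index above it, and a character of each block over the extension
-/

set_option autoImplicit false
set_option linter.style.haveILetI false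
set_option linter.unusedSectionVars false
set_option maxHeartbeats 1000000

namespace Cfsg.Agent.Lib.helper3.FongB

open Cfsg Module Cfsg.Agent.Lib.helper3.CharBasic Cfsg.Agent.Lib.helper3.Irr
open Cfsg.Agent.Lib.helper3.Central Cfsg.Agent.Lib.helper3.LocalM Cfsg.Agent.Lib.helper3.Block
open Cfsg.Agent.Lib.helper3.IndFun
open scoped ComplexConjugate

variable {G : Type*} [Group G] [Fintype G] {M : Ideal AlgInt}

/-- A `p`-regular element of `L` lies in `N` when `L/N` is a `p`-group. -/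
theorem mem_of_pregular {p : ℕ} [hp : Fact p.Prime] (N L : Subgroup G) [hN : N.Normal]
    (k : ℕ) (hidx : N.relIndex L = p ^ k) (l : G) (hl : l ∈ L) (hreg : ¬ p ∣ orderOf l) :
    l ∈ N := by
  have h1 : l ^ (p ^ k) ∈ N := by
    have hcard : Nat.card (L ⧸ N.subgroupOf L) = p ^ k := by
      rw [← hidx, Subgroup.relIndex, Subgroup.index_eq_card]
    have h2 : ((⟨l, hl⟩ : L) : L ⧸ N.subgroupOf L) ^ (p ^ k) = 1 := by
      rw [← hcard]
      exact pow_card_eq_one'
    rw [← QuotientGroup.mk_pow, QuotientGroup.eq_one_iff, Subgroup.mem_subgroupOf] at h2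
    exact h2
  have hcop : Nat.Coprime (p ^ k) (orderOf l) := by
    apply Nat.Coprime.pow_left
    exact (Nat.Prime.coprime_iff_not_dvd hp.out).mpr hreg
  obtain ⟨m, hm⟩ := exists_pow_eq_self_of_coprime hcop
  rw [← hm]
  exact N.pow_mem h1 m

/-- The restriction of a character over an invariant irreducible character is a multiple of it. -/
theorem restrict_eq_of_invariant (N : Subgroup G) [hN : N.Normal] [Fintype N]
    (θ : N → ℂ) (hθ : IsIrrCharacter N θ)
    (hinv : ∀ (g : G) (n : N), θ ⟨g * n * g⁻¹, hN.conj_mem n n.2 g⟩ = θ n)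
    (ψ : G → ℂ) (hψ : IsIrrCharacter G ψ)
    (hcon : classInner (fun n : N => ψ n) θ ≠ 0) (n : N) :
    ψ n = classInner (fun n : N => ψ n) θ * θ n := by
  have h := clifford N ψ hψ θ hθ hcon
  have hset : {φ : N → ℂ | ∃ g : G, φ = fun n : N => θ ⟨g * n * g⁻¹, hN.conj_mem n n.2 g⟩}
      = {θ} := by
    ext φ
    simp only [Set.mem_setOf_eq, Set.mem_singleton_iff]
    constructor
    · rintro ⟨g, rfl⟩
      funext n
      exact hinv g n
    · rintro rfl
      exact ⟨1, by funext n; exact (hinv 1 n).symm⟩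
  rw [hset, finsum_mem_singleton] at h
  have := congrFun h n
  simpa using this

/-- An invariant irreducible character of a normal `p'`-subgroup `N` has a `G`-invariant
extension to every normal subgroup `L ≥ N` with `L/N` a `p`-group. -/
theorem exists_invariant_extension {p : ℕ} [hp : Fact p.Prime] (N L : Subgroup G)
    [hN : N.Normal] [hL : L.Normal] [Fintype N] (hNL : N ≤ L) (hNp : ¬ p ∣ Nat.card N)
    (k : ℕ) (hidx : N.relIndex L = p ^ k) (θ : N → ℂ) (hθ : IsIrrCharacter N θ)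
    (hinv : ∀ (g : G) (n : N), θ ⟨g * n * g⁻¹, hN.conj_mem n n.2 g⟩ = θ n) :
    ∃ η : L → ℂ, IsIrrCharacter L η ∧ (∀ n : N, η ⟨(n : G), hNL n.2⟩ = θ n) ∧
      ∀ (g : G) (l : L), η ⟨g * l * g⁻¹, hL.conj_mem l l.2 g⟩ = η l := by
  classical
  have hcardY : Nat.card (N.subgroupOf L) = Nat.card N :=
    Nat.card_congr (Subgroup.subgroupOfEquivOfLe hNL).toEquiv
  have hcop : ¬ p ∣ Nat.card (N.subgroupOf L) := by rw [hcardY]; exact hNp
  have hϑ : IsIrrCharacter (N.subgroupOf L) (subFun N L θ) := isIrrCharacter_subFun hNL hθ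
  have hinv' : ∀ (g : L) (n : N.subgroupOf L),
      subFun N L θ ⟨g * n * g⁻¹, (inferInstance : (N.subgroupOf L).Normal).conj_mem (n : L) n.2 g⟩
        = subFun N L θ n := by
    intro g n
    unfold subFun
    have := hinv (g : G) ⟨((n : L) : G), Subgroup.mem_subgroupOf.mp n.2⟩
    rw [← this]
    congr 1
  obtain ⟨η, hη, hηY, hdet⟩ := exists_canonical_extension p (N.subgroupOf L) hcop k hidx
    (subFun N L θ) hϑ hinv'
  refine ⟨η, hη, ?_, ?_⟩
  · intro n
    have := hηY ⟨⟨(n : G), hNL n.2⟩, Subgroup.mem_subgroupOf.mpr n.2⟩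
    rw [this]
    rfl
  · intro g l
    have hαY : ∀ y : N.subgroupOf L, (MulAut.conjNormal g : L ≃* L) (y : L) ∈ N.subgroupOf L := by
      intro y
      rw [Subgroup.mem_subgroupOf, MulAut.conjNormal_apply]
      exact hN.conj_mem _ (Subgroup.mem_subgroupOf.mp y.2) g
    have hαϑ : ∀ y : N.subgroupOf L,
        subFun N L θ ⟨(MulAut.conjNormal g : L ≃* L) (y : L), hαY y⟩ = subFun N L θ y := by
      intro y
      unfold subFun
      have := hinv g ⟨((y : L) : G), Subgroup.mem_subgroupOf.mp y.2⟩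
      rw [← this]
      congr 1
    have := canonical_extension_comp p (N.subgroupOf L) hcop k hidx (subFun N L θ) hϑ η hη hηY
      hdet (MulAut.conjNormal g : L ≃* L) hαY hαϑ l
    rw [← this]
    congr 1

theorem sum_subgroup_of_le (N L : Subgroup G) (hNL : N ≤ L) [Fintype N] [Fintype L]
    (F : L → ℂ) (hF : ∀ l : L, (l : G) ∉ N → F l = 0) :
    ∑ l : L, F l = ∑ n : N, F ⟨(n : G), hNL n.2⟩ := by
  classical
  have hinj : Function.Injective (fun n : N => (⟨(n : G), hNL n.2⟩ : L)) := by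
    intro a b hab
    apply Subtype.ext
    exact congrArg (fun l : L => (l : G)) hab
  rw [← Finset.sum_image (f := F) (g := fun n : N => (⟨(n : G), hNL n.2⟩ : L))
    (s := Finset.univ) (fun a _ b _ hab => hinj hab)]
  symm
  apply Finset.sum_subset (Finset.subset_univ _)
  intro l _ hl
  apply hF
  intro hlN
  apply hl
  exact Finset.mem_image.mpr ⟨⟨(l : G), hlN⟩, Finset.mem_univ _, rfl⟩

/-- Every block of characters over the invariant character `θ` of the normal `p'`-subgroup `N`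
contains a character over a given extension `η` of `θ` to `L`, when `L/N` is a `p`-group. -/
theorem exists_over_extension {p : ℕ} [hp : Fact p.Prime] (hM : IsPModular p M)
    (N L : Subgroup G) [hN : N.Normal] [Fintype N] [Fintype L] (hNL : N ≤ L)
    (hNp : ¬ p ∣ Nat.card N) (k : ℕ) (hidx : N.relIndex L = p ^ k) (θ : IrrCharacter N)
    (hinv : ∀ (g : G) (n : N), (θ : N → ℂ) ⟨g * n * g⁻¹, hN.conj_mem n n.2 g⟩ = (θ : N → ℂ) n)
    (η : L → ℂ) (hηN : ∀ n : N, η ⟨(n : G), hNL n.2⟩ = (θ : N → ℂ) n)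
    (χ : IrrCharacter G) (hχ : χ ∈ irrOver N (θ : N → ℂ)) :
    ∃ χ₁ : IrrCharacter G, SameBlock M (χ : G → ℂ) (χ₁ : G → ℂ) ∧
      classInner (fun l : L => (χ₁ : G → ℂ) l) η ≠ 0 := by
  classical
  haveI hMp := isPrime_of_isPModular hM
  have hMtop : M ≠ ⊤ := hM.2.1.ne_top
  by_contra hcon
  push Not at hcon
  set S : Set (IrrCharacter G) := blockOf M (χ : G → ℂ) with hSdef
  have hχS : χ ∈ S := sameBlock_refl hMtop _
  have hS : ∀ ψ ∈ S, blockOf M (ψ : G → ℂ) ⊆ S := by
    intro ψ hψ φ hφ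
    exact sameBlock_trans hψ hφ
  have hSover : S ⊆ irrOver N (θ : N → ℂ) := blockOf_subset_irrOver hM N hNp θ χ hχ
  choose d hd0 hd using fun ψ : IrrCharacter G => exists_pos_nat_apply_one ψ.2
  choose m hm using fun ψ : IrrCharacter G => exists_nat_classInner_of_isCharacter
    (isCharacter_restrict (isCharacter_of_isIrrCharacter ψ.2) N) θ
  -- the function F
  have hF0 : ∀ l : L, (l : G) ∉ N →
      ∑ ψ : IrrCharacter G, (if ψ ∈ S then (1 : ℂ) else 0)
        * ((ψ : G → ℂ) 1 * (ψ : G → ℂ) (l : G)) = 0 := by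
    intro l hl
    apply sum_degree_mul_eq_zero hM S hS
    by_contra hreg
    exact hl (mem_of_pregular N L k hidx (l : G) l.2 hreg)
  have hFN : ∀ n : N, ∑ ψ : IrrCharacter G, (if ψ ∈ S then (1 : ℂ) else 0)
        * ((ψ : G → ℂ) 1 * (ψ : G → ℂ) (n : G))
      = (((∑ ψ : IrrCharacter G, if ψ ∈ S then d ψ * m ψ else 0 : ℕ) : ℕ) : ℂ)
        * (θ : N → ℂ) n := by
    intro n
    push_cast
    rw [Finset.sum_mul]
    apply Finset.sum_congr rfl
    intro ψ _
    by_cases hψ : ψ ∈ S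
    · rw [if_pos hψ, if_pos hψ, one_mul, hd ψ]
      have h1 := restrict_eq_of_invariant N (θ : N → ℂ) θ.2 hinv (ψ : G → ℂ) ψ.2 (hSover hψ) n
      rw [h1, hm ψ]
      push_cast
      ring
    · rw [if_neg hψ, if_neg hψ]
      push_cast
      ring
  -- the double sum
  have hkey : ∑ ψ : IrrCharacter G, (if ψ ∈ S then (1 : ℂ) else 0) * ((ψ : G → ℂ) 1
        * ((Nat.card L : ℂ) * classInner (fun l : L => (ψ : G → ℂ) l) η))
      = (((∑ ψ : IrrCharacter G, if ψ ∈ S then d ψ * m ψ else 0 : ℕ) : ℕ) : ℂ)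
        * (Nat.card N : ℂ) := by
    have hL0 : (Nat.card L : ℂ) ≠ 0 := card_ne_zero_complex L
    have e1 : ∀ ψ : IrrCharacter G, (Nat.card L : ℂ) * classInner (fun l : L => (ψ : G → ℂ) l) η
        = ∑ l : L, (ψ : G → ℂ) (l : G) * conj (η l) := by
      intro ψ
      rw [classInner_apply, ← mul_assoc, mul_inv_cancel₀ hL0, one_mul]
    simp_rw [e1, Finset.mul_sum]
    rw [Finset.sum_comm]
    have e2 : ∀ l : L, ∑ ψ : IrrCharacter G, (if ψ ∈ S then (1 : ℂ) else 0)
          * ((ψ : G → ℂ) 1 * ((ψ : G → ℂ) (l : G) * conj (η l)))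
        = (∑ ψ : IrrCharacter G, (if ψ ∈ S then (1 : ℂ) else 0)
          * ((ψ : G → ℂ) 1 * (ψ : G → ℂ) (l : G))) * conj (η l) := by
      intro l
      rw [Finset.sum_mul]
      apply Finset.sum_congr rfl
      intro ψ _
      ring
    rw [Finset.sum_congr rfl (fun l _ => e2 l)]
    rw [sum_subgroup_of_le N L hNL _ (fun l hl => by rw [hF0 l hl, zero_mul])]
    have e3 : ∀ n : N, (∑ ψ : IrrCharacter G, (if ψ ∈ S then (1 : ℂ) else 0)
          * ((ψ : G → ℂ) 1 * (ψ : G → ℂ) ((⟨(n : G), hNL n.2⟩ : L) : G)))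
          * conj (η ⟨(n : G), hNL n.2⟩)
        = (((∑ ψ : IrrCharacter G, if ψ ∈ S then d ψ * m ψ else 0 : ℕ) : ℕ) : ℂ)
          * ((θ : N → ℂ) n * conj ((θ : N → ℂ) n)) := by
      intro n
      rw [hηN n]
      have := hFN n
      rw [this]
      ring
    rw [Finset.sum_congr rfl (fun n _ => e3 n), ← Finset.mul_sum]
    have h2 := irr_classInner_self θ.2
    rw [classInner_apply] at h2
    have hN0 : (Nat.card N : ℂ) ≠ 0 := card_ne_zero_complex N
    have h3 : ∑ n : N, (θ : N → ℂ) n * conj ((θ : N → ℂ) n) = (Nat.card N : ℂ) := by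
      have := congrArg (fun z => (Nat.card N : ℂ) * z) h2
      simp only [mul_one] at this
      rw [← mul_assoc, mul_inv_cancel₀ hN0, one_mul] at this
      exact this
    rw [h3]
  have hzero : ∑ ψ : IrrCharacter G, (if ψ ∈ S then (1 : ℂ) else 0) * ((ψ : G → ℂ) 1
        * ((Nat.card L : ℂ) * classInner (fun l : L => (ψ : G → ℂ) l) η)) = 0 := by
    apply Finset.sum_eq_zero
    intro ψ _
    by_cases hψ : ψ ∈ S
    · rw [hcon ψ hψ, mul_zero, mul_zero, mul_zero]
    · rw [if_neg hψ, zero_mul]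
  rw [hzero] at hkey
  have hN0 : (Nat.card N : ℂ) ≠ 0 := card_ne_zero_complex N
  have h4 : (((∑ ψ : IrrCharacter G, if ψ ∈ S then d ψ * m ψ else 0 : ℕ) : ℕ) : ℂ) = 0 := by
    rcases mul_eq_zero.mp hkey.symm with h | h
    · exact h
    · exact absurd h hN0
  have h5 : (∑ ψ : IrrCharacter G, if ψ ∈ S then d ψ * m ψ else 0 : ℕ) = 0 := by
    exact_mod_cast h4
  have h6 := (Finset.sum_eq_zero_iff.mp h5) χ (Finset.mem_univ _)
  rw [if_pos hχS] at h6
  rcases Nat.mul_eq_zero.mp h6 with h | h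
  · exact absurd h (hd0 χ).ne'
  · apply hχ
    show classInner (fun n : N => (χ : G → ℂ) n) (θ : N → ℂ) = 0
    rw [hm χ, h, Nat.cast_zero]

end Cfsg.Agent.Lib.helper3.FongB
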