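import Mathlib
import Cfsg.Agent.Lib.helper3.RepEquiv
import Cfsg.Agent.Lib.helper3.Central

/-!
# A concrete central extension attached to an invariant irreducible representation

For `N ⊴ G` and a representation `X` of `N` on `V`, the group
`E = {(g, M) ∈ G × GL(V) : M X(n) = X(g n g⁻¹) M, det(M)^m = 1}`.
-/

set_option autoImplicit false
set_option linter.style.haveILetI false

namespace Cfsg.Agent.Lib.helper3.CExt

open Cfsg Module

universe u

variable {G : Type u} [Group G] (N : Subgroup G) [hN : N.Normal]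
variable {V : Type} [AddCommGroup V] [Module ℂ V]
variable (X : Representation ℂ N V)

/-- The extension group. -/
def extGroup (m : ℕ) : Subgroup (G × (V ≃ₗ[ℂ] V)) where
  carrier := {x | (∀ (n : N) (v : V), x.2 (X n v) = X (MulAut.conjNormal x.1 n) (x.2 v)) ∧
    (LinearEquiv.det x.2) ^ m = 1}
  mul_mem' := by
    rintro x y ⟨hx1, hx2⟩ ⟨hy1, hy2⟩
    refine ⟨?_, ?_⟩
    · intro n v
      show x.2 (y.2 (X n v)) = X (MulAut.conjNormal (x.1 * y.1) n) (x.2 (y.2 v))
      rw [hy1, hx1, map_mul, MulAut.mul_apply]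
    · show (LinearEquiv.det (x.2 * y.2)) ^ m = 1
      rw [map_mul, mul_pow, hx2, hy2, one_mul]
  one_mem' := by
    refine ⟨?_, ?_⟩
    · intro n v
      show X n v = X (MulAut.conjNormal (1 : G) n) v
      rw [map_one, MulAut.one_apply]
    · show (LinearEquiv.det (1 : V ≃ₗ[ℂ] V)) ^ m = 1
      rw [map_one, one_pow]
  inv_mem' := by
    rintro x ⟨hx1, hx2⟩
    refine ⟨?_, ?_⟩
    · intro n v
      show x.2⁻¹ (X n v) = X (MulAut.conjNormal x.1⁻¹ n) (x.2⁻¹ v)
      have h1 := hx1 (MulAut.conjNormal x.1⁻¹ n) (x.2⁻¹ v)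
      have h2 : MulAut.conjNormal x.1 (MulAut.conjNormal x.1⁻¹ n) = n := by
        rw [← MulAut.mul_apply, ← map_mul, mul_inv_cancel, map_one, MulAut.one_apply]
      have h3 : x.2 (x.2⁻¹ v) = v := by
        rw [← LinearEquiv.mul_apply, mul_inv_cancel]; rfl
      rw [h2, h3] at h1
      rw [← h1, ← LinearEquiv.mul_apply, inv_mul_cancel]; rfl
    · show (LinearEquiv.det x.2⁻¹) ^ m = 1
      rw [map_inv, inv_pow, hx2, inv_one]

theorem mem_extGroup_iff (m : ℕ) (x : G × (V ≃ₗ[ℂ] V)) :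
    x ∈ extGroup N X m ↔
      (∀ (n : N) (v : V), x.2 (X n v) = X (MulAut.conjNormal x.1 n) (x.2 v)) ∧
        (LinearEquiv.det x.2) ^ m = 1 := Iff.rfl

/-- The projection to `G`. -/
def proj (m : ℕ) : extGroup N X m →* G :=
  (MonoidHom.fst G (V ≃ₗ[ℂ] V)).comp (extGroup N X m).subtype

theorem proj_apply (m : ℕ) (x : extGroup N X m) : proj N X m x = (x : G × (V ≃ₗ[ℂ] V)).1 := rfl

/-- The tautological representation of the extension group. -/
def tautRep (m : ℕ) : Representation ℂ (extGroup N X m) V where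
  toFun x := ((x : G × (V ≃ₗ[ℂ] V)).2 : V →ₗ[ℂ] V)
  map_one' := rfl
  map_mul' _ _ := rfl

theorem tautRep_apply (m : ℕ) (x : extGroup N X m) (v : V) :
    tautRep N X m x v = (x : G × (V ≃ₗ[ℂ] V)).2 v := rfl

end Cfsg.Agent.Lib.helper3.CExt
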