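import Mathlib
import Cfsg.Agent.Lib.helper3.CExt1

/-!
# Properties of the extension group
-/

set_option autoImplicit false
set_option linter.style.haveILetI false

namespace Cfsg.Agent.Lib.helper3.CExt

open Cfsg Module Cfsg.Agent.Lib.helper3.Central

universe u

variable {G : Type u} [Group G] (N : Subgroup G) [hN : N.Normal]
variable {V : Type} [AddCommGroup V] [Module ℂ V]
variable (X : Representation ℂ N V)

/-- The representation as a homomorphism into the linear automorphisms. -/
noncomputable def repEquiv : N →* (V ≃ₗ[ℂ] V) :=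
  (LinearMap.GeneralLinearGroup.generalLinearEquiv ℂ V).toMonoidHom.comp X.asGroupHom

theorem repEquiv_apply (n : N) (v : V) : repEquiv N X n v = X n v := by
  unfold repEquiv
  simp [Representation.asGroupHom_apply]

theorem conjNormal_coe (n n' : N) : MulAut.conjNormal (n : G) n' = n * n' * n⁻¹ := by
  apply Subtype.ext
  rw [MulAut.conjNormal_apply]
  simp

/-- The embedding of `N`. -/
noncomputable def incl (m : ℕ) (hm : ∀ n : N, n ^ m = 1) : N →* extGroup N X m where
  toFun n := ⟨((n : G), repEquiv N X n), by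
    rw [mem_extGroup_iff]
    refine ⟨?_, ?_⟩
    · intro n' v
      show repEquiv N X n (X n' v) = X (MulAut.conjNormal (n : G) n') (repEquiv N X n v)
      rw [repEquiv_apply, repEquiv_apply, conjNormal_coe, ← Module.End.mul_apply,
        ← Module.End.mul_apply, ← map_mul, ← map_mul]
      congr 2
      group
    · show (LinearEquiv.det (repEquiv N X n)) ^ m = 1
      rw [← map_pow, ← map_pow, hm n, map_one, map_one]⟩
  map_one' := by
    apply Subtype.ext
    show (((1 : N) : G), repEquiv N X 1) = 1
    rw [map_one]; rfl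
  map_mul' a b := by
    apply Subtype.ext
    show (((a * b : N) : G), repEquiv N X (a * b)) = ((a : G), repEquiv N X a) * ((b : G), repEquiv N X b)
    rw [map_mul]; rfl

theorem incl_coe (m : ℕ) (hm : ∀ n : N, n ^ m = 1) (n : N) :
    ((incl N X m hm n : extGroup N X m) : G × (V ≃ₗ[ℂ] V)) = ((n : G), repEquiv N X n) := rfl

theorem proj_incl (m : ℕ) (hm : ∀ n : N, n ^ m = 1) (n : N) :
    proj N X m (incl N X m hm n) = (n : G) := rfl

theorem incl_injective (m : ℕ) (hm : ∀ n : N, n ^ m = 1) : Function.Injective (incl N X m hm) := by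
  intro a b hab
  have := congrArg (proj N X m) hab
  rw [proj_incl, proj_incl] at this
  exact Subtype.ext this

/-- Conjugation formula: the image of `N` is normal. -/
theorem conj_incl (m : ℕ) (hm : ∀ n : N, n ^ m = 1) (x : extGroup N X m) (n : N) :
    x * incl N X m hm n * x⁻¹ = incl N X m hm (MulAut.conjNormal (proj N X m x) n) := by
  apply Subtype.ext
  apply Prod.ext
  · show (x : G × (V ≃ₗ[ℂ] V)).1 * (n : G) * (x : G × (V ≃ₗ[ℂ] V)).1⁻¹ = _
    rw [incl_coe, MulAut.conjNormal_apply]
    rfl
  · show (x : G × (V ≃ₗ[ℂ] V)).2 * repEquiv N X n * (x : G × (V ≃ₗ[ℂ] V)).2⁻¹ = _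
    rw [incl_coe]
    apply LinearEquiv.ext
    intro v
    show (x : G × (V ≃ₗ[ℂ] V)).2 (repEquiv N X n ((x : G × (V ≃ₗ[ℂ] V)).2⁻¹ v))
      = repEquiv N X (MulAut.conjNormal (proj N X m x) n) v
    rw [repEquiv_apply, repEquiv_apply, ((mem_extGroup_iff N X m _).mp x.2).1, proj_apply,
      ← LinearEquiv.mul_apply, mul_inv_cancel]
    rfl

theorem incl_range_normal (m : ℕ) (hm : ∀ n : N, n ^ m = 1) :
    (incl N X m hm).range.Normal := by
  constructor
  rintro _ ⟨n, rfl⟩ x
  rw [conj_incl]
  exact ⟨_, rfl⟩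

end Cfsg.Agent.Lib.helper3.CExt
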