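import Mathlib
import Cfsg.Agent.Lib.helper3.CExt2

/-!
# The extension group for an invariant irreducible representation: kernel, finiteness,
surjectivity
-/

set_option autoImplicit false
set_option linter.style.haveILetI false

namespace Cfsg.Agent.Lib.helper3.CExt

open Cfsg Module Cfsg.Agent.Lib.helper3.Central Cfsg.Agent.Lib.helper3.CharBasic

universe u

variable {G : Type u} [Group G] (N : Subgroup G) [hN : N.Normal] [Fintype N]
variable {V : Type} [AddCommGroup V] [Module ℂ V] [FiniteDimensional ℂ V]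
variable (X : Representation ℂ N V) [X.IsIrreducible]

theorem ker_scalar (m : ℕ) (x : extGroup N X m) (hx : proj N X m x = 1) :
    ∃ c : ℂ, ∀ v : V, (x : G × (V ≃ₗ[ℂ] V)).2 v = c • v := by
  obtain ⟨c, hc⟩ := exists_eq_smul_id X ((x : G × (V ≃ₗ[ℂ] V)).2 : V →ₗ[ℂ] V) (by
    intro n v
    have h1 := ((mem_extGroup_iff N X m _).mp x.2).1 n v
    rw [proj_apply] at hx
    rw [hx, map_one, MulAut.one_apply] at h1
    exact h1)
  refine ⟨c, fun v => ?_⟩
  have := congrArg (fun f : V →ₗ[ℂ] V => f v) hc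
  simpa using this

theorem ker_le_center (m : ℕ) : (proj N X m).ker ≤ Subgroup.center (extGroup N X m) := by
  intro x hx
  rw [MonoidHom.mem_ker] at hx
  rw [Subgroup.mem_center_iff]
  intro y
  obtain ⟨c, hc⟩ := ker_scalar N X m x hx
  rw [proj_apply] at hx
  apply Subtype.ext
  apply Prod.ext
  · show (y : G × (V ≃ₗ[ℂ] V)).1 * (x : G × (V ≃ₗ[ℂ] V)).1
      = (x : G × (V ≃ₗ[ℂ] V)).1 * (y : G × (V ≃ₗ[ℂ] V)).1
    rw [hx, mul_one, one_mul]
  · apply LinearEquiv.ext
    intro v
    show (y : G × (V ≃ₗ[ℂ] V)).2 ((x : G × (V ≃ₗ[ℂ] V)).2 v)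
      = (x : G × (V ≃ₗ[ℂ] V)).2 ((y : G × (V ≃ₗ[ℂ] V)).2 v)
    rw [hc, hc, map_smul]

include X in
theorem finrank_pos_of_irreducible : 0 < finrank ℂ V := by
  have := finrank_ne_zero_of_irreducible X
  exact Nat.pos_of_ne_zero (fun h => this (by rw [h, Nat.cast_zero]))

theorem finite_ker (m : ℕ) (hm : 0 < m) : Finite (proj N X m).ker := by
  classical
  have hd := finrank_pos_of_irreducible N X
  have hk : 0 < finrank ℂ V * m := Nat.mul_pos hd hm
  have hsc : ∀ x : (proj N X m).ker, ∃ c : ℂ,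
      ∀ v : V, ((x : extGroup N X m) : G × (V ≃ₗ[ℂ] V)).2 v = c • v :=
    fun x => ker_scalar N X m x (MonoidHom.mem_ker.mp x.2)
  choose c hc using hsc
  have hroot : ∀ x, c x ∈ Polynomial.nthRootsFinset (finrank ℂ V * m) (1 : ℂ) := by
    intro x
    rw [Polynomial.mem_nthRootsFinset hk]
    have h1 := ((mem_extGroup_iff N X m _).mp (x : extGroup N X m).2).2
    have h2 : (((x : extGroup N X m) : G × (V ≃ₗ[ℂ] V)).2 : V →ₗ[ℂ] V)
        = c x • LinearMap.id := by
      apply LinearMap.ext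
      intro v
      simpa using hc x v
    have h3 := congrArg (fun u : ℂˣ => (u : ℂ)) h1
    simp only [Units.val_pow_eq_pow_val, LinearEquiv.coe_det, Units.val_one] at h3
    rw [h2, LinearMap.det_smul, LinearMap.det_id, mul_one, ← pow_mul] at h3
    exact h3
  apply Finite.of_injective (fun x => (⟨c x, hroot x⟩ :
    (Polynomial.nthRootsFinset (finrank ℂ V * m) (1 : ℂ))))
  intro x y hxy
  have hcxy : c x = c y := congrArg Subtype.val hxy
  apply Subtype.ext
  apply Subtype.ext
  apply Prod.ext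
  · have h1 := MonoidHom.mem_ker.mp x.2
    have h2 := MonoidHom.mem_ker.mp y.2
    rw [proj_apply] at h1 h2
    rw [h1, h2]
  · apply LinearEquiv.ext
    intro v
    rw [hc x v, hc y v, hcxy]

theorem finite_extGroup [Finite G] (m : ℕ) (hm : 0 < m) : Finite (extGroup N X m) := by
  haveI := finite_ker N X m hm
  haveI : Finite (extGroup N X m ⧸ (proj N X m).ker) :=
    Finite.of_injective _ (QuotientGroup.kerLift_injective (proj N X m))
  exact Finite.of_equiv _ (Subgroup.groupEquivQuotientProdSubgroup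
    (s := (proj N X m).ker)).symm


theorem proj_surjective (m : ℕ)
    (hinv : ∀ (g : G) (n : N), X.character (MulAut.conjNormal g n) = X.character n) :
    Function.Surjective (proj N X m) := by
  intro g
  have hd := finrank_pos_of_irreducible N X
  obtain ⟨σ, hσ⟩ : ∃ σ : Representation ℂ N V,
      σ = X.comp ((MulAut.conjNormal g : N ≃* N).toMonoidHom) := ⟨_, rfl⟩
  have hσapp : ∀ n : N, σ n = X (MulAut.conjNormal g n) := by
    intro n; rw [hσ]; rfl
  have hchar : X.character = σ.character := by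
    funext n
    rw [← hinv g n]
    show _ = LinearMap.trace ℂ V (σ n)
    rw [hσapp]
    rfl
  obtain ⟨e⟩ := Cfsg.Agent.Lib.helper3.Irr.nonempty_equiv_of_character_eq
    (finrank ℂ V) V V X σ rfl hchar
  have hint : ∀ (n : N) (v : V), e.toLinearEquiv (X n v)
      = X (MulAut.conjNormal g n) (e.toLinearEquiv v) := by
    intro n v
    have h1 := e.toIntertwiningMap.isIntertwining' n
    have h2 := congrArg (fun f : V →ₗ[ℂ] V => f v) h1
    simp only [LinearMap.comp_apply] at h2
    rw [hσapp] at h2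
    exact h2
  have hdet : LinearMap.det (e.toLinearEquiv : V →ₗ[ℂ] V) ≠ 0 :=
    (LinearEquiv.isUnit_det' e.toLinearEquiv).ne_zero
  obtain ⟨c, hc⟩ := IsAlgClosed.exists_pow_nat_eq
    ((LinearMap.det (e.toLinearEquiv : V →ₗ[ℂ] V))⁻¹) hd
  have hc0 : c ≠ 0 := by
    intro h0
    rw [h0, zero_pow hd.ne'] at hc
    exact (inv_ne_zero hdet) hc.symm
  obtain ⟨M, hM⟩ : ∃ M : V ≃ₗ[ℂ] V,
      M = (LinearEquiv.smulOfNeZero ℂ V c hc0).trans e.toLinearEquiv := ⟨_, rfl⟩
  have hMapp : ∀ v : V, M v = c • e.toLinearEquiv v := by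
    intro v
    rw [hM]
    show e.toLinearEquiv (c • v) = _
    rw [map_smul]
  refine ⟨⟨(g, M), ?_⟩, rfl⟩
  rw [mem_extGroup_iff]
  refine ⟨?_, ?_⟩
  · intro n v
    show M (X n v) = X (MulAut.conjNormal g n) (M v)
    rw [hMapp, hMapp, hint, map_smul]
  · show (LinearEquiv.det M) ^ m = 1
    have h1 : LinearEquiv.det M = 1 := by
      apply Units.ext
      rw [LinearEquiv.coe_det, Units.val_one]
      have h2 : (M : V →ₗ[ℂ] V) = c • (e.toLinearEquiv : V →ₗ[ℂ] V) := by
        apply LinearMap.ext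
        intro v
        exact hMapp v
      rw [h2, LinearMap.det_smul, hc, inv_mul_cancel₀ hdet]
    rw [h1, one_pow]

end Cfsg.Agent.Lib.helper3.CExt
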