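import Mathlib
import Cfsg.Agent.Lib.helper3.CExt3
import Cfsg.Agent.Lib.helper3.CycExt2
import Cfsg.Agent.Lib.helper3.Irr12

/-!
# The central extension attached to an invariant irreducible character
-/

set_option autoImplicit false
set_option linter.style.haveILetI false

namespace Cfsg.Agent.Lib.helper3.CExt

open Cfsg Module Cfsg.Agent.Lib.helper3.Central Cfsg.Agent.Lib.helper3.CharBasic
open Cfsg.Agent.Lib.helper3.Irr Cfsg.Agent.Lib.helper3.CycExt

universe u

/-- **The central extension of an invariant character.**  If `θ ∈ Irr(N)` is invariant in `G`,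
there are a finite group `E`, a surjection `π : E → G` with central kernel, and a lift
`ι : N → E` with normal image such that `θ` (transported along `ι`) extends to an irreducible
character of `E`. -/
theorem exists_central_extension {G : Type u} [Group G] [Fintype G] (N : Subgroup G)
    [hN : N.Normal] [Fintype N] (θ : N → ℂ) (hθ : IsIrrCharacter N θ)
    (hinv : ∀ (g : G) (n : N), θ ⟨g * n * g⁻¹, hN.conj_mem n n.2 g⟩ = θ n) :
    ∃ (E : Type u) (_ : Group E) (_ : Fintype E) (π : E →* G) (ι : N →* E) (θ' : E → ℂ),
      Function.Surjective π ∧ π.ker ≤ Subgroup.center E ∧ (∀ n : N, π (ι n) = n) ∧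
      ι.range.Normal ∧ IsIrrCharacter E θ' ∧ (∀ n : N, θ' (ι n) = θ n) ∧
      IsIrrCharacter ι.range (fun y : ι.range => θ' y) := by
  classical
  obtain ⟨d, X, hirr, rfl⟩ := hθ
  haveI := hirr
  obtain ⟨m, hm⟩ : ∃ m : ℕ, m = Nat.card N := ⟨_, rfl⟩
  have hmpos : 0 < m := by rw [hm]; exact Nat.card_pos
  have hpow : ∀ n : N, n ^ m = 1 := by
    intro n; rw [hm]; exact pow_card_eq_one'
  have hinv' : ∀ (g : G) (n : N), X.character (MulAut.conjNormal g n) = X.character n := by
    intro g n
    rw [← hinv g n]
    apply congrArg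
    apply Subtype.ext
    rw [MulAut.conjNormal_apply]
  haveI hfin : Finite (extGroup N X m) := finite_extGroup N X m hmpos
  letI : Fintype (extGroup N X m) := Fintype.ofFinite _
  have hχ : IsCharacter (extGroup N X m) (tautRep N X m).character :=
    isCharacter_of_rep (tautRep N X m)
  have hval : ∀ n : N, (tautRep N X m).character (incl N X m hpow n) = X.character n := by
    intro n
    show LinearMap.trace ℂ _ ((repEquiv N X n : (Fin d → ℂ) ≃ₗ[ℂ] (Fin d → ℂ)) :
      (Fin d → ℂ) →ₗ[ℂ] (Fin d → ℂ)) = LinearMap.trace ℂ _ (X n)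
    congr 1
  have hresirr : IsIrrCharacter (incl N X m hpow).range
      (fun y : (incl N X m hpow).range => (tautRep N X m).character y) := ?_
  · refine ⟨extGroup N X m, inferInstance, inferInstance, proj N X m, incl N X m hpow,
      (tautRep N X m).character, proj_surjective N X m hinv', ker_le_center N X m,
      fun n => proj_incl N X m hpow n, incl_range_normal N X m hpow, ?_, hval, hresirr⟩
    letI : Fintype (incl N X m hpow).range := Fintype.ofFinite _
    exact isIrrCharacter_of_restrict (incl N X m hpow).range hχ hresirr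
  obtain ⟨eN, heN⟩ : ∃ eN : N ≃* (incl N X m hpow).range,
      ∀ n : N, ((eN n : (incl N X m hpow).range) : extGroup N X m) = incl N X m hpow n :=
    ⟨MonoidHom.ofInjective (incl_injective N X m hpow), fun n => rfl⟩
  have hfun : (fun y : (incl N X m hpow).range => (tautRep N X m).character y)
      = fun y => X.character (eN.symm y) := by
    funext y
    obtain ⟨n, rfl⟩ := eN.surjective y
    rw [heN, hval, MulEquiv.symm_apply_apply]
  rw [hfun]
  exact isIrrCharacter_comp_mulEquiv eN.symm ⟨d, X, hirr, rfl⟩

end Cfsg.Agent.Lib.helper3.CExt
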