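import Mathlib
import Cfsg.Agent.Lib.helper3.CExt4
import Cfsg.Agent.Lib.helper3.Gallagher3
import Cfsg.Agent.Lib.helper3.Tate2
import Cfsg.Agent.Lib.helper3.Clifford2

/-!
# The ramification index of an invariant character divides the index
-/

set_option autoImplicit false
set_option linter.style.haveILetI false

namespace Cfsg.Agent.Lib.helper3.CExt

open Cfsg Module Cfsg.Agent.Lib.helper3.Central Cfsg.Agent.Lib.helper3.CharBasic
open Cfsg.Agent.Lib.helper3.Irr Cfsg.Agent.Lib.helper3.CycExt Cfsg.Agent.Lib.helper3.IndFun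
open scoped ComplexConjugate

universe u

/-- Composing an irreducible character with a surjective homomorphism. -/
theorem isIrrCharacter_comp_surjective {E G : Type*} [Group E] [Group G] [Finite E]
    (π : E →* G) (hπ : Function.Surjective π) {ψ : G → ℂ} (hψ : IsIrrCharacter G ψ) :
    IsIrrCharacter E (fun x => ψ (π x)) := by
  haveI : Finite G := Finite.of_surjective π hπ
  haveI : Finite (E ⧸ π.ker) := inferInstance
  obtain ⟨iso, hiso⟩ : ∃ iso : E ⧸ π.ker ≃* G, ∀ x : E, iso (x : E ⧸ π.ker) = π x :=
    ⟨QuotientGroup.quotientKerEquivOfSurjective π hπ, fun x => rfl⟩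
  have h1 : IsIrrCharacter (E ⧸ π.ker) (fun q => ψ (iso q)) :=
    isIrrCharacter_comp_mulEquiv iso hψ
  have h2 := isIrrCharacter_inflate π.ker h1
  have h3 : inflate π.ker (fun q => ψ (iso q)) = fun x => ψ (π x) := by
    funext x
    rw [inflate_apply, hiso]
  rwa [h3] at h2

/-- An irreducible character whose restriction to a normal subgroup contains the trivial
character is trivial on it. -/
theorem apply_eq_apply_one_of_trivial_constituent' {E : Type*} [Group E] [Fintype E]
    (K : Subgroup E) [hK : K.Normal] [Fintype K] {β : E → ℂ} (hβ : IsIrrCharacter E β)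
    (h : classInner (fun n : K => β n) (fun _ => 1) ≠ 0) (n : K) : β n = β 1 := by
  have hcl := clifford K β hβ (fun _ => 1) isIrrCharacter_one h
  have hset : {ψ : K → ℂ | ∃ g : E, ψ = fun n : K =>
      (fun _ : K => (1 : ℂ)) ⟨g * n * g⁻¹, hK.conj_mem n n.2 g⟩} = {fun _ => 1} := by
    ext ψ
    constructor
    · rintro ⟨g, rfl⟩
      rfl
    · intro hψ
      exact ⟨1, hψ⟩
  rw [hset, finsum_mem_singleton] at hcl
  have h1 := congrFun hcl n
  have h2 := congrFun hcl 1
  simp only [Pi.smul_apply, smul_eq_mul, mul_one] at h1 h2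
  rw [h1]
  exact h2.symm


/-- Gallagher: every irreducible character over an extendible character `η|K` is `β η` with
`β` irreducible and trivial on `K`. -/
theorem exists_mul_of_over_extension {E : Type*} [Group E] [Fintype E] (K : Subgroup E)
    [hK : K.Normal] [Fintype K] (η χ' : E → ℂ) (hη : IsIrrCharacter E η)
    (hχ' : IsIrrCharacter E χ') (hηK : IsIrrCharacter K (fun n : K => η n))
    (hover : classInner (fun n : K => η n) (fun n : K => χ' n) ≠ 0) :
    ∃ β : E → ℂ, IsIrrCharacter E β ∧ (∀ n : K, β n = β 1) ∧ χ' = β * η := by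
  classical
  have hηc := isCharacter_of_isIrrCharacter hη
  have hcf := isClassFunction_of_isCharacter hηc
  have hcf' := isClassFunction_of_isCharacter (isCharacter_of_isIrrCharacter hχ')
  have hprodeq : ((fun _ : K => (1 : ℂ)) * fun n : K => η n) = fun n : K => η n := by
    funext n; simp
  obtain ⟨e, he, hΨ, hrig⟩ := gallagher_aux K (fun _ => 1) (fun n : K => η n)
    isIrrCharacter_one (fun _ _ => rfl) (fun g n => hcf n g) (by rw [hprodeq]; exact hηK)
    η hηc (apply_one_ne_zero hη) (fun _ => rfl)
  rw [hprodeq] at hΨ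
  have h1 : classInner (indFun K (fun n : K => η n)) χ' ≠ 0 := by
    rw [frobenius_reciprocity K _ χ' hcf']
    exact hover
  rw [hΨ, classInner_sum_left] at h1
  obtain ⟨β, -, hβ⟩ := Finset.exists_ne_zero_of_sum_ne_zero h1
  rw [classInner_smul_left] at hβ
  have hβ0 : e β ≠ 0 := by
    intro h0
    rw [h0, Nat.cast_zero, zero_mul] at hβ
    exact hβ rfl
  have hβ1 : classInner ((β : E → ℂ) * η) χ' ≠ 0 := right_ne_zero_of_mul hβ
  have hβc := isCharacter_of_isIrrCharacter β.2
  have hirr : IsIrrCharacter E ((β : E → ℂ) * η) :=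
    isIrrCharacter_of_classInner_self_eq_one (isCharacter_mul hβc hηc) (hrig β hβ0).1
  have heq : (β : E → ℂ) * η = χ' := by
    by_contra hne
    exact hβ1 (irr_classInner_eq_zero hirr hχ' hne)
  have hne0 : classInner (fun n : K => (β : E → ℂ) n) (fun _ : K => (1 : ℂ)) ≠ 0 := by
    have h2 : classInner (fun _ : K => (1 : ℂ)) (fun n : K => (β : E → ℂ) n) ≠ 0 := by
      rw [← frobenius_reciprocity K _ _ (isClassFunction_of_isCharacter hβc), he]
      exact_mod_cast hβ0
    intro h3
    apply h2
    rw [← classInner_conj_symm, h3, map_zero]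
  exact ⟨(β : E → ℂ), β.2, fun n => apply_eq_apply_one_of_trivial_constituent' K β.2 hne0 n,
    heq.symm⟩

end Cfsg.Agent.Lib.helper3.CExt
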