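import Mathlib
import Cfsg.Agent.Lib.helper3.CExt5

/-!
# The ramification index of an invariant character divides the index
-/

set_option autoImplicit false
set_option linter.style.haveILetI false

namespace Cfsg.Agent.Lib.helper3.CExt

open Cfsg Module Cfsg.Agent.Lib.helper3.Central Cfsg.Agent.Lib.helper3.CharBasic
open Cfsg.Agent.Lib.helper3.Irr Cfsg.Agent.Lib.helper3.CycExt Cfsg.Agent.Lib.helper3.IndFun
open scoped ComplexConjugate

universe u

/-- A commutator computation with a central factor. -/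
theorem comm_mem_of_central {E : Type*} [Group E] (K : Subgroup E) [hK : K.Normal]
    (a z x y : E) (ha : a ∈ K) (hz : z ∈ Subgroup.center E) (hx : x = a * z) :
    (y * x)⁻¹ * (x * y) ∈ K := by
  have hzc : ∀ g : E, g * z = z * g := fun g => Subgroup.mem_center_iff.mp hz g
  have h1 : (y * x)⁻¹ * (x * y) = a⁻¹ * (y⁻¹ * a * y) := by
    rw [hx]
    have e1 : (y * (a * z))⁻¹ = z⁻¹ * (a⁻¹ * y⁻¹) := by
      rw [mul_inv_rev, mul_inv_rev, mul_assoc]
    have e2 : a * z * y = a * y * z := by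
      rw [mul_assoc, ← hzc y, ← mul_assoc]
    rw [e1, e2]
    have e3 : z⁻¹ * (a⁻¹ * y⁻¹) * (a * y * z) = z⁻¹ * ((a⁻¹ * y⁻¹ * (a * y)) * z) := by
      group
    rw [e3, hzc, ← mul_assoc, inv_mul_cancel, one_mul]
    group
  rw [h1]
  apply K.mul_mem (K.inv_mem ha)
  have := hK.conj_mem a ha y⁻¹
  rwa [inv_inv] at this

/-- **The ramification index divides the index.** -/
theorem ramification_dvd_index {G : Type u} [Group G] [Fintype G] (N : Subgroup G)
    [hN : N.Normal] [Fintype N] (θ : N → ℂ) (hθ : IsIrrCharacter N θ)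
    (hinv : ∀ (g : G) (n : N), θ ⟨g * n * g⁻¹, hN.conj_mem n n.2 g⟩ = θ n)
    (ψ : G → ℂ) (hψ : IsIrrCharacter G ψ) (e : ℕ) (hres : ∀ n : N, ψ n = (e : ℂ) * θ n) :
    e ∣ N.index := by
  classical
  obtain ⟨E, iG, iF, π, ι, θ', hπ, hker, hπι, hnorm, hθ', hθ'ι, hθ'K⟩ :=
    exists_central_extension N θ hθ hinv
  haveI := hnorm
  letI : Fintype ι.range := Fintype.ofFinite _
  have hψ' : IsIrrCharacter E (fun x => ψ (π x)) := isIrrCharacter_comp_surjective π hπ hψ
  have hθ1 : θ 1 ≠ 0 := apply_one_ne_zero hθ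
  have he0 : (e : ℂ) ≠ 0 := by
    intro h0
    have h1 := hres 1
    rw [h0, zero_mul] at h1
    exact apply_one_ne_zero hψ h1
  have hmemK : ∀ y : ι.range, ∃ n : N, ι n = (y : E) := fun y => y.2
  have hψK : (fun y : ι.range => (fun x => ψ (π x)) (y : E))
      = (e : ℂ) • fun y : ι.range => θ' y := by
    funext y
    obtain ⟨n, hn⟩ := hmemK y
    show ψ (π (y : E)) = (e : ℂ) * θ' (y : E)
    rw [← hn, hπι, hθ'ι, hres]
  have hover : classInner (fun y : ι.range => θ' y)
      (fun y : ι.range => (fun x => ψ (π x)) (y : E)) ≠ 0 := by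
    rw [hψK, classInner_smul_right, irr_classInner_self hθ'K, mul_one, Complex.conj_natCast]
    exact he0
  obtain ⟨β, hβ, hβK, hψβ⟩ := exists_mul_of_over_extension ι.range θ' (fun x => ψ (π x))
    hθ' hψ' hθ'K hover
  -- the degree of `β`
  have hβ1 : β 1 = (e : ℂ) := by
    have h1 := congrFun hψβ 1
    simp only [Pi.mul_apply, map_one] at h1
    have h2 := hres 1
    have h3 : θ' 1 = θ 1 := by
      rw [← hθ'ι 1, map_one]
    rw [h3] at h1
    have h4 : ψ ((1 : N) : G) = ψ 1 := rfl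
    rw [h4, h1] at h2
    exact mul_right_cancel₀ hθ1 h2
  obtain ⟨β', hβ', hββ'⟩ := exists_eq_inflate hβ ι.range (fun g n hn =>
    apply_mul_of_apply_eq_one (isCharacter_of_isIrrCharacter hβ) (hβK ⟨n, hn⟩) g)
  have hβ'1 : β' 1 = (e : ℂ) := by
    rw [← hβ1, hββ', inflate_apply, QuotientGroup.mk_one]
  letI : Fintype (E ⧸ ι.range) := Fintype.ofFinite _
  have hdvd : e ∣ (Subgroup.center (E ⧸ ι.range)).index := by
    obtain ⟨k, ρ, hirr, hρ⟩ := hβ'
    haveI := hirr
    have h1 := finrank_dvd_index_center ρ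
    rw [Module.finrank_fin_fun] at h1
    have h2 : (k : ℂ) = (e : ℂ) := by
      rw [← hβ'1, ← hρ, Representation.char_one, Module.finrank_fin_fun]
    have h3 : k = e := by exact_mod_cast h2
    rwa [h3] at h1
  -- the image of the preimage of `N` is central
  have hLc : (N.comap π).map (QuotientGroup.mk' ι.range) ≤ Subgroup.center (E ⧸ ι.range) := by
    rintro q ⟨x, hxL, rfl⟩
    rw [Subgroup.mem_center_iff]
    intro q'
    obtain ⟨y, rfl⟩ := QuotientGroup.mk_surjective q'
    show ((y : E ⧸ ι.range)) * (x : E ⧸ ι.range) = (x : E ⧸ ι.range) * (y : E ⧸ ι.range)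
    rw [← QuotientGroup.mk_mul, ← QuotientGroup.mk_mul, QuotientGroup.eq]
    have hxN : π x ∈ N := hxL
    have hz : (ι ⟨π x, hxN⟩)⁻¹ * x ∈ π.ker := by
      rw [MonoidHom.mem_ker, map_mul, map_inv, hπι]
      simp
    exact comm_mem_of_central ι.range (ι ⟨π x, hxN⟩) ((ι ⟨π x, hxN⟩)⁻¹ * x) x y ⟨_, rfl⟩
      (hker hz) (by group)
  have hKL : (QuotientGroup.mk' ι.range).ker ≤ N.comap π := by
    rw [QuotientGroup.ker_mk']
    rintro _ ⟨n, rfl⟩
    show π (ι n) ∈ N
    rw [hπι]
    exact n.2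
  have hidx : ((N.comap π).map (QuotientGroup.mk' ι.range)).index = N.index := by
    rw [Subgroup.index_map_eq _ (QuotientGroup.mk'_surjective _) hKL,
      Subgroup.index_comap_of_surjective _ hπ]
  have h5 := Subgroup.index_dvd_of_le hLc
  rw [hidx] at h5
  exact dvd_trans hdvd h5

end Cfsg.Agent.Lib.helper3.CExt
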