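import Mathlib
import Cfsg.Prelude.Def_Characters
import Cfsg.Agent.Lib.helper3.PRegular
import Cfsg.Agent.Lib.helper3.NormTwo
import Cfsg.Agent.Lib.helper3.Central
import Cfsg.Agent.Lib.helper3.AlgInt

/-!
# Characters of `p`-defect zero vanish on `p`-singular elements
-/

set_option autoImplicit false
set_option linter.style.haveILetI false
set_option linter.unusedSectionVars false

namespace Cfsg.Agent.Lib.helper3.BrauerInd

open Cfsg Module Cfsg.Agent.Lib.helper3.IndFun Cfsg.Agent.Lib.helper3.CharBasic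
open Cfsg.Agent.Lib.helper3.Irr Cfsg.Agent.Lib.helper3.Central Cfsg.Agent.Lib.helper3.Lin
open Cfsg.Agent.Lib.helper3.HallNilp
open scoped ComplexConjugate

universe u

theorem isIntegral_sum_class_div {G : Type*} [Group G] [Fintype G] {V : Type*} [AddCommGroup V]
    [Module ℂ V] [FiniteDimensional ℂ V] (ρ : Representation ℂ G V) [ρ.IsIrreducible]
    (F : G → ℂ) (hFcl : ∀ g h : G, F (h * g * h⁻¹) = F g) (hFint : ∀ g, IsIntegral ℤ (F g)) :
    IsIntegral ℤ ((∑ g : G, ρ.character g * F g) / (finrank ℂ V : ℂ)) := by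
  classical
  rw [Finset.sum_div, ← Finset.sum_fiberwise Finset.univ (ConjClasses.mk : G → ConjClasses G)]
  apply IsIntegral.sum
  intro C _
  obtain ⟨g, rfl⟩ := ConjClasses.mk_surjective C
  have h1 : ∀ x ∈ Finset.univ.filter (fun x : G => ConjClasses.mk x = ConjClasses.mk g),
      ρ.character x * F x / (finrank ℂ V : ℂ) = ρ.character g * F g / (finrank ℂ V : ℂ) := by
    intro x hx
    simp only [Finset.mem_filter, Finset.mem_univ, true_and] at hx
    obtain ⟨c, hc⟩ := isConj_iff.mp (ConjClasses.mk_eq_mk_iff_isConj.mp hx)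
    rw [← hc, Representation.char_conj, hFcl]
  rw [Finset.sum_congr rfl h1, Finset.sum_const, nsmul_eq_mul]
  have h2 : (Finset.univ.filter (fun x : G => ConjClasses.mk x = ConjClasses.mk g))
      = Finset.univ.filter (fun x : G => IsConj g x) := by
    ext x
    simp only [Finset.mem_filter, Finset.mem_univ, true_and]
    rw [ConjClasses.mk_eq_mk_iff_isConj]
    exact isConj_comm
  rw [h2]
  have h3 := (isIntegral_central_value ρ g).mul (hFint g)
  convert h3 using 1
  ring

theorem character_eq_zero_of_defect_zero {G : Type u} [Group G] [Fintype G] {V : Type*}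
    [AddCommGroup V] [Module ℂ V] [FiniteDimensional ℂ V] (ρ : Representation ℂ G V)
    [ρ.IsIrreducible] (p n : ℕ) [hp : Fact p.Prime] (hn' : ¬ p ^ (n + 1) ∣ Nat.card G)
    (hdeg : p ^ n ∣ finrank ℂ V) (x : G) (hx : p ∣ orderOf x) : ρ.character x = 0 := by
  classical
  have hχ : IsIrrCharacter G ρ.character := isIrrCharacter_of_rep ρ
  have hχc := isCharacter_of_isIrrCharacter hχ
  have ha : ∀ j : ℕ, p ^ j ∣ Nat.card G → j ≤ n := by
    intro j hj
    by_contra hlt
    push Not at hlt
    exact hn' (dvd_trans (pow_dvd_pow p hlt) hj)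
  have hΦ := pregular_part_generalized p ρ.character hχc n ha
  obtain ⟨z, hz⟩ := exists_int_decomposition hΦ
  have hd0 : finrank ℂ V ≠ 0 := by
    intro h
    exact finrank_ne_zero_of_irreducible ρ (by rw [h]; simp)
  have hdC : (finrank ℂ V : ℂ) ≠ 0 := by exact_mod_cast hd0
  obtain ⟨b', hb'⟩ := finrank_dvd_card ρ
  have hpb' : ¬ p ∣ b' := by
    intro h
    apply hn'
    rw [hb', pow_succ]
    exact Nat.mul_dvd_mul hdeg h
  have hGC : (Nat.card G : ℂ) ≠ 0 := card_ne_zero_complex G
  -- divisibility of the coefficients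
  have hzdvd : ∀ ψ : IrrCharacter G, ((p ^ n : ℕ) : ℤ) ∣ z ψ := by
    intro ψ
    obtain ⟨F, hF⟩ : ∃ F : G → ℂ, F = fun g => if p ∣ orderOf g then 0 else conj ((ψ : G → ℂ) g) :=
      ⟨_, rfl⟩
    have hψc := isCharacter_of_isIrrCharacter ψ.2
    have hψcf := isClassFunction_of_isCharacter hψc
    have hFcl : ∀ g h : G, F (h * g * h⁻¹) = F g := by
      intro g h
      rw [hF]
      simp only
      rw [orderOf_conj', hψcf g h]
    have hFint : ∀ g, IsIntegral ℤ (F g) := by
      intro g
      rw [hF]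
      simp only
      by_cases hg : p ∣ orderOf g
      · rw [if_pos hg]; exact isIntegral_zero
      · rw [if_neg hg]
        obtain ⟨m, σ, hσ⟩ := hψc
        rw [← hσ, ← character_inv]
        exact isIntegral_character σ g⁻¹
    have hint := isIntegral_sum_class_div ρ F hFcl hFint
    -- the inner product with `ψ`
    have hinner : classInner (fun x => if p ∣ orderOf x then 0 else ((p ^ n : ℕ) : ℂ) * ρ.character x)
        (ψ : G → ℂ) = (z ψ : ℂ) := by
      rw [hz]
      exact classInner_decomposition_left (fun ψ => (z ψ : ℂ)) ψ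
    rw [classInner_apply] at hinner
    have hsum : ∑ g : G, (if p ∣ orderOf g then 0 else ((p ^ n : ℕ) : ℂ) * ρ.character g)
        * conj ((ψ : G → ℂ) g) = ((p ^ n : ℕ) : ℂ) * ∑ g : G, ρ.character g * F g := by
      rw [Finset.mul_sum]
      apply Finset.sum_congr rfl
      intro g _
      rw [hF]
      simp only
      by_cases hg : p ∣ orderOf g
      · rw [if_pos hg, if_pos hg]; ring
      · rw [if_neg hg, if_neg hg]; ring
    rw [hsum] at hinner
    have hkey : ((b' * z ψ : ℤ) : ℂ) = (((p ^ n : ℕ) : ℤ) : ℂ)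
        * ((∑ g : G, ρ.character g * F g) / (finrank ℂ V : ℂ)) := by
      have h1 : ((p ^ n : ℕ) : ℂ) * ∑ g : G, ρ.character g * F g = (Nat.card G : ℂ) * (z ψ : ℂ) := by
        rw [← hinner]
        field_simp
      have h2 : (Nat.card G : ℂ) = (finrank ℂ V : ℂ) * (b' : ℂ) := by
        rw [hb']; push_cast; ring
      push_cast at h1 ⊢
      rw [mul_div_assoc', h1, h2]
      field_simp
    have hdvd := Cfsg.Agent.Lib.helper3.AlgInt.int_dvd_of_eq_mul_isIntegral hint hkey
      (by exact_mod_cast (pow_pos hp.out.pos n).ne')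
    have hcop : IsCoprime (((p ^ n : ℕ) : ℤ)) (b' : ℤ) := by
      rw [Nat.isCoprime_iff_coprime]
      exact Nat.Coprime.pow_left n ((Nat.Prime.coprime_iff_not_dvd hp.out).2 hpb')
    exact hcop.dvd_of_dvd_mul_left hdvd
  choose w hw using hzdvd
  -- `θ`
  obtain ⟨θ, hθ⟩ : ∃ θ : G → ℂ, θ = fun g => if p ∣ orderOf g then 0 else ρ.character g := ⟨_, rfl⟩
  have hpnC : ((p ^ n : ℕ) : ℂ) ≠ 0 := by exact_mod_cast (pow_pos hp.out.pos n).ne'
  have hθdec : θ = ∑ ψ : IrrCharacter G, (w ψ : ℂ) • (ψ : G → ℂ) := by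
    have h1 : ((p ^ n : ℕ) : ℂ) • θ = ((p ^ n : ℕ) : ℂ) • ∑ ψ : IrrCharacter G, (w ψ : ℂ) • (ψ : G → ℂ) := by
      rw [Finset.smul_sum]
      have h2 : ((p ^ n : ℕ) : ℂ) • θ
          = fun x => if p ∣ orderOf x then 0 else ((p ^ n : ℕ) : ℂ) * ρ.character x := by
        funext g
        rw [hθ, Pi.smul_apply, smul_eq_mul]
        by_cases hg : p ∣ orderOf g
        · rw [if_pos hg, if_pos hg, mul_zero]
        · rw [if_neg hg, if_neg hg]
      rw [h2, hz]
      apply Finset.sum_congr rfl
      intro ψ _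
      rw [smul_smul, hw ψ]
      push_cast
      rfl
    funext g
    have h3 := congrFun h1 g
    rw [Pi.smul_apply, Pi.smul_apply, smul_eq_mul, smul_eq_mul] at h3
    exact mul_left_cancel₀ hpnC h3
  -- the norm of `θ`
  have hnormθ : classInner θ θ = ((∑ ψ : IrrCharacter G, w ψ * w ψ : ℤ) : ℂ) := by
    rw [hθdec]
    exact classInner_int_decomposition w w
  have hNpos : 1 ≤ ∑ ψ : IrrCharacter G, w ψ * w ψ := by
    by_contra hlt
    push Not at hlt
    have hnn : ∀ ψ ∈ (Finset.univ : Finset (IrrCharacter G)), 0 ≤ w ψ * w ψ :=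
      fun ψ _ => mul_self_nonneg _
    have h0 : ∑ ψ : IrrCharacter G, w ψ * w ψ = 0 := by
      have := Finset.sum_nonneg hnn
      omega
    have hall : ∀ ψ : IrrCharacter G, w ψ = 0 := by
      intro ψ
      have := (Finset.sum_eq_zero_iff_of_nonneg hnn).1 h0 ψ (Finset.mem_univ ψ)
      exact mul_self_eq_zero.1 this
    have hθ0 : θ = 0 := by
      rw [hθdec]
      apply Finset.sum_eq_zero
      intro ψ _
      rw [hall ψ, Int.cast_zero, zero_smul]
    have h1 := congrFun hθ0 1
    rw [hθ] at h1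
    simp only [orderOf_one, Pi.zero_apply] at h1
    rw [if_neg (Nat.Prime.not_dvd_one hp.out), Representation.char_one] at h1
    exact hdC h1
  -- comparison of the norms
  have hnormχ := classInner_character_self ρ
  rw [classInner_apply] at hnormχ hnormθ
  have hsumχ : ∑ g : G, (Complex.normSq (ρ.character g) : ℂ) = (Nat.card G : ℂ) := by
    have h1 : ∑ g : G, ρ.character g * conj (ρ.character g) = (Nat.card G : ℂ) := by
      field_simp at hnormχ
      exact hnormχ
    rw [← h1]
    apply Finset.sum_congr rfl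
    intro g _
    rw [Complex.mul_conj]
  have hsumθ : ∑ g : G, (Complex.normSq (θ g) : ℂ)
      = (Nat.card G : ℂ) * ((∑ ψ : IrrCharacter G, w ψ * w ψ : ℤ) : ℂ) := by
    have h1 : ∑ g : G, θ g * conj (θ g)
        = (Nat.card G : ℂ) * ((∑ ψ : IrrCharacter G, w ψ * w ψ : ℤ) : ℂ) := by
      rw [← hnormθ]
      field_simp
    rw [← h1]
    apply Finset.sum_congr rfl
    intro g _
    rw [Complex.mul_conj]
  have hsumχR : ∑ g : G, Complex.normSq (ρ.character g) = (Nat.card G : ℝ) := by
    have := hsumχ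
    rw [← Complex.ofReal_sum] at this
    exact_mod_cast this
  have hsumθR : ∑ g : G, Complex.normSq (θ g)
      = (Nat.card G : ℝ) * ((∑ ψ : IrrCharacter G, w ψ * w ψ : ℤ) : ℝ) := by
    have := hsumθ
    rw [← Complex.ofReal_sum] at this
    exact_mod_cast this
  have hdiff_nonneg : ∀ g ∈ (Finset.univ : Finset G),
      0 ≤ Complex.normSq (ρ.character g) - Complex.normSq (θ g) := by
    intro g _
    rw [hθ]
    simp only
    by_cases hg : p ∣ orderOf g
    · rw [if_pos hg, map_zero, sub_zero]; exact Complex.normSq_nonneg _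
    · rw [if_neg hg, sub_self]
  have hdiff_sum : ∑ g : G, (Complex.normSq (ρ.character g) - Complex.normSq (θ g)) ≤ 0 := by
    rw [Finset.sum_sub_distrib, hsumχR, hsumθR]
    have hN : (1 : ℝ) ≤ ((∑ ψ : IrrCharacter G, w ψ * w ψ : ℤ) : ℝ) := by exact_mod_cast hNpos
    have hG : (0 : ℝ) < (Nat.card G : ℝ) := by exact_mod_cast Nat.card_pos
    nlinarith
  have hzero : ∑ g : G, (Complex.normSq (ρ.character g) - Complex.normSq (θ g)) = 0 :=
    le_antisymm hdiff_sum (Finset.sum_nonneg hdiff_nonneg)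
  have hx0 := (Finset.sum_eq_zero_iff_of_nonneg hdiff_nonneg).1 hzero x (Finset.mem_univ x)
  rw [hθ] at hx0
  simp only at hx0
  rw [if_pos hx, map_zero, sub_zero] at hx0
  exact Complex.normSq_eq_zero.1 hx0

end Cfsg.Agent.Lib.helper3.BrauerInd
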