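import Mathlib
import Cfsg.Prelude.Def_Blocks
import Cfsg.Prelude.Def_BlockRank
import Cfsg.Agent.Lib.helper3.DefectZero
import Cfsg.Agent.Lib.helper3.BlockIdem2

/-!
# The pairing of characters on the `p`-regular elements
-/

set_option autoImplicit false
set_option linter.style.haveILetI false

namespace Cfsg.Agent.Lib.helper3.Block

open Cfsg Cfsg.Agent.Lib.helper3.LocalM Cfsg.Agent.Lib.helper3.Irr
open Cfsg.Agent.Lib.helper3.CharBasic Cfsg.Agent.Lib.helper3.Lin Cfsg.Agent.Lib.helper3.Central
open Cfsg.Agent.Lib.helper3.IndFun Cfsg.Agent.Lib.helper3.BrauerInd Cfsg.Agent.Lib.helper3.HallNilp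
open scoped ComplexConjugate

universe u

variable {G : Type u} [Group G] [Fintype G] {M : Ideal AlgInt}

/-- The pairing of two functions over the `p`-regular elements. -/
noncomputable def regPair (p : ℕ) (χ ψ : G → ℂ) : ℂ :=
  ∑ g : G, if p ∣ orderOf g then 0 else χ g * conj (ψ g)

theorem regPair_conj (p : ℕ) (χ ψ : G → ℂ) : conj (regPair p χ ψ) = regPair p ψ χ := by
  unfold regPair
  rw [map_sum]
  apply Finset.sum_congr rfl
  intro g _
  by_cases h : p ∣ orderOf g
  · rw [if_pos h, if_pos h, map_zero]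
  · rw [if_neg h, if_neg h, map_mul, Complex.conj_conj, mul_comm]

/-- `p^a` times the `p`-regular pairing of a character with an irreducible character is an
integer multiple of the group order. -/
theorem regPair_int (p : ℕ) [hp : Fact p.Prime] {χ : G → ℂ} (hχ : IsCharacter G χ)
    (ψ : IrrCharacter G) (a : ℕ) (ha : ∀ j : ℕ, p ^ j ∣ Nat.card G → j ≤ a) :
    ∃ k : ℤ, ((p ^ a : ℕ) : ℂ) * regPair p χ (ψ : G → ℂ) = (Nat.card G : ℂ) * (k : ℂ) := by
  classical
  have hΦ := pregular_part_generalized p χ hχ a ha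
  obtain ⟨z, hz⟩ := exists_int_decomposition hΦ
  have hinner : classInner (fun x => if p ∣ orderOf x then 0 else ((p ^ a : ℕ) : ℂ) * χ x)
      (ψ : G → ℂ) = (z ψ : ℂ) := by
    rw [hz]
    exact classInner_decomposition_left (fun ψ => (z ψ : ℂ)) ψ
  rw [classInner_apply] at hinner
  have hGC : (Nat.card G : ℂ) ≠ 0 := card_ne_zero_complex G
  refine ⟨z ψ, ?_⟩
  rw [← hinner]
  unfold regPair
  rw [Finset.mul_sum]
  field_simp
  apply Finset.sum_congr rfl
  intro g _
  by_cases h : p ∣ orderOf g
  · rw [if_pos h, if_pos h]; ring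
  · rw [if_neg h, if_neg h]; ring

/-- The `p`-regular pairing of an irreducible character `χ` with a character, divided by
`χ(1)`, is an algebraic integer. -/
theorem isIntegral_regPair_div (p : ℕ) (χ : IrrCharacter G) {ψ : G → ℂ} (hψ : IsCharacter G ψ) :
    IsIntegral ℤ (regPair p (χ : G → ℂ) ψ / (χ : G → ℂ) 1) := by
  classical
  obtain ⟨d, ρ, hirr, hρ⟩ := χ.2
  haveI := hirr
  obtain ⟨F, hF⟩ : ∃ F : G → ℂ, F = fun g => if p ∣ orderOf g then 0 else conj (ψ g) :=
    ⟨_, rfl⟩
  have hψcf := isClassFunction_of_isCharacter hψ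
  have hFcl : ∀ g h : G, F (h * g * h⁻¹) = F g := by
    intro g h
    rw [hF]
    simp only
    rw [orderOf_conj', hψcf g h]
  have hFint : ∀ g, IsIntegral ℤ (F g) := by
    intro g
    rw [hF]
    simp only
    by_cases hg : p ∣ orderOf g
    · rw [if_pos hg]; exact isIntegral_zero
    · rw [if_neg hg]
      rw [← isCharacter_apply_inv hψ]
      exact isIntegral_of_isCharacter hψ g⁻¹
  have hint := isIntegral_sum_class_div ρ F hFcl hFint
  have h1 : (χ : G → ℂ) 1 = (Module.finrank ℂ (Fin d → ℂ) : ℂ) := by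
    rw [← hρ]
    exact Representation.char_one ρ
  have h2 : regPair p (χ : G → ℂ) ψ = ∑ g : G, ρ.character g * F g := by
    unfold regPair
    apply Finset.sum_congr rfl
    intro g _
    rw [hF, hρ]
    simp only
    by_cases h : p ∣ orderOf g
    · rw [if_pos h, if_pos h, mul_zero]
    · rw [if_neg h, if_neg h]
  rw [h1, h2]
  exact hint

end Cfsg.Agent.Lib.helper3.Block
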