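import Mathlib
import Cfsg.Prelude.Def_Blocks
import Cfsg.Agent.Lib.helper3.CentralDefect1
import Cfsg.Agent.Lib.helper3.CentralChar

/-!
# Counting over the sections of a central `p`-subgroup
-/

set_option autoImplicit false
set_option linter.style.haveILetI false
set_option linter.unusedSectionVars false

namespace Cfsg.Agent.Lib.helper3.Block

open Cfsg Cfsg.Agent.Lib.helper3.LocalM Cfsg.Agent.Lib.helper3.Irr
open Cfsg.Agent.Lib.helper3.CharBasic Cfsg.Agent.Lib.helper3.Lin Cfsg.Agent.Lib.helper3.Central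
open Cfsg.Agent.Lib.helper3.IndFun
open scoped ComplexConjugate

universe u

variable {G : Type u} [Group G] [Fintype G] {M : Ideal AlgInt}

/-- An element of `p`-power order that is a product of two commuting `p`-regular elements is
trivial. -/
theorem eq_one_of_ppow_of_preg {p : ℕ} (hp : p.Prime) {u s t : G} {k : ℕ} (hu : u ^ (p ^ k) = 1)
    (hst : Commute s t) (hs : ¬ p ∣ orderOf s) (ht : ¬ p ∣ orderOf t) (h : u = s * t) : u = 1 := by
  have h1 : orderOf u ∣ p ^ k := orderOf_dvd_of_pow_eq_one hu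
  have h2 : orderOf u ∣ Nat.lcm (orderOf s) (orderOf t) := by
    rw [h]
    exact hst.orderOf_mul_dvd_lcm
  obtain ⟨j, _, hj⟩ := (Nat.dvd_prime_pow hp).1 h1
  rcases Nat.eq_zero_or_pos j with h0 | h0
  · rw [h0, pow_zero] at hj
    exact orderOf_eq_one_iff.mp hj
  · exfalso
    have h3 : p ∣ orderOf u := by
      rw [hj]
      exact dvd_pow_self p h0.ne'
    have h4 : p ∣ orderOf s * orderOf t :=
      dvd_trans (dvd_trans h3 h2) (Nat.lcm_dvd_mul _ _)
    rcases (Nat.Prime.dvd_mul hp).1 h4 with h5 | h5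
    · exact hs h5
    · exact ht h5

/-- Multiplication `D × {p-regular} → G` is injective for a central `p`-subgroup `D`. -/
theorem central_mul_injective {p : ℕ} (hp : p.Prime) (D : Subgroup G) (hD : IsPGroup p D)
    (hDZ : D ≤ Subgroup.center G) {d d' : D} {s s' : G} (hs : ¬ p ∣ orderOf s)
    (hs' : ¬ p ∣ orderOf s') (h : (d : G) * s = (d' : G) * s') : d = d' ∧ s = s' := by
  obtain ⟨k, hk⟩ := hD (d'⁻¹ * d)
  have hz : ((d'⁻¹ * d : D) : G) ∈ Subgroup.center G := hDZ (d'⁻¹ * d).2
  have hzc : ∀ g : G, g * ((d'⁻¹ * d : D) : G) = ((d'⁻¹ * d : D) : G) * g :=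
    fun g => Subgroup.mem_center_iff.mp hz g
  have e1 : ((d'⁻¹ * d : D) : G) = s' * s⁻¹ := by
    have : s' = ((d'⁻¹ * d : D) : G) * s := by
      rw [Subgroup.coe_mul, Subgroup.coe_inv, mul_assoc, h, inv_mul_cancel_left]
    rw [this, mul_inv_cancel_right]
  have hcomm : Commute s' s⁻¹ := by
    have h5 : s' = ((d'⁻¹ * d : D) : G) * s := by
      rw [e1, inv_mul_cancel_right]
    have h6 : Commute s' s := by
      show s' * s = s * s'
      rw [h5, mul_assoc, ← hzc (s * s)]
      rw [mul_assoc, hzc s]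
    exact h6.inv_right
  have hk' : ((d'⁻¹ * d : D) : G) ^ (p ^ k) = 1 := by
    rw [← Subgroup.coe_pow, hk]; rfl
  have hone := eq_one_of_ppow_of_preg hp hk' hcomm hs' (by rwa [orderOf_inv]) e1
  have hdd : d = d' := by
    have : d'⁻¹ * d = 1 := Subtype.ext hone
    rw [inv_mul_eq_one] at this
    exact this.symm
  refine ⟨hdd, ?_⟩
  rw [hdd] at h
  exact mul_left_cancel h

/-- For a central element `z`, `χ (z * g)` has the same squared norm as `χ g`. -/
theorem normSq_apply_central_mul (χ : IrrCharacter G) (z : G) (hz : z ∈ Subgroup.center G)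
    (g : G) : Complex.normSq ((χ : G → ℂ) (z * g)) = Complex.normSq ((χ : G → ℂ) g) := by
  obtain ⟨d, ρ, hirr, hρ⟩ := χ.2
  haveI := hirr
  obtain ⟨c, hc⟩ := exists_scalar_of_central ρ z hz
  have h1 : (χ : G → ℂ) (z * g) = c * (χ : G → ℂ) g := by
    rw [← hρ]
    simp only [Representation.character, map_mul, hc]
    rw [smul_mul_assoc, map_smul, smul_eq_mul]
    rfl
  have hn : c ^ orderOf z = 1 := by
    have h2 : ρ (z ^ orderOf z) = ρ z ^ orderOf z := map_pow ρ z _
    rw [pow_orderOf_eq_one, map_one, hc, smul_pow] at h2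
    have h3 : (LinearMap.id : (Fin d → ℂ) →ₗ[ℂ] (Fin d → ℂ)) ^ orderOf z = 1 := by
      have : (LinearMap.id : (Fin d → ℂ) →ₗ[ℂ] (Fin d → ℂ)) = 1 := rfl
      rw [this, one_pow]
    rw [h3] at h2
    haveI hnt := nontrivial_of_irreducible ρ
    obtain ⟨v, hv⟩ := exists_ne (0 : Fin d → ℂ)
    have h4 := congrArg (fun f : (Fin d → ℂ) →ₗ[ℂ] (Fin d → ℂ) => f v) h2
    simp only [Module.End.one_apply, LinearMap.smul_apply] at h4
    have h5 : (1 : ℂ) • v = (c ^ orderOf z) • v := by rw [one_smul]; exact h4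
    exact (smul_left_injective ℂ hv h5).symm
  have hnorm : ‖c‖ = 1 := Complex.norm_eq_one_of_pow_eq_one hn (orderOf_pos z).ne'
  rw [h1, Complex.normSq_mul, Complex.normSq_eq_norm_sq c, hnorm]
  ring

/-- The sum of squared norms over the `p`-regular elements. -/
noncomputable def regNorm (p : ℕ) (χ : G → ℂ) : ℝ :=
  ∑ g : G, if p ∣ orderOf g then 0 else Complex.normSq (χ g)

theorem regPair_self (p : ℕ) (χ : G → ℂ) : regPair p χ χ = ((regNorm p χ : ℝ) : ℂ) := by
  unfold regPair regNorm
  push_cast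
  apply Finset.sum_congr rfl
  intro g _
  by_cases h : p ∣ orderOf g
  · rw [if_pos h, if_pos h, Complex.ofReal_zero]
  · rw [if_neg h, if_neg h, Complex.mul_conj]

theorem regNorm_nonneg (p : ℕ) (χ : G → ℂ) : 0 ≤ regNorm p χ := by
  unfold regNorm
  apply Finset.sum_nonneg
  intro g _
  split_ifs
  · exact le_refl _
  · exact Complex.normSq_nonneg _

theorem sum_normSq_eq_card (χ : IrrCharacter G) :
    ∑ g : G, Complex.normSq ((χ : G → ℂ) g) = (Nat.card G : ℝ) := by
  have h1 := irr_classInner_eq χ.2 χ.2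
  rw [if_pos rfl, classInner_apply] at h1
  have hGC : (Nat.card G : ℂ) ≠ 0 := card_ne_zero_complex G
  have h2 : ∑ g : G, (χ : G → ℂ) g * conj ((χ : G → ℂ) g) = (Nat.card G : ℂ) := by
    field_simp at h1
    exact h1
  have h3 : ((∑ g : G, Complex.normSq ((χ : G → ℂ) g) : ℝ) : ℂ) = ((Nat.card G : ℝ) : ℂ) := by
    push_cast
    rw [← h2]
    apply Finset.sum_congr rfl
    intro g _
    rw [Complex.mul_conj]
  exact_mod_cast h3

/-- Counting over the sections of a central `p`-subgroup `D`: `|D|` times the `p`-regular norm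
of an irreducible character is at most `|G|`, and in case of equality the character vanishes
off the elements `d * s` with `d ∈ D` and `s` `p`-regular. -/
theorem card_mul_regNorm_le {p : ℕ} (hp : p.Prime) (D : Subgroup G) (hD : IsPGroup p D)
    (hDZ : D ≤ Subgroup.center G) (χ : IrrCharacter G) :
    (Nat.card D : ℝ) * regNorm p (χ : G → ℂ) ≤ (Nat.card G : ℝ) ∧
    ((Nat.card D : ℝ) * regNorm p (χ : G → ℂ) = (Nat.card G : ℝ) →
      ∀ g : G, (∀ (d : D) (s : G), ¬ p ∣ orderOf s → (d : G) * s ≠ g) → (χ : G → ℂ) g = 0) := by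
  classical
  letI : Fintype D := Fintype.ofFinite D
  obtain ⟨T, hT⟩ : ∃ T : Finset (D × G), T = (Finset.univ : Finset D) ×ˢ
      (Finset.univ.filter fun s : G => ¬ p ∣ orderOf s) := ⟨_, rfl⟩
  obtain ⟨f, hf⟩ : ∃ f : D × G → G, f = fun x => (x.1 : G) * x.2 := ⟨_, rfl⟩
  have hinj : Set.InjOn f (T : Set (D × G)) := by
    intro x hx y hy hxy
    rw [hT] at hx hy
    simp only [Finset.coe_product, Finset.coe_univ, Finset.coe_filter, Finset.mem_univ, true_and,
      Set.mem_prod, Set.mem_univ, Set.mem_ofPred_eq] at hx hy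
    rw [hf] at hxy
    obtain ⟨h1, h2⟩ := central_mul_injective hp D hD hDZ hx hy hxy
    exact Prod.ext h1 h2
  have hsumT : ∑ x ∈ T, Complex.normSq ((χ : G → ℂ) (f x))
      = (Nat.card D : ℝ) * regNorm p (χ : G → ℂ) := by
    rw [hT, Finset.sum_product]
    have h1 : ∀ d ∈ (Finset.univ : Finset D),
        ∑ s ∈ Finset.univ.filter (fun s : G => ¬ p ∣ orderOf s),
          Complex.normSq ((χ : G → ℂ) (f (d, s))) = regNorm p (χ : G → ℂ) := by
      intro d _
      unfold regNorm
      rw [Finset.sum_filter]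
      apply Finset.sum_congr rfl
      intro s _
      by_cases h : p ∣ orderOf s
      · rw [if_pos h, if_neg (not_not.mpr h)]
      · rw [if_neg h, if_pos h, hf]
        exact normSq_apply_central_mul χ d (hDZ d.2) s
    rw [Finset.sum_congr rfl h1, Finset.sum_const, nsmul_eq_mul, Finset.card_univ,
      Nat.card_eq_fintype_card]
  have himg : ∑ g ∈ T.image f, Complex.normSq ((χ : G → ℂ) g)
      = (Nat.card D : ℝ) * regNorm p (χ : G → ℂ) := by
    rw [Finset.sum_image hinj, hsumT]
  have hle : ∑ g ∈ T.image f, Complex.normSq ((χ : G → ℂ) g)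
      ≤ ∑ g : G, Complex.normSq ((χ : G → ℂ) g) := by
    apply Finset.sum_le_sum_of_subset_of_nonneg (Finset.subset_univ _)
    intro g _ _
    exact Complex.normSq_nonneg _
  rw [himg, sum_normSq_eq_card] at hle
  refine ⟨hle, ?_⟩
  intro heq g hg
  have hsplit := Finset.sum_sdiff (f := fun g => Complex.normSq ((χ : G → ℂ) g))
    (Finset.subset_univ (T.image f))
  rw [himg, sum_normSq_eq_card, heq] at hsplit
  have hzero : ∑ g ∈ Finset.univ \ T.image f, Complex.normSq ((χ : G → ℂ) g) = 0 := by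
    linarith
  have hall := (Finset.sum_eq_zero_iff_of_nonneg (fun g _ => Complex.normSq_nonneg _)).1 hzero
  have hgmem : g ∈ Finset.univ \ T.image f := by
    rw [Finset.mem_sdiff]
    refine ⟨Finset.mem_univ _, ?_⟩
    intro hmem
    rw [Finset.mem_image] at hmem
    obtain ⟨x, hx, hxg⟩ := hmem
    rw [hT] at hx
    simp only [Finset.mem_product, Finset.mem_univ, Finset.mem_filter, true_and] at hx
    rw [hf] at hxg
    exact hg x.1 x.2 hx hxg
  have := hall g hgmem
  exact Complex.normSq_eq_zero.mp this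

end Cfsg.Agent.Lib.helper3.Block
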