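import Mathlib
import Cfsg.Prelude.Def_Blocks
import Cfsg.Agent.Lib.helper3.CentralDefect2
import Cfsg.Agent.Lib.helper3.DefectOrder

/-!
# Characters of central defect: the `p`-regular norm and vanishing
-/

set_option autoImplicit false
set_option linter.style.haveILetI false
set_option linter.unusedSectionVars false

namespace Cfsg.Agent.Lib.helper3.Block

open Cfsg Cfsg.Agent.Lib.helper3.LocalM Cfsg.Agent.Lib.helper3.Irr
open Cfsg.Agent.Lib.helper3.CharBasic Cfsg.Agent.Lib.helper3.Lin Cfsg.Agent.Lib.helper3.Central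
open Cfsg.Agent.Lib.helper3.IndFun
open scoped ComplexConjugate

universe u

variable {G : Type u} [Group G] [Fintype G] {M : Ideal AlgInt}

/-- The arithmetic of the group order relative to a `p`-subgroup `D`. -/
theorem index_eq_pow_mul_ordCompl {p : ℕ} (hp : p.Prime) (D : Subgroup G) (hD : IsPGroup p D) :
    D.index = p ^ (D.index.factorization p) * (ordCompl[p] (Nat.card G)) := by
  haveI : Fact p.Prime := ⟨hp⟩
  obtain ⟨d, hd⟩ := hD.exists_card_eq
  have hn0 : Nat.card G ≠ 0 := Nat.card_pos.ne'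
  have hi0 : D.index ≠ 0 := Subgroup.index_ne_zero_of_finite
  have h1 : Nat.card D * D.index = Nat.card G := Subgroup.card_mul_index D
  have h2 : ordCompl[p] (Nat.card G) = ordCompl[p] D.index := by
    rw [← h1, hd]
    rw [Nat.ordCompl_mul, Nat.ordCompl_self_pow hp, one_mul]
  rw [h2]
  exact (Nat.ordProj_mul_ordCompl_eq_self D.index p).symm

/-- The `p`-regular pairing with an irreducible character is the `p'`-part of `|G|` times an
integer. -/
theorem regPair_eq_ordCompl_mul (p : ℕ) [hp : Fact p.Prime] {χ : G → ℂ} (hχ : IsCharacter G χ)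
    (ψ : IrrCharacter G) :
    ∃ k : ℤ, regPair p χ (ψ : G → ℂ) = ((ordCompl[p] (Nat.card G) : ℕ) : ℂ) * (k : ℂ) := by
  have hn0 : Nat.card G ≠ 0 := Nat.card_pos.ne'
  have ha : ∀ j : ℕ, p ^ j ∣ Nat.card G → j ≤ (Nat.card G).factorization p := by
    intro j hj
    exact (hp.out.pow_dvd_iff_le_factorization hn0).1 hj
  obtain ⟨k, hk⟩ := regPair_int p hχ ψ _ ha
  refine ⟨k, ?_⟩
  have h1 : (Nat.card G : ℂ) = ((p ^ (Nat.card G).factorization p : ℕ) : ℂ)
      * ((ordCompl[p] (Nat.card G) : ℕ) : ℂ) := by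
    rw [← Nat.cast_mul, Nat.ordProj_mul_ordCompl_eq_self]
  rw [h1, mul_assoc] at hk
  have hp0 : ((p ^ (Nat.card G).factorization p : ℕ) : ℂ) ≠ 0 := by
    exact_mod_cast (pow_pos hp.out.pos _).ne'
  exact mul_left_cancel₀ hp0 hk

/-- If the `p`-regular pairing of the irreducible `χ` with a character is an integer, then
`χ(1)` divides it. -/
theorem degree_dvd_of_regPair (p : ℕ) (χ : IrrCharacter G) {ψ : G → ℂ} (hψ : IsCharacter G ψ)
    (deg : ℕ) (hdeg : (χ : G → ℂ) 1 = deg) (hdeg0 : 0 < deg) (m : ℤ)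
    (h : regPair p (χ : G → ℂ) ψ = (m : ℂ)) : (deg : ℤ) ∣ m := by
  have hint := isIntegral_regPair_div p χ hψ
  have hdC : (deg : ℂ) ≠ 0 := by exact_mod_cast hdeg0.ne'
  apply Cfsg.Agent.Lib.helper3.AlgInt.int_dvd_of_eq_mul_isIntegral hint
  · rw [h, hdeg]
    push_cast
    field_simp
  · exact_mod_cast hdeg0.ne'

theorem regNorm_pos (p : ℕ) [hp : Fact p.Prime] (χ : IrrCharacter G) :
    0 < regNorm p (χ : G → ℂ) := by
  classical
  have h1 : (if p ∣ orderOf (1 : G) then 0 else Complex.normSq ((χ : G → ℂ) 1))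
      ≤ regNorm p (χ : G → ℂ) := by
    unfold regNorm
    apply Finset.single_le_sum (f := fun g : G =>
      if p ∣ orderOf g then (0 : ℝ) else Complex.normSq ((χ : G → ℂ) g))
    · intro g _
      split_ifs
      · exact le_refl _
      · exact Complex.normSq_nonneg _
    · exact Finset.mem_univ _
  rw [orderOf_one, if_neg hp.out.not_dvd_one] at h1
  have h2 : 0 < Complex.normSq ((χ : G → ℂ) 1) :=
    Complex.normSq_pos.mpr (apply_one_ne_zero χ.2)
  linarith

/-- **The `p`-regular norm of a character of central defect.** -/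
theorem regNorm_eq_index {p : ℕ} [hp : Fact p.Prime] (D : Subgroup G) (hD : IsPGroup p D)
    (hDZ : D ≤ Subgroup.center G) (χ : IrrCharacter G)
    (hdeg : (charDegree (χ : G → ℂ)).factorization p = D.index.factorization p) :
    regNorm p (χ : G → ℂ) = (D.index : ℝ) := by
  obtain ⟨deg, hdpos, hd1⟩ := exists_pos_nat_apply_one χ.2
  have hcd : charDegree (χ : G → ℂ) = deg := charDegree_eq hd1
  rw [hcd] at hdeg
  obtain ⟨k, hk⟩ := regPair_eq_ordCompl_mul p (isCharacter_of_isIrrCharacter χ.2) χ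
  obtain ⟨n', hn'⟩ : ∃ n' : ℕ, n' = ordCompl[p] (Nat.card G) := ⟨_, rfl⟩
  rw [← hn'] at hk
  have hn'pos : 0 < n' := by
    rw [hn']
    exact Nat.ordCompl_pos p Nat.card_pos.ne'
  have hpn' : ¬ p ∣ n' := by
    rw [hn']
    exact Nat.not_dvd_ordCompl hp.out Nat.card_pos.ne'
  have hSC : ((regNorm p (χ : G → ℂ) : ℝ) : ℂ) = (((n' : ℝ) * (k : ℝ) : ℝ) : ℂ) := by
    rw [← regPair_self, hk]
    push_cast
    ring
  have hS : regNorm p (χ : G → ℂ) = (n' : ℝ) * (k : ℝ) := Complex.ofReal_injective hSC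
  have hdvd : (deg : ℤ) ∣ (n' : ℤ) * k := by
    apply degree_dvd_of_regPair p χ (isCharacter_of_isIrrCharacter χ.2) deg hd1 hdpos
    rw [hk]
    push_cast
    ring
  obtain ⟨e, he⟩ : ∃ e : ℕ, e = D.index.factorization p := ⟨_, rfl⟩
  rw [← he] at hdeg
  have hpe : (p ^ e : ℕ) ∣ deg := by
    rw [← hdeg]
    exact Nat.ordProj_dvd deg p
  have hpek : ((p ^ e : ℕ) : ℤ) ∣ k := by
    have h1 : ((p ^ e : ℕ) : ℤ) ∣ (n' : ℤ) * k :=
      dvd_trans (Int.natCast_dvd_natCast.mpr hpe) hdvd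
    have hcop : IsCoprime ((p ^ e : ℕ) : ℤ) (n' : ℤ) := by
      rw [Nat.isCoprime_iff_coprime]
      exact Nat.Coprime.pow_left e ((Nat.Prime.coprime_iff_not_dvd hp.out).2 hpn')
    exact hcop.dvd_of_dvd_mul_left h1
  have hSpos := regNorm_pos p χ
  have hkpos : 0 < k := by
    rw [hS] at hSpos
    have h1 : (0 : ℝ) < (n' : ℝ) := by exact_mod_cast hn'pos
    have h2 : (0 : ℝ) < (k : ℝ) := by
      by_contra hneg
      push Not at hneg
      nlinarith
    exact_mod_cast h2
  have hkge : ((p ^ e : ℕ) : ℤ) ≤ k := Int.le_of_dvd hkpos hpek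
  have hidx : D.index = p ^ e * n' := by
    rw [he, hn']
    exact index_eq_pow_mul_ordCompl hp.out D hD
  have hlow : (D.index : ℝ) ≤ regNorm p (χ : G → ℂ) := by
    rw [hS, hidx]
    have h1 : ((p ^ e : ℕ) : ℝ) ≤ (k : ℝ) := by exact_mod_cast hkge
    have h2 : (0 : ℝ) ≤ (n' : ℝ) := by exact_mod_cast hn'pos.le
    push_cast at h1 ⊢
    nlinarith
  have hup := (card_mul_regNorm_le hp.out D hD hDZ χ).1
  have hcard : (Nat.card G : ℝ) = (Nat.card D : ℝ) * (D.index : ℝ) := by
    rw [← Nat.cast_mul, Subgroup.card_mul_index]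
  rw [hcard] at hup
  have hDpos : (0 : ℝ) < (Nat.card D : ℝ) := by exact_mod_cast Nat.card_pos
  have hup' : regNorm p (χ : G → ℂ) ≤ (D.index : ℝ) := le_of_mul_le_mul_left hup hDpos
  exact le_antisymm hup' hlow

/-- **Vanishing of a character of central defect** off the sections of `D`. -/
theorem apply_eq_zero_of_central_defect {p : ℕ} [hp : Fact p.Prime] (D : Subgroup G)
    (hD : IsPGroup p D) (hDZ : D ≤ Subgroup.center G) (χ : IrrCharacter G)
    (hdeg : (charDegree (χ : G → ℂ)).factorization p = D.index.factorization p) (g : G)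
    (hg : ∀ (d : D) (s : G), ¬ p ∣ orderOf s → (d : G) * s ≠ g) : (χ : G → ℂ) g = 0 := by
  apply (card_mul_regNorm_le hp.out D hD hDZ χ).2 _ g hg
  rw [regNorm_eq_index D hD hDZ χ hdeg, ← Nat.cast_mul, Subgroup.card_mul_index]

end Cfsg.Agent.Lib.helper3.Block
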