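import Mathlib
import Cfsg.Prelude.Def_Blocks
import Cfsg.Agent.Lib.helper3.CentralDefect3
import Cfsg.Agent.Lib.helper3.NilCentral

/-!
# Blocks containing a character of central defect
-/

set_option autoImplicit false
set_option linter.style.haveILetI false
set_option linter.unusedSectionVars false

namespace Cfsg.Agent.Lib.helper3.Block

open Cfsg Cfsg.Agent.Lib.helper3.LocalM Cfsg.Agent.Lib.helper3.Irr
open Cfsg.Agent.Lib.helper3.CharBasic Cfsg.Agent.Lib.helper3.Lin Cfsg.Agent.Lib.helper3.Central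
open Cfsg.Agent.Lib.helper3.IndFun Cfsg.Agent.Lib.helper3.HallNilp
open scoped ComplexConjugate

universe u

variable {G : Type u} [Group G] [Fintype G] {M : Ideal AlgInt}

/-- Characters in the same block have congruent `p`-regular pairings, after division by the
degrees. -/
theorem memLocalIdeal_regPair_div_sub {p : ℕ} (hM : IsPModular p M) (χ ψ : IrrCharacter G)
    (hsame : SameBlock M (χ : G → ℂ) (ψ : G → ℂ)) {φ : G → ℂ} (hφ : IsCharacter G φ) :
    MemLocalIdeal M (regPair p (χ : G → ℂ) φ / (χ : G → ℂ) 1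
      - regPair p (ψ : G → ℂ) φ / (ψ : G → ℂ) 1) := by
  classical
  haveI hMp := isPrime_of_isPModular hM
  obtain ⟨F, hF⟩ : ∃ F : G → ℂ, F = fun g => if p ∣ orderOf g then 0 else conj (φ g) :=
    ⟨_, rfl⟩
  have hφcf := isClassFunction_of_isCharacter hφ
  have hχcf := isClassFunction_of_isCharacter (isCharacter_of_isIrrCharacter χ.2)
  have hψcf := isClassFunction_of_isCharacter (isCharacter_of_isIrrCharacter ψ.2)
  have hFcl : ∀ g h : G, F (h * g * h⁻¹) = F g := by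
    intro g h
    rw [hF]
    simp only
    rw [orderOf_conj', hφcf g h]
  have hFint : ∀ g, IsIntegral ℤ (F g) := by
    intro g
    rw [hF]
    simp only
    by_cases hg : p ∣ orderOf g
    · rw [if_pos hg]; exact isIntegral_zero
    · rw [if_neg hg, ← isCharacter_apply_inv hφ]
      exact isIntegral_of_isCharacter hφ g⁻¹
  have hsum : regPair p (χ : G → ℂ) φ / (χ : G → ℂ) 1 - regPair p (ψ : G → ℂ) φ / (ψ : G → ℂ) 1
      = ∑ g : G, F g * ((χ : G → ℂ) g / (χ : G → ℂ) 1 - (ψ : G → ℂ) g / (ψ : G → ℂ) 1) := by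
    unfold regPair
    rw [Finset.sum_div, Finset.sum_div, ← Finset.sum_sub_distrib]
    apply Finset.sum_congr rfl
    intro g _
    rw [hF]
    simp only
    by_cases h : p ∣ orderOf g
    · simp only [if_pos h]; ring
    · simp only [if_neg h]; ring
  rw [hsum]
  apply memLocalIdeal_sum_class_fun
  · intro g h
    rw [hFcl, hχcf g h, hψcf g h]
  · intro g
    have h1 := memLocalIdeal_mul_integral (hsame g) (hFint g)
    have h2 : F g * (centralChar (χ : G → ℂ) g - centralChar (ψ : G → ℂ) g)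
        = ((Subgroup.centralizer ({g} : Set G)).index : ℂ) *
          (F g * ((χ : G → ℂ) g / (χ : G → ℂ) 1 - (ψ : G → ℂ) g / (ψ : G → ℂ) 1)) := by
      unfold centralChar
      ring
    rw [← h2]
    exact h1

/-- A ratio of naturals with numerator prime to `p` is outside the local ideal. -/
theorem not_memLocalIdeal_of_mul_eq {p : ℕ} (hM : IsPModular p M) {u : ℂ} (c i : ℕ)
    (hi : ¬ p ∣ i) (h : (c : ℂ) * u = (i : ℂ)) : ¬ MemLocalIdeal M u := by
  haveI hMp := isPrime_of_isPModular hM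
  intro hu
  have h1 := memLocalIdeal_mul_integral hu (c := (c : ℂ)) (isIntegral_algebraMap (x := (c : ℤ)))
  rw [h] at h1
  have h2 : MemLocalIdeal M (((i : AlgInt) : AlgInt) : ℂ) := by
    convert h1 using 1
    simp
  have h3 := mem_of_memLocalIdeal h2
  exact hi ((natCast_mem_iff hM i).1 h3)

theorem isCoprime_pow_of_not_dvd {p : ℕ} (hp : p.Prime) (e : ℕ) (w : ℤ) (h : ¬ (p : ℤ) ∣ w) :
    IsCoprime ((p ^ e : ℕ) : ℤ) w := by
  have h1 : ¬ p ∣ w.natAbs := fun h' => h (Int.natCast_dvd.mpr h')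
  have h2 : Nat.Coprime (p ^ e) w.natAbs :=
    Nat.Coprime.pow_left e ((Nat.Prime.coprime_iff_not_dvd hp).2 h1)
  rw [Int.isCoprime_iff_gcd_eq_one]
  rw [Int.gcd_eq_natAbs, Int.natAbs_natCast]
  exact h2

/-- **Characters in the block of a character of central defect.** -/
theorem exists_regPair_of_sameBlock {p : ℕ} [hp : Fact p.Prime] (hM : IsPModular p M)
    (D : Subgroup G) (hD : IsPGroup p D) (hDZ : D ≤ Subgroup.center G) (χ : IrrCharacter G)
    (hdeg : (charDegree (χ : G → ℂ)).factorization p = D.index.factorization p)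
    (ψ : IrrCharacter G) (hs : SameBlock M (χ : G → ℂ) (ψ : G → ℂ)) :
    ∃ k : ℤ, k ≠ 0 ∧ regPair p (ψ : G → ℂ) (χ : G → ℂ) = (D.index : ℂ) * (k : ℂ) ∧
      p ^ (D.index.factorization p) ∣ charDegree (ψ : G → ℂ) := by
  haveI hMp := isPrime_of_isPModular hM
  have hMtop : M ≠ ⊤ := hM.2.1.ne_top
  have hχc := isCharacter_of_isIrrCharacter χ.2
  have hψc := isCharacter_of_isIrrCharacter ψ.2
  obtain ⟨deg, hdpos, hd1⟩ := exists_pos_nat_apply_one χ.2
  have hcd : charDegree (χ : G → ℂ) = deg := charDegree_eq hd1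
  obtain ⟨dψ, hdψpos, hdψ1⟩ := exists_pos_nat_apply_one ψ.2
  have hcdψ : charDegree (ψ : G → ℂ) = dψ := charDegree_eq hdψ1
  rw [hcd] at hdeg
  rw [hcdψ]
  obtain ⟨e, he⟩ : ∃ e : ℕ, e = D.index.factorization p := ⟨_, rfl⟩
  rw [← he] at hdeg ⊢
  obtain ⟨n', hn'⟩ : ∃ n' : ℕ, n' = ordCompl[p] (Nat.card G) := ⟨_, rfl⟩
  have hpn' : ¬ p ∣ n' := by
    rw [hn']
    exact Nat.not_dvd_ordCompl hp.out Nat.card_pos.ne'
  have hidx : D.index = p ^ e * n' := by
    rw [he, hn']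
    exact index_eq_pow_mul_ordCompl hp.out D hD
  obtain ⟨k', hk'⟩ := regPair_eq_ordCompl_mul p hψc χ
  rw [← hn'] at hk'
  have hconj : regPair p (χ : G → ℂ) (ψ : G → ℂ) = (n' : ℂ) * (k' : ℂ) := by
    rw [← regPair_conj, hk', map_mul, map_natCast, map_intCast]
  have hdvd : (deg : ℤ) ∣ (n' : ℤ) * k' := by
    apply degree_dvd_of_regPair p χ hψc deg hd1 hdpos
    rw [hconj]
    push_cast
    ring
  have hpe : (p ^ e : ℕ) ∣ deg := by
    rw [← hdeg]
    exact Nat.ordProj_dvd deg p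
  have hpek : ((p ^ e : ℕ) : ℤ) ∣ k' := by
    have h1 : ((p ^ e : ℕ) : ℤ) ∣ (n' : ℤ) * k' :=
      dvd_trans (Int.natCast_dvd_natCast.mpr hpe) hdvd
    have hcop : IsCoprime ((p ^ e : ℕ) : ℤ) (n' : ℤ) := by
      rw [Nat.isCoprime_iff_coprime]
      exact Nat.Coprime.pow_left e ((Nat.Prime.coprime_iff_not_dvd hp.out).2 hpn')
    exact hcop.dvd_of_dvd_mul_left h1
  obtain ⟨k, hk⟩ := hpek
  have hpair : regPair p (ψ : G → ℂ) (χ : G → ℂ) = (D.index : ℂ) * (k : ℂ) := by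
    rw [hk', hk, hidx]
    push_cast
    ring
  -- the congruence
  have hcong := memLocalIdeal_regPair_div_sub (p := p) hM χ ψ hs hχc
  have hdC : (deg : ℂ) ≠ 0 := by exact_mod_cast hdpos.ne'
  have hdψC : (dψ : ℂ) ≠ 0 := by exact_mod_cast hdψpos.ne'
  have hu : regPair p (χ : G → ℂ) (χ : G → ℂ) / (χ : G → ℂ) 1 = (D.index : ℂ) / (deg : ℂ) := by
    rw [regPair_self, regNorm_eq_index D hD hDZ χ (by rw [hcd, hdeg, he]), hd1]
    push_cast
    rfl
  obtain ⟨c', hc'⟩ : ∃ c' : ℕ, c' = ordCompl[p] deg := ⟨_, rfl⟩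
  have hdegfac : deg = p ^ e * c' := by
    rw [hc', ← hdeg]
    exact (Nat.ordProj_mul_ordCompl_eq_self deg p).symm
  have hunot : ¬ MemLocalIdeal M ((D.index : ℂ) / (deg : ℂ)) := by
    apply not_memLocalIdeal_of_mul_eq hM c' n' hpn'
    have hc'0 : (c' : ℂ) ≠ 0 := by
      intro h0
      apply hdC
      rw [hdegfac]
      push_cast
      rw [h0, mul_zero]
    have hp0 : ((p : ℂ) ^ e) ≠ 0 := by
      have : (p : ℂ) ≠ 0 := by exact_mod_cast hp.out.pos.ne'
      exact pow_ne_zero _ this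
    rw [hidx, hdegfac]
    push_cast
    field_simp
  rw [hu] at hcong
  have hwnot : ¬ MemLocalIdeal M (regPair p (ψ : G → ℂ) (χ : G → ℂ) / (ψ : G → ℂ) 1) := by
    intro hw
    apply hunot
    have := memLocalIdeal_add hcong hw
    rwa [sub_add_cancel] at this
  have hk0 : k ≠ 0 := by
    intro h0
    apply hwnot
    rw [hpair, h0]
    simp only [Int.cast_zero, mul_zero, zero_div]
    exact memLocalIdeal_zero hMtop
  refine ⟨k, hk0, hpair, ?_⟩
  have hdvdψ : (dψ : ℤ) ∣ (D.index : ℤ) * k := by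
    apply degree_dvd_of_regPair p ψ hχc dψ hdψ1 hdψpos
    rw [hpair]
    push_cast
    ring
  obtain ⟨w₀, hw₀⟩ := hdvdψ
  have hw : regPair p (ψ : G → ℂ) (χ : G → ℂ) / (ψ : G → ℂ) 1 = (w₀ : ℂ) := by
    rw [hpair, hdψ1]
    have : ((D.index : ℂ) * (k : ℂ)) = (dψ : ℂ) * (w₀ : ℂ) := by exact_mod_cast hw₀
    rw [this]
    field_simp
  rw [hw] at hwnot
  have hpw : ¬ (p : ℤ) ∣ w₀ := by
    intro hdiv
    apply hwnot
    have h1 := (intCast_mem_iff hM w₀).2 hdiv
    have h2 := memLocalIdeal_of_mem h1 hMtop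
    convert h2 using 1
    simp
  have hcop := isCoprime_pow_of_not_dvd hp.out e w₀ hpw
  have h3 : ((p ^ e : ℕ) : ℤ) ∣ (dψ : ℤ) * w₀ := by
    rw [← hw₀, hidx]
    push_cast
    exact ⟨(n' : ℤ) * k, by ring⟩
  have h4 : ((p ^ e : ℕ) : ℤ) ∣ (dψ : ℤ) := hcop.dvd_of_dvd_mul_right h3
  exact Int.natCast_dvd_natCast.mp h4

end Cfsg.Agent.Lib.helper3.Block
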