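import Mathlib
import Cfsg.Prelude.Def_Blocks
import Cfsg.Agent.Lib.helper3.CentralDefect4

/-!
# The defect group of a block containing a character of central defect
-/

set_option autoImplicit false
set_option linter.style.haveILetI false
set_option linter.unusedSectionVars false

namespace Cfsg.Agent.Lib.helper3.Block

open Cfsg Cfsg.Agent.Lib.helper3.LocalM Cfsg.Agent.Lib.helper3.Irr
open Cfsg.Agent.Lib.helper3.CharBasic Cfsg.Agent.Lib.helper3.Lin Cfsg.Agent.Lib.helper3.Central
open Cfsg.Agent.Lib.helper3.IndFun Cfsg.Agent.Lib.helper3.HallNilp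
open scoped ComplexConjugate

universe u

variable {G : Type u} [Group G] [Fintype G] {M : Ideal AlgInt}

theorem charDegree_ne_zero (ψ : IrrCharacter G) : charDegree (ψ : G → ℂ) ≠ 0 := by
  obtain ⟨dψ, hdψpos, hdψ1⟩ := exists_pos_nat_apply_one ψ.2
  rw [charDegree_eq hdψ1]
  exact hdψpos.ne'

/-- The defect of the block of a character of central defect. -/
theorem blockDefect_of_central_defect {p : ℕ} [hp : Fact p.Prime] (hM : IsPModular p M)
    (D : Subgroup G) (hD : IsPGroup p D) (hDZ : D ≤ Subgroup.center G) (χ : IrrCharacter G)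
    (hdeg : (charDegree (χ : G → ℂ)).factorization p = D.index.factorization p) :
    blockDefect p (blockOf M (χ : G → ℂ)) = (Nat.card D).factorization p := by
  haveI hMp := isPrime_of_isPModular hM
  have hMtop : M ≠ ⊤ := hM.2.1.ne_top
  have hχB : χ ∈ blockOf M (χ : G → ℂ) := sameBlock_refl hMtop _
  have hsInf : sInf ((fun ψ : IrrCharacter G => (charDegree (ψ : G → ℂ)).factorization p) ''
      blockOf M (χ : G → ℂ)) = D.index.factorization p := by
    apply le_antisymm
    · exact Nat.sInf_le ⟨χ, hχB, hdeg⟩
    · apply le_csInf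
      · exact ⟨_, ⟨χ, hχB, rfl⟩⟩
      rintro _ ⟨ψ, hψ, rfl⟩
      obtain ⟨k, _, _, hdvd⟩ := exists_regPair_of_sameBlock hM D hD hDZ χ hdeg ψ hψ
      exact (hp.out.pow_dvd_iff_le_factorization (charDegree_ne_zero ψ)).1 hdvd
  unfold blockDefect
  rw [hsInf]
  have h1 : Nat.card D * D.index = Nat.card G := Subgroup.card_mul_index D
  have h2 : (Nat.card G).factorization p
      = (Nat.card D).factorization p + D.index.factorization p := by
    rw [← h1, Nat.factorization_mul Nat.card_pos.ne' Subgroup.index_ne_zero_of_finite]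
    rfl
  rw [h2, Nat.add_sub_cancel]

/-- **A central `p`-subgroup `D` is a defect group of the block of a character whose degree has
the `p`-part of `|G : D|`.** -/
theorem isDefectGroup_of_central_defect {p : ℕ} [hp : Fact p.Prime] (hM : IsPModular p M)
    (D : Subgroup G) (hD : IsPGroup p D) (hDZ : D ≤ Subgroup.center G) (χ : IrrCharacter G)
    (hdeg : (charDegree (χ : G → ℂ)).factorization p = D.index.factorization p) :
    IsDefectGroup p M (blockOf M (χ : G → ℂ)) D := by
  haveI hMp := isPrime_of_isPModular hM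
  have hB : IsPBlock M (blockOf M (χ : G → ℂ)) := ⟨χ, rfl⟩
  obtain ⟨g, hg⟩ := exists_defectClass hM _ hB
  have hfac := factorization_centralizer_of_isDefectClass hM _ hB g hg
  rw [blockDefect_of_central_defect hM D hD hDZ χ hdeg] at hfac
  refine ⟨g, hg, ?_⟩
  have hDC : D ≤ Subgroup.centralizer ({g} : Set G) := by
    intro d hd
    rw [Subgroup.mem_centralizer_singleton_iff]
    exact (Subgroup.mem_center_iff.mp (hDZ hd) g).symm
  have hDp : IsPGroup p (D.subgroupOf (Subgroup.centralizer ({g} : Set G))) :=
    hD.comap_subtype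
  obtain ⟨P, hP⟩ := hDp.exists_le_sylow
  have hcardP : Nat.card P = p ^ (Nat.card (Subgroup.centralizer ({g} : Set G))).factorization p :=
    Sylow.card_eq_multiplicity P
  have hcardD : Nat.card (D.subgroupOf (Subgroup.centralizer ({g} : Set G))) = Nat.card D :=
    Nat.card_congr (Subgroup.subgroupOfEquivOfLe hDC).toEquiv
  have hcardD' : Nat.card D = p ^ (Nat.card D).factorization p := by
    obtain ⟨n, hn⟩ := hD.exists_card_eq
    rw [hn, Nat.Prime.factorization_pow hp.out]
    simp
  have heq : D.subgroupOf (Subgroup.centralizer ({g} : Set G)) = (P : Subgroup _) := by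
    apply Subgroup.eq_of_le_of_card_ge hP
    rw [hcardD, hcardP, hfac, ← hcardD']
  refine ⟨P, ?_⟩
  rw [← heq, Subgroup.map_subgroupOf_eq_of_le hDC]

end Cfsg.Agent.Lib.helper3.Block
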