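import Mathlib
import Cfsg.Prelude.Def_Characters
import Cfsg.Prelude.Def_Blocks
import Cfsg.Agent.Lib.helper3.BlockMinMax

/-!
# The min-max theorem for defect classes
-/

set_option autoImplicit false
set_option linter.style.haveILetI false
set_option linter.unusedSectionVars false

namespace Cfsg.Agent.Lib.helper3.Block

open Cfsg Module Cfsg.Agent.Lib.helper3.CharBasic Cfsg.Agent.Lib.helper3.Irr
open Cfsg.Agent.Lib.helper3.Central Cfsg.Agent.Lib.helper3.LocalM Cfsg.Agent.Lib.helper3.IndFun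
open scoped ComplexConjugate Pointwise

variable {G : Type*} [Group G] [Finite G]

/-- A `p`-subgroup of `C` lies in a `C`-conjugate of any given Sylow `p`-subgroup of `C`. -/
theorem exists_le_conj_sylow {p : ℕ} [Fact p.Prime] (C : Subgroup G) (D : Sylow p C)
    (P : Subgroup G) (hP : IsPGroup p P) (hPC : P ≤ C) :
    ∃ c ∈ C, P ≤ ((D : Subgroup C).map C.subtype).map (MulAut.conj c).toMonoidHom := by
  have hP' : IsPGroup p (P.subgroupOf C) := hP.comap_subtype
  obtain ⟨D', hD'⟩ := hP'.exists_le_sylow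
  obtain ⟨c, hc⟩ := MulAction.exists_smul_eq C D D'
  refine ⟨(c : G), c.2, ?_⟩
  intro q hq
  have hq' : (⟨q, hPC hq⟩ : C) ∈ (D' : Subgroup C) := by
    apply hD'
    rw [Subgroup.mem_subgroupOf]
    exact hq
  rw [← hc] at hq'
  have hq'' : (⟨q, hPC hq⟩ : C) ∈ MulAut.conj c • (D : Subgroup C) := by
    have e : ((c • D : Sylow p C) : Subgroup C) = MulAut.conj c • (D : Subgroup C) := by
      rw [Sylow.smul_def]; rfl
    rw [← e]
    exact hq'
  rw [Subgroup.mem_smul_pointwise_iff_exists] at hq''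
  obtain ⟨d, hd, hdq⟩ := hq''
  rw [Subgroup.mem_map]
  refine ⟨(d : G), Subgroup.mem_map.mpr ⟨d, hd, rfl⟩, ?_⟩
  have := congrArg Subtype.val hdq
  simp only [MulAut.smul_def, MulAut.conj_apply] at this
  simpa using this

/-- A `p`-subgroup of `C` lies in some Sylow `p`-subgroup of `C`. -/
theorem exists_le_sylow_map {p : ℕ} [Fact p.Prime] (C : Subgroup G)
    (P : Subgroup G) (hP : IsPGroup p P) (hPC : P ≤ C) :
    ∃ Q : Sylow p C, P ≤ (Q : Subgroup C).map C.subtype := by
  have hP' : IsPGroup p (P.subgroupOf C) := hP.comap_subtype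
  obtain ⟨Q, hQ⟩ := hP'.exists_le_sylow
  refine ⟨Q, ?_⟩
  intro q hq
  rw [Subgroup.mem_map]
  refine ⟨⟨q, hPC hq⟩, ?_, rfl⟩
  apply hQ
  rw [Subgroup.mem_subgroupOf]
  exact hq

theorem centralizer_conj_le (h t : G) (P : Subgroup G)
    (hP : P ≤ Subgroup.centralizer ({t * h * t⁻¹} : Set G)) :
    P.map (MulAut.conj t⁻¹).toMonoidHom ≤ Subgroup.centralizer ({h} : Set G) := by
  intro q hq
  obtain ⟨u, hu, rfl⟩ := Subgroup.mem_map.mp hq
  have h1 := hP hu
  rw [Subgroup.mem_centralizer_iff] at h1 ⊢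
  intro b hb
  rw [Set.mem_singleton_iff] at hb
  subst hb
  have h2 := h1 _ (Set.mem_singleton _)
  simp only [MulEquiv.coe_toMonoidHom, MulAut.conj_apply, inv_inv]
  calc b * (t⁻¹ * u * t) = t⁻¹ * ((t * b * t⁻¹) * u) * t := by group
    _ = t⁻¹ * (u * (t * b * t⁻¹)) * t := by rw [h2]
    _ = t⁻¹ * u * t * b := by group

variable {M : Ideal AlgInt}

/-- **The min-max theorem for defect classes.** -/
theorem min_max {p : ℕ} [Fact p.Prime] (hM : IsPModular p M) (B : Set (IrrCharacter G))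
    (hB : IsPBlock M B) (g : G) (hg : IsDefectClass M B g)
    (D : Sylow p (Subgroup.centralizer ({g} : Set G))) (h : G) :
    (¬ MemLocalIdeal M (blockCoeff B h) →
      ∃ (x : G) (Q : Sylow p (Subgroup.centralizer ({h} : Set G))),
        (Q : Subgroup (Subgroup.centralizer ({h} : Set G))).map
            (Subgroup.centralizer ({h} : Set G)).subtype
          ≤ ((D : Subgroup (Subgroup.centralizer ({g} : Set G))).map
            (Subgroup.centralizer ({g} : Set G)).subtype).map (MulAut.conj x).toMonoidHom) ∧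
    ((∃ χ ∈ B, ¬ MemLocalIdeal M (centralChar (χ : G → ℂ) h)) →
      ∃ (x : G) (Q : Sylow p (Subgroup.centralizer ({h} : Set G))),
        ((D : Subgroup (Subgroup.centralizer ({g} : Set G))).map
            (Subgroup.centralizer ({g} : Set G)).subtype).map (MulAut.conj x).toMonoidHom
          ≤ (Q : Subgroup (Subgroup.centralizer ({h} : Set G))).map
            (Subgroup.centralizer ({h} : Set G)).subtype) := by
  classical
  letI : Fintype G := Fintype.ofFinite G
  haveI hMp := isPrime_of_isPModular hM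
  have hMtop : M ≠ ⊤ := hM.2.1.ne_top
  obtain ⟨χ₀, hB'⟩ := id hB
  have hχ₀ : χ₀ ∈ B := by
    rw [hB']
    exact sameBlock_refl hMtop _
  constructor
  · intro hz
    obtain ⟨Q₀⟩ : Nonempty (Sylow p (Subgroup.centralizer ({h} : Set G))) := inferInstance
    obtain ⟨P, hPdef⟩ : ∃ P : Subgroup G, P = (Q₀ : Subgroup (Subgroup.centralizer
      ({h} : Set G))).map (Subgroup.centralizer ({h} : Set G)).subtype := ⟨_, rfl⟩
    have hP : IsPGroup p P := by rw [hPdef]; exact Q₀.2.map _
    have hPz : P ≤ Subgroup.centralizer ({h} : Set G) := by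
      rw [hPdef]
      exact Subgroup.map_subtype_le _
    obtain ⟨y, hy, hPy⟩ := exists_conj_centralized hM B hB g h ⟨χ₀, hχ₀, hg.2.2 χ₀ hχ₀⟩ hz P hP hPz
    obtain ⟨t, rfl⟩ := isConj_iff.mp hy
    have h1 := centralizer_conj_le g t P hPy
    have hP1 : IsPGroup p (P.map (MulAut.conj t⁻¹).toMonoidHom) := hP.map _
    obtain ⟨c, hc, hle⟩ := exists_le_conj_sylow (Subgroup.centralizer ({g} : Set G)) D _ hP1 h1
    refine ⟨t * c, Q₀, ?_⟩
    rw [← hPdef]
    intro q hq
    have hq1 : t⁻¹ * q * t ∈ P.map (MulAut.conj t⁻¹).toMonoidHom := by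
      rw [Subgroup.mem_map]
      exact ⟨q, hq, by simp⟩
    have hq2 := hle hq1
    rw [Subgroup.mem_map] at hq2 ⊢
    obtain ⟨d, hd, hdq⟩ := hq2
    refine ⟨d, hd, ?_⟩
    simp only [MulEquiv.coe_toMonoidHom, MulAut.conj_apply] at hdq ⊢
    calc t * c * d * (t * c)⁻¹ = t * (c * d * c⁻¹) * t⁻¹ := by group
      _ = t * (t⁻¹ * q * t) * t⁻¹ := by rw [hdq]
      _ = q := by group
  · intro hh
    obtain ⟨P, hPdef⟩ : ∃ P : Subgroup G, P = (D : Subgroup (Subgroup.centralizer
      ({g} : Set G))).map (Subgroup.centralizer ({g} : Set G)).subtype := ⟨_, rfl⟩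
    have hP : IsPGroup p P := by rw [hPdef]; exact D.2.map _
    have hPz : P ≤ Subgroup.centralizer ({g} : Set G) := by
      rw [hPdef]
      exact Subgroup.map_subtype_le _
    obtain ⟨y, hy, hPy⟩ := exists_conj_centralized hM B hB h g hh hg.2.1 P hP hPz
    obtain ⟨t, rfl⟩ := isConj_iff.mp hy
    have h1 := centralizer_conj_le h t P hPy
    have hP1 : IsPGroup p (P.map (MulAut.conj t⁻¹).toMonoidHom) := hP.map _
    obtain ⟨Q, hQ⟩ := exists_le_sylow_map (Subgroup.centralizer ({h} : Set G)) _ hP1 h1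
    refine ⟨t⁻¹, Q, ?_⟩
    rw [← hPdef]
    exact hQ

end Cfsg.Agent.Lib.helper3.Block
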