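import Mathlib
import Cfsg.Agent.Lib.helper3.BlockMinMax2

/-!
# Sylow subgroups of centralizers and the normalizer of the Sylow subgroup
-/

set_option autoImplicit false
set_option linter.style.haveILetI false
set_option linter.unusedSectionVars false

namespace Cfsg.Agent.Lib.helper3.Block

variable {G : Type*} [Group G]

/-- A `p`-subgroup maximal among the `p`-subgroups of `K ⊓ N_G(P)` is maximal among the
`p`-subgroups of `K`. -/
theorem eq_of_maximal_in_normalizer [Finite G] {p : ℕ} [hp : Fact p.Prime] (P : Subgroup G)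
    (K : Subgroup G)
    (hmax : ∀ Q : Subgroup G, IsPGroup p Q → P ≤ Q →
      Q ≤ K ⊓ Subgroup.normalizer (P : Set G) → Q = P)
    (Q : Subgroup G) (hQ : IsPGroup p Q) (hPQ : P ≤ Q) (hQK : Q ≤ K) : Q = P := by
  by_contra hne
  haveI : Group.IsNilpotent Q := hQ.isNilpotent
  have hnc := Group.normalizerCondition_of_isNilpotent (G := Q)
  have hlt : P.subgroupOf Q < ⊤ := by
    rw [lt_top_iff_ne_top]
    intro h
    apply hne
    apply le_antisymm _ hPQ
    intro q hq
    have : (⟨q, hq⟩ : Q) ∈ P.subgroupOf Q := by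
      rw [h]
      exact Subgroup.mem_top _
    rw [Subgroup.mem_subgroupOf] at this
    exact this
  have h1 := hnc _ hlt
  obtain ⟨y, hy, hyP⟩ := Set.exists_of_ssubset h1
  have hyP' : (y : G) ∉ P := by
    intro h
    apply hyP
    show y ∈ P.subgroupOf Q
    rw [Subgroup.mem_subgroupOf]
    exact h
  have hyN : (y : G) ∈ Subgroup.normalizer (P : Set G) := by
    have hy' : y ∈ Subgroup.normalizer ((P.subgroupOf Q : Subgroup Q) : Set Q) := hy
    rw [Subgroup.mem_normalizer_iff] at hy' ⊢
    intro h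
    constructor
    · intro hh
      have := (hy' ⟨h, hPQ hh⟩).mp (by rw [Subgroup.mem_subgroupOf]; exact hh)
      rw [Subgroup.mem_subgroupOf] at this
      exact this
    · intro hh
      have hhQ : h ∈ Q := by
        have := Q.mul_mem (Q.mul_mem (Q.inv_mem y.2) (hPQ hh)) y.2
        rwa [show (y : G)⁻¹ * ((y : G) * h * (y : G)⁻¹) * (y : G) = h by group] at this
      have := (hy' ⟨h, hhQ⟩).mpr (by rw [Subgroup.mem_subgroupOf]; exact hh)
      rw [Subgroup.mem_subgroupOf] at this
      exact this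
  have hR := hmax (P ⊔ Subgroup.zpowers (y : G))
    (hQ.to_le (sup_le hPQ (by rw [Subgroup.zpowers_le]; exact y.2))) le_sup_left
    (sup_le (le_inf (le_trans hPQ hQK) Subgroup.le_normalizer)
      (by
        rw [Subgroup.zpowers_le]
        exact ⟨hQK y.2, hyN⟩))
  apply hyP'
  rw [← hR]
  exact le_sup_right (α := Subgroup G) (Subgroup.mem_zpowers _)

/-- Two conjugates of `g` centralizing a Sylow subgroup `P` of `C_G(g)`: the conjugate is brought
back to `g` by an element of `N_G(P)`. -/
theorem exists_normalizer_conj [Finite G] {p : ℕ} [hp : Fact p.Prime] (g : G)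
    (S : Sylow p (Subgroup.centralizer ({g} : Set G))) (P : Subgroup G)
    (hSP : (S : Subgroup (Subgroup.centralizer ({g} : Set G))).map
      (Subgroup.centralizer ({g} : Set G)).subtype = P)
    (a : G) (hc : a * g * a⁻¹ ∈ Subgroup.centralizer (P : Set G)) :
    ∃ n ∈ Subgroup.normalizer (P : Set G), n * (a * g * a⁻¹) * n⁻¹ = g := by
  have hPp : IsPGroup p P := by
    rw [← hSP]
    exact S.2.map _
  have hPc : P ≤ Subgroup.centralizer ({a * g * a⁻¹} : Set G) := by
    intro u hu
    rw [Subgroup.mem_centralizer_singleton_iff]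
    exact (Subgroup.mem_centralizer_iff.mp hc) u hu
  have hle := centralizer_conj_le g a P hPc
  obtain ⟨z, hz, hzP⟩ := exists_le_conj_sylow (Subgroup.centralizer ({g} : Set G)) S
    (P.map (MulAut.conj a⁻¹).toMonoidHom) (hPp.map _) hle
  rw [hSP] at hzP
  have hcard : Nat.card (P.map (MulAut.conj z).toMonoidHom)
      ≤ Nat.card (P.map (MulAut.conj a⁻¹).toMonoidHom) := by
    rw [Subgroup.card_map_of_injective (MulAut.conj z).injective,
      Subgroup.card_map_of_injective (MulAut.conj a⁻¹).injective]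
  have heq := Subgroup.eq_of_le_of_card_ge hzP hcard
  have hmap : P.map (MulAut.conj (z⁻¹ * a⁻¹)).toMonoidHom = P := by
    have e1 : (MulAut.conj (z⁻¹ * a⁻¹)).toMonoidHom
        = (MulAut.conj z⁻¹).toMonoidHom.comp (MulAut.conj a⁻¹).toMonoidHom := by
      ext u
      simp [mul_assoc]
    rw [e1, ← Subgroup.map_map, heq, Subgroup.map_map]
    have e2 : (MulAut.conj z⁻¹).toMonoidHom.comp (MulAut.conj z).toMonoidHom
        = MonoidHom.id G := by
      ext u
      simp [mul_assoc]
    rw [e2, Subgroup.map_id]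
  refine ⟨z⁻¹ * a⁻¹, ?_, ?_⟩
  · rw [Subgroup.mem_normalizer_iff]
    intro h
    constructor
    · intro hh
      rw [← hmap]
      exact ⟨h, hh, rfl⟩
    · intro hh
      rw [← hmap] at hh
      obtain ⟨h', hh', he⟩ := hh
      have : h' = h := by
        have he' : (z⁻¹ * a⁻¹) * h' * (z⁻¹ * a⁻¹)⁻¹ = (z⁻¹ * a⁻¹) * h * (z⁻¹ * a⁻¹)⁻¹ := he
        exact mul_left_cancel (mul_right_cancel he')
      rw [← this]
      exact hh'
  · have hzg : z * g = g * z := by
      exact Subgroup.mem_centralizer_singleton_iff.mp hz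
    calc z⁻¹ * a⁻¹ * (a * g * a⁻¹) * (z⁻¹ * a⁻¹)⁻¹ = z⁻¹ * (g * z) := by group
      _ = z⁻¹ * (z * g) := by rw [hzg]
      _ = g := by group

end Cfsg.Agent.Lib.helper3.Block
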