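import Mathlib
import Cfsg.Prelude.Def_Blocks
import Cfsg.Agent.Lib.helper3.SylowNorm
import Cfsg.Agent.Lib.helper3.BlockBrauer

/-!
# Classes of the normalizer of `D` with defect group `D`
-/

set_option autoImplicit false
set_option linter.style.haveILetI false
set_option linter.unusedSectionVars false

namespace Cfsg.Agent.Lib.helper3.Block

open Cfsg Cfsg.Agent.Lib.helper3.CharBasic Cfsg.Agent.Lib.helper3.Irr
open Cfsg.Agent.Lib.helper3.Central Cfsg.Agent.Lib.helper3.LocalM

variable {G : Type*} [Group G]

/-- An element `x` of `N_G(D)` for which `D` is a Sylow subgroup of `C_{N_G(D)}(x)`. -/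
theorem defect_in_normalizer [Finite G] {p : ℕ} [hp : Fact p.Prime] (D : Subgroup G)
    (hD : IsPGroup p D) (x : Subgroup.normalizer (D : Set G))
    (S : Sylow p (Subgroup.centralizer ({x} : Set (Subgroup.normalizer (D : Set G)))))
    (hS : D.subgroupOf (Subgroup.normalizer (D : Set G))
      = (S : Subgroup (Subgroup.centralizer ({x} : Set (Subgroup.normalizer (D : Set G))))).map
        (Subgroup.centralizer ({x} : Set (Subgroup.normalizer (D : Set G)))).subtype) :
    (x : G) ∈ Subgroup.centralizer (D : Set G) ∧
    (∃ T : Sylow p (Subgroup.centralizer ({(x : G)} : Set G)),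
      (T : Subgroup (Subgroup.centralizer ({(x : G)} : Set G))).map
        (Subgroup.centralizer ({(x : G)} : Set G)).subtype = D) ∧
    ∀ h : Subgroup.normalizer (D : Set G), IsConj (x : G) (h : G) →
      (h : G) ∈ Subgroup.centralizer (D : Set G) → IsConj x h := by
  have hDN : D ≤ Subgroup.normalizer (D : Set G) := Subgroup.le_normalizer
  -- `x` centralizes `D`
  have hxD : ∀ u ∈ D, u * (x : G) = (x : G) * u := by
    intro u hu
    have h1 : (⟨u, hDN hu⟩ : Subgroup.normalizer (D : Set G))
        ∈ D.subgroupOf (Subgroup.normalizer (D : Set G)) := by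
      rw [Subgroup.mem_subgroupOf]
      exact hu
    rw [hS] at h1
    obtain ⟨v, -, hv⟩ := h1
    have h2 := Subgroup.mem_centralizer_singleton_iff.mp v.2
    have hv' : (v : Subgroup.normalizer (D : Set G)) = ⟨u, hDN hu⟩ := hv
    rw [hv'] at h2
    exact congrArg Subtype.val h2
  have ha : (x : G) ∈ Subgroup.centralizer (D : Set G) := by
    rw [Subgroup.mem_centralizer_iff]
    exact hxD
  have hDK : D ≤ Subgroup.centralizer ({(x : G)} : Set G) := by
    intro u hu
    rw [Subgroup.mem_centralizer_singleton_iff]
    exact hxD u hu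
  -- maximality inside the normalizer
  have hmax : ∀ Q : Subgroup G, IsPGroup p Q → D ≤ Q →
      Q ≤ Subgroup.centralizer ({(x : G)} : Set G) ⊓ Subgroup.normalizer (D : Set G) →
      Q = D := by
    intro Q hQ hDQ hQK
    have hQN : Q ≤ Subgroup.normalizer (D : Set G) := le_trans hQK inf_le_right
    have hQc : Q.subgroupOf (Subgroup.normalizer (D : Set G))
        ≤ Subgroup.centralizer ({x} : Set (Subgroup.normalizer (D : Set G))) := by
      intro q hq
      rw [Subgroup.mem_subgroupOf] at hq
      rw [Subgroup.mem_centralizer_singleton_iff]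
      apply Subtype.ext
      have := Subgroup.mem_centralizer_singleton_iff.mp ((le_trans hQK inf_le_left) hq)
      exact this
    have h1 : (S : Subgroup (Subgroup.centralizer
        ({x} : Set (Subgroup.normalizer (D : Set G)))))
        ≤ (Q.subgroupOf (Subgroup.normalizer (D : Set G))).subgroupOf _ := by
      intro s hs
      rw [Subgroup.mem_subgroupOf, Subgroup.mem_subgroupOf]
      apply hDQ
      have h2 := Subgroup.mem_map_of_mem
        (Subgroup.centralizer ({x} : Set (Subgroup.normalizer (D : Set G)))).subtype hs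
      rw [← hS, Subgroup.mem_subgroupOf] at h2
      exact h2
    have h2 : (Q.subgroupOf (Subgroup.normalizer (D : Set G))).subgroupOf
        (Subgroup.centralizer ({x} : Set (Subgroup.normalizer (D : Set G)))) = S :=
      S.is_maximal' (hQ.comap_subtype).comap_subtype h1
    have h3 : Q.subgroupOf (Subgroup.normalizer (D : Set G))
        = D.subgroupOf (Subgroup.normalizer (D : Set G)) := by
      rw [hS, ← h2, Subgroup.map_subgroupOf_eq_of_le hQc]
    calc Q = (Q.subgroupOf (Subgroup.normalizer (D : Set G))).map
          (Subgroup.normalizer (D : Set G)).subtype :=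
          (Subgroup.map_subgroupOf_eq_of_le hQN).symm
      _ = (D.subgroupOf (Subgroup.normalizer (D : Set G))).map
          (Subgroup.normalizer (D : Set G)).subtype := by rw [h3]
      _ = D := Subgroup.map_subgroupOf_eq_of_le hDN
  have hmaxK := eq_of_maximal_in_normalizer D (Subgroup.centralizer ({(x : G)} : Set G)) hmax
  obtain ⟨T, hT⟩ := exists_le_sylow_map (Subgroup.centralizer ({(x : G)} : Set G)) D hD hDK
  have hTD : (T : Subgroup (Subgroup.centralizer ({(x : G)} : Set G))).map
      (Subgroup.centralizer ({(x : G)} : Set G)).subtype = D :=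
    hmaxK _ (T.2.map _) hT (Subgroup.map_subtype_le _)
  refine ⟨ha, ⟨T, hTD⟩, ?_⟩
  intro h hconj hh
  obtain ⟨a, ha'⟩ := isConj_iff.mp hconj
  rw [← ha'] at hh
  obtain ⟨n, hn, hn'⟩ := exists_normalizer_conj (x : G) T D hTD a hh
  rw [ha'] at hn'
  have : IsConj h x := by
    rw [isConj_iff]
    refine ⟨⟨n, hn⟩, ?_⟩
    apply Subtype.ext
    exact hn'
  exact this.symm


open Classical in
/-- For an element of `N_G(D)` centralizing `D` whose `G`-conjugates centralizing `D` are its
`N_G(D)`-conjugates, the Brauer central character is the central character. -/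
theorem brauerCentralChar_eq_centralChar [Fintype G] (D : Subgroup G)
    (ξ : IrrCharacter (Subgroup.normalizer (D : Set G))) (x : Subgroup.normalizer (D : Set G))
    (ha : (x : G) ∈ Subgroup.centralizer (D : Set G))
    (hc : ∀ h : Subgroup.normalizer (D : Set G), IsConj (x : G) (h : G) →
      (h : G) ∈ Subgroup.centralizer (D : Set G) → IsConj x h) :
    brauerCentralChar D (Subgroup.normalizer (D : Set G))
      (ξ : Subgroup.normalizer (D : Set G) → ℂ) (x : G)
      = centralChar (ξ : Subgroup.normalizer (D : Set G) → ℂ) x := by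
  rw [brauerCentralChar_eq_sum]
  have hiff : ∀ h : Subgroup.normalizer (D : Set G),
      (IsConj (x : G) (h : G) ∧ (h : G) ∈ Subgroup.centralizer (D : Set G)) ↔ IsConj x h := by
    intro h
    constructor
    · rintro ⟨h1, h2⟩
      exact hc h h1 h2
    · intro hxh
      obtain ⟨n, hn⟩ := isConj_iff.mp hxh
      have hn' : (n : G) * (x : G) * (n : G)⁻¹ = (h : G) := by
        have := congrArg Subtype.val hn
        simpa using this
      refine ⟨isConj_iff.mpr ⟨(n : G), hn'⟩, ?_⟩
      rw [Subgroup.mem_centralizer_iff] at ha ⊢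
      intro u hu
      have hu' : (n : G)⁻¹ * u * (n : G) ∈ D := by
        have hninv : (n : G)⁻¹ ∈ Subgroup.normalizer (D : Set G) := Subgroup.inv_mem _ n.2
        have := (Subgroup.mem_normalizer_iff.mp hninv u).mp hu
        rwa [inv_inv] at this
      have h1 := ha _ hu'
      rw [← hn']
      calc u * ((n : G) * (x : G) * (n : G)⁻¹)
          = (n : G) * (((n : G)⁻¹ * u * (n : G)) * (x : G)) * (n : G)⁻¹ := by group
        _ = (n : G) * ((x : G) * ((n : G)⁻¹ * u * (n : G))) * (n : G)⁻¹ := by rw [h1]
        _ = (n : G) * (x : G) * (n : G)⁻¹ * u := by group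
  have hterm : ∀ h : Subgroup.normalizer (D : Set G),
      (if IsConj (x : G) (h : G) ∧ (h : G) ∈ Subgroup.centralizer (D : Set G)
        then (ξ : Subgroup.normalizer (D : Set G) → ℂ) h
          / (ξ : Subgroup.normalizer (D : Set G) → ℂ) 1 else 0)
      = if IsConj x h then (ξ : Subgroup.normalizer (D : Set G) → ℂ) x
          / (ξ : Subgroup.normalizer (D : Set G) → ℂ) 1 else 0 := by
    intro h
    by_cases hxh : IsConj x h
    · rw [if_pos ((hiff h).mpr hxh), if_pos hxh]
      obtain ⟨n, hn⟩ := isConj_iff.mp hxh
      rw [← hn, isClassFunction_of_isCharacter (isCharacter_of_isIrrCharacter ξ.2) x n]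
    · rw [if_neg (fun h' => hxh ((hiff h).mp h')), if_neg hxh]
  rw [Finset.sum_congr rfl (fun h _ => hterm h), ← Finset.sum_filter, Finset.sum_const,
    nsmul_eq_mul]
  unfold centralChar
  rw [← card_class_eq_index]
  rw [mul_div_assoc]
  congr!

end Cfsg.Agent.Lib.helper3.Block
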