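import Mathlib
import Cfsg.Prelude.Def_Characters
import Cfsg.Prelude.Def_Blocks
import Cfsg.Agent.Lib.helper3.BlockMinMax2
import Cfsg.Agent.Lib.helper3.BlockInd

/-!
# Consequences of the min-max theorem
-/

set_option autoImplicit false
set_option linter.style.haveILetI false
set_option linter.unusedSectionVars false

namespace Cfsg.Agent.Lib.helper3.Block

open Cfsg Module Cfsg.Agent.Lib.helper3.CharBasic Cfsg.Agent.Lib.helper3.Irr
open Cfsg.Agent.Lib.helper3.Central Cfsg.Agent.Lib.helper3.LocalM Cfsg.Agent.Lib.helper3.IndFun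
open scoped ComplexConjugate Pointwise

variable {G : Type*} [Group G] [Fintype G] {M : Ideal AlgInt}

theorem index_centralizer_conj (g x : G) :
    (Subgroup.centralizer ({x * g * x⁻¹} : Set G)).index
      = (Subgroup.centralizer ({g} : Set G)).index := by
  classical
  rw [← card_class_eq_index, ← card_class_eq_index]
  congr 1
  ext y
  simp only [Finset.mem_filter, Finset.mem_univ, true_and]
  have : IsConj g (x * g * x⁻¹) := isConj_iff.mpr ⟨x, rfl⟩
  exact ⟨fun h => this.trans h, fun h => this.symm.trans h⟩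

theorem centralChar_conj (χ : IrrCharacter G) (g x : G) :
    centralChar (χ : G → ℂ) (x * g * x⁻¹) = centralChar (χ : G → ℂ) g := by
  unfold centralChar
  rw [index_centralizer_conj, isClassFunction_of_isCharacter (isCharacter_of_isIrrCharacter χ.2) g x]

theorem blockCoeff_conj (B : Set (IrrCharacter G)) (g x : G) :
    blockCoeff B (x * g * x⁻¹) = blockCoeff B g := by
  classical
  rw [blockCoeff_eq_coef, blockCoeff_eq_coef, coef_conj]

theorem isDefectClass_conj {B : Set (IrrCharacter G)} {g : G} (hg : IsDefectClass M B g) (x : G) :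
    IsDefectClass M B (x * g * x⁻¹) := by
  refine ⟨?_, ?_, ?_⟩
  · rw [blockCoeff_conj]; exact hg.1
  · rw [blockCoeff_conj]; exact hg.2.1
  · intro χ hχ
    rw [centralChar_conj]
    exact hg.2.2 χ hχ

theorem isDefectClass_of_isConj {B : Set (IrrCharacter G)} {g y : G} (hg : IsDefectClass M B g)
    (h : IsConj g y) : IsDefectClass M B y := by
  obtain ⟨t, rfl⟩ := isConj_iff.mp h
  exact isDefectClass_conj hg t

/-- If the induced central character is a unit at `g`, the central character of `ξ` is a unit at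
some element of `H` conjugate to `g`. -/
theorem exists_conj_not_memLocalIdeal [hMp : M.IsPrime] (H : Subgroup G) (ξ : IrrCharacter H)
    (g : G) (h : ¬ MemLocalIdeal M (inducedCentralChar H (ξ : H → ℂ) g)) :
    ∃ l : H, IsConj g (l : G) ∧ ¬ MemLocalIdeal M (centralChar (ξ : H → ℂ) l) := by
  classical
  by_contra hcon
  push Not at hcon
  apply h
  rw [inducedCentralChar_eq_sum]
  apply memLocalIdeal_sum_class_fun
  · intro a b
    have e1 : IsConj g ((b * a * b⁻¹ : H) : G) ↔ IsConj g (a : G) := by
      have : IsConj (a : G) ((b * a * b⁻¹ : H) : G) := isConj_iff.mpr ⟨(b : G), by simp⟩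
      exact ⟨fun h' => h'.trans this.symm, fun h' => h'.trans this⟩
    rw [isClassFunction_of_isCharacter (isCharacter_of_isIrrCharacter ξ.2) a b]
    by_cases hc : IsConj g (a : G)
    · rw [if_pos (e1.mpr hc), if_pos hc]
    · rw [if_neg (fun h' => hc (e1.mp h')), if_neg hc]
  · intro a
    by_cases hc : IsConj g (a : G)
    · rw [if_pos hc]
      have := hcon a hc
      unfold centralChar at this
      convert this using 1
      ring
    · rw [if_neg hc, mul_zero]
      exact memLocalIdeal_zero hMp.ne_top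

/-- Defect groups of a block are contained in defect groups of the induced block. -/
theorem exists_defectGroup_ge_of_induced {p : ℕ} [Fact p.Prime] (hM : IsPModular p M)
    (H : Subgroup G) (b : Set (IrrCharacter H)) (B : Set (IrrCharacter G))
    (hind : IsInducedBlock M H b B) (D : Subgroup H) (hD : IsDefectGroup p M b D) :
    ∃ E : Subgroup G, IsDefectGroup p M B E ∧ D.map H.subtype ≤ E := by
  classical
  haveI hMp := isPrime_of_isPModular hM
  have hMtop : M ≠ ⊤ := hM.2.1.ne_top
  obtain ⟨hb, hB, hcong⟩ := hind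
  obtain ⟨g₀, hg₀⟩ := exists_defectClass hM B hB
  obtain ⟨χ₀, hB'⟩ := id hB
  have hχ₀ : χ₀ ∈ B := by
    rw [hB']
    exact sameBlock_refl hMtop _
  obtain ⟨ξ₀, hb'⟩ := id hb
  have hξ₀ : ξ₀ ∈ b := by
    rw [hb']
    exact sameBlock_refl hMtop _
  have h1 : ¬ MemLocalIdeal M (inducedCentralChar H (ξ₀ : H → ℂ) g₀) := by
    intro hmem
    apply hg₀.2.2 χ₀ hχ₀
    have h2 := hcong ξ₀ hξ₀ χ₀ hχ₀ g₀
    have h3 := memLocalIdeal_sub hmem h2
    rwa [sub_sub_cancel] at h3
  obtain ⟨l, hl, hlunit⟩ := exists_conj_not_memLocalIdeal H ξ₀ g₀ h1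
  obtain ⟨gb, hgb, Db, rfl⟩ := hD
  have hP : IsPGroup p ((Db : Subgroup (Subgroup.centralizer ({gb} : Set H))).map
      (Subgroup.centralizer ({gb} : Set H)).subtype) := Db.2.map _
  obtain ⟨y, hy, hPy⟩ := exists_conj_centralized hM b hb l gb ⟨ξ₀, hξ₀, hlunit⟩ hgb.2.1 _ hP
    (Subgroup.map_subtype_le _)
  -- `y` is a defect class of `B`
  have hyG : IsConj g₀ (y : G) := by
    obtain ⟨t, ht⟩ := isConj_iff.mp hy
    have : IsConj (l : G) (y : G) := isConj_iff.mpr ⟨(t : G), by rw [← ht]; simp⟩
    exact hl.trans this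
  have hydef := isDefectClass_of_isConj hg₀ hyG
  have hP2 : IsPGroup p (((Db : Subgroup (Subgroup.centralizer ({gb} : Set H))).map
      (Subgroup.centralizer ({gb} : Set H)).subtype).map H.subtype) := hP.map _
  have hle : ((Db : Subgroup (Subgroup.centralizer ({gb} : Set H))).map
      (Subgroup.centralizer ({gb} : Set H)).subtype).map H.subtype
      ≤ Subgroup.centralizer ({(y : G)} : Set G) := by
    intro q hq
    obtain ⟨u, hu, rfl⟩ := Subgroup.mem_map.mp hq
    have h2 := hPy hu
    rw [Subgroup.mem_centralizer_iff] at h2 ⊢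
    intro c hc
    rw [Set.mem_singleton_iff] at hc
    subst hc
    have h3 := h2 y (Set.mem_singleton y)
    exact congrArg Subtype.val h3
  obtain ⟨E₀, hE₀⟩ := exists_le_sylow_map (Subgroup.centralizer ({(y : G)} : Set G)) _ hP2 hle
  exact ⟨_, ⟨(y : G), hydef, E₀, rfl⟩, hE₀⟩

end Cfsg.Agent.Lib.helper3.Block
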