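import Mathlib
import Cfsg.Prelude.Def_Blocks
import Cfsg.Agent.Lib.helper3.BlockMinMax3
import Cfsg.Agent.Lib.helper3.BlockMinMax2
import Cfsg.Agent.Lib.helper3.Inflate2
import Cfsg.Agent.Lib.helper3.ProjVanish6

/-!
# Defect groups of blocks of a quotient group
-/

set_option autoImplicit false
set_option linter.style.haveILetI false
set_option linter.unusedSectionVars false

namespace Cfsg.Agent.Lib.helper3.Block

open Cfsg Module Cfsg.Agent.Lib.helper3.CharBasic Cfsg.Agent.Lib.helper3.Irr
open Cfsg.Agent.Lib.helper3.Central Cfsg.Agent.Lib.helper3.LocalM Cfsg.Agent.Lib.helper3.IndFun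
open scoped ComplexConjugate

variable {M : Ideal AlgInt}

/-- If a sum of local integers, constant on the orbits of a finite `p`-group, is not in the local
ideal, then some fixed point contributes a term outside the local ideal. -/
theorem exists_fixed_of_sum_notMem {P X : Type*} [Group P] [Finite P] [Fintype X]
    [MulAction P X] {p : ℕ} (hM : IsPModular p M) (hP : IsPGroup p P) (g : X → ℂ)
    (hgR : ∀ x : X, MemLocalRing M (g x)) (hg : ∀ (u : P) (x : X), g (u • x) = g x)
    (hsum : ¬ MemLocalIdeal M (∑ x : X, g x)) :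
    ∃ x : X, (∀ u : P, u • x = x) ∧ ¬ MemLocalIdeal M (g x) := by
  classical
  haveI hMp := isPrime_of_isPModular hM
  by_contra hcon
  push Not at hcon
  apply hsum
  rw [← Finset.sum_filter_add_sum_filter_not Finset.univ (fun x : X => ∀ u : P, u • x = x)]
  apply memLocalIdeal_add
  · apply memLocalIdeal_sum
    intro x hx
    rw [Finset.mem_filter] at hx
    exact hcon x hx.2
  · rw [Finset.sum_subtype (p := fun x : X => ¬ ∀ u : P, u • x = x)
      (Finset.univ.filter (fun x : X => ¬ ∀ u : P, u • x = x)) (by intro x; simp)]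
    letI : MulAction P {x : X // ¬ ∀ u : P, u • x = x} :=
      { smul := fun u x => ⟨u • (x : X), by
          intro hfix
          apply x.2
          intro v
          have h1 := hfix (u * v * u⁻¹)
          rw [← mul_smul, mul_assoc, inv_mul_cancel, mul_one, mul_smul] at h1
          exact smul_left_cancel u h1⟩
        one_smul := fun x => Subtype.ext (one_smul P (x : X))
        mul_smul := fun u u' x => Subtype.ext (mul_smul u u' (x : X)) }
    have hsmul : ∀ (u : P) (x : {x : X // ¬ ∀ u : P, u • x = x}),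
        ((u • x : {x : X // ¬ ∀ u : P, u • x = x}) : X) = u • (x : X) := fun _ _ => rfl
    apply memLocalIdeal_sum_of_fixedPoint_free (P := P) hM hP
    · intro x
      exact hgR _
    · intro u x
      rw [hsmul, hg]
    · intro x
      by_contra hall
      push Not at hall
      apply x.2
      intro u
      have := congrArg Subtype.val (hall u)
      rw [hsmul] at this
      exact this

variable {G : Type*} [Group G]

/-- A `p`-subgroup of a quotient of a finite group is the image of a `p`-subgroup. -/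
theorem exists_pgroup_map_eq [Finite G] {p : ℕ} [Fact p.Prime] (N : Subgroup G) [N.Normal]
    (Dbar : Subgroup (G ⧸ N)) (hD : IsPGroup p Dbar) :
    ∃ D : Subgroup G, IsPGroup p D ∧ D.map (QuotientGroup.mk' N) = Dbar := by
  have hf : Function.Surjective ((QuotientGroup.mk' N).subgroupComap Dbar) :=
    MonoidHom.subgroupComap_surjective_of_surjective _ _ (QuotientGroup.mk'_surjective N)
  obtain ⟨S⟩ : Nonempty (Sylow p (Dbar.comap (QuotientGroup.mk' N))) := inferInstance
  have htop : IsPGroup p (⊤ : Subgroup Dbar) := by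
    intro x
    obtain ⟨k, hk⟩ := hD x.1
    exact ⟨k, Subtype.ext (by rw [Subgroup.coe_pow]; exact hk)⟩
  have h1 : ((S.mapSurjective hf : Sylow p Dbar) : Subgroup Dbar) = ⊤ :=
    ((S.mapSurjective hf).is_maximal' htop le_top).symm
  rw [Sylow.coe_mapSurjective] at h1
  refine ⟨(S : Subgroup (Dbar.comap (QuotientGroup.mk' N))).map
    (Subgroup.subtype (Dbar.comap (QuotientGroup.mk' N))), S.2.map _, ?_⟩
  apply le_antisymm
  · rintro _ ⟨_, ⟨y, -, rfl⟩, rfl⟩
    exact y.2
  · intro x hx
    have h2 : (⟨x, hx⟩ : Dbar) ∈ (S : Subgroup _).map ((QuotientGroup.mk' N).subgroupComap Dbar) := by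
      rw [h1]
      trivial
    obtain ⟨y, hyS, hy⟩ := h2
    exact ⟨(y : G), ⟨y, hyS, rfl⟩, congrArg Subtype.val hy⟩

/-- Inflation as a map of irreducible characters. -/
noncomputable def inflIrr [Finite G] (N : Subgroup G) [N.Normal] (ψ : IrrCharacter (G ⧸ N)) :
    IrrCharacter G :=
  ⟨(ψ : G ⧸ N → ℂ) ∘ (QuotientGroup.mk : G → G ⧸ N), isIrrCharacter_inflate N ψ.2⟩

theorem inflIrr_injective [Finite G] (N : Subgroup G) [N.Normal] :
    Function.Injective (inflIrr N) := by
  intro ψ φ h
  apply Subtype.ext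
  apply inflate_injective N
  exact congrArg Subtype.val h

/-- The idempotent of an inflated set of characters. -/
theorem blockCoeff_image_inflIrr [Finite G] (N : Subgroup G) [N.Normal]
    (Bbar : Set (IrrCharacter (G ⧸ N))) (g : G) :
    blockCoeff (inflIrr N '' Bbar) g
      = (Nat.card N : ℂ)⁻¹ * blockCoeff Bbar (g : G ⧸ N) := by
  unfold blockCoeff
  rw [finsum_mem_image (fun a _ b _ h => inflIrr_injective N h)]
  have h1 : Nat.card G = Nat.card N * Nat.card (G ⧸ N) := by
    rw [← Subgroup.index_eq_card, Subgroup.card_mul_index]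
  rw [h1]
  push_cast
  rw [mul_inv, mul_assoc]
  rfl


open Classical in
/-- The idempotent coefficient of a block of the quotient contained in a block `B` of `G` is a
convolution against the idempotent of `B`. -/
theorem blockCoeff_quot_eq_sum [Fintype G] (N : Subgroup G) [N.Normal]
    (Bbar : Set (IrrCharacter (G ⧸ N))) (B : Set (IrrCharacter G))
    (hsub : inflIrr N '' Bbar ⊆ B) (g : G) :
    blockCoeff Bbar (g : G ⧸ N)
      = ∑ x : G, blockCoeff Bbar ((g : G ⧸ N) * (x : G ⧸ N)⁻¹) * blockCoeff B x := by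
  have hN0 : (Nat.card N : ℂ) ≠ 0 := by
    have : Nat.card N ≠ 0 := Nat.card_pos.ne'
    exact_mod_cast this
  have h1 : (fun χ : IrrCharacter G => if χ ∈ inflIrr N '' Bbar then (1 : ℂ) else 0)
      * (fun χ : IrrCharacter G => if χ ∈ B then (1 : ℂ) else 0)
      = (fun χ : IrrCharacter G => if χ ∈ inflIrr N '' Bbar then (1 : ℂ) else 0) := by
    funext χ
    simp only [Pi.mul_apply]
    by_cases hχ : χ ∈ inflIrr N '' Bbar
    · rw [if_pos hχ, if_pos (hsub hχ), mul_one]
    · rw [if_neg hχ, zero_mul]
  have h2 := coef_mul (fun χ : IrrCharacter G => if χ ∈ inflIrr N '' Bbar then (1 : ℂ) else 0)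
    (fun χ : IrrCharacter G => if χ ∈ B then (1 : ℂ) else 0) g
  rw [h1] at h2
  simp_rw [← blockCoeff_eq_coef] at h2
  have h3 : ∑ x : G, blockCoeff (inflIrr N '' Bbar) x * blockCoeff B (x⁻¹ * g)
      = ∑ x : G, blockCoeff (inflIrr N '' Bbar) (g * x⁻¹) * blockCoeff B x := by
    apply Fintype.sum_equiv ((Equiv.inv G).trans (Equiv.mulRight g))
    intro x
    simp only [Equiv.trans_apply, Equiv.inv_apply, Equiv.coe_mulRight]
    congr 2
    group
  rw [h3] at h2
  simp_rw [blockCoeff_image_inflIrr] at h2
  have h4 : (Nat.card N : ℂ)⁻¹ * blockCoeff Bbar (g : G ⧸ N)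
      = (Nat.card N : ℂ)⁻¹ * ∑ x : G, blockCoeff Bbar ((g : G ⧸ N) * (x : G ⧸ N)⁻¹)
          * blockCoeff B x := by
    rw [h2, Finset.mul_sum]
    apply Finset.sum_congr rfl
    intro x _
    rw [QuotientGroup.mk_mul, QuotientGroup.mk_inv]
    ring
  exact mul_left_cancel₀ (inv_ne_zero hN0) h4

end Cfsg.Agent.Lib.helper3.Block
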