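import Mathlib
import Cfsg.Prelude.Def_Blocks
import Cfsg.Prelude.Def_BlockLocal
import Cfsg.Prelude.Def_BrauerPairs
import Cfsg.Agent.Lib.helper3.AutBlock2
import Cfsg.Agent.Lib.helper3.QuotDefect
import Cfsg.Agent.Lib.helper3.DefectOrder4

/-!
# The unique stable block of an intermediate subgroup below a Brauer pair
-/

set_option autoImplicit false
set_option linter.style.haveILetI false
set_option linter.unusedSectionVars false

namespace Cfsg.Agent.Lib.helper3.Block

open Cfsg Module Cfsg.Agent.Lib.helper3.CharBasic Cfsg.Agent.Lib.helper3.Irr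
open Cfsg.Agent.Lib.helper3.Central Cfsg.Agent.Lib.helper3.LocalM Cfsg.Agent.Lib.helper3.IndFun
open Cfsg.Agent.Lib.helper3.Lin
open scoped ComplexConjugate

variable {G : Type*} [Group G] [Fintype G] {M : Ideal AlgInt}

theorem isPBlock_nonempty [hMp : M.IsPrime] {f : Set (IrrCharacter G)} (hf : IsPBlock M f) :
    ∃ χ, χ ∈ f := by
  obtain ⟨χ, rfl⟩ := hf
  exact ⟨χ, sameBlock_refl hMp.ne_top _⟩

/-- An element normalizing `H` stabilizes a block of `H` iff the block is fixed by the
corresponding automorphism. -/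
theorem stabilizesBlock_iff [hMp : M.IsPrime] (H : Subgroup G) [Fintype H]
    (f : Set (IrrCharacter H)) (hf : IsPBlock M f) (n : Subgroup.normalizer (H : Set G)) :
    StabilizesBlock H f (n : G) ↔ autIrr (H.normalizerMonoidHom n) '' f = f := by
  constructor
  · rintro ⟨-, h⟩
    obtain ⟨χ, hχ⟩ := isPBlock_nonempty hf
    obtain ⟨χ', hχ', hconj⟩ := h χ hχ
    have hχ'' : χ' = autIrr (H.normalizerMonoidHom n) χ := by
      apply Subtype.ext
      funext k'
      rw [autIrr_apply]
      apply hconj
      rw [← map_inv]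
      simp
      group
    apply block_eq_of_mem (isPBlock_image_autIrr _ f hf) hf χ'
    · rw [hχ'']
      exact ⟨χ, hχ, rfl⟩
    · exact hχ'
  · intro h
    refine ⟨n.2, ?_⟩
    intro χ hχ
    refine ⟨autIrr (H.normalizerMonoidHom n) χ, ?_, ?_⟩
    · rw [← h]
      exact ⟨χ, hχ, rfl⟩
    · intro k k' hk
      rw [autIrr_apply]
      have hkk : (H.normalizerMonoidHom n)⁻¹ k' = k := by
        apply Subtype.ext
        rw [← map_inv]
        simp [hk]
        group
      rw [hkk]


/-- Below a block `e` of `C_G(P)` there is exactly one `P`-stable block of an intermediate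
subgroup `H` normalized by `P`. -/
theorem exists_unique_stable_block {p : ℕ} [hp : Fact p.Prime] (hM : IsPModular p M)
    (P : Subgroup G) (hP : IsPGroup p P) (H : Subgroup G)
    (hCH : Subgroup.centralizer (P : Set G) ≤ H) (hPH : P ≤ Subgroup.normalizer (H : Set G))
    (e : Set (IrrCharacter (Subgroup.centralizer (P : Set G)))) (he : IsPBlock M e) :
    ∃! f : Set (IrrCharacter H), IsPBlock M f ∧ (∀ x ∈ P, StabilizesBlock H f x) ∧
      ∀ ξ ∈ e, MemLocalIdeal M (brauerOmega P (subgroupBlockCoeff H f)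
        (ξ : Subgroup.centralizer (P : Set G) → ℂ) - 1) := by
  classical
  haveI : Fintype H := Fintype.ofFinite H
  haveI : Fintype (Subgroup.centralizer (P : Set G)) := Fintype.ofFinite _
  haveI hMp := isPrime_of_isPModular hM
  have hMtop : M ≠ ⊤ := hM.2.1.ne_top
  obtain ⟨ξ₀, he'⟩ := id he
  have hξ₀ : ξ₀ ∈ e := by
    rw [he']
    exact sameBlock_refl hMtop _
  have hξ1 := apply_one_ne_zero ξ₀.2
  -- the action of `P` on sets of characters of `H`
  obtain ⟨φ, hφ⟩ : ∃ φ : P →* MulAut H,
      φ = H.normalizerMonoidHom.comp (Subgroup.inclusion hPH) := ⟨_, rfl⟩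
  letI act : MulAction P (Set (IrrCharacter H)) :=
    { smul := fun u S => autIrr (φ u) '' S
      one_smul := fun S => by
        show autIrr (φ 1) '' S = S
        rw [map_one]
        have : autIrr (1 : MulAut H) = id := by
          funext θ
          exact autIrr_one θ
        rw [this, Set.image_id]
      mul_smul := fun u v S => by
        show autIrr (φ (u * v)) '' S = autIrr (φ u) '' (autIrr (φ v) '' S)
        rw [map_mul, Set.image_image]
        apply Set.image_congr
        intro θ _
        exact autIrr_mul _ _ θ }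
  have hsmul : ∀ (u : P) (S : Set (IrrCharacter H)), u • S = autIrr (φ u) '' S := fun _ _ => rfl
  -- basic facts
  have hloc : ∀ f : Set (IrrCharacter H), IsPBlock M f →
      ∀ g, MemLocalRing M (subgroupBlockCoeff H f g) :=
    fun f hf g => memLocalRing_subgroupBlockCoeff hM H f hf g
  have hC : ∀ (f : Set (IrrCharacter H)), ∀ c ∈ Subgroup.centralizer (P : Set G), ∀ g,
      subgroupBlockCoeff H f (c * g * c⁻¹) = subgroupBlockCoeff H f g :=
    fun f c hc g => subgroupBlockCoeff_conj_of_mem H f c (hCH hc) g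
  have hβu : ∀ (u : P) (S : Set (IrrCharacter H)) (g : G),
      subgroupBlockCoeff H (u • S) g = subgroupBlockCoeff H S ((u : G)⁻¹ * g * (u : G)) := by
    intro u S g
    rw [hsmul, hφ]
    exact subgroupBlockCoeff_image_autIrr H S (Subgroup.inclusion hPH u) g
  have hPinv : ∀ f : Set (IrrCharacter H), (∀ u : P, u • f = f) → ∀ u ∈ P, ∀ g,
      subgroupBlockCoeff H f (u * g * u⁻¹) = subgroupBlockCoeff H f g := by
    intro f hf u hu g
    have h1 := hβu ⟨u, hu⟩ f (u * g * u⁻¹)
    rw [hf ⟨u, hu⟩] at h1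
    rw [h1]
    congr 1
    show u⁻¹ * (u * g * u⁻¹) * u = g
    group
  have hΛloc : ∀ f : Set (IrrCharacter H), IsPBlock M f →
      ∀ ξ : IrrCharacter (Subgroup.centralizer (P : Set G)),
      MemLocalRing M (brauerOmega P (subgroupBlockCoeff H f)
        (ξ : Subgroup.centralizer (P : Set G) → ℂ)) :=
    fun f hf ξ => memLocalRing_brauerOmega P _ (hloc f hf) (hC f) ξ
  have hmul : ∀ f f' : Set (IrrCharacter H), IsPBlock M f → IsPBlock M f' →
      (∀ u : P, u • f = f) → (∀ u : P, u • f' = f') →
      ∀ ξ : IrrCharacter (Subgroup.centralizer (P : Set G)),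
      MemLocalIdeal M (brauerOmega P (conv (subgroupBlockCoeff H f) (subgroupBlockCoeff H f'))
        (ξ : Subgroup.centralizer (P : Set G) → ℂ)
        - brauerOmega P (subgroupBlockCoeff H f) (ξ : Subgroup.centralizer (P : Set G) → ℂ)
          * brauerOmega P (subgroupBlockCoeff H f')
            (ξ : Subgroup.centralizer (P : Set G) → ℂ)) :=
    fun f f' hf hf' hfix hfix' ξ => memLocalIdeal_brauerOmega_conv hM P hP _ _ (hloc f hf)
      (hloc f' hf') (hPinv f hfix) (hPinv f' hfix') (hC f) (hC f') ξ
  -- the invariance of the Brauer functional under the action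
  have hΛinv : ∀ (u : P) (S : Set (IrrCharacter H)),
      brauerOmega P (subgroupBlockCoeff H (u • S)) (ξ₀ : Subgroup.centralizer (P : Set G) → ℂ)
        = brauerOmega P (subgroupBlockCoeff H S)
          (ξ₀ : Subgroup.centralizer (P : Set G) → ℂ) := by
    intro u S
    rw [brauerOmega_eq_sum, brauerOmega_eq_sum]
    apply Finset.sum_congr rfl
    intro x _
    rw [hβu]
    have hx := (Subgroup.mem_centralizer_iff.mp x.2) (u : G) u.2
    have : (u : G)⁻¹ * (x : G) * (u : G) = (x : G) := by
      rw [mul_assoc, ← hx, inv_mul_cancel_left]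
    rw [this]
  -- the sum over all blocks
  have hsum1 : ∑ S ∈ blocksFinset M H, brauerOmega P (subgroupBlockCoeff H S)
      (ξ₀ : Subgroup.centralizer (P : Set G) → ℂ) = 1 := by
    simp_rw [brauerOmega_eq_sum]
    rw [Finset.sum_comm]
    simp_rw [← Finset.sum_mul, sum_blocks_subgroupBlockCoeff]
    rw [Finset.sum_eq_single (1 : Subgroup.centralizer (P : Set G))]
    · rw [if_pos (show ((1 : Subgroup.centralizer (P : Set G)) : G) = 1 from rfl), one_mul,
        div_self hξ1]
    · intro x _ hx
      rw [if_neg (show ¬ (x : G) = 1 from fun h => hx (Subtype.ext h)), zero_mul]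
    · intro h
      exact absurd (Finset.mem_univ _) h
  obtain ⟨gfun, hgfun⟩ : ∃ gfun : Set (IrrCharacter H) → ℂ, gfun = fun S =>
      if IsPBlock M S then brauerOmega P (subgroupBlockCoeff H S)
        (ξ₀ : Subgroup.centralizer (P : Set G) → ℂ) else 0 := ⟨_, rfl⟩
  have hsum2 : ∑ S : Set (IrrCharacter H), gfun S = 1 := by
    rw [← hsum1, hgfun, ← Finset.sum_filter]
    apply Finset.sum_congr
    · ext S
      rw [Finset.mem_filter, mem_blocksFinset]
      exact ⟨fun h => h.2, fun h => ⟨Finset.mem_univ _, h⟩⟩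
    · intro S _
      rfl
  have hblockinv : ∀ (u : P) (S : Set (IrrCharacter H)), IsPBlock M (u • S) ↔ IsPBlock M S :=
    fun u S => isPBlock_image_autIrr_iff (φ u) S
  have hgR : ∀ S : Set (IrrCharacter H), MemLocalRing M (gfun S) := by
    intro S
    rw [hgfun]
    beta_reduce
    by_cases hS : IsPBlock M S
    · rw [if_pos hS]
      exact hΛloc S hS ξ₀
    · rw [if_neg hS]
      exact memLocalRing_of_integral isIntegral_zero
  have hginv : ∀ (u : P) (S : Set (IrrCharacter H)), gfun (u • S) = gfun S := by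
    intro u S
    rw [hgfun]
    beta_reduce
    by_cases hS : IsPBlock M S
    · rw [if_pos hS, if_pos ((hblockinv u S).mpr hS), hΛinv]
    · rw [if_neg hS, if_neg (fun h => hS ((hblockinv u S).mp h))]
  have hsumnot : ¬ MemLocalIdeal M (∑ S : Set (IrrCharacter H), gfun S) := by
    rw [hsum2]
    exact not_memLocalIdeal_one
  obtain ⟨f, hfix, hfnot⟩ := exists_fixed_of_sum_notMem (P := P) hM hP gfun hgR hginv hsumnot
  have hf : IsPBlock M f := by
    by_contra hcon
    apply hfnot
    rw [hgfun]
    beta_reduce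
    rw [if_neg hcon]
    exact memLocalIdeal_zero hMtop
  have hfnot' : ¬ MemLocalIdeal M (brauerOmega P (subgroupBlockCoeff H f)
      (ξ₀ : Subgroup.centralizer (P : Set G) → ℂ)) := by
    intro h
    apply hfnot
    rw [hgfun]
    beta_reduce
    rw [if_pos hf]
    exact h
  -- the value at `f` is `1`
  have hf1 : MemLocalIdeal M (brauerOmega P (subgroupBlockCoeff H f)
      (ξ₀ : Subgroup.centralizer (P : Set G) → ℂ) - 1) := by
    have h1 := hmul f f hf hf hfix hfix ξ₀
    rw [conv_subgroupBlockCoeff_self] at h1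
    have h2 := memLocalIdeal_neg h1
    have h3 : MemLocalIdeal M (brauerOmega P (subgroupBlockCoeff H f)
        (ξ₀ : Subgroup.centralizer (P : Set G) → ℂ))
        ∨ MemLocalIdeal M (brauerOmega P (subgroupBlockCoeff H f)
        (ξ₀ : Subgroup.centralizer (P : Set G) → ℂ) - 1) := by
      apply memLocalIdeal_or_of_mul_local (hΛloc f hf ξ₀)
      · obtain ⟨a1, a2, ha2, ha⟩ := hΛloc f hf ξ₀
        refine ⟨a1 - a2, a2, ha2, ?_⟩
        rw [← ha]
        have := coe_ne_zero_of_notMem ha2
        push_cast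
        field_simp
      · convert h2 using 1
        ring
    rcases h3 with h | h
    · exact absurd h hfnot'
    · exact h
  have hall : ∀ (f' : Set (IrrCharacter H)), IsPBlock M f' →
      MemLocalIdeal M (brauerOmega P (subgroupBlockCoeff H f')
        (ξ₀ : Subgroup.centralizer (P : Set G) → ℂ) - 1) →
      ∀ ξ ∈ e, MemLocalIdeal M (brauerOmega P (subgroupBlockCoeff H f')
        (ξ : Subgroup.centralizer (P : Set G) → ℂ) - 1) := by
    intro f' hf' h ξ hξ
    rw [he'] at hξ
    have h1 := memLocalIdeal_brauerOmega_sub hM P _ (hloc f' hf') (hC f')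
      ξ ξ₀ (sameBlock_symm hξ)
    have h2 := memLocalIdeal_add h1 h
    convert h2 using 1
    ring
  have hstab : ∀ (f' : Set (IrrCharacter H)), IsPBlock M f' →
      ((∀ u : P, u • f' = f') ↔ ∀ x ∈ P, StabilizesBlock H f' x) := by
    intro f' hf'
    constructor
    · intro h x hx
      have h1 := (stabilizesBlock_iff H f' hf' (Subgroup.inclusion hPH ⟨x, hx⟩)).mpr (by
        have := h ⟨x, hx⟩
        rw [hsmul, hφ] at this
        exact this)
      exact h1
    · intro h u
      have h1 := (stabilizesBlock_iff H f' hf' (Subgroup.inclusion hPH u)).mp (h u u.2)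
      rw [hsmul, hφ]
      exact h1
  refine ⟨f, ⟨hf, (hstab f hf).mp hfix, hall f hf hf1⟩, ?_⟩
  rintro f' ⟨hf', hst', h'⟩
  by_contra hne
  have hfix' := (hstab f' hf').mpr hst'
  have hdisj : ∀ χ ∈ f', χ ∉ f := by
    intro χ hχ hχ'
    exact hne (block_eq_of_mem hf' hf χ hχ hχ')
  have h1 := hmul f' f hf' hf hfix' hfix ξ₀
  rw [conv_subgroupBlockCoeff_of_disjoint H f' f hdisj, brauerOmega_zero, zero_sub] at h1
  have h2 := memLocalIdeal_neg h1
  rw [neg_neg] at h2
  have h3 := memLocalIdeal_mul_localRing (hΛloc f hf ξ₀) (h' ξ₀ hξ₀)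
  apply not_memLocalIdeal_one (M := M)
  have h4 := memLocalIdeal_sub (memLocalIdeal_sub h2 h3) hf1
  convert h4 using 1
  ring

end Cfsg.Agent.Lib.helper3.Block
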