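import Mathlib
import Cfsg.Prelude.Def_Characters
import Cfsg.Prelude.Def_Blocks
import Cfsg.Agent.Lib.helper3.LocalM
import Cfsg.Agent.Lib.helper3.Lin
import Cfsg.Agent.Lib.helper3.Irr10

/-!
# Character values modulo a maximal ideal: `χ(x) ≡ χ(x_{p'})`
-/

set_option autoImplicit false
set_option linter.style.haveILetI false
set_option linter.unusedSectionVars false

namespace Cfsg.Agent.Lib.helper3.LocalM

open Cfsg Module Cfsg.Agent.Lib.helper3.CharBasic Cfsg.Agent.Lib.helper3.Irr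
open Cfsg.Agent.Lib.helper3.Lin

variable {M : Ideal AlgInt} {G : Type*} [Group G]

/-- `χ(a y) ≡ χ(y)` modulo `M` for a `p`-element `a` commuting with `y`. -/
theorem exists_mem_sub_eq [Finite G] {χ : G → ℂ} (hχ : IsCharacter G χ) {p : ℕ}
    (hM : IsPModular p M) (a y : G) (k : ℕ) (ha : a ^ p ^ k = 1) (hay : a * y = y * a) :
    ∃ w : AlgInt, w ∈ M ∧ (w : ℂ) = χ (a * y) - χ y := by
  classical
  have hcomm : ∀ u ∈ ({a, y} : Set G), ∀ v ∈ ({a, y} : Set G), u * v = v * u := by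
    intro u hu v hv
    rcases hu with rfl | rfl <;> rcases hv with rfl | rfl
    · rfl
    · exact hay
    · exact hay.symm
    · rfl
  let A : Subgroup G := Subgroup.closure {a, y}
  have hA : ∀ u v : A, u * v = v * u :=
    fun u v => (Subgroup.isMulCommutative_closure hcomm).is_comm.comm u v
  have haA : a ∈ A := Subgroup.subset_closure (by simp)
  have hyA : y ∈ A := Subgroup.subset_closure (by simp)
  have hres := isCharacter_restrict hχ A
  letI : Fintype A := Fintype.ofFinite A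
  obtain ⟨m, hm⟩ := exists_decomposition_of_isCharacter hres
  have hlin : ∀ ψ : IrrCharacter A, ∃ w : AlgInt, w ∈ M ∧
      (w : ℂ) = (ψ : A → ℂ) (⟨a, haA⟩ * ⟨y, hyA⟩) - (ψ : A → ℂ) ⟨y, hyA⟩ := by
    intro ψ
    have hψc := isCharacter_of_isIrrCharacter ψ.2
    have hψ1 : (ψ : A → ℂ) 1 = 1 := apply_one_eq_one_of_comm hA ψ.2
    have hpow : (ψ : A → ℂ) ⟨a, haA⟩ ^ p ^ k = 1 := by
      apply pow_eq_one_of_linear hψc hψ1
      apply Subtype.ext
      simpa using ha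
    obtain ⟨ε, hε⟩ : ∃ ε : AlgInt, (ε : ℂ) = (ψ : A → ℂ) ⟨a, haA⟩ :=
      ⟨⟨_, isIntegral_of_isCharacter hψc _⟩, rfl⟩
    obtain ⟨η, hη⟩ : ∃ η : AlgInt, (η : ℂ) = (ψ : A → ℂ) ⟨y, hyA⟩ :=
      ⟨⟨_, isIntegral_of_isCharacter hψc _⟩, rfl⟩
    have hε1 : ε ^ p ^ k = 1 := by
      apply Subtype.ext
      push_cast
      rw [hε, hpow]
    refine ⟨(ε - 1) * η, M.mul_mem_right _ (sub_one_mem_of_pow hM ε k hε1), ?_⟩
    rw [map_mul_of_apply_one_eq_one hψc hψ1]
    push_cast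
    rw [hε, hη]
    ring
  choose w hw1 hw2 using hlin
  refine ⟨∑ ψ : IrrCharacter A, (m ψ : AlgInt) * w ψ, ?_, ?_⟩
  · apply Ideal.sum_mem
    intro ψ _
    exact M.mul_mem_left _ (hw1 ψ)
  · have h1 := congrFun hm (⟨a, haA⟩ * ⟨y, hyA⟩)
    have h2 := congrFun hm ⟨y, hyA⟩
    simp only [Subgroup.coe_mul, Finset.sum_apply, Pi.smul_apply, smul_eq_mul] at h1 h2
    rw [h1, h2, ← Finset.sum_sub_distrib]
    push_cast
    apply Finset.sum_congr rfl
    intro ψ _
    rw [hw2 ψ]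
    ring

end Cfsg.Agent.Lib.helper3.LocalM
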