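import Mathlib
import Cfsg.Prelude.Def_Characters
import Cfsg.Prelude.Def_Blocks
import Cfsg.Agent.Lib.helper3.LocalM2

/-!
# Congruences modulo `p` for `p^a`-th powers of character values
-/

set_option autoImplicit false
set_option linter.style.haveILetI false
set_option linter.unusedSectionVars false

namespace Cfsg.Agent.Lib.helper3.LocalM

open Cfsg Module Cfsg.Agent.Lib.helper3.CharBasic Cfsg.Agent.Lib.helper3.Irr
open Cfsg.Agent.Lib.helper3.Lin

/-- A prime is not a unit among the algebraic integers. -/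
theorem prime_not_isUnit (p : ℕ) (hp : p.Prime) : (p : AlgInt) ∈ nonunits AlgInt := by
  intro hu
  obtain ⟨r, hr⟩ := hu.exists_right_inv
  have h1 : ((1 : ℤ) : ℂ) = ((p : ℤ) : ℂ) * (r : ℂ) := by
    have := congrArg (fun z : AlgInt => (z : ℂ)) hr
    push_cast at this ⊢
    exact this.symm
  have h2 := Cfsg.Agent.Lib.helper3.AlgInt.int_dvd_of_eq_mul_isIntegral r.2 h1
    (by exact_mod_cast hp.ne_zero)
  have h3 : (p : ℤ) ∣ 1 := h2
  have h4 : p ∣ 1 := by exact_mod_cast h3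
  exact hp.one_lt.ne' (Nat.dvd_one.mp h4)

/-- There is a maximal ideal of the algebraic integers containing a given prime. -/
theorem exists_isPModular (p : ℕ) (hp : p.Prime) : ∃ M : Ideal AlgInt, IsPModular p M := by
  have hne : Ideal.span ({(p : AlgInt)} : Set AlgInt) ≠ ⊤ := by
    intro h
    have h1 : (1 : AlgInt) ∈ Ideal.span ({(p : AlgInt)} : Set AlgInt) := h ▸ Submodule.mem_top
    rw [Ideal.mem_span_singleton] at h1
    exact prime_not_isUnit p hp (isUnit_of_dvd_one h1)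
  obtain ⟨M, hM, hle⟩ := Ideal.exists_le_maximal _ hne
  exact ⟨M, hp, hM, hle (Ideal.subset_span (Set.mem_singleton _))⟩

/-- Frobenius is injective on the residue field. -/
theorem sub_mem_of_pow_sub_pow_mem {M : Ideal AlgInt} {p : ℕ} (hM : IsPModular p M) (X Y : AlgInt)
    (k : ℕ) (h : X ^ p ^ k - Y ^ p ^ k ∈ M) : X - Y ∈ M := by
  haveI := hM.2.1
  haveI : Fact p.Prime := ⟨hM.1⟩
  letI : Field (AlgInt ⧸ M) := Ideal.Quotient.field M
  haveI : CharP (AlgInt ⧸ M) p := by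
    rw [CharP.charP_iff_prime_eq_zero hM.1]
    have : ((p : AlgInt) : AlgInt ⧸ M) = 0 := Ideal.Quotient.eq_zero_iff_mem.mpr hM.2.2
    simpa using this
  have h1 : ((Ideal.Quotient.mk M X) - (Ideal.Quotient.mk M Y)) ^ p ^ k = 0 := by
    rw [sub_pow_char_pow, ← map_pow, ← map_pow, ← map_sub]
    exact Ideal.Quotient.eq_zero_iff_mem.mpr h
  have h2 := pow_eq_zero_iff (pow_ne_zero k hM.1.ne_zero) |>.mp h1
  have h3 : Ideal.Quotient.mk M (X - Y) = 0 := by
    rw [map_sub]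
    exact h2
  exact Ideal.Quotient.eq_zero_iff_mem.mp h3

variable {G : Type*} [Group G]

/-- `χ(u v)^(p^a) ≡ χ(v)^(p^a)` modulo `p` when `u` commutes with `v` and `u^(p^a) = 1`. -/
theorem exists_pow_sub_pow_eq [Finite G] {χ : G → ℂ} (hχ : IsCharacter G χ) (p : ℕ)
    [hp : Fact p.Prime] (u v : G) (a : ℕ) (hu : u ^ p ^ a = 1) (huv : u * v = v * u) :
    ∃ γ : AlgInt, χ (u * v) ^ p ^ a - χ v ^ p ^ a = (p : ℂ) * (γ : ℂ) := by
  classical
  have hcomm : ∀ s ∈ ({u, v} : Set G), ∀ t ∈ ({u, v} : Set G), s * t = t * s := by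
    intro s hs t ht
    rcases hs with rfl | rfl <;> rcases ht with rfl | rfl
    · rfl
    · exact huv
    · exact huv.symm
    · rfl
  let A : Subgroup G := Subgroup.closure {u, v}
  have hA : ∀ s t : A, s * t = t * s :=
    fun s t => (Subgroup.isMulCommutative_closure hcomm).is_comm.comm s t
  have huA : u ∈ A := Subgroup.subset_closure (by simp)
  have hvA : v ∈ A := Subgroup.subset_closure (by simp)
  have hres := isCharacter_restrict hχ A
  letI : Fintype A := Fintype.ofFinite A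
  obtain ⟨m, hm⟩ := exists_decomposition_of_isCharacter hres
  have hlin : ∀ ψ : IrrCharacter A, ∃ ε η : AlgInt, ε ^ p ^ a = 1 ∧
      (ε : ℂ) * (η : ℂ) = (ψ : A → ℂ) (⟨u, huA⟩ * ⟨v, hvA⟩) ∧ (η : ℂ) = (ψ : A → ℂ) ⟨v, hvA⟩ := by
    intro ψ
    have hψc := isCharacter_of_isIrrCharacter ψ.2
    have hψ1 : (ψ : A → ℂ) 1 = 1 := apply_one_eq_one_of_comm hA ψ.2
    have hpow : (ψ : A → ℂ) ⟨u, huA⟩ ^ p ^ a = 1 := by
      apply pow_eq_one_of_linear hψc hψ1
      apply Subtype.ext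
      simpa using hu
    refine ⟨⟨_, isIntegral_of_isCharacter hψc ⟨u, huA⟩⟩, ⟨_, isIntegral_of_isCharacter hψc ⟨v, hvA⟩⟩,
      ?_, ?_, rfl⟩
    · apply Subtype.ext
      push_cast
      exact hpow
    · rw [map_mul_of_apply_one_eq_one hψc hψ1]
  choose ε η hε hεη hη using hlin
  obtain ⟨X, hX⟩ : ∃ X : AlgInt, X = ∑ ψ : IrrCharacter A, (m ψ : AlgInt) * (ε ψ * η ψ) := ⟨_, rfl⟩
  obtain ⟨Y, hY⟩ : ∃ Y : AlgInt, Y = ∑ ψ : IrrCharacter A, (m ψ : AlgInt) * η ψ := ⟨_, rfl⟩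
  have hXv : (X : ℂ) = χ (u * v) := by
    have h1 := congrFun hm (⟨u, huA⟩ * ⟨v, hvA⟩)
    simp only [Subgroup.coe_mul, Finset.sum_apply, Pi.smul_apply, smul_eq_mul] at h1
    rw [h1, hX]
    push_cast
    apply Finset.sum_congr rfl
    intro ψ _
    rw [hεη ψ]
  have hYv : (Y : ℂ) = χ v := by
    have h1 := congrFun hm ⟨v, hvA⟩
    simp only [Finset.sum_apply, Pi.smul_apply, smul_eq_mul] at h1
    rw [h1, hY]
    push_cast
    apply Finset.sum_congr rfl
    intro ψ _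
    rw [hη ψ]
  haveI : CharP (AlgInt ⧸ Ideal.span ({(p : AlgInt)} : Set AlgInt)) p :=
    CharP.quotient AlgInt p (prime_not_isUnit p hp.out)
  have hquot : Ideal.Quotient.mk (Ideal.span ({(p : AlgInt)} : Set AlgInt)) (X ^ p ^ a - Y ^ p ^ a)
      = 0 := by
    rw [map_sub, map_pow, map_pow, hX, hY, map_sum, map_sum, sum_pow_char_pow, sum_pow_char_pow,
      ← Finset.sum_sub_distrib]
    apply Finset.sum_eq_zero
    intro ψ _
    rw [map_mul, map_mul, map_mul, mul_pow, mul_pow, mul_pow, ← map_pow _ (ε ψ), hε ψ, map_one,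
      one_mul, sub_self]
  rw [Ideal.Quotient.eq_zero_iff_mem, Ideal.mem_span_singleton'] at hquot
  obtain ⟨γ, hγ⟩ := hquot
  refine ⟨γ, ?_⟩
  rw [← hXv, ← hYv]
  have := congrArg (fun z : AlgInt => (z : ℂ)) hγ
  push_cast at this
  rw [← this]
  ring

end Cfsg.Agent.Lib.helper3.LocalM
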