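import Mathlib
import Cfsg.Prelude.Def_Characters
import Cfsg.Prelude.Def_Blocks
import Cfsg.Agent.Lib.helper3.BlockCover2
import Cfsg.Agent.Lib.helper3.LocalM3

/-!
# A block of a normal subgroup of `p`-power index is covered by a unique block
-/

set_option autoImplicit false
set_option linter.style.haveILetI false
set_option linter.unusedSectionVars false

namespace Cfsg.Agent.Lib.helper3.Block

open Cfsg Module Cfsg.Agent.Lib.helper3.CharBasic Cfsg.Agent.Lib.helper3.Irr
open Cfsg.Agent.Lib.helper3.Central Cfsg.Agent.Lib.helper3.LocalM Cfsg.Agent.Lib.helper3.IndFun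
open scoped ComplexConjugate

variable {G : Type*} [Group G] [Fintype G] {M : Ideal AlgInt}

/-- The coefficient function of a power of a class sum is supported on a coset of a normal
subgroup containing the commutators with the class. -/
theorem coef_pow_centralChar_support (T : Subgroup G) [hT : T.Normal] (g : G)
    (hconj : ∀ t : G, g⁻¹ * (t * g * t⁻¹) ∈ T) (j : ℕ) (y : G)
    (hy : coef ((fun ψ : IrrCharacter G => centralChar (ψ : G → ℂ) g) ^ j) y ≠ 0) :
    (g ^ j)⁻¹ * y ∈ T := by
  classical
  induction j generalizing y with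
  | zero =>
    rw [pow_zero] at hy ⊢
    have : (1 : IrrCharacter G → ℂ) = fun _ => 1 := rfl
    rw [this, coef_one] at hy
    by_cases h : y = 1
    · rw [h]
      simp
    · rw [if_neg h] at hy
      exact absurd rfl hy
  | succ j ih =>
    rw [pow_succ, coef_mul] at hy
    obtain ⟨x, -, hx⟩ := Finset.exists_ne_zero_of_sum_ne_zero hy
    have hx1 := left_ne_zero_of_mul hx
    have hx2 := right_ne_zero_of_mul hx
    rw [coef_centralChar] at hx2
    have hc : IsConj g (x⁻¹ * y) := by
      by_contra h
      rw [if_neg h] at hx2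
      exact hx2 rfl
    obtain ⟨t, ht⟩ := isConj_iff.mp hc
    have h1 := ih x hx1
    have h2 := hconj t
    rw [ht] at h2
    have h3 : (g ^ (j + 1))⁻¹ * y = (g⁻¹ * ((g ^ j)⁻¹ * x) * g⁻¹⁻¹) * (g⁻¹ * (x⁻¹ * y)) := by
      rw [pow_succ]
      group
    rw [h3]
    exact T.mul_mem (hT.conj_mem _ h1 _) h2

theorem intCoef_pow {c : IrrCharacter G → ℂ} (hc : IntCoef c) (j : ℕ) : IntCoef (c ^ j) := by
  induction j with
  | zero =>
    rw [pow_zero]
    exact intCoef_one
  | succ j ih =>
    rw [pow_succ]
    exact ih.mul hc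

/-- If the central characters of `χ` and `χ'` agree modulo `M` on the normal subgroup `T`, the
conjugates of `g` lie in `gT` and `g ^ (p ^ e) ∈ T`, then they agree modulo `M` at `g`. -/
theorem memLocalIdeal_centralChar_sub_of_pow {p : ℕ} (hM : IsPModular p M) (T : Subgroup G)
    [hT : T.Normal] (χ χ' : IrrCharacter G)
    (hcong : ∀ x ∈ T, MemLocalIdeal M
      (centralChar (χ : G → ℂ) x - centralChar (χ' : G → ℂ) x))
    (g : G) (hconj : ∀ t : G, g⁻¹ * (t * g * t⁻¹) ∈ T) (e : ℕ) (hge : g ^ p ^ e ∈ T) :
    MemLocalIdeal M (centralChar (χ : G → ℂ) g - centralChar (χ' : G → ℂ) g) := by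
  classical
  haveI hMp := isPrime_of_isPModular hM
  have hMtop : M ≠ ⊤ := hM.2.1.ne_top
  obtain ⟨c, hc⟩ : ∃ c : IrrCharacter G → ℂ,
      c = fun ψ : IrrCharacter G => centralChar (ψ : G → ℂ) g := ⟨_, rfl⟩
  have hcint : IntCoef (c ^ p ^ e) := by
    rw [hc]
    exact intCoef_pow (intCoef_centralChar g) _
  have hsupp : ∀ y : G, y ∉ T → coef (c ^ p ^ e) y = 0 := by
    intro y hy
    by_contra hne
    rw [hc] at hne
    have := coef_pow_centralChar_support T g hconj (p ^ e) y hne
    apply hy
    have h2 := T.mul_mem hge this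
    rwa [mul_inv_cancel_left] at h2
  have h1 := sum_coef_mul_div (c ^ p ^ e) χ
  have h2 := sum_coef_mul_div (c ^ p ^ e) χ'
  have hpow : MemLocalIdeal M ((c ^ p ^ e) χ - (c ^ p ^ e) χ') := by
    rw [← h1, ← h2, ← Finset.sum_sub_distrib]
    apply memLocalIdeal_sum_class_fun
    · intro x t
      rw [coef_conj,
        isClassFunction_of_isCharacter (isCharacter_of_isIrrCharacter χ.2) x t,
        isClassFunction_of_isCharacter (isCharacter_of_isIrrCharacter χ'.2) x t]
    · intro x
      by_cases hx : x ∈ T
      · have e1 : ((Subgroup.centralizer ({x} : Set G)).index : ℂ)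
            * (coef (c ^ p ^ e) x * ((χ : G → ℂ) x / (χ : G → ℂ) 1)
              - coef (c ^ p ^ e) x * ((χ' : G → ℂ) x / (χ' : G → ℂ) 1))
            = coef (c ^ p ^ e) x
              * (centralChar (χ : G → ℂ) x - centralChar (χ' : G → ℂ) x) := by
          unfold centralChar
          ring
        rw [e1]
        exact memLocalIdeal_mul_integral (hcong x hx) (hcint x)
      · rw [hsupp x hx, zero_mul, zero_mul, sub_zero, mul_zero]
        exact memLocalIdeal_zero hMtop
  rw [hc] at hpow
  simp only [Pi.pow_apply] at hpow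
  have hi1 := isIntegral_centralChar χ.2 g
  have hi2 := isIntegral_centralChar χ'.2 g
  have hmem : (⟨_, hi1⟩ : AlgInt) ^ p ^ e - (⟨_, hi2⟩ : AlgInt) ^ p ^ e ∈ M := by
    apply mem_of_memLocalIdeal
    exact hpow
  have := sub_mem_of_pow_sub_pow_mem hM _ _ e hmem
  exact memLocalIdeal_of_mem this hMtop

/-- If `G/N` is a `p`-group and the central characters of `χ`, `χ'` agree modulo `M` on `N`, then
`χ` and `χ'` lie in the same block. -/
theorem sameBlock_of_congr_of_index_pow {p : ℕ} [hp : Fact p.Prime] (hM : IsPModular p M)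
    (N : Subgroup G) [hN : N.Normal] (hidx : ∃ k : ℕ, N.index = p ^ k) (χ χ' : IrrCharacter G)
    (hcong : ∀ n ∈ N, MemLocalIdeal M
      (centralChar (χ : G → ℂ) n - centralChar (χ' : G → ℂ) n)) :
    SameBlock M (χ : G → ℂ) (χ' : G → ℂ) := by
  classical
  obtain ⟨k, hk⟩ := hidx
  have hPG : IsPGroup p (G ⧸ N) := by
    apply IsPGroup.of_card (n := k)
    rw [← hk, Subgroup.index_eq_card]
  haveI : Group.IsNilpotent (G ⧸ N) := hPG.isNilpotent
  obtain ⟨m, hm⟩ := Group.IsNilpotent.nilpotent (G ⧸ N)
  have key : ∀ j : ℕ, ∀ g : G, (QuotientGroup.mk' N g) ∈ Subgroup.upperCentralSeries (G ⧸ N) j →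
      MemLocalIdeal M (centralChar (χ : G → ℂ) g - centralChar (χ' : G → ℂ) g) := by
    intro j
    induction j with
    | zero =>
      intro g hg
      rw [Subgroup.upperCentralSeries_zero, Subgroup.mem_bot] at hg
      apply hcong
      exact (QuotientGroup.eq_one_iff g).mp hg
    | succ j ih =>
      intro g hg
      obtain ⟨T, hT⟩ : ∃ T : Subgroup G,
          T = (Subgroup.upperCentralSeries (G ⧸ N) j).comap (QuotientGroup.mk' N) := ⟨_, rfl⟩
      haveI hTn : T.Normal := by
        rw [hT]
        haveI : (Subgroup.upperCentralSeries (G ⧸ N) j).Normal := Subgroup.normal_of_characteristic _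
        exact Subgroup.Normal.comap inferInstance _
      have hNT : N ≤ T := by
        intro n hn
        rw [hT, Subgroup.mem_comap]
        have : QuotientGroup.mk' N n = 1 := (QuotientGroup.eq_one_iff n).mpr hn
        rw [this]
        exact Subgroup.one_mem _
      apply memLocalIdeal_centralChar_sub_of_pow hM T χ χ' _ g _ k
      · rw [← hk]
        exact hNT (N.pow_index_mem g)
      · intro x hx
        rw [hT, Subgroup.mem_comap] at hx
        exact ih x hx
      · intro t
        rw [hT, Subgroup.mem_comap]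
        have hg' : (QuotientGroup.mk' N g)⁻¹ ∈ Subgroup.upperCentralSeries (G ⧸ N) (j + 1) :=
          Subgroup.inv_mem _ hg
        have := Subgroup.mem_upperCentralSeries_succ_iff.mp hg' (QuotientGroup.mk' N t)
        rw [commutatorElement_def] at this
        convert this using 1
        simp only [map_mul, map_inv, inv_inv]
        group
  intro g
  apply key m g
  rw [hm]
  exact Subgroup.mem_top _

end Cfsg.Agent.Lib.helper3.Block
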