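import Mathlib
import Cfsg.Prelude.Def_Characters
import Cfsg.Agent.Lib.helper3.Irr11
import Cfsg.Agent.Lib.helper3.CharBasic2

set_option autoImplicit false
set_option linter.style.haveILetI false
set_option linter.unusedSectionVars false

/-!
# Fixed vectors of a normal subgroup in an irreducible representation
-/

namespace Cfsg.Agent.Lib.helper3.Irr

open Cfsg Module Cfsg.Agent.Lib.helper3.IndFun Cfsg.Agent.Lib.helper3.CharBasic
open Representation
open scoped ComplexConjugate

variable {G : Type*} [Group G]
variable {V : Type*} [AddCommGroup V] [Module ℂ V] [FiniteDimensional ℂ V]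

/-- A normal subgroup either acts trivially in an irreducible representation, or has no nonzero
fixed vector, in which case the character sums to zero on it. -/
theorem normal_trivial_or_sum_eq_zero (ρ : Representation ℂ G V) [hirr : ρ.IsIrreducible]
    (N : Subgroup G) [hN : N.Normal] [Fintype N] :
    (∀ n ∈ N, ρ n = LinearMap.id) ∨ ∑ n : N, ρ.character (n : G) = 0 := by
  obtain ⟨W, hW⟩ : ∃ W : Subrepresentation ρ,
      W.toSubmodule = Representation.invariants (ρ.comp N.subtype) := by
    refine ⟨⟨Representation.invariants (ρ.comp N.subtype), ?_⟩, rfl⟩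
    intro g v hv
    rw [Representation.mem_invariants] at hv ⊢
    intro n
    have h1 : g⁻¹ * (n : G) * g ∈ N := by
      have := hN.conj_mem (n : G) n.2 g⁻¹
      rwa [inv_inv] at this
    have h2 := hv ⟨g⁻¹ * (n : G) * g, h1⟩
    have h3 : (ρ.comp N.subtype) n (ρ g v) = ρ ((n : G) * g) v := by
      rw [map_mul]
      rfl
    have h4 : (n : G) * g = g * (g⁻¹ * (n : G) * g) := by group
    rw [h3, h4, map_mul, Module.End.mul_apply]
    congr 1
  rcases eq_bot_or_eq_top W with h | h
  · right
    have h1 : Representation.invariants (ρ.comp N.subtype) = ⊥ := by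
      rw [← hW, h]
      rfl
    have h2 := classInner_restrict_one ρ N
    rw [h1, finrank_bot, classInner_apply, Nat.cast_zero] at h2
    have hN0 : (Nat.card N : ℂ) ≠ 0 := by
      have : Nat.card N ≠ 0 := Nat.card_pos.ne'
      exact_mod_cast this
    have h3 : ∑ n : N, ρ.character (n : G) * (starRingEnd ℂ) 1 = 0 := by
      rcases mul_eq_zero.mp h2 with h' | h'
      · exact absurd (inv_eq_zero.mp h') hN0
      · simpa using h'
    simpa using h3
  · left
    intro n hn
    have h1 : Representation.invariants (ρ.comp N.subtype) = ⊤ := by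
      rw [← hW, h]
      rfl
    apply LinearMap.ext
    intro v
    have hv : v ∈ Representation.invariants (ρ.comp N.subtype) := by
      rw [h1]
      exact Submodule.mem_top
    exact hv ⟨n, hn⟩

/-- The elements at which a character takes its degree are those acting trivially. -/
theorem exists_rep_ker_iff [Finite G] {χ : G → ℂ} (hχ : IsIrrCharacter G χ) :
    ∃ (n : ℕ) (ρ : Representation ℂ G (Fin n → ℂ)), ρ.IsIrreducible ∧ χ = ρ.character ∧
      ∀ g : G, χ g = χ 1 ↔ ρ g = LinearMap.id := by
  obtain ⟨n, ρ, hirr, rfl⟩ := hχ
  refine ⟨n, ρ, hirr, rfl, ?_⟩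
  intro g
  rw [Representation.char_one]
  exact character_eq_finrank_iff ρ g

end Cfsg.Agent.Lib.helper3.Irr
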