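import Mathlib
import Cfsg.Prelude.Def_Blocks
import Cfsg.Agent.Lib.helper3.BlockMinMax
import Cfsg.Agent.Lib.helper3.NormalInv
import Cfsg.Agent.Lib.helper3.ProjVanish6

/-!
# Central characters at classes outside the centralizer of a normal `p`-subgroup
-/

set_option autoImplicit false
set_option linter.style.haveILetI false
set_option linter.unusedSectionVars false

namespace Cfsg.Agent.Lib.helper3.Block

open Cfsg Module Cfsg.Agent.Lib.helper3.CharBasic Cfsg.Agent.Lib.helper3.Irr
open Cfsg.Agent.Lib.helper3.Central Cfsg.Agent.Lib.helper3.LocalM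
open scoped ComplexConjugate

/-- A sum of a function constant on the orbits of a fixed-point-free action of a finite `p`-group
is `p` times an integral combination of its values. -/
theorem sum_eq_nsmul_of_fixedPoint_free {P X A : Type*} [Group P] [Finite P] [Fintype X]
    [MulAction P X] [AddCommGroup A] {p : ℕ} [Fact p.Prime] (hP : IsPGroup p P) (f : X → A)
    (hf : ∀ (u : P) (x : X), f (u • x) = f x) (hfree : ∀ x : X, ∃ u : P, u • x ≠ x) :
    ∃ y ∈ AddSubgroup.closure (Set.range f), ∑ x : X, f x = p • y := by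
  classical
  have hdvd : ∀ x₀ : X, p ∣ (Finset.univ.filter (fun x : X => f x = f x₀)).card := by
    intro x₀
    letI : MulAction P {x : X // f x = f x₀} :=
      { smul := fun u x => ⟨u • (x : X), by rw [hf]; exact x.2⟩
        one_smul := fun x => Subtype.ext (one_smul P (x : X))
        mul_smul := fun u u' x => Subtype.ext (mul_smul u u' (x : X)) }
    have hsmul : ∀ (u : P) (x : {x : X // f x = f x₀}), ((u • x : {x : X // f x = f x₀}) : X)
        = u • (x : X) := fun _ _ => rfl
    have hcard := hP.card_modEq_card_fixedPoints {x : X // f x = f x₀}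
    have hfix : IsEmpty (MulAction.fixedPoints P {x : X // f x = f x₀}) := by
      constructor
      rintro ⟨x, hx⟩
      obtain ⟨u, hu⟩ := hfree (x : X)
      apply hu
      have := hx u
      rw [← hsmul, this]
    have hfix0 : Nat.card (MulAction.fixedPoints P {x : X // f x = f x₀}) = 0 :=
      Nat.card_of_isEmpty
    rw [hfix0] at hcard
    have h1 : Nat.card {x : X // f x = f x₀}
        = (Finset.univ.filter (fun x : X => f x = f x₀)).card := by
      rw [Nat.card_eq_fintype_card, Fintype.card_subtype]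
    rw [← h1]
    exact Nat.modEq_zero_iff_dvd.mp hcard
  refine ⟨∑ a ∈ Finset.univ.image f,
    ((Finset.univ.filter (fun x : X => f x = a)).card / p) • a, ?_, ?_⟩
  · apply AddSubgroup.sum_mem
    intro a ha
    apply AddSubgroup.nsmul_mem
    obtain ⟨x₀, -, rfl⟩ := Finset.mem_image.mp ha
    exact AddSubgroup.subset_closure ⟨x₀, rfl⟩
  · rw [Finset.sum_comp (s := (Finset.univ : Finset X)) (fun a : A => a) f, Finset.smul_sum]
    apply Finset.sum_congr rfl
    intro a ha
    obtain ⟨x₀, -, rfl⟩ := Finset.mem_image.mp ha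
    rw [← mul_nsmul', Nat.mul_div_cancel' (hdvd x₀)]


variable {G : Type*} [Group G] [Fintype G] {M : Ideal AlgInt}
variable {V : Type*} [AddCommGroup V] [Module ℂ V] [FiniteDimensional ℂ V]

/-- Elements of the additive closure of the image of a representation are integral. -/
theorem isIntegral_of_mem_closure_range (ρ : Representation ℂ G V) (Y : V →ₗ[ℂ] V)
    (hY : Y ∈ AddSubgroup.closure (Set.range (fun x : G => ρ x))) : IsIntegral ℤ Y := by
  haveI : Module.Finite ℤ (MonoidAlgebra ℤ G) := Module.Finite.of_basis (MonoidAlgebra.basis G ℤ)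
  have h : ∃ a : MonoidAlgebra ℤ G, MonoidAlgebra.lift ℤ (Module.End ℂ V) G ρ a = Y := by
    induction hY using AddSubgroup.closure_induction with
    | mem x hx =>
      obtain ⟨g, rfl⟩ := hx
      exact ⟨MonoidAlgebra.of ℤ G g, MonoidAlgebra.lift_of _ _⟩
    | zero => exact ⟨0, map_zero _⟩
    | add x y _ _ hx hy =>
      obtain ⟨a, rfl⟩ := hx
      obtain ⟨b, rfl⟩ := hy
      exact ⟨a + b, map_add _ _ _⟩
    | neg x _ hx =>
      obtain ⟨a, rfl⟩ := hx
      exact ⟨-a, map_neg _ _⟩
  obtain ⟨a, rfl⟩ := h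
  exact (IsIntegral.of_finite ℤ a).map _

/-- If a normal `p`-subgroup `P` acts trivially in an irreducible representation, then the central
character vanishes modulo `M` at every element outside `C_G(P)`. -/
theorem memLocalIdeal_centralChar_of_ker {p : ℕ} (hM : IsPModular p M)
    (ρ : Representation ℂ G V) [hirr : ρ.IsIrreducible] (P : Subgroup G) [hPn : P.Normal]
    (hP : IsPGroup p P) (hker : ∀ u ∈ P, ρ u = LinearMap.id) (g : G)
    (hg : g ∉ Subgroup.centralizer (P : Set G)) :
    MemLocalIdeal M (centralChar ρ.character g) := by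
  classical
  haveI : Fact p.Prime := ⟨hM.1⟩
  haveI hMp := isPrime_of_isPModular hM
  have hMtop : M ≠ ⊤ := hM.2.1.ne_top
  have hp0 : (p : ℂ) ≠ 0 := by exact_mod_cast hM.1.ne_zero
  letI : MulAction P {x : G // IsConj g x} :=
    { smul := fun u x => ⟨(u : G) * (x : G) * (u : G)⁻¹, by
        have h1 : IsConj (x : G) ((u : G) * (x : G) * (u : G)⁻¹) :=
          isConj_iff.mpr ⟨(u : G), rfl⟩
        exact x.2.trans h1⟩
      one_smul := fun x => Subtype.ext (by
        show ((1 : P) : G) * (x : G) * ((1 : P) : G)⁻¹ = (x : G)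
        simp)
      mul_smul := fun u u' x => Subtype.ext (by
        show ((u * u' : P) : G) * (x : G) * ((u * u' : P) : G)⁻¹
          = (u : G) * ((u' : G) * (x : G) * (u' : G)⁻¹) * (u : G)⁻¹
        push_cast
        group) }
  have hsmul : ∀ (u : P) (x : {x : G // IsConj g x}),
      ((u • x : {x : G // IsConj g x}) : G) = (u : G) * (x : G) * (u : G)⁻¹ := fun _ _ => rfl
  have hinv : ∀ (u : P) (x : {x : G // IsConj g x}),
      (fun x : {x : G // IsConj g x} => ρ (x : G)) (u • x)
        = (fun x : {x : G // IsConj g x} => ρ (x : G)) x := by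
    intro u x
    show ρ ((u • x : {x : G // IsConj g x}) : G) = ρ (x : G)
    rw [hsmul, map_mul, map_mul, hker (u : G) u.2]
    have h1 : ρ (u : G)⁻¹ = LinearMap.id := hker _ (P.inv_mem u.2)
    rw [h1]
    rfl
  have hfree : ∀ x : {x : G // IsConj g x}, ∃ u : P, u • x ≠ x := by
    intro x
    by_contra hcon
    push Not at hcon
    apply hg
    have hx : (x : G) ∈ Subgroup.centralizer (P : Set G) := by
      rw [Subgroup.mem_centralizer_iff]
      intro u hu
      have h1 := congrArg Subtype.val (hcon ⟨u, hu⟩)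
      rw [hsmul] at h1
      have h2 : u * (x : G) * u⁻¹ = (x : G) := h1
      calc u * (x : G) = u * (x : G) * u⁻¹ * u := by group
        _ = (x : G) * u := by rw [h2]
    obtain ⟨c, hc⟩ := isConj_iff.mp x.2
    have h3 : g = c⁻¹ * (x : G) * c⁻¹⁻¹ := by
      rw [← hc]
      group
    rw [h3]
    exact (Subgroup.normal_centralizer (H := P)).conj_mem _ hx _
  obtain ⟨Y, hY, hsum⟩ := sum_eq_nsmul_of_fixedPoint_free hP
    (fun x : {x : G // IsConj g x} => ρ (x : G)) hinv hfree
  have hYint : IsIntegral ℤ Y := by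
    apply isIntegral_of_mem_closure_range ρ Y
    refine AddSubgroup.closure_mono ?_ hY
    rintro _ ⟨x, rfl⟩
    exact ⟨(x : G), rfl⟩
  have hcl : classOp ρ g = ∑ x : {x : G // IsConj g x}, ρ (x : G) := by
    unfold classOp
    rw [Finset.sum_subtype (p := fun x : G => IsConj g x)
      (Finset.univ.filter (fun x : G => IsConj g x)) (by intro x; simp)]
  obtain ⟨c, hc⟩ : ∃ c : ℂ, c = ((Finset.univ.filter (fun x : G => IsConj g x)).card : ℂ)
      * ρ.character g / (finrank ℂ V : ℂ) := ⟨_, rfl⟩
  have hcc : centralChar ρ.character g = c := by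
    unfold centralChar
    rw [hc, card_class_eq_index, Representation.char_one]
  have h1 : c • (LinearMap.id : V →ₗ[ℂ] V) = p • Y := by
    rw [hc, ← classOp_eq_smul, hcl]
    exact hsum
  have h2 : Y = (c / p) • (LinearMap.id : V →ₗ[ℂ] V) := by
    have h3 : (p : ℂ) • Y = c • (LinearMap.id : V →ₗ[ℂ] V) := by
      rw [h1, Nat.cast_smul_eq_nsmul]
    rw [div_eq_inv_mul, mul_smul, ← h3, smul_smul, inv_mul_cancel₀ hp0, one_smul]
  haveI := nontrivial_of_irreducible ρ
  have h4 : (c / p) • (LinearMap.id : V →ₗ[ℂ] V) = algebraMap ℂ (Module.End ℂ V) (c / p) := by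
    rw [Algebra.algebraMap_eq_smul_one]
    rfl
  rw [h2, h4] at hYint
  have h5 : IsIntegral ℤ (c / p) :=
    (isIntegral_algebraMap_iff (algebraMap ℂ (Module.End ℂ V)).injective).mp hYint
  rw [hcc]
  have h6 : c = (((p : AlgInt) * (⟨c / p, h5⟩ : AlgInt) : AlgInt) : ℂ) := by
    push_cast
    field_simp
  rw [h6]
  exact memLocalIdeal_of_mem (M.mul_mem_right _ hM.2.2) hMtop

end Cfsg.Agent.Lib.helper3.Block
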