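import Mathlib
import Cfsg.Prelude.Def_Blocks
import Cfsg.Agent.Lib.helper3.CentSupp1
import Cfsg.Agent.Lib.helper3.DefectOrder

/-!
# Every block has a character trivial on a given normal `p`-subgroup
-/

set_option autoImplicit false
set_option linter.style.haveILetI false
set_option linter.unusedSectionVars false

namespace Cfsg.Agent.Lib.helper3.Block

open Cfsg Module Cfsg.Agent.Lib.helper3.CharBasic Cfsg.Agent.Lib.helper3.Irr
open Cfsg.Agent.Lib.helper3.Central Cfsg.Agent.Lib.helper3.LocalM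
open scoped ComplexConjugate

variable {G : Type*} [Group G] [Fintype G] {M : Ideal AlgInt}

/-- Every block contains a character afforded by a representation in which a given normal
`p`-subgroup acts trivially. -/
theorem exists_mem_block_ker {p : ℕ} (hM : IsPModular p M) (B : Set (IrrCharacter G))
    (hB : IsPBlock M B) (P : Subgroup G) [hPn : P.Normal] (hP : IsPGroup p P) :
    ∃ χ ∈ B, ∃ (n : ℕ) (ρ : Representation ℂ G (Fin n → ℂ)), ρ.IsIrreducible ∧
      ρ.character = (χ : G → ℂ) ∧ ∀ u ∈ P, ρ u = LinearMap.id := by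
  classical
  haveI : Fact p.Prime := ⟨hM.1⟩
  haveI hMp := isPrime_of_isPModular hM
  have hMtop : M ≠ ⊤ := hM.2.1.ne_top
  have hp : p.Prime := hM.1
  obtain ⟨χ₀, hBeq⟩ := hB
  have hS : ∀ θ ∈ B, blockOf M (θ : G → ℂ) ⊆ B := by
    intro θ hθ ψ hψ
    rw [hBeq] at hθ ⊢
    exact sameBlock_trans hθ hψ
  have hχ₀ : χ₀ ∈ B := by
    rw [hBeq]
    exact sameBlock_refl hMtop _
  by_contra hcon
  push Not at hcon
  -- the sums over `P` vanish for every member of `B`
  have hzero : ∀ χ : IrrCharacter G, χ ∈ B → ∑ u : P, (χ : G → ℂ) (u : G) = 0 := by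
    intro χ hχ
    obtain ⟨n, ρ, hirr, hρ⟩ := χ.2
    haveI := hirr
    rcases normal_trivial_or_sum_eq_zero ρ P with h | h
    · exact absurd h (fun h' => by
        obtain ⟨u, hu, hne⟩ := hcon χ hχ n ρ hirr hρ
        exact hne (h' u hu))
    · rw [← hρ]
      exact h
  -- orthogonality at the nontrivial elements of `P`
  have horth : ∀ u : P, u ≠ 1 → ∑ χ : IrrCharacter G, (if χ ∈ B then (1 : ℂ) else 0)
      * ((χ : G → ℂ) 1 * (χ : G → ℂ) (u : G)) = 0 := by
    intro u hu
    apply sum_degree_mul_eq_zero hM B hS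
    obtain ⟨k, hk⟩ := hP u
    have h1 : orderOf u ∣ p ^ k := orderOf_dvd_of_pow_eq_one hk
    obtain ⟨j, -, hj⟩ := (Nat.dvd_prime_pow hp).mp h1
    have hj0 : j ≠ 0 := by
      rintro rfl
      rw [pow_zero, orderOf_eq_one_iff] at hj
      exact hu hj
    rw [Subgroup.orderOf_coe, hj]
    exact dvd_pow_self p hj0
  have hsum : ∑ u : P, ∑ χ : IrrCharacter G, (if χ ∈ B then (1 : ℂ) else 0)
      * ((χ : G → ℂ) 1 * (χ : G → ℂ) (u : G)) = 0 := by
    rw [Finset.sum_comm]
    apply Finset.sum_eq_zero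
    intro χ _
    rw [← Finset.mul_sum, ← Finset.mul_sum]
    by_cases hχ : χ ∈ B
    · rw [hzero χ hχ, mul_zero, mul_zero]
    · rw [if_neg hχ, zero_mul]
  rw [Finset.sum_eq_single (1 : P) (fun u _ hu => horth u hu)
    (fun h => absurd (Finset.mem_univ _) h)] at hsum
  -- the remaining sum is a sum of squares of degrees
  have hdeg : ∀ χ : IrrCharacter G, ∃ d : ℕ, d ≠ 0 ∧ (χ : G → ℂ) 1 = d := by
    intro χ
    obtain ⟨n, ρ, hirr, hρ⟩ := χ.2
    haveI := hirr
    refine ⟨n, ?_, ?_⟩
    · intro h0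
      have := finrank_ne_zero_of_irreducible ρ
      rw [Module.finrank_fin_fun, h0] at this
      exact this (by simp)
    · rw [← hρ, Representation.char_one, Module.finrank_fin_fun]
  choose d hd0 hd using hdeg
  have hsum' : ((∑ χ : IrrCharacter G, (if χ ∈ B then d χ * d χ else 0) : ℕ) : ℂ) = 0 := by
    rw [← hsum]
    push_cast
    apply Finset.sum_congr rfl
    intro χ _
    rw [hd χ]
    split_ifs <;> ring
  have hsum'' : (∑ χ : IrrCharacter G, (if χ ∈ B then d χ * d χ else 0) : ℕ) = 0 := by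
    exact_mod_cast hsum'
  have := (Finset.sum_eq_zero_iff.mp hsum'') χ₀ (Finset.mem_univ _)
  rw [if_pos hχ₀] at this
  exact hd0 χ₀ (by rcases Nat.mul_eq_zero.mp this with h | h <;> exact h)

/-- The central character of every irreducible character vanishes modulo `M` at the elements
outside the centralizer of a normal `p`-subgroup. -/
theorem memLocalIdeal_centralChar_of_notMem_centralizer {p : ℕ} (hM : IsPModular p M)
    (P : Subgroup G) [hPn : P.Normal] (hP : IsPGroup p P) (χ : IrrCharacter G) (g : G)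
    (hg : g ∉ Subgroup.centralizer (P : Set G)) :
    MemLocalIdeal M (centralChar (χ : G → ℂ) g) := by
  haveI hMp := isPrime_of_isPModular hM
  have hMtop : M ≠ ⊤ := hM.2.1.ne_top
  obtain ⟨χ₁, hχ₁, n, ρ, hirr, hρ, hker⟩ :=
    exists_mem_block_ker hM (blockOf M (χ : G → ℂ)) ⟨χ, rfl⟩ P hP
  haveI := hirr
  have h1 := memLocalIdeal_centralChar_of_ker hM ρ P hP hker g hg
  rw [hρ] at h1
  have h2 : MemLocalIdeal M (centralChar (χ : G → ℂ) g - centralChar (χ₁ : G → ℂ) g) := hχ₁ g
  have := memLocalIdeal_add h2 h1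
  rwa [sub_add_cancel] at this

end Cfsg.Agent.Lib.helper3.Block
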