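import Mathlib
import Cfsg.Prelude.Def_Blocks
import Cfsg.Agent.Lib.helper3.CentSupp2
import Cfsg.Agent.Lib.helper3.BlockCover2
import Cfsg.Agent.Lib.helper3.BlockOver
import Cfsg.Agent.Lib.helper3.Irr9
import Cfsg.Agent.Lib.helper3.Irr12

/-!
# Block idempotents are supported on the centralizer of a normal `p`-subgroup
-/

set_option autoImplicit false
set_option linter.style.haveILetI false
set_option linter.unusedSectionVars false

namespace Cfsg.Agent.Lib.helper3.Block

open Cfsg Module Cfsg.Agent.Lib.helper3.CharBasic Cfsg.Agent.Lib.helper3.Irr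
open Cfsg.Agent.Lib.helper3.Central Cfsg.Agent.Lib.helper3.LocalM Cfsg.Agent.Lib.helper3.IndFun
open Cfsg.Agent.Lib.helper3.Lin
open scoped ComplexConjugate

variable {G : Type*} [Group G] [Fintype G] {M : Ideal AlgInt}

/-- If all central characters vanish modulo `M` outside the normal subgroup `N`, then two
irreducible characters lying above a common character of `N` are in the same block. -/
theorem sameBlock_of_common_constituent {p : ℕ} (hM : IsPModular p M) (N : Subgroup G)
    [hN : N.Normal] [Fintype N]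
    (hvan : ∀ (χ : IrrCharacter G) (g : G), g ∉ N → MemLocalIdeal M (centralChar (χ : G → ℂ) g))
    (χ ψ : IrrCharacter G) (θ : IrrCharacter N) (hχ : χ ∈ irrOver N (θ : N → ℂ))
    (hψ : ψ ∈ irrOver N (θ : N → ℂ)) : SameBlock M (χ : G → ℂ) (ψ : G → ℂ) := by
  haveI hMp := isPrime_of_isPModular hM
  have hMtop : M ≠ ⊤ := hM.2.1.ne_top
  intro g
  by_cases hg : g ∈ N
  · have h1 := centralChar_eq_of_over N χ θ hχ ⟨g, hg⟩
    have h2 := centralChar_eq_of_over N ψ θ hψ ⟨g, hg⟩
    have h3 : centralChar (χ : G → ℂ) g = centralChar (ψ : G → ℂ) g := h1.trans h2.symm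
    rw [h3, sub_self]
    exact memLocalIdeal_zero hMtop
  · exact memLocalIdeal_sub (hvan χ g hg) (hvan ψ g hg)

open Classical in
/-- If all central characters vanish modulo `M` outside the normal subgroup `N`, then the block
idempotents are supported on `N`. -/
theorem blockCoeff_eq_zero_of_vanish {p : ℕ} (hM : IsPModular p M) (N : Subgroup G)
    [hN : N.Normal] [Fintype N]
    (hvan : ∀ (χ : IrrCharacter G) (g : G), g ∉ N → MemLocalIdeal M (centralChar (χ : G → ℂ) g))
    (B : Set (IrrCharacter G)) (hB : IsPBlock M B) (g : G) (hg : g ∉ N) :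
    blockCoeff B g = 0 := by
  haveI hMp := isPrime_of_isPModular hM
  have hMtop : M ≠ ⊤ := hM.2.1.ne_top
  obtain ⟨χ₀, hBeq⟩ := hB
  obtain ⟨S, hSdef⟩ : ∃ S : Set (IrrCharacter N),
      S = {θ : IrrCharacter N | ∃ χ ∈ B, χ ∈ irrOver N (θ : N → ℂ)} := ⟨_, rfl⟩
  have hSst : ConjStable N S := by
    intro θ hθ x θ' hθ'
    rw [hSdef] at hθ ⊢
    obtain ⟨χ, hχB, hχ⟩ := hθ
    refine ⟨χ, hχB, ?_⟩
    show classInner (fun n : N => (χ : G → ℂ) n) (θ' : N → ℂ) ≠ 0
    rw [hθ', classInner_restrict_conjFun N (χ : G → ℂ)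
      (isClassFunction_of_isCharacter (isCharacter_of_isIrrCharacter χ.2))]
    exact hχ
  have hmem : ∀ χ : IrrCharacter G,
      (∃ θ ∈ S, classInner (fun n : N => (χ : G → ℂ) n) (θ : N → ℂ) ≠ 0) ↔ χ ∈ B := by
    intro χ
    constructor
    · rintro ⟨θ, hθ, hχθ⟩
      rw [hSdef] at hθ
      obtain ⟨χ', hχ'B, hχ'⟩ := hθ
      have h1 := sameBlock_of_common_constituent hM N hvan χ' χ θ hχ' hχθ
      rw [hBeq] at hχ'B ⊢
      exact sameBlock_trans hχ'B h1
    · intro hχB
      have hχc := isCharacter_of_isIrrCharacter χ.2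
      have hres := isCharacter_restrict hχc N
      have hne : (fun n : N => (χ : G → ℂ) n) ≠ 0 := by
        intro h0
        have := congrFun h0 1
        exact apply_one_ne_zero χ.2 this
      obtain ⟨θ, hθ⟩ := exists_constituent hres hne
      refine ⟨θ, ?_, hθ⟩
      rw [hSdef]
      exact ⟨χ, hχB, hθ⟩
  rw [blockCoeff_eq_coef]
  unfold coef
  have hterm : ∀ χ : IrrCharacter G, (if χ ∈ B then (1 : ℂ) else 0) * (χ : G → ℂ) 1
      * conj ((χ : G → ℂ) g)
      = ∑ θ : IrrCharacter N, ((if θ ∈ S then (1 : ℂ) else 0) * (θ : N → ℂ) 1)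
        * (classInner (fun n : N => (χ : G → ℂ) n) (θ : N → ℂ) * conj ((χ : G → ℂ) g)) := by
    intro χ
    have h1 := sum_over_stable N S hSst χ
    have h2 : (if χ ∈ B then (1 : ℂ) else 0) * (χ : G → ℂ) 1
        = if ∃ θ ∈ S, classInner (fun n : N => (χ : G → ℂ) n) (θ : N → ℂ) ≠ 0
          then (χ : G → ℂ) 1 else 0 := by
      by_cases h : χ ∈ B
      · rw [if_pos h, if_pos ((hmem χ).mpr h), one_mul]
      · rw [if_neg h, if_neg (fun h' => h ((hmem χ).mp h')), zero_mul]
    rw [h2, ← h1, Finset.sum_mul]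
    apply Finset.sum_congr rfl
    intro θ _
    ring
  rw [Finset.sum_congr rfl (fun χ _ => hterm χ), Finset.sum_comm]
  have hinner : ∀ θ : IrrCharacter N,
      ∑ χ : IrrCharacter G, classInner (fun n : N => (χ : G → ℂ) n) (θ : N → ℂ)
        * conj ((χ : G → ℂ) g) = 0 := by
    intro θ
    have hθc := isCharacter_of_isIrrCharacter θ.2
    have hind := isCharacter_indFun N (θ : N → ℂ) hθc
    have hdec := congrFun (isCharacter_eq_sum_classInner hind) g
    rw [Finset.sum_apply, indFun_normal_apply_of_not_mem N (θ : N → ℂ) hg] at hdec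
    have hdec' := congrArg conj hdec
    rw [map_zero, map_sum] at hdec'
    refine Eq.trans (Finset.sum_congr rfl ?_) hdec'.symm
    intro χ _
    have hχc := isCharacter_of_isIrrCharacter χ.2
    have hfr := frobenius_reciprocity N (θ : N → ℂ) (χ : G → ℂ)
      (isClassFunction_of_isCharacter hχc)
    simp only [Pi.smul_apply, smul_eq_mul]
    rw [map_mul, hfr, classInner_conj_symm]
  rw [Finset.sum_eq_zero, mul_zero]
  intro θ _
  rw [← Finset.mul_sum, hinner θ, mul_zero]

end Cfsg.Agent.Lib.helper3.Block
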