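import Mathlib
import Cfsg.Prelude.Def_Blocks
import Cfsg.Prelude.Def_BlockLocal
import Cfsg.Prelude.Def_BrauerPairs
import Cfsg.Agent.Lib.helper3.CentSupp3
import Cfsg.Agent.Lib.helper3.BlockCover3

/-!
# The characters lying over a stable set of characters of a normal subgroup
-/

set_option autoImplicit false
set_option linter.style.haveILetI false
set_option linter.unusedSectionVars false

namespace Cfsg.Agent.Lib.helper3.Block

open Cfsg Module Cfsg.Agent.Lib.helper3.CharBasic Cfsg.Agent.Lib.helper3.Irr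
open Cfsg.Agent.Lib.helper3.Central Cfsg.Agent.Lib.helper3.LocalM Cfsg.Agent.Lib.helper3.IndFun
open Cfsg.Agent.Lib.helper3.Lin
open scoped ComplexConjugate

variable {G : Type*} [Group G] [Fintype G] {M : Ideal AlgInt}

/-- A set of characters of a normal subgroup stabilized by every element is conjugation-stable. -/
theorem conjStable_of_stabilizes (N : Subgroup G) [hN : N.Normal] (c : Set (IrrCharacter N))
    (hst : ∀ x : G, StabilizesBlock N c x) : ConjStable N c := by
  intro θ hθ g θ' hθ'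
  obtain ⟨-, h⟩ := hst g⁻¹
  obtain ⟨χ', hχ', hconj⟩ := h θ hθ
  have : θ' = χ' := by
    apply Subtype.ext
    rw [hθ']
    funext k
    unfold conjFun
    have := hconj ⟨g * k * g⁻¹, hN.conj_mem k k.2 g⟩ k (by
      show (k : G) = g⁻¹ * (g * (k : G) * g⁻¹) * g⁻¹⁻¹
      group)
    exact this.symm
  rw [this]
  exact hχ'

/-- The characters of `G` lying over a set `S` of characters of `N`. -/
def overSet (N : Subgroup G) [Fintype N] (S : Set (IrrCharacter N)) : Set (IrrCharacter G) :=
  {χ | ∃ θ ∈ S, classInner (fun n : N => (χ : G → ℂ) n) (θ : N → ℂ) ≠ 0}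

open Classical in
/-- The idempotent of the characters lying over a stable set `S` of characters of the normal
subgroup `N` is the idempotent of `S`. -/
theorem blockCoeff_overSet (N : Subgroup G) [hN : N.Normal] [Fintype N]
    (S : Set (IrrCharacter N)) (hS : ConjStable N S) (g : G) :
    blockCoeff (overSet N S) g = subgroupBlockCoeff N S g := by
  have hG0 : (Nat.card G : ℂ) ≠ 0 := card_ne_zero_complex G
  have hN0 : (Nat.card N : ℂ) ≠ 0 := card_ne_zero_complex N
  rw [blockCoeff_eq_coef]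
  unfold coef
  have hterm : ∀ χ : IrrCharacter G, (if χ ∈ overSet N S then (1 : ℂ) else 0) * (χ : G → ℂ) 1
      * conj ((χ : G → ℂ) g)
      = ∑ θ : IrrCharacter N, ((if θ ∈ S then (1 : ℂ) else 0) * (θ : N → ℂ) 1)
        * (classInner (fun n : N => (χ : G → ℂ) n) (θ : N → ℂ) * conj ((χ : G → ℂ) g)) := by
    intro χ
    have h1 := sum_over_stable N S hS χ
    have h2 : (if χ ∈ overSet N S then (1 : ℂ) else 0) * (χ : G → ℂ) 1
        = if ∃ θ ∈ S, classInner (fun n : N => (χ : G → ℂ) n) (θ : N → ℂ) ≠ 0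
          then (χ : G → ℂ) 1 else 0 := by
      by_cases h : χ ∈ overSet N S
      · rw [if_pos h, if_pos (show ∃ θ ∈ S,
          classInner (fun n : N => (χ : G → ℂ) n) (θ : N → ℂ) ≠ 0 from h), one_mul]
      · rw [if_neg h, if_neg (show ¬ ∃ θ ∈ S,
          classInner (fun n : N => (χ : G → ℂ) n) (θ : N → ℂ) ≠ 0 from h), zero_mul]
    rw [h2, ← h1, Finset.sum_mul]
    apply Finset.sum_congr rfl
    intro θ _
    ring
  rw [Finset.sum_congr rfl (fun χ _ => hterm χ), Finset.sum_comm]
  have hinner : ∀ θ : IrrCharacter N,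
      ∑ χ : IrrCharacter G, classInner (fun n : N => (χ : G → ℂ) n) (θ : N → ℂ)
        * conj ((χ : G → ℂ) g) = conj (indFun N (θ : N → ℂ) g) := by
    intro θ
    have hθc := isCharacter_of_isIrrCharacter θ.2
    have hind := isCharacter_indFun N (θ : N → ℂ) hθc
    have hdec := congrFun (isCharacter_eq_sum_classInner hind) g
    rw [Finset.sum_apply] at hdec
    have hdec' := congrArg conj hdec
    rw [map_sum] at hdec'
    refine Eq.trans (Finset.sum_congr rfl ?_) hdec'.symm
    intro χ _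
    have hχc := isCharacter_of_isIrrCharacter χ.2
    have hfr := frobenius_reciprocity N (θ : N → ℂ) (χ : G → ℂ)
      (isClassFunction_of_isCharacter hχc)
    simp only [Pi.smul_apply, smul_eq_mul]
    rw [map_mul, hfr, classInner_conj_symm]
  simp_rw [← Finset.mul_sum, hinner]
  unfold subgroupBlockCoeff
  by_cases hg : g ∈ N
  · rw [dif_pos hg]
    have h3 : ∀ θ : IrrCharacter N, indFun N (θ : N → ℂ) g
        = (Nat.card N : ℂ)⁻¹ * ∑ x : G, conjFun N (θ : N → ℂ) x ⟨g, hg⟩ :=
      fun θ => indFun_normal_apply N (θ : N → ℂ) ⟨g, hg⟩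
    have h4 : ∀ x : G, ∑ θ : IrrCharacter N, (if θ ∈ S then (1 : ℂ) else 0) * (θ : N → ℂ) 1
        * ((Nat.card N : ℂ)⁻¹ * conj (conjFun N (θ : N → ℂ) x ⟨g, hg⟩))
        = blockCoeff S ⟨g, hg⟩ := by
      intro x
      rw [← blockCoeff_conj_of_stable N S hS x ⟨g, hg⟩, blockCoeff_eq_coef]
      unfold coef
      rw [Finset.mul_sum]
      apply Finset.sum_congr rfl
      intro θ _
      unfold conjFun
      ring
    have h5 : ∑ θ : IrrCharacter N, (if θ ∈ S then (1 : ℂ) else 0) * (θ : N → ℂ) 1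
        * conj (indFun N (θ : N → ℂ) g) = (Nat.card G : ℂ) * blockCoeff S ⟨g, hg⟩ := by
      calc ∑ θ : IrrCharacter N, (if θ ∈ S then (1 : ℂ) else 0) * (θ : N → ℂ) 1
            * conj (indFun N (θ : N → ℂ) g)
          = ∑ θ : IrrCharacter N, ∑ x : G, (if θ ∈ S then (1 : ℂ) else 0) * (θ : N → ℂ) 1
            * ((Nat.card N : ℂ)⁻¹ * conj (conjFun N (θ : N → ℂ) x ⟨g, hg⟩)) := by
            apply Finset.sum_congr rfl
            intro θ _
            rw [h3 θ, map_mul, map_inv₀, Complex.conj_natCast, map_sum, Finset.mul_sum,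
              Finset.mul_sum]
        _ = ∑ x : G, ∑ θ : IrrCharacter N, (if θ ∈ S then (1 : ℂ) else 0) * (θ : N → ℂ) 1
            * ((Nat.card N : ℂ)⁻¹ * conj (conjFun N (θ : N → ℂ) x ⟨g, hg⟩)) := Finset.sum_comm
        _ = ∑ _x : G, blockCoeff S ⟨g, hg⟩ := Finset.sum_congr rfl (fun x _ => h4 x)
        _ = (Nat.card G : ℂ) * blockCoeff S ⟨g, hg⟩ := by
            rw [Finset.sum_const, Finset.card_univ, nsmul_eq_mul, Nat.card_eq_fintype_card]
    rw [h5, ← mul_assoc, inv_mul_cancel₀ hG0, one_mul]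
  · rw [dif_neg hg]
    have h3 : ∀ θ : IrrCharacter N, indFun N (θ : N → ℂ) g = 0 :=
      fun θ => indFun_normal_apply_of_not_mem N (θ : N → ℂ) hg
    simp_rw [h3, map_zero, mul_zero]
    rw [Finset.sum_const_zero, mul_zero]


/-- The idempotent of the characters lying over a stable block has local coefficients. -/
theorem memLocalRing_blockCoeff_overSet {p : ℕ} (hM : IsPModular p M) (N : Subgroup G)
    [hN : N.Normal] [Fintype N] (c : Set (IrrCharacter N)) (hc : IsPBlock M c)
    (hS : ConjStable N c) (g : G) : MemLocalRing M (blockCoeff (overSet N c) g) := by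
  classical
  haveI hMp := isPrime_of_isPModular hM
  rw [blockCoeff_overSet N c hS]
  unfold subgroupBlockCoeff
  by_cases hg : g ∈ N
  · rw [dif_pos hg]
    exact osima hM c hc _
  · rw [dif_neg hg]
    exact memLocalRing_of_integral isIntegral_zero

/-- Over a stable block of a normal subgroup of `p`-power index there is exactly one block. -/
theorem isPBlock_overSet {p : ℕ} [hp : Fact p.Prime] (hM : IsPModular p M) (N : Subgroup G)
    [hN : N.Normal] [Fintype N] (hidx : ∃ k : ℕ, N.index = p ^ k) (c : Set (IrrCharacter N))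
    (hc : IsPBlock M c) (hS : ConjStable N c) : IsPBlock M (overSet N c) := by
  classical
  haveI hMp := isPrime_of_isPModular hM
  have hMtop : M ≠ ⊤ := hM.2.1.ne_top
  obtain ⟨ξ, hcdef⟩ := id hc
  have hξ : ξ ∈ c := by
    rw [hcdef]
    exact sameBlock_refl hMtop _
  obtain ⟨χ₁, hχ₁⟩ := exists_irr_over N (ξ : N → ℂ) ξ.2
  have hχ₁mem : χ₁ ∈ overSet N c := ⟨ξ, hξ, hχ₁⟩
  have hsame : ∀ χ χ' : IrrCharacter G, χ ∈ overSet N c → χ' ∈ overSet N c →
      SameBlock M (χ : G → ℂ) (χ' : G → ℂ) := by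
    rintro χ χ' ⟨θ, hθ, hχθ⟩ ⟨θ', hθ', hχθ'⟩
    apply sameBlock_of_congr_of_index_pow hM N hidx
    intro n hn
    rw [centralChar_eq_of_over N χ θ hχθ ⟨n, hn⟩, centralChar_eq_of_over N χ' θ' hχθ' ⟨n, hn⟩]
    apply memLocalIdeal_inducedCentralChar_sub
    rw [hcdef] at hθ hθ'
    exact sameBlock_trans (sameBlock_symm hθ) hθ'
  refine ⟨χ₁, ?_⟩
  ext ψ
  constructor
  · intro hψ
    exact hsame χ₁ ψ hχ₁mem hψ
  · intro hψ
    exact union_of_blocks hM (overSet N c) (memLocalRing_blockCoeff_overSet hM N c hc hS) χ₁ hχ₁mem hψ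

open Classical in
/-- A set of irreducible characters is determined by its idempotent. -/
theorem eq_of_blockCoeff_eq (A A' : Set (IrrCharacter G))
    (h : ∀ g : G, blockCoeff A g = blockCoeff A' g) : A = A' := by
  ext χ
  have h1 := sum_coef_mul_div (fun χ : IrrCharacter G => if χ ∈ A then (1 : ℂ) else 0) χ
  have h2 := sum_coef_mul_div (fun χ : IrrCharacter G => if χ ∈ A' then (1 : ℂ) else 0) χ
  simp_rw [← blockCoeff_eq_coef] at h1 h2
  simp_rw [h] at h1
  rw [h2] at h1
  by_cases hχ : χ ∈ A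
  · rw [if_pos hχ] at h1
    by_cases hχ' : χ ∈ A'
    · exact ⟨fun _ => hχ', fun _ => hχ⟩
    · rw [if_neg hχ'] at h1
      exact absurd h1 zero_ne_one
  · rw [if_neg hχ] at h1
    by_cases hχ' : χ ∈ A'
    · rw [if_pos hχ'] at h1
      exact absurd h1 one_ne_zero
    · exact ⟨fun h => absurd h hχ, fun h => absurd h hχ'⟩

end Cfsg.Agent.Lib.helper3.Block
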