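import Mathlib
import Cfsg.Prelude.Def_Blocks
import Cfsg.Prelude.Def_BlockLocal
import Cfsg.Prelude.Def_BrauerPairs
import Cfsg.Agent.Lib.helper3.StableBlock
import Cfsg.Agent.Lib.helper3.BrauerMap3

/-!
# Blocks whose idempotents are supported on a normal subgroup
-/

set_option autoImplicit false
set_option linter.style.haveILetI false
set_option linter.unusedSectionVars false

namespace Cfsg.Agent.Lib.helper3.Block

open Cfsg Module Cfsg.Agent.Lib.helper3.CharBasic Cfsg.Agent.Lib.helper3.Irr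
open Cfsg.Agent.Lib.helper3.Central Cfsg.Agent.Lib.helper3.LocalM Cfsg.Agent.Lib.helper3.IndFun
open Cfsg.Agent.Lib.helper3.Lin
open scoped ComplexConjugate

variable {G : Type*} [Group G] [Fintype G] {M : Ideal AlgInt}

/-- The central character of a character lying over `θ`, evaluated on a class function supported
on the normal subgroup, is the central character of `θ` evaluated on it. -/
theorem sum_mul_div_of_over (N : Subgroup G) [hN : N.Normal] [Fintype N] (a : G → ℂ)
    (ha : ∀ g x : G, a (x * g * x⁻¹) = a g) (hsupp : ∀ g, g ∉ N → a g = 0)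
    (ψ : IrrCharacter G) (θ : IrrCharacter N) (h : ψ ∈ irrOver N (θ : N → ℂ)) :
    ∑ g : G, a g * ((ψ : G → ℂ) g / (ψ : G → ℂ) 1)
      = ∑ n : N, a (n : G) * ((θ : N → ℂ) n / (θ : N → ℂ) 1) := by
  classical
  have hθ1 := apply_one_ne_zero θ.2
  have hψ1 := apply_one_ne_zero ψ.2
  have hi1 := indFun_one_ne_zero N (θ : N → ℂ) hθ1
  have hG0 : (Nat.card G : ℂ) ≠ 0 := card_ne_zero_complex G
  have hN0 : (Nat.card N : ℂ) ≠ 0 := card_ne_zero_complex N
  have hidx0 : (N.index : ℂ) ≠ 0 := by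
    have : N.index ≠ 0 := Subgroup.index_ne_zero_of_finite
    exact_mod_cast this
  -- restrict the sum to `N`
  have h1 : ∑ g : G, a g * ((ψ : G → ℂ) g / (ψ : G → ℂ) 1)
      = ∑ n : N, a (n : G) * ((ψ : G → ℂ) n / (ψ : G → ℂ) 1) := by
    rw [← Finset.sum_subset (Finset.subset_univ (Finset.univ.filter (fun x : G => x ∈ N)))]
    · rw [Finset.sum_subtype (p := fun x : G => x ∈ N)
        (Finset.univ.filter (fun x : G => x ∈ N)) (by intro x; simp)]
    · intro x _ hx
      rw [Finset.mem_filter] at hx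
      rw [hsupp x (fun h => hx ⟨Finset.mem_univ _, h⟩), zero_mul]
  rw [h1]
  -- replace `ψ` by the induced function
  have h2 : ∀ n : N, (ψ : G → ℂ) n / (ψ : G → ℂ) 1
      = ((Nat.card N : ℂ)⁻¹ * ∑ x : G, conjFun N (θ : N → ℂ) x n)
        / ((N.index : ℂ) * (θ : N → ℂ) 1) := by
    intro n
    have := apply_mul_indFun_one_of_over N ψ θ h n
    rw [← indFun_normal_apply, ← indFun_apply_one]
    field_simp
    rw [this]
    ring
  simp_rw [h2]
  -- conjugation invariance
  have h3 : ∀ x : G, ∑ n : N, a (n : G) * conjFun N (θ : N → ℂ) x n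
      = ∑ n : N, a (n : G) * (θ : N → ℂ) n := by
    intro x
    apply Fintype.sum_equiv (MulAut.conjNormal x : N ≃* N).toEquiv
    intro n
    have e1 : ((MulAut.conjNormal x : N ≃* N) n : G) = x * (n : G) * x⁻¹ := by simp
    show a (n : G) * conjFun N (θ : N → ℂ) x n
      = a ((MulAut.conjNormal x : N ≃* N) n : G) * (θ : N → ℂ) ((MulAut.conjNormal x : N ≃* N) n)
    rw [e1, ha]
    congr 1
  have h4 : ∑ n : N, a (n : G) * ((Nat.card N : ℂ)⁻¹ * ∑ x : G, conjFun N (θ : N → ℂ) x n)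
      = (Nat.card N : ℂ)⁻¹ * ((Nat.card G : ℂ) * ∑ n : N, a (n : G) * (θ : N → ℂ) n) := by
    calc ∑ n : N, a (n : G) * ((Nat.card N : ℂ)⁻¹ * ∑ x : G, conjFun N (θ : N → ℂ) x n)
        = (Nat.card N : ℂ)⁻¹ * ∑ x : G, ∑ n : N, a (n : G) * conjFun N (θ : N → ℂ) x n := by
          rw [Finset.sum_comm, Finset.mul_sum]
          apply Finset.sum_congr rfl
          intro n _
          rw [Finset.mul_sum, Finset.mul_sum, Finset.mul_sum]
          apply Finset.sum_congr rfl
          intro x _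
          ring
      _ = (Nat.card N : ℂ)⁻¹ * ((Nat.card G : ℂ) * ∑ n : N, a (n : G) * (θ : N → ℂ) n) := by
          rw [Finset.sum_congr rfl (fun x _ => h3 x), Finset.sum_const, Finset.card_univ,
            nsmul_eq_mul, ← Nat.card_eq_fintype_card]
  have hcard : (Nat.card G : ℂ) = (Nat.card N : ℂ) * (N.index : ℂ) := by
    have := Subgroup.card_mul_index N
    exact_mod_cast this.symm
  have h5 : ∑ n : N, a (n : G) * (((Nat.card N : ℂ)⁻¹ * ∑ x : G, conjFun N (θ : N → ℂ) x n)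
      / ((N.index : ℂ) * (θ : N → ℂ) 1))
      = (∑ n : N, a (n : G) * ((Nat.card N : ℂ)⁻¹ * ∑ x : G, conjFun N (θ : N → ℂ) x n))
        / ((N.index : ℂ) * (θ : N → ℂ) 1) := by
    rw [Finset.sum_div]
    apply Finset.sum_congr rfl
    intro n _
    ring
  have h6 : ∑ n : N, a (n : G) * ((θ : N → ℂ) n / (θ : N → ℂ) 1)
      = (∑ n : N, a (n : G) * (θ : N → ℂ) n) / (θ : N → ℂ) 1 := by
    rw [Finset.sum_div]
    apply Finset.sum_congr rfl
    intro n _
    ring
  rw [h5, h4, h6, hcard]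
  field_simp


open Classical in
/-- The value of the central character of `θ` on an idempotent supported on `N`. -/
theorem sum_blockCoeff_mul_div_of_over (N : Subgroup G) [hN : N.Normal] [Fintype N]
    (B : Set (IrrCharacter G)) (hsupp : ∀ g, g ∉ N → blockCoeff B g = 0)
    (ψ : IrrCharacter G) (θ : IrrCharacter N) (h : ψ ∈ irrOver N (θ : N → ℂ)) :
    ∑ n : N, blockCoeff B (n : G) * ((θ : N → ℂ) n / (θ : N → ℂ) 1)
      = if ψ ∈ B then 1 else 0 := by
  rw [← sum_mul_div_of_over N (blockCoeff B) (fun g x => blockCoeff_conj' B g x) hsupp ψ θ h]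
  have := sum_coef_mul_div (fun χ : IrrCharacter G => if χ ∈ B then (1 : ℂ) else 0) ψ
  simp_rw [← blockCoeff_eq_coef] at this
  exact this

/-- Characters of the same block take congruent values on a local class function. -/
theorem memLocalIdeal_sum_mul_div_sub [hMp : M.IsPrime] (a : G → ℂ)
    (ha : ∀ g, MemLocalRing M (a g)) (hac : ∀ g x : G, a (x * g * x⁻¹) = a g)
    (θ θ' : IrrCharacter G) (h : SameBlock M (θ : G → ℂ) (θ' : G → ℂ)) :
    MemLocalIdeal M (∑ g : G, a g * ((θ : G → ℂ) g / (θ : G → ℂ) 1)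
      - ∑ g : G, a g * ((θ' : G → ℂ) g / (θ' : G → ℂ) 1)) := by
  rw [← Finset.sum_sub_distrib]
  apply memLocalIdeal_sum_class_fun
  · intro g x
    have e1 := isClassFunction_of_isCharacter (isCharacter_of_isIrrCharacter θ.2) g x
    have e2 := isClassFunction_of_isCharacter (isCharacter_of_isIrrCharacter θ'.2) g x
    rw [hac, e1, e2]
  · intro g
    have h1 := h g
    unfold centralChar at h1
    have h2 := memLocalIdeal_mul_localRing (ha g) h1
    convert h2 using 1
    ring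

/-- The characters lying over the orbit of a block of a normal subgroup supporting all block
idempotents form a block. -/
theorem overSet_conjOrbit_eq_blockOf {p : ℕ} [hp : Fact p.Prime] (hM : IsPModular p M)
    (N : Subgroup G) [hN : N.Normal] [Fintype N]
    (hsupp : ∀ B : Set (IrrCharacter G), IsPBlock M B → ∀ g, g ∉ N → blockCoeff B g = 0)
    (e : Set (IrrCharacter N)) (he : IsPBlock M e) (ξ₀ : IrrCharacter N) (hξ₀ : ξ₀ ∈ e)
    (χ₁ : IrrCharacter G) (hχ₁ : χ₁ ∈ irrOver N (ξ₀ : N → ℂ)) :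
    overSet N (conjOrbit N e) = blockOf M (χ₁ : G → ℂ) := by
  classical
  haveI hMp := isPrime_of_isPModular hM
  have hMtop : M ≠ ⊤ := hM.2.1.ne_top
  obtain ⟨ξ', he'⟩ := id he
  have hS := conjStable_conjOrbit N e
  have hclosed : ∀ θ ∈ conjOrbit N e, blockOf M (θ : N → ℂ) ⊆ conjOrbit N e := by
    rintro θ' ⟨g, ξ, hξ, hθ'⟩ ψ hψ
    have h1 : SameBlock M (conjFun N (θ' : N → ℂ) g⁻¹) (conjFun N (ψ : N → ℂ) g⁻¹) :=
      sameBlock_conjFun N hψ g⁻¹
    rw [hθ', conjFun_mul, mul_inv_cancel, conjFun_one] at h1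
    have h2 : conjIrr N g⁻¹ ψ ∈ e := by
      rw [he'] at hξ ⊢
      exact sameBlock_trans hξ h1
    refine ⟨g, conjIrr N g⁻¹ ψ, h2, ?_⟩
    show (ψ : N → ℂ) = conjFun N (conjFun N (ψ : N → ℂ) g⁻¹) g
    rw [conjFun_mul, inv_mul_cancel, conjFun_one]
  have hlocS : ∀ n, MemLocalRing M (blockCoeff (conjOrbit N e) n) :=
    memLocalRing_blockCoeff_of_closed hM _ hclosed
  have hlocO : ∀ g, MemLocalRing M (blockCoeff (overSet N (conjOrbit N e)) g) := by
    intro g
    rw [blockCoeff_overSet N _ hS]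
    unfold subgroupBlockCoeff
    by_cases hg : g ∈ N
    · rw [dif_pos hg]
      exact hlocS _
    · rw [dif_neg hg]
      exact memLocalRing_of_integral isIntegral_zero
  have hχ₁mem : χ₁ ∈ overSet N (conjOrbit N e) :=
    ⟨ξ₀, ⟨1, ξ₀, hξ₀, (conjFun_one N _).symm⟩, hχ₁⟩
  have hE : IsPBlock M (blockOf M (χ₁ : G → ℂ)) := ⟨χ₁, rfl⟩
  have hsE := hsupp _ hE
  have hχ₁E : χ₁ ∈ blockOf M (χ₁ : G → ℂ) := sameBlock_refl hMtop _
  apply Set.Subset.antisymm
  · rintro ψ ⟨θ', ⟨g, ξ, hξ, hθ'⟩, hψθ'⟩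
    have hψξ : ψ ∈ irrOver N (ξ : N → ℂ) := by
      show classInner (fun n : N => (ψ : G → ℂ) n) (ξ : N → ℂ) ≠ 0
      rw [← classInner_restrict_conjFun N (ψ : G → ℂ)
        (isClassFunction_of_isCharacter (isCharacter_of_isIrrCharacter ψ.2)) (ξ : N → ℂ) g, ← hθ']
      exact hψθ'
    have h1 := sum_blockCoeff_mul_div_of_over N _ hsE ψ ξ hψξ
    have h2 := sum_blockCoeff_mul_div_of_over N _ hsE χ₁ ξ₀ hχ₁
    rw [if_pos hχ₁E] at h2
    have hsb : SameBlock M (ξ : N → ℂ) (ξ₀ : N → ℂ) := by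
      rw [he'] at hξ hξ₀
      exact sameBlock_trans (sameBlock_symm hξ) hξ₀
    have h3 := memLocalIdeal_sum_mul_div_sub (M := M)
      (fun n : N => blockCoeff (blockOf M (χ₁ : G → ℂ)) (n : G))
      (fun n => osima hM _ hE _)
      (fun n x => by
        show blockCoeff _ ((x * n * x⁻¹ : N) : G) = _
        push_cast
        exact blockCoeff_conj' _ _ _) ξ ξ₀ hsb
    rw [h1, h2] at h3
    by_contra hψE
    rw [if_neg hψE, zero_sub] at h3
    apply not_memLocalIdeal_one (M := M)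
    have := memLocalIdeal_neg h3
    rwa [neg_neg] at this
  · exact union_of_blocks hM _ hlocO χ₁ hχ₁mem

end Cfsg.Agent.Lib.helper3.Block
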