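import Mathlib
import Cfsg.Prelude.Def_Blocks
import Cfsg.Prelude.Def_BlockLocal
import Cfsg.Prelude.Def_BrauerPairs
import Cfsg.Agent.Lib.helper3.NilCentral2
import Cfsg.Agent.Lib.helper3.AutBlock3
import Cfsg.Agent.Lib.helper3.NormalSupp

/-!
# A normal inclusion of Brauer pairs preserves the block
-/

set_option autoImplicit false
set_option linter.style.haveILetI false
set_option linter.unusedSectionVars false

namespace Cfsg.Agent.Lib.helper3.Block

open Cfsg Module Cfsg.Agent.Lib.helper3.CharBasic Cfsg.Agent.Lib.helper3.Irr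
open Cfsg.Agent.Lib.helper3.Central Cfsg.Agent.Lib.helper3.LocalM Cfsg.Agent.Lib.helper3.IndFun
open Cfsg.Agent.Lib.helper3.Lin
open scoped ComplexConjugate

variable {G : Type*} [Group G] [Fintype G] {M : Ideal AlgInt}

/-- The idempotent of a block of `H` stabilized by `x` is invariant under conjugation by `x`. -/
theorem subgroupBlockCoeff_conj_of_stabilizes [hMp : M.IsPrime] (H : Subgroup G) [Fintype H]
    (f : Set (IrrCharacter H)) (hf : IsPBlock M f) (x : G) (hx : StabilizesBlock H f x) (g : G) :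
    subgroupBlockCoeff H f (x * g * x⁻¹) = subgroupBlockCoeff H f g := by
  have h1 := (stabilizesBlock_iff H f hf ⟨x, hx.1⟩).mp hx
  have h2 := subgroupBlockCoeff_image_autIrr H f ⟨x, hx.1⟩ (x * g * x⁻¹)
  rw [h1] at h2
  rw [h2]
  congr 1
  show x⁻¹ * (x * g * x⁻¹) * x = g
  group

open Classical in
/-- The central character of a block idempotent. -/
theorem sum_blockCoeff_mul_div (B : Set (IrrCharacter G)) (χ : IrrCharacter G) :
    ∑ g : G, blockCoeff B g * ((χ : G → ℂ) g / (χ : G → ℂ) 1) = if χ ∈ B then 1 else 0 := by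
  have := sum_coef_mul_div (fun χ : IrrCharacter G => if χ ∈ B then (1 : ℂ) else 0) χ
  simp_rw [← blockCoeff_eq_coef] at this
  exact this


/-- The central character takes local values on local class functions. -/
theorem memLocalRing_sum_mul_div [hMp : M.IsPrime] (a : G → ℂ)
    (ha : ∀ g, MemLocalRing M (a g)) (hac : ∀ g x : G, a (x * g * x⁻¹) = a g)
    (θ : IrrCharacter G) :
    MemLocalRing M (∑ g : G, a g * ((θ : G → ℂ) g / (θ : G → ℂ) 1)) := by
  classical
  rw [sum_class_fun]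
  · apply memLocalRing_sum
    intro K _
    have e : ((Subgroup.centralizer ({Quotient.out K} : Set G)).index : ℂ)
        * (a (Quotient.out K) * ((θ : G → ℂ) (Quotient.out K) / (θ : G → ℂ) 1))
        = a (Quotient.out K) * centralChar (θ : G → ℂ) (Quotient.out K) := by
      unfold centralChar
      ring
    rw [e]
    exact memLocalRing_mul (ha _) (memLocalRing_of_integral (isIntegral_centralChar θ.2 _))
  · intro g x
    rw [isClassFunction_of_isCharacter (isCharacter_of_isIrrCharacter θ.2) g x, hac]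

/-- The key congruence for a normal inclusion of Brauer pairs: the Brauer functional at `P`
agrees with the central character of the smaller pair on the truncation. -/
theorem memLocalIdeal_brauerOmega_sub_sum {p : ℕ} [hp : Fact p.Prime] (hM : IsPModular p M)
    (P : Subgroup G) (hP : IsPGroup p P) [Fintype (Subgroup.centralizer (P : Set G))]
    (H : Subgroup G) [Fintype H] (hCH : Subgroup.centralizer (P : Set G) ≤ H)
    (f : Set (IrrCharacter H)) (hf : IsPBlock M f) (hst : ∀ x ∈ P, StabilizesBlock H f x)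
    (ξ : IrrCharacter (Subgroup.centralizer (P : Set G)))
    (hωξ : MemLocalIdeal M (brauerOmega P (subgroupBlockCoeff H f)
      (ξ : Subgroup.centralizer (P : Set G) → ℂ) - 1))
    (a : G → ℂ) (ha : ∀ g, MemLocalRing M (a g)) (hac : ∀ g x : G, a (x * g * x⁻¹) = a g)
    (θ₀ : IrrCharacter H) (hθ₀ : θ₀ ∈ f) :
    MemLocalIdeal M (brauerOmega P a (ξ : Subgroup.centralizer (P : Set G) → ℂ)
      - ∑ x : H, a (x : G) * ((θ₀ : H → ℂ) x / (θ₀ : H → ℂ) 1)) := by
  classical
  haveI hMp := isPrime_of_isPModular hM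
  have hMtop : M ≠ ⊤ := hM.2.1.ne_top
  obtain ⟨χf, hfdef⟩ := id hf
  -- notation
  obtain ⟨t, ht⟩ : ∃ t : G → ℂ, t = fun g => if g ∈ H then a g else 0 := ⟨_, rfl⟩
  obtain ⟨β, hβ⟩ : ∃ β : G → ℂ, β = subgroupBlockCoeff H f := ⟨_, rfl⟩
  obtain ⟨A, hA⟩ : ∃ A : IrrCharacter H → ℂ,
      A = fun θ : IrrCharacter H =>
        ∑ x : H, a (x : G) * ((θ : H → ℂ) x / (θ : H → ℂ) 1) := ⟨_, rfl⟩
  obtain ⟨κ, hκ⟩ : ∃ κ : ℂ, κ = A θ₀ := ⟨_, rfl⟩
  obtain ⟨z, hz⟩ : ∃ z : G → ℂ, z = fun g => conv t β g - κ * β g := ⟨_, rfl⟩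
  -- the restriction of `a` to `H`
  have haH_loc : ∀ x : H, MemLocalRing M (a (x : G)) := fun x => ha _
  have haH_conj : ∀ g x : H, a ((x * g * x⁻¹ : H) : G) = a (g : G) := by
    intro g x
    push_cast
    exact hac _ _
  have hAloc : ∀ θ, MemLocalRing M (A θ) := by
    intro θ
    rw [hA]
    exact memLocalRing_sum_mul_div (fun x : H => a (x : G)) haH_loc haH_conj θ
  have hκloc : MemLocalRing M κ := hκ ▸ hAloc θ₀
  -- facts on `t`
  have ht_mem : ∀ g, g ∈ H → t g = a g := by
    intro g hg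
    rw [ht]
    beta_reduce
    rw [if_pos hg]
  have ht_supp : ∀ g, g ∉ H → t g = 0 := by
    intro g hg
    rw [ht]
    beta_reduce
    rw [if_neg hg]
  have ht_loc : ∀ g, MemLocalRing M (t g) := by
    intro g
    by_cases hg : g ∈ H
    · rw [ht_mem g hg]
      exact ha g
    · rw [ht_supp g hg]
      exact memLocalRing_of_integral isIntegral_zero
  have ht_conj : ∀ x : G, (∀ g, g ∈ H ↔ x * g * x⁻¹ ∈ H) → ∀ g, t (x * g * x⁻¹) = t g := by
    intro x hx g
    by_cases hg : g ∈ H
    · rw [ht_mem g hg, ht_mem _ ((hx g).mp hg), hac]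
    · rw [ht_supp g hg, ht_supp _ (fun h => hg ((hx g).mpr h))]
  -- facts on `β`
  have hβ_loc : ∀ g, MemLocalRing M (β g) := by
    intro g
    rw [hβ]
    exact memLocalRing_subgroupBlockCoeff hM H f hf g
  have hβ_supp : ∀ g, g ∉ H → β g = 0 := by
    intro g hg
    rw [hβ]
    exact subgroupBlockCoeff_of_notMem H f hg
  have hβ_H : ∀ h ∈ H, ∀ g, β (h * g * h⁻¹) = β g := by
    intro h hh g
    rw [hβ]
    exact subgroupBlockCoeff_conj_of_mem H f h hh g
  have hβ_P : ∀ u ∈ P, ∀ g, β (u * g * u⁻¹) = β g := by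
    intro u hu g
    rw [hβ]
    exact subgroupBlockCoeff_conj_of_stabilizes H f hf u (hst u hu) g
  have hnormP : ∀ u ∈ P, ∀ g, g ∈ H ↔ u * g * u⁻¹ ∈ H := by
    intro u hu g
    exact (Subgroup.mem_normalizer_iff.mp (hst u hu).1) g
  have hnormH : ∀ h ∈ H, ∀ g, g ∈ H ↔ h * g * h⁻¹ ∈ H := by
    intro h hh g
    constructor
    · intro hg
      exact H.mul_mem (H.mul_mem hh hg) (H.inv_mem hh)
    · intro hg
      have := H.mul_mem (H.mul_mem (H.inv_mem hh) hg) hh
      rwa [show h⁻¹ * (h * g * h⁻¹) * h = g by group] at this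
  -- facts on `z`
  have hz_loc : ∀ g, MemLocalRing M (z g) := by
    intro g
    rw [hz]
    beta_reduce
    rw [sub_eq_add_neg]
    apply memLocalRing_add (memLocalRing_conv t β ht_loc hβ_loc g)
    have : -(κ * β g) = (-1 : ℂ) * (κ * β g) := by ring
    rw [this]
    exact memLocalRing_mul (memLocalRing_of_integral (isIntegral_one.neg))
      (memLocalRing_mul hκloc (hβ_loc g))
  have hz_conj : ∀ x : G, (∀ g, t (x * g * x⁻¹) = t g) → (∀ g, β (x * g * x⁻¹) = β g) →
      ∀ g, z (x * g * x⁻¹) = z g := by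
    intro x h1 h2 g
    rw [hz]
    beta_reduce
    rw [conv_conj t β x h1 h2, h2]
  have hz_P : ∀ u ∈ P, ∀ g, z (u * g * u⁻¹) = z g :=
    fun u hu => hz_conj u (ht_conj u (hnormP u hu)) (hβ_P u hu)
  have hz_H : ∀ h ∈ H, ∀ g, z (h * g * h⁻¹) = z g :=
    fun h hh => hz_conj h (ht_conj h (hnormH h hh)) (hβ_H h hh)
  have hz_C : ∀ c ∈ Subgroup.centralizer (P : Set G), ∀ g, z (c * g * c⁻¹) = z g :=
    fun c hc => hz_H c (hCH hc)
  have hconv_H : ∀ x : H, conv t β (x : G)
      = conv (fun y : H => a (y : G)) (blockCoeff f) x := by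
    intro x
    rw [conv_of_support H t β ht_supp]
    unfold conv
    apply Finset.sum_congr rfl
    intro y _
    rw [ht_mem _ y.2, hβ, subgroupBlockCoeff_of_mem H f (H.mul_mem (H.inv_mem y.2) x.2)]
    rfl
  have hz_supp : ∀ g, g ∉ H → z g = 0 := by
    intro g hg
    rw [hz]
    beta_reduce
    rw [hβ_supp g hg, mul_zero, sub_zero, conv_of_support H t β ht_supp]
    apply Finset.sum_eq_zero
    intro y _
    rw [hβ_supp ((y : G)⁻¹ * g), mul_zero]
    intro h
    apply hg
    have := H.mul_mem y.2 h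
    rwa [mul_inv_cancel_left] at this
  -- the central character values of `z`
  have hzθ : ∀ θ : IrrCharacter H, ∑ x : H, z (x : G) * ((θ : H → ℂ) x / (θ : H → ℂ) 1)
      = (A θ - κ) * (if θ ∈ f then 1 else 0) := by
    intro θ
    have h1 := centralFunctional_mul θ (fun y : H => a (y : G)) (blockCoeff f) haH_conj
    have h2 := sum_blockCoeff_mul_div f θ
    rw [h2] at h1
    have h3 : ∑ x : H, z (x : G) * ((θ : H → ℂ) x / (θ : H → ℂ) 1)
        = ∑ x : H, conv (fun y : H => a (y : G)) (blockCoeff f) x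
            * ((θ : H → ℂ) x / (θ : H → ℂ) 1)
          - κ * ∑ x : H, blockCoeff f x * ((θ : H → ℂ) x / (θ : H → ℂ) 1) := by
      rw [Finset.mul_sum, ← Finset.sum_sub_distrib]
      apply Finset.sum_congr rfl
      intro x _
      rw [hz]
      beta_reduce
      rw [hconv_H x, hβ, subgroupBlockCoeff_of_mem H f x.2]
      ring
    rw [h3, ← h1, h2, hA]
    ring
  have hc : ∀ θ : IrrCharacter H,
      MemLocalIdeal M (∑ x : H, z (x : G) * ((θ : H → ℂ) x / (θ : H → ℂ) 1)) := by
    intro θ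
    rw [hzθ θ]
    by_cases hθ : θ ∈ f
    · rw [if_pos hθ, mul_one, hκ, hA]
      apply memLocalIdeal_sum_mul_div_sub (fun x : H => a (x : G)) haH_loc haH_conj θ θ₀
      rw [hfdef] at hθ hθ₀
      exact sameBlock_trans (sameBlock_symm hθ) hθ₀
    · rw [if_neg hθ, mul_zero]
      exact memLocalIdeal_zero hMtop
  have hΛz := memLocalIdeal_brauerOmega_of_centralChar hM P hP H z hz_loc hz_P hz_C hz_supp hz_H
    hc ξ
  -- the Brauer functional of `z`
  have hΛz_eq : brauerOmega P z (ξ : Subgroup.centralizer (P : Set G) → ℂ)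
      = brauerOmega P (conv t β) (ξ : Subgroup.centralizer (P : Set G) → ℂ)
        - κ * brauerOmega P β (ξ : Subgroup.centralizer (P : Set G) → ℂ) := by
    rw [brauerOmega_eq_sum, brauerOmega_eq_sum, brauerOmega_eq_sum, Finset.mul_sum,
      ← Finset.sum_sub_distrib]
    apply Finset.sum_congr rfl
    intro x _
    rw [hz]
    ring
  have hΛt : brauerOmega P t (ξ : Subgroup.centralizer (P : Set G) → ℂ)
      = brauerOmega P a (ξ : Subgroup.centralizer (P : Set G) → ℂ) := by
    rw [brauerOmega_eq_sum, brauerOmega_eq_sum]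
    apply Finset.sum_congr rfl
    intro x _
    rw [ht_mem _ (hCH x.2)]
  have ht_C : ∀ c ∈ Subgroup.centralizer (P : Set G), ∀ g, t (c * g * c⁻¹) = t g :=
    fun c hc => ht_conj c (hnormH c (hCH hc))
  have hβ_C : ∀ c ∈ Subgroup.centralizer (P : Set G), ∀ g, β (c * g * c⁻¹) = β g :=
    fun c hc => hβ_H c (hCH hc)
  have hmul := memLocalIdeal_brauerOmega_conv hM P hP t β ht_loc hβ_loc
    (fun u hu => ht_conj u (hnormP u hu)) hβ_P ht_C hβ_C ξ
  have hΛt_loc := memLocalRing_brauerOmega P t ht_loc ht_C ξ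
  rw [← hβ] at hωξ
  rw [hΛz_eq] at hΛz
  have hκ' : κ = ∑ x : H, a (x : G) * ((θ₀ : H → ℂ) x / (θ₀ : H → ℂ) 1) := by
    rw [hκ, hA]
  rw [← hΛt, ← hκ']
  -- assemble
  have hloc1 : MemLocalRing M (brauerOmega P t (ξ : Subgroup.centralizer (P : Set G) → ℂ)
      - κ) := by
    rw [sub_eq_add_neg]
    apply memLocalRing_add hΛt_loc
    have : -κ = (-1 : ℂ) * κ := by ring
    rw [this]
    exact memLocalRing_mul (memLocalRing_of_integral (isIntegral_one.neg)) hκloc
  have h1 := memLocalIdeal_mul_localRing hloc1 hωξ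
  have h2 := memLocalIdeal_sub (memLocalIdeal_sub hΛz h1) hmul
  convert h2 using 1
  ring

end Cfsg.Agent.Lib.helper3.Block
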