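import Mathlib
import Cfsg.Prelude.Def_Blocks
import Cfsg.Agent.Lib.helper3.FirstMain1
import Cfsg.Agent.Lib.helper3.SubpairBlock
import Cfsg.Agent.S0908
import Cfsg.Agent.S0911
import Cfsg.Agent.S0912
import Cfsg.Agent.S0917
import Cfsg.Agent.S0918
import Cfsg.Agent.S0958

/-!
# Brauer's first main theorem: the pieces
-/

set_option autoImplicit false
set_option linter.style.haveILetI false
set_option linter.unusedSectionVars false

namespace Cfsg.Agent.Lib.helper3.Block

open Cfsg Cfsg.Agent.Lib.helper3.CharBasic Cfsg.Agent.Lib.helper3.Irr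
open Cfsg.Agent.Lib.helper3.Central Cfsg.Agent.Lib.helper3.LocalM

variable {G : Type*} [Group G] [Fintype G] {M : Ideal AlgInt}

theorem map_conj_of_normal {H : Type*} [Group H] (K : Subgroup H) [hK : K.Normal] (y : H) :
    K.map (MulAut.conj y).toMonoidHom = K := by
  ext x
  constructor
  · rintro ⟨d, hd, rfl⟩
    exact hK.conj_mem d hd y
  · intro hx
    refine ⟨y⁻¹ * x * y, ?_, ?_⟩
    · have := hK.conj_mem x hx y⁻¹
      rwa [inv_inv] at this
    · simp [mul_assoc]

/-- A block of `N_G(D)` with defect group `D` induces a block with defect group `D`. -/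
theorem isDefectGroup_of_induced_normalizer {p : ℕ} [hp : Fact p.Prime] (hM : IsPModular p M)
    (D : Subgroup G) (hD : IsPGroup p D)
    (b : Set (IrrCharacter (Subgroup.normalizer (D : Set G)))) (hb : IsPBlock M b)
    (hDb : IsDefectGroup p M b (D.subgroupOf (Subgroup.normalizer (D : Set G))))
    (B : Set (IrrCharacter G)) (hB : IsPBlock M B)
    (hind : IsInducedBlock M (Subgroup.normalizer (D : Set G)) b B) :
    IsDefectGroup p M B D := by
  classical
  haveI hMp := isPrime_of_isPModular hM
  have hMtop : M ≠ ⊤ := hM.2.1.ne_top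
  have hDN : D ≤ Subgroup.normalizer (D : Set G) := Subgroup.le_normalizer
  have hCN : Subgroup.centralizer (D : Set G) ≤ Subgroup.normalizer (D : Set G) :=
    Subgroup.centralizer_le_normalizer _
  obtain ⟨E, hE, hDE⟩ := Cfsg.Agent.S0917.result p M hM _ b hb B hB hind _ hDb
  rw [Subgroup.map_subgroupOf_eq_of_le hDN] at hDE
  obtain ⟨x, hx, S, hS⟩ := hDb
  obtain ⟨ha, ⟨T, hT⟩, hc⟩ := defect_in_normalizer D hD x S hS
  obtain ⟨ξ, hξ⟩ := isPBlock_nonempty hb
  obtain ⟨χ, hχ⟩ := isPBlock_nonempty hB
  have h18 := (Cfsg.Agent.S0918.result p M hM D _ hD hDN hCN le_rfl b hb B hB).mp hind ξ hξ χ hχ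
    (x : G)
  rw [brauerCentralChar_eq_centralChar D ξ x ha hc] at h18
  have hχx : ¬ MemLocalIdeal M (centralChar (χ : G → ℂ) (x : G)) := by
    intro h
    apply hx.2.2 ξ hξ
    have := memLocalIdeal_add h18 h
    rwa [sub_add_cancel] at this
  obtain ⟨gE, hgE, SE, rfl⟩ := id hE
  obtain ⟨y, Q, hyQ⟩ := (Cfsg.Agent.S0911.result p M hM B hB gE hgE SE (x : G)).2 ⟨χ, hχ, hχx⟩
  have hcard : Nat.card ((SE : Subgroup (Subgroup.centralizer ({gE} : Set G))).map
      (Subgroup.centralizer ({gE} : Set G)).subtype) ≤ Nat.card D := by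
    have h1 := Subgroup.card_le_of_le hyQ
    have e1 : Nat.card (((SE : Subgroup (Subgroup.centralizer ({gE} : Set G))).map
        (Subgroup.centralizer ({gE} : Set G)).subtype).map (MulAut.conj y).toMonoidHom)
        = Nat.card ((SE : Subgroup (Subgroup.centralizer ({gE} : Set G))).map
        (Subgroup.centralizer ({gE} : Set G)).subtype) :=
      Subgroup.card_map_of_injective (MulAut.conj y).injective
    have e2 : Nat.card ((Q : Subgroup (Subgroup.centralizer ({(x : G)} : Set G))).map
        (Subgroup.centralizer ({(x : G)} : Set G)).subtype) = Nat.card Q :=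
      Subgroup.card_map_of_injective (Subgroup.subtype_injective _)
    have e3 : Nat.card ((T : Subgroup (Subgroup.centralizer ({(x : G)} : Set G))).map
        (Subgroup.centralizer ({(x : G)} : Set G)).subtype) = Nat.card T :=
      Subgroup.card_map_of_injective (Subgroup.subtype_injective _)
    have e4 : Nat.card ((T : Subgroup (Subgroup.centralizer ({(x : G)} : Set G))).map
        (Subgroup.centralizer ({(x : G)} : Set G)).subtype) = Nat.card D :=
      congrArg (fun K : Subgroup G => Nat.card K) hT
    have e5 : Nat.card Q = Nat.card T := by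
      rw [Q.card_eq_multiplicity, T.card_eq_multiplicity]
    rw [e1, e2, e5, ← e3, e4] at h1
    exact h1
  have hEq := Subgroup.eq_of_le_of_card_ge hDE hcard
  rw [hEq]
  exact hE


/-- A block of `N_G(D)` inducing a block with defect group `D` has defect group `D`. -/
theorem isDefectGroup_normalizer_of_induced {p : ℕ} [hp : Fact p.Prime] (hM : IsPModular p M)
    (D : Subgroup G) (hD : IsPGroup p D)
    (B : Set (IrrCharacter G)) (hB : IsPBlock M B) (hDB : IsDefectGroup p M B D)
    (b : Set (IrrCharacter (Subgroup.normalizer (D : Set G))))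
    (hind : IsInducedBlock M (Subgroup.normalizer (D : Set G)) b B) :
    IsDefectGroup p M b (D.subgroupOf (Subgroup.normalizer (D : Set G))) := by
  classical
  haveI hMp := isPrime_of_isPModular hM
  have hDN : D ≤ Subgroup.normalizer (D : Set G) := Subgroup.le_normalizer
  have hb := hind.1
  obtain ⟨g₀, hg₀⟩ := exists_defectClass hM b hb
  obtain ⟨S₀⟩ : Nonempty (Sylow p (Subgroup.centralizer
    ({g₀} : Set (Subgroup.normalizer (D : Set G))))) := inferInstance
  have hDb : IsDefectGroup p M b
      ((S₀ : Subgroup (Subgroup.centralizer ({g₀} : Set (Subgroup.normalizer (D : Set G))))).map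
        (Subgroup.centralizer ({g₀} : Set (Subgroup.normalizer (D : Set G)))).subtype) :=
    ⟨g₀, hg₀, S₀, rfl⟩
  have hcore := Cfsg.Agent.S0912.result p M hM b hb _ hDb
  have hD' : D.subgroupOf (Subgroup.normalizer (D : Set G))
      ≤ pCore p (Subgroup.normalizer (D : Set G)) := by
    apply le_sSup
    refine ⟨?_, hD.comap_subtype⟩
    exact (Subgroup.normal_subgroupOf_iff_le_normalizer hDN).mpr le_rfl
  obtain ⟨E, hE, hDE⟩ := Cfsg.Agent.S0917.result p M hM (Subgroup.normalizer (D : Set G)) b hb B
    hB hind _ hDb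
  have hcardE := Cfsg.Agent.S0908.result p M hM B hB E hE
  have hcardD := Cfsg.Agent.S0908.result p M hM B hB D hDB
  have h1 := Subgroup.card_le_of_le hDE
  rw [Subgroup.card_map_of_injective (Subgroup.subtype_injective _), hcardE, ← hcardD] at h1
  have h2 : Nat.card (D.subgroupOf (Subgroup.normalizer (D : Set G))) = Nat.card D :=
    Nat.card_congr (Subgroup.subgroupOfEquivOfLe hDN).toEquiv
  rw [← h2] at h1
  have hEq := Subgroup.eq_of_le_of_card_ge (le_trans hD' hcore) h1
  rw [hEq]
  exact hDb

/-- Two blocks of `N_G(D)` with defect group `D` inducing the same block coincide. -/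
theorem induced_normalizer_unique {p : ℕ} [hp : Fact p.Prime] (hM : IsPModular p M)
    (D : Subgroup G) (hD : IsPGroup p D)
    (b₁ b₂ : Set (IrrCharacter (Subgroup.normalizer (D : Set G))))
    (hD₁ : IsDefectGroup p M b₁ (D.subgroupOf (Subgroup.normalizer (D : Set G))))
    (hD₂ : IsDefectGroup p M b₂ (D.subgroupOf (Subgroup.normalizer (D : Set G))))
    (B : Set (IrrCharacter G))
    (hi₁ : IsInducedBlock M (Subgroup.normalizer (D : Set G)) b₁ B)
    (hi₂ : IsInducedBlock M (Subgroup.normalizer (D : Set G)) b₂ B) : b₁ = b₂ := by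
  classical
  haveI hMp := isPrime_of_isPModular hM
  have hMtop : M ≠ ⊤ := hM.2.1.ne_top
  haveI : Fintype (Subgroup.normalizer (D : Set G)) := Fintype.ofFinite _
  have hDN : D ≤ Subgroup.normalizer (D : Set G) := Subgroup.le_normalizer
  have hCN : Subgroup.centralizer (D : Set G) ≤ Subgroup.normalizer (D : Set G) :=
    Subgroup.centralizer_le_normalizer _
  haveI hD'n : (D.subgroupOf (Subgroup.normalizer (D : Set G))).Normal :=
    (Subgroup.normal_subgroupOf_iff_le_normalizer hDN).mpr le_rfl
  have hb₁ := hi₁.1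
  have hb₂ := hi₂.1
  have hB := hi₁.2.1
  obtain ⟨ξ₁, hξ₁⟩ := isPBlock_nonempty hb₁
  obtain ⟨ξ₂, hξ₂⟩ := isPBlock_nonempty hb₂
  obtain ⟨χ, hχ⟩ := isPBlock_nonempty hB
  have h18₁ := (Cfsg.Agent.S0918.result p M hM D _ hD hDN hCN le_rfl b₁ hb₁ B hB).mp hi₁ ξ₁ hξ₁
    χ hχ
  have h18₂ := (Cfsg.Agent.S0918.result p M hM D _ hD hDN hCN le_rfl b₂ hb₂ B hB).mp hi₂ ξ₂ hξ₂
    χ hχ
  obtain ⟨x₁, hx₁, S₁, hS₁⟩ := hD₁
  obtain ⟨x₂, hx₂, S₂, hS₂⟩ := hD₂
  have haloc : ∀ n, MemLocalRing M (blockCoeff b₁ n) := fun n => osima hM b₁ hb₁ n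
  -- the key termwise congruence
  have hterm : ∀ n : Subgroup.normalizer (D : Set G), MemLocalIdeal M (blockCoeff b₁ n
      * (centralChar (ξ₂ : Subgroup.normalizer (D : Set G) → ℂ) n
        - centralChar (ξ₁ : Subgroup.normalizer (D : Set G) → ℂ) n)) := by
    intro n
    have hint : IsIntegral ℤ (centralChar (ξ₂ : Subgroup.normalizer (D : Set G) → ℂ) n
        - centralChar (ξ₁ : Subgroup.normalizer (D : Set G) → ℂ) n) :=
      (isIntegral_centralChar ξ₂.2 n).sub (isIntegral_centralChar ξ₁.2 n)
    by_cases hmem : MemLocalIdeal M (blockCoeff b₁ n)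
    · rw [mul_comm]
      exact memLocalIdeal_mul_integral hmem hint
    · by_cases hboth : MemLocalIdeal M (centralChar (ξ₁ : Subgroup.normalizer (D : Set G) → ℂ) n)
          ∧ MemLocalIdeal M (centralChar (ξ₂ : Subgroup.normalizer (D : Set G) → ℂ) n)
      · exact memLocalIdeal_mul_localRing (haloc n) (memLocalIdeal_sub hboth.2 hboth.1)
      · -- the class of `n` has defect group `D`
        obtain ⟨y, Q, hQ⟩ := (Cfsg.Agent.S0911.result p M hM b₁ hb₁ x₁ hx₁ S₁ n).1 (haloc n) hmem
        rw [← hS₁, map_conj_of_normal] at hQ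
        have hex : ∃ (Q' : Sylow p (Subgroup.centralizer
            ({n} : Set (Subgroup.normalizer (D : Set G))))),
            D.subgroupOf (Subgroup.normalizer (D : Set G))
              ≤ (Q' : Subgroup (Subgroup.centralizer
                ({n} : Set (Subgroup.normalizer (D : Set G))))).map
                (Subgroup.centralizer ({n} : Set (Subgroup.normalizer (D : Set G)))).subtype := by
          by_cases h1 : MemLocalIdeal M
              (centralChar (ξ₁ : Subgroup.normalizer (D : Set G) → ℂ) n)
          · have h2 : ¬ MemLocalIdeal M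
                (centralChar (ξ₂ : Subgroup.normalizer (D : Set G) → ℂ) n) :=
              fun h => hboth ⟨h1, h⟩
            obtain ⟨y', Q', hQ'⟩ := (Cfsg.Agent.S0911.result p M hM b₂ hb₂ x₂ hx₂ S₂ n).2
              ⟨ξ₂, hξ₂, h2⟩
            rw [← hS₂, map_conj_of_normal] at hQ'
            exact ⟨Q', hQ'⟩
          · obtain ⟨y', Q', hQ'⟩ := (Cfsg.Agent.S0911.result p M hM b₁ hb₁ x₁ hx₁ S₁ n).2
              ⟨ξ₁, hξ₁, h1⟩
            rw [← hS₁, map_conj_of_normal] at hQ'
            exact ⟨Q', hQ'⟩
        obtain ⟨Q', hQ'⟩ := hex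
        have hcard : Nat.card ((Q' : Subgroup (Subgroup.centralizer
            ({n} : Set (Subgroup.normalizer (D : Set G))))).map
            (Subgroup.centralizer ({n} : Set (Subgroup.normalizer (D : Set G)))).subtype)
            ≤ Nat.card (D.subgroupOf (Subgroup.normalizer (D : Set G))) := by
          have e1 := Subgroup.card_le_of_le hQ
          have e2 : Nat.card ((Q' : Subgroup (Subgroup.centralizer
              ({n} : Set (Subgroup.normalizer (D : Set G))))).map
              (Subgroup.centralizer ({n} : Set (Subgroup.normalizer (D : Set G)))).subtype)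
              = Nat.card Q' := Subgroup.card_map_of_injective (Subgroup.subtype_injective _)
          have e3 : Nat.card ((Q : Subgroup (Subgroup.centralizer
              ({n} : Set (Subgroup.normalizer (D : Set G))))).map
              (Subgroup.centralizer ({n} : Set (Subgroup.normalizer (D : Set G)))).subtype)
              = Nat.card Q := Subgroup.card_map_of_injective (Subgroup.subtype_injective _)
          have e4 : Nat.card Q' = Nat.card Q := by
            rw [Q.card_eq_multiplicity, Q'.card_eq_multiplicity]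
          rw [e2, e4, ← e3]
          exact e1
        have hEq := Subgroup.eq_of_le_of_card_ge hQ' hcard
        obtain ⟨ha, -, hc⟩ := defect_in_normalizer D hD n Q' hEq
        have k₁ := h18₁ (n : G)
        have k₂ := h18₂ (n : G)
        rw [brauerCentralChar_eq_centralChar D ξ₁ n ha hc] at k₁
        rw [brauerCentralChar_eq_centralChar D ξ₂ n ha hc] at k₂
        have k₃ := memLocalIdeal_sub k₂ k₁
        rw [sub_sub_sub_cancel_right] at k₃
        exact memLocalIdeal_mul_localRing (haloc n) k₃
  -- sum up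
  have hsum : MemLocalIdeal M
      (∑ n : Subgroup.normalizer (D : Set G), blockCoeff b₁ n
        * ((ξ₂ : Subgroup.normalizer (D : Set G) → ℂ) n
          / (ξ₂ : Subgroup.normalizer (D : Set G) → ℂ) 1)
      - ∑ n : Subgroup.normalizer (D : Set G), blockCoeff b₁ n
        * ((ξ₁ : Subgroup.normalizer (D : Set G) → ℂ) n
          / (ξ₁ : Subgroup.normalizer (D : Set G) → ℂ) 1)) := by
    rw [← Finset.sum_sub_distrib]
    apply memLocalIdeal_sum_class_fun
    · intro g x
      rw [isClassFunction_of_isCharacter (isCharacter_of_isIrrCharacter ξ₁.2) g x,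
        isClassFunction_of_isCharacter (isCharacter_of_isIrrCharacter ξ₂.2) g x,
        blockCoeff_conj' b₁ g x]
    · intro n
      have := hterm n
      unfold centralChar at this
      convert this using 1
      ring
  rw [sum_blockCoeff_mul_div, sum_blockCoeff_mul_div, if_pos hξ₁] at hsum
  have hξ₂' : ξ₂ ∈ b₁ := by
    by_contra hcon
    rw [if_neg hcon, zero_sub] at hsum
    apply not_memLocalIdeal_one (M := M)
    have := memLocalIdeal_neg hsum
    rwa [neg_neg] at this
  exact block_eq_of_mem hb₁ hb₂ ξ₂ hξ₂' hξ₂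

end Cfsg.Agent.Lib.helper3.Block
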