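import Mathlib
import Cfsg.Prelude.Def_Blocks
import Cfsg.Agent.Lib.helper3.AutBlock

/-!
# Transport of irreducible characters and blocks along a group isomorphism
-/

set_option autoImplicit false
set_option linter.style.haveILetI false
set_option linter.unusedSectionVars false

namespace Cfsg.Agent.Lib.helper3.Block

open Cfsg Module Cfsg.Agent.Lib.helper3.CharBasic Cfsg.Agent.Lib.helper3.Irr
open Cfsg.Agent.Lib.helper3.Central Cfsg.Agent.Lib.helper3.LocalM Cfsg.Agent.Lib.helper3.IndFun
open Cfsg.Agent.Lib.helper3.Lin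
open scoped ComplexConjugate

variable {H H' : Type*} [Group H] [Group H'] [Fintype H] [Fintype H'] {M : Ideal AlgInt}

/-- Transport of irreducible characters along an isomorphism. -/
noncomputable def irrCongr (ι : H' ≃* H) : IrrCharacter H ≃ IrrCharacter H' where
  toFun θ := ⟨fun h' => (θ : H → ℂ) (ι h'), isIrrCharacter_comp_mulEquiv ι θ.2⟩
  invFun θ' := ⟨fun h => (θ' : H' → ℂ) (ι.symm h), isIrrCharacter_comp_mulEquiv ι.symm θ'.2⟩
  left_inv θ := by
    apply Subtype.ext
    funext h
    show (θ : H → ℂ) (ι (ι.symm h)) = _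
    rw [MulEquiv.apply_symm_apply]
  right_inv θ' := by
    apply Subtype.ext
    funext h
    show (θ' : H' → ℂ) (ι.symm (ι h)) = _
    rw [MulEquiv.symm_apply_apply]

theorem irrCongr_apply (ι : H' ≃* H) (θ : IrrCharacter H) (h' : H') :
    (irrCongr ι θ : H' → ℂ) h' = (θ : H → ℂ) (ι h') := rfl

theorem index_centralizer_mulEquiv' (φ : H' ≃* H) (n : H') :
    (Subgroup.centralizer ({φ n} : Set H)).index
      = (Subgroup.centralizer ({n} : Set H')).index := by
  have e : Subgroup.centralizer ({φ n} : Set H)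
      = (Subgroup.centralizer ({n} : Set H')).map φ.toMonoidHom := by
    ext x
    rw [Subgroup.mem_map_equiv, Subgroup.mem_centralizer_singleton_iff,
      Subgroup.mem_centralizer_singleton_iff]
    constructor
    · intro h
      apply φ.injective
      rw [map_mul, map_mul, MulEquiv.apply_symm_apply]
      exact h
    · intro h
      have := congrArg φ h
      rw [map_mul, map_mul, MulEquiv.apply_symm_apply] at this
      exact this
  rw [e]
  exact Subgroup.index_map_equiv _ φ

theorem centralChar_irrCongr (ι : H' ≃* H) (θ : IrrCharacter H) (h' : H') :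
    centralChar (irrCongr ι θ : H' → ℂ) h' = centralChar (θ : H → ℂ) (ι h') := by
  unfold centralChar
  rw [irrCongr_apply, irrCongr_apply, map_one, index_centralizer_mulEquiv' ι h']

theorem sameBlock_irrCongr_iff (ι : H' ≃* H) (θ θ' : IrrCharacter H) :
    SameBlock M (irrCongr ι θ : H' → ℂ) (irrCongr ι θ' : H' → ℂ)
      ↔ SameBlock M (θ : H → ℂ) (θ' : H → ℂ) := by
  constructor
  · intro h x
    have := h (ι.symm x)
    rw [centralChar_irrCongr, centralChar_irrCongr, MulEquiv.apply_symm_apply] at this
    exact this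
  · intro h x
    rw [centralChar_irrCongr, centralChar_irrCongr]
    exact h _

theorem image_irrCongr_blockOf (ι : H' ≃* H) (χ : IrrCharacter H) :
    irrCongr ι '' blockOf M (χ : H → ℂ) = blockOf M (irrCongr ι χ : H' → ℂ) := by
  ext ψ
  constructor
  · rintro ⟨θ, hθ, rfl⟩
    exact (sameBlock_irrCongr_iff ι χ θ).mpr hθ
  · intro hψ
    refine ⟨(irrCongr ι).symm ψ, ?_, (irrCongr ι).apply_symm_apply ψ⟩
    have : SameBlock M (irrCongr ι χ : H' → ℂ)
        (irrCongr ι ((irrCongr ι).symm ψ) : H' → ℂ) := by
      rw [(irrCongr ι).apply_symm_apply ψ]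
      exact hψ
    exact (sameBlock_irrCongr_iff ι χ _).mp this

theorem isPBlock_image_irrCongr (ι : H' ≃* H) (S : Set (IrrCharacter H)) (hS : IsPBlock M S) :
    IsPBlock M (irrCongr ι '' S) := by
  obtain ⟨χ, rfl⟩ := hS
  exact ⟨irrCongr ι χ, image_irrCongr_blockOf ι χ⟩

theorem blockCoeff_image_irrCongr (ι : H' ≃* H) (S : Set (IrrCharacter H)) (h' : H') :
    blockCoeff (irrCongr ι '' S) h' = blockCoeff S (ι h') := by
  unfold blockCoeff
  rw [finsum_mem_image (fun a _ b _ hab => (irrCongr ι).injective hab), Nat.card_congr ι.toEquiv]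
  congr 1
  apply finsum_congr
  intro θ
  apply finsum_congr
  intro _
  rw [irrCongr_apply, irrCongr_apply, map_one]

end Cfsg.Agent.Lib.helper3.Block
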