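import Mathlib
import Cfsg.Prelude.Def_Blocks
import Cfsg.Agent.Lib.helper3.FirstMain2
import Cfsg.Agent.Lib.helper3.IrrCongr
import Cfsg.Agent.Lib.helper3.IndBlockLocal
import Cfsg.Agent.Lib.helper3.SecMain11

/-!
# Towards the extended first main theorem

* `isInducedBlock_unique` : a block induces at most one block.
* `isInducedBlock_trans` : transitivity of block induction, for a subgroup of a subgroup.
* `isDefectGroup_of_induced_le_normalizer` : a block of `H`, `D ≤ H ≤ N_G(D)`, inducing a block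
  with defect group `D` has defect group `D`.
-/

set_option autoImplicit false
set_option linter.style.haveILetI false
set_option linter.unusedSectionVars false

namespace Cfsg.Agent.Lib.helper3.Block

open Cfsg Cfsg.Agent.Lib.helper3.CharBasic Cfsg.Agent.Lib.helper3.Irr
open Cfsg.Agent.Lib.helper3.Central Cfsg.Agent.Lib.helper3.LocalM

variable {G : Type*} [Group G] [Fintype G] {M : Ideal AlgInt}

/-- A block induces at most one block. -/
theorem isInducedBlock_unique [hMp : M.IsPrime] (H : Subgroup G) (b : Set (IrrCharacter H))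
    (B B' : Set (IrrCharacter G)) (h : IsInducedBlock M H b B) (h' : IsInducedBlock M H b B') :
    B = B' := by
  have hMtop : M ≠ ⊤ := hMp.ne_top
  obtain ⟨ξ, hξ⟩ : ∃ ξ, ξ ∈ b := by
    obtain ⟨χ, hχ⟩ := h.1
    exact ⟨χ, by rw [hχ]; exact sameBlock_refl hMtop _⟩
  obtain ⟨χ, hχB⟩ := h.2.1
  obtain ⟨χ', hχB'⟩ := h'.2.1
  have hχ : χ ∈ B := by rw [hχB]; exact sameBlock_refl hMtop _
  have hχ' : χ' ∈ B' := by rw [hχB']; exact sameBlock_refl hMtop _
  have hsame : SameBlock M (χ : G → ℂ) (χ' : G → ℂ) := by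
    intro g
    have h1 := h.2.2 ξ hξ χ hχ g
    have h2 := h'.2.2 ξ hξ χ' hχ' g
    have h3 := memLocalIdeal_sub h2 h1
    convert h3 using 1
    ring
  have hχ'B : χ' ∈ B := by rw [hχB]; exact hsame
  exact isPBlock_eq_of_mem h.2.1 h'.2.1 χ' hχ'B hχ'

open Classical in
/-- Summing class by class along a map into a group. -/
theorem sum_fiberwise_conjClasses {X : Type*} [Group X] [Fintype X] {ι : Type*} [Fintype ι]
    (f : ι → X) (F : ι → ℂ) :
    ∑ i : ι, F i = ∑ C : ConjClasses X, ∑ i : ι, if ConjClasses.mk (f i) = C then F i else 0 := by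
  rw [← Finset.sum_fiberwise Finset.univ (fun i => ConjClasses.mk (f i))]
  apply Finset.sum_congr rfl
  intro C _
  rw [Finset.sum_filter]

open Classical in
/-- Transitivity of block induction: `K' ≤ H` (a copy of `K ≤ G`), `H ≤ G`. -/
theorem isInducedBlock_trans [hMp : M.IsPrime] (K H : Subgroup G)
    (K' : Subgroup H) (ι : K' ≃* K)
    (hι : ∀ m : K', ((ι m : K) : G) = ((m : H) : G))
    (b : Set (IrrCharacter K)) (hb : IsPBlock M b)
    (B₁ : Set (IrrCharacter H)) (B₂ : Set (IrrCharacter G))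
    (h1 : IsInducedBlock M K' (irrCongr ι '' b) B₁) (h2 : IsInducedBlock M H B₁ B₂) :
    IsInducedBlock M K b B₂ := by
  have hMtop : M ≠ ⊤ := hMp.ne_top
  refine ⟨hb, h2.2.1, ?_⟩
  intro ξ hξ χ hχ g
  obtain ⟨ζ, hζ⟩ : ∃ ζ, ζ ∈ B₁ := by
    obtain ⟨χ, hχ⟩ := h1.2.1
    exact ⟨χ, by rw [hχ]; exact sameBlock_refl hMtop _⟩
  have hA := h2.2.2 ζ hζ χ hχ g
  obtain ⟨ξ', hξ'⟩ : ∃ ξ' : IrrCharacter K', ξ' = irrCongr ι ξ := ⟨_, rfl⟩
  have hξ'mem : ξ' ∈ irrCongr ι '' b := ⟨ξ, hξ, hξ'.symm⟩
  have hξ'app : ∀ m : K', (ξ' : K' → ℂ) m = (ξ : K → ℂ) (ι m) := by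
    intro m
    rw [hξ']
    rfl
  have hC : ∀ C : ConjClasses H, MemLocalIdeal M
      (inducedCentralChar K' (ξ' : K' → ℂ) (Quotient.out C)
        - centralChar (ζ : H → ℂ) (Quotient.out C)) :=
    fun C => h1.2.2 ξ' hξ'mem ζ hζ _
  -- the two induced central characters as sums
  obtain ⟨F₁, hF₁⟩ : ∃ F₁ : H → ℂ, F₁ = fun h : H =>
      if IsConj g (h : G) then (ζ : H → ℂ) h / (ζ : H → ℂ) 1 else 0 := ⟨_, rfl⟩
  have hF₁app : ∀ h : H, F₁ h
      = if IsConj g (h : G) then (ζ : H → ℂ) h / (ζ : H → ℂ) 1 else 0 := by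
    intro h; rw [hF₁]
  obtain ⟨F₂, hF₂⟩ : ∃ F₂ : K' → ℂ, F₂ = fun m : K' =>
      if IsConj g ((m : H) : G) then (ξ' : K' → ℂ) m / (ξ' : K' → ℂ) 1 else 0 := ⟨_, rfl⟩
  have hF₂app : ∀ m : K', F₂ m
      = if IsConj g ((m : H) : G) then (ξ' : K' → ℂ) m / (ξ' : K' → ℂ) 1 else 0 := by
    intro m; rw [hF₂]
  have hconjH : ∀ h x : H, IsConj g (((x * h * x⁻¹ : H)) : G) ↔ IsConj g ((h : H) : G) := by
    intro h x
    have hc : IsConj ((h : H) : G) (((x * h * x⁻¹ : H)) : G) := by
      rw [isConj_iff]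
      exact ⟨(x : G), by simp⟩
    exact ⟨fun h' => h'.trans hc.symm, fun h' => h'.trans hc⟩
  have hF₁cl : ∀ h x : H, F₁ (x * h * x⁻¹) = F₁ h := by
    intro h x
    rw [hF₁app, hF₁app,
      isClassFunction_of_isCharacter (isCharacter_of_isIrrCharacter ζ.2) h x]
    by_cases hg : IsConj g ((h : H) : G)
    · rw [if_pos hg, if_pos ((hconjH h x).mpr hg)]
    · rw [if_neg hg, if_neg (fun h' => hg ((hconjH h x).mp h'))]
  have e1 : inducedCentralChar H (ζ : H → ℂ) g = ∑ h : H, F₁ h := by
    rw [inducedCentralChar_eq_sum]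
    apply Finset.sum_congr rfl
    intro h _
    rw [hF₁app]
  have e2 : inducedCentralChar K (ξ : K → ℂ) g = ∑ m : K', F₂ m := by
    rw [inducedCentralChar_eq_sum]
    symm
    apply Fintype.sum_equiv ι.toEquiv
    intro m
    have h1 : ((ι.toEquiv m : K) : G) = ((m : H) : G) := hι m
    rw [hF₂app, hξ'app, hξ'app, map_one, h1]
    rfl
  have s1 := sum_class_fun F₁ hF₁cl
  have s2 := sum_fiberwise_conjClasses (X := H) (fun m : K' => (m : H)) F₂
  have hB : MemLocalIdeal M (inducedCentralChar K (ξ : K → ℂ) g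
      - inducedCentralChar H (ζ : H → ℂ) g) := by
    rw [e1, e2, s1, s2, ← Finset.sum_sub_distrib]
    apply memLocalIdeal_sum
    intro C _
    have hmk : ∀ m : K', ConjClasses.mk (m : H) = C ↔ IsConj (Quotient.out C) (m : H) := by
      intro m
      have hC' : ConjClasses.mk (Quotient.out C) = C := Quotient.out_eq C
      rw [← ConjClasses.mk_eq_mk_iff_isConj, hC']
      exact eq_comm
    have hGconj : ∀ m : K', IsConj (Quotient.out C) (m : H) →
        IsConj ((Quotient.out C : H) : G) ((m : H) : G) := by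
      intro m hm
      obtain ⟨c, hc⟩ := isConj_iff.mp hm
      rw [isConj_iff]
      refine ⟨(c : G), ?_⟩
      have := congrArg (fun x : H => (x : G)) hc
      simpa using this
    by_cases hg : IsConj g ((Quotient.out C : H) : G)
    · convert hC C using 2
      · rw [inducedCentralChar_eq_sum]
        apply Finset.sum_congr rfl
        intro m _
        by_cases hm : ConjClasses.mk (m : H) = C
        · have hm' := (hmk m).mp hm
          rw [if_pos hm, if_pos hm', hF₂app, if_pos (hg.trans (hGconj m hm'))]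
        · rw [if_neg hm, if_neg (fun h' => hm ((hmk m).mpr h'))]
      · rw [hF₁app, if_pos hg]
        unfold centralChar
        ring
    · convert memLocalIdeal_zero hMtop using 1
      rw [hF₁app, if_neg hg, mul_zero, sub_zero]
      apply Finset.sum_eq_zero
      intro m _
      by_cases hm : ConjClasses.mk (m : H) = C
      · have hm' := (hmk m).mp hm
        rw [if_pos hm, hF₂app, if_neg]
        intro hgm
        exact hg (hgm.trans (hGconj m hm').symm)
      · rw [if_neg hm]
  have := memLocalIdeal_add hB hA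
  rwa [sub_add_sub_cancel] at this

/-- A block of `H`, `D ≤ H ≤ N_G(D)`, inducing a block with defect group `D` has defect group
`D`. -/
theorem isDefectGroup_of_induced_le_normalizer {p : ℕ} [hp : Fact p.Prime] (hM : IsPModular p M)
    (D H : Subgroup G) (hD : IsPGroup p D) (hDH : D ≤ H)
    (hHN : H ≤ Subgroup.normalizer (D : Set G))
    (B : Set (IrrCharacter G)) (hB : IsPBlock M B) (hDB : IsDefectGroup p M B D)
    (b : Set (IrrCharacter H)) (hind : IsInducedBlock M H b B) :
    IsDefectGroup p M b (D.subgroupOf H) := by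
  classical
  haveI hMp := isPrime_of_isPModular hM
  have hb := hind.1
  obtain ⟨g₀, hg₀⟩ := exists_defectClass hM b hb
  obtain ⟨S₀⟩ : Nonempty (Sylow p (Subgroup.centralizer ({g₀} : Set H))) := inferInstance
  have hDb : IsDefectGroup p M b
      ((S₀ : Subgroup (Subgroup.centralizer ({g₀} : Set H))).map
        (Subgroup.centralizer ({g₀} : Set H)).subtype) :=
    ⟨g₀, hg₀, S₀, rfl⟩
  have hcore := Cfsg.Agent.S0912.result p M hM b hb _ hDb
  have hD' : D.subgroupOf H ≤ pCore p H := by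
    apply le_sSup
    refine ⟨?_, hD.comap_subtype⟩
    exact (Subgroup.normal_subgroupOf_iff_le_normalizer hDH).mpr hHN
  obtain ⟨E, hE, hDE⟩ := Cfsg.Agent.S0917.result p M hM H b hb B hB hind _ hDb
  have hcardE := Cfsg.Agent.S0908.result p M hM B hB E hE
  have hcardD := Cfsg.Agent.S0908.result p M hM B hB D hDB
  have h1 := Subgroup.card_le_of_le hDE
  rw [Subgroup.card_map_of_injective (Subgroup.subtype_injective _), hcardE, ← hcardD] at h1
  have h2 : Nat.card (D.subgroupOf H) = Nat.card D :=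
    Nat.card_congr (Subgroup.subgroupOfEquivOfLe hDH).toEquiv
  rw [← h2] at h1
  have hEq := Subgroup.eq_of_le_of_card_ge (le_trans hD' hcore) h1
  rw [hEq]
  exact hDb

end Cfsg.Agent.Lib.helper3.Block
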