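import Mathlib
import Cfsg.Prelude.Def_Characters
import Cfsg.Prelude.Def_Blocks
import Cfsg.Agent.Lib.helper3.BlockInd

/-!
# An induced block contains a character over each member of the inducing block
-/

set_option autoImplicit false
set_option linter.style.haveILetI false
set_option linter.unusedSectionVars false

namespace Cfsg.Agent.Lib.helper3.Block

open Cfsg Module Cfsg.Agent.Lib.helper3.CharBasic Cfsg.Agent.Lib.helper3.Irr
open Cfsg.Agent.Lib.helper3.Central Cfsg.Agent.Lib.helper3.LocalM Cfsg.Agent.Lib.helper3.IndFun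
open scoped ComplexConjugate

variable {G : Type*} [Group G] [Fintype G] {M : Ideal AlgInt}

/-- A form of Frobenius reciprocity for sums against a class function. -/
theorem sum_indFun_mul (H : Subgroup G) [Fintype H] (θ : H → ℂ) (A : G → ℂ)
    (hA : ∀ g h : G, A (h * g * h⁻¹) = A g) :
    (Nat.card G : ℂ)⁻¹ * ∑ g : G, indFun H θ g * A g
      = (Nat.card H : ℂ)⁻¹ * ∑ h : H, θ h * A h := by
  have hcf : IsClassFunction G (fun g => conj (A g)) := by
    intro g h
    show conj (A (h * g * h⁻¹)) = conj (A g)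
    rw [hA]
  have := frobenius_reciprocity H θ (fun g => conj (A g)) hcf
  rw [classInner_apply, classInner_apply] at this
  simpa only [Complex.conj_conj] using this

theorem exists_constituent_of_induced {p : ℕ} (hM : IsPModular p M) (H : Subgroup G) [Fintype H]
    (b : Set (IrrCharacter H)) (B : Set (IrrCharacter G)) (hind : IsInducedBlock M H b B)
    (ξ : IrrCharacter H) (hξ : ξ ∈ b) :
    ∃ χ ∈ B, classInner (fun h : H => (χ : G → ℂ) h) (ξ : H → ℂ) ≠ 0 := by
  classical
  haveI := isPrime_of_isPModular hM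
  have hMtop : M ≠ ⊤ := hM.2.1.ne_top
  obtain ⟨-, hB, hcong⟩ := hind
  have hOs := osima hM B hB
  obtain ⟨χ₀, hB'⟩ := hB
  have hχ₀ : χ₀ ∈ B := by
    rw [hB']
    exact sameBlock_refl hMtop _
  by_contra hcon
  push Not at hcon
  obtain ⟨c, hc⟩ : ∃ c : IrrCharacter G → ℂ, c = fun χ => if χ ∈ B then (1 : ℂ) else 0 :=
    ⟨_, rfl⟩
  have hcoef : ∀ g, blockCoeff B g = coef c g := by
    intro g
    rw [hc]
    exact blockCoeff_eq_coef B g
  have hH0 : (Nat.card H : ℂ) ≠ 0 := card_ne_zero_complex H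
  have hG0 : (Nat.card G : ℂ) ≠ 0 := card_ne_zero_complex G
  have hξ1 := apply_one_ne_zero ξ.2
  have hχ1 := apply_one_ne_zero χ₀.2
  -- (i) the sum over `H` vanishes
  have h1 : ∑ h : H, (ξ : H → ℂ) h * coef c (h : G) = 0 := by
    unfold coef
    have e1 : ∀ h : H, (ξ : H → ℂ) h * ((Nat.card G : ℂ)⁻¹ * ∑ χ : IrrCharacter G,
        c χ * (χ : G → ℂ) 1 * conj ((χ : G → ℂ) (h : G)))
        = ∑ χ : IrrCharacter G, (Nat.card G : ℂ)⁻¹ * (c χ * (χ : G → ℂ) 1) *
          ((ξ : H → ℂ) h * conj ((χ : G → ℂ) (h : G))) := by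
      intro h
      rw [Finset.mul_sum, Finset.mul_sum]
      apply Finset.sum_congr rfl
      intro χ _
      ring
    rw [Finset.sum_congr rfl (fun h _ => e1 h), Finset.sum_comm]
    apply Finset.sum_eq_zero
    intro χ _
    rw [← Finset.mul_sum]
    by_cases hχ : χ ∈ B
    · have h2 := hcon χ hχ
      have h3 : classInner (ξ : H → ℂ) (fun h : H => (χ : G → ℂ) h) = 0 := by
        rw [← classInner_conj_symm, h2, map_zero]
      rw [classInner_apply] at h3
      have h4 : ∑ h : H, (ξ : H → ℂ) h * conj ((χ : G → ℂ) (h : G)) = 0 := by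
        rcases mul_eq_zero.mp h3 with h5 | h5
        · exact absurd (inv_eq_zero.mp h5) hH0
        · exact h5
      rw [h4, mul_zero]
    · have : c χ = 0 := by rw [hc]; exact if_neg hχ
      rw [this]; ring
  -- (ii) hence the sum over `G` against the induced function vanishes
  have h2 : ∑ g : G, indFun H (ξ : H → ℂ) g * coef c g = 0 := by
    have := sum_indFun_mul H (ξ : H → ℂ) (coef c) (coef_conj c)
    rw [h1, mul_zero] at this
    rcases mul_eq_zero.mp this with h5 | h5
    · exact absurd (inv_eq_zero.mp h5) hG0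
    · exact h5
  have hind1 : indFun H (ξ : H → ℂ) 1 ≠ 0 := by
    rw [indFun_apply]
    have : ∀ x : G, extendByZero H (ξ : H → ℂ) (x⁻¹ * 1 * x) = (ξ : H → ℂ) 1 := by
      intro x
      have e : x⁻¹ * 1 * x = ((1 : H) : G) := by simp
      rw [e, extendByZero_coe]
    rw [Finset.sum_congr rfl (fun x _ => this x), Finset.sum_const, Finset.card_univ,
      nsmul_eq_mul]
    have hc0 : (Fintype.card G : ℂ) ≠ 0 := by
      have : Fintype.card G ≠ 0 := Fintype.card_ne_zero
      exact_mod_cast this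
    exact mul_ne_zero (inv_ne_zero hH0) (mul_ne_zero hc0 hξ1)
  -- (iii) a sum in the local ideal
  have h3 : MemLocalIdeal M (∑ g : G, coef c g *
      (indFun H (ξ : H → ℂ) g / indFun H (ξ : H → ℂ) 1 - (χ₀ : G → ℂ) g / (χ₀ : G → ℂ) 1)) := by
    apply memLocalIdeal_sum_class_fun
    · intro g h
      rw [coef_conj, indFun_isClassFunction H (ξ : H → ℂ) g h,
        isClassFunction_of_isCharacter (isCharacter_of_isIrrCharacter χ₀.2) g h]
    · intro g
      have h4 := hcong ξ hξ χ₀ hχ₀ g
      rw [← centralChar_indFun H (ξ : H → ℂ) hξ1 g] at h4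
      have h5 := memLocalIdeal_mul_localRing (hOs g) h4
      rw [hcoef] at h5
      convert h5 using 1
      unfold centralChar
      ring
  -- (iv) but the sum is `-1`
  have h4 : ∑ g : G, coef c g *
      (indFun H (ξ : H → ℂ) g / indFun H (ξ : H → ℂ) 1 - (χ₀ : G → ℂ) g / (χ₀ : G → ℂ) 1)
      = -1 := by
    have e1 : ∀ g : G, coef c g *
        (indFun H (ξ : H → ℂ) g / indFun H (ξ : H → ℂ) 1 - (χ₀ : G → ℂ) g / (χ₀ : G → ℂ) 1)
        = (indFun H (ξ : H → ℂ) g * coef c g) / indFun H (ξ : H → ℂ) 1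
          - coef c g * ((χ₀ : G → ℂ) g / (χ₀ : G → ℂ) 1) := by
      intro g
      ring
    have hcχ : c χ₀ = 1 := by rw [hc]; exact if_pos hχ₀
    rw [Finset.sum_congr rfl (fun g _ => e1 g), Finset.sum_sub_distrib, ← Finset.sum_div, h2,
      sum_coef_mul_div, hcχ]
    simp
  rw [h4] at h3
  have := memLocalIdeal_neg h3
  rw [neg_neg] at this
  exact not_memLocalIdeal_one this

end Cfsg.Agent.Lib.helper3.Block
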