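import Mathlib
import Cfsg.Prelude.Def_Blocks
import Cfsg.Agent.Lib.helper3.FR1
import Cfsg.Agent.Lib.helper3.BlockCover2
import Cfsg.Agent.Lib.helper3.GalPow2
import Cfsg.Agent.Lib.helper3.IrrCongr

set_option autoImplicit false
set_option linter.style.haveILetI false
set_option linter.unusedSectionVars false

/-!
# The Clifford correspondence over the stabilizer of a block of a normal subgroup
-/

namespace Cfsg.Agent.Lib.helper3.Block

open Cfsg Module Cfsg.Agent.Lib.helper3.CharBasic Cfsg.Agent.Lib.helper3.Irr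
open Cfsg.Agent.Lib.helper3.Central Cfsg.Agent.Lib.helper3.LocalM Cfsg.Agent.Lib.helper3.IndFun
open Cfsg.Agent.Lib.helper3.GalPow
open scoped ComplexConjugate

variable {G : Type*} [Group G] [Fintype G] {M : Ideal AlgInt}

section FR

variable (N : Subgroup G) [hN : N.Normal] [Fintype N] (T : Subgroup G) [Fintype T]

/-- `T` is the stabilizer of the set `b` of characters of `N`. -/
def IsBlockStab (b : Set (IrrCharacter N)) : Prop :=
  ∀ g : G, g ∈ T ↔ ∀ θ ∈ b, ∀ θ' : IrrCharacter N,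
    (∀ n : N, (θ' : N → ℂ) n = (θ : N → ℂ) ⟨g * n * g⁻¹, hN.conj_mem n n.2 g⟩) → θ' ∈ b

theorem conjIrr_mem_of_mem {b : Set (IrrCharacter N)} (hT : IsBlockStab N T b) {g : G}
    (hg : g ∈ T) {θ : IrrCharacter N} (hθ : θ ∈ b) : conjIrr N g θ ∈ b :=
  (hT g).mp hg θ hθ _ (fun _ => rfl)

theorem mem_of_conjIrr_mem [M.IsPrime] {b : Set (IrrCharacter N)} (hb : IsPBlock M b)
    (hT : IsBlockStab N T b) {g : G} {θ : IrrCharacter N} (hθ : θ ∈ b)
    (hg : conjIrr N g θ ∈ b) : g ∈ T := by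
  obtain ⟨χ₀, rfl⟩ := hb
  rw [hT g]
  intro θ₁ hθ₁ θ₁' h
  have e : (θ₁' : N → ℂ) = conjFun N (θ₁ : N → ℂ) g := funext h
  have h1 : SameBlock M (θ₁ : N → ℂ) (θ : N → ℂ) := sameBlock_trans (sameBlock_symm hθ₁) hθ
  have h2 := sameBlock_conjFun (M := M) N h1 g
  have h3 : SameBlock M (χ₀ : N → ℂ) (conjFun N (θ : N → ℂ) g) := hg
  show SameBlock M (χ₀ : N → ℂ) (θ₁' : N → ℂ)
  rw [e]
  exact sameBlock_trans h3 (sameBlock_symm h2)

/-- The inertia group of a member of `b` lies in the stabilizer of `b`. -/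
theorem inertia_le [M.IsPrime] {b : Set (IrrCharacter N)} (hb : IsPBlock M b)
    (hT : IsBlockStab N T b) {θ : IrrCharacter N} (hθ : θ ∈ b) :
    ∀ g : G, (∀ h : N, (θ : N → ℂ) ⟨g * h * g⁻¹, hN.conj_mem h h.2 g⟩ = (θ : N → ℂ) h) → g ∈ T := by
  intro g hg
  apply mem_of_conjIrr_mem N T hb hT hθ
  have : conjIrr N g θ = θ := by
    apply Subtype.ext
    funext h
    exact hg h
  rw [this]
  exact hθ

theorem classInner_ind_sub_ne_zero (hNT : N ≤ T) (θ : N → ℂ) (ψ : T → ℂ)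
    (hψ : IsIrrCharacter T ψ)
    (h : classInner (fun n : N => ψ ⟨(n : G), hNT n.2⟩) θ ≠ 0) :
    classInner (indFun (N.subgroupOf T) (subFun N T θ)) ψ ≠ 0 := by
  classical
  letI : Fintype (N.subgroupOf T) := Fintype.ofFinite _
  have hcfψ := isClassFunction_of_isCharacter (isCharacter_of_isIrrCharacter hψ)
  rw [frobenius_reciprocity (N.subgroupOf T) _ _ hcfψ]
  have h2 : (fun x : N.subgroupOf T => ψ (x : T))
      = subFun N T (fun n : N => ψ ⟨(n : G), hNT n.2⟩) := rfl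
  rw [h2, classInner_subFun hNT, ← classInner_conj_symm]
  intro h0
  apply h
  have := congrArg conj h0
  simpa using this

/-- Characters of the stabilizer over a member of `b` induce irreducibly. -/
theorem isIrr_ind_of_over [M.IsPrime] {b : Set (IrrCharacter N)} (hb : IsPBlock M b)
    (hT : IsBlockStab N T b) (hNT : N ≤ T) (ψ : IrrCharacter T) (θ : IrrCharacter N)
    (hθ : θ ∈ b)
    (h : classInner (fun n : N => (ψ : T → ℂ) ⟨(n : G), hNT n.2⟩) (θ : N → ℂ) ≠ 0) :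
    IsIrrCharacter G (indFun T (ψ : T → ℂ)) := by
  have hc := classInner_ind_sub_ne_zero N T hNT (θ : N → ℂ) (ψ : T → ℂ) ψ.2 h
  exact (clifford_corr_injective' N T (θ : N → ℂ) θ.2 (inertia_le N T hb hT hθ) hNT
    (ψ : T → ℂ) (ψ : T → ℂ) ψ.2 ψ.2 hc hc).1

theorem eq_of_ind_eq_of_over_same [M.IsPrime] {b : Set (IrrCharacter N)} (hb : IsPBlock M b)
    (hT : IsBlockStab N T b) (hNT : N ≤ T) (ψ ψ' : IrrCharacter T) (θ : IrrCharacter N)
    (hθ : θ ∈ b)
    (h : classInner (fun n : N => (ψ : T → ℂ) ⟨(n : G), hNT n.2⟩) (θ : N → ℂ) ≠ 0)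
    (h' : classInner (fun n : N => (ψ' : T → ℂ) ⟨(n : G), hNT n.2⟩) (θ : N → ℂ) ≠ 0)
    (heq : indFun T (ψ : T → ℂ) = indFun T (ψ' : T → ℂ)) : ψ = ψ' := by
  have hc := classInner_ind_sub_ne_zero N T hNT (θ : N → ℂ) (ψ : T → ℂ) ψ.2 h
  have hc' := classInner_ind_sub_ne_zero N T hNT (θ : N → ℂ) (ψ' : T → ℂ) ψ'.2 h'
  exact Subtype.ext ((clifford_corr_injective' N T (θ : N → ℂ) θ.2 (inertia_le N T hb hT hθ) hNT
    (ψ : T → ℂ) (ψ' : T → ℂ) ψ.2 ψ'.2 hc hc').2 heq)

/-- The induced character lies over the same character of `N`. -/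
theorem over_ind_of_over [M.IsPrime] {b : Set (IrrCharacter N)} (hb : IsPBlock M b)
    (hT : IsBlockStab N T b) (hNT : N ≤ T) (ψ : IrrCharacter T) (θ : IrrCharacter N)
    (hθ : θ ∈ b)
    (h : classInner (fun n : N => (ψ : T → ℂ) ⟨(n : G), hNT n.2⟩) (θ : N → ℂ) ≠ 0) :
    classInner (fun n : N => indFun T (ψ : T → ℂ) n) (θ : N → ℂ) ≠ 0 := by
  classical
  obtain ⟨f, hf, hirr, horth, hind⟩ :=
    clifford_corr_aux' N T (θ : N → ℂ) θ.2 (inertia_le N T hb hT hθ) hNT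
  have hc := classInner_ind_sub_ne_zero N T hNT (θ : N → ℂ) (ψ : T → ℂ) ψ.2 h
  have hfψ : f ψ ≠ 0 := by
    intro h0
    apply hc
    rw [hf]
    have := classInner_decomposition_left (fun χ : IrrCharacter T => (f χ : ℂ)) ψ
    beta_reduce at this
    rw [this, h0, Nat.cast_zero]
  have hχ := hirr ψ hfψ
  have hcf := isClassFunction_of_isCharacter (isCharacter_of_isIrrCharacter hχ)
  have hmult : classInner (indFun N (θ : N → ℂ)) (indFun T (ψ : T → ℂ)) = (f ψ : ℂ) := by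
    rw [hind, classInner_sum_left, Finset.sum_eq_single ψ]
    · rw [classInner_smul_left, irr_classInner_self hχ, mul_one]
    · intro ψ' _ hne'
      rw [classInner_smul_left]
      by_cases hfψ' : f ψ' = 0
      · rw [hfψ', Nat.cast_zero, zero_mul]
      · rw [horth ψ' ψ hfψ' hfψ hne', mul_zero]
    · intro h; exact absurd (Finset.mem_univ _) h
  rw [frobenius_reciprocity N (θ : N → ℂ) _ hcf] at hmult
  intro h0
  have h1 : classInner (θ : N → ℂ) (fun n : N => indFun T (ψ : T → ℂ) n) = 0 := by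
    rw [← classInner_conj_symm, h0, map_zero]
  rw [h1] at hmult
  exact hfψ (by exact_mod_cast hmult.symm)

/-- Every character of `G` over a member of `b` is induced from the stabilizer. -/
theorem exists_of_over [M.IsPrime] {b : Set (IrrCharacter N)} (hb : IsPBlock M b)
    (hT : IsBlockStab N T b) (hNT : N ≤ T) (χ : IrrCharacter G) (θ : IrrCharacter N)
    (hθ : θ ∈ b)
    (h : classInner (fun n : N => (χ : G → ℂ) n) (θ : N → ℂ) ≠ 0) :
    ∃ ψ : IrrCharacter T, indFun T (ψ : T → ℂ) = (χ : G → ℂ) ∧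
      classInner (fun n : N => (ψ : T → ℂ) ⟨(n : G), hNT n.2⟩) (θ : N → ℂ) ≠ 0 := by
  obtain ⟨ψ, hψ, hind, hc⟩ := clifford_corr_surjective' N (θ : N → ℂ) θ.2 T
    (inertia_le N T hb hT hθ) hNT (χ : G → ℂ) χ.2 h
  exact ⟨⟨ψ, hψ⟩, hind, by rw [hc]; exact h⟩

/-- Class functions of `T` pair equally with `T`-conjugate characters of `N`. -/
theorem classInner_res_conjFun (hNT : N ≤ T) (ψ : T → ℂ) (hcf : IsClassFunction T ψ)
    (θ : N → ℂ) (g : G) (hg : g ∈ T) :
    classInner (fun n : N => ψ ⟨(n : G), hNT n.2⟩) (conjFun N θ g)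
      = classInner (fun n : N => ψ ⟨(n : G), hNT n.2⟩) θ := by
  rw [classInner_apply, classInner_apply]
  congr 1
  apply Fintype.sum_equiv (MulAut.conjNormal g : N ≃* N).toEquiv
  intro n
  have e1 : ψ ⟨((MulAut.conjNormal g n : N) : G), hNT (MulAut.conjNormal g n : N).2⟩
      = ψ ⟨(n : G), hNT n.2⟩ := by
    have := hcf ⟨(n : G), hNT n.2⟩ ⟨g, hg⟩
    rw [← this]
    congr 1
  have e2 : conjFun N θ g n = θ (MulAut.conjNormal g n) := by
    rw [conjFun_eq_comp]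
  show _ = ψ ⟨((MulAut.conjNormal g n : N) : G), _⟩ * conj (θ (MulAut.conjNormal g n))
  rw [e1, e2]

/-- The Clifford correspondence is injective on the characters over `b`. -/
theorem eq_of_ind_eq [M.IsPrime] {b : Set (IrrCharacter N)} (hb : IsPBlock M b)
    (hT : IsBlockStab N T b) (hNT : N ≤ T) (ψ ψ' : IrrCharacter T) (θ θ' : IrrCharacter N)
    (hθ : θ ∈ b) (hθ' : θ' ∈ b)
    (h : classInner (fun n : N => (ψ : T → ℂ) ⟨(n : G), hNT n.2⟩) (θ : N → ℂ) ≠ 0)
    (h' : classInner (fun n : N => (ψ' : T → ℂ) ⟨(n : G), hNT n.2⟩) (θ' : N → ℂ) ≠ 0)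
    (heq : indFun T (ψ : T → ℂ) = indFun T (ψ' : T → ℂ)) : ψ = ψ' := by
  have hχ := isIrr_ind_of_over N T hb hT hNT ψ θ hθ h
  have ho := over_ind_of_over N T hb hT hNT ψ θ hθ h
  have ho' := over_ind_of_over N T hb hT hNT ψ' θ' hθ' h'
  rw [← heq] at ho'
  obtain ⟨g, hg⟩ := exists_conj_of_constituents N _ hχ θ θ' ho ho'
  have hgT : g ∈ T := by
    apply mem_of_conjIrr_mem N T hb hT hθ
    have : conjIrr N g θ = θ' := Subtype.ext hg.symm
    rw [this]
    exact hθ'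
  have h'' : classInner (fun n : N => (ψ' : T → ℂ) ⟨(n : G), hNT n.2⟩) (θ : N → ℂ) ≠ 0 := by
    rw [hg, classInner_res_conjFun N T hNT _
      (isClassFunction_of_isCharacter (isCharacter_of_isIrrCharacter ψ'.2)) _ g hgT] at h'
    exact h'
  exact eq_of_ind_eq_of_over_same N T hb hT hNT ψ ψ' θ hθ h h'' heq

end FR

end Cfsg.Agent.Lib.helper3.Block
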