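import Mathlib
import Cfsg.Prelude.Def_Blocks
import Cfsg.Agent.Lib.helper3.FR2
import Cfsg.Agent.Lib.helper3.BlockInd2
import Cfsg.Agent.Lib.helper3.BlockMinMax3
import Cfsg.Agent.Lib.helper3.NormalSupp
import Cfsg.Agent.Lib.helper3.Irr10

set_option autoImplicit false
set_option linter.style.haveILetI false
set_option linter.unusedSectionVars false

/-!
# Blocks of the stabilizer of a block of a normal subgroup: separation by induced idempotents
-/

namespace Cfsg.Agent.Lib.helper3.Block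

open Cfsg Module Cfsg.Agent.Lib.helper3.CharBasic Cfsg.Agent.Lib.helper3.Irr
open Cfsg.Agent.Lib.helper3.Central Cfsg.Agent.Lib.helper3.LocalM Cfsg.Agent.Lib.helper3.IndFun
open Cfsg.Agent.Lib.helper3.GalPow
open scoped ComplexConjugate

variable {G : Type*} [Group G] [Fintype G] {M : Ideal AlgInt}

/-- Summing a right-invariant function coset by coset. -/
theorem sum_eq_card_mul_sum_out (T : Subgroup G) (F : G → ℂ)
    (hF : ∀ g : G, ∀ t ∈ T, F (g * t) = F g) :
    ∑ g : G, F g = (Nat.card T : ℂ) * ∑ᶠ q : G ⧸ T, F (Quotient.out q) := by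
  classical
  letI : Fintype (G ⧸ T) := Fintype.ofFinite _
  letI : Fintype T := Fintype.ofFinite _
  rw [finsum_eq_sum_of_fintype]
  have hmem : ∀ g : G, (Quotient.out (g : G ⧸ T))⁻¹ * g ∈ T := by
    intro g
    have h1 : ((Quotient.out (g : G ⧸ T) : G) : G ⧸ T) = (g : G ⧸ T) := Quotient.out_eq' _
    exact QuotientGroup.eq.mp h1
  let e : (G ⧸ T) × T ≃ G :=
    { toFun := fun p => Quotient.out p.1 * (p.2 : G)
      invFun := fun g => ((g : G ⧸ T), ⟨(Quotient.out (g : G ⧸ T))⁻¹ * g, hmem g⟩)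
      left_inv := by
        rintro ⟨q, t⟩
        have h1 : ((Quotient.out q * (t : G) : G) : G ⧸ T) = q := by
          rw [QuotientGroup.mk_mul_of_mem _ t.2]
          exact Quotient.out_eq' q
        apply Prod.ext
        · exact h1
        · apply Subtype.ext
          simp only
          rw [h1]
          group
      right_inv := by
        intro g
        simp }
  rw [← Equiv.sum_comp e F, Fintype.sum_prod_type, Finset.mul_sum]
  apply Finset.sum_congr rfl
  intro q _
  have : ∀ t : T, F (e (q, t)) = F (Quotient.out q) := fun t => hF _ t t.2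
  rw [Finset.sum_congr rfl (fun t _ => this t), Finset.sum_const, Finset.card_univ, nsmul_eq_mul,
    Nat.card_eq_fintype_card]

theorem extendByZero_conj_of_mem (T : Subgroup G) (φ : T → ℂ) (hφ : IsClassFunction T φ) (c : G)
    (hc : c ∈ T) (y : G) : extendByZero T φ (c * y * c⁻¹) = extendByZero T φ y := by
  by_cases hy : y ∈ T
  · rw [extendByZero_mem T φ hy, extendByZero_mem T φ (T.mul_mem (T.mul_mem hc hy) (T.inv_mem hc))]
    exact hφ ⟨y, hy⟩ ⟨c, hc⟩
  · rw [extendByZero_not_mem T φ hy, extendByZero_not_mem T φ]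
    intro h
    apply hy
    have := T.mul_mem (T.mul_mem (T.inv_mem hc) h) hc
    rw [show c⁻¹ * (c * y * c⁻¹) * c = y by group] at this
    exact this

/-- Inducing a class function with local values gives local values. -/
theorem memLocalRing_indFun [M.IsPrime] (T : Subgroup G) (φ : T → ℂ)
    (hφ : IsClassFunction T φ) (hloc : ∀ t : T, MemLocalRing M (φ t)) (g : G) :
    MemLocalRing M (indFun T φ g) := by
  classical
  letI : Fintype (G ⧸ T) := Fintype.ofFinite _
  have hcard : (Nat.card T : ℂ) ≠ 0 := by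
    have : Nat.card T ≠ 0 := Nat.card_pos.ne'
    exact_mod_cast this
  rw [indFun_apply, sum_eq_card_mul_sum_out T (fun x => extendByZero T φ (x⁻¹ * g * x)),
    ← mul_assoc, inv_mul_cancel₀ hcard, one_mul, finsum_eq_sum_of_fintype]
  · apply memLocalRing_sum
    intro q _
    by_cases hy : (Quotient.out q)⁻¹ * g * Quotient.out q ∈ T
    · rw [extendByZero_mem T φ hy]
      exact hloc _
    · rw [extendByZero_not_mem T φ hy]
      exact memLocalRing_of_integral isIntegral_zero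
  · intro x t ht
    have := extendByZero_conj_of_mem T φ hφ t⁻¹ (T.inv_mem ht) (x⁻¹ * g * x)
    rw [← this]
    congr 1
    group

section FR

variable (N : Subgroup G) [hN : N.Normal] [Fintype N] (T : Subgroup G) [Fintype T]

/-- Membership among the characters of `T` over `b` is constant on blocks of `T`. -/
theorem over_of_sameBlock_stab {p : ℕ} (hM : IsPModular p M) {b : Set (IrrCharacter N)}
    (hb : IsPBlock M b) (hNT : N ≤ T) (ψ ψ' : IrrCharacter T)
    (hs : SameBlock M (ψ : T → ℂ) (ψ' : T → ℂ))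
    (h : ∃ θ ∈ b, classInner (fun n : N => (ψ : T → ℂ) ⟨(n : G), hNT n.2⟩) (θ : N → ℂ) ≠ 0) :
    ∃ θ ∈ b, classInner (fun n : N => (ψ' : T → ℂ) ⟨(n : G), hNT n.2⟩) (θ : N → ℂ) ≠ 0 := by
  classical
  letI : Fintype (N.subgroupOf T) := Fintype.ofFinite _
  obtain ⟨ι, hι⟩ : ∃ ι : N.subgroupOf T ≃* N, ι = Subgroup.subgroupOfEquivOfLe hNT := ⟨_, rfl⟩
  have hb' : IsPBlock M (irrCongr ι '' b) := isPBlock_image_irrCongr ι b hb
  have key : ∀ (η : IrrCharacter T) (θ : IrrCharacter N),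
      classInner (fun n : N.subgroupOf T => (η : T → ℂ) n) (irrCongr ι θ : N.subgroupOf T → ℂ)
        = classInner (fun n : N => (η : T → ℂ) ⟨(n : G), hNT n.2⟩) (θ : N → ℂ) := by
    intro η θ
    have e1 : (fun n : N.subgroupOf T => (η : T → ℂ) n)
        = subFun N T (fun n : N => (η : T → ℂ) ⟨(n : G), hNT n.2⟩) := rfl
    have e2 : (irrCongr ι θ : N.subgroupOf T → ℂ) = subFun N T (θ : N → ℂ) := by
      rw [hι]; rfl
    rw [e1, e2, classInner_subFun hNT]
  have h1 : ∃ θ' ∈ irrCongr ι '' b,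
      classInner (fun n : N.subgroupOf T => (ψ : T → ℂ) n) (θ' : N.subgroupOf T → ℂ) ≠ 0 := by
    obtain ⟨θ, hθ, hne⟩ := h
    exact ⟨irrCongr ι θ, ⟨θ, hθ, rfl⟩, by rw [key]; exact hne⟩
  obtain ⟨θ', ⟨θ, hθ, rfl⟩, hne⟩ := over_of_congr (N.subgroupOf T) hM (irrCongr ι '' b) hb' ψ ψ'
    (fun n => hs n) h1
  exact ⟨θ, hθ, by rw [key] at hne; exact hne⟩

open Classical in
/-- The induced idempotent of a union of characters over `b` detects membership. -/
theorem sum_ind_blockCoeff_mul [M.IsPrime] {b : Set (IrrCharacter N)} (hb : IsPBlock M b)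
    (hT : IsBlockStab N T b) (hNT : N ≤ T) (B' : Set (IrrCharacter T))
    (hB' : ∀ η ∈ B', ∃ θ ∈ b,
      classInner (fun n : N => (η : T → ℂ) ⟨(n : G), hNT n.2⟩) (θ : N → ℂ) ≠ 0)
    (ψ : IrrCharacter T) (θ : IrrCharacter N) (hθ : θ ∈ b)
    (h : classInner (fun n : N => (ψ : T → ℂ) ⟨(n : G), hNT n.2⟩) (θ : N → ℂ) ≠ 0) :
    ∑ g : G, indFun T (blockCoeff B') g * (indFun T (ψ : T → ℂ) g / indFun T (ψ : T → ℂ) 1)
      = if ψ ∈ B' then 1 else 0 := by
  classical
  have hχ := isIrr_ind_of_over N T hb hT hNT ψ θ hθ h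
  have hcf := isClassFunction_of_isCharacter (isCharacter_of_isIrrCharacter hχ)
  have h1 := sum_indFun_mul T (blockCoeff B') (indFun T (ψ : T → ℂ)) hcf
  have h2 := sum_blockCoeff_mul B' (fun t : T => indFun T (ψ : T → ℂ) t)
  have h3 : ∀ η : IrrCharacter T, (if η ∈ B' then (1 : ℂ) else 0) * (η : T → ℂ) 1
      * classInner (fun t : T => indFun T (ψ : T → ℂ) t) (η : T → ℂ)
      = if η = ψ then (if ψ ∈ B' then (ψ : T → ℂ) 1 else 0) else 0 := by
    intro η
    by_cases hη : η ∈ B'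
    · obtain ⟨θ', hθ', hne⟩ := hB' η hη
      have hχη := isIrr_ind_of_over N T hb hT hNT η θ' hθ' hne
      have e1 : classInner (fun t : T => indFun T (ψ : T → ℂ) t) (η : T → ℂ)
          = conj (classInner (indFun T (η : T → ℂ)) (indFun T (ψ : T → ℂ))) := by
        rw [frobenius_reciprocity T (η : T → ℂ) _ hcf, classInner_conj_symm]
      rw [e1, irr_classInner_eq hχη hχ, if_pos hη]
      by_cases hηψ : η = ψ
      · subst hηψ
        rw [if_pos rfl, if_pos rfl, if_pos hη, map_one]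
        ring
      · have hne' : ¬ indFun T (η : T → ℂ) = indFun T (ψ : T → ℂ) := by
          intro heq
          exact hηψ (eq_of_ind_eq N T hb hT hNT η ψ θ' θ hθ' hθ hne h heq)
        rw [if_neg hηψ, if_neg hne', map_zero, mul_zero]
    · rw [if_neg hη, zero_mul, zero_mul]
      by_cases hηψ : η = ψ
      · subst hηψ
        rw [if_pos rfl, if_neg hη]
      · rw [if_neg hηψ]
  rw [Finset.sum_congr rfl (fun η _ => h3 η), Finset.sum_ite_eq' Finset.univ ψ,
    if_pos (Finset.mem_univ _)] at h2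
  rw [h2] at h1
  have hcardG : (Nat.card G : ℂ) ≠ 0 := by
    have : Nat.card G ≠ 0 := Nat.card_pos.ne'
    exact_mod_cast this
  have hcardT : (Nat.card T : ℂ) ≠ 0 := by
    have : Nat.card T ≠ 0 := Nat.card_pos.ne'
    exact_mod_cast this
  have hidx : (Nat.card G : ℂ) = (T.index : ℂ) * (Nat.card T : ℂ) := by
    have := T.index_mul_card
    exact_mod_cast this.symm
  have hψ1 : (ψ : T → ℂ) 1 ≠ 0 := apply_one_ne_zero ψ.2
  have hidx0 : (T.index : ℂ) ≠ 0 := by
    intro h0
    rw [h0, zero_mul] at hidx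
    exact hcardG hidx
  have h4 : ∑ g : G, indFun T (blockCoeff B') g * indFun T (ψ : T → ℂ) g
      = (T.index : ℂ) * (if ψ ∈ B' then (ψ : T → ℂ) 1 else 0) := by
    have : ∑ g : G, indFun T (blockCoeff B') g * indFun T (ψ : T → ℂ) g
        = (Nat.card G : ℂ) * ((Nat.card G : ℂ)⁻¹
          * ∑ g : G, indFun T (blockCoeff B') g * indFun T (ψ : T → ℂ) g) := by
      rw [← mul_assoc, mul_inv_cancel₀ hcardG, one_mul]
    rw [this, h1, hidx]
    field_simp
  have h5 : ∀ g : G, indFun T (blockCoeff B') g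
      * (indFun T (ψ : T → ℂ) g / indFun T (ψ : T → ℂ) 1)
      = (indFun T (blockCoeff B') g * indFun T (ψ : T → ℂ) g) / indFun T (ψ : T → ℂ) 1 := by
    intro g
    ring
  rw [Finset.sum_congr rfl (fun g _ => h5 g), ← Finset.sum_div, h4, indFun_apply_one]
  by_cases hψ : ψ ∈ B'
  · rw [if_pos hψ, if_pos hψ]
    field_simp
  · rw [if_neg hψ, if_neg hψ, mul_zero, zero_div]

/-- Separation: characters over `b` whose induced characters lie in one block of `G` lie in one
block of `T`. -/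
theorem mem_of_sameBlock_ind {p : ℕ} (hM : IsPModular p M) {b : Set (IrrCharacter N)}
    (hb : IsPBlock M b) (hT : IsBlockStab N T b) (hNT : N ≤ T) (B' : Set (IrrCharacter T))
    (hB'blk : IsPBlock M B')
    (hB' : ∀ η ∈ B', ∃ θ ∈ b,
      classInner (fun n : N => (η : T → ℂ) ⟨(n : G), hNT n.2⟩) (θ : N → ℂ) ≠ 0)
    (ψ₁ ψ₂ : IrrCharacter T) (h1 : ψ₁ ∈ B') (θ₂ : IrrCharacter N) (hθ₂ : θ₂ ∈ b)
    (h2 : classInner (fun n : N => (ψ₂ : T → ℂ) ⟨(n : G), hNT n.2⟩) (θ₂ : N → ℂ) ≠ 0)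
    (hs : SameBlock M (indFun T (ψ₁ : T → ℂ)) (indFun T (ψ₂ : T → ℂ))) : ψ₂ ∈ B' := by
  classical
  haveI := isPrime_of_isPModular hM
  obtain ⟨θ₁, hθ₁, hne₁⟩ := hB' ψ₁ h1
  have hχ₁ := isIrr_ind_of_over N T hb hT hNT ψ₁ θ₁ hθ₁ hne₁
  have hχ₂ := isIrr_ind_of_over N T hb hT hNT ψ₂ θ₂ hθ₂ h2
  have ha : ∀ g, MemLocalRing M (indFun T (blockCoeff B') g) := by
    intro g
    apply memLocalRing_indFun T (blockCoeff B')
    · intro t c
      exact blockCoeff_conj B' t c
    · intro t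
      exact osima hM B' hB'blk t
  have hac : ∀ g x : G, indFun T (blockCoeff B') (x * g * x⁻¹) = indFun T (blockCoeff B') g :=
    fun g x => indFun_isClassFunction T (blockCoeff B') g x
  have key := memLocalIdeal_sum_mul_div_sub (M := M) (indFun T (blockCoeff B')) ha hac
    ⟨_, hχ₁⟩ ⟨_, hχ₂⟩ hs
  simp only at key
  rw [sum_ind_blockCoeff_mul N T hb hT hNT B' hB' ψ₁ θ₁ hθ₁ hne₁,
    sum_ind_blockCoeff_mul N T hb hT hNT B' hB' ψ₂ θ₂ hθ₂ h2, if_pos h1] at key
  by_contra hψ₂
  rw [if_neg hψ₂, sub_zero] at key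
  exact not_memLocalIdeal_one key

end FR

end Cfsg.Agent.Lib.helper3.Block
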