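import Mathlib
import Cfsg.Prelude.Def_Blocks
import Cfsg.Agent.Lib.helper3.FR3
import Cfsg.Agent.Lib.helper3.BlockInd
import Cfsg.Agent.Lib.helper3.ExtFirstMain1
import Cfsg.Agent.Lib.helper3.SecMain11
import Cfsg.Agent.S0933

set_option autoImplicit false
set_option linter.style.haveILetI false
set_option linter.unusedSectionVars false

/-!
# The Fong–Reynolds correspondence
-/

namespace Cfsg.Agent.Lib.helper3.Block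

open Cfsg Module Cfsg.Agent.Lib.helper3.CharBasic Cfsg.Agent.Lib.helper3.Irr
open Cfsg.Agent.Lib.helper3.Central Cfsg.Agent.Lib.helper3.LocalM Cfsg.Agent.Lib.helper3.IndFun
open Cfsg.Agent.Lib.helper3.GalPow
open scoped ComplexConjugate

variable {G : Type*} [Group G] [Fintype G] {M : Ideal AlgInt}

section FR

variable (N : Subgroup G) [hN : N.Normal] [Fintype N] (T : Subgroup G) [Fintype T]

/-- All members of a block of `T` covering `b` lie over `b`. -/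
theorem all_over_of_cover {p : ℕ} (hM : IsPModular p M) {b : Set (IrrCharacter N)}
    (hb : IsPBlock M b) (hNT : N ≤ T) (B' : Set (IrrCharacter T)) (hB' : IsPBlock M B')
    (hcov : ∃ ψ ∈ B', ∃ θ ∈ b,
      classInner (fun n : N => (ψ : T → ℂ) ⟨(n : G), hNT n.2⟩) (θ : N → ℂ) ≠ 0) :
    ∀ η ∈ B', ∃ θ ∈ b,
      classInner (fun n : N => (η : T → ℂ) ⟨(n : G), hNT n.2⟩) (θ : N → ℂ) ≠ 0 := by
  haveI := isPrime_of_isPModular hM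
  obtain ⟨ψ₀, hψ₀, hc⟩ := hcov
  intro η hη
  obtain ⟨ψ', rfl⟩ := hB'
  have hs : SameBlock M (ψ₀ : T → ℂ) (η : T → ℂ) := sameBlock_trans (sameBlock_symm hψ₀) hη
  exact over_of_sameBlock_stab N T hM hb hNT ψ₀ η hs hc

/-- Fong–Reynolds, part (i). -/
theorem fong_reynolds_i {p : ℕ} [hp : Fact p.Prime] (hM : IsPModular p M)
    {b : Set (IrrCharacter N)} (hb : IsPBlock M b) (hT : IsBlockStab N T b) (hNT : N ≤ T)
    (B' : Set (IrrCharacter T)) (hB' : IsPBlock M B')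
    (hcov : ∃ ψ ∈ B', ∃ θ ∈ b,
      classInner (fun n : N => (ψ : T → ℂ) ⟨(n : G), hNT n.2⟩) (θ : N → ℂ) ≠ 0) :
    ∃ B : Set (IrrCharacter G), IsInducedBlock M T B' B ∧
      (∃ χ ∈ B, ∃ θ ∈ b, classInner (fun n : N => (χ : G → ℂ) n) (θ : N → ℂ) ≠ 0) ∧
      (∀ ψ ∈ B', IsIrrCharacter G (indFun T (ψ : T → ℂ))) ∧
      ∀ χ : IrrCharacter G, χ ∈ B ↔ ∃ ψ ∈ B', (χ : G → ℂ) = indFun T (ψ : T → ℂ) := by
  classical
  haveI := isPrime_of_isPModular hM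
  have hMtop : M ≠ ⊤ := hM.2.1.ne_top
  have hall := all_over_of_cover N T hM hb hNT B' hB' hcov
  obtain ⟨ψ₀, hψ₀, θ₀, hθ₀, hne₀⟩ := hcov
  have hχ₀ := isIrr_ind_of_over N T hb hT hNT ψ₀ θ₀ hθ₀ hne₀
  have hB'eq : B' = blockOf M (ψ₀ : T → ℂ) :=
    isPBlock_eq_of_mem hB' ⟨ψ₀, rfl⟩ ψ₀ hψ₀ (sameBlock_refl hMtop _)
  have hover₀ := over_ind_of_over N T hb hT hNT ψ₀ θ₀ hθ₀ hne₀
  refine ⟨blockOf M (indFun T (ψ₀ : T → ℂ)), ?_, ?_, ?_, ?_⟩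
  · rw [hB'eq]
    exact Cfsg.Agent.S0933.result p M hM T ψ₀ hχ₀
  · exact ⟨⟨_, hχ₀⟩, sameBlock_refl hMtop _, θ₀, hθ₀, hover₀⟩
  · intro ψ hψ
    obtain ⟨θ, hθ, hne⟩ := hall ψ hψ
    exact isIrr_ind_of_over N T hb hT hNT ψ θ hθ hne
  · intro χ
    constructor
    · intro hχ
      have hs : SameBlock M (indFun T (ψ₀ : T → ℂ)) (χ : G → ℂ) := hχ
      obtain ⟨θ, hθ, hne⟩ := over_of_congr N hM b hb ⟨_, hχ₀⟩ χ (fun n => hs n)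
        ⟨θ₀, hθ₀, hover₀⟩
      obtain ⟨ψ, hind, hover⟩ := exists_of_over N T hb hT hNT χ θ hθ hne
      refine ⟨ψ, ?_, hind.symm⟩
      apply mem_of_sameBlock_ind N T hM hb hT hNT B' hB' hall ψ₀ ψ hψ₀ θ hθ hover
      rw [hind]
      exact hs
    · rintro ⟨ψ, hψ, hχeq⟩
      have hs : SameBlock M (ψ₀ : T → ℂ) (ψ : T → ℂ) := by
        rw [hB'eq] at hψ
        exact hψ
      show SameBlock M (indFun T (ψ₀ : T → ℂ)) (χ : G → ℂ)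
      intro g
      rw [hχeq, centralChar_indFun T _ (apply_one_ne_zero ψ₀.2),
        centralChar_indFun T _ (apply_one_ne_zero ψ.2)]
      exact memLocalIdeal_inducedCentralChar_sub T ψ₀ ψ hs g

/-- Fong–Reynolds, part (ii). -/
theorem fong_reynolds_ii {p : ℕ} [hp : Fact p.Prime] (hM : IsPModular p M)
    {b : Set (IrrCharacter N)} (hb : IsPBlock M b) (hT : IsBlockStab N T b) (hNT : N ≤ T)
    (B'₁ B'₂ : Set (IrrCharacter T)) (hB'₁ : IsPBlock M B'₁) (hB'₂ : IsPBlock M B'₂)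
    (hcov₁ : ∃ ψ ∈ B'₁, ∃ θ ∈ b,
      classInner (fun n : N => (ψ : T → ℂ) ⟨(n : G), hNT n.2⟩) (θ : N → ℂ) ≠ 0)
    (hcov₂ : ∃ ψ ∈ B'₂, ∃ θ ∈ b,
      classInner (fun n : N => (ψ : T → ℂ) ⟨(n : G), hNT n.2⟩) (θ : N → ℂ) ≠ 0)
    (B : Set (IrrCharacter G)) (h₁ : IsInducedBlock M T B'₁ B) (h₂ : IsInducedBlock M T B'₂ B) :
    B'₁ = B'₂ := by
  classical
  haveI := isPrime_of_isPModular hM
  have hMtop : M ≠ ⊤ := hM.2.1.ne_top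
  have hall₁ := all_over_of_cover N T hM hb hNT B'₁ hB'₁ hcov₁
  obtain ⟨C₁, hC₁, -, hirr₁, hiff₁⟩ := fong_reynolds_i N T hM hb hT hNT B'₁ hB'₁ hcov₁
  obtain ⟨C₂, hC₂, -, hirr₂, hiff₂⟩ := fong_reynolds_i N T hM hb hT hNT B'₂ hB'₂ hcov₂
  have e₁ : C₁ = B := isInducedBlock_unique T B'₁ C₁ B hC₁ h₁
  have e₂ : C₂ = B := isInducedBlock_unique T B'₂ C₂ B hC₂ h₂
  subst e₁
  obtain ⟨ψ₁, hψ₁, θ₁, hθ₁, hne₁⟩ := hcov₁
  obtain ⟨ψ₂, hψ₂, θ₂, hθ₂, hne₂⟩ := hcov₂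
  have m₁ : (⟨_, hirr₁ ψ₁ hψ₁⟩ : IrrCharacter G) ∈ C₁ := (hiff₁ _).mpr ⟨ψ₁, hψ₁, rfl⟩
  have m₂ : (⟨_, hirr₂ ψ₂ hψ₂⟩ : IrrCharacter G) ∈ C₁ := by
    rw [← e₂]
    exact (hiff₂ _).mpr ⟨ψ₂, hψ₂, rfl⟩
  have hs : SameBlock M (indFun T (ψ₁ : T → ℂ)) (indFun T (ψ₂ : T → ℂ)) := by
    obtain ⟨χ, hχ⟩ := hC₁.2.1
    rw [hχ] at m₁ m₂
    exact sameBlock_trans (sameBlock_symm m₁) m₂
  have hmem := mem_of_sameBlock_ind N T hM hb hT hNT B'₁ hB'₁ hall₁ ψ₁ ψ₂ hψ₁ θ₂ hθ₂ hne₂ hs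
  exact isPBlock_eq_of_mem hB'₁ hB'₂ ψ₂ hmem hψ₂

/-- Fong–Reynolds, part (iii). -/
theorem fong_reynolds_iii {p : ℕ} [hp : Fact p.Prime] (hM : IsPModular p M)
    {b : Set (IrrCharacter N)} (hb : IsPBlock M b) (hT : IsBlockStab N T b) (hNT : N ≤ T)
    (B : Set (IrrCharacter G)) (hB : IsPBlock M B)
    (hcov : ∃ χ ∈ B, ∃ θ ∈ b, classInner (fun n : N => (χ : G → ℂ) n) (θ : N → ℂ) ≠ 0) :
    ∃ B' : Set (IrrCharacter T), IsPBlock M B' ∧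
      (∃ ψ ∈ B', ∃ θ ∈ b,
        classInner (fun n : N => (ψ : T → ℂ) ⟨(n : G), hNT n.2⟩) (θ : N → ℂ) ≠ 0) ∧
      IsInducedBlock M T B' B := by
  classical
  haveI := isPrime_of_isPModular hM
  have hMtop : M ≠ ⊤ := hM.2.1.ne_top
  obtain ⟨χ, hχ, θ, hθ, hne⟩ := hcov
  obtain ⟨ψ, hind, hover⟩ := exists_of_over N T hb hT hNT χ θ hθ hne
  have hirr : IsIrrCharacter G (indFun T (ψ : T → ℂ)) := by
    rw [hind]
    exact χ.2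
  refine ⟨blockOf M (ψ : T → ℂ), ⟨ψ, rfl⟩, ⟨ψ, sameBlock_refl hMtop _, θ, hθ, hover⟩, ?_⟩
  have h1 := Cfsg.Agent.S0933.result p M hM T ψ hirr
  have h2 : blockOf M (indFun T (ψ : T → ℂ)) = B := by
    rw [hind]
    exact isPBlock_eq_of_mem ⟨χ, rfl⟩ hB χ (sameBlock_refl hMtop _) hχ
  rw [h2] at h1
  exact h1

end FR

end Cfsg.Agent.Lib.helper3.Block
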