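import Mathlib
import Cfsg.Prelude.Def_Blocks
import Cfsg.Agent.Lib.helper3.FR4
import Cfsg.Agent.Lib.helper3.CentralDefect5
import Cfsg.Agent.S0917
import Cfsg.Agent.S0908

set_option autoImplicit false
set_option linter.style.haveILetI false
set_option linter.unusedSectionVars false

/-!
# Heights and defect groups in the Fong–Reynolds correspondence
-/

namespace Cfsg.Agent.Lib.helper3.Block

open Cfsg Module Cfsg.Agent.Lib.helper3.CharBasic Cfsg.Agent.Lib.helper3.Irr
open Cfsg.Agent.Lib.helper3.Central Cfsg.Agent.Lib.helper3.LocalM Cfsg.Agent.Lib.helper3.IndFun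
open Cfsg.Agent.Lib.helper3.GalPow
open scoped ComplexConjugate

variable {G : Type*} [Group G] [Fintype G] {M : Ideal AlgInt}

theorem charDegree_indFun (T : Subgroup G) [Fintype T] (ψ : IrrCharacter T) :
    charDegree (indFun T (ψ : T → ℂ)) = T.index * charDegree (ψ : T → ℂ) := by
  obtain ⟨d, -, hd1⟩ := exists_pos_nat_apply_one ψ.2
  rw [charDegree_eq hd1]
  apply charDegree_eq
  rw [indFun_apply_one, hd1]
  push_cast
  rfl

section FR

variable (N : Subgroup G) [hN : N.Normal] [Fintype N] (T : Subgroup G) [Fintype T]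

/-- Heights and defects are preserved by the Fong–Reynolds correspondence. -/
theorem fong_reynolds_height {p : ℕ} [hp : Fact p.Prime] (hM : IsPModular p M)
    {b : Set (IrrCharacter N)} (hb : IsPBlock M b) (hT : IsBlockStab N T b) (hNT : N ≤ T)
    (B' : Set (IrrCharacter T)) (hB' : IsPBlock M B')
    (hcov : ∃ ψ ∈ B', ∃ θ ∈ b,
      classInner (fun n : N => (ψ : T → ℂ) ⟨(n : G), hNT n.2⟩) (θ : N → ℂ) ≠ 0)
    (B : Set (IrrCharacter G)) (hind : IsInducedBlock M T B' B) :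
    (∀ ψ ∈ B', ∃ χ ∈ B, (χ : G → ℂ) = indFun T (ψ : T → ℂ) ∧
      blockHeight p B (χ : G → ℂ) = blockHeight p B' (ψ : T → ℂ)) ∧
    blockDefect p B = blockDefect p B' := by
  classical
  haveI := isPrime_of_isPModular hM
  obtain ⟨B₁, hB₁, -, hirr, hiff⟩ := fong_reynolds_i N T hM hb hT hNT B' hB' hcov
  have e : B₁ = B := isInducedBlock_unique T B' B₁ B hB₁ hind
  subst e
  have hidx0 : T.index ≠ 0 := Subgroup.index_ne_zero_of_finite
  obtain ⟨a, ha⟩ : ∃ a : ℕ, a = (T.index).factorization p := ⟨_, rfl⟩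
  have hf : ∀ (ψ : IrrCharacter T) (χ : IrrCharacter G), (χ : G → ℂ) = indFun T (ψ : T → ℂ) →
      (charDegree (χ : G → ℂ)).factorization p
        = a + (charDegree (ψ : T → ℂ)).factorization p := by
    intro ψ χ h
    rw [h, charDegree_indFun, Nat.factorization_mul hidx0 (charDegree_ne_zero ψ), ha]
    rfl
  have hne : ((fun ψ : IrrCharacter T => (charDegree (ψ : T → ℂ)).factorization p) '' B').Nonempty := by
    obtain ⟨ψ, hψ, -⟩ := hcov
    exact ⟨_, ψ, hψ, rfl⟩
  obtain ⟨m', hm'⟩ : ∃ m' : ℕ,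
      m' = sInf ((fun ψ : IrrCharacter T => (charDegree (ψ : T → ℂ)).factorization p) '' B') :=
    ⟨_, rfl⟩
  have hm'mem : m' ∈ (fun ψ : IrrCharacter T => (charDegree (ψ : T → ℂ)).factorization p) '' B' := by
    rw [hm']
    exact Nat.sInf_mem hne
  have hm'le : ∀ ψ ∈ B', m' ≤ (charDegree (ψ : T → ℂ)).factorization p := by
    intro ψ hψ
    rw [hm']
    exact Nat.sInf_le ⟨ψ, hψ, rfl⟩
  have hsInf : sInf ((fun χ : IrrCharacter G => (charDegree (χ : G → ℂ)).factorization p) '' B₁)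
      = a + m' := by
    apply le_antisymm
    · apply Nat.sInf_le
      obtain ⟨ψ, hψ, hψm⟩ := hm'mem
      refine ⟨⟨_, hirr ψ hψ⟩, (hiff _).mpr ⟨ψ, hψ, rfl⟩, ?_⟩
      simp only
      rw [hf ψ ⟨_, hirr ψ hψ⟩ rfl, ← hψm]
    · apply le_csInf
      · obtain ⟨ψ, hψ, -⟩ := hcov
        exact ⟨_, ⟨_, hirr ψ hψ⟩, (hiff _).mpr ⟨ψ, hψ, rfl⟩, rfl⟩
      · rintro _ ⟨χ, hχ, rfl⟩
        obtain ⟨ψ, hψ, hχψ⟩ := (hiff χ).mp hχ
        simp only
        rw [hf ψ χ hχψ]
        exact Nat.add_le_add_left (hm'le ψ hψ) a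
  refine ⟨?_, ?_⟩
  · intro ψ hψ
    refine ⟨⟨_, hirr ψ hψ⟩, (hiff _).mpr ⟨ψ, hψ, rfl⟩, rfl, ?_⟩
    unfold blockHeight
    rw [hsInf, ← hm', hf ψ ⟨_, hirr ψ hψ⟩ rfl]
    omega
  · unfold blockDefect
    rw [hsInf, ← hm']
    have h1 : (Nat.card G).factorization p = a + (Nat.card T).factorization p := by
      rw [← T.index_mul_card, Nat.factorization_mul hidx0 Nat.card_pos.ne', ha]
      rfl
    rw [h1]
    omega

/-- Defect groups are preserved by the Fong–Reynolds correspondence. -/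
theorem fong_reynolds_defectGroup {p : ℕ} [hp : Fact p.Prime] (hM : IsPModular p M)
    {b : Set (IrrCharacter N)} (hb : IsPBlock M b) (hT : IsBlockStab N T b) (hNT : N ≤ T)
    (B' : Set (IrrCharacter T)) (hB' : IsPBlock M B')
    (hcov : ∃ ψ ∈ B', ∃ θ ∈ b,
      classInner (fun n : N => (ψ : T → ℂ) ⟨(n : G), hNT n.2⟩) (θ : N → ℂ) ≠ 0)
    (B : Set (IrrCharacter G)) (hind : IsInducedBlock M T B' B)
    (D : Subgroup T) (hD : IsDefectGroup p M B' D) :
    IsDefectGroup p M B (D.map T.subtype) := by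
  obtain ⟨E, hE, hDE⟩ := Cfsg.Agent.S0917.result p M hM T B' hB' B hind.2.1 hind D hD
  have hdef := (fong_reynolds_height N T hM hb hT hNT B' hB' hcov B hind).2
  have c1 : Nat.card D = p ^ blockDefect p B' := Cfsg.Agent.S0908.result p M hM B' hB' D hD
  have c2 : Nat.card E = p ^ blockDefect p B := Cfsg.Agent.S0908.result p M hM B hind.2.1 E hE
  have c3 : Nat.card (D.map T.subtype) = Nat.card D :=
    Subgroup.card_map_of_injective T.subtype_injective
  have e : D.map T.subtype = E := by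
    apply Subgroup.eq_of_le_of_card_ge hDE
    rw [c2, c3, c1, hdef]
  rw [e]
  exact hE

end FR

end Cfsg.Agent.Lib.helper3.Block
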