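import Mathlib
import Cfsg.Prelude.Def_Blocks
import Cfsg.Agent.Lib.helper3.DefectOrder2

/-!
# Idempotent coefficients of a union of blocks with large degrees
-/

set_option autoImplicit false
set_option linter.style.haveILetI false
set_option linter.unusedSectionVars false

namespace Cfsg.Agent.Lib.helper3.Block

open Cfsg Cfsg.Agent.Lib.helper3.LocalM Cfsg.Agent.Lib.helper3.CharBasic
open Cfsg.Agent.Lib.helper3.Irr Cfsg.Agent.Lib.helper3.Central Cfsg.Agent.Lib.helper3.Lin
open scoped ComplexConjugate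

variable {G : Type*} [Group G] [Fintype G] {M : Ideal AlgInt}

/-- The idempotent coefficient of a union of blocks, all of whose members have degree divisible by
`p ^ e`, at an element whose centralizer has `p`-part `p ^ δ` with `e + δ` larger than the
exponent of `p` in the group order, lies in the local ideal. -/
theorem memLocalIdeal_blockCoeff_of_closed_of_lt {p : ℕ} [Fact p.Prime] (hM : IsPModular p M)
    (B : Set (IrrCharacter G)) (hS : ∀ θ ∈ B, blockOf M (θ : G → ℂ) ⊆ B) (e : ℕ)
    (hle : ∀ χ ∈ B, e ≤ (charDegree (χ : G → ℂ)).factorization p) (g : G)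
    (hlt : (Nat.card G).factorization p
      < e + (Nat.card (Subgroup.centralizer ({g} : Set G))).factorization p) :
    MemLocalIdeal M (blockCoeff B g) := by
  classical
  haveI hMp := isPrime_of_isPModular hM
  have hMtop : M ≠ ⊤ := hM.2.1.ne_top
  have hp : p.Prime := hM.1
  obtain ⟨a, ha⟩ : ∃ a, a = (Nat.card G).factorization p := ⟨_, rfl⟩
  obtain ⟨δ, hδ⟩ : ∃ δ, δ = (Nat.card (Subgroup.centralizer ({g} : Set G))).factorization p :=
    ⟨_, rfl⟩
  rw [← ha, ← hδ] at hlt
  obtain ⟨C, hC⟩ : ∃ C : Subgroup G, C = Subgroup.centralizer ({g} : Set G) := ⟨_, rfl⟩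
  rw [← hC] at hδ
  obtain ⟨m, hm⟩ : p ^ a ∣ Nat.card G := ha ▸ Nat.ordProj_dvd _ _
  have hmp : ¬ p ∣ m := by
    intro h
    have h1 : p ^ (a + 1) ∣ Nat.card G := by
      rw [hm, pow_succ]
      exact mul_dvd_mul_left _ h
    rw [ha] at h1
    exact Nat.pow_succ_factorization_not_dvd Nat.card_pos.ne' hp h1
  have hp0 : (p : ℂ) ≠ 0 := by
    have : p ≠ 0 := hp.ne_zero
    exact_mod_cast this
  by_cases hgp : p ∣ orderOf g
  · have h3 : blockCoeff B g = 0 := by
      rw [blockCoeff_eq_coef]
      unfold coef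
      have h4 := weak_block_orthogonality hM B hS 1 g
        (by rw [orderOf_one]; exact hp.one_lt.ne' ∘ Nat.dvd_one.mp) hgp
      have h5 : ∑ χ : IrrCharacter G, (fun χ => if χ ∈ B then (1 : ℂ) else 0) χ
          * (χ : G → ℂ) 1 * conj ((χ : G → ℂ) g) = 0 := by
        refine Eq.trans (Finset.sum_congr rfl ?_) h4
        intro χ _
        beta_reduce
        ring
      rw [h5, mul_zero]
    rw [h3]
    exact memLocalIdeal_zero hMtop
  · obtain ⟨P₀⟩ : Nonempty (Sylow p C) := inferInstance
    obtain ⟨P, hPdef⟩ : ∃ P : Subgroup G, P = (P₀ : Subgroup C).map C.subtype := ⟨_, rfl⟩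
    letI : Fintype P := Fintype.ofFinite P
    have hPcard : Nat.card P = p ^ δ := by
      rw [hPdef, Subgroup.card_map_of_injective C.subtype_injective, hδ]
      exact Sylow.card_eq_multiplicity P₀
    have hPcomm : ∀ u ∈ P, g⁻¹ * u = u * g⁻¹ := by
      intro u hu
      rw [hPdef] at hu
      obtain ⟨c, -, rfl⟩ := hu
      have hc : (c : G) ∈ Subgroup.centralizer ({g} : Set G) := hC ▸ c.2
      have h3 := (Subgroup.mem_centralizer_iff.mp hc) g rfl
      have h4 : C.subtype c = (c : G) := rfl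
      rw [h4, inv_mul_eq_iff_eq_mul, ← mul_assoc, h3, mul_inv_cancel_right]
    have hPG : IsPGroup p P := by
      rw [hPdef]
      exact P₀.isPGroup'.map _
    have hPpow : ∀ u : P, ∃ j : ℕ, orderOf (u : G) = p ^ j := by
      intro u
      obtain ⟨k, hk⟩ := hPG u
      have hk' : (u : G) ^ p ^ k = 1 := by
        have := congrArg Subtype.val hk
        simpa using this
      obtain ⟨j, -, hj'⟩ := (Nat.dvd_prime_pow hp).mp (orderOf_dvd_of_pow_eq_one hk')
      exact ⟨j, hj'⟩
    obtain ⟨mult, hmult⟩ : ∃ mult : IrrCharacter G → ℕ, mult = fun χ =>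
        if χ ∈ B then charDegree (χ : G → ℂ) / p ^ e else 0 := ⟨_, rfl⟩
    have hmult_spec : ∀ χ : IrrCharacter G, ((p ^ e : ℕ) : ℂ) * (mult χ : ℂ)
        = (if χ ∈ B then (1 : ℂ) else 0) * (χ : G → ℂ) 1 := by
      intro χ
      rw [hmult]
      beta_reduce
      by_cases hχ : χ ∈ B
      · rw [if_pos hχ, if_pos hχ, one_mul]
        obtain ⟨d, hd, -, hpos⟩ := irr_degree_dvd_card χ.2
        have hcd := charDegree_eq hd
        have hdvd : p ^ e ∣ d := by
          have := hle χ hχ
          rw [hcd] at this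
          exact (Nat.Prime.pow_dvd_iff_le_factorization hp hpos.ne').mpr this
        rw [hcd, hd, ← Nat.cast_mul, Nat.mul_div_cancel' hdvd]
      · rw [if_neg hχ, if_neg hχ, Nat.cast_zero, mul_zero, zero_mul]
    obtain ⟨n, ρ, hρ⟩ := isCharacter_of_decomposition mult
    have hΘ : ∀ y : G, ((p ^ e : ℕ) : ℂ) * ρ.character y
        = ∑ χ : IrrCharacter G, (if χ ∈ B then (1 : ℂ) else 0)
          * ((χ : G → ℂ) 1 * (χ : G → ℂ) y) := by
      intro y
      rw [hρ, Finset.sum_apply, Finset.mul_sum]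
      apply Finset.sum_congr rfl
      intro χ _
      rw [Pi.smul_apply, smul_eq_mul, ← mul_assoc, hmult_spec χ, mul_assoc]
    have hpe0 : ((p ^ e : ℕ) : ℂ) ≠ 0 := by
      push_cast
      exact pow_ne_zero _ hp0
    have hΘ0 : ∀ y : G, p ∣ orderOf y → ρ.character y = 0 := by
      intro y hy
      have h3 := hΘ y
      rw [sum_degree_mul_eq_zero hM B hS y hy] at h3
      rcases mul_eq_zero.mp h3 with h | h
      · exact absurd h hpe0
      · exact h
    have hI := isIntegral_avg_character ρ P g⁻¹ hPcomm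
    have hsum : ∑ u : P, ρ.character (g⁻¹ * (u : G)) = ρ.character g⁻¹ := by
      rw [Finset.sum_eq_single (1 : P)]
      · rw [Subgroup.coe_one, mul_one]
      · intro u _ hne
        apply hΘ0
        have hcomm : Commute g⁻¹ (u : G) := hPcomm u u.2
        obtain ⟨j, hj⟩ := hPpow u
        have hj0 : j ≠ 0 := by
          intro h0
          rw [h0, pow_zero, orderOf_eq_one_iff] at hj
          exact hne (Subtype.ext hj)
        have hcop : (orderOf g⁻¹).Coprime (orderOf (u : G)) := by
          rw [hj, orderOf_inv]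
          exact Nat.Coprime.pow_right _ ((Nat.Prime.coprime_iff_not_dvd hp).mpr hgp).symm
        rw [hcomm.orderOf_mul_eq_mul_orderOf_of_coprime hcop, hj]
        exact Dvd.dvd.mul_left (dvd_pow_self p hj0) _
      · intro h
        exact absurd (Finset.mem_univ _) h
    rw [hsum, hPcard] at hI
    obtain ⟨t, ht⟩ : ∃ t, e + δ = a + 1 + t := ⟨e + δ - (a + 1), by omega⟩
    have hcoef : blockCoeff B g = ((p : ℂ) * ((p : ℂ) ^ t
        * (((p ^ δ : ℕ) : ℂ)⁻¹ * ρ.character g⁻¹))) / (m : ℂ) := by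
      rw [blockCoeff_eq_coef]
      unfold coef
      have h5 : ∑ χ : IrrCharacter G, (fun χ => if χ ∈ B then (1 : ℂ) else 0) χ
          * (χ : G → ℂ) 1 * conj ((χ : G → ℂ) g) = ((p ^ e : ℕ) : ℂ) * ρ.character g⁻¹ := by
        rw [hΘ g⁻¹]
        apply Finset.sum_congr rfl
        intro χ _
        beta_reduce
        rw [isCharacter_apply_inv (isCharacter_of_isIrrCharacter χ.2)]
        ring
      rw [h5, hm]
      have hm0 : (m : ℂ) ≠ 0 := by
        have : m ≠ 0 := by
          intro h
          rw [h, mul_zero] at hm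
          exact Nat.card_pos.ne' hm
        exact_mod_cast this
      have hpa : (p : ℂ) ^ e * (p : ℂ) ^ δ = (p : ℂ) ^ a * (p : ℂ) * (p : ℂ) ^ t := by
        rw [← pow_add, ht, pow_add, pow_add, pow_one]
      push_cast
      have hpδ0 : (p : ℂ) ^ δ ≠ 0 := pow_ne_zero _ hp0
      have hpa0 : (p : ℂ) ^ a ≠ 0 := pow_ne_zero _ hp0
      field_simp
      linear_combination (ρ.character g⁻¹) * hpa
    rw [hcoef]
    have hpint : IsIntegral ℤ ((p : ℂ) ^ t) :=
      (IsIntegral.pow (by exact_mod_cast (isIntegral_algebraMap (R := ℤ) (A := ℂ) (x := (p : ℤ)))) t)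
    refine ⟨(p : AlgInt) * (⟨_, hpint⟩ * ⟨_, hI⟩), (m : AlgInt), M.mul_mem_right _ hM.2.2,
      ?_, ?_⟩
    · rw [natCast_mem_iff hM]
      exact hmp
    · push_cast
      rfl


end Cfsg.Agent.Lib.helper3.Block
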