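import Mathlib
import Cfsg.Prelude.Def_Blocks
import Cfsg.Agent.Lib.helper3.StableBlock

/-!
# Central characters over a stable block: counting the classes of the normal subgroup
-/

set_option autoImplicit false
set_option linter.style.haveILetI false
set_option linter.unusedSectionVars false

namespace Cfsg.Agent.Lib.helper3.Block

open Cfsg Module Cfsg.Agent.Lib.helper3.CharBasic Cfsg.Agent.Lib.helper3.Irr
open Cfsg.Agent.Lib.helper3.Central Cfsg.Agent.Lib.helper3.LocalM Cfsg.Agent.Lib.helper3.IndFun
open Cfsg.Agent.Lib.helper3.Lin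
open scoped ComplexConjugate

section GroupCount

variable {G : Type*} [Group G]

theorem card_eq_card_inf_mul_relIndex (H K : Subgroup G) :
    Nat.card H = Nat.card (H ⊓ K : Subgroup G) * K.relIndex H := by
  have h := Subgroup.relIndex_mul_relIndex (H := ⊥) (K := H ⊓ K) (L := H) bot_le inf_le_left
  rw [Subgroup.relIndex_bot_left, Subgroup.relIndex_bot_left, Subgroup.inf_relIndex_left] at h
  exact h.symm

/-- The counting argument: a Sylow subgroup `P` of `C`, where `N` is normal of `p`-power index
equal to the index of `C ⊓ N` in `C`. -/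
theorem sylow_count [Finite G] {p : ℕ} [hp : Fact p.Prime] (N C P : Subgroup G) [hN : N.Normal]
    (k : ℕ) (hidx : N.index = p ^ k) (hrel : N.relIndex C = p ^ k) (hPC : P ≤ C)
    (hcard : Nat.card P = p ^ (Nat.card C).factorization p) :
    N ⊔ P = ⊤ ∧ Nat.card (P ⊓ N : Subgroup G)
      = p ^ (Nat.card (C ⊓ N : Subgroup G)).factorization p := by
  have hp1 := hp.out
  have hC := card_eq_card_inf_mul_relIndex C N
  have hP := card_eq_card_inf_mul_relIndex P N
  rw [hrel] at hC
  have hm0 : Nat.card (C ⊓ N : Subgroup G) ≠ 0 := Nat.card_pos.ne'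
  have hfac : (Nat.card C).factorization p
      = (Nat.card (C ⊓ N : Subgroup G)).factorization p + k := by
    rw [hC, Nat.factorization_mul hm0 (pow_ne_zero _ hp1.ne_zero), Finsupp.add_apply,
      Nat.Prime.factorization_pow hp1, Finsupp.single_eq_same]
  have hdvd1 : N.relIndex P ∣ p ^ k := by
    rw [← hidx]
    exact Subgroup.relIndex_dvd_index_of_normal N P
  obtain ⟨j, hjk, hj⟩ := (Nat.dvd_prime_pow hp1).mp hdvd1
  have hdvd2 : Nat.card (P ⊓ N : Subgroup G) ∣ p ^ (Nat.card C).factorization p := by
    rw [← hcard]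
    exact Subgroup.card_dvd_of_le inf_le_left
  obtain ⟨i, hia, hi⟩ := (Nat.dvd_prime_pow hp1).mp hdvd2
  have hdvd3 : Nat.card (P ⊓ N : Subgroup G) ∣ Nat.card (C ⊓ N : Subgroup G) :=
    Subgroup.card_dvd_of_le (inf_le_inf_right N hPC)
  rw [hi] at hdvd3
  have hiν : i ≤ (Nat.card (C ⊓ N : Subgroup G)).factorization p :=
    (hp1.pow_dvd_iff_le_factorization hm0).mp hdvd3
  rw [hcard, hi, hj, hfac, ← pow_add] at hP
  have hsum := Nat.pow_right_injective hp1.two_le hP
  have hi' : i = (Nat.card (C ⊓ N : Subgroup G)).factorization p := by omega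
  have hj' : j = k := by omega
  refine ⟨?_, by rw [hi, hi']⟩
  rw [hj'] at hj
  have h1 := Subgroup.relIndex_sup_right (H := P) (K := N)
  have h2 := Subgroup.relIndex_mul_index (H := N) (K := P ⊔ N) le_sup_right
  rw [h1, hj, hidx] at h2
  have h3 : (P ⊔ N).index = 1 := by
    have hpos : 0 < p ^ k := pow_pos hp1.pos _
    exact Nat.eq_of_mul_eq_mul_left hpos (by rw [h2, mul_one])
  rw [sup_comm]
  exact Subgroup.index_eq_one.mp h3


theorem centralizer_subtype_eq (N : Subgroup G) (n : N) :
    Subgroup.centralizer ({n} : Set N)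
      = (Subgroup.centralizer ({(n : G)} : Set G) ⊓ N).subgroupOf N := by
  ext x
  rw [Subgroup.inf_subgroupOf_right, Subgroup.mem_subgroupOf, Subgroup.mem_centralizer_singleton_iff,
    Subgroup.mem_centralizer_singleton_iff]
  constructor
  · intro h
    have := congrArg (Subtype.val) h
    simpa using this
  · intro h
    apply Subtype.ext
    simpa using h

theorem exists_sylow_centralizer [Finite G] {p : ℕ} [hp : Fact p.Prime] (N : Subgroup G) (n : N)
    (P : Subgroup G) (hPC : P ≤ Subgroup.centralizer ({(n : G)} : Set G))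
    (hcard : Nat.card (P ⊓ N : Subgroup G)
      = p ^ (Nat.card (Subgroup.centralizer ({(n : G)} : Set G) ⊓ N : Subgroup G)).factorization p) :
    ∃ Q : Sylow p (Subgroup.centralizer ({n} : Set N)),
      (P ⊓ N).subgroupOf N = (Q : Subgroup (Subgroup.centralizer ({n} : Set N))).map
        (Subgroup.centralizer ({n} : Set N)).subtype := by
  have hle : (P ⊓ N).subgroupOf N ≤ Subgroup.centralizer ({n} : Set N) := by
    rw [centralizer_subtype_eq]
    intro x hx
    rw [Subgroup.mem_subgroupOf] at hx ⊢
    exact ⟨hPC hx.1, hx.2⟩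
  have hc1 : Nat.card (Subgroup.centralizer ({n} : Set N))
      = Nat.card (Subgroup.centralizer ({(n : G)} : Set G) ⊓ N : Subgroup G) := by
    rw [centralizer_subtype_eq]
    exact Nat.card_congr (Subgroup.subgroupOfEquivOfLe inf_le_right).toEquiv
  have hc2 : Nat.card (((P ⊓ N).subgroupOf N).subgroupOf (Subgroup.centralizer ({n} : Set N)))
      = Nat.card (P ⊓ N : Subgroup G) := by
    rw [Nat.card_congr (Subgroup.subgroupOfEquivOfLe hle).toEquiv]
    exact Nat.card_congr (Subgroup.subgroupOfEquivOfLe inf_le_right).toEquiv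
  refine ⟨Sylow.ofCard (((P ⊓ N).subgroupOf N).subgroupOf (Subgroup.centralizer ({n} : Set N)))
    (by rw [hc2, hc1, hcard]), ?_⟩
  rw [Sylow.coe_ofCard, Subgroup.map_subgroupOf_eq_of_le hle]

end GroupCount

variable {G : Type*} [Group G] [Fintype G] {M : Ideal AlgInt}

/-- The number of classes of the normal subgroup `N` contained in the `G`-class of `n ∈ N`. -/
noncomputable def numClasses (N : Subgroup G) (n : N) : ℕ :=
  Nat.card {C : ConjClasses N // IsConj (n : G) ((Quotient.out C : N) : G)}

theorem sum_ite_conj_N (N : Subgroup G) [hN : N.Normal] [Fintype N] (n : N) [DecidablePred (fun h : N => IsConj (n : G) (h : G))] :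
    ((Subgroup.centralizer ({(n : G)} : Set G)).index : ℂ)
      = ∑ h : N, if IsConj (n : G) (h : G) then (1 : ℂ) else 0 := by
  classical
  rw [← card_class_eq_index, Finset.card_filter]
  push_cast
  rw [← Finset.sum_subset (Finset.subset_univ (Finset.univ.filter (fun x : G => x ∈ N)))]
  · rw [Finset.sum_subtype (p := fun x : G => x ∈ N)
      (Finset.univ.filter (fun x : G => x ∈ N)) (by intro x; simp)]
    apply Finset.sum_congr rfl
    intro x _
    congr 1
  · intro x _ hx
    rw [Finset.mem_filter] at hx
    rw [if_neg]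
    intro hc
    apply hx
    refine ⟨Finset.mem_univ _, ?_⟩
    obtain ⟨y, hy⟩ := isConj_iff.mp hc
    rw [← hy]
    exact hN.conj_mem _ n.2 y


theorem ite_conj_class_fun (N : Subgroup G) (n : N) [DecidablePred (fun h : N => IsConj (n : G) (h : G))]
    (a b : N) : (if IsConj (n : G) ((b * a * b⁻¹ : N) : G) then (1 : ℂ) else 0)
      = if IsConj (n : G) (a : G) then (1 : ℂ) else 0 := by
  have e1 : IsConj (n : G) ((b * a * b⁻¹ : N) : G) ↔ IsConj (n : G) (a : G) := by
    have : IsConj (a : G) ((b * a * b⁻¹ : N) : G) := isConj_iff.mpr ⟨(b : G), by simp⟩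
    exact ⟨fun h' => h'.trans this.symm, fun h' => h'.trans this⟩
  by_cases hc : IsConj (n : G) (a : G)
  · rw [if_pos (e1.mpr hc), if_pos hc]
  · rw [if_neg (fun h' => hc (e1.mp h')), if_neg hc]

/-- The size of the `G`-class of `n ∈ N` is the number of `N`-classes in it times the size of the
`N`-class of `n`. -/
theorem index_centralizer_eq_numClasses_mul (N : Subgroup G) [hN : N.Normal] [Fintype N] (n : N) :
    (Subgroup.centralizer ({(n : G)} : Set G)).index
      = numClasses N n * (Subgroup.centralizer ({n} : Set N)).index := by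
  classical
  have h1 := sum_ite_conj_N N n
  rw [sum_class_fun (G := N) (fun h : N => if IsConj (n : G) (h : G) then (1 : ℂ) else 0)
    (ite_conj_class_fun N n)] at h1
  have h2 : ∀ C : ConjClasses N,
      ((Subgroup.centralizer ({Quotient.out C} : Set N)).index : ℂ)
        * (if IsConj (n : G) ((Quotient.out C : N) : G) then (1 : ℂ) else 0)
      = if IsConj (n : G) ((Quotient.out C : N) : G)
        then ((Subgroup.centralizer ({n} : Set N)).index : ℂ) else 0 := by
    intro C
    by_cases hc : IsConj (n : G) ((Quotient.out C : N) : G)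
    · rw [if_pos hc, if_pos hc, mul_one]
      obtain ⟨y, hy⟩ := isConj_iff.mp hc
      have e : (Quotient.out C : N) = ⟨y * (n : G) * y⁻¹, hN.conj_mem _ n.2 y⟩ :=
        Subtype.ext hy.symm
      rw [e, index_centralizer_conjNormal]
    · rw [if_neg hc, if_neg hc, mul_zero]
  rw [Finset.sum_congr rfl (fun C _ => h2 C), ← Finset.sum_filter, Finset.sum_const,
    nsmul_eq_mul] at h1
  have h3 : numClasses N n = (Finset.univ.filter
      (fun C : ConjClasses N => IsConj (n : G) ((Quotient.out C : N) : G))).card := by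
    unfold numClasses
    rw [Nat.card_eq_fintype_card, Fintype.card_subtype]
  rw [h3]
  have h4 : (((Subgroup.centralizer ({(n : G)} : Set G)).index : ℕ) : ℂ)
      = (((Finset.univ.filter
      (fun C : ConjClasses N => IsConj (n : G) ((Quotient.out C : N) : G))).card
        * (Subgroup.centralizer ({n} : Set N)).index : ℕ) : ℂ) := by
    rw [h1]
    push_cast
    congr!
  exact Nat.cast_injective h4


/-- Over a stable block, the central character of `G` at `n ∈ N` is congruent to the number of
`N`-classes in the `G`-class of `n` times the central character of `N`. -/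
theorem memLocalIdeal_inducedCentralChar_sub_numClasses [hMp : M.IsPrime]
    (N : Subgroup G) [hN : N.Normal] [Fintype N]
    (c : Set (IrrCharacter N)) (hc : IsPBlock M c) (hS : ConjStable N c)
    (θ : IrrCharacter N) (hθ : θ ∈ c) (n : N) :
    MemLocalIdeal M (inducedCentralChar N (θ : N → ℂ) (n : G)
      - (numClasses N n : ℂ) * centralChar (θ : N → ℂ) n) := by
  classical
  have hMtop : M ≠ ⊤ := hMp.ne_top
  obtain ⟨ξ, hcdef⟩ := id hc
  have hθ1 := apply_one_ne_zero θ.2
  have h0 : inducedCentralChar N (θ : N → ℂ) (n : G)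
      = ∑ h : N, if IsConj (n : G) (h : G) then (θ : N → ℂ) h / (θ : N → ℂ) 1 else 0 := by
    rw [inducedCentralChar_eq_sum]
    congr!
  rw [h0]
  have hF : ∀ a b : N, (if IsConj (n : G) ((b * a * b⁻¹ : N) : G)
      then (θ : N → ℂ) (b * a * b⁻¹) / (θ : N → ℂ) 1 else 0)
      = if IsConj (n : G) (a : G) then (θ : N → ℂ) a / (θ : N → ℂ) 1 else 0 := by
    intro a b
    have e1 : IsConj (n : G) ((b * a * b⁻¹ : N) : G) ↔ IsConj (n : G) (a : G) := by
      have : IsConj (a : G) ((b * a * b⁻¹ : N) : G) := isConj_iff.mpr ⟨(b : G), by simp⟩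
      exact ⟨fun h' => h'.trans this.symm, fun h' => h'.trans this⟩
    have e2 : (θ : N → ℂ) (b * a * b⁻¹) = (θ : N → ℂ) a :=
      isClassFunction_of_isCharacter (isCharacter_of_isIrrCharacter θ.2) a b
    by_cases hcj : IsConj (n : G) (a : G)
    · rw [if_pos (e1.mpr hcj), if_pos hcj, e2]
    · rw [if_neg (fun h' => hcj (e1.mp h')), if_neg hcj]
  have key : ∀ (inst : Fintype (ConjClasses N)),
      MemLocalIdeal M ((∑ C : ConjClasses N,
        ((Subgroup.centralizer ({Quotient.out C} : Set N)).index : ℂ)
          * (if IsConj (n : G) ((Quotient.out C : N) : G)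
            then (θ : N → ℂ) (Quotient.out C) / (θ : N → ℂ) 1 else 0))
        - (numClasses N n : ℂ) * centralChar (θ : N → ℂ) n) := by
    intro inst
    have h3 : (numClasses N n : ℂ) = ∑ C : ConjClasses N,
        if IsConj (n : G) ((Quotient.out C : N) : G) then (1 : ℂ) else 0 := by
      unfold numClasses
      rw [Nat.card_eq_fintype_card, Fintype.card_subtype, Finset.card_filter]
      push_cast
      congr!
    rw [h3, Finset.sum_mul, ← Finset.sum_sub_distrib]
    apply memLocalIdeal_sum
    intro C _
    by_cases hcj : IsConj (n : G) ((Quotient.out C : N) : G)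
    · rw [if_pos hcj, if_pos hcj, one_mul]
      obtain ⟨y, hy⟩ := isConj_iff.mp hcj
      have e : (Quotient.out C : N) = ⟨y * (n : G) * y⁻¹, hN.conj_mem _ n.2 y⟩ :=
        Subtype.ext hy.symm
      have e3 : ((Subgroup.centralizer ({Quotient.out C} : Set N)).index : ℂ)
          * ((θ : N → ℂ) (Quotient.out C) / (θ : N → ℂ) 1)
          = centralChar (conjFun N (θ : N → ℂ) y) n := by
        rw [centralChar_conjFun, ← e]
        unfold centralChar
        ring
      rw [e3]
      have hmem : conjIrr N y θ ∈ c := hS θ hθ y (conjIrr N y θ) rfl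
      have hsb : SameBlock M ((conjIrr N y θ : IrrCharacter N) : N → ℂ) (θ : N → ℂ) := by
        rw [hcdef] at hmem hθ
        exact sameBlock_trans (sameBlock_symm hmem) hθ
      exact hsb n
    · rw [if_neg hcj, if_neg hcj, mul_zero, zero_mul, sub_zero]
      exact memLocalIdeal_zero hMtop
  rw [sum_class_fun (G := N) (fun h : N => if IsConj (n : G) (h : G)
    then (θ : N → ℂ) h / (θ : N → ℂ) 1 else 0) hF]
  exact key _

/-- The number of `N`-classes in the `G`-class of `n` times the index of `C_N(n)` in `C_G(n)` is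
the index of `N`. -/
theorem numClasses_mul_relIndex (N : Subgroup G) [hN : N.Normal] [Fintype N] (n : N) :
    numClasses N n * N.relIndex (Subgroup.centralizer ({(n : G)} : Set G)) = N.index := by
  have h1 := index_centralizer_eq_numClasses_mul N n
  obtain ⟨C, hC⟩ : ∃ C, C = Subgroup.centralizer ({(n : G)} : Set G) := ⟨_, rfl⟩
  rw [← hC] at h1 ⊢
  have h2 : (Subgroup.centralizer ({n} : Set N)).index = C.relIndex N := by
    rw [centralizer_subtype_eq, ← hC, Subgroup.inf_subgroupOf_right]
    rfl
  rw [h2] at h1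
  have h3 := Subgroup.relIndex_mul_index (H := C ⊓ N) (K := C) inf_le_left
  have h4 := Subgroup.relIndex_mul_index (H := C ⊓ N) (K := N) inf_le_right
  rw [Subgroup.inf_relIndex_left] at h3
  rw [Subgroup.inf_relIndex_right] at h4
  have h5 : C.relIndex N ≠ 0 := by
    haveI : Finite N := Finite.of_fintype N
    exact Subgroup.index_ne_zero_of_finite
  have h6 : C.relIndex N * (numClasses N n * N.relIndex C) = C.relIndex N * N.index := by
    rw [h4, ← h3, h1]
    ring
  exact Nat.eq_of_mul_eq_mul_left (Nat.pos_of_ne_zero h5) h6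

end Cfsg.Agent.Lib.helper3.Block
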