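import Mathlib
import Cfsg.Prelude.Def_Blocks
import Cfsg.Agent.Lib.helper3.Fong1
import Cfsg.Agent.Lib.helper3.StableBlock2
import Cfsg.Agent.Lib.helper3.BlockCover2

/-!
# Blocks covering a stable block: a class of the normal subgroup detecting the covering block
-/

set_option autoImplicit false
set_option linter.style.haveILetI false
set_option linter.unusedSectionVars false

namespace Cfsg.Agent.Lib.helper3.Block

open Cfsg Cfsg.Agent.Lib.helper3.LocalM Cfsg.Agent.Lib.helper3.CharBasic
open Cfsg.Agent.Lib.helper3.Irr Cfsg.Agent.Lib.helper3.Central Cfsg.Agent.Lib.helper3.Lin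
open Cfsg.Agent.Lib.helper3.IndFun
open scoped ComplexConjugate

variable {G : Type*} [Group G] [Fintype G] {M : Ideal AlgInt}

theorem memLocalIdeal_natCast_of_dvd {p : ℕ} (hM : IsPModular p M) (n : ℕ) (h : p ∣ n) :
    MemLocalIdeal M (n : ℂ) := by
  have hMtop : M ≠ ⊤ := hM.2.1.ne_top
  have h1 : MemLocalIdeal M (p : ℂ) := by
    have := memLocalIdeal_of_mem hM.2.2 hMtop
    simpa using this
  obtain ⟨k, rfl⟩ := h
  push_cast
  rw [mul_comm]
  apply memLocalIdeal_mul_integral h1
  exact_mod_cast (isIntegral_algebraMap (R := ℤ) (A := ℂ) (x := (k : ℤ)))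

open Classical in
/-- If `χ` lies over the stable block `b` of `N`, some element of `N` has both its idempotent
coefficient for `b` and its central character value for `χ` outside the local ideal. -/
theorem exists_coeff_centralChar_notMem {p : ℕ} (hM : IsPModular p M) (N : Subgroup G)
    [hN : N.Normal] [Fintype N] (b : Set (IrrCharacter N)) (hb : IsPBlock M b)
    (hS : ConjStable N b) (χ : IrrCharacter G)
    (hχ : ∃ θ ∈ b, classInner (fun n : N => (χ : G → ℂ) n) (θ : N → ℂ) ≠ 0) :
    ∃ n : N, ¬ MemLocalIdeal M (blockCoeff b n)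
      ∧ ¬ MemLocalIdeal M (centralChar (χ : G → ℂ) (n : G)) := by
  haveI hMp := isPrime_of_isPModular hM
  have hMtop : M ≠ ⊤ := hM.2.1.ne_top
  by_contra hcon
  push Not at hcon
  have hχ1 := apply_one_ne_zero χ.2
  have hχcf := isClassFunction_of_isCharacter (isCharacter_of_isIrrCharacter χ.2)
  have hsum1 : ∑ n : N, blockCoeff b n * (χ : G → ℂ) n = (χ : G → ℂ) 1 := by
    rw [sum_blockCoeff_mul, sum_over_stable N b hS χ, if_pos hχ]
  obtain ⟨A, hA⟩ : ∃ A : G → ℂ, A = extendByZero N (fun n : N => blockCoeff b n) := ⟨_, rfl⟩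
  obtain ⟨F, hF⟩ : ∃ F : G → ℂ, F = fun g => A g * ((χ : G → ℂ) g / (χ : G → ℂ) 1) := ⟨_, rfl⟩
  have hAconj : ∀ g x : G, A (x * g * x⁻¹) = A g := by
    intro g x
    rw [hA]
    by_cases hg : g ∈ N
    · rw [extendByZero_mem N _ hg, extendByZero_mem N _ (hN.conj_mem g hg x)]
      exact blockCoeff_conj_of_stable N b hS x ⟨g, hg⟩
    · rw [extendByZero_not_mem N _ hg, extendByZero_not_mem N _]
      intro hmem
      apply hg
      have := hN.conj_mem _ hmem x⁻¹
      simpa [mul_assoc] using this
  have hsum : ∑ g : G, F g = 1 := by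
    rw [hF, hA, sum_extendByZero_mul]
    have h1 : ∀ n : N, blockCoeff b n * ((χ : G → ℂ) n / (χ : G → ℂ) 1)
        = (blockCoeff b n * (χ : G → ℂ) n) / (χ : G → ℂ) 1 := by
      intro n
      ring
    rw [Finset.sum_congr rfl (fun n _ => h1 n), ← Finset.sum_div, hsum1, div_self hχ1]
  have hmem : MemLocalIdeal M (∑ g : G, F g) := by
    apply memLocalIdeal_sum_class_fun
    · intro g x
      rw [hF]
      simp only
      rw [hAconj, hχcf g x]
    · intro g
      have e : ((Subgroup.centralizer ({g} : Set G)).index : ℂ) * F g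
          = A g * centralChar (χ : G → ℂ) g := by
        rw [hF]
        unfold centralChar
        ring
      rw [e]
      by_cases hg : g ∈ N
      · have hAg : A g = blockCoeff b ⟨g, hg⟩ := by
          rw [hA, extendByZero_mem N _ hg]
        have hloc : MemLocalRing M (blockCoeff b ⟨g, hg⟩) := osima hM b hb _
        have hint : MemLocalRing M (centralChar (χ : G → ℂ) g) :=
          memLocalRing_of_integral (isIntegral_centralChar χ.2 g)
        rw [hAg]
        by_cases h1 : MemLocalIdeal M (blockCoeff b ⟨g, hg⟩)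
        · rw [mul_comm]
          exact memLocalIdeal_mul_localRing hint h1
        · exact memLocalIdeal_mul_localRing hloc (hcon ⟨g, hg⟩ h1)
      · rw [hA, extendByZero_not_mem N _ hg, zero_mul]
        exact memLocalIdeal_zero hMtop
  rw [hsum] at hmem
  exact not_memLocalIdeal_one hmem

end Cfsg.Agent.Lib.helper3.Block
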