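import Mathlib
import Cfsg.Prelude.Def_Blocks
import Cfsg.Prelude.Def_BlockRank
import Cfsg.Agent.Lib.helper3.CentralDefect5
import Cfsg.Agent.Lib.helper3.Degrees

/-!
# Blocks with a central defect group have `p`-regular rank one
-/

set_option autoImplicit false
set_option linter.style.haveILetI false
set_option linter.unusedSectionVars false

namespace Cfsg.Agent.Lib.helper3.Block

open Cfsg Cfsg.Agent.Lib.helper3.LocalM Cfsg.Agent.Lib.helper3.Irr
open Cfsg.Agent.Lib.helper3.CharBasic Cfsg.Agent.Lib.helper3.Lin Cfsg.Agent.Lib.helper3.Central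
open Cfsg.Agent.Lib.helper3.IndFun Cfsg.Agent.Lib.helper3.HallNilp
open scoped ComplexConjugate

universe u

variable {G : Type u} [Group G] [Fintype G] {M : Ideal AlgInt}

/-- Expansion of the `p`-regular norm of `ψ - c χ` for a real scalar `c`. -/
theorem regNorm_sub_smul (p : ℕ) (ψ χ : G → ℂ) (c : ℝ) :
    regNorm p (fun g => ψ g - (c : ℂ) * χ g)
      = regNorm p ψ + c ^ 2 * regNorm p χ - 2 * c * (regPair p ψ χ).re := by
  unfold regNorm regPair
  rw [Complex.re_sum, Finset.mul_sum, Finset.mul_sum, ← Finset.sum_add_distrib,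
    ← Finset.sum_sub_distrib]
  apply Finset.sum_congr rfl
  intro g _
  by_cases h : p ∣ orderOf g
  · simp only [if_pos h]
    simp
  · simp only [if_neg h]
    rw [Complex.normSq_sub, Complex.normSq_mul, Complex.normSq_ofReal, map_mul,
      Complex.conj_ofReal]
    have : (ψ g * ((c : ℂ) * conj (χ g))).re = c * (ψ g * conj (χ g)).re := by
      rw [← mul_assoc, mul_comm (ψ g) (c : ℂ), mul_assoc, Complex.re_ofReal_mul]
    rw [this]
    ring

/-- If the `p`-regular norm of a function vanishes, the function vanishes on `p`-regular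
elements. -/
theorem apply_eq_zero_of_regNorm_le (p : ℕ) (f : G → ℂ) (h : regNorm p f ≤ 0) (g : G)
    (hg : ¬ p ∣ orderOf g) : f g = 0 := by
  classical
  have h0 : regNorm p f = 0 := le_antisymm h (regNorm_nonneg p f)
  unfold regNorm at h0
  have hall := (Finset.sum_eq_zero_iff_of_nonneg (fun g _ => by
    split_ifs
    · exact le_refl _
    · exact Complex.normSq_nonneg _)).1 h0 g (Finset.mem_univ _)
  rw [if_neg hg] at hall
  exact Complex.normSq_eq_zero.mp hall

/-- **Members of the block of a character of central defect agree with it on `p`-regular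
elements.** -/
theorem apply_eq_of_sameBlock_central_defect {p : ℕ} [hp : Fact p.Prime] (hM : IsPModular p M)
    (D : Subgroup G) (hD : IsPGroup p D) (hDZ : D ≤ Subgroup.center G) (χ : IrrCharacter G)
    (hdeg : (charDegree (χ : G → ℂ)).factorization p = D.index.factorization p)
    (ψ : IrrCharacter G) (hs : SameBlock M (χ : G → ℂ) (ψ : G → ℂ)) (g : G)
    (hg : ¬ p ∣ orderOf g) : (ψ : G → ℂ) g = (χ : G → ℂ) g := by
  obtain ⟨k, hk0, hpair, _⟩ := exists_regPair_of_sameBlock hM D hD hDZ χ hdeg ψ hs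
  have hSχ := regNorm_eq_index D hD hDZ χ hdeg
  have hSψ : regNorm p (ψ : G → ℂ) ≤ (D.index : ℝ) := by
    have hup := (card_mul_regNorm_le hp.out D hD hDZ ψ).1
    have hcard : (Nat.card G : ℝ) = (Nat.card D : ℝ) * (D.index : ℝ) := by
      rw [← Nat.cast_mul, Subgroup.card_mul_index]
    rw [hcard] at hup
    have hDpos : (0 : ℝ) < (Nat.card D : ℝ) := by exact_mod_cast Nat.card_pos
    exact le_of_mul_le_mul_left hup hDpos
  have hre : (regPair p (ψ : G → ℂ) (χ : G → ℂ)).re = (D.index : ℝ) * (k : ℝ) := by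
    rw [hpair]
    have : ((D.index : ℂ) * (k : ℂ)) = (((D.index : ℝ) * (k : ℝ) : ℝ) : ℂ) := by
      push_cast
      rfl
    rw [this, Complex.ofReal_re]
  have hidx : (0 : ℝ) < (D.index : ℝ) := by
    exact_mod_cast Nat.pos_of_ne_zero Subgroup.index_ne_zero_of_finite
  -- the sign of `k`
  have key : ∀ c : ℝ, c ^ 2 = 1 → 1 ≤ c * (k : ℝ) →
      ∀ g : G, ¬ p ∣ orderOf g → (ψ : G → ℂ) g = (c : ℂ) * (χ : G → ℂ) g := by
    intro c hc2 hck g hg
    have h1 := regNorm_sub_smul p (ψ : G → ℂ) (χ : G → ℂ) c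
    rw [hc2, hSχ, hre] at h1
    have h2 : regNorm p (fun g => (ψ : G → ℂ) g - (c : ℂ) * (χ : G → ℂ) g) ≤ 0 := by
      rw [h1]
      nlinarith
    have h3 := apply_eq_zero_of_regNorm_le p _ h2 g hg
    exact sub_eq_zero.mp h3
  obtain ⟨dχ, hdχpos, hdχ1⟩ := exists_pos_nat_apply_one χ.2
  obtain ⟨dψ, hdψpos, hdψ1⟩ := exists_pos_nat_apply_one ψ.2
  have h1reg : ¬ p ∣ orderOf (1 : G) := by
    rw [orderOf_one]
    exact hp.out.not_dvd_one
  rcases lt_or_gt_of_ne hk0 with hneg | hpos
  · -- `k < 0` is impossible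
    exfalso
    have hk1 : (k : ℝ) ≤ -1 := by exact_mod_cast Int.le_sub_one_of_lt hneg
    have h4 := key (-1) (by norm_num) (by linarith) 1 h1reg
    rw [hdχ1, hdψ1] at h4
    have h5 : ((dψ : ℝ) : ℂ) = (((-1 : ℝ) * (dχ : ℝ) : ℝ) : ℂ) := by
      push_cast
      push_cast at h4
      exact h4
    have h6 : (dψ : ℝ) = (-1 : ℝ) * (dχ : ℝ) := Complex.ofReal_injective h5
    have h7 : (0 : ℝ) < (dψ : ℝ) := by exact_mod_cast hdψpos
    have h8 : (0 : ℝ) < (dχ : ℝ) := by exact_mod_cast hdχpos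
    linarith
  · have hk1 : (1 : ℝ) ≤ (k : ℝ) := by exact_mod_cast Int.add_one_le_of_lt hpos
    have h4 := key 1 (by norm_num) (by linarith) g hg
    rw [h4]
    simp

end Cfsg.Agent.Lib.helper3.Block
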