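import Mathlib
import Cfsg.Prelude.Def_Blocks
import Cfsg.Prelude.Def_BlockRank
import Cfsg.Agent.Lib.helper3.CentralDefect6
import Cfsg.Agent.Lib.helper3.DefectOrder3
import Cfsg.Agent.Lib.helper3.Irr11

/-!
# Blocks of `p`-regular rank one: general lemmas
-/

set_option autoImplicit false
set_option linter.style.haveILetI false
set_option linter.unusedSectionVars false

namespace Cfsg.Agent.Lib.helper3.Block

open Cfsg Cfsg.Agent.Lib.helper3.LocalM Cfsg.Agent.Lib.helper3.Irr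
open Cfsg.Agent.Lib.helper3.CharBasic Cfsg.Agent.Lib.helper3.Lin Cfsg.Agent.Lib.helper3.Central
open Cfsg.Agent.Lib.helper3.IndFun Cfsg.Agent.Lib.helper3.HallNilp
open scoped ComplexConjugate

universe u

variable {G : Type u} [Group G] [Fintype G] {M : Ideal AlgInt}

/-- Bezout for the gcd of a finite family of naturals. -/
theorem exists_int_sum_eq_gcd {ι : Type*} [DecidableEq ι] (s : Finset ι) (f : ι → ℕ) :
    ∃ n : ι → ℤ, ∑ i ∈ s, n i * (f i : ℤ) = ((s.gcd f : ℕ) : ℤ) := by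
  induction s using Finset.induction_on with
  | empty => exact ⟨fun _ => 0, by simp⟩
  | insert a s ha ih =>
    obtain ⟨n, hn⟩ := ih
    rw [Finset.gcd_insert]
    refine ⟨fun i => if i = a then Nat.gcdA (f a) (s.gcd f)
      else Nat.gcdB (f a) (s.gcd f) * n i, ?_⟩
    rw [Finset.sum_insert ha]
    beta_reduce
    rw [if_pos rfl]
    have h1 : ∀ i ∈ s, (if i = a then Nat.gcdA (f a) (s.gcd f)
        else Nat.gcdB (f a) (s.gcd f) * n i) * (f i : ℤ)
        = Nat.gcdB (f a) (s.gcd f) * (n i * (f i : ℤ)) := by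
      intro i hi
      have hia : i ≠ a := fun h => ha (h ▸ hi)
      rw [if_neg hia]
      ring
    rw [Finset.sum_congr rfl h1, ← Finset.mul_sum, hn]
    have h2 := Nat.gcd_eq_gcd_ab (f a) (s.gcd f)
    have h3 : GCDMonoid.gcd (f a) (s.gcd f) = Nat.gcd (f a) (s.gcd f) := rfl
    rw [h3, h2]
    ring

/-- In a block of `p`-regular rank one, any two members are proportional on the `p`-regular
elements, with the ratio of their degrees. -/
theorem apply_mul_eq_of_blockRank_one {p : ℕ} (B : Set (IrrCharacter G))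
    (h : blockRank p B = 1) (χ ψ : IrrCharacter G) (hχ : χ ∈ B) (hψ : ψ ∈ B) (x : G)
    (hx : ¬ p ∣ orderOf x) :
    (ψ : G → ℂ) 1 * (χ : G → ℂ) x = (χ : G → ℂ) 1 * (ψ : G → ℂ) x := by
  classical
  unfold blockRank at h
  obtain ⟨v, _, hv⟩ := finrank_eq_one_iff'.mp h
  have hpreg : ∀ (θ : IrrCharacter G) (y : G), ¬ p ∣ orderOf y →
      pRegularPart p (θ : G → ℂ) y = (θ : G → ℂ) y := by
    intro θ y hy
    unfold pRegularPart IsPRegular
    rw [if_pos hy]
  have hone : ¬ p ∣ orderOf (1 : G) → True := fun _ => trivial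
  have key : ∀ θ ∈ B, ∃ c : ℂ, ∀ y : G, ¬ p ∣ orderOf y → (θ : G → ℂ) y = c * (v : G → ℂ) y := by
    intro θ hθ
    obtain ⟨c, hc⟩ := hv ⟨pRegularPart p (θ : G → ℂ), Submodule.subset_span ⟨θ, hθ, rfl⟩⟩
    refine ⟨c, fun y hy => ?_⟩
    have h1 := congrArg (fun w : ↥(Submodule.span ℂ ((fun χ : IrrCharacter G =>
      pRegularPart p (χ : G → ℂ)) '' B)) => (w : G → ℂ) y) hc
    simp only [Submodule.coe_smul, Pi.smul_apply, smul_eq_mul] at h1
    rw [hpreg θ y hy] at h1
    exact h1.symm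
  obtain ⟨cχ, hcχ⟩ := key χ hχ
  obtain ⟨cψ, hcψ⟩ := key ψ hψ
  by_cases hp1 : p ∣ orderOf (1 : G)
  · -- then `p = 1` and nothing is `p`-regular... but `x` is
    rw [orderOf_one] at hp1
    have : p = 1 := Nat.dvd_one.mp hp1
    exfalso
    apply hx
    rw [this]
    exact one_dvd _
  · rw [hcχ 1 hp1, hcψ 1 hp1, hcχ x hx, hcψ x hx]
    ring

end Cfsg.Agent.Lib.helper3.Block
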