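import Mathlib
import Cfsg.Prelude.Def_Blocks
import Cfsg.Prelude.Def_BlockRank
import Cfsg.Agent.Lib.helper3.RankOne1

/-!
# Blocks of `p`-regular rank one: the idempotent identity
-/

set_option autoImplicit false
set_option linter.style.haveILetI false
set_option linter.unusedSectionVars false

namespace Cfsg.Agent.Lib.helper3.Block

open Cfsg Cfsg.Agent.Lib.helper3.LocalM Cfsg.Agent.Lib.helper3.Irr
open Cfsg.Agent.Lib.helper3.CharBasic Cfsg.Agent.Lib.helper3.Lin Cfsg.Agent.Lib.helper3.Central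
open Cfsg.Agent.Lib.helper3.IndFun Cfsg.Agent.Lib.helper3.HallNilp
open scoped ComplexConjugate

universe u

variable {G : Type u} [Group G] [Fintype G] {M : Ideal AlgInt}

theorem apply_one_eq_charDegree (ψ : IrrCharacter G) :
    (ψ : G → ℂ) 1 = ((charDegree (ψ : G → ℂ) : ℕ) : ℂ) := by
  obtain ⟨d, _, hd1⟩ := exists_pos_nat_apply_one ψ.2
  rw [charDegree_eq hd1, hd1]

open Classical in
theorem finsum_mem_eq_sum_filter_irr {A : Type*} [AddCommMonoid A] (B : Set (IrrCharacter G))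
    (f : IrrCharacter G → A) :
    ∑ᶠ χ ∈ B, f χ = ∑ χ ∈ Finset.univ.filter (fun χ : IrrCharacter G => χ ∈ B), f χ := by
  rw [finsum_mem_def, finsum_eq_sum_of_fintype, Finset.sum_filter]
  apply Finset.sum_congr rfl
  intro χ _
  rw [Set.indicator_apply]

open Classical in
/-- The block idempotent coefficient as a finite sum. -/
theorem blockCoeff_eq_sum_filter (B : Set (IrrCharacter G)) (g : G) :
    blockCoeff B g = (Nat.card G : ℂ)⁻¹ *
      ∑ χ ∈ Finset.univ.filter (fun χ : IrrCharacter G => χ ∈ B),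
        (χ : G → ℂ) 1 * conj ((χ : G → ℂ) g) := by
  unfold blockCoeff
  rw [finsum_mem_eq_sum_filter_irr]

open Classical in
/-- The degree-weighted sum of a block vanishes at `p`-singular elements. -/
theorem sum_degree_mul_apply_eq_zero {p : ℕ} (hM : IsPModular p M) (B : Set (IrrCharacter G))
    (hB : IsPBlock M B) (y : G) (hy : p ∣ orderOf y) :
    ∑ χ ∈ Finset.univ.filter (fun χ : IrrCharacter G => χ ∈ B),
      (χ : G → ℂ) 1 * (χ : G → ℂ) y = 0 := by
  have h0 := blockCoeff_eq_zero_of_dvd hM B hB y hy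
  rw [blockCoeff_eq_sum_filter] at h0
  have hGC : (Nat.card G : ℂ) ≠ 0 := card_ne_zero_complex G
  have h1 : ∑ χ ∈ Finset.univ.filter (fun χ : IrrCharacter G => χ ∈ B),
      (χ : G → ℂ) 1 * conj ((χ : G → ℂ) y) = 0 := by
    rcases mul_eq_zero.mp h0 with h | h
    · exact absurd (inv_eq_zero.mp h) hGC
    · exact h
  have h2 := congrArg conj h1
  rw [map_sum, map_zero] at h2
  rw [← h2]
  apply Finset.sum_congr rfl
  intro χ _
  rw [map_mul, Complex.conj_conj, apply_one_eq_charDegree, Complex.conj_natCast]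

open Classical in
/-- **The idempotent identity** for a block of `p`-regular rank one. -/
theorem sum_sq_mul_regNorm {p : ℕ} (hM : IsPModular p M) (B : Set (IrrCharacter G))
    (hB : IsPBlock M B) (h : blockRank p B = 1) (χ₀ : IrrCharacter G) (hχ₀ : χ₀ ∈ B) :
    ((∑ ψ ∈ Finset.univ.filter (fun χ : IrrCharacter G => χ ∈ B),
      (charDegree (ψ : G → ℂ)) ^ 2 : ℕ) : ℝ) * regNorm p (χ₀ : G → ℂ)
      = (Nat.card G : ℝ) * ((charDegree (χ₀ : G → ℂ) : ℕ) : ℝ) ^ 2 := by
  have hGC : (Nat.card G : ℂ) ≠ 0 := card_ne_zero_complex G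
  have h0 := apply_one_ne_zero χ₀.2
  have h1 := sum_coef_mul_div (fun χ : IrrCharacter G => if χ ∈ B then (1 : ℂ) else 0) χ₀
  beta_reduce at h1
  rw [if_pos hχ₀] at h1
  simp_rw [← blockCoeff_eq_coef] at h1
  -- evaluate the block coefficient
  have hterm : ∀ g : G, blockCoeff B g * ((χ₀ : G → ℂ) g / (χ₀ : G → ℂ) 1)
      = if p ∣ orderOf g then 0 else
        (Nat.card G : ℂ)⁻¹ * ((∑ ψ ∈ Finset.univ.filter (fun χ : IrrCharacter G => χ ∈ B),
          (charDegree (ψ : G → ℂ)) ^ 2 : ℕ) : ℂ) / ((χ₀ : G → ℂ) 1) ^ 2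
          * (Complex.normSq ((χ₀ : G → ℂ) g) : ℂ) := by
    intro g
    by_cases hg : p ∣ orderOf g
    · rw [if_pos hg, blockCoeff_eq_zero_of_dvd hM B hB g hg, zero_mul]
    · rw [if_neg hg, blockCoeff_eq_sum_filter]
      have h2 : ∀ ψ ∈ Finset.univ.filter (fun χ : IrrCharacter G => χ ∈ B),
          (ψ : G → ℂ) 1 * conj ((ψ : G → ℂ) g)
          = (((charDegree (ψ : G → ℂ)) ^ 2 : ℕ) : ℂ) / (χ₀ : G → ℂ) 1 * conj ((χ₀ : G → ℂ) g) := by
        intro ψ hψ
        rw [Finset.mem_filter] at hψ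
        have h3 := apply_mul_eq_of_blockRank_one B h ψ χ₀ hψ.2 hχ₀ g hg
        have h4 : (ψ : G → ℂ) g = (ψ : G → ℂ) 1 * (χ₀ : G → ℂ) g / (χ₀ : G → ℂ) 1 := by
          field_simp
          rw [mul_comm, h3]
        rw [h4, map_div₀, map_mul, apply_one_eq_charDegree ψ, apply_one_eq_charDegree χ₀,
          Complex.conj_natCast, Complex.conj_natCast]
        push_cast
        ring
      rw [Finset.sum_congr rfl h2, ← Finset.sum_mul, ← Finset.sum_div, ← Complex.mul_conj]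
      push_cast
      field_simp
  rw [Finset.sum_congr rfl (fun g _ => hterm g)] at h1
  obtain ⟨K, hK⟩ : ∃ K : ℂ, K = (Nat.card G : ℂ)⁻¹ *
      ((∑ ψ ∈ Finset.univ.filter (fun χ : IrrCharacter G => χ ∈ B),
          (charDegree (ψ : G → ℂ)) ^ 2 : ℕ) : ℂ) / ((χ₀ : G → ℂ) 1) ^ 2 := ⟨_, rfl⟩
  rw [← hK] at h1
  have h5 : ∑ g : G, (if p ∣ orderOf g then (0 : ℂ) else
        K * (Complex.normSq ((χ₀ : G → ℂ) g) : ℂ))
      = K * ((regNorm p (χ₀ : G → ℂ) : ℝ) : ℂ) := by
    unfold regNorm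
    rw [Complex.ofReal_sum, Finset.mul_sum]
    apply Finset.sum_congr rfl
    intro g _
    by_cases hg : p ∣ orderOf g
    · rw [if_pos hg, if_pos hg, Complex.ofReal_zero, mul_zero]
    · rw [if_neg hg, if_neg hg]
  rw [h5, hK] at h1
  rw [apply_one_eq_charDegree χ₀] at h1
  have h6 : ((charDegree (χ₀ : G → ℂ) : ℕ) : ℂ) ≠ 0 := by
    rw [← apply_one_eq_charDegree]; exact h0
  have h7 : (((∑ ψ ∈ Finset.univ.filter (fun χ : IrrCharacter G => χ ∈ B),
      (charDegree (ψ : G → ℂ)) ^ 2 : ℕ) : ℝ) * regNorm p (χ₀ : G → ℂ) : ℝ)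
      = ((Nat.card G : ℝ) * ((charDegree (χ₀ : G → ℂ) : ℕ) : ℝ) ^ 2 : ℝ) := by
    apply Complex.ofReal_injective
    push_cast
    field_simp at h1
    push_cast at h1
    linear_combination h1
  exact h7

end Cfsg.Agent.Lib.helper3.Block
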