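import Mathlib
import Cfsg.Prelude.Def_Blocks
import Cfsg.Prelude.Def_BlockRank
import Cfsg.Agent.Lib.helper3.RankOne2

/-!
# Blocks of `p`-regular rank one: divisibility by the Sylow order and the pairing formula
-/

set_option autoImplicit false
set_option linter.style.haveILetI false
set_option linter.unusedSectionVars false

namespace Cfsg.Agent.Lib.helper3.Block

open Cfsg Cfsg.Agent.Lib.helper3.LocalM Cfsg.Agent.Lib.helper3.Irr
open Cfsg.Agent.Lib.helper3.CharBasic Cfsg.Agent.Lib.helper3.Lin Cfsg.Agent.Lib.helper3.Central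
open Cfsg.Agent.Lib.helper3.IndFun Cfsg.Agent.Lib.helper3.HallNilp
open scoped ComplexConjugate

universe u

variable {G : Type u} [Group G] [Fintype G] {M : Ideal AlgInt}

/-- The degree of a character vanishing at all `p`-singular elements is divisible by the full
power of `p` dividing `|G|`. -/
theorem pow_dvd_of_vanish {p : ℕ} [hp : Fact p.Prime] {Φ : G → ℂ} (hΦ : IsCharacter G Φ)
    (hvan : ∀ y : G, p ∣ orderOf y → Φ y = 0) (deg : ℕ) (hdeg : Φ 1 = deg) :
    p ^ (Nat.card G).factorization p ∣ deg := by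
  classical
  obtain ⟨S⟩ : Nonempty (Sylow p G) := inferInstance
  letI : Fintype S := Fintype.ofFinite S
  have hΦS := isCharacter_restrict hΦ (S : Subgroup G)
  obtain ⟨n, hn⟩ := exists_nat_classInner_of_isCharacter hΦS
    (⟨fun _ => (1 : ℂ), isIrrCharacter_one⟩ : IrrCharacter S)
  rw [classInner_apply] at hn
  have hSC : (Nat.card (S : Subgroup G) : ℂ) ≠ 0 := card_ne_zero_complex _
  have hsum : ∑ s : (S : Subgroup G), Φ (s : G) * conj ((fun _ : (S : Subgroup G) => (1 : ℂ)) s)
      = (deg : ℂ) := by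
    rw [Finset.sum_eq_single_of_mem (1 : (S : Subgroup G)) (Finset.mem_univ _)]
    · simp only [map_one, mul_one]
      rw [← hdeg]
      rfl
    · intro s _ hs
      have hs' : p ∣ orderOf (s : G) := by
        obtain ⟨k, hk⟩ := (IsPGroup.iff_orderOf.mp S.isPGroup') s
        rw [Subgroup.orderOf_coe, hk]
        rcases Nat.eq_zero_or_pos k with h0 | h0
        · exfalso
          rw [h0, pow_zero] at hk
          exact hs (orderOf_eq_one_iff.mp hk)
        · exact dvd_pow_self p h0.ne'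
      rw [hvan _ hs', zero_mul]
  rw [hsum] at hn
  have hcard : Nat.card S = p ^ (Nat.card G).factorization p := Sylow.card_eq_multiplicity S
  rw [← hcard]
  refine ⟨n, ?_⟩
  have h1 : (deg : ℂ) = (Nat.card S : ℂ) * (n : ℂ) := by
    rw [← hn]
    field_simp
  exact_mod_cast h1

/-- The `p`-regular pairing of two members of a block of rank one. -/
theorem regPair_eq_of_blockRank_one {p : ℕ} (B : Set (IrrCharacter G))
    (h : blockRank p B = 1) (χ₀ χ ψ : IrrCharacter G) (hχ₀ : χ₀ ∈ B) (hχ : χ ∈ B) (hψ : ψ ∈ B) :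
    regPair p (χ : G → ℂ) (ψ : G → ℂ)
      = ((charDegree (χ : G → ℂ) : ℕ) : ℂ) * ((charDegree (ψ : G → ℂ) : ℕ) : ℂ)
        * (((regNorm p (χ₀ : G → ℂ) : ℝ) : ℂ) / ((charDegree (χ₀ : G → ℂ) : ℕ) : ℂ) ^ 2) := by
  have h0 : ((charDegree (χ₀ : G → ℂ) : ℕ) : ℂ) ≠ 0 := by
    rw [← apply_one_eq_charDegree]
    exact apply_one_ne_zero χ₀.2
  unfold regPair regNorm
  rw [Complex.ofReal_sum, Finset.sum_div, Finset.mul_sum]
  apply Finset.sum_congr rfl
  intro g _
  by_cases hg : p ∣ orderOf g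
  · rw [if_pos hg, if_pos hg, Complex.ofReal_zero, zero_div, mul_zero]
  · rw [if_neg hg, if_neg hg]
    have h3 := apply_mul_eq_of_blockRank_one B h χ χ₀ hχ hχ₀ g hg
    have h4 := apply_mul_eq_of_blockRank_one B h ψ χ₀ hψ hχ₀ g hg
    rw [apply_one_eq_charDegree, apply_one_eq_charDegree] at h3 h4
    have h5 : (χ : G → ℂ) g = ((charDegree (χ : G → ℂ) : ℕ) : ℂ) * (χ₀ : G → ℂ) g
        / ((charDegree (χ₀ : G → ℂ) : ℕ) : ℂ) := by
      field_simp
      rw [mul_comm, h3]
    have h6 : (ψ : G → ℂ) g = ((charDegree (ψ : G → ℂ) : ℕ) : ℂ) * (χ₀ : G → ℂ) g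
        / ((charDegree (χ₀ : G → ℂ) : ℕ) : ℂ) := by
      field_simp
      rw [mul_comm, h4]
    rw [h5, h6, map_div₀, map_mul, Complex.conj_natCast, Complex.conj_natCast,
      ← Complex.mul_conj]
    field_simp

end Cfsg.Agent.Lib.helper3.Block
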