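import Mathlib
import Cfsg.Prelude.Def_Blocks
import Cfsg.Agent.Lib.helper3.RankOne3
import Cfsg.Agent.Lib.helper3.ProjVanish7

/-!
# Integer combinations of irreducible characters vanishing at the `p`-singular elements
-/

set_option autoImplicit false
set_option linter.style.haveILetI false
set_option linter.unusedSectionVars false

namespace Cfsg.Agent.Lib.helper3.Block

open Cfsg Cfsg.Agent.Lib.helper3.LocalM Cfsg.Agent.Lib.helper3.Irr
open Cfsg.Agent.Lib.helper3.CharBasic Cfsg.Agent.Lib.helper3.Lin Cfsg.Agent.Lib.helper3.Central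
open Cfsg.Agent.Lib.helper3.IndFun Cfsg.Agent.Lib.helper3.HallNilp
open scoped ComplexConjugate

universe u

variable {G : Type u} [Group G] [Fintype G] {M : Ideal AlgInt}

/-- The degree of an integer combination of irreducible characters vanishing at all `p`-singular
elements is divisible by the full power of `p` dividing `|G|`. -/
theorem pow_dvd_of_int_comb_vanish {p : ℕ} [hp : Fact p.Prime] (z : IrrCharacter G → ℤ)
    (hvan : ∀ y : G, p ∣ orderOf y → ∑ ξ : IrrCharacter G, (z ξ : ℂ) * (ξ : G → ℂ) y = 0) :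
    ((p ^ (Nat.card G).factorization p : ℕ) : ℤ) ∣
      ∑ ξ : IrrCharacter G, z ξ * (charDegree (ξ : G → ℂ) : ℤ) := by
  classical
  obtain ⟨S⟩ : Nonempty (Sylow p G) := inferInstance
  letI : Fintype (S : Subgroup G) := Fintype.ofFinite _
  have hSC : (Nat.card (S : Subgroup G) : ℂ) ≠ 0 := card_ne_zero_complex _
  have hm : ∀ ξ : IrrCharacter G, ∃ m : ℕ,
      ∑ s : (S : Subgroup G), (ξ : G → ℂ) (s : G) = (Nat.card (S : Subgroup G) : ℂ) * (m : ℂ) := by
    intro ξ
    have hξS := isCharacter_restrict (isCharacter_of_isIrrCharacter ξ.2) (S : Subgroup G)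
    obtain ⟨n, hn⟩ := exists_nat_classInner_of_isCharacter hξS
      (⟨fun _ => (1 : ℂ), isIrrCharacter_one⟩ : IrrCharacter (S : Subgroup G))
    rw [classInner_apply] at hn
    refine ⟨n, ?_⟩
    rw [← hn]
    field_simp
    apply Finset.sum_congr rfl
    intro s _
    simp
  choose m hm using hm
  have hsum : ∑ s : (S : Subgroup G), ∑ ξ : IrrCharacter G, (z ξ : ℂ) * (ξ : G → ℂ) (s : G)
      = ∑ ξ : IrrCharacter G, (z ξ : ℂ) * (ξ : G → ℂ) 1 := by
    rw [Finset.sum_eq_single_of_mem (1 : (S : Subgroup G)) (Finset.mem_univ _)]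
    · rfl
    · intro s _ hs
      apply hvan
      obtain ⟨k, hk⟩ := (IsPGroup.iff_orderOf.mp S.isPGroup') s
      rw [Subgroup.orderOf_coe, hk]
      rcases Nat.eq_zero_or_pos k with h0 | h0
      · exfalso
        rw [h0, pow_zero] at hk
        exact hs (orderOf_eq_one_iff.mp hk)
      · exact dvd_pow_self p h0.ne'
  rw [Finset.sum_comm] at hsum
  have h1 : ∀ ξ : IrrCharacter G, ∑ s : (S : Subgroup G), (z ξ : ℂ) * (ξ : G → ℂ) (s : G)
      = (Nat.card (S : Subgroup G) : ℂ) * ((z ξ : ℂ) * (m ξ : ℂ)) := by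
    intro ξ
    rw [← Finset.mul_sum, hm ξ]
    ring
  rw [Finset.sum_congr rfl (fun ξ _ => h1 ξ), ← Finset.mul_sum] at hsum
  have hcard : Nat.card (S : Subgroup G) = p ^ (Nat.card G).factorization p :=
    Sylow.card_eq_multiplicity S
  rw [← hcard]
  refine ⟨∑ ξ : IrrCharacter G, z ξ * (m ξ : ℤ), ?_⟩
  have h2 : ((∑ ξ : IrrCharacter G, z ξ * (charDegree (ξ : G → ℂ) : ℤ) : ℤ) : ℂ)
      = (((Nat.card (S : Subgroup G) : ℕ) : ℤ) * ∑ ξ : IrrCharacter G, z ξ * (m ξ : ℤ) : ℤ) := by
    push_cast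
    rw [hsum]
    apply Finset.sum_congr rfl
    intro ξ _
    rw [apply_one_eq_charDegree]
  exact_mod_cast h2

end Cfsg.Agent.Lib.helper3.Block
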