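import Mathlib
import Cfsg.Prelude.Def_Blocks
import Cfsg.Agent.Lib.helper3.HeightZero1

/-!
# The integer coefficients of the `p`-regular part of an irreducible character
-/

set_option autoImplicit false
set_option linter.style.haveILetI false
set_option linter.unusedSectionVars false

namespace Cfsg.Agent.Lib.helper3.Block

open Cfsg Cfsg.Agent.Lib.helper3.LocalM Cfsg.Agent.Lib.helper3.Irr
open Cfsg.Agent.Lib.helper3.CharBasic Cfsg.Agent.Lib.helper3.Lin Cfsg.Agent.Lib.helper3.Central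
open Cfsg.Agent.Lib.helper3.IndFun Cfsg.Agent.Lib.helper3.HallNilp Cfsg.Agent.Lib.helper3.BrauerInd
open scoped ComplexConjugate

universe u

variable {G : Type u} [Group G] [Fintype G] {M : Ideal AlgInt}

/-- The integer coefficients of `p^a χ` truncated to the `p`-regular elements. -/
theorem exists_regZ (p : ℕ) [hp : Fact p.Prime] (χ : IrrCharacter G) :
    ∃ z : IrrCharacter G → ℤ,
      (∀ ξ : IrrCharacter G, classInner (fun x : G => if p ∣ orderOf x then (0 : ℂ)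
        else ((p ^ (Nat.card G).factorization p : ℕ) : ℂ) * (χ : G → ℂ) x) (ξ : G → ℂ)
          = (z ξ : ℂ)) ∧
      (∀ ξ : IrrCharacter G, regPair p (χ : G → ℂ) (ξ : G → ℂ)
        = ((ordCompl[p] (Nat.card G) : ℕ) : ℂ) * (z ξ : ℂ)) ∧
      (∀ y : G, (if p ∣ orderOf y then (0 : ℂ)
        else ((p ^ (Nat.card G).factorization p : ℕ) : ℂ) * (χ : G → ℂ) y)
          = ∑ ξ : IrrCharacter G, (z ξ : ℂ) * (ξ : G → ℂ) y) := by
  classical
  have hχc := isCharacter_of_isIrrCharacter χ.2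
  have hn0 : Nat.card G ≠ 0 := Nat.card_pos.ne'
  have ha : ∀ j : ℕ, p ^ j ∣ Nat.card G → j ≤ (Nat.card G).factorization p := by
    intro j hj
    exact (hp.out.pow_dvd_iff_le_factorization hn0).1 hj
  have hΦ := pregular_part_generalized p (χ : G → ℂ) hχc _ ha
  obtain ⟨z, hz⟩ := exists_int_decomposition hΦ
  have h1 : ∀ ξ : IrrCharacter G, classInner (fun x : G => if p ∣ orderOf x then (0 : ℂ)
        else ((p ^ (Nat.card G).factorization p : ℕ) : ℂ) * (χ : G → ℂ) x) (ξ : G → ℂ)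
          = (z ξ : ℂ) := by
    intro ξ
    rw [hz]
    exact classInner_decomposition_left (fun ψ => (z ψ : ℂ)) ξ
  refine ⟨z, h1, ?_, ?_⟩
  · intro ξ
    have h2 := h1 ξ
    rw [classInner_apply] at h2
    have hGC : (Nat.card G : ℂ) ≠ 0 := card_ne_zero_complex G
    have h3 : (Nat.card G : ℂ) = ((p ^ (Nat.card G).factorization p : ℕ) : ℂ)
        * ((ordCompl[p] (Nat.card G) : ℕ) : ℂ) := by
      rw [← Nat.cast_mul, Nat.ordProj_mul_ordCompl_eq_self]
    have hp0 : ((p ^ (Nat.card G).factorization p : ℕ) : ℂ) ≠ 0 := by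
      exact_mod_cast (pow_pos hp.out.pos _).ne'
    have h4 : ∑ g : G, (if p ∣ orderOf g then (0 : ℂ)
        else ((p ^ (Nat.card G).factorization p : ℕ) : ℂ) * (χ : G → ℂ) g) * conj ((ξ : G → ℂ) g)
        = ((p ^ (Nat.card G).factorization p : ℕ) : ℂ) * regPair p (χ : G → ℂ) (ξ : G → ℂ) := by
      unfold regPair
      rw [Finset.mul_sum]
      apply Finset.sum_congr rfl
      intro g _
      by_cases hg : p ∣ orderOf g
      · rw [if_pos hg, if_pos hg]; ring
      · rw [if_neg hg, if_neg hg]; ring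
    rw [h4] at h2
    have h5 : ((p ^ (Nat.card G).factorization p : ℕ) : ℂ) * regPair p (χ : G → ℂ) (ξ : G → ℂ)
        = ((p ^ (Nat.card G).factorization p : ℕ) : ℂ)
          * (((ordCompl[p] (Nat.card G) : ℕ) : ℂ) * (z ξ : ℂ)) := by
      rw [← mul_assoc, ← h3, ← h2]
      field_simp
    exact mul_left_cancel₀ hp0 h5
  · intro y
    have h2 := congrFun hz y
    rw [h2, Finset.sum_apply]
    apply Finset.sum_congr rfl
    intro ξ _
    rw [Pi.smul_apply, smul_eq_mul]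

/-- The coefficient vanishes outside the block. -/
theorem regZ_eq_zero {p : ℕ} (hM : IsPModular p M) (χ ξ : IrrCharacter G)
    (h : ¬ SameBlock M (χ : G → ℂ) (ξ : G → ℂ)) (z : ℤ)
    (hz : regPair p (χ : G → ℂ) (ξ : G → ℂ) = ((ordCompl[p] (Nat.card G) : ℕ) : ℂ) * (z : ℂ)) :
    z = 0 := by
  classical
  have h1 := regular_orthogonality hM χ ξ h
  have h2 : regPair p (χ : G → ℂ) (ξ : G → ℂ) = 0 := by
    rw [← h1]
    unfold regPair
    apply Finset.sum_congr rfl
    intro g _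
    by_cases hg : p ∣ orderOf g
    · rw [if_pos hg, if_pos hg, zero_mul]
    · rw [if_neg hg, if_neg hg, one_mul]
  rw [h2] at hz
  have hn' : ((ordCompl[p] (Nat.card G) : ℕ) : ℂ) ≠ 0 := by
    exact_mod_cast (Nat.ordCompl_pos p Nat.card_pos.ne').ne'
  rcases mul_eq_zero.mp hz.symm with h3 | h3
  · exact absurd h3 hn'
  · exact_mod_cast h3

/-- Divisibility of `n' z` by both degrees. -/
theorem degree_dvd_regZ (p : ℕ) (χ ξ : IrrCharacter G) (n' : ℕ) (z : ℤ)
    (hz : regPair p (χ : G → ℂ) (ξ : G → ℂ) = (n' : ℂ) * (z : ℂ)) :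
    ((charDegree (χ : G → ℂ) : ℕ) : ℤ) ∣ (n' : ℤ) * z ∧
    ((charDegree (ξ : G → ℂ) : ℕ) : ℤ) ∣ (n' : ℤ) * z := by
  constructor
  · apply degree_dvd_of_regPair p χ (isCharacter_of_isIrrCharacter ξ.2) _
      (apply_one_eq_charDegree χ) (Nat.pos_of_ne_zero (charDegree_ne_zero χ))
    rw [hz]
    push_cast
    ring
  · apply degree_dvd_of_regPair p ξ (isCharacter_of_isIrrCharacter χ.2) _
      (apply_one_eq_charDegree ξ) (Nat.pos_of_ne_zero (charDegree_ne_zero ξ))
    rw [← regPair_conj, hz, map_mul, map_natCast, map_intCast]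
    push_cast
    ring

/-- The congruence of the quotients `n' z_ξ / ξ(1)` along a block. -/
theorem regZ_quot_congr {p : ℕ} [hp : Fact p.Prime] (hM : IsPModular p M)
    (χ ξ ξ' : IrrCharacter G) (hs : SameBlock M (ξ : G → ℂ) (ξ' : G → ℂ)) (n' : ℕ)
    (z z' w w' : ℤ)
    (hz : regPair p (χ : G → ℂ) (ξ : G → ℂ) = (n' : ℂ) * (z : ℂ))
    (hz' : regPair p (χ : G → ℂ) (ξ' : G → ℂ) = (n' : ℂ) * (z' : ℂ))
    (hw : (n' : ℤ) * z = ((charDegree (ξ : G → ℂ) : ℕ) : ℤ) * w)
    (hw' : (n' : ℤ) * z' = ((charDegree (ξ' : G → ℂ) : ℕ) : ℤ) * w') :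
    (p : ℤ) ∣ w - w' := by
  haveI hMp := isPrime_of_isPModular hM
  have hcong := memLocalIdeal_regPair_div_sub (p := p) hM ξ ξ' hs
    (isCharacter_of_isIrrCharacter χ.2)
  have e1 : ∀ (ζ : IrrCharacter G) (y v : ℤ),
      regPair p (χ : G → ℂ) (ζ : G → ℂ) = (n' : ℂ) * (y : ℂ) →
      (n' : ℤ) * y = ((charDegree (ζ : G → ℂ) : ℕ) : ℤ) * v →
      regPair p (ζ : G → ℂ) (χ : G → ℂ) / (ζ : G → ℂ) 1 = (v : ℂ) := by
    intro ζ y v hy hv
    rw [← regPair_conj, hy, map_mul, map_natCast, map_intCast, apply_one_eq_charDegree]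
    have h0 : ((charDegree (ζ : G → ℂ) : ℕ) : ℂ) ≠ 0 := by
      exact_mod_cast charDegree_ne_zero ζ
    have : (n' : ℂ) * (y : ℂ)
        = ((charDegree (ζ : G → ℂ) : ℕ) : ℂ) * (v : ℂ) := by exact_mod_cast hv
    rw [this]
    field_simp
  rw [e1 ξ z w hz hw, e1 ξ' z' w' hz' hw'] at hcong
  have h1 : MemLocalIdeal M ((((w - w' : ℤ) : AlgInt)) : ℂ) := by
    convert hcong using 1
    simp
  have h2 := mem_of_memLocalIdeal h1
  exact (intCast_mem_iff hM (w - w')).1 h2

end Cfsg.Agent.Lib.helper3.Block
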