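import Mathlib
import Cfsg.Prelude.Def_Blocks
import Cfsg.Agent.Lib.helper3.HeightZero2
import Cfsg.Agent.Lib.helper3.DefectOrder4

/-!
# Height zero characters and the `p`-regular pairing
-/

set_option autoImplicit false
set_option linter.style.haveILetI false
set_option linter.unusedSectionVars false

namespace Cfsg.Agent.Lib.helper3.Block

open Cfsg Cfsg.Agent.Lib.helper3.LocalM Cfsg.Agent.Lib.helper3.Irr
open Cfsg.Agent.Lib.helper3.CharBasic Cfsg.Agent.Lib.helper3.Lin Cfsg.Agent.Lib.helper3.Central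
open Cfsg.Agent.Lib.helper3.IndFun Cfsg.Agent.Lib.helper3.HallNilp
open scoped ComplexConjugate

universe u

variable {G : Type u} [Group G] [Fintype G] {M : Ideal AlgInt}

/-- The least exponent of `p` in the degrees of the members of `B`. -/
noncomputable def minExp (p : ℕ) (B : Set (IrrCharacter G)) : ℕ :=
  sInf ((fun χ : IrrCharacter G => (charDegree (χ : G → ℂ)).factorization p) '' B)

theorem minExp_le {p : ℕ} {B : Set (IrrCharacter G)} {ξ : IrrCharacter G} (hξ : ξ ∈ B) :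
    minExp p B ≤ (charDegree (ξ : G → ℂ)).factorization p :=
  Nat.sInf_le ⟨ξ, hξ, rfl⟩

theorem exists_minExp {p : ℕ} {B : Set (IrrCharacter G)} (hne : B.Nonempty) :
    ∃ ψ ∈ B, (charDegree (ψ : G → ℂ)).factorization p = minExp p B := by
  obtain ⟨χ, hχ⟩ := hne
  have hmem := Nat.sInf_mem (s := (fun χ : IrrCharacter G =>
    (charDegree (χ : G → ℂ)).factorization p) '' B) ⟨_, ⟨χ, hχ, rfl⟩⟩
  obtain ⟨ψ, hψ, hψe⟩ := hmem
  exact ⟨ψ, hψ, hψe⟩

theorem pow_minExp_dvd {p : ℕ} {B : Set (IrrCharacter G)} {ξ : IrrCharacter G} (hξ : ξ ∈ B) :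
    p ^ minExp p B ∣ charDegree (ξ : G → ℂ) :=
  dvd_trans (pow_dvd_pow p (minExp_le hξ)) (Nat.ordProj_dvd _ p)

theorem blockHeight_eq (p : ℕ) (B : Set (IrrCharacter G)) (χ : IrrCharacter G) :
    blockHeight p B (χ : G → ℂ) = (charDegree (χ : G → ℂ)).factorization p - minExp p B := rfl

theorem blockDefect_eq (p : ℕ) (B : Set (IrrCharacter G)) :
    blockDefect p B = (Nat.card G).factorization p - minExp p B := rfl

/-- **Height zero gives unit quotients.** -/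
theorem exists_unit_quot_of_height_zero {p : ℕ} [hp : Fact p.Prime] (hM : IsPModular p M)
    (B : Set (IrrCharacter G)) (hB : IsPBlock M B) (χ : IrrCharacter G) (hχ : χ ∈ B)
    (hht : (charDegree (χ : G → ℂ)).factorization p = minExp p B) (n' : ℕ)
    (hn' : n' = ordCompl[p] (Nat.card G)) (z : IrrCharacter G → ℤ)
    (hz2 : ∀ ξ : IrrCharacter G, regPair p (χ : G → ℂ) (ξ : G → ℂ) = (n' : ℂ) * (z ξ : ℂ))
    (hz3 : ∀ y : G, (if p ∣ orderOf y then (0 : ℂ)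
        else ((p ^ (Nat.card G).factorization p : ℕ) : ℂ) * (χ : G → ℂ) y)
          = ∑ ξ : IrrCharacter G, (z ξ : ℂ) * (ξ : G → ℂ) y) :
    ∀ ξ ∈ B, ∃ w : ℤ, (n' : ℤ) * z ξ = ((charDegree (ξ : G → ℂ) : ℕ) : ℤ) * w ∧ ¬ (p : ℤ) ∣ w := by
  classical
  haveI hMp := isPrime_of_isPModular hM
  have hMtop : M ≠ ⊤ := hM.2.1.ne_top
  have hpn' : ¬ p ∣ n' := by
    rw [hn']
    exact Nat.not_dvd_ordCompl hp.out Nat.card_pos.ne'
  obtain ⟨s, hs⟩ : ∃ s : ℕ, s = minExp p B := ⟨_, rfl⟩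
  rw [← hs] at hht
  have hBχ : B = blockOf M (χ : G → ℂ) :=
    block_eq_of_mem hB ⟨χ, rfl⟩ χ hχ (sameBlock_refl hMtop _)
  have hzB : ∀ ξ : IrrCharacter G, ξ ∉ B → z ξ = 0 := by
    intro ξ hξ
    apply regZ_eq_zero hM χ ξ _ (z ξ)
    · rw [← hn']; exact hz2 ξ
    · intro hsame
      apply hξ
      rw [hBχ]
      exact hsame
  have hw : ∀ ξ : IrrCharacter G, ∃ w : ℤ,
      (n' : ℤ) * z ξ = ((charDegree (ξ : G → ℂ) : ℕ) : ℤ) * w := fun ξ =>
    (degree_dvd_regZ p χ ξ n' (z ξ) (hz2 ξ)).2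
  choose w hw using hw
  -- Step 1
  have hstep1 : ∃ ξ₀ ∈ B, ¬ ((p ^ (s + 1) : ℕ) : ℤ) ∣ z ξ₀ := by
    by_contra hcon
    push Not at hcon
    have hall : ∀ ξ : IrrCharacter G, ((p ^ (s + 1) : ℕ) : ℤ) ∣ z ξ := by
      intro ξ
      by_cases hξ : ξ ∈ B
      · exact hcon ξ hξ
      · rw [hzB ξ hξ]
        exact dvd_zero _
    choose z' hz' using hall
    have hps : (((p ^ (s + 1) : ℕ) : ℤ) : ℂ) ≠ 0 := by
      exact_mod_cast (pow_pos hp.out.pos _).ne'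
    have hvan : ∀ y : G, p ∣ orderOf y →
        ∑ ξ : IrrCharacter G, (z' ξ : ℂ) * (ξ : G → ℂ) y = 0 := by
      intro y hy
      have h1 := hz3 y
      rw [if_pos hy] at h1
      have h2 : ∑ ξ : IrrCharacter G, (z ξ : ℂ) * (ξ : G → ℂ) y
          = (((p ^ (s + 1) : ℕ) : ℤ) : ℂ) * ∑ ξ : IrrCharacter G, (z' ξ : ℂ) * (ξ : G → ℂ) y := by
        rw [Finset.mul_sum]
        apply Finset.sum_congr rfl
        intro ξ _
        rw [hz' ξ]
        push_cast
        ring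
      rw [h2] at h1
      rcases mul_eq_zero.mp h1.symm with h3 | h3
      · exact absurd h3 hps
      · exact h3
    obtain ⟨q, hq⟩ := pow_dvd_of_int_comb_vanish z' hvan
    have h1 := hz3 1
    rw [orderOf_one, if_neg hp.out.not_dvd_one] at h1
    have h2 : ((((p ^ (Nat.card G).factorization p : ℕ) : ℤ)
        * ((charDegree (χ : G → ℂ) : ℕ) : ℤ) : ℤ) : ℂ)
        = ((((p ^ (s + 1) : ℕ) : ℤ) * (((p ^ (Nat.card G).factorization p : ℕ) : ℤ) * q) : ℤ) : ℂ) := by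
      rw [← hq]
      push_cast
      rw [← apply_one_eq_charDegree]
      push_cast at h1
      rw [h1, Finset.mul_sum]
      apply Finset.sum_congr rfl
      intro ξ _
      rw [hz' ξ, apply_one_eq_charDegree]
      push_cast
      ring
    have h3 : ((p ^ (Nat.card G).factorization p : ℕ) : ℤ) * ((charDegree (χ : G → ℂ) : ℕ) : ℤ)
        = ((p ^ (Nat.card G).factorization p : ℕ) : ℤ) * (((p ^ (s + 1) : ℕ) : ℤ) * q) := by
      have := Int.cast_injective (α := ℂ) h2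
      rw [this]
      ring
    have hpa : ((p ^ (Nat.card G).factorization p : ℕ) : ℤ) ≠ 0 := by
      exact_mod_cast (pow_pos hp.out.pos _).ne'
    have h4 := mul_left_cancel₀ hpa h3
    have h5 : p ^ (s + 1) ∣ charDegree (χ : G → ℂ) :=
      Int.natCast_dvd_natCast.mp ⟨q, h4⟩
    have h6 := (hp.out.pow_dvd_iff_le_factorization (charDegree_ne_zero χ)).1 h5
    omega
  obtain ⟨ξ₀, hξ₀B, hξ₀⟩ := hstep1
  -- Step 2
  have hw₀ : ¬ (p : ℤ) ∣ w ξ₀ := by
    intro hdiv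
    apply hξ₀
    have h1 : ((p ^ (s + 1) : ℕ) : ℤ) ∣ (n' : ℤ) * z ξ₀ := by
      rw [hw ξ₀]
      have h2 : ((p ^ s : ℕ) : ℤ) ∣ ((charDegree (ξ₀ : G → ℂ) : ℕ) : ℤ) := by
        rw [hs]
        exact Int.natCast_dvd_natCast.mpr (pow_minExp_dvd hξ₀B)
      have h3 : ((p ^ (s + 1) : ℕ) : ℤ) = ((p ^ s : ℕ) : ℤ) * (p : ℤ) := by
        push_cast
        ring
      rw [h3]
      exact mul_dvd_mul h2 hdiv
    have hcop : IsCoprime ((p ^ (s + 1) : ℕ) : ℤ) (n' : ℤ) := by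
      rw [Nat.isCoprime_iff_coprime]
      exact Nat.Coprime.pow_left _ ((Nat.Prime.coprime_iff_not_dvd hp.out).2 hpn')
    exact hcop.dvd_of_dvd_mul_left h1
  -- Step 3
  intro ξ hξ
  refine ⟨w ξ, hw ξ, ?_⟩
  have hsame : SameBlock M (ξ₀ : G → ℂ) (ξ : G → ℂ) := by
    obtain ⟨χ₀, rfl⟩ := hB
    exact sameBlock_trans (sameBlock_symm hξ₀B) hξ
  have hcong := regZ_quot_congr hM χ ξ₀ ξ hsame n' (z ξ₀) (z ξ) (w ξ₀) (w ξ) (hz2 ξ₀) (hz2 ξ)
    (hw ξ₀) (hw ξ)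
  intro hdiv
  apply hw₀
  have := dvd_add hcong hdiv
  rwa [sub_add_cancel] at this

end Cfsg.Agent.Lib.helper3.Block
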