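import Mathlib
import Cfsg.Prelude.Def_Blocks
import Cfsg.Agent.Lib.helper3.HeightZero3

/-!
# Height zero characters and the `p`-regular pairing: the converse and the valuation bridge
-/

set_option autoImplicit false
set_option linter.style.haveILetI false
set_option linter.unusedSectionVars false

namespace Cfsg.Agent.Lib.helper3.Block

open Cfsg Cfsg.Agent.Lib.helper3.LocalM Cfsg.Agent.Lib.helper3.Irr
open Cfsg.Agent.Lib.helper3.CharBasic Cfsg.Agent.Lib.helper3.Lin Cfsg.Agent.Lib.helper3.Central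
open Cfsg.Agent.Lib.helper3.IndFun Cfsg.Agent.Lib.helper3.HallNilp
open scoped ComplexConjugate

universe u

variable {G : Type u} [Group G] [Fintype G] {M : Ideal AlgInt}

/-- **A unit quotient forces height zero.** -/
theorem height_zero_of_unit_quot {p : ℕ} [hp : Fact p.Prime] (hM : IsPModular p M)
    (B : Set (IrrCharacter G)) (hB : IsPBlock M B) (χ : IrrCharacter G) (hχ : χ ∈ B) (n' : ℕ)
    (z : IrrCharacter G → ℤ)
    (hz2 : ∀ ξ : IrrCharacter G, regPair p (χ : G → ℂ) (ξ : G → ℂ) = (n' : ℂ) * (z ξ : ℂ))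
    (ξ : IrrCharacter G) (hξ : ξ ∈ B) (w : ℤ)
    (hw : (n' : ℤ) * z ξ = ((charDegree (ξ : G → ℂ) : ℕ) : ℤ) * w) (hpw : ¬ (p : ℤ) ∣ w) :
    (charDegree (χ : G → ℂ)).factorization p = minExp p B := by
  haveI hMp := isPrime_of_isPModular hM
  obtain ⟨ψ₀, hψ₀B, hψ₀⟩ := exists_minExp (p := p) ⟨χ, hχ⟩
  obtain ⟨w₀, hw₀⟩ := (degree_dvd_regZ p χ ψ₀ n' (z ψ₀) (hz2 ψ₀)).2
  have hsame : SameBlock M (ξ : G → ℂ) (ψ₀ : G → ℂ) := by
    obtain ⟨χ₀, rfl⟩ := hB
    exact sameBlock_trans (sameBlock_symm hξ) hψ₀B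
  have hcong := regZ_quot_congr hM χ ξ ψ₀ hsame n' (z ξ) (z ψ₀) w w₀ (hz2 ξ) (hz2 ψ₀) hw hw₀
  have hpw₀ : ¬ (p : ℤ) ∣ w₀ := by
    intro hdiv
    apply hpw
    have := dvd_add hcong hdiv
    rwa [sub_add_cancel] at this
  have hdvd := (degree_dvd_regZ p χ ψ₀ n' (z ψ₀) (hz2 ψ₀)).1
  rw [hw₀] at hdvd
  apply le_antisymm
  · obtain ⟨k, hk⟩ : ∃ k : ℕ, k = (charDegree (χ : G → ℂ)).factorization p := ⟨_, rfl⟩
    rw [← hk, ← hψ₀]
    have h1 : ((p ^ k : ℕ) : ℤ) ∣ ((charDegree (ψ₀ : G → ℂ) : ℕ) : ℤ) * w₀ := by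
      refine dvd_trans ?_ hdvd
      rw [hk]
      exact Int.natCast_dvd_natCast.mpr (Nat.ordProj_dvd _ p)
    have hcop := isCoprime_pow_of_not_dvd hp.out k w₀ hpw₀
    have h2 := hcop.dvd_of_dvd_mul_right h1
    exact (hp.out.pow_dvd_iff_le_factorization (charDegree_ne_zero ψ₀)).1
      (Int.natCast_dvd_natCast.mp h2)
  · exact minExp_le hχ

/-- The bridge between `p`-adic valuations and unit quotients. -/
theorem padicValInt_eq_iff {p : ℕ} [hp : Fact p.Prime] (n' deg : ℕ) (hpn' : ¬ p ∣ n')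
    (hdeg : 0 < deg) (n w : ℤ) (hn : n ≠ 0) (h : (n' : ℤ) * n = (deg : ℤ) * w) :
    padicValInt p n = deg.factorization p ↔ ¬ (p : ℤ) ∣ w := by
  have hn'0 : (n' : ℤ) ≠ 0 := by
    intro h0
    apply hpn'
    have : n' = 0 := by exact_mod_cast h0
    rw [this]
    exact dvd_zero p
  have hdeg0 : (deg : ℤ) ≠ 0 := by exact_mod_cast hdeg.ne'
  have hw0 : w ≠ 0 := by
    intro h0
    rw [h0, mul_zero] at h
    rcases mul_eq_zero.mp h with h1 | h1
    · exact hn'0 h1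
    · exact hn h1
  have e1 : padicValInt p ((n' : ℤ) * n) = padicValInt p n := by
    rw [padicValInt.mul hn'0 hn, padicValInt.of_nat, padicValNat.eq_zero_of_not_dvd hpn', zero_add]
  have e2 : padicValInt p ((deg : ℤ) * w) = deg.factorization p + padicValInt p w := by
    rw [padicValInt.mul hdeg0 hw0, padicValInt.of_nat, Nat.factorization_def deg hp.out]
  rw [h, e2] at e1
  rw [← e1]
  have e3 : padicValInt p w = 0 ↔ ¬ (p : ℤ) ∣ w := by
    unfold padicValInt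
    rw [padicValNat.eq_zero_iff, Int.natCast_dvd]
    constructor
    · rintro (h1 | h1 | h1)
      · exact absurd h1 hp.out.ne_one
      · exact absurd (Int.natAbs_eq_zero.mp h1) hw0
      · exact h1
    · intro h1
      exact Or.inr (Or.inr h1)
  rw [← e3]
  omega

end Cfsg.Agent.Lib.helper3.Block
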