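import Mathlib
import Cfsg.Prelude.Def_Blocks
import Cfsg.Agent.Lib.helper3.HeightZero4

/-!
# The exact power of `p` dividing the dimension of a block
-/

set_option autoImplicit false
set_option linter.style.haveILetI false
set_option linter.unusedSectionVars false

namespace Cfsg.Agent.Lib.helper3.Block

open Cfsg Cfsg.Agent.Lib.helper3.LocalM Cfsg.Agent.Lib.helper3.Irr
open Cfsg.Agent.Lib.helper3.CharBasic Cfsg.Agent.Lib.helper3.Lin Cfsg.Agent.Lib.helper3.Central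
open Cfsg.Agent.Lib.helper3.IndFun Cfsg.Agent.Lib.helper3.HallNilp
open scoped ComplexConjugate

universe u

variable {G : Type u} [Group G] [Fintype G] {M : Ideal AlgInt}

theorem minExp_le_factorization_card {p : ℕ} {B : Set (IrrCharacter G)} {χ : IrrCharacter G}
    (hχ : χ ∈ B) : minExp p B ≤ (Nat.card G).factorization p := by
  obtain ⟨d, hd1, hddvd, hdpos⟩ := irr_degree_dvd_card χ.2
  have hcd : charDegree (χ : G → ℂ) = d := charDegree_eq hd1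
  refine le_trans (minExp_le hχ) ?_
  rw [hcd]
  exact (Nat.factorization_le_iff_dvd hdpos.ne' Nat.card_pos.ne').2 hddvd p

/-- **Brauer's theorem on the dimension of a block**: the exact power of `p` dividing
`∑_{χ ∈ B} χ(1)²` is `p^(a + s)`, with `s` the least exponent of `p` in the degrees. -/
theorem factorization_sum_sq {p : ℕ} [hp : Fact p.Prime] (hM : IsPModular p M)
    (B : Set (IrrCharacter G)) (hB : IsPBlock M B) (Bf : Finset (IrrCharacter G))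
    (hBf : ∀ χ, χ ∈ Bf ↔ χ ∈ B) :
    (∑ ψ ∈ Bf, charDegree (ψ : G → ℂ) ^ 2).factorization p
      = (Nat.card G).factorization p + minExp p B := by
  classical
  haveI hMp := isPrime_of_isPModular hM
  have hMtop : M ≠ ⊤ := hM.2.1.ne_top
  have hBfeq : ∀ inst : DecidablePred (fun χ : IrrCharacter G => χ ∈ B),
      Bf = @Finset.filter _ (fun χ : IrrCharacter G => χ ∈ B) inst Finset.univ := by
    intro inst
    ext χ
    rw [Finset.mem_filter, hBf]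
    simp
  obtain ⟨χ₁, hB'⟩ := id hB
  have hχ₁B : χ₁ ∈ B := by
    rw [hB']
    exact sameBlock_refl hMtop _
  obtain ⟨χ, hχ, hht⟩ := exists_minExp (p := p) ⟨χ₁, hχ₁B⟩
  obtain ⟨s, hs⟩ : ∃ s : ℕ, s = minExp p B := ⟨_, rfl⟩
  obtain ⟨a, ha⟩ : ∃ a : ℕ, a = (Nat.card G).factorization p := ⟨_, rfl⟩
  rw [← hs, ← ha]
  obtain ⟨z, hz1, hz2, hz3⟩ := exists_regZ p χ
  obtain ⟨n', hn'⟩ : ∃ n' : ℕ, n' = ordCompl[p] (Nat.card G) := ⟨_, rfl⟩
  rw [← hn'] at hz2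
  rw [← ha] at hz3
  have hpn' : ¬ p ∣ n' := by
    rw [hn']
    exact Nat.not_dvd_ordCompl hp.out Nat.card_pos.ne'
  have hunits := exists_unit_quot_of_height_zero hM B hB χ hχ hht n' hn' z hz2
    (by rw [← ha]; exact hz3)
  have hBχ : B = blockOf M (χ : G → ℂ) :=
    block_eq_of_mem hB ⟨χ, rfl⟩ χ hχ (sameBlock_refl hMtop _)
  have hzB : ∀ ξ : IrrCharacter G, ξ ∉ B → z ξ = 0 := by
    intro ξ hξ
    apply regZ_eq_zero hM χ ξ _ (z ξ)
    · rw [← hn']; exact hz2 ξ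
    · intro hsame
      apply hξ
      rw [hBχ]
      exact hsame
  obtain ⟨f, hf⟩ : ∃ f : IrrCharacter G → ℕ,
      f = fun χ : IrrCharacter G => charDegree (χ : G → ℂ) := ⟨_, rfl⟩
  have hfapp : ∀ χ, f χ = charDegree (χ : G → ℂ) := fun χ => by rw [hf]
  have hw : ∀ ξ : IrrCharacter G, ∃ w : ℤ, (ξ ∈ B → (n' : ℤ) * z ξ = (f ξ : ℤ) * w) := by
    intro ξ
    by_cases hξ : ξ ∈ B
    · obtain ⟨w, hw, _⟩ := hunits ξ hξ
      exact ⟨w, fun _ => by rw [hfapp]; exact hw⟩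
    · exact ⟨0, fun h => absurd h hξ⟩
  choose w hw using hw
  obtain ⟨t, ht⟩ : ∃ t : ℤ, t = w χ := ⟨_, rfl⟩
  have hpt : ¬ (p : ℤ) ∣ t := by
    obtain ⟨w', hw', hpw'⟩ := hunits χ hχ
    have h1 := hw χ hχ
    rw [hfapp, hw'] at h1
    have hd0 : ((charDegree (χ : G → ℂ) : ℕ) : ℤ) ≠ 0 := by
      exact_mod_cast charDegree_ne_zero χ
    have h2 := mul_left_cancel₀ hd0 h1
    rw [ht, ← h2]
    exact hpw'
  have hm : ∀ ξ : IrrCharacter G, ∃ m : ℤ, (ξ ∈ B → w ξ - t = (p : ℤ) * m) := by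
    intro ξ
    by_cases hξ : ξ ∈ B
    · have hsame : SameBlock M (ξ : G → ℂ) (χ : G → ℂ) := by
        obtain ⟨χ₀, rfl⟩ := hB
        exact sameBlock_trans (sameBlock_symm hξ) hχ
      have hcong := regZ_quot_congr hM χ ξ χ hsame n' (z ξ) (z χ) (w ξ) (w χ) (hz2 ξ) (hz2 χ)
        (by rw [← hfapp]; exact hw ξ hξ) (by rw [← hfapp]; exact hw χ hχ)
      obtain ⟨m, hm⟩ := hcong
      exact ⟨m, fun _ => by rw [ht]; exact hm⟩
    · exact ⟨0, fun h => absurd h hξ⟩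
  choose m hm using hm
  have hfs : ∀ ξ ∈ B, f ξ = p ^ s * (f ξ / p ^ s) := by
    intro ξ hξ
    rw [hfapp, hs]
    exact (Nat.mul_div_cancel' (pow_minExp_dvd hξ)).symm
  -- the coefficients
  obtain ⟨c, hc⟩ : ∃ c : IrrCharacter G → ℤ,
      c = fun ξ => if ξ ∈ B then m ξ * ((f ξ / p ^ s : ℕ) : ℤ) else 0 := ⟨_, rfl⟩
  have hckey : ∀ ξ : IrrCharacter G, ((p ^ (s + 1) : ℕ) : ℤ) * c ξ
      = (n' : ℤ) * z ξ - t * (if ξ ∈ B then (f ξ : ℤ) else 0) := by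
    intro ξ
    rw [hc]
    beta_reduce
    by_cases hξ : ξ ∈ B
    · rw [if_pos hξ, if_pos hξ, hw ξ hξ]
      have h1 : (f ξ : ℤ) = ((p ^ s : ℕ) : ℤ) * ((f ξ / p ^ s : ℕ) : ℤ) := by
        exact_mod_cast hfs ξ hξ
      have h2 := hm ξ hξ
      have h3 : w ξ = t + (p : ℤ) * m ξ := by linarith
      rw [h3]
      conv_rhs => rw [h1]
      push_cast
      ring
    · rw [if_neg hξ, if_neg hξ, hzB ξ hξ]
      ring
  have hpsC : (((p ^ (s + 1) : ℕ) : ℤ) : ℂ) ≠ 0 := by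
    exact_mod_cast (pow_pos hp.out.pos _).ne'
  have hsumB : ∀ y : G, ∑ ξ : IrrCharacter G,
      ((if ξ ∈ B then (f ξ : ℤ) else 0 : ℤ) : ℂ) * (ξ : G → ℂ) y
      = ∑ ξ ∈ Bf, (ξ : G → ℂ) 1 * (ξ : G → ℂ) y := by
    intro y
    rw [hBfeq _, Finset.sum_filter]
    apply Finset.sum_congr rfl
    intro ξ _
    by_cases hξ : ξ ∈ B
    · rw [if_pos hξ, if_pos hξ, apply_one_eq_charDegree, hfapp]
      push_cast
      rfl
    · rw [if_neg hξ, if_neg hξ]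
      push_cast
      ring
  have hcomb : ∀ y : G, (((p ^ (s + 1) : ℕ) : ℤ) : ℂ) * ∑ ξ : IrrCharacter G, (c ξ : ℂ) * (ξ : G → ℂ) y
      = (n' : ℂ) * ∑ ξ : IrrCharacter G, (z ξ : ℂ) * (ξ : G → ℂ) y
        - (t : ℂ) * ∑ ξ ∈ Bf, (ξ : G → ℂ) 1 * (ξ : G → ℂ) y := by
    intro y
    rw [← hsumB y, Finset.mul_sum, Finset.mul_sum, Finset.mul_sum, ← Finset.sum_sub_distrib]
    apply Finset.sum_congr rfl
    intro ξ _
    have h1 : ((((p ^ (s + 1) : ℕ) : ℤ) * c ξ : ℤ) : ℂ)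
        = (((n' : ℤ) * z ξ - t * (if ξ ∈ B then (f ξ : ℤ) else 0) : ℤ) : ℂ) := by
      rw [hckey ξ]
    push_cast at h1
    push_cast
    linear_combination (ξ : G → ℂ) y * h1
  have hvan : ∀ y : G, p ∣ orderOf y → ∑ ξ : IrrCharacter G, (c ξ : ℂ) * (ξ : G → ℂ) y = 0 := by
    intro y hy
    have h1 := hcomb y
    have h2 := hz3 y
    rw [if_pos hy] at h2
    have h3 := sum_degree_mul_apply_eq_zero hM B hB y hy
    rw [← hBfeq _] at h3
    rw [← h2, h3, mul_zero, mul_zero, sub_zero] at h1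
    rcases mul_eq_zero.mp h1 with h4 | h4
    · exact absurd h4 hpsC
    · exact h4
  obtain ⟨q, hq⟩ := pow_dvd_of_int_comb_vanish c hvan
  rw [← ha] at hq
  -- evaluate at the identity
  have h1 := hcomb 1
  have h2 := hz3 1
  rw [orderOf_one, if_neg hp.out.not_dvd_one] at h2
  rw [← h2] at h1
  obtain ⟨D, hD⟩ : ∃ D : ℕ, D = ∑ ψ ∈ Bf, charDegree (ψ : G → ℂ) ^ 2 := ⟨_, rfl⟩
  rw [← hD]
  have hDsum : ∑ ξ ∈ Bf, (ξ : G → ℂ) 1 * (ξ : G → ℂ) 1 = (D : ℂ) := by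
    rw [hD]
    push_cast
    apply Finset.sum_congr rfl
    intro ξ _
    rw [apply_one_eq_charDegree]
    ring
  have hcsum : ∑ ξ : IrrCharacter G, (c ξ : ℂ) * (ξ : G → ℂ) 1
      = ((((p ^ a : ℕ) : ℤ) * q : ℤ) : ℂ) := by
    rw [← hq]
    push_cast
    apply Finset.sum_congr rfl
    intro ξ _
    rw [apply_one_eq_charDegree]
  rw [hDsum, hcsum, apply_one_eq_charDegree] at h1
  obtain ⟨χ', hχ'⟩ : ∃ χ' : ℕ, χ' = charDegree (χ : G → ℂ) / p ^ s := ⟨_, rfl⟩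
  have hχfac : charDegree (χ : G → ℂ) = p ^ s * χ' := by
    rw [hχ', hs]
    exact (Nat.mul_div_cancel' (pow_minExp_dvd hχ)).symm
  have hpχ' : ¬ p ∣ χ' := by
    rw [hχ', hs, ← hht]
    exact Nat.not_dvd_ordCompl hp.out (charDegree_ne_zero χ)
  rw [hχfac] at h1
  have hint : t * (D : ℤ) = ((p ^ (a + s) : ℕ) : ℤ) * ((n' : ℤ) * (χ' : ℤ) - (p : ℤ) * q) := by
    have h3 : ((t * (D : ℤ) : ℤ) : ℂ)
        = ((((p ^ (a + s) : ℕ) : ℤ) * ((n' : ℤ) * (χ' : ℤ) - (p : ℤ) * q) : ℤ) : ℂ) := by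
      push_cast
      push_cast at h1
      linear_combination h1
    exact Int.cast_injective (α := ℂ) h3
  have hpr : ¬ (p : ℤ) ∣ ((n' : ℤ) * (χ' : ℤ) - (p : ℤ) * q) := by
    intro hdiv
    have h3 : (p : ℤ) ∣ (n' : ℤ) * (χ' : ℤ) := by
      have := dvd_add hdiv (Dvd.intro q rfl : (p : ℤ) ∣ (p : ℤ) * q)
      rwa [sub_add_cancel] at this
    have h4 : p ∣ n' * χ' := by exact_mod_cast h3
    rcases (Nat.Prime.dvd_mul hp.out).1 h4 with h5 | h5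
    · exact hpn' h5
    · exact hpχ' h5
  have hcop := isCoprime_pow_of_not_dvd hp.out (a + s) t hpt
  have hdvdD : ((p ^ (a + s) : ℕ) : ℤ) ∣ (D : ℤ) := by
    apply hcop.dvd_of_dvd_mul_left
    exact ⟨_, hint⟩
  obtain ⟨D', hD'⟩ := Int.natCast_dvd_natCast.mp hdvdD
  have hpD' : ¬ p ∣ D' := by
    intro hdiv
    apply hpr
    have h3 : t * ((p ^ (a + s) : ℕ) : ℤ) * (D' : ℤ)
        = ((p ^ (a + s) : ℕ) : ℤ) * ((n' : ℤ) * (χ' : ℤ) - (p : ℤ) * q) := by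
      rw [← hint, hD']
      push_cast
      ring
    have hpa : ((p ^ (a + s) : ℕ) : ℤ) ≠ 0 := by
      exact_mod_cast (pow_pos hp.out.pos _).ne'
    have h4 : t * (D' : ℤ) = (n' : ℤ) * (χ' : ℤ) - (p : ℤ) * q := by
      apply mul_left_cancel₀ hpa
      rw [← h3]
      ring
    rw [← h4]
    exact Dvd.dvd.mul_left (Int.natCast_dvd_natCast.mpr hdiv) t
  have hD'0 : D' ≠ 0 := by
    intro h0
    apply hpD'
    rw [h0]
    exact dvd_zero p
  rw [hD', Nat.factorization_mul (pow_pos hp.out.pos _).ne' hD'0, Finsupp.add_apply,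
    Nat.Prime.factorization_pow hp.out, Nat.factorization_eq_zero_of_not_dvd hpD']
  simp

end Cfsg.Agent.Lib.helper3.Block
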