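import Mathlib
import Cfsg.Prelude.Def_Blocks
import Cfsg.Agent.Lib.helper3.QuotDefect
import Cfsg.Agent.Lib.helper3.NormalInv
import Cfsg.Agent.Lib.helper3.BrauerMap3

/-!
# Sums of block idempotent coefficients over the cosets of a normal subgroup
-/

set_option autoImplicit false
set_option linter.style.haveILetI false
set_option linter.unusedSectionVars false

namespace Cfsg.Agent.Lib.helper3.Block

open Cfsg Module Cfsg.Agent.Lib.helper3.CharBasic Cfsg.Agent.Lib.helper3.Irr
open Cfsg.Agent.Lib.helper3.Central Cfsg.Agent.Lib.helper3.LocalM Cfsg.Agent.Lib.helper3.IndFun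
open scoped ComplexConjugate

variable {G : Type*} [Group G]
variable {V : Type*} [AddCommGroup V] [Module ℂ V] [FiniteDimensional ℂ V]

/-- A normal subgroup either acts trivially in an irreducible representation, or the sum of its
elements acts as zero. -/
theorem normal_trivial_or_sum_map_eq_zero (ρ : Representation ℂ G V) [hirr : ρ.IsIrreducible]
    (N : Subgroup G) [hN : N.Normal] [Fintype N] :
    (∀ n ∈ N, ρ n = LinearMap.id) ∨ ∑ n : N, ρ (n : G) = 0 := by
  obtain ⟨W, hW⟩ : ∃ W : Subrepresentation ρ,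
      W.toSubmodule = Representation.invariants (ρ.comp N.subtype) := by
    refine ⟨⟨Representation.invariants (ρ.comp N.subtype), ?_⟩, rfl⟩
    intro g v hv
    rw [Representation.mem_invariants] at hv ⊢
    intro n
    have h1 : g⁻¹ * (n : G) * g ∈ N := by
      have := hN.conj_mem (n : G) n.2 g⁻¹
      rwa [inv_inv] at this
    have h2 := hv ⟨g⁻¹ * (n : G) * g, h1⟩
    have h3 : (ρ.comp N.subtype) n (ρ g v) = ρ ((n : G) * g) v := by
      rw [map_mul]
      rfl
    have h4 : (n : G) * g = g * (g⁻¹ * (n : G) * g) := by group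
    rw [h3, h4, map_mul, Module.End.mul_apply]
    congr 1
  rcases eq_bot_or_eq_top W with h | h
  · right
    have h1 : Representation.invariants (ρ.comp N.subtype) = ⊥ := by
      rw [← hW, h]
      rfl
    apply LinearMap.ext
    intro v
    have hv : (∑ n : N, ρ (n : G)) v ∈ Representation.invariants (ρ.comp N.subtype) := by
      rw [Representation.mem_invariants]
      intro m
      rw [LinearMap.sum_apply, map_sum]
      apply Fintype.sum_equiv (Equiv.mulLeft m)
      intro n
      show ρ (m : G) (ρ (n : G) v) = ρ ((m * n : N) : G) v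
      rw [Subgroup.coe_mul, map_mul]
      rfl
    rw [h1, Submodule.mem_bot] at hv
    rw [hv]
    rfl
  · left
    intro n hn
    have h1 : Representation.invariants (ρ.comp N.subtype) = ⊤ := by
      rw [← hW, h]
      rfl
    apply LinearMap.ext
    intro v
    have hv : v ∈ Representation.invariants (ρ.comp N.subtype) := by
      rw [h1]
      exact Submodule.mem_top
    exact hv ⟨n, hn⟩

/-- The sum of an irreducible character over a coset of a normal subgroup. -/
theorem sum_coset_irr [Finite G] (N : Subgroup G) [hN : N.Normal] [Fintype N]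
    (χ : IrrCharacter G) (x : G) [Decidable (∀ g n : G, n ∈ N → (χ : G → ℂ) (g * n) = (χ : G → ℂ) g)] :
    ∑ n : N, (χ : G → ℂ) (x * (n : G))
      = if ∀ g n : G, n ∈ N → (χ : G → ℂ) (g * n) = (χ : G → ℂ) g
        then (Nat.card N : ℂ) * (χ : G → ℂ) x else 0 := by
  obtain ⟨d, ρ, hirr, hρ⟩ := χ.2
  haveI := hirr
  rcases normal_trivial_or_sum_map_eq_zero ρ N with h | h
  · have hT : ∀ g n : G, n ∈ N → (χ : G → ℂ) (g * n) = (χ : G → ℂ) g := by
      intro g n hn
      rw [← hρ]
      unfold Representation.character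
      rw [map_mul, h n hn]
      rfl
    rw [if_pos hT]
    rw [Finset.sum_congr rfl (fun (n : N) _ => hT x (n : G) n.2), Finset.sum_const, Finset.card_univ,
      nsmul_eq_mul, Nat.card_eq_fintype_card]
  · have hsum : ∑ n : N, (χ : G → ℂ) (x * (n : G)) = 0 := by
      rw [← hρ]
      unfold Representation.character
      simp_rw [map_mul]
      rw [← map_sum, ← Finset.mul_sum, h, mul_zero, map_zero]
    rw [hsum, if_neg]
    intro hT
    have h1 : ∑ n : N, (χ : G → ℂ) (1 * (n : G)) = 0 := by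
      rw [← hρ]
      unfold Representation.character
      simp_rw [map_mul]
      rw [← map_sum, ← Finset.mul_sum, h, mul_zero, map_zero]
    rw [Finset.sum_congr rfl (fun (n : N) _ => hT 1 (n : G) n.2), Finset.sum_const, Finset.card_univ,
      nsmul_eq_mul] at h1
    have hN0 : ((Fintype.card N : ℕ) : ℂ) ≠ 0 := by
      have : Fintype.card N ≠ 0 := Fintype.card_ne_zero
      exact_mod_cast this
    rcases mul_eq_zero.mp h1 with h2 | h2
    · exact hN0 h2
    · exact apply_one_ne_zero χ.2 h2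


open Classical in
/-- The sum of the idempotent coefficients of `B` over a coset of the normal subgroup `N` is the
idempotent coefficient, in `G ⧸ N`, of the set of characters whose inflation lies in `B`. -/
theorem sum_coset_blockCoeff [Fintype G] (N : Subgroup G) [hN : N.Normal] [Fintype N]
    (B : Set (IrrCharacter G)) (x : G) :
    ∑ n : N, blockCoeff B (x * (n : G))
      = blockCoeff {ψ : IrrCharacter (G ⧸ N) | inflIrr N ψ ∈ B} (x : G ⧸ N) := by
  have hN0 : (Nat.card N : ℂ) ≠ 0 := by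
    have : Nat.card N ≠ 0 := Nat.card_pos.ne'
    exact_mod_cast this
  obtain ⟨BN, hBN⟩ : ∃ BN : Set (IrrCharacter G), BN = {χ | χ ∈ B ∧
      ∀ g n : G, n ∈ N → (χ : G → ℂ) (g * n) = (χ : G → ℂ) g} := ⟨_, rfl⟩
  have himage : inflIrr N '' {ψ : IrrCharacter (G ⧸ N) | inflIrr N ψ ∈ B} = BN := by
    ext χ
    rw [hBN]
    constructor
    · rintro ⟨ψ, hψ, rfl⟩
      refine ⟨hψ, ?_⟩
      intro g n hn
      show (ψ : G ⧸ N → ℂ) ((g * n : G) : G ⧸ N) = (ψ : G ⧸ N → ℂ) (g : G ⧸ N)
      rw [QuotientGroup.mk_mul, (QuotientGroup.eq_one_iff n).mpr hn, mul_one]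
    · rintro ⟨hχB, hT⟩
      obtain ⟨ψ, hψ, hχψ⟩ := exists_eq_inflate χ.2 N hT
      have e : inflIrr N ⟨ψ, hψ⟩ = χ := by
        apply Subtype.ext
        exact hχψ.symm
      exact ⟨⟨ψ, hψ⟩, by show inflIrr N ⟨ψ, hψ⟩ ∈ B; rw [e]; exact hχB, e⟩
  have h1 : blockCoeff {ψ : IrrCharacter (G ⧸ N) | inflIrr N ψ ∈ B} (x : G ⧸ N)
      = (Nat.card N : ℂ) * blockCoeff BN x := by
    rw [← himage, blockCoeff_image_inflIrr, ← mul_assoc, mul_inv_cancel₀ hN0, one_mul]
  rw [h1]
  simp_rw [blockCoeff_eq_coef]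
  unfold coef
  rw [← Finset.mul_sum, Finset.sum_comm, mul_left_comm (Nat.card N : ℂ)]
  congr 1
  rw [Finset.mul_sum]
  apply Finset.sum_congr rfl
  intro χ _
  beta_reduce
  have h2 := sum_coset_irr N χ x
  have h3 : ∑ n : N, (if χ ∈ B then (1 : ℂ) else 0) * (χ : G → ℂ) 1
        * conj ((χ : G → ℂ) (x * (n : G)))
      = (if χ ∈ B then (1 : ℂ) else 0) * (χ : G → ℂ) 1
        * conj (∑ n : N, (χ : G → ℂ) (x * (n : G))) := by
    rw [map_sum, Finset.mul_sum]
  rw [h3, h2, hBN]
  by_cases hT : ∀ g n : G, n ∈ N → (χ : G → ℂ) (g * n) = (χ : G → ℂ) g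
  · rw [if_pos hT]
    by_cases hχ : χ ∈ B
    · rw [if_pos hχ, if_pos (show χ ∈ {χ | χ ∈ B ∧
        ∀ g n : G, n ∈ N → (χ : G → ℂ) (g * n) = (χ : G → ℂ) g} from ⟨hχ, hT⟩)]
      rw [map_mul, Complex.conj_natCast]
      ring
    · rw [if_neg hχ, if_neg (show ¬ χ ∈ {χ | χ ∈ B ∧
        ∀ g n : G, n ∈ N → (χ : G → ℂ) (g * n) = (χ : G → ℂ) g} from fun h => hχ h.1)]
      ring
  · rw [if_neg hT, if_neg (show ¬ χ ∈ {χ | χ ∈ B ∧
        ∀ g n : G, n ∈ N → (χ : G → ℂ) (g * n) = (χ : G → ℂ) g} from fun h => hT h.2)]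
    rw [map_zero]
    ring

variable {M : Ideal AlgInt}

open Classical in
/-- The idempotent of a union of blocks is the sum of the block idempotents. -/
theorem blockCoeff_eq_sum_blocks [Fintype G] [hMp : M.IsPrime] (S : Set (IrrCharacter G))
    (hS : ∀ θ ∈ S, blockOf M (θ : G → ℂ) ⊆ S) (g : G) :
    blockCoeff S g = ∑ B ∈ (blocksFinset M G).filter (fun B => B ⊆ S), blockCoeff B g := by
  have hMtop : M ≠ ⊤ := hMp.ne_top
  simp_rw [blockCoeff_eq_coef]
  unfold coef
  rw [← Finset.mul_sum, Finset.sum_comm]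
  congr 1
  apply Finset.sum_congr rfl
  intro χ _
  rw [← Finset.sum_mul, ← Finset.sum_mul]
  congr 2
  beta_reduce
  by_cases hχ : χ ∈ S
  · rw [if_pos hχ, Finset.sum_eq_single (blockOf M (χ : G → ℂ))]
    · rw [if_pos]
      exact sameBlock_refl hMtop _
    · intro B hB hne
      rw [if_neg]
      intro hχ'
      apply hne
      rw [Finset.mem_filter] at hB
      exact block_eq_of_mem ((mem_blocksFinset B).mp hB.1) ⟨χ, rfl⟩ χ hχ' (sameBlock_refl hMtop _)
    · intro h
      exfalso
      apply h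
      rw [Finset.mem_filter]
      exact ⟨(mem_blocksFinset _).mpr ⟨χ, rfl⟩, hS χ hχ⟩
  · rw [if_neg hχ]
    symm
    apply Finset.sum_eq_zero
    intro B hB
    rw [Finset.mem_filter] at hB
    rw [if_neg]
    intro hχ'
    exact hχ (hB.2 hχ')

end Cfsg.Agent.Lib.helper3.Block
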