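import Mathlib
import Cfsg.Prelude.Def_Blocks
import Cfsg.Agent.Lib.helper3.QuotDefect2
import Cfsg.Agent.S0959
import Cfsg.Agent.S0908

/-!
# Conjugates of defect groups
-/

set_option autoImplicit false
set_option linter.style.haveILetI false
set_option linter.unusedSectionVars false

namespace Cfsg.Agent.Lib.helper3.Block

open Cfsg Module Cfsg.Agent.Lib.helper3.CharBasic Cfsg.Agent.Lib.helper3.Irr
open Cfsg.Agent.Lib.helper3.Central Cfsg.Agent.Lib.helper3.LocalM Cfsg.Agent.Lib.helper3.IndFun
open scoped ComplexConjugate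

variable {G : Type*} [Group G] [Finite G] {M : Ideal AlgInt}

/-- A conjugate of a defect group is a defect group. -/
theorem isDefectGroup_conj {p : ℕ} [Fact p.Prime] {B : Set (IrrCharacter G)} {D : Subgroup G}
    (hD : IsDefectGroup p M B D) (x : G) :
    IsDefectGroup p M B (D.map (MulAut.conj x).toMonoidHom) := by
  classical
  letI : Fintype G := Fintype.ofFinite G
  obtain ⟨g, hg, S, rfl⟩ := hD
  obtain ⟨D, hDdef⟩ : ∃ D : Subgroup G,
      D = (S : Subgroup (Subgroup.centralizer ({g} : Set G))).map
        (Subgroup.centralizer ({g} : Set G)).subtype := ⟨_, rfl⟩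
  rw [← hDdef]
  have hDp : IsPGroup p D := by
    rw [hDdef]
    exact S.2.map _
  have hDle : D ≤ Subgroup.centralizer ({g} : Set G) := by
    rw [hDdef]
    exact Subgroup.map_subtype_le _
  have hDcard : Nat.card D = p ^ (Nat.card (Subgroup.centralizer ({g} : Set G))).factorization p := by
    rw [hDdef, Subgroup.card_map_of_injective (Subgroup.subtype_injective _)]
    exact S.card_eq_multiplicity
  have hle' : D.map (MulAut.conj x).toMonoidHom
      ≤ Subgroup.centralizer ({x * g * x⁻¹} : Set G) := by
    rintro _ ⟨u, hu, rfl⟩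
    have h1 := Subgroup.mem_centralizer_singleton_iff.mp (hDle hu)
    rw [Subgroup.mem_centralizer_singleton_iff]
    simp only [MulEquiv.coe_toMonoidHom, MulAut.conj_apply]
    calc x * u * x⁻¹ * (x * g * x⁻¹) = x * (u * g) * x⁻¹ := by group
      _ = x * (g * u) * x⁻¹ := by rw [h1]
      _ = x * g * x⁻¹ * (x * u * x⁻¹) := by group
  have hcardC : Nat.card (Subgroup.centralizer ({x * g * x⁻¹} : Set G))
      = Nat.card (Subgroup.centralizer ({g} : Set G)) := by
    have h1 := Subgroup.card_mul_index (Subgroup.centralizer ({x * g * x⁻¹} : Set G))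
    have h2 := Subgroup.card_mul_index (Subgroup.centralizer ({g} : Set G))
    rw [index_centralizer_conj] at h1
    have h3 : (Subgroup.centralizer ({g} : Set G)).index ≠ 0 := Subgroup.index_ne_zero_of_finite
    exact Nat.eq_of_mul_eq_mul_right (Nat.pos_of_ne_zero h3) (h1.trans h2.symm)
  have hcard' : Nat.card ((D.map (MulAut.conj x).toMonoidHom).subgroupOf
      (Subgroup.centralizer ({x * g * x⁻¹} : Set G)))
      = p ^ (Nat.card (Subgroup.centralizer ({x * g * x⁻¹} : Set G))).factorization p := by
    rw [hcardC, ← hDcard]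
    rw [Nat.card_congr (Subgroup.subgroupOfEquivOfLe hle').toEquiv,
      Subgroup.card_map_of_injective (MulAut.conj x).injective]
  refine ⟨x * g * x⁻¹, isDefectClass_conj hg x, Sylow.ofCard _ hcard', ?_⟩
  rw [Sylow.coe_ofCard, Subgroup.subgroupOf_map_subtype, inf_of_le_left hle']

/-- Any two defect groups of a block are conjugate. -/
theorem defectGroup_conj_eq {p : ℕ} [Fact p.Prime] (hM : IsPModular p M)
    {B : Set (IrrCharacter G)} (hB : IsPBlock M B) {D D' : Subgroup G}
    (hD : IsDefectGroup p M B D) (hD' : IsDefectGroup p M B D') :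
    ∃ x : G, D'.map (MulAut.conj x).toMonoidHom = D := by
  classical
  letI : Fintype G := Fintype.ofFinite G
  have hcard := Cfsg.Agent.S0908.result p M hM B hB D hD
  have hcard' := Cfsg.Agent.S0908.result p M hM B hB D' hD'
  obtain ⟨g', hg', S', hS'⟩ := id hD'
  have hD'p : IsPGroup p D' := by
    rw [hS']
    exact S'.2.map _
  have hD'le : D' ≤ Subgroup.centralizer ({g'} : Set G) := by
    rw [hS']
    exact Subgroup.map_subtype_le _
  have h1 := (Cfsg.Agent.S0959.result p M hM B hB D hD D' hD'p).mp
    ⟨g', hg'.1, hg'.2.1, g', IsConj.refl g', by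
      rw [Subgroup.mem_centralizer_iff]
      intro u hu
      exact Subgroup.mem_centralizer_singleton_iff.mp (hD'le hu)⟩
  obtain ⟨x, hx⟩ := h1
  refine ⟨x, ?_⟩
  apply Subgroup.eq_of_le_of_card_ge hx
  rw [Subgroup.card_map_of_injective (MulAut.conj x).injective, hcard, hcard']

end Cfsg.Agent.Lib.helper3.Block
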