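import Mathlib
import Cfsg.Prelude.Def_Blocks
import Cfsg.Agent.Lib.helper3.SecMain11

/-!
# Vanishing of characters at elements whose `p`-part has no block of its centralizer inducing the
block of the character
-/

set_option autoImplicit false
set_option linter.style.haveILetI false
set_option linter.unusedSectionVars false
set_option maxHeartbeats 1000000

namespace Cfsg.Agent.Lib.helper3.Block

open Cfsg Module Cfsg.Agent.Lib.helper3.CharBasic Cfsg.Agent.Lib.helper3.Irr
open Cfsg.Agent.Lib.helper3.Central Cfsg.Agent.Lib.helper3.LocalM Cfsg.Agent.Lib.helper3.IndFun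
open scoped ComplexConjugate

variable {G : Type*} [Group G] [Fintype G] {M : Ideal AlgInt}

/-- If no block of the centralizer of the `p`-part `x` of `g` induces the block of `χ`, then
`χ g = 0`. -/
theorem apply_eq_zero_of_no_induced {p : ℕ} [hpf : Fact p.Prime] (hM : IsPModular p M)
    (χ : IrrCharacter G) (g x : G) (hx : IsPPart p g x)
    (hno : ∀ b : Set (IrrCharacter (Subgroup.centralizer ({x} : Set G))), IsPBlock M b →
      ¬ IsInducedBlock M (Subgroup.centralizer ({x} : Set G)) b (blockOf M (χ : G → ℂ))) :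
    (χ : G → ℂ) g = 0 := by
  classical
  haveI hMp := isPrime_of_isPModular hM
  have hMtop : M ≠ ⊤ := hM.2.1.ne_top
  letI : Fintype (Subgroup.centralizer ({x} : Set G)) := Fintype.ofFinite _
  have hχcf := isClassFunction_of_isCharacter (isCharacter_of_isIrrCharacter χ.2)
  obtain ⟨y, hxy, hcomm, ⟨k, hk⟩, hreg⟩ := hx
  have hyC : y ∈ Subgroup.centralizer ({x} : Set G) :=
    Subgroup.mem_centralizer_singleton_iff.mpr hcomm.symm.eq
  obtain ⟨yC, hyCdef⟩ : ∃ yC : Subgroup.centralizer ({x} : Set G), yC = ⟨y, hyC⟩ := ⟨_, rfl⟩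
  have hyreg : ¬ p ∣ orderOf yC := by
    rw [← Subgroup.orderOf_coe, hyCdef]
    exact hreg
  have hcommC : ∀ c : Subgroup.centralizer ({x} : Set G), x * (c : G) = (c : G) * x :=
    fun c => (Subgroup.mem_centralizer_singleton_iff.mp c.2).symm
  obtain ⟨ϑ, hϑ⟩ : ∃ ϑ : Subgroup.centralizer ({x} : Set G) → ℂ,
      ϑ = fun c : Subgroup.centralizer ({x} : Set G) => (χ : G → ℂ) (x * (c : G)) := ⟨_, rfl⟩
  have hϑcf : IsClassFunction (Subgroup.centralizer ({x} : Set G)) ϑ := by
    intro c t
    rw [hϑ]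
    show (χ : G → ℂ) (x * ((t * c * t⁻¹ : Subgroup.centralizer ({x} : Set G)) : G))
      = (χ : G → ℂ) (x * (c : G))
    have e1 : x * ((t * c * t⁻¹ : Subgroup.centralizer ({x} : Set G)) : G)
        = (t : G) * (x * (c : G)) * (t : G)⁻¹ := by
      push_cast
      rw [← mul_assoc, ← mul_assoc, hcommC t]
      group
    rw [e1, hχcf]
  have hχB : χ ∈ blockOf M (χ : G → ℂ) := sameBlock_refl hMtop _
  have hBblock : IsPBlock M (blockOf M (χ : G → ℂ)) := ⟨χ, rfl⟩
  have h1 : ∀ b ∈ blocksFinset M (Subgroup.centralizer ({x} : Set G)),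
      ∑ c : Subgroup.centralizer ({x} : Set G), blockCoeff b c * ϑ (c * yC) = 0 := by
    intro b hb
    rw [mem_blocksFinset] at hb
    rw [sum_blockCoeff_mul_classFun b ϑ hϑcf yC, hϑ]
    exact second_main_char hM x k hk _ hBblock χ hχB b hb (hno b hb) yC hyreg
  have h2 : ∑ b ∈ blocksFinset M (Subgroup.centralizer ({x} : Set G)),
      ∑ c : Subgroup.centralizer ({x} : Set G), blockCoeff b c * ϑ (c * yC) = ϑ yC := by
    rw [Finset.sum_comm]
    simp_rw [← Finset.sum_mul, sum_blocks_blockCoeff]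
    rw [Finset.sum_eq_single (1 : Subgroup.centralizer ({x} : Set G))]
    · rw [if_pos rfl, one_mul, one_mul]
    · intro c _ hc
      rw [if_neg hc, zero_mul]
    · intro h'
      exact absurd (Finset.mem_univ _) h'
  rw [Finset.sum_eq_zero h1] at h2
  rw [← hxy]
  have : ϑ yC = (χ : G → ℂ) (x * y) := by
    rw [hϑ, hyCdef]
  rw [← this, ← h2]

end Cfsg.Agent.Lib.helper3.Block
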