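import Mathlib
import Cfsg.Prelude.Def_Blocks
import Cfsg.Agent.Lib.helper3.SecMain12
import Cfsg.Agent.Lib.helper3.QuotDefect3
import Cfsg.Agent.Lib.helper3.HeightZero5
import Cfsg.Agent.Lib.helper3.DefectOrder3
import Cfsg.Agent.Lib.helper3.RankOne2
import Cfsg.Agent.Lib.helper3.LocalM2

/-!
# Height zero characters do not vanish on the sections meeting the defect group
-/

set_option autoImplicit false
set_option linter.style.haveILetI false
set_option linter.unusedSectionVars false
set_option maxHeartbeats 1000000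

namespace Cfsg.Agent.Lib.helper3.Block

open Cfsg Module Cfsg.Agent.Lib.helper3.CharBasic Cfsg.Agent.Lib.helper3.Irr
open Cfsg.Agent.Lib.helper3.Central Cfsg.Agent.Lib.helper3.LocalM Cfsg.Agent.Lib.helper3.IndFun
open scoped ComplexConjugate

variable {M : Ideal AlgInt}

/-- A quotient of natural numbers is local when the denominator has at most the `p`-part of the
numerator. -/
theorem memLocalRing_natCast_div {p : ℕ} (hM : IsPModular p M) (a b : ℕ) (ha : a ≠ 0)
    (hb : b ≠ 0) (h : b.factorization p ≤ a.factorization p) :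
    MemLocalRing M ((a : ℂ) / (b : ℂ)) := by
  have hp : p.Prime := hM.1
  have h1 : p ^ b.factorization p ∣ a :=
    dvd_trans (pow_dvd_pow p h) (Nat.ordProj_dvd a p)
  obtain ⟨a', ha'⟩ := h1
  have h2 : ¬ p ∣ ordCompl[p] b := Nat.not_dvd_ordCompl hp hb
  have h3 : ordProj[p] b * ordCompl[p] b = b := Nat.ordProj_mul_ordCompl_eq_self b p
  have hpp : ((p ^ b.factorization p : ℕ) : ℂ) ≠ 0 := by
    have : p ^ b.factorization p ≠ 0 := pow_ne_zero _ hp.ne_zero
    exact_mod_cast this
  have hb' : ((ordCompl[p] b : ℕ) : ℂ) ≠ 0 := by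
    have : ordCompl[p] b ≠ 0 := fun h0 => h2 (h0 ▸ dvd_zero p)
    exact_mod_cast this
  refine ⟨(a' : AlgInt), ((ordCompl[p] b : ℕ) : AlgInt), ?_, ?_⟩
  · rw [natCast_mem_iff hM]
    exact h2
  · have e1 : (a : ℂ) = ((p ^ b.factorization p : ℕ) : ℂ) * (a' : ℂ) := by
      rw [ha']
      push_cast
      ring
    have e2 : (b : ℂ) = ((p ^ b.factorization p : ℕ) : ℂ) * ((ordCompl[p] b : ℕ) : ℂ) := by
      conv_lhs => rw [← h3]
      push_cast
      ring
    rw [e1, e2]
    push_cast
    field_simp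

variable {G : Type*} [Group G] [Fintype G]

/-- For a height zero character `χ` of `B` and a defect class representative `g₀`, the value
`χ g₀` is not in the local ideal. -/
theorem not_memLocalIdeal_apply_of_height_zero {p : ℕ} [hpf : Fact p.Prime] (hM : IsPModular p M)
    (B : Set (IrrCharacter G)) (hB : IsPBlock M B) (χ : IrrCharacter G) (hχ : χ ∈ B)
    (h0 : blockHeight p B (χ : G → ℂ) = 0) (g₀ : G) (hg₀ : IsDefectClass M B g₀) :
    ¬ MemLocalIdeal M ((χ : G → ℂ) g₀) := by
  haveI hMp := isPrime_of_isPModular hM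
  intro hmem
  apply hg₀.2.2 χ hχ
  have hdeg : (charDegree (χ : G → ℂ)).factorization p = minExp p B := by
    rw [blockHeight_eq] at h0
    exact le_antisymm (Nat.sub_eq_zero_iff_le.mp h0) (minExp_le hχ)
  have hd := factorization_centralizer_of_isDefectClass hM B hB g₀ hg₀
  rw [blockDefect_eq] at hd
  have hle := minExp_le_factorization_card (p := p) hχ
  have hidx : (Subgroup.centralizer ({g₀} : Set G)).index
      * Nat.card (Subgroup.centralizer ({g₀} : Set G)) = Nat.card G :=
    Subgroup.index_mul_card _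
  have hidx0 : (Subgroup.centralizer ({g₀} : Set G)).index ≠ 0 := by
    intro h
    rw [h, zero_mul] at hidx
    exact Nat.card_pos.ne' hidx.symm
  have hc0 : Nat.card (Subgroup.centralizer ({g₀} : Set G)) ≠ 0 := Nat.card_pos.ne'
  have hfac : ((Subgroup.centralizer ({g₀} : Set G)).index).factorization p
      + (Nat.card (Subgroup.centralizer ({g₀} : Set G))).factorization p
      = (Nat.card G).factorization p := by
    rw [← hidx, Nat.factorization_mul hidx0 hc0]
    rfl
  have hfidx : (charDegree (χ : G → ℂ)).factorization p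
      ≤ ((Subgroup.centralizer ({g₀} : Set G)).index).factorization p := by
    rw [hdeg]
    omega
  have hloc := memLocalRing_natCast_div hM _ _ hidx0 (charDegree_ne_zero χ) hfidx
  unfold centralChar
  rw [apply_one_eq_charDegree χ]
  have : ((Subgroup.centralizer ({g₀} : Set G)).index : ℂ) * (χ : G → ℂ) g₀
      / ((charDegree (χ : G → ℂ) : ℕ) : ℂ)
      = (((Subgroup.centralizer ({g₀} : Set G)).index : ℂ)
        / ((charDegree (χ : G → ℂ) : ℕ) : ℂ)) * (χ : G → ℂ) g₀ := by
    ring
  rw [this]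
  exact memLocalIdeal_mul_localRing hloc hmem

/-- A height zero character of `B` does not vanish on the `p`-section of an element of a defect
group of `B`. -/
theorem exists_apply_ne_zero_of_height_zero {p : ℕ} [hpf : Fact p.Prime] (hM : IsPModular p M)
    (B : Set (IrrCharacter G)) (hB : IsPBlock M B) (D : Subgroup G)
    (hD : IsDefectGroup p M B D) (χ : IrrCharacter G) (hχ : χ ∈ B)
    (h0 : blockHeight p B (χ : G → ℂ) = 0) (x' : G) (k : ℕ) (hx' : orderOf x' = p ^ k)
    (hx'D : x' ∈ D) :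
    ∃ u : G, IsPPart p u x' ∧ (χ : G → ℂ) u ≠ 0 := by
  haveI hMp := isPrime_of_isPModular hM
  have hMtop : M ≠ ⊤ := hM.2.1.ne_top
  have hχc := isCharacter_of_isIrrCharacter χ.2
  obtain ⟨g₀, hg₀, P, hDP⟩ := hD
  have hg₀reg : ¬ p ∣ orderOf g₀ := by
    intro h
    have := blockCoeff_eq_zero_of_dvd hM B hB g₀ h
    apply hg₀.2.1
    rw [this]
    exact memLocalIdeal_zero hMtop
  have hcomm : x' * g₀ = g₀ * x' := by
    rw [hDP] at hx'D
    obtain ⟨v, -, hv⟩ := hx'D
    rw [← hv]
    exact Subgroup.mem_centralizer_singleton_iff.mp v.2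
  refine ⟨x' * g₀, ⟨g₀, rfl, hcomm, ⟨k, hx'⟩, hg₀reg⟩, ?_⟩
  intro hzero
  have hpow : x' ^ p ^ k = 1 := by rw [← hx', pow_orderOf_eq_one]
  obtain ⟨w, hwM, hw⟩ := exists_mem_sub_eq hχc hM x' g₀ k hpow hcomm
  rw [hzero, zero_sub] at hw
  apply not_memLocalIdeal_apply_of_height_zero hM B hB χ hχ h0 g₀ hg₀
  have h1 : (χ : G → ℂ) g₀ = -(w : ℂ) := by rw [hw, neg_neg]
  rw [h1]
  exact memLocalIdeal_neg (memLocalIdeal_of_mem hwM hMtop)

end Cfsg.Agent.Lib.helper3.Block
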