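import Mathlib
import Cfsg.Prelude.Def_Blocks
import Cfsg.Agent.Lib.helper3.IndBlockLocal
import Cfsg.Agent.Lib.helper3.SecMain13
import Cfsg.Agent.Lib.helper3.HeightZero5
import Cfsg.Agent.Lib.helper3.BlockMinMax3
import Cfsg.Agent.Lib.helper3.RankOne2
import Cfsg.Agent.Lib.helper3.Irr5

/-!
# Degrees of induced characters and induced blocks

If `b` induces `B` and `ζ ∈ b`, then the degree of the `B`-part of `ζ^G` is congruent to the
degree of `ζ^G`, as a quotient.
-/

set_option autoImplicit false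
set_option linter.style.haveILetI false
set_option linter.unusedSectionVars false

namespace Cfsg.Agent.Lib.helper3.Block

open Cfsg Module Cfsg.Agent.Lib.helper3.CharBasic Cfsg.Agent.Lib.helper3.Irr
open Cfsg.Agent.Lib.helper3.Central Cfsg.Agent.Lib.helper3.LocalM Cfsg.Agent.Lib.helper3.IndFun
open Cfsg.Agent.Lib.helper3.Lin
open scoped ComplexConjugate

variable {M : Ideal AlgInt}

theorem memLocalRing_of_memLocalIdeal' {z : ℂ} (h : MemLocalIdeal M z) : MemLocalRing M z := by
  obtain ⟨a, b, -, hb, rfl⟩ := h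
  exact ⟨a, b, hb, rfl⟩

/-- A quotient of natural numbers congruent to one has equal `p`-parts. -/
theorem factorization_eq_of_div_sub_one {p : ℕ} [hp : Fact p.Prime] (hM : IsPModular p M)
    (X Y : ℕ) (hY : Y ≠ 0) (h : MemLocalIdeal M ((X : ℂ) / (Y : ℂ) - 1)) :
    X ≠ 0 ∧ X.factorization p = Y.factorization p := by
  haveI hMp := isPrime_of_isPModular hM
  have hMtop : M ≠ ⊤ := hM.2.1.ne_top
  have hpM : MemLocalIdeal M (p : ℂ) := by
    have : ((p : ℕ) : AlgInt) ∈ M := by
      rw [natCast_mem_iff hM]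
    have h := memLocalIdeal_of_mem this hMtop
    simpa using h
  have hX : X ≠ 0 := by
    rintro rfl
    apply not_memLocalIdeal_one (M := M)
    have := memLocalIdeal_neg h
    simpa using this
  refine ⟨hX, ?_⟩
  have hXc : (X : ℂ) ≠ 0 := by exact_mod_cast hX
  have hYc : (Y : ℂ) ≠ 0 := by exact_mod_cast hY
  have hpc : (p : ℂ) ≠ 0 := by exact_mod_cast hp.out.ne_zero
  rcases lt_trichotomy (X.factorization p) (Y.factorization p) with hlt | heq | hgt
  · exfalso
    -- `Y / X` lies in the local ideal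
    have h1 : MemLocalRing M ((Y : ℂ) / ((p * X : ℕ) : ℂ)) := by
      apply memLocalRing_natCast_div hM Y (p * X) hY (Nat.mul_ne_zero hp.out.ne_zero hX)
      rw [Nat.factorization_mul hp.out.ne_zero hX, Finsupp.add_apply,
        hp.out.factorization_self]
      omega
    have h2 : MemLocalIdeal M ((Y : ℂ) / (X : ℂ)) := by
      have := memLocalIdeal_mul_localRing h1 hpM
      convert this using 1
      push_cast
      field_simp
    have h3 := memLocalIdeal_mul_localRing
      (show MemLocalRing M ((Y : ℂ) / (X : ℂ)) from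
        memLocalRing_of_memLocalIdeal' h2) h
    have h4 : (Y : ℂ) / (X : ℂ) * ((X : ℂ) / (Y : ℂ) - 1) = 1 - (Y : ℂ) / (X : ℂ) := by
      field_simp
    rw [h4] at h3
    have h5 := memLocalIdeal_add h3 h2
    rw [sub_add_cancel] at h5
    exact not_memLocalIdeal_one h5
  · exact heq
  · exfalso
    have h1 : MemLocalRing M ((X : ℂ) / ((p * Y : ℕ) : ℂ)) := by
      apply memLocalRing_natCast_div hM X (p * Y) hX (Nat.mul_ne_zero hp.out.ne_zero hY)
      rw [Nat.factorization_mul hp.out.ne_zero hY, Finsupp.add_apply,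
        hp.out.factorization_self]
      omega
    have h2 : MemLocalIdeal M ((X : ℂ) / (Y : ℂ)) := by
      have := memLocalIdeal_mul_localRing h1 hpM
      convert this using 1
      push_cast
      field_simp
    have h5 := memLocalIdeal_sub h2 h
    rw [sub_sub_cancel] at h5
    exact not_memLocalIdeal_one h5

variable {G : Type*} [Group G] [Fintype G]

open Classical in
/-- The degree of the `B`-part of `ζ^G`, divided by the degree of `ζ^G`, is congruent to one. -/
theorem induced_degree_congr {p : ℕ} (hM : IsPModular p M) (H : Subgroup G) [Fintype H]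
    (b : Set (IrrCharacter H)) (B : Set (IrrCharacter G)) (hind : IsInducedBlock M H b B)
    (ζ : IrrCharacter H) (hζ : ζ ∈ b) :
    MemLocalIdeal M ((∑ χ : IrrCharacter G, (if χ ∈ B then (1 : ℂ) else 0)
        * (classInner (indFun H (ζ : H → ℂ)) (χ : G → ℂ) * (χ : G → ℂ) 1))
      / ((H.index : ℂ) * (ζ : H → ℂ) 1) - 1) := by
  haveI hMp := isPrime_of_isPModular hM
  have hMtop : M ≠ ⊤ := hM.2.1.ne_top
  obtain ⟨χ₀, hχ₀⟩ : ∃ χ₀, χ₀ ∈ B := by
    obtain ⟨χ, hχ⟩ := hind.2.1
    exact ⟨χ, by rw [hχ]; exact sameBlock_refl hMtop _⟩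
  have h1 := memLocalIdeal_sum_sub_of_induced H b B hind ζ hζ χ₀ hχ₀ (blockCoeff B)
    (osima hM B hind.2.1) (fun g x => blockCoeff_conj B g x)
  have hζ1 := apply_one_ne_zero ζ.2
  have hG0 : (Nat.card G : ℂ) ≠ 0 := card_ne_zero_complex G
  have hH0 : (Nat.card H : ℂ) ≠ 0 := card_ne_zero_complex H
  have hidx : (Nat.card G : ℂ) = (Nat.card H : ℂ) * (H.index : ℂ) := by
    rw [← Nat.cast_mul, Subgroup.card_mul_index]
  have hidx0 : (H.index : ℂ) ≠ 0 := by
    intro h0
    rw [h0, mul_zero] at hidx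
    exact hG0 hidx
  have e2 : ∑ g : G, blockCoeff B g * ((χ₀ : G → ℂ) g / (χ₀ : G → ℂ) 1) = 1 := by
    have := sum_coef_mul_div (fun χ : IrrCharacter G => if χ ∈ B then (1 : ℂ) else 0) χ₀
    rw [if_pos hχ₀] at this
    rw [← this]
    apply Finset.sum_congr rfl
    intro g _
    rw [blockCoeff_eq_coef]
  have e1 : ∑ h : H, blockCoeff B (h : G) * ((ζ : H → ℂ) h / (ζ : H → ℂ) 1)
      = (∑ χ : IrrCharacter G, (if χ ∈ B then (1 : ℂ) else 0)
        * (classInner (indFun H (ζ : H → ℂ)) (χ : G → ℂ) * (χ : G → ℂ) 1))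
      / ((H.index : ℂ) * (ζ : H → ℂ) 1) := by
    have e3 : ∀ χ : IrrCharacter G, classInner (indFun H (ζ : H → ℂ)) (χ : G → ℂ)
        = (Nat.card H : ℂ)⁻¹ * ∑ h : H, (ζ : H → ℂ) h * conj ((χ : G → ℂ) h) := by
      intro χ
      rw [frobenius_reciprocity H _ _
        (isClassFunction_of_isCharacter (isCharacter_of_isIrrCharacter χ.2)), classInner_apply]
    simp_rw [e3, blockCoeff_eq_coef]
    unfold coef
    rw [eq_div_iff (mul_ne_zero hidx0 hζ1)]
    simp_rw [Finset.mul_sum, Finset.sum_mul]
    rw [Finset.sum_comm]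
    apply Finset.sum_congr rfl
    intro χ _
    rw [Finset.mul_sum]
    apply Finset.sum_congr rfl
    intro h _
    rw [hidx]
    field_simp
  rw [e1, e2] at h1
  exact h1

open Classical in
/-- If `b` induces `B` with the same defect, every height zero `ζ ∈ b` has a height zero
constituent of `ζ^G` in `B` with multiplicity prime to `p`. -/
theorem exists_height_zero_induced {p : ℕ} [hp : Fact p.Prime] (hM : IsPModular p M)
    (H : Subgroup G) [Fintype H] (b : Set (IrrCharacter H)) (B : Set (IrrCharacter G))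
    (hind : IsInducedBlock M H b B) (hdef : blockDefect p b = blockDefect p B)
    (ζ : IrrCharacter H) (hζ : ζ ∈ b) (hζ0 : blockHeight p b (ζ : H → ℂ) = 0) :
    ∃ χ ∈ B, blockHeight p B (χ : G → ℂ) = 0 ∧ ∃ a : ℕ,
      classInner (indFun H (ζ : H → ℂ)) (χ : G → ℂ) = (a : ℂ) ∧ ¬ p ∣ a := by
  haveI hMp := isPrime_of_isPModular hM
  have hMtop : M ≠ ⊤ := hM.2.1.ne_top
  have hpp := hp.out
  obtain ⟨χ₀, hχ₀⟩ : ∃ χ₀, χ₀ ∈ B := by
    obtain ⟨χ, hχ⟩ := hind.2.1
    exact ⟨χ, by rw [hχ]; exact sameBlock_refl hMtop _⟩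
  choose c hc using fun χ : IrrCharacter G => exists_nat_classInner_of_isCharacter
    (isCharacter_indFun H (ζ : H → ℂ) (isCharacter_of_isIrrCharacter ζ.2)) χ
  obtain ⟨X, hX⟩ : ∃ X : ℕ, X = ∑ χ : IrrCharacter G,
      if χ ∈ B then c χ * charDegree (χ : G → ℂ) else 0 := ⟨_, rfl⟩
  obtain ⟨Y, hY⟩ : ∃ Y : ℕ, Y = H.index * charDegree (ζ : H → ℂ) := ⟨_, rfl⟩
  have hdegζ : charDegree (ζ : H → ℂ) ≠ 0 := by
    intro h0
    have := apply_one_eq_charDegree ζ
    rw [h0, Nat.cast_zero] at this
    exact apply_one_ne_zero ζ.2 this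
  have hidx0 : H.index ≠ 0 := by
    intro h0
    have := Subgroup.card_mul_index H
    rw [h0, mul_zero] at this
    exact (Nat.card_pos (α := G)).ne' this.symm
  have hY0 : Y ≠ 0 := by
    rw [hY]
    exact Nat.mul_ne_zero hidx0 hdegζ
  have hXc : (X : ℂ) = ∑ χ : IrrCharacter G, (if χ ∈ B then (1 : ℂ) else 0)
      * (classInner (indFun H (ζ : H → ℂ)) (χ : G → ℂ) * (χ : G → ℂ) 1) := by
    rw [hX]
    push_cast
    apply Finset.sum_congr rfl
    intro χ _
    rw [hc, apply_one_eq_charDegree χ]
    split_ifs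
    · rw [one_mul]
    · rw [zero_mul]
  have hYc : (Y : ℂ) = (H.index : ℂ) * (ζ : H → ℂ) 1 := by
    rw [hY, apply_one_eq_charDegree ζ]
    push_cast
    rfl
  have hcong := induced_degree_congr hM H b B hind ζ hζ
  rw [← hXc, ← hYc] at hcong
  obtain ⟨hX0, hfac⟩ := factorization_eq_of_div_sub_one hM X Y hY0 hcong
  -- the `p`-part of `Y`
  have h1 : Y.factorization p = H.index.factorization p + (charDegree (ζ : H → ℂ)).factorization p := by
    rw [hY, Nat.factorization_mul hidx0 hdegζ, Finsupp.add_apply]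
  have h2 : (Nat.card G).factorization p
      = (Nat.card H).factorization p + H.index.factorization p := by
    rw [← Subgroup.card_mul_index H, Nat.factorization_mul Nat.card_pos.ne' hidx0,
      Finsupp.add_apply]
  have h3 : (charDegree (ζ : H → ℂ)).factorization p = minExp p b := by
    have := blockHeight_eq p b ζ
    rw [hζ0] at this
    have h4 := minExp_le (p := p) hζ
    omega
  have h5 : minExp p b ≤ (Nat.card H).factorization p := minExp_le_factorization_card hζ
  have h6 : minExp p B ≤ (Nat.card G).factorization p := minExp_le_factorization_card hχ₀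
  rw [blockDefect_eq, blockDefect_eq] at hdef
  have hfacX : X.factorization p = minExp p B := by
    rw [hfac, h1, h3]
    omega
  by_contra hcon
  push Not at hcon
  have hdvd : p ^ (minExp p B + 1) ∣ X := by
    rw [hX]
    apply Finset.dvd_sum
    intro χ _
    split_ifs with hχ
    · have hdeg0 : charDegree (χ : G → ℂ) ≠ 0 := by
        intro h0
        have := apply_one_eq_charDegree χ
        rw [h0, Nat.cast_zero] at this
        exact apply_one_ne_zero χ.2 this
      by_cases hht : (charDegree (χ : G → ℂ)).factorization p = minExp p B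
      · have hh : blockHeight p B (χ : G → ℂ) = 0 := by
          rw [blockHeight_eq, hht, Nat.sub_self]
        have hpc : p ∣ c χ := hcon χ hχ hh (c χ) (hc χ)
        rw [pow_succ, mul_comm]
        exact Nat.mul_dvd_mul hpc (pow_minExp_dvd hχ)
      · have hle := minExp_le (p := p) hχ
        have hlt : minExp p B + 1 ≤ (charDegree (χ : G → ℂ)).factorization p := by omega
        exact dvd_mul_of_dvd_right
          (dvd_trans (pow_dvd_pow p hlt) (Nat.ordProj_dvd _ p)) _
    · exact dvd_zero _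
  have := (Nat.Prime.pow_dvd_iff_le_factorization hpp hX0).1 hdvd
  omega

end Cfsg.Agent.Lib.helper3.Block
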