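import Mathlib
import Cfsg.Prelude.Def_Blocks
import Cfsg.Agent.Lib.helper3.PrincIdem3
import Cfsg.Agent.Lib.helper3.ProdIrr
import Cfsg.Agent.Lib.helper3.CExt5
import Cfsg.Agent.Lib.helper3.SecMain5
import Cfsg.Agent.Lib.helper3.IndHeight1

set_option autoImplicit false
set_option linter.style.haveILetI false
set_option linter.unusedSectionVars false

/-!
# Principal blocks of central products

`regOmega` is multiplicative over direct products and is unchanged under a surjection whose
kernel is a central `p`-subgroup.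
-/

namespace Cfsg.Agent.Lib.helper3.Block

open Cfsg Module Cfsg.Agent.Lib.helper3.CharBasic Cfsg.Agent.Lib.helper3.Irr
open Cfsg.Agent.Lib.helper3.Central Cfsg.Agent.Lib.helper3.LocalM Cfsg.Agent.Lib.helper3.IndFun
open scoped ComplexConjugate

universe u

/-- An element that is both `p`-regular and a `p`-element is trivial. -/
theorem eq_one_of_reg_of_pow {X : Type*} [Group X] {p : ℕ} (hp : p.Prime) {t : X}
    (h1 : ¬ p ∣ orderOf t) (k : ℕ) (h2 : t ^ (p ^ k) = 1) : t = 1 := by
  obtain ⟨j, -, hj⟩ := (Nat.dvd_prime_pow hp).mp (orderOf_dvd_of_pow_eq_one h2)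
  have hj0 : j = 0 := by
    by_contra hne
    apply h1
    rw [hj]
    exact dvd_pow_self p hne
  rw [hj0, pow_zero, orderOf_eq_one_iff] at hj
  exact hj

/-- The product of two commuting `p`-regular elements is `p`-regular. -/
theorem not_dvd_orderOf_mul {X : Type*} [Group X] {p : ℕ} (hp : p.Prime) {a b : X}
    (hab : Commute a b) (ha : ¬ p ∣ orderOf a) (hb : ¬ p ∣ orderOf b) :
    ¬ p ∣ orderOf (a * b) := by
  intro h
  have h1 : orderOf (a * b) ∣ orderOf a * orderOf b :=
    hab.orderOf_mul_dvd_lcm.trans (Nat.lcm_dvd_mul _ _)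
  rcases (Nat.Prime.dvd_mul hp).mp (h.trans h1) with h2 | h2
  · exact ha h2
  · exact hb h2

open Classical in
theorem sum_reg_eq_filter {X : Type*} [Group X] [Fintype X] (p : ℕ) (F : X → ℂ) :
    ∑ g : X, (if p ∣ orderOf g then (0 : ℂ) else 1) * F g
      = ∑ g ∈ Finset.univ.filter (fun g : X => ¬ p ∣ orderOf g), F g := by
  rw [Finset.sum_filter]
  apply Finset.sum_congr rfl
  intro g _
  by_cases h : p ∣ orderOf g
  · rw [if_pos h, zero_mul, if_neg (not_not.mpr h)]
  · rw [if_neg h, one_mul, if_pos h]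

open Classical in
/-- `regOmega` is unchanged under a surjection with central `p`-kernel. -/
theorem regOmega_comp_of_central {E G : Type u} [Group E] [Fintype E] [Group G] [Fintype G]
    {p : ℕ} [hp : Fact p.Prime] (f : E →* G) (hf : Function.Surjective f)
    (hker : ∀ z ∈ f.ker, ∃ k : ℕ, z ^ (p ^ k) = 1) (hcent : f.ker ≤ Subgroup.center E)
    (χ : G → ℂ) : regOmega p (fun x => χ (f x)) = regOmega p χ := by
  unfold regOmega
  rw [sum_reg_eq_filter, sum_reg_eq_filter]
  apply Finset.sum_bij (fun x _ => f x)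
  · intro x hx
    rw [Finset.mem_filter] at hx ⊢
    refine ⟨Finset.mem_univ _, fun h => hx.2 (h.trans (orderOf_map_dvd f x))⟩
  · intro x hx y hy hxy
    rw [Finset.mem_filter] at hx hy
    have hz : x⁻¹ * y ∈ f.ker := by
      rw [MonoidHom.mem_ker, map_mul, map_inv, hxy, inv_mul_cancel]
    have hzc : x⁻¹ * y ∈ Subgroup.center E := hcent hz
    have hcomm : Commute x⁻¹ y := by
      have h1 : Commute (x⁻¹ * y) x := (Subgroup.mem_center_iff.mp hzc x).symm
      have h2 : Commute y x := by
        have : y = x * (x⁻¹ * y) := by group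
        rw [this]
        exact (Commute.refl x).mul_left h1
      exact h2.symm.inv_left
    have hreg : ¬ p ∣ orderOf (x⁻¹ * y) :=
      not_dvd_orderOf_mul hp.out hcomm (by rw [orderOf_inv]; exact hx.2) hy.2
    obtain ⟨k, hk⟩ := hker _ hz
    have := eq_one_of_reg_of_pow hp.out hreg k hk
    exact (inv_mul_eq_one.mp this)
  · intro g hg
    rw [Finset.mem_filter] at hg
    obtain ⟨x, rfl⟩ := hf g
    obtain ⟨s, y, hsy, hcomm, ⟨k, hk⟩, hy⟩ := Cfsg.Agent.Lib.helper3.Block.exists_isPPart p hp.out x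
    refine ⟨y, ?_, ?_⟩
    · rw [Finset.mem_filter]
      exact ⟨Finset.mem_univ _, hy⟩
    · have hfy : ¬ p ∣ orderOf (f y) := fun h => hy (h.trans (orderOf_map_dvd f y))
      have hfs : f s = f x * (f y)⁻¹ := by
        rw [← hsy, map_mul, mul_inv_cancel_right]
      have hc2 : Commute (f x) (f y)⁻¹ := by
        rw [← hsy, map_mul]
        have : Commute (f s) (f y) := hcomm.map f
        exact ((this.mul_left (Commute.refl (f y)))).inv_right
      have hreg : ¬ p ∣ orderOf (f s) := by
        rw [hfs]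
        exact not_dvd_orderOf_mul hp.out hc2 hg.2 (by rw [orderOf_inv]; exact hfy)
      have hpow : (f s) ^ (p ^ k) = 1 := by
        rw [← map_pow, ← hk, pow_orderOf_eq_one, map_one]
      have h1 := eq_one_of_reg_of_pow hp.out hreg k hpow
      rw [← hsy, map_mul, h1, one_mul]
  · intro x _
    show χ (f x) / χ (f 1) = χ (f x) / χ 1
    rw [map_one]

open Classical in
/-- `regOmega` of a product character on a direct product. -/
theorem regOmega_prod {U V : Type u} [Group U] [Fintype U] [Group V] [Fintype V]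
    {p : ℕ} [hp : Fact p.Prime] (φ₁ : U → ℂ) (φ₂ : V → ℂ) :
    regOmega p (fun x : U × V => φ₁ x.1 * φ₂ x.2) = regOmega p φ₁ * regOmega p φ₂ := by
  unfold regOmega
  rw [Fintype.sum_prod_type, Finset.sum_mul_sum]
  apply Finset.sum_congr rfl
  intro u _
  apply Finset.sum_congr rfl
  intro v _
  have hdvd : p ∣ orderOf ((u, v) : U × V) ↔ p ∣ orderOf u ∨ p ∣ orderOf v := by
    rw [Prod.orderOf]
    constructor
    · intro h
      exact (Nat.Prime.dvd_mul hp.out).mp (h.trans (Nat.lcm_dvd_mul _ _))
    · rintro (h | h)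
      · exact h.trans (Nat.dvd_lcm_left _ _)
      · exact h.trans (Nat.dvd_lcm_right _ _)
  by_cases h1 : p ∣ orderOf u
  · rw [if_pos (hdvd.mpr (Or.inl h1)), if_pos h1]
    ring
  · by_cases h2 : p ∣ orderOf v
    · rw [if_pos (hdvd.mpr (Or.inr h2)), if_pos h2]
      ring
    · rw [if_neg (fun h => (hdvd.mp h).elim h1 h2), if_neg h1, if_neg h2]
      show (1 : ℂ) * (φ₁ u * φ₂ v / (φ₁ 1 * φ₂ 1)) = 1 * (φ₁ u / φ₁ 1) * (1 * (φ₂ v / φ₂ 1))
      rw [one_mul, one_mul, one_mul, div_mul_div_comm]

/-- `regOmega` of a principal-block character lies in the local ring. -/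
theorem memLocalRing_regOmega {G : Type u} [Group G] [Fintype G] {M : Ideal AlgInt} {p : ℕ}
    [hp : Fact p.Prime] (hM : IsPModular p M) (χ : IrrCharacter G)
    (hχ : χ ∈ principalBlock M G) : MemLocalRing M (regOmega p (χ : G → ℂ)) := by
  haveI hMp := isPrime_of_isPModular hM
  have h1 := memLocalRing_of_memLocalIdeal' (memLocalIdeal_regOmega_sub hM χ hχ)
  obtain ⟨n, hn, -⟩ := exists_regCount_eq (G := G) hM
  have h2 : MemLocalRing M (regCount p G) := by
    rw [hn]
    exact memLocalRing_of_integral (isIntegral_natCast n)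
  have h3 := memLocalRing_add h1 h2
  rwa [sub_add_cancel] at h3

end Cfsg.Agent.Lib.helper3.Block
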