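import Mathlib
import Cfsg.Prelude.Def_Blocks
import Cfsg.Agent.Lib.helper3.PrincIdem3
import Cfsg.Agent.Lib.helper3.HeightZero5
import Cfsg.Agent.Lib.helper3.CentralDefect4
import Cfsg.Agent.Lib.helper3.NilCentral

/-!
# The `p`-regular pairing and induced blocks

For a character `φ` of `G` the class function `g ↦ [g p-regular] · conj (φ g)` has local values,
so an induced block `b^G = B` forces the congruence
`regPair_H(ζ, φ_H)/ζ(1) ≡ regPair_G(χ', φ)/χ'(1)` modulo `M` for `ζ ∈ b`, `χ' ∈ B`.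
-/

set_option autoImplicit false
set_option linter.style.haveILetI false
set_option linter.unusedSectionVars false

namespace Cfsg.Agent.Lib.helper3.Block

open Cfsg Module Cfsg.Agent.Lib.helper3.CharBasic Cfsg.Agent.Lib.helper3.Irr
open Cfsg.Agent.Lib.helper3.Central Cfsg.Agent.Lib.helper3.LocalM Cfsg.Agent.Lib.helper3.IndFun
open Cfsg.Agent.Lib.helper3.Lin Cfsg.Agent.Lib.helper3.HallNilp
open scoped ComplexConjugate

universe u

variable {G : Type u} [Group G] [Fintype G] {M : Ideal AlgInt}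

open Classical in
/-- The congruence of the `p`-regular pairings along an induced block. -/
theorem memLocalIdeal_regPair_sub_of_induced {p : ℕ} (hM : IsPModular p M) (H : Subgroup G)
    [Fintype H] (b : Set (IrrCharacter H)) (B : Set (IrrCharacter G))
    (hind : IsInducedBlock M H b B) (ζ : IrrCharacter H) (hζ : ζ ∈ b) (χ' : IrrCharacter G)
    (hχ' : χ' ∈ B) {φ : G → ℂ} (hφ : IsCharacter G φ) :
    MemLocalIdeal M (regPair p (ζ : H → ℂ) (fun h : H => φ h) / (ζ : H → ℂ) 1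
      - regPair p (χ' : G → ℂ) φ / (χ' : G → ℂ) 1) := by
  haveI hMp := isPrime_of_isPModular hM
  have h := memLocalIdeal_sum_sub_of_induced H b B hind ζ hζ χ' hχ'
    (fun g : G => if p ∣ orderOf g then (0 : ℂ) else conj (φ g))
    (fun g => by
      split_ifs
      · exact memLocalRing_of_integral isIntegral_zero
      · rw [← isCharacter_apply_inv hφ]
        exact memLocalRing_of_integral (isIntegral_of_isCharacter hφ g⁻¹))
    (fun g x => by simp only [orderOf_conj', isClassFunction_of_isCharacter hφ g x])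
  convert h using 2
  · unfold regPair
    rw [Finset.sum_div]
    apply Finset.sum_congr rfl
    intro x _
    rw [Subgroup.orderOf_coe]
    split_ifs <;> ring
  · unfold regPair
    rw [Finset.sum_div]
    apply Finset.sum_congr rfl
    intro x _
    split_ifs <;> ring

/-- An integer prime to `p` is not in the local ideal. -/
theorem not_memLocalIdeal_intCast {p : ℕ} (hM : IsPModular p M) (w : ℤ) (hw : ¬ (p : ℤ) ∣ w) :
    ¬ MemLocalIdeal M (w : ℂ) := by
  haveI hMp := isPrime_of_isPModular hM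
  intro h
  apply hw
  have h1 : MemLocalIdeal M (((w : ℤ) : AlgInt) : ℂ) := by
    convert h using 1
    simp
  exact (intCast_mem_iff hM w).1 (mem_of_memLocalIdeal h1)

/-- Characters with a nonzero `p`-regular pairing are in the same block. -/
theorem sameBlock_of_regPair_ne_zero {p : ℕ} (hM : IsPModular p M) (χ ξ : IrrCharacter G)
    (h : regPair p (χ : G → ℂ) (ξ : G → ℂ) ≠ 0) : SameBlock M (χ : G → ℂ) (ξ : G → ℂ) := by
  classical
  by_contra hs
  apply h
  have h1 := regular_orthogonality hM χ ξ hs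
  rw [← h1]
  unfold regPair
  apply Finset.sum_congr rfl
  intro g _
  by_cases hg : p ∣ orderOf g
  · rw [if_pos hg, if_pos hg, zero_mul]
  · rw [if_neg hg, if_neg hg, one_mul]

/-- The self-pairing of a height zero character divided by its degree is an integer prime to
`p`. -/
theorem exists_unit_regPair_self {p : ℕ} [hp : Fact p.Prime] (hM : IsPModular p M)
    (B : Set (IrrCharacter G)) (hB : IsPBlock M B) (χ : IrrCharacter G) (hχ : χ ∈ B)
    (hht : (charDegree (χ : G → ℂ)).factorization p = minExp p B) :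
    ∃ w : ℤ, regPair p (χ : G → ℂ) (χ : G → ℂ) / (χ : G → ℂ) 1 = (w : ℂ) ∧ ¬ (p : ℤ) ∣ w := by
  obtain ⟨z, hz1, hz2, hz3⟩ := exists_regZ p χ
  obtain ⟨n', hn'⟩ : ∃ n' : ℕ, n' = ordCompl[p] (Nat.card G) := ⟨_, rfl⟩
  rw [← hn'] at hz2
  obtain ⟨w, hw, hpw⟩ := exists_unit_quot_of_height_zero hM B hB χ hχ hht n' hn' z hz2 hz3 χ hχ
  refine ⟨w, ?_, hpw⟩
  rw [hz2 χ, apply_one_eq_charDegree]
  have h0 : ((charDegree (χ : G → ℂ) : ℕ) : ℂ) ≠ 0 := by
    exact_mod_cast charDegree_ne_zero χ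
  have : (n' : ℂ) * (z χ : ℂ) = ((charDegree (χ : G → ℂ) : ℕ) : ℂ) * (w : ℂ) := by
    exact_mod_cast hw
  rw [this]
  field_simp

/-- The pairing of two irreducible characters divided by the degree of the first one is an
integer. -/
theorem exists_int_regPair_div (p : ℕ) [hp : Fact p.Prime] (ζ ξ : IrrCharacter G) :
    ∃ w : ℤ, regPair p (ζ : G → ℂ) (ξ : G → ℂ) / (ζ : G → ℂ) 1 = (w : ℂ) := by
  obtain ⟨z, hz1, hz2, hz3⟩ := exists_regZ p ζ
  obtain ⟨n', hn'⟩ : ∃ n' : ℕ, n' = ordCompl[p] (Nat.card G) := ⟨_, rfl⟩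
  rw [← hn'] at hz2
  obtain ⟨w, hw⟩ := (degree_dvd_regZ p ζ ξ n' (z ξ) (hz2 ξ)).1
  refine ⟨w, ?_⟩
  rw [hz2 ξ, apply_one_eq_charDegree]
  have h0 : ((charDegree (ζ : G → ℂ) : ℕ) : ℂ) ≠ 0 := by
    exact_mod_cast charDegree_ne_zero ζ
  have : (n' : ℂ) * (z ξ : ℂ)
      = ((charDegree (ζ : G → ℂ) : ℕ) : ℂ) * (w : ℂ) := by
    exact_mod_cast hw
  rw [this]
  field_simp

/-- If the pairing of `ζ` with `ξ` divided by `ζ(1)` is an integer prime to `p`, then `ξ` has
height zero in the block containing both. -/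
theorem factorization_eq_minExp_of_regPair {p : ℕ} [hp : Fact p.Prime] (hM : IsPModular p M)
    (B : Set (IrrCharacter G)) (hB : IsPBlock M B) (ξ ζ : IrrCharacter G) (hξ : ξ ∈ B)
    (hζ : ζ ∈ B) (w : ℤ)
    (hw : regPair p (ζ : G → ℂ) (ξ : G → ℂ) / (ζ : G → ℂ) 1 = (w : ℂ)) (hpw : ¬ (p : ℤ) ∣ w) :
    (charDegree (ξ : G → ℂ)).factorization p = minExp p B := by
  obtain ⟨z, hz1, hz2, hz3⟩ := exists_regZ p ξ
  obtain ⟨n', hn'⟩ : ∃ n' : ℕ, n' = ordCompl[p] (Nat.card G) := ⟨_, rfl⟩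
  rw [← hn'] at hz2
  apply height_zero_of_unit_quot hM B hB ξ hξ n' z hz2 ζ hζ w _ hpw
  have h0 : ((charDegree (ζ : G → ℂ) : ℕ) : ℂ) ≠ 0 := by
    exact_mod_cast charDegree_ne_zero ζ
  have h1 : regPair p (ζ : G → ℂ) (ξ : G → ℂ) = ((charDegree (ζ : G → ℂ) : ℕ) : ℂ) * (w : ℂ) := by
    rw [← hw, apply_one_eq_charDegree]
    field_simp
  have h2 := hz2 ζ
  rw [← regPair_conj, h1, map_mul, map_natCast, map_intCast] at h2
  exact_mod_cast h2.symm

end Cfsg.Agent.Lib.helper3.Block
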