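import Mathlib
import Cfsg.Prelude.Def_Blocks
import Cfsg.Agent.Lib.helper3.PrincNormal
import Cfsg.Agent.Lib.helper3.CentralProd
import Cfsg.Agent.Lib.helper3.RegPairInd

set_option autoImplicit false
set_option linter.style.haveILetI false
set_option linter.unusedSectionVars false

/-!
# The principal block and induction from a subgroup
-/

namespace Cfsg.Agent.Lib.helper3.Block

open Cfsg Module Cfsg.Agent.Lib.helper3.CharBasic Cfsg.Agent.Lib.helper3.Irr
open Cfsg.Agent.Lib.helper3.Central Cfsg.Agent.Lib.helper3.LocalM Cfsg.Agent.Lib.helper3.IndFun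
open Cfsg.Agent.Lib.helper3.GalPow Cfsg.Agent.Lib.helper3.HallNilp
open scoped ComplexConjugate

universe u

variable {G : Type u} [Group G] [Fintype G] {M : Ideal AlgInt}

open Classical in
/-- The values of `regOmega` on the constituents of an induced class function. -/
theorem sum_classInner_indFun_mul_regOmega (p : ℕ) (H : Subgroup G) [Fintype H] (η : H → ℂ)
    (hη1 : η 1 ≠ 0) :
    ∑ χ : IrrCharacter G, classInner (indFun H η) (χ : G → ℂ)
        * ((χ : G → ℂ) 1 * regOmega p (χ : G → ℂ))
      = (H.index : ℂ) * (η 1 * regOmega p η) := by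
  obtain ⟨a, ha⟩ : ∃ a : G → ℂ, a = fun g : G => if p ∣ orderOf g then (0 : ℂ) else 1 := ⟨_, rfl⟩
  have hacf : IsClassFunction G a := by
    intro g h
    rw [ha]
    simp only [orderOf_conj']
  have hfrob := frobenius_reciprocity H η a hacf
  have hres : (fun h : H => a h) = fun h : H => if p ∣ orderOf h then (0 : ℂ) else 1 := by
    funext h
    rw [ha]
    simp only [Subgroup.orderOf_coe]
  rw [hres, classInner_regInd p _ hη1] at hfrob
  have hL : classInner (indFun H η) a = (Nat.card G : ℂ)⁻¹ *
      ∑ χ : IrrCharacter G, classInner (indFun H η) (χ : G → ℂ)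
        * ((χ : G → ℂ) 1 * regOmega p (χ : G → ℂ)) := by
    conv_lhs => rw [classFunction_eq_sum (indFun H η) (indFun_isClassFunction H _)]
    rw [classInner_sum_left, Finset.mul_sum]
    apply Finset.sum_congr rfl
    intro χ _
    rw [classInner_smul_left, ha, classInner_regInd p _ (apply_one_ne_zero χ.2)]
    ring
  rw [hL] at hfrob
  have hG : (Nat.card G : ℂ) ≠ 0 := card_ne_zero_complex G
  have hH : (Nat.card H : ℂ) ≠ 0 := card_ne_zero_complex H
  have hidx : (Nat.card G : ℂ) = (Nat.card H : ℂ) * (H.index : ℂ) := by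
    rw [← H.card_mul_index]
    push_cast
    ring
  have h1 : ∑ χ : IrrCharacter G, classInner (indFun H η) (χ : G → ℂ)
        * ((χ : G → ℂ) 1 * regOmega p (χ : G → ℂ))
      = (Nat.card G : ℂ) * ((Nat.card H : ℂ)⁻¹ * (η 1 * regOmega p η)) := by
    rw [← hfrob]
    field_simp
  rw [h1, hidx]
  field_simp

/-- A natural number prime to `p` is not in the local ideal. -/
theorem not_memLocalIdeal_natCast {p : ℕ} (hM : IsPModular p M) (n : ℕ) (hn : ¬ p ∣ n) :
    ¬ MemLocalIdeal M (n : ℂ) := by
  have h := not_memLocalIdeal_intCast hM (n : ℤ) (by exact_mod_cast hn)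
  simpa using h

end Cfsg.Agent.Lib.helper3.Block
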