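import Mathlib
import Cfsg.Prelude.Def_Blocks
import Cfsg.Agent.Lib.helper3.Fong2
import Cfsg.Agent.Lib.helper3.BlockCover
import Cfsg.Agent.Lib.helper3.PrincNormal2

/-!
# Blocks covering a stable block: the detecting class is a defect class
-/

set_option autoImplicit false
set_option linter.style.haveILetI false
set_option linter.unusedSectionVars false

namespace Cfsg.Agent.Lib.helper3.Block

open Cfsg Cfsg.Agent.Lib.helper3.LocalM Cfsg.Agent.Lib.helper3.CharBasic
open Cfsg.Agent.Lib.helper3.Irr Cfsg.Agent.Lib.helper3.Central Cfsg.Agent.Lib.helper3.Lin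
open Cfsg.Agent.Lib.helper3.IndFun
open scoped ComplexConjugate

variable {G : Type*} [Group G] [Fintype G] {M : Ideal AlgInt}

/-- The central character of a character over a stable block, on the normal subgroup. -/
theorem memLocalIdeal_centralChar_sub_numClasses {p : ℕ} (hM : IsPModular p M) (N : Subgroup G)
    [hN : N.Normal] [Fintype N] (b : Set (IrrCharacter N)) (hb : IsPBlock M b)
    (hS : ConjStable N b) (χ : IrrCharacter G) (θ : IrrCharacter N) (hθ : θ ∈ b)
    (hover : classInner (fun n : N => (χ : G → ℂ) n) (θ : N → ℂ) ≠ 0) (n : N) :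
    MemLocalIdeal M (centralChar (χ : G → ℂ) (n : G)
      - (numClasses N n : ℂ) * centralChar (θ : N → ℂ) n) := by
  haveI hMp := isPrime_of_isPModular hM
  rw [centralChar_eq_of_over N χ θ hover n]
  exact memLocalIdeal_inducedCentralChar_sub_numClasses N b hb hS θ hθ n

/-- The detecting class is a defect class of `b` lying in a `G`-class that is a union of a number
of `N`-classes prime to `p`. -/
theorem isDefectClass_of_notMem {p : ℕ} (hM : IsPModular p M) (N : Subgroup G)
    [hN : N.Normal] [Fintype N] (b : Set (IrrCharacter N)) (hb : IsPBlock M b)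
    (hS : ConjStable N b) (χ : IrrCharacter G)
    (hχ : ∃ θ ∈ b, classInner (fun n : N => (χ : G → ℂ) n) (θ : N → ℂ) ≠ 0) (n : N)
    (h1 : ¬ MemLocalIdeal M (blockCoeff b n))
    (h2 : ¬ MemLocalIdeal M (centralChar (χ : G → ℂ) (n : G))) :
    ¬ p ∣ numClasses N n ∧ IsDefectClass M b n := by
  haveI hMp := isPrime_of_isPModular hM
  have hMtop : M ≠ ⊤ := hM.2.1.ne_top
  obtain ⟨θ, hθ, hover⟩ := hχ
  have hcong := memLocalIdeal_centralChar_sub_numClasses hM N b hb hS χ θ hθ hover n
  have hprod : ¬ MemLocalIdeal M ((numClasses N n : ℂ) * centralChar (θ : N → ℂ) n) := by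
    intro h
    apply h2
    have := memLocalIdeal_add hcong h
    rwa [sub_add_cancel] at this
  have hθint : IsIntegral ℤ (centralChar (θ : N → ℂ) n) := isIntegral_centralChar θ.2 n
  have hnint : IsIntegral ℤ ((numClasses N n : ℕ) : ℂ) := by
    exact_mod_cast (isIntegral_algebraMap (R := ℤ) (A := ℂ) (x := ((numClasses N n : ℕ) : ℤ)))
  refine ⟨?_, osima hM b hb n, h1, ?_⟩
  · intro hdvd
    apply hprod
    rw [mul_comm]
    exact memLocalIdeal_mul_integral (memLocalIdeal_natCast_of_dvd hM _ hdvd) hθint
  · intro θ' hθ' hmem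
    apply hprod
    obtain ⟨ξ, hξ⟩ := hb
    rw [hξ] at hθ hθ'
    have hsame : SameBlock M (θ' : N → ℂ) (θ : N → ℂ) :=
      sameBlock_trans (sameBlock_symm hθ') hθ
    have h3 : MemLocalIdeal M (centralChar (θ : N → ℂ) n) := by
      have h4 := memLocalIdeal_sub hmem (hsame n)
      rwa [sub_sub_cancel] at h4
    exact memLocalIdeal_mul_integral h3 hnint

end Cfsg.Agent.Lib.helper3.Block
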