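import Mathlib
import Cfsg.Prelude.Def_Blocks
import Cfsg.Agent.Lib.helper3.Fong3
import Cfsg.Agent.Lib.helper3.StableBlock

/-!
# Blocks covering a stable block: counting
-/

set_option autoImplicit false
set_option linter.style.haveILetI false
set_option linter.unusedSectionVars false

namespace Cfsg.Agent.Lib.helper3.Block

open Cfsg Cfsg.Agent.Lib.helper3.LocalM Cfsg.Agent.Lib.helper3.CharBasic
open Cfsg.Agent.Lib.helper3.Irr Cfsg.Agent.Lib.helper3.Central Cfsg.Agent.Lib.helper3.Lin
open Cfsg.Agent.Lib.helper3.IndFun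
open scoped ComplexConjugate

section GroupCount2

variable {G : Type*} [Group G]

/-- A subgroup `P` of `C` of order the full `p`-part of `C`, where the normal subgroup `N` has
the same `p`-part of index in `G` as `C ⊓ N` in `C`. -/
theorem sylow_count' [Finite G] {p : ℕ} [hp : Fact p.Prime] (N C P : Subgroup G) [hN : N.Normal]
    (hrel : (N.relIndex C).factorization p = N.index.factorization p) (hPC : P ≤ C)
    (hcard : Nat.card P = p ^ (Nat.card C).factorization p) :
    ¬ p ∣ (P ⊔ N).index ∧ Nat.card (P ⊓ N : Subgroup G)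
      = p ^ (Nat.card (C ⊓ N : Subgroup G)).factorization p := by
  have hp1 := hp.out
  obtain ⟨r, hr⟩ : ∃ r, r = N.index.factorization p := ⟨_, rfl⟩
  rw [← hr] at hrel
  have hC := card_eq_card_inf_mul_relIndex C N
  have hP := card_eq_card_inf_mul_relIndex P N
  have hm0 : Nat.card (C ⊓ N : Subgroup G) ≠ 0 := Nat.card_pos.ne'
  have hrelC0 : N.relIndex C ≠ 0 := by
    intro h0
    rw [h0, mul_zero] at hC
    exact Nat.card_pos.ne' hC
  have hfac : (Nat.card C).factorization p
      = (Nat.card (C ⊓ N : Subgroup G)).factorization p + r := by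
    rw [hC, Nat.factorization_mul hm0 hrelC0, Finsupp.add_apply, hrel]
  have hI0 : N.index ≠ 0 := Subgroup.index_ne_zero_of_finite
  have hdvd1 : N.relIndex P ∣ N.index := Subgroup.relIndex_dvd_index_of_normal N P
  have hdvd1' : N.relIndex P ∣ p ^ (Nat.card C).factorization p := by
    rw [← hcard]
    exact Subgroup.relIndex_dvd_card N P
  obtain ⟨j, -, hj⟩ := (Nat.dvd_prime_pow hp1).mp hdvd1'
  have hjr : j ≤ r := by
    rw [hj] at hdvd1
    rw [hr]
    exact (hp1.pow_dvd_iff_le_factorization hI0).mp hdvd1
  have hdvd2 : Nat.card (P ⊓ N : Subgroup G) ∣ p ^ (Nat.card C).factorization p := by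
    rw [← hcard]
    exact Subgroup.card_dvd_of_le inf_le_left
  obtain ⟨i, hia, hi⟩ := (Nat.dvd_prime_pow hp1).mp hdvd2
  have hdvd3 : Nat.card (P ⊓ N : Subgroup G) ∣ Nat.card (C ⊓ N : Subgroup G) :=
    Subgroup.card_dvd_of_le (inf_le_inf_right N hPC)
  rw [hi] at hdvd3
  have hiν : i ≤ (Nat.card (C ⊓ N : Subgroup G)).factorization p :=
    (hp1.pow_dvd_iff_le_factorization hm0).mp hdvd3
  rw [hcard, hi, hj, hfac, ← pow_add] at hP
  have hsum := Nat.pow_right_injective hp1.two_le hP
  have hi' : i = (Nat.card (C ⊓ N : Subgroup G)).factorization p := by omega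
  have hj' : j = r := by omega
  refine ⟨?_, by rw [hi, hi']⟩
  rw [hj'] at hj
  have h1 := Subgroup.relIndex_sup_right (H := P) (K := N)
  have h2 := Subgroup.relIndex_mul_index (H := N) (K := P ⊔ N) le_sup_right
  rw [h1, hj] at h2
  intro hdvd
  obtain ⟨t, ht⟩ := hdvd
  rw [ht] at h2
  have h3 : p ^ (r + 1) ∣ N.index := ⟨t, by rw [← h2, pow_succ]; ring⟩
  rw [hr] at h3
  exact Nat.pow_succ_factorization_not_dvd hI0 hp1 h3

end GroupCount2

variable {G : Type*} [Group G] [Fintype G] {M : Ideal AlgInt}

/-- The `p`-part of the centralizer order of `n ∈ N` when its `G`-class is a union of a number of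
`N`-classes prime to `p`. -/
theorem factorization_centralizer_of_numClasses {p : ℕ} [hp : Fact p.Prime] (N : Subgroup G)
    [hN : N.Normal] [Fintype N] (n : N) (hnum : ¬ p ∣ numClasses N n) :
    (N.relIndex (Subgroup.centralizer ({(n : G)} : Set G))).factorization p
        = N.index.factorization p
      ∧ (Nat.card (Subgroup.centralizer ({(n : G)} : Set G))).factorization p
        = (Nat.card (Subgroup.centralizer ({n} : Set N))).factorization p
          + N.index.factorization p := by
  have hp1 := hp.out
  obtain ⟨C, hC⟩ : ∃ C, C = Subgroup.centralizer ({(n : G)} : Set G) := ⟨_, rfl⟩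
  rw [← hC]
  have h1 := numClasses_mul_relIndex N n
  rw [← hC] at h1
  have hI0 : N.index ≠ 0 := Subgroup.index_ne_zero_of_finite
  have hnum0 : numClasses N n ≠ 0 := by
    intro h0
    rw [h0, zero_mul] at h1
    exact hI0 h1.symm
  have hrel0 : N.relIndex C ≠ 0 := by
    intro h0
    rw [h0, mul_zero] at h1
    exact hI0 h1.symm
  have hrel : (N.relIndex C).factorization p = N.index.factorization p := by
    rw [← h1, Nat.factorization_mul hnum0 hrel0, Finsupp.add_apply,
      Nat.factorization_eq_zero_of_not_dvd hnum, zero_add]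
  refine ⟨hrel, ?_⟩
  have hCc := card_eq_card_inf_mul_relIndex C N
  have hc1 : Nat.card (Subgroup.centralizer ({n} : Set N))
      = Nat.card (C ⊓ N : Subgroup G) := by
    rw [centralizer_subtype_eq, ← hC]
    exact Nat.card_congr (Subgroup.subgroupOfEquivOfLe inf_le_right).toEquiv
  rw [hCc, Nat.factorization_mul Nat.card_pos.ne' hrel0, Finsupp.add_apply, hrel, hc1]

/-- A lower bound for the exponents of `p` in the degrees of the characters over a stable block
forces a bound on the centralizer of an element with idempotent coefficient outside the local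
ideal. -/
theorem le_of_forall_degree {p : ℕ} [hp : Fact p.Prime] (hM : IsPModular p M) (N : Subgroup G)
    [hN : N.Normal] [Fintype N] (b : Set (IrrCharacter N)) (hb : IsPBlock M b)
    (hS : ConjStable N b) (n : N) (h1 : ¬ MemLocalIdeal M (blockCoeff b n)) (d : ℕ)
    (hdeg : ∀ χ ∈ overSet N b, (Nat.card G).factorization p - d
      ≤ (charDegree (χ : G → ℂ)).factorization p) :
    (Nat.card (Subgroup.centralizer ({(n : G)} : Set G))).factorization p ≤ d := by
  classical
  by_contra hlt
  push Not at hlt
  apply h1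
  have hcl : ∀ θ ∈ overSet N b, blockOf M (θ : G → ℂ) ⊆ overSet N b := fun θ hθ =>
    union_of_blocks hM _ (memLocalRing_blockCoeff_overSet hM N b hb hS) θ hθ
  have hδa : (Nat.card (Subgroup.centralizer ({(n : G)} : Set G))).factorization p
      ≤ (Nat.card G).factorization p :=
    (Nat.factorization_le_iff_dvd Nat.card_pos.ne' Nat.card_pos.ne').mpr
      (Subgroup.card_subgroup_dvd_card _) p
  have := memLocalIdeal_blockCoeff_of_closed_of_lt hM (overSet N b) hcl _ hdeg (n : G) (by omega)
  rw [blockCoeff_overSet N b hS] at this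
  unfold subgroupBlockCoeff at this
  rw [dif_pos n.2] at this
  exact this

end Cfsg.Agent.Lib.helper3.Block
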