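import Mathlib
import Cfsg.Prelude.Def_Blocks
import Cfsg.Agent.Lib.helper3.FR5
import Cfsg.Agent.Lib.helper3.Clifford2
import Cfsg.Agent.Lib.helper3.BlockIdem2
import Cfsg.Agent.S0970

set_option autoImplicit false
set_option linter.style.haveILetI false
set_option linter.unusedSectionVars false

/-!
# The defect of the unique block covering a block of a normal subgroup
-/

namespace Cfsg.Agent.Lib.helper3.Block

open Cfsg Module Cfsg.Agent.Lib.helper3.CharBasic Cfsg.Agent.Lib.helper3.Irr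
open Cfsg.Agent.Lib.helper3.Central Cfsg.Agent.Lib.helper3.LocalM Cfsg.Agent.Lib.helper3.IndFun
open Cfsg.Agent.Lib.helper3.GalPow
open scoped ComplexConjugate

section transport

variable {H H' : Type*} [Group H] [Group H'] [Fintype H] [Fintype H'] {M : Ideal AlgInt}

theorem charDegree_irrCongr (ι : H' ≃* H) (θ : IrrCharacter H) :
    charDegree (irrCongr ι θ : H' → ℂ) = charDegree (θ : H → ℂ) := by
  unfold charDegree
  rw [irrCongr_apply, map_one]

theorem blockDefect_image_irrCongr {p : ℕ} (ι : H' ≃* H) (S : Set (IrrCharacter H)) :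
    blockDefect p (irrCongr ι '' S) = blockDefect p S := by
  unfold blockDefect
  rw [Set.image_image, Nat.card_congr ι.toEquiv]
  simp only [charDegree_irrCongr]

end transport

variable {G : Type*} [Group G] [Fintype G] {M : Ideal AlgInt}

theorem exists_isDefectGroup {p : ℕ} [hp : Fact p.Prime] (hM : IsPModular p M)
    (B : Set (IrrCharacter G)) (hB : IsPBlock M B) : ∃ D : Subgroup G, IsDefectGroup p M B D := by
  obtain ⟨g₀, hg₀⟩ := exists_defectClass hM B hB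
  obtain ⟨P₀⟩ : Nonempty (Sylow p (Subgroup.centralizer ({g₀} : Set G))) := inferInstance
  exact ⟨_, g₀, hg₀, P₀, rfl⟩

section FR

variable (N : Subgroup G) [hN : N.Normal] [Fintype N] (T : Subgroup G) [Fintype T]

theorem classInner_sub_irrCongr (hNT : N ≤ T) [Fintype (N.subgroupOf T)] (η : T → ℂ)
    (θ : IrrCharacter N) :
    classInner (fun n : N.subgroupOf T => η n)
        (irrCongr (Subgroup.subgroupOfEquivOfLe hNT) θ : N.subgroupOf T → ℂ)
      = classInner (fun n : N => η ⟨(n : G), hNT n.2⟩) (θ : N → ℂ) := by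
  have e1 : (fun n : N.subgroupOf T => η n)
      = subFun N T (fun n : N => η ⟨(n : G), hNT n.2⟩) := rfl
  have e2 : (irrCongr (Subgroup.subgroupOfEquivOfLe hNT) θ : N.subgroupOf T → ℂ)
      = subFun N T (θ : N → ℂ) := rfl
  rw [e1, e2, classInner_subFun hNT]

/-- If a single block of `G` covers the block `c` of the normal subgroup `N`, its defect is the
defect of `c` plus the `p`-part of the index of `N` in the stabilizer of `c`. -/
theorem blockDefect_of_unique_cover {p : ℕ} [hp : Fact p.Prime] (hM : IsPModular p M)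
    {c : Set (IrrCharacter N)} (hc : IsPBlock M c) (hS : IsBlockStab N T c) (hNT : N ≤ T)
    (β : Set (IrrCharacter G))
    (huniq : ∀ β' : Set (IrrCharacter G), IsPBlock M β' →
      (∃ χ ∈ β', ∃ θ ∈ c, classInner (fun n : N => (χ : G → ℂ) n) (θ : N → ℂ) ≠ 0) → β' = β) :
    blockDefect p β = blockDefect p c + (N.relIndex T).factorization p := by
  classical
  haveI := isPrime_of_isPModular hM
  have hMtop : M ≠ ⊤ := hM.2.1.ne_top
  letI : Fintype (N.subgroupOf T) := Fintype.ofFinite _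
  obtain ⟨ι, hι⟩ : ∃ ι : N.subgroupOf T ≃* N, ι = Subgroup.subgroupOfEquivOfLe hNT := ⟨_, rfl⟩
  have hcS : IsPBlock M (irrCongr ι '' c) := isPBlock_image_irrCongr ι c hc
  have key : ∀ (η : IrrCharacter T) (θ : IrrCharacter N),
      classInner (fun n : N.subgroupOf T => (η : T → ℂ) n) (irrCongr ι θ : N.subgroupOf T → ℂ)
        = classInner (fun n : N => (η : T → ℂ) ⟨(n : G), hNT n.2⟩) (θ : N → ℂ) := by
    intro η θ
    rw [hι]
    exact classInner_sub_irrCongr N T hNT _ θ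
  have hcovT : ∀ B'' : Set (IrrCharacter T),
      (∃ χ ∈ B'', ∃ θ' ∈ irrCongr ι '' c,
        classInner (fun n : N.subgroupOf T => (χ : T → ℂ) n) (θ' : N.subgroupOf T → ℂ) ≠ 0)
      ↔ (∃ ψ ∈ B'', ∃ θ ∈ c,
        classInner (fun n : N => (ψ : T → ℂ) ⟨(n : G), hNT n.2⟩) (θ : N → ℂ) ≠ 0) := by
    intro B''
    constructor
    · rintro ⟨χ, hχ, _, ⟨θ, hθ, rfl⟩, hne⟩
      exact ⟨χ, hχ, θ, hθ, by rw [key] at hne; exact hne⟩
    · rintro ⟨χ, hχ, θ, hθ, hne⟩
      exact ⟨χ, hχ, irrCongr ι θ, ⟨θ, hθ, rfl⟩, by rw [key]; exact hne⟩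
  obtain ⟨𝒟, h𝒟⟩ : ∃ 𝒟 : Set ℕ, 𝒟 = {d | ∃ B'' : Set (IrrCharacter T), IsPBlock M B'' ∧
      (∃ ψ ∈ B'', ∃ θ ∈ c,
        classInner (fun n : N => (ψ : T → ℂ) ⟨(n : G), hNT n.2⟩) (θ : N → ℂ) ≠ 0) ∧
      blockDefect p B'' = d} := ⟨_, rfl⟩
  have hne : 𝒟.Nonempty := by
    obtain ⟨θ₀, hθ₀⟩ : ∃ θ₀, θ₀ ∈ c := by
      obtain ⟨χ₀, rfl⟩ := hc
      exact ⟨χ₀, sameBlock_refl hMtop _⟩
    obtain ⟨χ, hχ⟩ := exists_irr_over (N.subgroupOf T) (irrCongr ι θ₀ : N.subgroupOf T → ℂ)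
      (irrCongr ι θ₀).2
    rw [key] at hχ
    rw [h𝒟]
    exact ⟨_, blockOf M (χ : T → ℂ), ⟨χ, rfl⟩, ⟨χ, sameBlock_refl hMtop _, θ₀, hθ₀, hχ⟩, rfl⟩
  have hbdd : BddAbove 𝒟 := by
    refine ⟨(Nat.card T).factorization p, ?_⟩
    rw [h𝒟]
    rintro d ⟨B'', -, -, rfl⟩
    unfold blockDefect
    exact Nat.sub_le _ _
  have hmem := Nat.sSup_mem hne hbdd
  obtain ⟨B'', hB'', hcov'', hd''⟩ : ∃ B'' : Set (IrrCharacter T), IsPBlock M B'' ∧
      (∃ ψ ∈ B'', ∃ θ ∈ c,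
        classInner (fun n : N => (ψ : T → ℂ) ⟨(n : G), hNT n.2⟩) (θ : N → ℂ) ≠ 0) ∧
      blockDefect p B'' = sSup 𝒟 := by
    have := hmem
    rw [h𝒟] at this
    obtain ⟨B'', h1, h2, h3⟩ := this
    exact ⟨B'', h1, h2, by rw [h3, h𝒟]⟩
  have hmax : ∀ B' : Set (IrrCharacter T), IsPBlock M B' →
      (∃ ψ ∈ B', ∃ θ ∈ c,
        classInner (fun n : N => (ψ : T → ℂ) ⟨(n : G), hNT n.2⟩) (θ : N → ℂ) ≠ 0) →
      blockDefect p B' ≤ blockDefect p B'' := by
    intro B' hB' hcov'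
    rw [hd'']
    apply le_csSup hbdd
    rw [h𝒟]
    exact ⟨B', hB', hcov', rfl⟩
  obtain ⟨B₁, hB₁, hcov₁, -, -⟩ := fong_reynolds_i N T hM hc hS hNT B'' hB'' hcov''
  have e := huniq B₁ hB₁.2.1 hcov₁
  have hdef := (fong_reynolds_height N T hM hc hS hNT B'' hB'' hcov'' B₁ hB₁).2
  rw [e] at hdef
  obtain ⟨D, hD⟩ := exists_isDefectGroup hM B'' hB''
  have hinv : ∀ g : T, ∀ θ ∈ irrCongr ι '' c, ∀ θ' : IrrCharacter (N.subgroupOf T),
      (∀ n : N.subgroupOf T, (θ' : N.subgroupOf T → ℂ) n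
        = (θ : N.subgroupOf T → ℂ) ⟨g * n * g⁻¹,
          (inferInstance : (N.subgroupOf T).Normal).conj_mem n n.2 g⟩) →
      θ' ∈ irrCongr ι '' c := by
    rintro g _ ⟨θ₀, hθ₀, rfl⟩ θ' h
    refine ⟨(irrCongr ι).symm θ', ?_, (irrCongr ι).apply_symm_apply θ'⟩
    apply (hS g).mp g.2 θ₀ hθ₀
    intro n
    show (θ' : N.subgroupOf T → ℂ) (ι.symm n) = _
    rw [h (ι.symm n), irrCongr_apply]
    apply congrArg
    apply Subtype.ext
    rw [hι]
    rfl
  have h970 := Cfsg.Agent.S0970.result p M hM (N.subgroupOf T) (irrCongr ι '' c) hcS hinv B'' hB''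
    ((hcovT B'').mpr hcov'')
    (fun B' hB' hcov' => hmax B' hB' ((hcovT B').mp hcov')) D hD
  rw [hdef, h970.2.2, blockDefect_image_irrCongr]
  rfl

end FR

end Cfsg.Agent.Lib.helper3.Block
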