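import Mathlib
import Cfsg.Prelude.Def_Blocks
import Cfsg.Agent.Lib.helper3.ExtFirstMain1
import Cfsg.Agent.S0919
import Cfsg.Agent.S0934
import Cfsg.Agent.S0964
import Cfsg.Agent.S0971

/-!
# The extended first main theorem

For a block `B` with defect group `P` and `L = P C_G(P)`: some block of `L` with defect group `P`
induces `B`, and the blocks of `L` inducing `B` are conjugate under `N_G(P)`.
-/

set_option autoImplicit false
set_option linter.style.haveILetI false
set_option linter.unusedSectionVars false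

namespace Cfsg.Agent.Lib.helper3.Block

open Cfsg Cfsg.Agent.Lib.helper3.CharBasic Cfsg.Agent.Lib.helper3.Irr
open Cfsg.Agent.Lib.helper3.Central Cfsg.Agent.Lib.helper3.LocalM

variable {G : Type*} [Group G] [Fintype G] {M : Ideal AlgInt}

theorem isPGroup_of_isDefectGroup {p : ℕ} [hp : Fact p.Prime] {B : Set (IrrCharacter G)}
    {D : Subgroup G} (hD : IsDefectGroup p M B D) : IsPGroup p D := by
  obtain ⟨g, -, S, rfl⟩ := hD
  exact S.isPGroup'.map _

/-- Part (i) of the extended first main theorem. -/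
theorem exists_block_sup_centralizer {p : ℕ} [hp : Fact p.Prime] (hM : IsPModular p M)
    (B : Set (IrrCharacter G)) (hB : IsPBlock M B) (P : Subgroup G)
    (hP : IsDefectGroup p M B P) :
    ∃ b : Set (IrrCharacter ↥(P ⊔ Subgroup.centralizer (P : Set G))),
      IsDefectGroup p M b (P.subgroupOf (P ⊔ Subgroup.centralizer (P : Set G)))
        ∧ IsInducedBlock M (P ⊔ Subgroup.centralizer (P : Set G)) b B := by
  have hPp := isPGroup_of_isDefectGroup hP
  have hLN : P ⊔ Subgroup.centralizer (P : Set G) ≤ Subgroup.normalizer (P : Set G) :=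
    sup_le Subgroup.le_normalizer (Subgroup.centralizer_le_normalizer _)
  obtain ⟨b, hb⟩ := (Cfsg.Agent.S0958.result p M hM P _ hPp le_rfl hLN B hB).mpr
    ⟨P, hP, 1, by
      intro x hx
      obtain ⟨y, hy, rfl⟩ := hx
      simpa using hy⟩
  exact ⟨b, isDefectGroup_of_induced_le_normalizer hM P _ hPp le_sup_left hLN B hB hP b hb, hb⟩

/-- `P` inside its normalizer. -/
abbrev pInN (P : Subgroup G) : Subgroup ↥(Subgroup.normalizer (P : Set G)) :=
  P.subgroupOf (Subgroup.normalizer (P : Set G))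

instance pInN_normal (P : Subgroup G) : (pInN P).Normal :=
  (Subgroup.normal_subgroupOf_iff_le_normalizer Subgroup.le_normalizer).mpr le_rfl

/-- `P C_G(P)` inside the normalizer of `P`, as `P C(P)` computed there. -/
abbrev lInN (P : Subgroup G) : Subgroup ↥(Subgroup.normalizer (P : Set G)) :=
  pInN P ⊔ Subgroup.centralizer (pInN P : Set ↥(Subgroup.normalizer (P : Set G)))

theorem centralizer_pInN (P : Subgroup G) :
    Subgroup.centralizer (pInN P : Set ↥(Subgroup.normalizer (P : Set G)))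
      = (Subgroup.centralizer (P : Set G)).subgroupOf (Subgroup.normalizer (P : Set G)) := by
  ext x
  rw [Subgroup.mem_subgroupOf, Subgroup.mem_centralizer_iff, Subgroup.mem_centralizer_iff]
  constructor
  · intro h z hz
    have := h ⟨z, Subgroup.le_normalizer hz⟩ (by
      show (⟨z, Subgroup.le_normalizer hz⟩ : ↥(Subgroup.normalizer (P : Set G)))
        ∈ P.subgroupOf (Subgroup.normalizer (P : Set G))
      rw [Subgroup.mem_subgroupOf]
      exact hz)
    exact congrArg Subtype.val this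
  · intro h y hy
    apply Subtype.ext
    have hy' : (y : G) ∈ P := by
      have : y ∈ P.subgroupOf (Subgroup.normalizer (P : Set G)) := hy
      rwa [Subgroup.mem_subgroupOf] at this
    exact h (y : G) hy'

theorem lInN_eq (P : Subgroup G) :
    lInN P = (P ⊔ Subgroup.centralizer (P : Set G)).subgroupOf
      (Subgroup.normalizer (P : Set G)) := by
  show pInN P ⊔ Subgroup.centralizer (pInN P : Set ↥(Subgroup.normalizer (P : Set G))) = _
  rw [centralizer_pInN, Subgroup.subgroupOf_sup Subgroup.le_normalizer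
    (Subgroup.centralizer_le_normalizer _)]

theorem sup_centralizer_le_normalizer (P : Subgroup G) :
    P ⊔ Subgroup.centralizer (P : Set G) ≤ Subgroup.normalizer (P : Set G) :=
  sup_le Subgroup.le_normalizer (Subgroup.centralizer_le_normalizer _)

/-- The identification of the two versions of `P C_G(P)`. -/
noncomputable def lEquiv (P : Subgroup G) :
    ↥(lInN P) ≃* ↥(P ⊔ Subgroup.centralizer (P : Set G)) :=
  (MulEquiv.subgroupCongr (lInN_eq P)).trans
    (Subgroup.subgroupOfEquivOfLe (sup_centralizer_le_normalizer P))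

theorem lEquiv_coe (P : Subgroup G) (m : ↥(lInN P)) :
    ((lEquiv P m : ↥(P ⊔ Subgroup.centralizer (P : Set G))) : G)
      = ((m : ↥(Subgroup.normalizer (P : Set G))) : G) := rfl

open Classical in
/-- A block of `P C_G(P)` inducing `B` induces a block of `N_G(P)` which induces `B`. -/
theorem exists_normalizer_block {p : ℕ} [hp : Fact p.Prime] (hM : IsPModular p M)
    (B : Set (IrrCharacter G)) (P : Subgroup G) (hPp : IsPGroup p P)
    (b : Set (IrrCharacter ↥(P ⊔ Subgroup.centralizer (P : Set G))))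
    (hb : IsInducedBlock M (P ⊔ Subgroup.centralizer (P : Set G)) b B) :
    ∃ B₁ : Set (IrrCharacter ↥(Subgroup.normalizer (P : Set G))),
      IsInducedBlock M (lInN P) (irrCongr (lEquiv P) '' b) B₁
        ∧ IsInducedBlock M (Subgroup.normalizer (P : Set G)) B₁ B := by
  haveI hMp := isPrime_of_isPModular hM
  have hbN : IsPBlock M (irrCongr (lEquiv P) '' b) := isPBlock_image_irrCongr _ b hb.1
  obtain ⟨⟨B₁, h1⟩, -⟩ := Cfsg.Agent.S0971.result p M hM (pInN P) hPp.comap_subtype
    (irrCongr (lEquiv P) '' b) hbN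
  obtain ⟨B₂, h2⟩ := Cfsg.Agent.S0919.result p M hM P (Subgroup.normalizer (P : Set G)) hPp
    Subgroup.le_normalizer (Subgroup.centralizer_le_normalizer _) le_rfl B₁ h1.2.1
  have h3 := isInducedBlock_trans (P ⊔ Subgroup.centralizer (P : Set G))
    (Subgroup.normalizer (P : Set G)) (lInN P) (lEquiv P) (lEquiv_coe P) b hb.1 B₁ B₂ h1 h2
  have h4 := isInducedBlock_unique _ b B₂ B h3 hb
  rw [h4] at h2
  exact ⟨B₁, h1, h2⟩

theorem conj_mem_sup_centralizer (P : Subgroup G) (g : G)
    (hg : g ∈ Subgroup.normalizer (P : Set G)) (x : G)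
    (hx : x ∈ P ⊔ Subgroup.centralizer (P : Set G)) :
    g * x * g⁻¹ ∈ P ⊔ Subgroup.centralizer (P : Set G) := by
  have hxN : x ∈ Subgroup.normalizer (P : Set G) := sup_centralizer_le_normalizer P hx
  have h1 : (⟨x, hxN⟩ : ↥(Subgroup.normalizer (P : Set G))) ∈ lInN P := by
    rw [lInN_eq, Subgroup.mem_subgroupOf]
    exact hx
  have hn : (lInN P).Normal := inferInstance
  have h2 := hn.conj_mem _ h1 ⟨g, hg⟩
  rw [lInN_eq, Subgroup.mem_subgroupOf] at h2
  exact h2

/-- Conjugation by an element of `N_G(P)` as an automorphism of `P C_G(P)`. -/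
noncomputable def conjEquiv (P : Subgroup G) (g : G)
    (hg : g ∈ Subgroup.normalizer (P : Set G)) :
    ↥(P ⊔ Subgroup.centralizer (P : Set G)) ≃* ↥(P ⊔ Subgroup.centralizer (P : Set G)) where
  toFun x := ⟨g * x * g⁻¹, conj_mem_sup_centralizer P g hg x x.2⟩
  invFun x := ⟨g⁻¹ * x * g, by
    have := conj_mem_sup_centralizer P g⁻¹ (inv_mem hg) x x.2
    rwa [inv_inv] at this⟩
  left_inv x := by
    apply Subtype.ext
    simp only
    group
  right_inv x := by
    apply Subtype.ext
    simp only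
    group
  map_mul' x y := by
    apply Subtype.ext
    simp only [Subgroup.coe_mul]
    group

open Classical in
/-- Part (ii) of the extended first main theorem. -/
theorem conj_of_induced_sup_centralizer {p : ℕ} [hp : Fact p.Prime] (hM : IsPModular p M)
    (B : Set (IrrCharacter G)) (hB : IsPBlock M B) (P : Subgroup G)
    (hP : IsDefectGroup p M B P)
    (b b' : Set (IrrCharacter ↥(P ⊔ Subgroup.centralizer (P : Set G))))
    (hb : IsInducedBlock M (P ⊔ Subgroup.centralizer (P : Set G)) b B)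
    (hb' : IsInducedBlock M (P ⊔ Subgroup.centralizer (P : Set G)) b' B) :
    ∃ n ∈ Subgroup.normalizer (P : Set G), ∀ θ ∈ b, ∃ θ' ∈ b',
      ∀ x : ↥(P ⊔ Subgroup.centralizer (P : Set G)),
      ∀ hx : n * (x : G) * n⁻¹ ∈ P ⊔ Subgroup.centralizer (P : Set G),
        (θ' : ↥(P ⊔ Subgroup.centralizer (P : Set G)) → ℂ) x
          = (θ : ↥(P ⊔ Subgroup.centralizer (P : Set G)) → ℂ) ⟨n * (x : G) * n⁻¹, hx⟩ := by
  haveI hMp := isPrime_of_isPModular hM
  have hMtop : M ≠ ⊤ := hM.2.1.ne_top
  have hPp := isPGroup_of_isDefectGroup hP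
  obtain ⟨B₁, h1, h2⟩ := exists_normalizer_block hM B P hPp b hb
  obtain ⟨B₁', h1', h2'⟩ := exists_normalizer_block hM B P hPp b' hb'
  have hD₁ := isDefectGroup_normalizer_of_induced hM P hPp B hB hP B₁ h2
  have hD₁' := isDefectGroup_normalizer_of_induced hM P hPp B hB hP B₁' h2'
  have hEq : B₁ = B₁' := induced_normalizer_unique hM P hPp B₁ B₁' hD₁ hD₁' B h2 h2'
  subst hEq
  obtain ⟨χb, hχb⟩ := hb.1
  obtain ⟨χb', hχb'⟩ := hb'.1
  have hθ₀ : χb ∈ b := by rw [hχb]; exact sameBlock_refl hMtop _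
  have hθ₀' : χb' ∈ b' := by rw [hχb']; exact sameBlock_refl hMtop _
  have hξ : irrCongr (lEquiv P) χb ∈ irrCongr (lEquiv P) '' b := ⟨χb, hθ₀, rfl⟩
  have hξ' : irrCongr (lEquiv P) χb' ∈ irrCongr (lEquiv P) '' b' := ⟨χb', hθ₀', rfl⟩
  obtain ⟨χ, hχ, hχne⟩ := Cfsg.Agent.S0934.result p M hM (lInN P) _ B₁ h1 _ hξ
  obtain ⟨χ', hχ', hχ'ne⟩ := Cfsg.Agent.S0934.result p M hM (lInN P) _ B₁ h1' _ hξ'
  obtain ⟨g, θ'', hθ'', hconj⟩ := Cfsg.Agent.S0964.result p M hM (lInN P) B₁ h1.2.1 _ h1.1
    χ hχ _ hξ hχne χ' hχ' _ hχ'ne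
  obtain ⟨θ₁, hθ₁, rfl⟩ := hθ''
  refine ⟨(g : G), g.2, ?_⟩
  intro θ hθ
  refine ⟨irrCongr (conjEquiv P (g : G) g.2) θ, ?_, ?_⟩
  · -- membership in `b'`
    have hsame : SameBlock M (θ₁ : ↥(P ⊔ Subgroup.centralizer (P : Set G)) → ℂ)
        (θ : ↥(P ⊔ Subgroup.centralizer (P : Set G)) → ℂ) := by
      rw [hχb] at hθ₁ hθ
      exact sameBlock_trans (sameBlock_symm hθ₁) hθ
    have hsame' := (sameBlock_irrCongr_iff (M := M) (conjEquiv P (g : G) g.2) θ₁ θ).mpr hsame
    have hχb'eq : (χb' : ↥(P ⊔ Subgroup.centralizer (P : Set G)) → ℂ)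
        = (irrCongr (conjEquiv P (g : G) g.2) θ₁
          : ↥(P ⊔ Subgroup.centralizer (P : Set G)) → ℂ) := by
      funext x
      have h3 := hconj ((lEquiv P).symm x)
      rw [irrCongr_apply, irrCongr_apply, MulEquiv.apply_symm_apply] at h3
      rw [h3, irrCongr_apply]
      congr 1
    rw [hχb']
    show SameBlock M _ _
    rw [hχb'eq]
    exact hsame'
  · intro x hx
    rfl

end Cfsg.Agent.Lib.helper3.Block
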