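import Mathlib
import Cfsg.Prelude.Def_Blocks
import Cfsg.Agent.Lib.helper3.CentSupp1

/-!
# Central characters at classes missing the centralizer of a `p`-subgroup acting through the
commutant of a normal `p'`-subgroup
-/

set_option autoImplicit false
set_option linter.style.haveILetI false
set_option linter.unusedSectionVars false
set_option maxHeartbeats 1000000

namespace Cfsg.Agent.Lib.helper3.FongB

open Cfsg Module Cfsg.Agent.Lib.helper3.CharBasic Cfsg.Agent.Lib.helper3.Irr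
open Cfsg.Agent.Lib.helper3.Central Cfsg.Agent.Lib.helper3.LocalM Cfsg.Agent.Lib.helper3.Block
open scoped ComplexConjugate

variable {G : Type*} [Group G] [Fintype G] {M : Ideal AlgInt}
variable {V : Type*} [AddCommGroup V] [Module ℂ V] [FiniteDimensional ℂ V]

/-- The sum over a normal subgroup of the conjugates of `ρ x`. -/
noncomputable def avg (ρ : Representation ℂ G V) (N : Subgroup G) [Fintype N] (x : G) :
    V →ₗ[ℂ] V :=
  ∑ n : N, ρ ((n : G) * x * (n : G)⁻¹)

theorem avg_conj (ρ : Representation ℂ G V) (N : Subgroup G) [hN : N.Normal] [Fintype N]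
    (u x : G) : avg ρ N (u * x * u⁻¹) = ρ u * avg ρ N x * ρ u⁻¹ := by
  unfold avg
  rw [Finset.mul_sum, Finset.sum_mul]
  apply Fintype.sum_equiv (MulAut.conjNormal u⁻¹ : N ≃* N).toEquiv
  intro n
  rw [← map_mul, ← map_mul]
  congr 1
  show (n : G) * (u * x * u⁻¹) * (n : G)⁻¹
    = u * (((MulAut.conjNormal u⁻¹ n : N) : G) * x * ((MulAut.conjNormal u⁻¹ n : N) : G)⁻¹) * u⁻¹
  rw [MulAut.conjNormal_apply]
  group

theorem avg_conj_mem (ρ : Representation ℂ G V) (N : Subgroup G) [hN : N.Normal] [Fintype N]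
    (x : G) (n : G) (hn : n ∈ N) : avg ρ N (n * x * n⁻¹) = avg ρ N x := by
  unfold avg
  symm
  apply Fintype.sum_equiv (Equiv.mulRight (⟨n, hn⟩ : N)⁻¹)
  intro m
  congr 1
  show (m : G) * x * (m : G)⁻¹
    = ((m * (⟨n, hn⟩ : N)⁻¹ : N) : G) * (n * x * n⁻¹) * ((m * (⟨n, hn⟩ : N)⁻¹ : N) : G)⁻¹
  push_cast
  group

theorem avg_comm (ρ : Representation ℂ G V) (N : Subgroup G) [hN : N.Normal] [Fintype N]
    (x : G) (n : G) (hn : n ∈ N) : avg ρ N x ∘ₗ ρ n = ρ n ∘ₗ avg ρ N x := by
  have h1 : avg ρ N x = ρ n * avg ρ N x * ρ n⁻¹ := by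
    rw [← avg_conj, avg_conj_mem ρ N x n hn]
  have h2 : ρ n⁻¹ * ρ n = 1 := by rw [← map_mul, inv_mul_cancel, map_one]
  calc avg ρ N x ∘ₗ ρ n = (ρ n * avg ρ N x * ρ n⁻¹) * ρ n := by rw [← h1]; rfl
    _ = ρ n * avg ρ N x * (ρ n⁻¹ * ρ n) := by rw [mul_assoc]
    _ = ρ n ∘ₗ avg ρ N x := by rw [h2, mul_one]; rfl

theorem avg_mem_closure (ρ : Representation ℂ G V) (N : Subgroup G) [Fintype N] (x : G) :
    avg ρ N x ∈ AddSubgroup.closure (Set.range (fun x : G => ρ x)) := by
  unfold avg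
  apply AddSubgroup.sum_mem
  intro n _
  exact AddSubgroup.subset_closure ⟨_, rfl⟩

/-- If every operator commuting with `ρ N` commutes with `ρ Q`, for a normal `p'`-subgroup `N` and
a `p`-subgroup `Q`, then the central character of `ρ` vanishes modulo `M` at every class missing
the centralizer of `Q`. -/
theorem memLocalIdeal_centralChar_of_commutant {p : ℕ} (hM : IsPModular p M)
    (ρ : Representation ℂ G V) [hirr : ρ.IsIrreducible] (N : Subgroup G) [hN : N.Normal]
    (hNp : ¬ p ∣ Nat.card N) (Q : Subgroup G) (hQ : IsPGroup p Q)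
    (hcomm : ∀ T : V →ₗ[ℂ] V, (∀ n ∈ N, T ∘ₗ ρ n = ρ n ∘ₗ T) → ∀ u ∈ Q, T ∘ₗ ρ u = ρ u ∘ₗ T)
    (g : G) (hg : ∀ x : G, IsConj g x → x ∉ Subgroup.centralizer (Q : Set G)) :
    MemLocalIdeal M (centralChar ρ.character g) := by
  classical
  haveI : Fact p.Prime := ⟨hM.1⟩
  haveI hMp := isPrime_of_isPModular hM
  have hMtop : M ≠ ⊤ := hM.2.1.ne_top
  have hp0 : (p : ℂ) ≠ 0 := by exact_mod_cast hM.1.ne_zero
  letI : MulAction Q {x : G // IsConj g x} :=
    { smul := fun u x => ⟨(u : G) * (x : G) * (u : G)⁻¹, by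
        have h1 : IsConj (x : G) ((u : G) * (x : G) * (u : G)⁻¹) :=
          isConj_iff.mpr ⟨(u : G), rfl⟩
        exact x.2.trans h1⟩
      one_smul := fun x => Subtype.ext (by
        show ((1 : Q) : G) * (x : G) * ((1 : Q) : G)⁻¹ = (x : G)
        simp)
      mul_smul := fun u u' x => Subtype.ext (by
        show ((u * u' : Q) : G) * (x : G) * ((u * u' : Q) : G)⁻¹
          = (u : G) * ((u' : G) * (x : G) * (u' : G)⁻¹) * (u : G)⁻¹
        push_cast
        group) }
  have hsmul : ∀ (u : Q) (x : {x : G // IsConj g x}),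
      ((u • x : {x : G // IsConj g x}) : G) = (u : G) * (x : G) * (u : G)⁻¹ := fun _ _ => rfl
  have hinv : ∀ (u : Q) (x : {x : G // IsConj g x}),
      (fun x : {x : G // IsConj g x} => avg ρ N (x : G)) (u • x)
        = (fun x : {x : G // IsConj g x} => avg ρ N (x : G)) x := by
    intro u x
    show avg ρ N ((u • x : {x : G // IsConj g x}) : G) = avg ρ N (x : G)
    rw [hsmul, avg_conj]
    have h1 := hcomm (avg ρ N (x : G)) (fun n hn => avg_comm ρ N (x : G) n hn) (u : G) u.2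
    have h2 : ρ (u : G) * ρ (u : G)⁻¹ = 1 := by rw [← map_mul, mul_inv_cancel, map_one]
    have h3 : ρ (u : G) * avg ρ N (x : G) = avg ρ N (x : G) * ρ (u : G) := h1.symm
    rw [h3, mul_assoc, h2, mul_one]
  have hfree : ∀ x : {x : G // IsConj g x}, ∃ u : Q, u • x ≠ x := by
    intro x
    by_contra hcon
    push Not at hcon
    apply hg (x : G) x.2
    rw [Subgroup.mem_centralizer_iff]
    intro u hu
    have h1 := congrArg Subtype.val (hcon ⟨u, hu⟩)
    rw [hsmul] at h1
    have h2 : u * (x : G) * u⁻¹ = (x : G) := h1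
    calc u * (x : G) = u * (x : G) * u⁻¹ * u := by group
      _ = (x : G) * u := by rw [h2]
  obtain ⟨Y, hY, hsum⟩ := sum_eq_nsmul_of_fixedPoint_free hQ
    (fun x : {x : G // IsConj g x} => avg ρ N (x : G)) hinv hfree
  have hYint : IsIntegral ℤ Y := by
    apply isIntegral_of_mem_closure_range ρ Y
    refine (AddSubgroup.closure_le _).mpr ?_ hY
    rintro _ ⟨x, rfl⟩
    exact avg_mem_closure ρ N (x : G)
  have hcl : ∀ n : N, ∑ x : {x : G // IsConj g x}, ρ ((n : G) * (x : G) * (n : G)⁻¹)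
      = classOp ρ g := by
    intro n
    unfold classOp
    rw [Finset.sum_subtype (p := fun x : G => IsConj g x)
      (Finset.univ.filter (fun x : G => IsConj g x)) (by intro x; simp)]
    let e : {x : G // IsConj g x} ≃ {x : G // IsConj g x} :=
      { toFun := fun x => ⟨(n : G) * (x : G) * (n : G)⁻¹,
          x.2.trans (isConj_iff.mpr ⟨(n : G), rfl⟩)⟩
        invFun := fun x => ⟨(n : G)⁻¹ * (x : G) * (n : G),
          x.2.trans (isConj_iff.mpr ⟨(n : G)⁻¹, by rw [inv_inv]⟩)⟩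
        left_inv := fun x => Subtype.ext (by
          show (n : G)⁻¹ * ((n : G) * (x : G) * (n : G)⁻¹) * (n : G) = (x : G)
          group)
        right_inv := fun x => Subtype.ext (by
          show (n : G) * ((n : G)⁻¹ * (x : G) * (n : G)) * (n : G)⁻¹ = (x : G)
          group) }
    exact Fintype.sum_equiv e _ _ (fun x => rfl)
  have htot : ∑ x : {x : G // IsConj g x}, avg ρ N (x : G)
      = (Nat.card N : ℂ) • classOp ρ g := by
    unfold avg
    rw [Finset.sum_comm]
    rw [Finset.sum_congr rfl (fun n _ => hcl n), Finset.sum_const, Finset.card_univ,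
      ← Nat.card_eq_fintype_card, Nat.cast_smul_eq_nsmul]
  obtain ⟨c, hc⟩ : ∃ c : ℂ, c = ((Finset.univ.filter (fun x : G => IsConj g x)).card : ℂ)
      * ρ.character g / (finrank ℂ V : ℂ) := ⟨_, rfl⟩
  have hcc : centralChar ρ.character g = c := by
    unfold centralChar
    rw [hc, card_class_eq_index, Representation.char_one]
  have h1 : ((Nat.card N : ℂ) * c) • (LinearMap.id : V →ₗ[ℂ] V) = p • Y := by
    rw [← hsum, htot, classOp_eq_smul, ← hc, smul_smul]
  have h2 : Y = ((Nat.card N : ℂ) * c / p) • (LinearMap.id : V →ₗ[ℂ] V) := by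
    have h3 : (p : ℂ) • Y = ((Nat.card N : ℂ) * c) • (LinearMap.id : V →ₗ[ℂ] V) := by
      rw [h1, Nat.cast_smul_eq_nsmul]
    rw [div_eq_inv_mul, mul_smul, ← h3, smul_smul, inv_mul_cancel₀ hp0, one_smul]
  haveI := nontrivial_of_irreducible ρ
  have h4 : ((Nat.card N : ℂ) * c / p) • (LinearMap.id : V →ₗ[ℂ] V)
      = algebraMap ℂ (Module.End ℂ V) ((Nat.card N : ℂ) * c / p) := by
    rw [Algebra.algebraMap_eq_smul_one]
    rfl
  rw [h2, h4] at hYint
  have h5 : IsIntegral ℤ ((Nat.card N : ℂ) * c / p) :=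
    (isIntegral_algebraMap_iff (algebraMap ℂ (Module.End ℂ V)).injective).mp hYint
  rw [hcc]
  have hN0 : (Nat.card N : ℂ) ≠ 0 := by
    have : Nat.card N ≠ 0 := Nat.card_pos.ne'
    exact_mod_cast this
  refine ⟨(p : AlgInt) * (⟨(Nat.card N : ℂ) * c / p, h5⟩ : AlgInt), (Nat.card N : AlgInt),
    M.mul_mem_right _ hM.2.2, ?_, ?_⟩
  · rw [natCast_mem_iff hM]
    exact hNp
  · push_cast
    field_simp

end Cfsg.Agent.Lib.helper3.FongB
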