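import Mathlib
import Cfsg.Prelude.Def_Characters
import Cfsg.Agent.Lib.helper3.Irr13

/-!
# The commutant of a subgroup in a representation that is homogeneous over a larger subgroup
-/

set_option autoImplicit false
set_option linter.style.haveILetI false
set_option linter.unusedSectionVars false
set_option maxHeartbeats 1000000

namespace Cfsg.Agent.Lib.helper3.FongB

open Cfsg Module Cfsg.Agent.Lib.helper3.CharBasic Cfsg.Agent.Lib.helper3.Irr
open Cfsg.Agent.Lib.helper3.IndFun
open scoped ComplexConjugate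

variable {G : Type*} [Group G] [Fintype G]
variable {V : Type*} [AddCommGroup V] [Module ℂ V] [FiniteDimensional ℂ V]

/-- The dimension of the commutant of a representation whose character is a multiple of an
irreducible character. -/
theorem finrank_commutant {H : Type*} [Group H] [Fintype H] (σ : Representation ℂ H V) (e : ℕ)
    (η : H → ℂ) (hη : IsIrrCharacter H η) (hσ : ∀ h : H, σ.character h = e * η h) :
    (finrank ℂ (Representation.linHom σ σ).invariants : ℂ) = (e : ℂ) ^ 2 := by
  classical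
  haveI : Invertible (Nat.card H : ℂ) := invertibleOfNonzero (by
    have : Nat.card H ≠ 0 := Nat.card_pos.ne'
    exact_mod_cast this)
  rw [← Representation.card_inv_mul_sum_char_eq_finrank]
  have h1 : ∀ h : H, (Representation.linHom σ σ).character h = (e : ℂ) ^ 2 * (η h * conj (η h)) := by
    intro h
    rw [Representation.char_linHom, hσ, hσ, isCharacter_apply_inv (isCharacter_of_isIrrCharacter hη)]
    ring
  rw [Finset.sum_congr rfl (fun h _ => h1 h), ← Finset.mul_sum]
  have h2 := irr_classInner_self hη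
  rw [classInner_apply] at h2
  rw [mul_left_comm, h2, mul_one]

/-- If the restriction of `ρ` to `L` has character `e η` with `η` irreducible and `η` restricted to
`N ≤ L` still irreducible, then every operator commuting with `ρ N` commutes with `ρ L`. -/
theorem commute_of_commute (ρ : Representation ℂ G V) (N L : Subgroup G) (hNL : N ≤ L) (e : ℕ)
    (η : L → ℂ) (hη : IsIrrCharacter L η)
    (hηN : IsIrrCharacter N (fun n : N => η ⟨(n : G), hNL n.2⟩))
    (hρ : ∀ l : L, ρ.character (l : G) = e * η l)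
    (T : V →ₗ[ℂ] V) (hT : ∀ n ∈ N, T ∘ₗ ρ n = ρ n ∘ₗ T) (u : G) (hu : u ∈ L) :
    T ∘ₗ ρ u = ρ u ∘ₗ T := by
  classical
  set ρL : Representation ℂ L V := ρ.comp L.subtype with hρL
  set ρN : Representation ℂ N V := ρ.comp N.subtype with hρN
  have hle : (Representation.linHom ρL ρL).invariants ≤ (Representation.linHom ρN ρN).invariants := by
    intro S hS n
    have := hS ⟨(n : G), hNL n.2⟩
    exact this
  have hfL := finrank_commutant ρL e η hη (fun l => hρ l)
  have hfN := finrank_commutant ρN e (fun n : N => η ⟨(n : G), hNL n.2⟩) hηN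
    (fun n => hρ ⟨(n : G), hNL n.2⟩)
  have hfin : finrank ℂ (Representation.linHom ρL ρL).invariants
      = finrank ℂ (Representation.linHom ρN ρN).invariants := by
    have : (finrank ℂ (Representation.linHom ρL ρL).invariants : ℂ)
        = (finrank ℂ (Representation.linHom ρN ρN).invariants : ℂ) := by rw [hfL, hfN]
    exact_mod_cast this
  have heq := Submodule.eq_of_le_of_finrank_eq hle hfin
  have hTN : T ∈ (Representation.linHom ρN ρN).invariants := by
    intro n
    show ρN n ∘ₗ T ∘ₗ ρN n⁻¹ = T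
    have h1 : T ∘ₗ ρ ((n⁻¹ : N) : G) = ρ ((n⁻¹ : N) : G) ∘ₗ T := hT _ (n⁻¹).2
    show ρ (n : G) ∘ₗ T ∘ₗ ρ ((n⁻¹ : N) : G) = T
    rw [h1, ← LinearMap.comp_assoc]
    have h2 : ρ (n : G) ∘ₗ ρ ((n⁻¹ : N) : G) = LinearMap.id := by
      show ρ (n : G) * ρ ((n⁻¹ : N) : G) = 1
      rw [← map_mul]
      push_cast
      rw [mul_inv_cancel, map_one]
    rw [h2, LinearMap.id_comp]
  rw [← heq] at hTN
  have h3 := hTN ⟨u, hu⟩
  have h4 : ρ u ∘ₗ T ∘ₗ ρ u⁻¹ = T := h3
  have h5 : ρ u⁻¹ ∘ₗ ρ u = LinearMap.id := by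
    show ρ u⁻¹ * ρ u = 1
    rw [← map_mul, inv_mul_cancel, map_one]
  calc T ∘ₗ ρ u = (ρ u ∘ₗ T ∘ₗ ρ u⁻¹) ∘ₗ ρ u := by rw [h4]
    _ = ρ u ∘ₗ T ∘ₗ (ρ u⁻¹ ∘ₗ ρ u) := by simp only [LinearMap.comp_assoc]
    _ = ρ u ∘ₗ T := by rw [h5, LinearMap.comp_id]

end Cfsg.Agent.Lib.helper3.FongB
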