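import Mathlib
import Cfsg.Prelude.Def_Blocks
import Cfsg.Agent.Lib.helper3.FongB2
import Cfsg.Agent.Lib.helper3.FongB3
import Cfsg.Agent.Lib.helper3.FongB4

/-!
# The characters over an invariant character of a normal `p'`-subgroup form a block, under a
`p`-constraint hypothesis
-/

set_option autoImplicit false
set_option linter.style.haveILetI false
set_option linter.unusedSectionVars false
set_option maxHeartbeats 1000000

namespace Cfsg.Agent.Lib.helper3.FongB

open Cfsg Module Cfsg.Agent.Lib.helper3.CharBasic Cfsg.Agent.Lib.helper3.Irr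
open Cfsg.Agent.Lib.helper3.Central Cfsg.Agent.Lib.helper3.LocalM Cfsg.Agent.Lib.helper3.Block
open Cfsg.Agent.Lib.helper3.IndFun
open scoped ComplexConjugate

variable {G : Type*} [Group G] [Fintype G] {M : Ideal AlgInt}

/-- A character over an invariant irreducible character `η` of the normal subgroup `L` restricts
to a natural multiple of `η`. -/
theorem exists_nat_restrict_eq (L : Subgroup G) [hL : L.Normal] [Fintype L] (η : L → ℂ)
    (hη : IsIrrCharacter L η)
    (hinv : ∀ (g : G) (l : L), η ⟨g * l * g⁻¹, hL.conj_mem l l.2 g⟩ = η l)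
    (χ : IrrCharacter G) (hχ : classInner (fun l : L => (χ : G → ℂ) l) η ≠ 0) :
    ∃ e : ℕ, e ≠ 0 ∧ ∀ l : L, (χ : G → ℂ) l = e * η l := by
  obtain ⟨e, he⟩ := exists_nat_classInner_of_isCharacter
    (isCharacter_restrict (isCharacter_of_isIrrCharacter χ.2) L) ⟨η, hη⟩
  refine ⟨e, ?_, ?_⟩
  · rintro rfl
    apply hχ
    rw [he, Nat.cast_zero]
  · intro l
    have := restrict_eq_of_invariant L η hη hinv (χ : G → ℂ) χ.2 hχ l
    rw [this]
    congr 1

/-- Central characters of characters over the invariant extension vanish modulo `M` off `L`. -/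
theorem memLocalIdeal_centralChar_of_over {p : ℕ} [hp : Fact p.Prime] (hM : IsPModular p M)
    (N L Q : Subgroup G) [hN : N.Normal] [hL : L.Normal] [Fintype N] [Fintype L] (hNL : N ≤ L)
    (hNp : ¬ p ∣ Nat.card N) (hQL : Q ≤ L) (hQ : IsPGroup p Q)
    (hCQ : Subgroup.centralizer (Q : Set G) ≤ L) (η : L → ℂ) (hη : IsIrrCharacter L η)
    (hηN : IsIrrCharacter N (fun n : N => η ⟨(n : G), hNL n.2⟩))
    (χ : IrrCharacter G) (e : ℕ) (he : ∀ l : L, (χ : G → ℂ) l = e * η l) (g : G) (hg : g ∉ L) :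
    MemLocalIdeal M (centralChar (χ : G → ℂ) g) := by
  obtain ⟨n, ρ, hirr, hρ⟩ := χ.2
  haveI := hirr
  rw [← hρ]
  apply memLocalIdeal_centralChar_of_commutant hM ρ N hNp Q hQ
  · intro T hT u hu
    exact commute_of_commute ρ N L hNL e η hη hηN (fun l => by rw [hρ]; exact he l) T hT u
      (hQL hu)
  · intro x hx hxc
    apply hg
    obtain ⟨c, hc⟩ := isConj_iff.mp hx
    have h1 : g = c⁻¹ * x * c⁻¹⁻¹ := by
      rw [← hc]
      group
    rw [h1]
    exact hL.conj_mem _ (hCQ hxc) _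

/-- Two characters over the invariant extension lie in the same block. -/
theorem sameBlock_of_over {p : ℕ} [hp : Fact p.Prime] (hM : IsPModular p M)
    (L : Subgroup G) [hL : L.Normal] [Fintype L] (η : L → ℂ)
    (χ χ' : IrrCharacter G) (e e' : ℕ) (he0 : e ≠ 0) (he0' : e' ≠ 0)
    (he : ∀ l : L, (χ : G → ℂ) l = e * η l) (he' : ∀ l : L, (χ' : G → ℂ) l = e' * η l)
    (hoff : ∀ g : G, g ∉ L → MemLocalIdeal M (centralChar (χ : G → ℂ) g))
    (hoff' : ∀ g : G, g ∉ L → MemLocalIdeal M (centralChar (χ' : G → ℂ) g)) :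
    SameBlock M (χ : G → ℂ) (χ' : G → ℂ) := by
  haveI hMp := isPrime_of_isPModular hM
  have hMtop : M ≠ ⊤ := hM.2.1.ne_top
  intro g
  by_cases hg : g ∈ L
  · have h1 : centralChar (χ : G → ℂ) g = centralChar (χ' : G → ℂ) g := by
      unfold centralChar
      have a1 := he ⟨g, hg⟩
      have a2 := he' ⟨g, hg⟩
      have b1 := he 1
      have b2 := he' 1
      simp only [Subgroup.coe_one] at b1 b2
      simp only [Subgroup.coe_mk] at a1 a2
      rw [a1, a2, b1, b2]
      have hc : (e : ℂ) ≠ 0 := by exact_mod_cast he0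
      have hc' : (e' : ℂ) ≠ 0 := by exact_mod_cast he0'
      by_cases hη1 : η 1 = 0
      · rw [hη1, mul_zero, mul_zero, div_zero, div_zero]
      · field_simp
    rw [h1, sub_self]
    exact memLocalIdeal_zero hMtop
  · exact memLocalIdeal_sub (hoff g hg) (hoff' g hg)

/-- **Fong**: under `p`-constraint, the characters over an invariant irreducible character of the
normal `p'`-subgroup `N` form a single block. -/
theorem isPBlock_irrOver {p : ℕ} [hp : Fact p.Prime] (hM : IsPModular p M)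
    (N L Q : Subgroup G) [hN : N.Normal] [hL : L.Normal] [Fintype N] (hNL : N ≤ L)
    (hNp : ¬ p ∣ Nat.card N) (k : ℕ) (hidx : N.relIndex L = p ^ k) (hQL : Q ≤ L)
    (hQ : IsPGroup p Q) (hCQ : Subgroup.centralizer (Q : Set G) ≤ L) (θ : IrrCharacter N)
    (hinv : ∀ (g : G) (n : N), (θ : N → ℂ) ⟨g * n * g⁻¹, hN.conj_mem n n.2 g⟩ = (θ : N → ℂ) n) :
    IsPBlock M (irrOver N (θ : N → ℂ)) := by
  classical
  letI : Fintype L := Fintype.ofFinite L
  haveI hMp := isPrime_of_isPModular hM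
  have hMtop : M ≠ ⊤ := hM.2.1.ne_top
  obtain ⟨η, hη, hηN, hηinv⟩ := exists_invariant_extension N L hNL hNp k hidx (θ : N → ℂ) θ.2 hinv
  have hηN' : IsIrrCharacter N (fun n : N => η ⟨(n : G), hNL n.2⟩) := by
    have : (fun n : N => η ⟨(n : G), hNL n.2⟩) = (θ : N → ℂ) := funext hηN
    rw [this]
    exact θ.2
  -- the key property of characters over `η`
  have key : ∀ χ : IrrCharacter G, classInner (fun l : L => (χ : G → ℂ) l) η ≠ 0 →
      ∃ e : ℕ, e ≠ 0 ∧ (∀ l : L, (χ : G → ℂ) l = e * η l) ∧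
        ∀ g : G, g ∉ L → MemLocalIdeal M (centralChar (χ : G → ℂ) g) := by
    intro χ hχ
    obtain ⟨e, he0, he⟩ := exists_nat_restrict_eq L η hη hηinv χ hχ
    exact ⟨e, he0, he, fun g hg =>
      memLocalIdeal_centralChar_of_over hM N L Q hNL hNp hQL hQ hCQ η hη hηN' χ e he g hg⟩
  obtain ⟨χ₀, hχ₀⟩ := exists_irr_over N (θ : N → ℂ) θ.2
  have hχ₀' : χ₀ ∈ irrOver N (θ : N → ℂ) := hχ₀
  obtain ⟨χ₁, hs₁, hχ₁⟩ := exists_over_extension hM N L hNL hNp k hidx θ hinv η hηN χ₀ hχ₀'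
  obtain ⟨e₁, he₁0, he₁, hoff₁⟩ := key χ₁ hχ₁
  have hχ₁over : χ₁ ∈ irrOver N (θ : N → ℂ) :=
    blockOf_subset_irrOver hM N hNp θ χ₀ hχ₀' hs₁
  refine ⟨χ₁, ?_⟩
  ext χ
  constructor
  · intro hχ
    obtain ⟨χ₂, hs₂, hχ₂⟩ := exists_over_extension hM N L hNL hNp k hidx θ hinv η hηN χ hχ
    obtain ⟨e₂, he₂0, he₂, hoff₂⟩ := key χ₂ hχ₂
    have h12 := sameBlock_of_over hM L η χ₁ χ₂ e₁ e₂ he₁0 he₂0 he₁ he₂ hoff₁ hoff₂
    exact sameBlock_trans h12 (sameBlock_symm hs₂)
  · intro hχ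
    exact blockOf_subset_irrOver hM N hNp θ χ₁ hχ₁over hχ

end Cfsg.Agent.Lib.helper3.FongB
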