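import Mathlib
import Cfsg.Prelude.Def_Blocks
import Cfsg.Agent.Lib.helper3.FongB5
import Cfsg.Agent.Lib.helper3.DefectOrder4
import Cfsg.Agent.Lib.helper3.ExtFirstMain2
import Cfsg.Agent.Lib.helper3.QuotDefect3
import Cfsg.Agent.Lib.helper3.FR6
import Cfsg.Agent.S0970

/-!
# Defect groups of the block of characters over an invariant character of a normal `p'`-subgroup
-/

set_option autoImplicit false
set_option linter.style.haveILetI false
set_option linter.unusedSectionVars false
set_option maxHeartbeats 1000000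

namespace Cfsg.Agent.Lib.helper3.FongB

open Cfsg Module Cfsg.Agent.Lib.helper3.CharBasic Cfsg.Agent.Lib.helper3.Irr
open Cfsg.Agent.Lib.helper3.Central Cfsg.Agent.Lib.helper3.LocalM Cfsg.Agent.Lib.helper3.Block
open Cfsg.Agent.Lib.helper3.IndFun
open scoped ComplexConjugate

variable {G : Type*} [Group G] [Fintype G] {M : Ideal AlgInt}

/-- In a `p'`-group every irreducible character is a block by itself. -/
theorem blockOf_eq_singleton {p : ℕ} (hM : IsPModular p M) (hG : ¬ p ∣ Nat.card G)
    (θ : IrrCharacter G) : blockOf M (θ : G → ℂ) = {θ} := by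
  classical
  haveI hMp := isPrime_of_isPModular hM
  have hMtop : M ≠ ⊤ := hM.2.1.ne_top
  apply Set.Subset.antisymm
  · apply union_of_blocks hM {θ} _ θ (Set.mem_singleton θ)
    intro g
    unfold blockCoeff
    rw [finsum_mem_singleton]
    have h1 : IsIntegral ℤ ((θ : G → ℂ) 1 * conj ((θ : G → ℂ) g)) := by
      have hc := isCharacter_of_isIrrCharacter θ.2
      apply IsIntegral.mul (Cfsg.Agent.Lib.helper3.Lin.isIntegral_of_isCharacter hc 1)
      rw [← isCharacter_apply_inv hc]
      exact Cfsg.Agent.Lib.helper3.Lin.isIntegral_of_isCharacter hc _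
    refine ⟨⟨_, h1⟩, (Nat.card G : AlgInt), ?_, ?_⟩
    · rw [natCast_mem_iff hM]
      exact hG
    · push_cast
      rw [div_eq_inv_mul]
  · intro ψ hψ
    rw [Set.mem_singleton_iff] at hψ
    rw [hψ]
    exact sameBlock_refl hMtop _

/-- The defect groups of the block of characters over an invariant character of a normal
`p'`-subgroup have the order of a Sylow `p`-subgroup. -/
theorem card_of_isDefectGroup_irrOver {p : ℕ} [hp : Fact p.Prime] (hM : IsPModular p M)
    (N : Subgroup G) [hN : N.Normal] [Fintype N] (hNp : ¬ p ∣ Nat.card N) (θ : IrrCharacter N)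
    (hinv : ∀ (g : G) (n : N), (θ : N → ℂ) ⟨g * n * g⁻¹, hN.conj_mem n n.2 g⟩ = (θ : N → ℂ) n)
    (hB : IsPBlock M (irrOver N (θ : N → ℂ))) (D : Subgroup G)
    (hD : IsDefectGroup p M (irrOver N (θ : N → ℂ)) D) :
    Nat.card D = p ^ (Nat.card G).factorization p := by
  classical
  haveI hMp := isPrime_of_isPModular hM
  have hMtop : M ≠ ⊤ := hM.2.1.ne_top
  have hb : IsPBlock M ({θ} : Set (IrrCharacter N)) := ⟨θ, (blockOf_eq_singleton hM hNp θ).symm⟩
  obtain ⟨χ₀, hχ₀⟩ := exists_irr_over N (θ : N → ℂ) θ.2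
  have h970 := Cfsg.Agent.S0970.result p M hM N {θ} hb
    (by
      intro g θ₁ hθ₁ θ' hθ'
      rw [Set.mem_singleton_iff] at hθ₁ ⊢
      apply Subtype.ext
      funext n
      rw [hθ' n, hθ₁]
      exact hinv g n)
    (irrOver N (θ : N → ℂ)) hB ⟨χ₀, hχ₀, θ, Set.mem_singleton θ, hχ₀⟩
    (by
      rintro B' hB' ⟨χ', hχ', θ₁, hθ₁, hcon⟩
      rw [Set.mem_singleton_iff] at hθ₁
      rw [hθ₁] at hcon
      have : B' = irrOver N (θ : N → ℂ) := block_eq_of_mem hB' hB χ' hχ' hcon
      rw [this])
    D hD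
  have hidx : ¬ p ∣ (D ⊔ N).index := h970.1
  have hDp : IsPGroup p D := isPGroup_of_isDefectGroup hD
  obtain ⟨j, hj⟩ := hDp.exists_card_eq
  rw [hj]
  congr 1
  apply le_antisymm
  · have h1 : p ^ j ∣ Nat.card G := by
      rw [← hj]
      exact Subgroup.card_subgroup_dvd_card D
    exact (hp.out.pow_dvd_iff_le_factorization Nat.card_pos.ne').mp h1
  · have hcop1 : Nat.Coprime (p ^ (Nat.card G).factorization p) (D ⊔ N).index :=
      Nat.Coprime.pow_left _ ((Nat.Prime.coprime_iff_not_dvd hp.out).mpr hidx)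
    have hcop2 : Nat.Coprime (p ^ (Nat.card G).factorization p) (Nat.card N) :=
      Nat.Coprime.pow_left _ ((Nat.Prime.coprime_iff_not_dvd hp.out).mpr hNp)
    have h2 : p ^ (Nat.card G).factorization p ∣ Nat.card G := Nat.ordProj_dvd _ _
    have h3 : Nat.card G = Nat.card (D ⊔ N : Subgroup G) * (D ⊔ N).index :=
      (Subgroup.card_mul_index _).symm
    have h4 : Nat.card (D ⊔ N : Subgroup G) = Nat.card N * N.relIndex (D ⊔ N) := by
      have hle : N ≤ D ⊔ N := le_sup_right
      have := Subgroup.card_mul_index (N.subgroupOf (D ⊔ N))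
      rw [← this, Subgroup.relIndex]
      congr 1
      exact Nat.card_congr (Subgroup.subgroupOfEquivOfLe hle).toEquiv
    have h34 : Nat.card G = Nat.card N * N.relIndex D * (D ⊔ N).index := by
      rw [h3, h4, Subgroup.relIndex_sup_right]
    rw [h34] at h2
    have h2' : p ^ (Nat.card G).factorization p ∣ Nat.card N * N.relIndex D * (D ⊔ N).index := by
      rw [← h34]
      exact Nat.ordProj_dvd _ _
    clear h2
    have h2 := h2'
    have h5 : p ^ (Nat.card G).factorization p ∣ Nat.card N * N.relIndex D :=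
      hcop1.dvd_of_dvd_mul_right h2
    have h6 : p ^ (Nat.card G).factorization p ∣ N.relIndex D := hcop2.dvd_of_dvd_mul_left h5
    have h7 : p ^ (Nat.card G).factorization p ∣ p ^ j := by
      rw [← hj]
      exact h6.trans (Subgroup.relIndex_dvd_card N D)
    exact (Nat.pow_dvd_pow_iff_le_right hp.out.one_lt).mp h7

/-- Every Sylow `p`-subgroup is a defect group of a block all of whose defect groups have Sylow
order. -/
theorem isDefectGroup_sylow {p : ℕ} [hp : Fact p.Prime] (hM : IsPModular p M)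
    (B : Set (IrrCharacter G)) (hB : IsPBlock M B)
    (hcard : ∀ D : Subgroup G, IsDefectGroup p M B D →
      Nat.card D = p ^ (Nat.card G).factorization p) (P : Sylow p G) :
    IsDefectGroup p M B (P : Subgroup G) := by
  obtain ⟨D, hD⟩ := exists_isDefectGroup hM B hB
  let P₀ : Sylow p G := Sylow.ofCard D (hcard D hD)
  obtain ⟨x, hx⟩ := MulAction.exists_smul_eq G P₀ P
  have h1 := isDefectGroup_conj hD x
  have h2 : D.map (MulAut.conj x).toMonoidHom = (P : Subgroup G) := by
    rw [← hx]
    rfl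
  rw [h2] at h1
  exact h1

end Cfsg.Agent.Lib.helper3.FongB
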