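import Mathlib
import Cfsg.Agent.Lib.helper3.CExt6
import Cfsg.Agent.Lib.helper3.CentralChar
import Cfsg.Agent.Lib.helper3.TransferChar
import Cfsg.Agent.Lib.helper3.AbelianInertia

/-!
# Extending invariant characters: reduction to linear characters of a central extension
-/

set_option autoImplicit false
set_option linter.style.haveILetI false
set_option linter.unusedSectionVars false

namespace Cfsg.Agent.Lib.helper3.CExt

open Cfsg Module Cfsg.Agent.Lib.helper3.Central Cfsg.Agent.Lib.helper3.CharBasic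
open Cfsg.Agent.Lib.helper3.Irr Cfsg.Agent.Lib.helper3.CycExt Cfsg.Agent.Lib.helper3.IndFun
open Cfsg.Agent.Lib.helper3.Lin
open scoped ComplexConjugate

universe u

section central

variable {E : Type*} [Group E] [Fintype E] (Z : Subgroup E) (hZ : Z ≤ Subgroup.center E)
variable {θ' : E → ℂ} (hθ' : IsIrrCharacter E θ')

include hZ hθ' in
/-- The central character: `θ'(g z) = (θ'(z)/θ'(1)) θ'(g)`. -/
theorem apply_mul_central' (g z : E) (hz : z ∈ Z) :
    θ' (g * z) = (θ' z / θ' 1) * θ' g := by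
  classical
  letI : Fintype Z := Fintype.ofFinite _
  have hres := isCharacter_restrict (isCharacter_of_isIrrCharacter hθ') Z
  have h0 : (fun n : Z => θ' n) ≠ 0 := by
    intro h
    have := congrFun h 1
    exact apply_one_ne_zero hθ' this
  obtain ⟨ψ, hψ⟩ := exists_constituent hres h0
  have h1 := apply_mul_central Z hZ ψ.2 hθ' hψ 1 ⟨z, hz⟩
  have h2 := apply_mul_central Z hZ ψ.2 hθ' hψ g ⟨z, hz⟩
  simp only [one_mul] at h1
  have h3 : (ψ : Z → ℂ) ⟨z, hz⟩ = θ' z / θ' 1 := by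
    rw [h1]
    field_simp [apply_one_ne_zero hθ']
  rw [← h3]
  exact h2

include hZ hθ' in
theorem central_ratio_mul (z w : E) (hz : z ∈ Z) (hw : w ∈ Z) :
    θ' (z * w) / θ' 1 = (θ' z / θ' 1) * (θ' w / θ' 1) := by
  rw [apply_mul_central' Z hZ hθ' z w hw]
  ring

include hZ hθ' in
theorem central_ratio_ne_zero (z : E) (hz : z ∈ Z) : θ' z / θ' 1 ≠ 0 := by
  intro h0
  have h1 := central_ratio_mul Z hZ hθ' z z⁻¹ hz (Z.inv_mem hz)
  rw [mul_inv_cancel, h0, zero_mul] at h1
  have h2 : θ' 1 / θ' 1 = 1 := div_self (apply_one_ne_zero hθ')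
  rw [h2] at h1
  exact one_ne_zero h1

end central


section ext

variable {G : Type*} {E : Type*} [Group G] [Group E] [Fintype E]
variable (π : E →* G) (hπ : Function.Surjective π) (hker : π.ker ≤ Subgroup.center E)
variable (N : Subgroup G) (ι : N →* E) (hπι : ∀ n : N, π (ι n) = n) (hnorm : ι.range.Normal)

/-- The central part of an element over `N`. -/
def zpart (x : E) (hx : π x ∈ N) : E := (ι ⟨π x, hx⟩)⁻¹ * x

include hπι in
theorem zpart_mem_ker (x : E) (hx : π x ∈ N) : zpart π N ι x hx ∈ π.ker := by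
  rw [MonoidHom.mem_ker]
  unfold zpart
  rw [map_mul, map_inv, hπι]
  simp

theorem mul_zpart (x : E) (hx : π x ∈ N) : ι ⟨π x, hx⟩ * zpart π N ι x hx = x := by
  unfold zpart
  rw [mul_inv_cancel_left]

include hker hπι hnorm in
theorem zpart_conj (x g : E) (hx : π x ∈ N) (hx' : π (g⁻¹ * x * g) ∈ N) :
    zpart π N ι (g⁻¹ * x * g) hx' = zpart π N ι x hx := by
  have h1 : g⁻¹ * ι ⟨π x, hx⟩ * g ∈ ι.range := by
    have := hnorm.conj_mem (ι ⟨π x, hx⟩) ⟨_, rfl⟩ g⁻¹
    rwa [inv_inv] at this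
  obtain ⟨n', hn'⟩ := h1
  have h2 : n' = ⟨π (g⁻¹ * x * g), hx'⟩ := by
    apply Subtype.ext
    have := congrArg π hn'
    rw [hπι, map_mul, map_mul, hπι] at this
    rw [this]
    show π g⁻¹ * π x * π g = π (g⁻¹ * x * g)
    rw [map_mul, map_mul]
  have hz := hker (zpart_mem_ker π N ι hπι x hx)
  have hzc : ∀ a : E, a * zpart π N ι x hx = zpart π N ι x hx * a :=
    fun a => Subgroup.mem_center_iff.mp hz a
  show (ι ⟨π (g⁻¹ * x * g), hx'⟩)⁻¹ * (g⁻¹ * x * g) = zpart π N ι x hx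
  rw [← h2, hn']
  have h3 : (g⁻¹ * ι ⟨π x, hx⟩ * g)⁻¹ * (g⁻¹ * x * g) = g⁻¹ * zpart π N ι x hx * g := by
    unfold zpart
    group
  rw [h3, mul_assoc, ← hzc g, ← mul_assoc, inv_mul_cancel, one_mul]

end ext

end Cfsg.Agent.Lib.helper3.CExt
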