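import Mathlib
import Cfsg.Agent.Lib.helper3.CExt7

/-!
# From an extension over a subgroup to a linear character of the central extension (transfer)
-/

set_option autoImplicit false
set_option linter.style.haveILetI false
set_option linter.unusedSectionVars false

namespace Cfsg.Agent.Lib.helper3.CExt

open Cfsg Module Cfsg.Agent.Lib.helper3.Central Cfsg.Agent.Lib.helper3.CharBasic
open Cfsg.Agent.Lib.helper3.Irr Cfsg.Agent.Lib.helper3.CycExt Cfsg.Agent.Lib.helper3.IndFun
open Cfsg.Agent.Lib.helper3.Lin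
open scoped ComplexConjugate

section ext

variable {G : Type*} {E : Type*} [Group G] [Group E] [Fintype E]
variable (π : E →* G) (hπ : Function.Surjective π) (hker : π.ker ≤ Subgroup.center E)
variable (N : Subgroup G) [hN : N.Normal] (ι : N →* E) (hπι : ∀ n : N, π (ι n) = n)
  (hnorm : ι.range.Normal)
variable {θ' : E → ℂ} (hθ' : IsIrrCharacter E θ')
  (hθ'K : IsIrrCharacter ι.range (fun y : ι.range => θ' y))

include hπ hker hπι hnorm hθ' hθ'K in
/-- If `θ` extends to `P ≥ N`, the transfer produces a linear character of `E`, trivial on the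
image of `N`, which on the central kernel is the `(-|G:P|)`-th power of the central character
of `θ'`. -/
theorem exists_hom_of_extension (P : Subgroup G) (hNP : N ≤ P) (η : P → ℂ)
    (hη : IsIrrCharacter P η) (hηN : ∀ n : N, η ⟨(n : G), hNP n.2⟩ = θ' (ι n)) :
    ∃ μ : E →* ℂˣ, (∀ n : N, μ (ι n) = 1) ∧
      ∀ z ∈ π.ker, ((μ z : ℂˣ) : ℂ) * (θ' z / θ' 1) ^ P.index = 1 := by
  classical
  haveI := hnorm
  letI : Fintype (P.comap π) := Fintype.ofFinite _
  have hKP : ι.range ≤ P.comap π := by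
    rintro _ ⟨n, rfl⟩
    show π (ι n) ∈ P
    rw [hπι]; exact hNP n.2
  haveI : (ι.range.subgroupOf (P.comap π)).Normal := inferInstance
  letI : Fintype (ι.range.subgroupOf (P.comap π)) := Fintype.ofFinite _
  have hη'c : IsCharacter (P.comap π) (fun y : P.comap π => θ' y) :=
    isCharacter_restrict (isCharacter_of_isIrrCharacter hθ') _
  have hη'N : IsIrrCharacter (ι.range.subgroupOf (P.comap π))
      (fun w : ι.range.subgroupOf (P.comap π) => θ' ((w : P.comap π) : E)) :=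
    isIrrCharacter_comp_mulEquiv (Subgroup.subgroupOfEquivOfLe hKP) hθ'K
  have hη' : IsIrrCharacter (P.comap π) (fun y : P.comap π => θ' y) :=
    isIrrCharacter_of_restrict (ι.range.subgroupOf (P.comap π)) hη'c hη'N
  have hχ' : IsIrrCharacter (P.comap π) (fun y : P.comap π => η (π.subgroupComap P y)) :=
    isIrrCharacter_comp_surjective (π.subgroupComap P)
      (π.subgroupComap_surjective_of_surjective P hπ) hη
  have hres : ∀ w : ι.range.subgroupOf (P.comap π),
      (fun y : P.comap π => η (π.subgroupComap P y)) (w : P.comap π)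
        = (fun y : P.comap π => θ' y) (w : P.comap π) := by
    intro w
    obtain ⟨n, hn⟩ : ∃ n : N, ι n = ((w : P.comap π) : E) := Subgroup.mem_subgroupOf.mp w.2
    show η (π.subgroupComap P (w : P.comap π)) = θ' ((w : P.comap π) : E)
    rw [← hn, ← hηN n]
    apply congrArg η
    apply Subtype.ext
    show π ((w : P.comap π) : E) = n
    rw [← hn, hπι]
  obtain ⟨β, hβc, hβ1, hβN, hβeq⟩ := exists_linear_mul_of_restrict_eq
    (ι.range.subgroupOf (P.comap π)) _ _ hη' hχ' hη'N hres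
  obtain ⟨ϕ, hϕ⟩ : ∃ ϕ : P.comap π →* ℂˣ, ∀ y, ((ϕ y : ℂˣ) : ℂ) = β y :=
    ⟨toUnitsHom hβc hβ1, toUnitsHom_apply hβc hβ1⟩
  have hβmul : ∀ a b : P.comap π, β (a * b) = β a * β b :=
    map_mul_of_apply_one_eq_one hβc hβ1
  have hθ1 : θ' 1 ≠ 0 := apply_one_ne_zero hθ'
  -- on the kernel
  have hβz : ∀ y : P.comap π, (y : E) ∈ π.ker → β y * (θ' (y : E) / θ' 1) = 1 := by
    intro y hy
    have h1 := congrFun hβeq y
    simp only [Pi.mul_apply] at h1
    have h2 : π.subgroupComap P y = 1 := Subtype.ext (MonoidHom.mem_ker.mp hy)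
    rw [h2] at h1
    have h3 : η 1 = θ' 1 := by
      have := hηN 1
      rw [map_one] at this
      rw [← this]
      rfl
    rw [h3] at h1
    rw [mul_div_assoc', ← h1]
    exact div_self hθ1
  -- elements over `N`
  have hβA : ∀ (y w : P.comap π) (hy : π (y : E) ∈ N),
      (w : E) = zpart π N ι (y : E) hy → β y = β w := by
    intro y w hy hw
    obtain ⟨u, hu⟩ : ∃ u : P.comap π, (u : E) = ι ⟨π (y : E), hy⟩ :=
      ⟨⟨_, hKP ⟨_, rfl⟩⟩, rfl⟩
    have hyuw : y = u * w := by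
      apply Subtype.ext
      show (y : E) = (u : E) * (w : E)
      rw [hu, hw, mul_zpart]
    have hu1 : β u = 1 := by
      have := hβN ⟨u, Subgroup.mem_subgroupOf.mpr (by rw [hu]; exact ⟨_, rfl⟩)⟩
      exact this
    rw [hyuw, hβmul, hu1, one_mul]
  -- the transfer
  obtain ⟨μ, hμ⟩ : ∃ μ : E →* ℂˣ, μ = MonoidHom.transfer ϕ := ⟨_, rfl⟩
  have hidx : (P.comap π).index = P.index := Subgroup.index_comap_of_surjective _ hπ
  have hμA : ∀ (y : P.comap π), π (y : E) ∈ N → μ (y : E) = (ϕ y) ^ P.index := by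
    intro y hy
    rw [hμ, ← hidx]
    apply transfer_eq_pow_of_invariant ϕ (y : E) (ϕ y)
    intro k g₀ hk
    have hyk : π ((y : E) ^ k) ∈ N := by
      rw [map_pow]; exact N.pow_mem hy k
    have hconj : π (g₀⁻¹ * (y : E) ^ k * g₀) ∈ N := by
      have : π (g₀⁻¹ * (y : E) ^ k * g₀) = (π g₀)⁻¹ * π ((y : E) ^ k) * (π g₀)⁻¹⁻¹ := by
        rw [map_mul, map_mul, map_inv, inv_inv]
      rw [this]
      exact hN.conj_mem _ hyk _
    obtain ⟨w, hw⟩ : ∃ w : P.comap π, (w : E) = zpart π N ι ((y : E) ^ k) hyk := by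
      refine ⟨⟨_, ?_⟩, rfl⟩
      show π (zpart π N ι ((y : E) ^ k) hyk) ∈ P
      rw [MonoidHom.mem_ker.mp (zpart_mem_ker π N ι hπι _ hyk)]
      exact P.one_mem
    have e1 : β ⟨g₀⁻¹ * (y : E) ^ k * g₀, hk⟩ = β w :=
      hβA ⟨g₀⁻¹ * (y : E) ^ k * g₀, hk⟩ w hconj
        (by rw [hw]; exact (zpart_conj π hker N ι hπι hnorm _ g₀ hyk hconj).symm)
    have e2 : β (y ^ k) = β w := hβA (y ^ k) w hyk hw
    apply Units.ext
    rw [hϕ, e1, ← e2, ← hϕ, map_pow]
  refine ⟨μ, ?_, ?_⟩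
  · intro n
    obtain ⟨u, hu⟩ : ∃ u : P.comap π, (u : E) = ι n := ⟨⟨_, hKP ⟨_, rfl⟩⟩, rfl⟩
    have hun : π (u : E) ∈ N := by rw [hu, hπι]; exact n.2
    have hu1 : ϕ u = 1 := by
      apply Units.ext
      rw [hϕ, Units.val_one]
      exact hβN ⟨u, Subgroup.mem_subgroupOf.mpr (by rw [hu]; exact ⟨_, rfl⟩)⟩
    rw [← hu, hμA u hun, hu1, one_pow]
  · intro z hz
    obtain ⟨y, hy⟩ : ∃ y : P.comap π, (y : E) = z := by
      refine ⟨⟨z, ?_⟩, rfl⟩
      show π z ∈ P
      rw [MonoidHom.mem_ker.mp hz]; exact P.one_mem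
    have hyN : π (y : E) ∈ N := by
      rw [hy, MonoidHom.mem_ker.mp hz]; exact N.one_mem
    rw [← hy, hμA y hyN, Units.val_pow_eq_pow_val, hϕ, ← mul_pow, hβz y (by rw [hy]; exact hz),
      one_pow]

end ext

end Cfsg.Agent.Lib.helper3.CExt
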