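import Mathlib
import Cfsg.Agent.Lib.helper3.CExt8

/-!
# Assembling the extension from linear characters of coprime exponents
-/

set_option autoImplicit false
set_option linter.style.haveILetI false
set_option linter.unusedSectionVars false

namespace Cfsg.Agent.Lib.helper3.CExt

open Cfsg Module Cfsg.Agent.Lib.helper3.Central Cfsg.Agent.Lib.helper3.CharBasic
open Cfsg.Agent.Lib.helper3.Irr Cfsg.Agent.Lib.helper3.CycExt Cfsg.Agent.Lib.helper3.IndFun
open Cfsg.Agent.Lib.helper3.Lin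
open scoped ComplexConjugate

universe u

section ext

variable {G : Type*} {E : Type*} [Group G] [Group E] [Fintype E]
variable (π : E →* G) (hπ : Function.Surjective π) (hker : π.ker ≤ Subgroup.center E)
variable (N : Subgroup G) (ι : N →* E) (hπι : ∀ n : N, π (ι n) = n)
variable {θ' : E → ℂ} (hθ' : IsIrrCharacter E θ')

/-- The exponents `j` for which a suitable linear character exists. -/
def expSubgroup (hker : π.ker ≤ Subgroup.center E) (hθ' : IsIrrCharacter E θ') :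
    AddSubgroup ℤ where
  carrier := {j | ∃ μ : E →* ℂˣ, (∀ n : N, μ (ι n) = 1) ∧
    ∀ z ∈ π.ker, ((μ z : ℂˣ) : ℂ) * (θ' z / θ' 1) ^ j = 1}
  zero_mem' := ⟨1, fun _ => rfl, fun z _ => by simp⟩
  add_mem' := by
    rintro a b ⟨μ₁, h1, h1'⟩ ⟨μ₂, h2, h2'⟩
    refine ⟨μ₁ * μ₂, fun n => by rw [MonoidHom.mul_apply, h1, h2, one_mul], ?_⟩
    intro z hz
    have hne := central_ratio_ne_zero π.ker hker hθ' z hz
    rw [MonoidHom.mul_apply, Units.val_mul, zpow_add₀ hne]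
    calc ((μ₁ z : ℂˣ) : ℂ) * ((μ₂ z : ℂˣ) : ℂ) * ((θ' z / θ' 1) ^ a * (θ' z / θ' 1) ^ b)
        = (((μ₁ z : ℂˣ) : ℂ) * (θ' z / θ' 1) ^ a) * (((μ₂ z : ℂˣ) : ℂ) * (θ' z / θ' 1) ^ b) := by
          ring
      _ = 1 := by rw [h1' z hz, h2' z hz, one_mul]
  neg_mem' := by
    rintro a ⟨μ, h1, h1'⟩
    refine ⟨μ⁻¹, fun n => by rw [MonoidHom.inv_apply, h1, inv_one], ?_⟩
    intro z hz
    rw [MonoidHom.inv_apply, Units.val_inv_eq_inv_val, zpow_neg, ← mul_inv, h1' z hz, inv_one]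

theorem mem_expSubgroup_iff (j : ℤ) : j ∈ expSubgroup π N ι hker hθ' ↔
    ∃ μ : E →* ℂˣ, (∀ n : N, μ (ι n) = 1) ∧
      ∀ z ∈ π.ker, ((μ z : ℂˣ) : ℂ) * (θ' z / θ' 1) ^ j = 1 := Iff.rfl

include hπ hπι hker hθ' in
/-- If for every prime there is a linear character with exponent prime to it, the character
`θ` (read on `N` through `ι`) extends to `G`. -/
theorem exists_extension_of_homs
    (hprimes : ∀ p : ℕ, p.Prime → ∃ (k : ℕ) (μ : E →* ℂˣ), Nat.Coprime k p ∧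
      (∀ n : N, μ (ι n) = 1) ∧ ∀ z ∈ π.ker, ((μ z : ℂˣ) : ℂ) * (θ' z / θ' 1) ^ k = 1) :
    ∃ χ : G → ℂ, IsIrrCharacter G χ ∧ ∀ n : N, χ n = θ' (ι n) := by
  classical
  have hmem : ∀ p : ℕ, p.Prime → ∃ k : ℕ, Nat.Coprime k p ∧
      (k : ℤ) ∈ expSubgroup π N ι hker hθ' := by
    intro p hp
    obtain ⟨k, μ, hkp, h1, h2⟩ := hprimes p hp
    refine ⟨k, hkp, μ, h1, ?_⟩
    intro z hz
    rw [zpow_natCast]
    exact h2 z hz
  obtain ⟨a, ha⟩ := Int.subgroup_cyclic (expSubgroup π N ι hker hθ')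
  have hdvd : ∀ j : ℤ, j ∈ expSubgroup π N ι hker hθ' → a ∣ j := by
    intro j hj
    rw [ha, AddSubgroup.mem_closure_singleton] at hj
    obtain ⟨m, hm⟩ := hj
    exact ⟨m, by rw [← hm, smul_eq_mul, mul_comm]⟩
  have hone : a.natAbs = 1 := by
    by_contra hne
    obtain ⟨q, hq, hqa⟩ := Nat.exists_prime_and_dvd hne
    obtain ⟨k, hkq, hk⟩ := hmem q hq
    have h1 : a ∣ (k : ℤ) := hdvd _ hk
    have h2 : a.natAbs ∣ k := by
      have := Int.natAbs_dvd_natAbs.mpr h1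
      simpa using this
    have h3 : q ∣ k := dvd_trans hqa h2
    have h4 : q ∣ Nat.gcd k q := Nat.dvd_gcd h3 dvd_rfl
    rw [hkq] at h4
    exact hq.one_lt.ne' (Nat.dvd_one.mp h4)
  have h1mem : (1 : ℤ) ∈ expSubgroup π N ι hker hθ' := by
    rw [ha, AddSubgroup.mem_closure_singleton]
    rcases Int.natAbs_eq a with h | h
    · exact ⟨1, by rw [h, hone]; simp⟩
    · exact ⟨-1, by rw [h, hone]; simp⟩
  obtain ⟨μ, hμN, hμz⟩ := (mem_expSubgroup_iff π hker N ι hθ' 1).mp h1mem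
  -- the character on `E`
  have hlamc : IsCharacter E (fun g => ((μ g : ℂˣ) : ℂ)) := isCharacter_of_hom μ
  have hlam1 : (fun g => ((μ g : ℂˣ) : ℂ)) 1 = 1 := by simp
  have hirr : IsIrrCharacter E ((fun g => ((μ g : ℂˣ) : ℂ)) * θ') :=
    isIrrCharacter_linear_mul hlamc hlam1 hθ'
  have hconst : ∀ g n : E, n ∈ π.ker →
      ((fun g => ((μ g : ℂˣ) : ℂ)) * θ') (g * n) = ((fun g => ((μ g : ℂˣ) : ℂ)) * θ') g := by
    intro g n hn
    have h1 := hμz n hn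
    rw [zpow_one] at h1
    simp only [Pi.mul_apply]
    rw [map_mul, Units.val_mul, apply_mul_central' π.ker hker hθ' g n hn]
    calc ((μ g : ℂˣ) : ℂ) * ((μ n : ℂˣ) : ℂ) * (θ' n / θ' 1 * θ' g)
        = (((μ n : ℂˣ) : ℂ) * (θ' n / θ' 1)) * (((μ g : ℂˣ) : ℂ) * θ' g) := by ring
      _ = _ := by rw [h1, one_mul]
  obtain ⟨ψ, hψ, hχψ⟩ := exists_eq_inflate hirr π.ker hconst
  obtain ⟨iso, hiso⟩ : ∃ iso : E ⧸ π.ker ≃* G, ∀ x : E, iso (x : E ⧸ π.ker) = π x :=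
    ⟨QuotientGroup.quotientKerEquivOfSurjective π hπ, fun x => rfl⟩
  haveI : Finite G := Finite.of_surjective π hπ
  haveI : Finite (E ⧸ π.ker) := inferInstance
  refine ⟨fun g => ψ (iso.symm g), isIrrCharacter_comp_mulEquiv iso.symm hψ, ?_⟩
  intro n
  have h1 : iso.symm (n : G) = ((ι n : E) : E ⧸ π.ker) := by
    rw [MulEquiv.symm_apply_eq, hiso, hπι]
  show ψ (iso.symm (n : G)) = θ' (ι n)
  rw [h1]
  have h2 := congrFun hχψ (ι n)
  rw [inflate_apply] at h2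
  rw [← h2]
  simp only [Pi.mul_apply]
  rw [hμN n, Units.val_one, one_mul]

end ext


/-- **Isaacs 11.31** (without the `p`-power condition): an invariant irreducible character of a
normal subgroup extends to `G` as soon as, for every prime `p`, it extends to some subgroup of
index prime to `p`. -/
theorem extends_of_local {G : Type u} [Group G] [Fintype G] (N : Subgroup G) [hN : N.Normal]
    [Fintype N] (ϑ : N → ℂ) (hϑ : IsIrrCharacter N ϑ)
    (hinv : ∀ (g : G) (n : N), ϑ ⟨g * n * g⁻¹, hN.conj_mem (n : G) n.2 g⟩ = ϑ n)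
    (hsyl : ∀ p : ℕ, p.Prime → ∃ (P : Subgroup G) (hNP : N ≤ P) (η : P → ℂ),
      Nat.Coprime P.index p ∧ IsIrrCharacter P η ∧ ∀ n : N, η ⟨(n : G), hNP n.2⟩ = ϑ n) :
    ∃ χ : G → ℂ, IsIrrCharacter G χ ∧ ∀ n : N, χ n = ϑ n := by
  classical
  obtain ⟨E, iG, iF, π, ι, θ', hπ, hker, hπι, hnorm, hθ', hθ'ι, hθ'K⟩ :=
    exists_central_extension N ϑ hϑ hinv
  have key := exists_extension_of_homs π hπ hker N ι hπι hθ' (by
    intro p hp
    obtain ⟨P, hNP, η, hcop, hη, hηN⟩ := hsyl p hp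
    obtain ⟨μ, h1, h2⟩ := exists_hom_of_extension π hπ hker N ι hπι hnorm hθ' hθ'K P hNP η hη
      (fun n => by rw [hηN n, hθ'ι])
    exact ⟨P.index, μ, hcop, h1, h2⟩)
  obtain ⟨χ, hχ, hχN⟩ := key
  exact ⟨χ, hχ, fun n => by rw [hχN n, hθ'ι]⟩

end Cfsg.Agent.Lib.helper3.CExt
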