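import Mathlib

/-!
# Fixed points of a self-map of `2`-power order on a finite set of even size
-/

set_option autoImplicit false
set_option linter.style.haveILetI false
set_option linter.unusedSectionVars false

namespace Cfsg.Agent.Lib.helper3.GalFix

/-- A self-map of `p`-power order on a finite set has a number of fixed points congruent to the size
of the set modulo `p`. -/
theorem card_fixed_modEq_of_iterate {X : Type*} [Finite X] (p : ℕ) [hp : Fact p.Prime]
    (f : X → X) (a : ℕ) (hf : ∀ x, f^[p ^ a] x = x) :
    Nat.card X ≡ Nat.card {x : X // f x = x} [MOD p] := by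
  classical
  have hN : 0 < p ^ a := pow_pos hp.out.pos a
  obtain ⟨N, hNdef⟩ : ∃ N : ℕ, N = p ^ a := ⟨_, rfl⟩
  rw [← hNdef] at hf hN
  let σ : Equiv.Perm X :=
    { toFun := f
      invFun := f^[N - 1]
      left_inv := by
        intro x
        have : f^[N - 1] (f x) = f^[N - 1 + 1] x := (Function.iterate_succ_apply f (N - 1) x).symm
        rw [this, Nat.sub_add_cancel hN, hf]
      right_inv := by
        intro x
        have : f (f^[N - 1] x) = f^[N - 1 + 1] x := (Function.iterate_succ_apply' f (N - 1) x).symm
        rw [this, Nat.sub_add_cancel hN, hf] }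
  have hσf : ∀ x, σ x = f x := fun _ => rfl
  have hσN : σ ^ N = 1 := by
    ext x
    rw [← Equiv.Perm.iterate_eq_pow]
    have : (⇑σ)^[N] = f^[N] := by
      congr 1
    rw [this, hf]
    rfl
  have hP : IsPGroup p (Subgroup.zpowers σ) := by
    intro s
    refine ⟨a, ?_⟩
    obtain ⟨z, hz⟩ := Subgroup.mem_zpowers_iff.mp s.2
    apply Subtype.ext
    rw [Subgroup.coe_pow, ← hz, ← hNdef, ← zpow_natCast, ← zpow_mul, mul_comm, zpow_mul,
      zpow_natCast, hσN, one_zpow]
    rfl
  have hmod := hP.card_modEq_card_fixedPoints X
  have hfix : Nat.card (MulAction.fixedPoints (Subgroup.zpowers σ) X)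
      = Nat.card {x : X // f x = x} := by
    apply Nat.card_congr
    apply Equiv.subtypeEquivRight
    intro x
    rw [MulAction.mem_fixedPoints]
    constructor
    · intro h
      have := h ⟨σ, Subgroup.mem_zpowers σ⟩
      exact this
    · intro h s
      obtain ⟨z, hz⟩ := Subgroup.mem_zpowers_iff.mp s.2
      show (s : Equiv.Perm X) x = x
      rw [← hz]
      exact Equiv.Perm.zpow_apply_eq_self_of_apply_eq_self h z
  rw [hfix] at hmod
  exact hmod

end Cfsg.Agent.Lib.helper3.GalFix
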