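import Mathlib
import Cfsg.Prelude.Def_Characters
import Cfsg.Agent.Lib.helper3.GalFix4
import Cfsg.Agent.Lib.helper3.Irr5

/-!
# Weighted fixed-point congruences and restriction in stages
-/

set_option autoImplicit false
set_option linter.style.haveILetI false
set_option linter.unusedSectionVars false

namespace Cfsg.Agent.Lib.helper3.GlP

open Cfsg Cfsg.Agent.Lib.helper3.Irr
open scoped ComplexConjugate

section weighted

variable {X : Type*} [Fintype X] [DecidableEq X]

/-- The weighted form of the fixed-point congruence for a self-map of `p`-power order. -/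
theorem sum_modEq_sum_fixed (p : ℕ) [hp : Fact p.Prime] (σ : X → X) (a : ℕ)
    (hσ : ∀ x, σ^[p ^ a] x = x) (f : X → ℕ) (hf : ∀ x, f (σ x) = f x) :
    ∑ x, f x ≡ ∑ x ∈ Finset.univ.filter (fun x => σ x = x), f x [MOD p] := by
  classical
  -- the auxiliary set
  let Y := {q : X × ℕ // q.2 < f q.1}
  let eY : Y ≃ (Σ x : X, Fin (f x)) :=
    { toFun := fun q => ⟨q.1.1, ⟨q.1.2, q.2⟩⟩
      invFun := fun r => ⟨(r.1, r.2), r.2.2⟩
      left_inv := fun q => rfl
      right_inv := fun r => rfl }
  haveI : Finite Y := Finite.of_equiv _ eY.symm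
  let τ : Y → Y := fun q => ⟨(σ q.1.1, q.1.2), by
    show q.1.2 < f (σ q.1.1)
    rw [hf]
    exact q.2⟩
  have hτ1 : ∀ (k : ℕ) (q : Y), (τ^[k] q).1.1 = σ^[k] q.1.1 := by
    intro k
    induction k with
    | zero => intro q; rfl
    | succ k ih =>
      intro q
      rw [Function.iterate_succ_apply, Function.iterate_succ_apply, ih]
  have hτ2 : ∀ (k : ℕ) (q : Y), (τ^[k] q).1.2 = q.1.2 := by
    intro k
    induction k with
    | zero => intro q; rfl
    | succ k ih =>
      intro q
      rw [Function.iterate_succ_apply, ih]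
  have hτ : ∀ q : Y, τ^[p ^ a] q = q := by
    intro q
    apply Subtype.ext
    apply Prod.ext
    · rw [hτ1, hσ]
    · rw [hτ2]
  have hmod := Cfsg.Agent.Lib.helper3.GalFix.card_fixed_modEq_of_iterate p τ a hτ
  have hcardY : Nat.card Y = ∑ x, f x := by
    rw [Nat.card_congr eY, Nat.card_eq_fintype_card, Fintype.card_sigma]
    simp
  let eF : {q : Y // τ q = q} ≃ (Σ x : {x : X // σ x = x}, Fin (f x)) :=
    { toFun := fun q => ⟨⟨q.1.1.1, by
          have := congrArg (fun r : Y => r.1.1) q.2
          exact this⟩, ⟨q.1.1.2, q.1.2⟩⟩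
      invFun := fun r => ⟨⟨((r.1 : X), (r.2 : ℕ)), r.2.2⟩, by
          apply Subtype.ext
          apply Prod.ext
          · exact r.1.2
          · rfl⟩
      left_inv := fun q => rfl
      right_inv := fun r => rfl }
  have hcardF : Nat.card {q : Y // τ q = q}
      = ∑ x ∈ Finset.univ.filter (fun x => σ x = x), f x := by
    rw [Nat.card_congr eF, Nat.card_eq_fintype_card, Fintype.card_sigma]
    simp only [Fintype.card_fin]
    rw [Finset.sum_subtype (Finset.univ.filter (fun x => σ x = x)) (p := fun x => σ x = x)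
      (fun x => by simp) f]
  rw [hcardY, hcardF] at hmod
  exact hmod

end weighted

section stages

variable {Γ : Type*} [Group Γ]

/-- Restriction in stages: multiplicities multiply and add up. -/
theorem classInner_restrict_stages [Finite Γ] (G B C : Subgroup Γ) [Fintype G] [Fintype B]
    [Fintype C] (hCB : C ≤ B) (hBG : B ≤ G) (χ : G → ℂ) (hχ : IsCharacter G χ)
    (β : C → ℂ) :
    classInner (fun c : C => χ ⟨c, hBG (hCB c.2)⟩) β
      = ∑ ψ : IrrCharacter B, classInner (fun b : B => χ ⟨b, hBG b.2⟩) (ψ : B → ℂ) *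
          classInner (fun c : C => (ψ : B → ℂ) ⟨c, hCB c.2⟩) β := by
  classical
  have hχB : IsCharacter B (fun b : B => χ ⟨b, hBG b.2⟩) :=
    isCharacter_comp hχ (Subgroup.inclusion hBG)
  have hdec := isCharacter_eq_sum_classInner hχB
  have h1 : (fun c : C => χ ⟨c, hBG (hCB c.2)⟩)
      = ∑ ψ : IrrCharacter B, classInner (fun b : B => χ ⟨b, hBG b.2⟩) (ψ : B → ℂ) •
          (fun c : C => (ψ : B → ℂ) ⟨c, hCB c.2⟩) := by
    funext c
    have := congrFun hdec ⟨c, hCB c.2⟩
    simp only [Finset.sum_apply, Pi.smul_apply, smul_eq_mul] at this ⊢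
    exact this
  rw [h1, classInner_sum_left]
  apply Finset.sum_congr rfl
  intro ψ _
  rw [classInner_smul_left]

end stages

end Cfsg.Agent.Lib.helper3.GlP
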