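import Mathlib

set_option autoImplicit false
set_option linter.style.haveILetI false
set_option linter.unusedSectionVars false

/-!
# Conjugacy of cyclic complements of coprime order
-/

namespace Cfsg.Agent.Lib.helper3.CoprimeConj

variable {G : Type*} [Group G]

theorem zpow_congr (H : Subgroup G) (g v : G) (hg : g ∈ Subgroup.normalizer (H : Set G))
    (hv : v * g⁻¹ ∈ H) (k : ℤ) : v ^ k * (g ^ k)⁻¹ ∈ H := by
  have hHN : H ≤ Subgroup.normalizer (H : Set G) := Subgroup.le_normalizer
  have hvN : v ∈ Subgroup.normalizer (H : Set G) := by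
    have : v = (v * g⁻¹) * g := by group
    rw [this]
    exact (Subgroup.normalizer (H : Set G)).mul_mem (hHN hv) hg
  haveI : (H.subgroupOf (Subgroup.normalizer (H : Set G))).Normal := Subgroup.normal_in_normalizer
  have h1 : ((⟨v, hvN⟩ : Subgroup.normalizer (H : Set G)) :
        Subgroup.normalizer (H : Set G) ⧸ H.subgroupOf (Subgroup.normalizer (H : Set G)))
      = ((⟨g, hg⟩ : Subgroup.normalizer (H : Set G)) :
        Subgroup.normalizer (H : Set G) ⧸ H.subgroupOf (Subgroup.normalizer (H : Set G))) := by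
    rw [QuotientGroup.eq_iff_div_mem, Subgroup.mem_subgroupOf]
    simpa [div_eq_mul_inv] using hv
  have h2 : (((⟨v, hvN⟩ : Subgroup.normalizer (H : Set G)) ^ k :
        Subgroup.normalizer (H : Set G)) :
        Subgroup.normalizer (H : Set G) ⧸ H.subgroupOf (Subgroup.normalizer (H : Set G)))
      = (((⟨g, hg⟩ : Subgroup.normalizer (H : Set G)) ^ k : Subgroup.normalizer (H : Set G)) :
        Subgroup.normalizer (H : Set G) ⧸ H.subgroupOf (Subgroup.normalizer (H : Set G))) := by
    rw [QuotientGroup.mk_zpow, QuotientGroup.mk_zpow, h1]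
  rw [QuotientGroup.eq_iff_div_mem, Subgroup.mem_subgroupOf] at h2
  simpa [div_eq_mul_inv] using h2

theorem conj_of_prime_pow [Finite G] (p a : ℕ) [hp : Fact p.Prime] (H : Subgroup G) (g v : G)
    (hg : g ∈ Subgroup.normalizer (H : Set G)) (hgn : g ^ (p ^ a) = 1) (hvn : v ^ (p ^ a) = 1)
    (hcop : ¬ p ∣ Nat.card H) (hv : v * g⁻¹ ∈ H) : ∃ x ∈ H, x * v * x⁻¹ = g := by
  have hmem : ∀ x : H, v * x * g⁻¹ ∈ H := by
    intro x
    have : v * x * g⁻¹ = (v * g⁻¹) * (g * x * g⁻¹) := by group
    rw [this]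
    exact H.mul_mem hv ((Subgroup.mem_normalizer_iff.mp hg x).mp x.2)
  let T0 : H → H := fun x => ⟨v * x * g⁻¹, hmem x⟩
  have hinj : Function.Injective T0 := by
    intro x y hxy
    have := congrArg Subtype.val hxy
    simp only [T0] at this
    exact Subtype.ext (by simpa using this)
  let T : Equiv.Perm H := Equiv.ofBijective T0 (Finite.injective_iff_bijective.mp hinj)
  have hT1 : ∀ x : H, ((T x : H) : G) = v * x * g⁻¹ := fun x => rfl
  have hTk : ∀ (k : ℕ) (x : H), (((T ^ k) x : H) : G) = v ^ k * x * (g ^ k)⁻¹ := by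
    intro k
    induction k with
    | zero => intro x; simp
    | succ k ih =>
      intro x
      rw [pow_succ', Equiv.Perm.mul_apply, hT1, ih, pow_succ', pow_succ']
      group
  have hTpow : T ^ (p ^ a) = 1 := by
    ext x
    rw [hTk, hgn, hvn]
    simp
  have hP : IsPGroup p (Subgroup.zpowers T) := by
    intro y
    refine ⟨a, ?_⟩
    obtain ⟨k, hk⟩ := y.2
    apply Subtype.ext
    rw [Subgroup.coe_pow, ← hk]
    simp only [Subgroup.coe_one]
    rw [← zpow_natCast, ← zpow_mul, mul_comm, zpow_mul, zpow_natCast, hTpow, one_zpow]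
  obtain ⟨x, hx⟩ := hP.nonempty_fixed_point_of_prime_not_dvd_card H hcop
  have hfix : T x = x := hx ⟨T, Subgroup.mem_zpowers T⟩
  have hfix' : v * x * g⁻¹ = x := by
    have := congrArg Subtype.val hfix
    rwa [hT1] at this
  refine ⟨x⁻¹, H.inv_mem x.2, ?_⟩
  rw [inv_inv]
  have : v * (x : G) = x * g := mul_inv_eq_iff_eq_mul.mp hfix'
  rw [mul_assoc, this]
  group

theorem conj_of_coprime [Finite G] : ∀ (n : ℕ) (H : Subgroup G) (g v : G),
    g ∈ Subgroup.normalizer (H : Set G) → g ^ n = 1 → v ^ n = 1 → Nat.Coprime n (Nat.card H) →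
    v * g⁻¹ ∈ H → ∃ x ∈ H, x * v * x⁻¹ = g := by
  intro n
  induction n using Nat.strong_induction_on with
  | _ n ih =>
    intro H g v hg hgn hvn hcop hv
    rcases Nat.lt_or_ge n 2 with hn | hn
    · interval_cases n
      · -- n = 0
        rw [Nat.coprime_zero_left] at hcop
        have hbot : H = ⊥ := Subgroup.card_eq_one.mp hcop
        rw [hbot, Subgroup.mem_bot] at hv
        refine ⟨1, H.one_mem, ?_⟩
        rw [one_mul, inv_one, mul_one]
        exact mul_inv_eq_one.mp hv
      · -- n = 1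
        rw [pow_one] at hgn hvn
        exact ⟨1, H.one_mem, by rw [hgn, hvn]; simp⟩
    · have hn0 : n ≠ 0 := by omega
      have hp : (n.minFac).Prime := Nat.minFac_prime (by omega)
      haveI : Fact (n.minFac).Prime := ⟨hp⟩
      set p := n.minFac with hpdef
      obtain ⟨a, m, hpm, hnm⟩ := Nat.exists_eq_pow_mul_and_not_dvd hn0 p hp.ne_one
      have hpn : p ∣ n := Nat.minFac_dvd n
      have ha : a ≠ 0 := by
        rintro rfl
        rw [pow_zero, one_mul] at hnm
        exact hpm (hnm ▸ hpn)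
      have hm0 : m ≠ 0 := by
        rintro rfl
        rw [mul_zero] at hnm
        exact hn0 hnm
      have hmn : m < n := by
        rw [hnm]
        have h2 : 2 ≤ p ^ a := by
          calc 2 ≤ p := hp.two_le
            _ = p ^ 1 := (pow_one p).symm
            _ ≤ p ^ a := Nat.pow_le_pow_right hp.pos (Nat.one_le_iff_ne_zero.mpr ha)
        nlinarith [Nat.pos_of_ne_zero hm0]
      have hcopam : Nat.Coprime (p ^ a) m :=
        Nat.Coprime.pow_left a ((Nat.Prime.coprime_iff_not_dvd hp).mpr hpm)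
      -- Bezout
      have hbez : (1 : ℤ) = (p ^ a : ℕ) * Nat.gcdA (p ^ a) m + (m : ℕ) * Nat.gcdB (p ^ a) m := by
        have := Nat.gcd_eq_gcd_ab (p ^ a) m
        rw [hcopam] at this
        exact_mod_cast this
      set s : ℤ := Nat.gcdA (p ^ a) m
      set t : ℤ := Nat.gcdB (p ^ a) m
      -- the `p`-parts
      have hzpow : ∀ w : G, w ^ n = 1 → (w ^ ((m : ℤ) * t)) ^ (p ^ a) = 1 := by
        intro w hw
        rw [← zpow_natCast, ← zpow_mul]
        have : (m : ℤ) * t * ((p ^ a : ℕ) : ℤ) = (n : ℤ) * t := by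
          rw [hnm]; push_cast; ring
        rw [this, zpow_mul, zpow_natCast, hw, one_zpow]
      have hzpow2 : ∀ w : G, w ^ n = 1 → (w ^ (((p ^ a : ℕ) : ℤ) * s)) ^ m = 1 := by
        intro w hw
        rw [← zpow_natCast, ← zpow_mul]
        have : ((p ^ a : ℕ) : ℤ) * s * (m : ℤ) = (n : ℤ) * s := by
          rw [hnm]; push_cast; ring
        rw [this, zpow_mul, zpow_natCast, hw, one_zpow]
      have hsplit : ∀ w : G, w = w ^ (((p ^ a : ℕ) : ℤ) * s) * w ^ ((m : ℤ) * t) := by
        intro w
        rw [← zpow_add, ← hbez, zpow_one]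
      have hpH : ¬ p ∣ Nat.card H := by
        intro h
        have := Nat.dvd_gcd hpn h
        rw [hcop] at this
        exact hp.one_lt.ne' (Nat.dvd_one.mp this)
      obtain ⟨x, hxH, hx⟩ := conj_of_prime_pow p a H (g ^ ((m : ℤ) * t)) (v ^ ((m : ℤ) * t))
        ((Subgroup.normalizer (H : Set G)).zpow_mem hg _) (hzpow g hgn) (hzpow v hvn) hpH
        (zpow_congr H g v hg hv _)
      -- replace `v` by its conjugate
      set v' := x * v * x⁻¹ with hv'
      set z := g ^ ((m : ℤ) * t) with hz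
      have hv'z : v' ^ ((m : ℤ) * t) = z := by
        rw [hv', conj_zpow]
        exact hx
      have hv'n : v' ^ n = 1 := by
        rw [hv', conj_pow, hvn]
        simp
      have hv'H : v' * g⁻¹ ∈ H := by
        have : v' * g⁻¹ = x * (v * g⁻¹) * (g * x⁻¹ * g⁻¹) := by
          rw [hv']; group
        rw [this]
        exact H.mul_mem (H.mul_mem hxH hv)
          ((Subgroup.mem_normalizer_iff.mp hg _).mp (H.inv_mem hxH))
      have hgz : g * z = z * g := by
        rw [hz]
        exact (Commute.zpow_right (Commute.refl g) _).eq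
      have hv'zc : v' * z = z * v' := by
        rw [← hv'z]
        exact (Commute.zpow_right (Commute.refl v') _).eq
      -- the centralizer subgroup
      set H' : Subgroup G := H ⊓ Subgroup.centralizer {z} with hH'
      have hmemH' : ∀ y : G, y ∈ H' ↔ y ∈ H ∧ y * z = z * y := by
        intro y
        rw [hH', Subgroup.mem_inf, Subgroup.mem_centralizer_iff]
        constructor
        · rintro ⟨h1, h2⟩
          exact ⟨h1, (h2 z rfl).symm⟩
        · rintro ⟨h1, h2⟩
          refine ⟨h1, ?_⟩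
          intro w hw
          rw [Set.mem_singleton_iff] at hw
          rw [hw]
          exact h2.symm
      have hgH' : g ∈ Subgroup.normalizer (H' : Set G) := by
        rw [Subgroup.mem_normalizer_iff]
        intro y
        rw [hmemH', hmemH']
        have hiff := Subgroup.mem_normalizer_iff.mp hg y
        constructor
        · rintro ⟨h1, h2⟩
          refine ⟨hiff.mp h1, ?_⟩
          calc g * y * g⁻¹ * z = g * y * (g⁻¹ * z * g) * g⁻¹ := by group
            _ = g * y * z * g⁻¹ := by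
                have : g⁻¹ * z * g = z := by rw [mul_assoc, ← hgz]; group
                rw [this]
            _ = g * (y * z) * g⁻¹ := by group
            _ = g * (z * y) * g⁻¹ := by rw [h2]
            _ = (g * z) * y * g⁻¹ := by group
            _ = z * g * y * g⁻¹ := by rw [hgz]
            _ = z * (g * y * g⁻¹) := by group
        · rintro ⟨h1, h2⟩
          refine ⟨hiff.mpr h1, ?_⟩
          have hgz' : g⁻¹ * z = z * g⁻¹ := by
            have : g⁻¹ * z * g = z := by rw [mul_assoc, ← hgz]; group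
            calc g⁻¹ * z = (g⁻¹ * z * g) * g⁻¹ := by group
              _ = z * g⁻¹ := by rw [this]
          calc y * z = g⁻¹ * ((g * y * g⁻¹) * z) * (z⁻¹ * g * z) := by group
            _ = g⁻¹ * (z * (g * y * g⁻¹)) * (z⁻¹ * g * z) := by rw [h2]
            _ = (g⁻¹ * z) * g * y * g⁻¹ * z⁻¹ * (g * z) := by group
            _ = (z * g⁻¹) * g * y * g⁻¹ * z⁻¹ * (z * g) := by rw [hgz', hgz]
            _ = z * y := by group
      set g₂ := g ^ (((p ^ a : ℕ) : ℤ) * s) with hg₂
      set v₂ := v' ^ (((p ^ a : ℕ) : ℤ) * s) with hv₂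
      have hg₂z : g₂ * z = z * g₂ := by
        rw [hg₂, hz]
        exact (Commute.zpow_zpow (Commute.refl g) _ _).eq
      have hv₂z : v₂ * z = z * v₂ := by
        rw [hv₂, ← hv'z]
        exact (Commute.zpow_zpow (Commute.refl v') _ _).eq
      have hv₂H' : v₂ * g₂⁻¹ ∈ H' := by
        rw [hmemH']
        refine ⟨zpow_congr H g v' hg hv'H _, ?_⟩
        have hg₂z' : g₂⁻¹ * z = z * g₂⁻¹ := by
          calc g₂⁻¹ * z = g₂⁻¹ * (z * g₂) * g₂⁻¹ := by group
            _ = g₂⁻¹ * (g₂ * z) * g₂⁻¹ := by rw [hg₂z]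
            _ = z * g₂⁻¹ := by group
        calc v₂ * g₂⁻¹ * z = v₂ * (g₂⁻¹ * z) := by group
          _ = v₂ * (z * g₂⁻¹) := by rw [hg₂z']
          _ = (v₂ * z) * g₂⁻¹ := by group
          _ = z * v₂ * g₂⁻¹ := by rw [hv₂z]
          _ = z * (v₂ * g₂⁻¹) := by group
      have hcopm : Nat.Coprime m (Nat.card H') := by
        have h1 : Nat.Coprime m (Nat.card H) :=
          Nat.Coprime.coprime_dvd_left (Dvd.intro_left _ hnm.symm) hcop
        exact Nat.Coprime.coprime_dvd_right (Subgroup.card_dvd_of_le inf_le_left) h1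
      obtain ⟨y, hyH', hy⟩ := ih m hmn H' g₂ v₂
        ((Subgroup.normalizer (H' : Set G)).zpow_mem hgH' _) (hzpow2 g hgn) (hzpow2 v' hv'n)
        hcopm hv₂H'
      obtain ⟨hyH, hyz⟩ := (hmemH' y).mp hyH'
      refine ⟨y * x, H.mul_mem hyH hxH, ?_⟩
      have h1 : y * x * v * (y * x)⁻¹ = y * v' * y⁻¹ := by rw [hv']; group
      rw [h1]
      have h2 : v' = v₂ * z := by
        conv_lhs => rw [hsplit v']
        rw [hv'z]
      have h3 : y * z * y⁻¹ = z := by rw [hyz]; group
      calc y * v' * y⁻¹ = y * (v₂ * z) * y⁻¹ := by rw [← h2]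
        _ = (y * v₂ * y⁻¹) * (y * z * y⁻¹) := by group
        _ = g₂ * z := by rw [hy, h3]
        _ = g := (hsplit g).symm

/-- Every element of the coset `H g` is `H`-conjugate to an element `c g` with `c ∈ C_H(g)`. -/
theorem exists_conj_eq_cent_mul [Finite G] (H : Subgroup G) (g : G)
    (hg : g ∈ Subgroup.normalizer (H : Set G)) (hcop : Nat.Coprime (orderOf g) (Nat.card H))
    (h : G) (hh : h ∈ H) : ∃ x ∈ H, ∃ c ∈ H, c * g = g * c ∧ x * (h * g) * x⁻¹ = c * g := by
  set n := orderOf g with hn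
  set M := Nat.card H with hM
  set w := h * g with hw
  have hgn : g ^ n = 1 := pow_orderOf_eq_one g
  have hwg : w * g⁻¹ ∈ H := by
    rw [hw]
    simpa using hh
  have hbez : (1 : ℤ) = (n : ℤ) * Nat.gcdA n M + (M : ℤ) * Nat.gcdB n M := by
    have := Nat.gcd_eq_gcd_ab n M
    rw [hcop] at this
    exact_mod_cast this
  set s : ℤ := Nat.gcdA n M
  set t : ℤ := Nat.gcdB n M
  -- `w ^ n ∈ H`
  have hwnH : w ^ n ∈ H := by
    have := zpow_congr H g w hg hwg (n : ℤ)
    rw [zpow_natCast, zpow_natCast, hgn, inv_one, mul_one] at this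
    exact this
  have hwnM : w ^ (n * M) = 1 := by
    rw [pow_mul]
    have : (⟨w ^ n, hwnH⟩ : H) ^ M = 1 := by
      rw [hM]
      exact pow_card_eq_one'
    have := congrArg Subtype.val this
    simpa using this
  set u := w ^ ((n : ℤ) * s) with hu
  set v := w ^ ((M : ℤ) * t) with hv
  have hsplit : w = u * v := by
    rw [hu, hv, ← zpow_add, ← hbez, zpow_one]
  have huv : u * v = v * u := by
    rw [hu, hv]
    exact (Commute.zpow_zpow (Commute.refl w) _ _).eq
  have hvn : v ^ n = 1 := by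
    rw [hv, ← zpow_natCast, ← zpow_mul]
    have : (M : ℤ) * t * (n : ℤ) = ((n * M : ℕ) : ℤ) * t := by push_cast; ring
    rw [this, zpow_mul, zpow_natCast, hwnM, one_zpow]
  have hgMt : g ^ ((M : ℤ) * t) = g := by
    have h1 : (M : ℤ) * t = 1 - (n : ℤ) * s := by linarith
    rw [h1, zpow_sub, zpow_one, zpow_mul, zpow_natCast, hgn, one_zpow, inv_one, mul_one]
  have hvg : v * g⁻¹ ∈ H := by
    have := zpow_congr H g w hg hwg ((M : ℤ) * t)
    rwa [hgMt] at this
  have huH : u ∈ H := by
    have := zpow_congr H g w hg hwg ((n : ℤ) * s)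
    rwa [zpow_mul g, zpow_natCast, hgn, one_zpow, inv_one, mul_one] at this
  obtain ⟨x, hxH, hx⟩ := conj_of_coprime n H g v hg hgn hvn hcop hvg
  refine ⟨x, hxH, x * u * x⁻¹, H.mul_mem (H.mul_mem hxH huH) (H.inv_mem hxH), ?_, ?_⟩
  · rw [← hx]
    calc x * u * x⁻¹ * (x * v * x⁻¹) = x * (u * v) * x⁻¹ := by group
      _ = x * (v * u) * x⁻¹ := by rw [huv]
      _ = x * v * x⁻¹ * (x * u * x⁻¹) := by group
  · rw [hsplit, ← hx]
    group

end Cfsg.Agent.Lib.helper3.CoprimeConj
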