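import Mathlib
import Cfsg.Agent.Lib.helper3.CoprimeConj

/-!
# Coprime cyclic action: conjugacy in the generating coset
-/

set_option autoImplicit false
set_option linter.style.haveILetI false
set_option linter.unusedSectionVars false

namespace Cfsg.Agent.Lib.helper3.GlCyc

variable {Γ : Type*} [Group Γ]

/-- The hypotheses of the cyclic coprime situation: `Γ = G S` with `G` normal, `S = ⟨s₀⟩`
cyclic, and coprime orders. -/
structure Setup (G S : Subgroup Γ) (s₀ : Γ) : Prop where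
  normal : G.Normal
  cop : (Nat.card G).Coprime (Nat.card S)
  top : G ⊔ S = ⊤
  gen : Subgroup.zpowers s₀ = S

namespace Setup

variable {G S : Subgroup Γ} {s₀ : Γ}

theorem mem_S (h : Setup G S s₀) : s₀ ∈ S := h.gen ▸ Subgroup.mem_zpowers s₀

theorem orderOf_eq (h : Setup G S s₀) : orderOf s₀ = Nat.card S := by
  rw [← h.gen, Nat.card_zpowers]

theorem exists_pow_of_mem [Finite Γ] (h : Setup G S s₀) {t : Γ} (ht : t ∈ S) :
    ∃ k : ℕ, t = s₀ ^ k := by
  rw [← h.gen] at ht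
  obtain ⟨k, hk⟩ := (mem_powers_iff_mem_zpowers.mpr ht)
  exact ⟨k, hk.symm⟩

theorem exists_mul [Finite Γ] (h : Setup G S s₀) (x : Γ) :
    ∃ g ∈ G, ∃ k : ℕ, x = g * s₀ ^ k := by
  haveI := h.normal
  have hx : x ∈ G ⊔ S := h.top ▸ Subgroup.mem_top x
  rw [← SetLike.mem_coe, Subgroup.normal_mul] at hx
  obtain ⟨g, hg, t, ht, rfl⟩ := hx
  obtain ⟨k, rfl⟩ := h.exists_pow_of_mem ht
  exact ⟨g, hg, k, rfl⟩

theorem commute_of_mem (h : Setup G S s₀) {c : Γ}
    (hc : c ∈ G ⊓ Subgroup.centralizer (S : Set Γ)) : c * s₀ = s₀ * c := by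
  have := (Subgroup.mem_centralizer_iff.mp (Subgroup.mem_inf.mp hc).2) s₀ h.mem_S
  exact this.symm

theorem mem_of_commute [Finite Γ] (h : Setup G S s₀) {g : Γ} (hg : g ∈ G)
    (hc : g * s₀ = s₀ * g) : g ∈ G ⊓ Subgroup.centralizer (S : Set Γ) := by
  refine Subgroup.mem_inf.mpr ⟨hg, ?_⟩
  rw [Subgroup.mem_centralizer_iff]
  intro t ht
  obtain ⟨k, rfl⟩ := h.exists_pow_of_mem ht
  have : Commute g s₀ := hc
  exact (this.pow_right k).eq.symm

theorem inf_eq_bot [Finite Γ] (h : Setup G S s₀) : G ⊓ S = ⊥ :=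
  (Subgroup.disjoint_of_coprime_natCard h.cop).eq_bot

theorem index_eq [Finite Γ] (h : Setup G S s₀) : G.index = Nat.card S := by
  haveI := h.normal
  have h1 : G.relIndex (S ⊔ G) = G.relIndex S := Subgroup.relIndex_sup_right S G
  rw [sup_comm, h.top, Subgroup.relIndex_top_right] at h1
  rw [h1, ← Subgroup.inf_relIndex_left, inf_comm, h.inf_eq_bot, Subgroup.relIndex_bot_left]

theorem card_eq [Finite Γ] (h : Setup G S s₀) : Nat.card Γ = Nat.card G * Nat.card S := by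
  rw [← h.index_eq, Subgroup.card_mul_index]

/-- A number congruent to `0` modulo `|G|` and to `1` modulo `|S|`. -/
theorem exists_crt [Finite Γ] (h : Setup G S s₀) :
    ∃ k : ℕ, Nat.card G ∣ k ∧ k ≡ 1 [MOD Nat.card S] := by
  obtain ⟨k, hk1, hk2⟩ := Nat.chineseRemainder h.cop 0 1
  exact ⟨k, (Nat.modEq_zero_iff_dvd.mp hk1), hk2⟩

/-- Powers of `c s₀` with `c` a fixed point. -/
theorem pow_crt [Finite Γ] (h : Setup G S s₀) {c : Γ}
    (hc : c ∈ G ⊓ Subgroup.centralizer (S : Set Γ)) {k : ℕ} (hk1 : Nat.card G ∣ k)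
    (hk2 : k ≡ 1 [MOD Nat.card S]) : (c * s₀) ^ k = s₀ := by
  have hcomm : Commute c s₀ := h.commute_of_mem hc
  rw [hcomm.mul_pow]
  have h1 : c ^ k = 1 := by
    obtain ⟨m, rfl⟩ := hk1
    have : (⟨c, (Subgroup.mem_inf.mp hc).1⟩ : G) ^ Nat.card G = 1 := pow_card_eq_one'
    have h2 := congrArg Subtype.val this
    simp only [Subgroup.coe_pow, Subgroup.coe_one] at h2
    rw [pow_mul, h2, one_pow]
  have h2 : s₀ ^ k = s₀ := by
    have := (pow_eq_pow_iff_modEq (x := s₀) (n := k) (m := 1)).mpr (by rw [h.orderOf_eq]; exact hk2)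
    rw [this, pow_one]
  rw [h1, h2, one_mul]

/-- Conjugacy between elements `c s₀` is controlled by the fixed-point subgroup. -/
theorem conj_cent [Finite Γ] (h : Setup G S s₀) {y c c' : Γ} (hy : y ∈ G)
    (hc : c ∈ G ⊓ Subgroup.centralizer (S : Set Γ))
    (hc' : c' ∈ G ⊓ Subgroup.centralizer (S : Set Γ))
    (hconj : y * (c * s₀) * y⁻¹ = c' * s₀) :
    y ∈ G ⊓ Subgroup.centralizer (S : Set Γ) ∧ c' = y * c * y⁻¹ := by
  obtain ⟨k, hk1, hk2⟩ := h.exists_crt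
  have h1 : y * (c * s₀) ^ k * y⁻¹ = (c' * s₀) ^ k := by
    rw [← hconj, conj_pow]
  rw [h.pow_crt hc hk1 hk2, h.pow_crt hc' hk1 hk2] at h1
  have h2 : y * s₀ = s₀ * y := by
    calc y * s₀ = y * s₀ * y⁻¹ * y := by group
      _ = s₀ * y := by rw [h1]
  refine ⟨h.mem_of_commute hy h2, ?_⟩
  have h3 : y * (c * s₀) * y⁻¹ = y * c * y⁻¹ * s₀ := by
    calc y * (c * s₀) * y⁻¹ = y * c * y⁻¹ * (y * s₀ * y⁻¹) := by group
      _ = y * c * y⁻¹ * s₀ := by rw [h1]
  rw [h3] at hconj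
  exact (mul_right_cancel hconj).symm

/-- Every element of the coset `G s₀` is `G`-conjugate to some `c s₀` with `c` a fixed
point. -/
theorem exists_conj [Finite Γ] (h : Setup G S s₀) {g : Γ} (hg : g ∈ G) :
    ∃ x ∈ G, ∃ c ∈ G ⊓ Subgroup.centralizer (S : Set Γ), x * (c * s₀) * x⁻¹ = g * s₀ := by
  haveI := h.normal
  have hnorm : s₀ ∈ Subgroup.normalizer (G : Set Γ) := by
    rw [Subgroup.normalizer_eq_top]
    exact Subgroup.mem_top _
  have hcop : Nat.Coprime (orderOf s₀) (Nat.card G) := by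
    rw [h.orderOf_eq]
    exact h.cop.symm
  obtain ⟨x, hx, c, hc, hcs, hconj⟩ :=
    Cfsg.Agent.Lib.helper3.CoprimeConj.exists_conj_eq_cent_mul G s₀ hnorm hcop g hg
  refine ⟨x⁻¹, G.inv_mem hx, c, h.mem_of_commute hc hcs, ?_⟩
  rw [← hconj]
  group

end Setup

end Cfsg.Agent.Lib.helper3.GlCyc
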