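import Mathlib
import Cfsg.Agent.Lib.helper3.GlCyc1

/-!
# Coprime cyclic action: summing a class function over the generating coset
-/

set_option autoImplicit false
set_option linter.style.haveILetI false
set_option linter.unusedSectionVars false

namespace Cfsg.Agent.Lib.helper3.GlCyc

variable {Γ : Type*} [Group Γ]

namespace Setup

variable {G S : Subgroup Γ} {s₀ : Γ}

/-- The twisted conjugation map `(g, c) ↦ g (c s₀) g⁻¹ s₀⁻¹`. -/
def twist (h : Setup G S s₀) (C : Subgroup Γ)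
    (hC : C = G ⊓ Subgroup.centralizer (S : Set Γ)) (p : G × C) : G :=
  ⟨(p.1 : Γ) * ((p.2 : Γ) * s₀) * (p.1 : Γ)⁻¹ * s₀⁻¹, by
    haveI := h.normal
    have h1 : (p.2 : Γ) ∈ G := (Subgroup.mem_inf.mp (hC.le p.2.2)).1
    have h2 : s₀ * (p.1 : Γ)⁻¹ * s₀⁻¹ ∈ G := h.normal.conj_mem _ (G.inv_mem p.1.2) s₀
    have h3 : (p.1 : Γ) * ((p.2 : Γ) * s₀) * (p.1 : Γ)⁻¹ * s₀⁻¹
        = (p.1 : Γ) * (p.2 : Γ) * (s₀ * (p.1 : Γ)⁻¹ * s₀⁻¹) := by group
    rw [h3]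
    exact G.mul_mem (G.mul_mem p.1.2 h1) h2⟩

theorem twist_mul (h : Setup G S s₀) (C : Subgroup Γ)
    (hC : C = G ⊓ Subgroup.centralizer (S : Set Γ)) (p : G × C) :
    ((h.twist C hC p : G) : Γ) * s₀ = (p.1 : Γ) * ((p.2 : Γ) * s₀) * (p.1 : Γ)⁻¹ := by
  unfold twist
  simp only
  group

theorem card_fibre [Finite Γ] (h : Setup G S s₀) (C : Subgroup Γ)
    (hC : C = G ⊓ Subgroup.centralizer (S : Set Γ)) [Fintype G] [Fintype C] [DecidableEq G]
    (g' : G) :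
    (Finset.univ.filter (fun p : G × C => h.twist C hC p = g')).card = Fintype.card C := by
  classical
  obtain ⟨x, hx, c₁, hc₁, hconj⟩ := h.exists_conj g'.2
  have hc₁C : c₁ ∈ C := hC.ge hc₁
  have hCG : ∀ y : C, (y : Γ) ∈ G := fun y => (Subgroup.mem_inf.mp (hC.le y.2)).1
  have hCcomm : ∀ y : C, (y : Γ) * s₀ = s₀ * (y : Γ) := fun y => h.commute_of_mem (hC.le y.2)
  rw [← Finset.card_univ]
  symm
  apply Finset.card_bij (fun (y : C) _ => ((⟨x * (y : Γ)⁻¹, G.mul_mem hx (G.inv_mem (hCG y))⟩ : G),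
    (⟨(y : Γ) * c₁ * (y : Γ)⁻¹, C.mul_mem (C.mul_mem y.2 hc₁C) (C.inv_mem y.2)⟩ : C)))
  · intro y _
    rw [Finset.mem_filter]
    refine ⟨Finset.mem_univ _, ?_⟩
    apply Subtype.ext
    apply mul_right_cancel (b := s₀)
    rw [twist_mul, ← hconj]
    simp only
    have hy := hCcomm y
    have hy' : (y : Γ)⁻¹ * s₀ = s₀ * (y : Γ)⁻¹ := by
      have : Commute (y : Γ) s₀ := hy
      exact this.inv_left.eq
    calc x * (y : Γ)⁻¹ * ((y : Γ) * c₁ * (y : Γ)⁻¹ * s₀) * (x * (y : Γ)⁻¹)⁻¹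
        = x * (c₁ * ((y : Γ)⁻¹ * s₀) * (y : Γ)) * x⁻¹ := by group
      _ = x * (c₁ * (s₀ * (y : Γ)⁻¹) * (y : Γ)) * x⁻¹ := by rw [hy']
      _ = x * (c₁ * s₀) * x⁻¹ := by group
  · intro y _ y' _ heq
    have h1 := congrArg (fun p : G × C => ((p.1 : G) : Γ)) heq
    have h2 : (y : Γ)⁻¹ = (y' : Γ)⁻¹ := mul_left_cancel h1
    exact Subtype.ext (inv_injective h2)
  · intro p hp
    rw [Finset.mem_filter] at hp
    have hp2 : ((h.twist C hC p : G) : Γ) * s₀ = (g' : Γ) * s₀ := by rw [hp.2]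
    rw [twist_mul, ← hconj] at hp2
    -- `y = p.1⁻¹ x` conjugates `c₁ s₀` to `p.2 s₀`
    have hconj2 : ((p.1 : Γ)⁻¹ * x) * (c₁ * s₀) * ((p.1 : Γ)⁻¹ * x)⁻¹ = (p.2 : Γ) * s₀ := by
      calc ((p.1 : Γ)⁻¹ * x) * (c₁ * s₀) * ((p.1 : Γ)⁻¹ * x)⁻¹
          = (p.1 : Γ)⁻¹ * (x * (c₁ * s₀) * x⁻¹) * (p.1 : Γ) := by group
        _ = (p.1 : Γ)⁻¹ * ((p.1 : Γ) * ((p.2 : Γ) * s₀) * (p.1 : Γ)⁻¹) * (p.1 : Γ) := by rw [hp2]
        _ = (p.2 : Γ) * s₀ := by group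
    have hp2C : (p.2 : Γ) ∈ G ⊓ Subgroup.centralizer (S : Set Γ) := hC.le p.2.2
    obtain ⟨hyC, hceq⟩ := h.conj_cent (G.mul_mem (G.inv_mem p.1.2) hx) hc₁ hp2C hconj2
    refine ⟨⟨(p.1 : Γ)⁻¹ * x, hC.ge hyC⟩, Finset.mem_univ _, ?_⟩
    apply Prod.ext
    · apply Subtype.ext
      simp only
      group
    · apply Subtype.ext
      simp only
      exact hceq.symm

/-- Summation over the coset `G s₀` of a class function reduces to the fixed points. -/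
theorem coset_sum [Finite Γ] (h : Setup G S s₀) (C : Subgroup Γ)
    (hC : C = G ⊓ Subgroup.centralizer (S : Set Γ)) [Fintype G] [Fintype C]
    (F : Γ → ℂ) (hF : ∀ x y : Γ, F (y * x * y⁻¹) = F x) :
    (Nat.card C : ℂ) * ∑ g : G, F ((g : Γ) * s₀)
      = (Nat.card G : ℂ) * ∑ c : C, F ((c : Γ) * s₀) := by
  classical
  have h1 : ∑ p : G × C, F (((h.twist C hC p : G) : Γ) * s₀)
      = (Nat.card G : ℂ) * ∑ c : C, F ((c : Γ) * s₀) := by
    rw [Fintype.sum_prod_type]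
    simp only [twist_mul, hF]
    rw [Finset.sum_const, Finset.card_univ, Nat.card_eq_fintype_card, nsmul_eq_mul]
  have h2 : ∑ p : G × C, F (((h.twist C hC p : G) : Γ) * s₀)
      = (Nat.card C : ℂ) * ∑ g : G, F ((g : Γ) * s₀) := by
    rw [← Finset.sum_fiberwise (Finset.univ : Finset (G × C)) (h.twist C hC)
      (fun p => F (((h.twist C hC p : G) : Γ) * s₀))]
    rw [Finset.mul_sum]
    apply Finset.sum_congr rfl
    intro g' _
    have h3 : ∀ p ∈ Finset.univ.filter (fun p : G × C => h.twist C hC p = g'),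
        F (((h.twist C hC p : G) : Γ) * s₀) = F ((g' : Γ) * s₀) := by
      intro p hp
      rw [Finset.mem_filter] at hp
      rw [hp.2]
    rw [Finset.sum_congr rfl h3, Finset.sum_const, h.card_fibre C hC g', nsmul_eq_mul,
      Nat.card_eq_fintype_card]
  rw [← h1, ← h2]

end Setup

end Cfsg.Agent.Lib.helper3.GlCyc
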