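import Mathlib
import Cfsg.Prelude.Def_Characters
import Cfsg.Prelude.Def_CharExt
import Cfsg.Agent.Lib.helper3.SolvExt2
import Cfsg.Agent.S0862
import Cfsg.Agent.S0865

/-!
# Canonical extensions (solvable quotient)
-/

set_option autoImplicit false
set_option linter.style.haveILetI false
set_option linter.unusedSectionVars false

namespace Cfsg.Agent.Lib.helper3.GalExt

open Cfsg Module Cfsg.Agent.Lib.helper3.Irr Cfsg.Agent.Lib.helper3.Lin
open Cfsg.Agent.Lib.helper3.Det Cfsg.Agent.Lib.helper3.CharBasic Cfsg.Agent.Lib.helper3.SolvExt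
open scoped ComplexConjugate

universe u

/-- Isaacs 6.28: canonical extension for solvable quotients. -/
theorem solv_canonical {H : Type u} [Group H] [Finite H] (M : Subgroup H) [hM : M.Normal]
    (hsolv : Group.IsSolvable (H ⧸ M)) (φ : M → ℂ) (hφ : IsIrrCharacter M φ)
    (hinv : ∀ (g : H) (n : M), φ ⟨g * n * g⁻¹, hM.conj_mem (n : H) n.2 g⟩ = φ n)
    (d : ℕ) (hd : φ 1 = d) (hcop : Nat.Coprime M.index (detOrder φ * d)) :
    ∃ χ : H → ℂ, (IsIrrCharacter H χ ∧ (∀ n : M, χ n = φ n) ∧ detOrder χ = detOrder φ) ∧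
      ∀ χ' : H → ℂ, IsIrrCharacter H χ' → (∀ n : M, χ' n = φ n) →
        Nat.Coprime M.index (detOrder χ') → χ' = χ := by
  classical
  have hφc := isCharacter_of_isIrrCharacter hφ
  obtain ⟨hc, h1⟩ := isCharacter_detChar hφc
  have hcop1 : Nat.Coprime M.index (orderOf (detChar φ)) :=
    Nat.Coprime.coprime_dvd_right (Dvd.intro _ rfl) hcop
  have hcop2 : Nat.Coprime M.index d :=
    Nat.Coprime.coprime_dvd_right (Dvd.intro_left _ rfl) hcop
  obtain ⟨μ, ⟨hμ, hμ1, hμN, hμord⟩, huniqμ⟩ := Cfsg.Agent.S0865.result M (detChar φ) ⟨hc, h1⟩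
    (detChar_invariant M φ hφc hinv) hcop1
  obtain ⟨η, hη, hηN⟩ := exists_extension_aux M.index H M rfl hsolv φ hφ hinv d hd hcop2 μ hμ hμ1 hμN
  obtain ⟨χ, ⟨hχ, hχN, hχdet⟩, huniq⟩ := Cfsg.Agent.S0862.result M φ hφ d hd hcop2
    ⟨η, hη, hηN⟩ μ ⟨hμ, hμ1⟩ hμN
  refine ⟨χ, ⟨hχ, hχN, ?_⟩, ?_⟩
  · unfold detOrder
    rw [hχdet, hμord]
  · intro χ' hχ' hχ'N hcop'
    have hχ'c := isCharacter_of_isIrrCharacter hχ'
    obtain ⟨hc', h1'⟩ := isCharacter_detChar hχ'c
    have hres : ∀ n : M, detChar χ' n = detChar φ n := by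
      intro n
      rw [← detChar_restrict M hχ'c n]
      congr 1
      funext m
      exact hχ'N m
    have hdet' : detChar χ' = μ := huniqμ (detChar χ') ⟨hc', h1'⟩ hres hcop'
    exact huniq χ' ⟨hχ', hχ'N, hdet'⟩

end Cfsg.Agent.Lib.helper3.GalExt
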