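import Mathlib
import Cfsg.Prelude.Def_Characters
import Cfsg.Prelude.Def_CharExt
import Cfsg.Agent.Lib.helper3.GalExt1
import Cfsg.Agent.Lib.helper3.CycExt2
import Cfsg.Agent.Lib.helper3.BrauerChar
import Cfsg.Agent.Lib.helper3.NormOne
import Cfsg.Agent.S0868

/-!
# Gallagher's extension theorem via Brauer's characterization of characters
-/

set_option autoImplicit false
set_option linter.style.haveILetI false
set_option linter.unusedSectionVars false

namespace Cfsg.Agent.Lib.helper3.GalExt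

open Cfsg Module Cfsg.Agent.Lib.helper3.Irr Cfsg.Agent.Lib.helper3.Lin
open Cfsg.Agent.Lib.helper3.Det Cfsg.Agent.Lib.helper3.CharBasic Cfsg.Agent.Lib.helper3.SolvExt
open Cfsg.Agent.Lib.helper3.IndFun Cfsg.Agent.Lib.helper3.BrauerInd
open scoped ComplexConjugate

universe u

section solv

variable {G : Type u} [Group G] (N : Subgroup G) [hN : N.Normal]

/-- Subgroups of `N S` with `S` solvable are solvable modulo `N`. -/
theorem solvOver (S : Subgroup G) (hS : Group.IsSolvable S) (H : Subgroup G) (hH : H ≤ N ⊔ S) :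
    Group.IsSolvable (H ⧸ N.subgroupOf H) := by
  obtain ⟨T, hT⟩ : ∃ T : Subgroup G, T = N ⊔ S := ⟨_, rfl⟩
  have hST : S ≤ T := hT ▸ le_sup_right
  have hHT : H ≤ T := hT ▸ hH
  haveI : (N.subgroupOf T).Normal := Subgroup.normal_subgroupOf
  haveI : (N.subgroupOf H).Normal := Subgroup.normal_subgroupOf
  have hsurj : Function.Surjective
      ((QuotientGroup.mk' (N.subgroupOf T)).comp (Subgroup.inclusion hST)) := by
    intro q
    obtain ⟨t, rfl⟩ := QuotientGroup.mk_surjective q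
    have ht : (t : G) ∈ N ⊔ S := hT ▸ t.2
    rw [← SetLike.mem_coe, Subgroup.normal_mul] at ht
    obtain ⟨n, hn, s, hs, hns⟩ := ht
    refine ⟨⟨s, hs⟩, ?_⟩
    rw [MonoidHom.comp_apply, QuotientGroup.mk'_apply, QuotientGroup.eq]
    rw [Subgroup.mem_subgroupOf]
    have hns' : n * s = (t : G) := hns
    have : (((Subgroup.inclusion hST ⟨s, hs⟩)⁻¹ * t : T) : G) = s⁻¹ * (n * s) := by
      rw [hns']
      rfl
    rw [this]
    have h2 : s⁻¹ * (n * s) = s⁻¹ * n * s⁻¹⁻¹ := by rw [inv_inv, mul_assoc]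
    rw [h2]
    exact hN.conj_mem n hn s⁻¹
  haveI : Group.IsSolvable (T ⧸ N.subgroupOf T) := Group.isSolvable_of_surjective hsurj
  have hle : N.subgroupOf H ≤ (N.subgroupOf T).comap (Subgroup.inclusion hHT) := fun x hx => hx
  have hinj : Function.Injective
      (QuotientGroup.map (N.subgroupOf H) (N.subgroupOf T) (Subgroup.inclusion hHT) hle) := by
    rw [injective_iff_map_eq_one]
    intro q hq
    obtain ⟨m, rfl⟩ := QuotientGroup.mk_surjective q
    rw [QuotientGroup.map_mk, QuotientGroup.eq_one_iff] at hq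
    exact (QuotientGroup.eq_one_iff m).mpr hq
  exact Group.isSolvable_of_isSolvable_injective hinj

end solv

/-- Pulling back along a homomorphism does not increase the order of the determinant. -/
theorem detChar_pow_comp {G H : Type*} [Group G] [Group H] [Finite G] [Finite H] (f : H →* G)
    {χ : G → ℂ} (hχ : IsCharacter G χ) (k : ℕ) (hk : detChar χ ^ k = 1) :
    detChar (fun h : H => χ (f h)) ^ k = 1 := by
  funext x
  rw [Pi.pow_apply, detChar_comp_hom f hχ x, ← Pi.pow_apply, hk]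
  rfl

section main

variable {G : Type u} [Group G] [Fintype G] (N : Subgroup G) [hN : N.Normal] (ϑ : N → ℂ) (μ : G → ℂ)

/-- `ψ` is a character of `H` extending `ϑ` with determinant `μ`. -/
def CanExt (H : Subgroup G) (ψ : H → ℂ) : Prop :=
  IsCharacter H ψ ∧ (∀ n : N, ∀ h : (n : G) ∈ H, ψ ⟨n, h⟩ = ϑ n) ∧ ∀ y : H, detChar ψ y = μ y

theorem CanExt.restrict {H K : Subgroup G} {ψ : H → ℂ} (hψ : CanExt N ϑ μ H ψ) (hKH : K ≤ H) :
    CanExt N ϑ μ K (fun k => ψ ⟨k, hKH k.2⟩) := by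
  refine ⟨isCharacter_comp hψ.1 (Subgroup.inclusion hKH), ?_, ?_⟩
  · intro n h
    exact hψ.2.1 n (hKH h)
  · intro y
    have h1 := detChar_comp_hom (Subgroup.inclusion hKH) hψ.1 y
    have h2 : (fun k : K => ψ ⟨k, hKH k.2⟩) = fun k : K => ψ (Subgroup.inclusion hKH k) := rfl
    rw [h2, h1, hψ.2.2]
    rfl

variable (hϑ : IsIrrCharacter N ϑ)
  (hinv : ∀ (g : G) (n : N), ϑ ⟨g * n * g⁻¹, hN.conj_mem (n : G) n.2 g⟩ = ϑ n)
  (hμ : IsCharacter G μ) (hμ1 : μ 1 = 1) (hμN : ∀ n : N, μ n = detChar ϑ n)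

include hinv hμ in
theorem CanExt.conj {H : Subgroup G} {ψ : H → ℂ} (hψ : CanExt N ϑ μ H ψ) (x : G) :
    CanExt N ϑ μ (H.map (MulAut.conj x).toMonoidHom)
      (fun y => ψ ((H.equivMapOfInjective (MulAut.conj x).toMonoidHom
        (MulAut.conj x).injective).symm y)) := by
  obtain ⟨c, hc⟩ : ∃ c : H ≃* H.map (MulAut.conj x).toMonoidHom,
      c = H.equivMapOfInjective (MulAut.conj x).toMonoidHom (MulAut.conj x).injective := ⟨_, rfl⟩
  rw [← hc]
  have hcv : ∀ y : H.map (MulAut.conj x).toMonoidHom, x * ((c.symm y : H) : G) * x⁻¹ = (y : G) := by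
    intro y
    have h1 : ((c (c.symm y) : H.map (MulAut.conj x).toMonoidHom) : G)
        = (MulAut.conj x).toMonoidHom ((c.symm y : H) : G) := by
      rw [hc]
      exact Subgroup.coe_equivMapOfInjective_apply _ _ _ _
    rw [MulEquiv.apply_symm_apply] at h1
    rw [h1]
    simp [MulAut.conj_apply]
  refine ⟨isCharacter_comp hψ.1 c.symm.toMonoidHom, ?_, ?_⟩
  · intro n h
    have hmem : ((c.symm ⟨n, h⟩ : H) : G) ∈ N := by
      have h1 : x * ((c.symm ⟨n, h⟩ : H) : G) * x⁻¹ = (n : G) := hcv ⟨n, h⟩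
      have h2 : ((c.symm ⟨n, h⟩ : H) : G) = x⁻¹ * (n : G) * x⁻¹⁻¹ := by
        generalize ((c.symm ⟨n, h⟩ : H) : G) = w at h1
        rw [← h1]
        group
      rw [h2]
      exact hN.conj_mem n n.2 x⁻¹
    have h3 := hψ.2.1 ⟨_, hmem⟩ (c.symm ⟨n, h⟩).2
    simp only at h3 ⊢
    rw [h3, ← hinv x ⟨_, hmem⟩]
    congr 1
    exact Subtype.ext (hcv ⟨n, h⟩)
  · intro y
    have h1 := detChar_comp_hom c.symm.toMonoidHom hψ.1 y
    have h2 : (fun y => ψ (c.symm y)) = fun y => ψ (c.symm.toMonoidHom y) := rfl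
    rw [h2, h1, hψ.2.2]
    have h3 := isClassFunction_of_isCharacter hμ ((c.symm y : H) : G) x
    rw [hcv y] at h3
    exact h3.symm

include hϑ hinv hμ hμ1 hμN in
theorem canExt_exists_unique (d : ℕ) (hd : ϑ 1 = d) (hcop : Nat.Coprime N.index d)
    (H : Subgroup G) (hNH : N ≤ H) (hsolv : Group.IsSolvable (H ⧸ N.subgroupOf H)) :
    ∃ ψ : H → ℂ, CanExt N ϑ μ H ψ ∧ IsIrrCharacter H ψ ∧
      ∀ ψ' : H → ℂ, CanExt N ϑ μ H ψ' → ψ' = ψ := by
  classical
  obtain ⟨N', hN'⟩ : ∃ N' : Subgroup H, N' = N.subgroupOf H := ⟨_, rfl⟩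
  haveI hN'n : N'.Normal := hN' ▸ Subgroup.normal_subgroupOf
  obtain ⟨e, he⟩ : ∃ e : N' ≃* N, ∀ x : N', ((e x : N) : G) = ((x : H) : G) := by
    subst hN'
    exact ⟨Subgroup.subgroupOfEquivOfLe hNH, fun x => rfl⟩
  have hmemN' : ∀ y : H, y ∈ N' ↔ (y : G) ∈ N := by
    intro y
    rw [hN', Subgroup.mem_subgroupOf]
  obtain ⟨ϑ', hϑ'⟩ : ∃ ϑ' : N' → ℂ, ϑ' = fun x => ϑ (e x) := ⟨_, rfl⟩
  have hϑ'irr : IsIrrCharacter N' ϑ' := hϑ' ▸ isIrrCharacter_comp_mulEquiv e hϑ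
  have hidx : N'.index * H.index = N.index := by
    rw [hN']
    exact Subgroup.relIndex_mul_index hNH
  have hinv' : ∀ (g : H) (n : N'), ϑ' ⟨g * n * g⁻¹, hN'n.conj_mem (n : H) n.2 g⟩ = ϑ' n := by
    intro g n
    have := hinv (g : G) (e n)
    rw [hϑ']
    simp only
    rw [← this]
    congr 1
    apply Subtype.ext
    rw [he]
    simp only [Subgroup.coe_mul, Subgroup.coe_inv, he]
  have hd' : ϑ' 1 = d := by
    rw [hϑ']
    simp only [map_one]
    exact hd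
  have hcop' : Nat.Coprime N'.index d :=
    Nat.Coprime.coprime_dvd_left (Dvd.intro _ hidx) hcop
  obtain ⟨μ', hμ'⟩ : ∃ μ' : H → ℂ, μ' = fun m : H => μ (m : G) := ⟨_, rfl⟩
  have hμ'c : IsCharacter H μ' := hμ' ▸ isCharacter_restrict hμ H
  have hμ'1 : μ' 1 = 1 := by rw [hμ']; exact hμ1
  have hϑc : IsCharacter N ϑ := isCharacter_of_isIrrCharacter hϑ
  have hμ'N : ∀ n : N', μ' n = detChar ϑ' n := by
    intro n
    have h1 := detChar_comp_hom e.toMonoidHom hϑc n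
    rw [hϑ', hμ']
    simp only
    rw [← he n]
    exact (hμN (e n)).trans h1.symm
  have hsolv' : Group.IsSolvable (H ⧸ N') := by
    subst hN'
    exact hsolv
  obtain ⟨η, hη, hηN⟩ := exists_extension_aux N'.index H N' rfl hsolv' ϑ' hϑ'irr hinv' d hd' hcop'
    μ' hμ'c hμ'1 hμ'N
  obtain ⟨χ, ⟨hχ, hχN, hχdet⟩, huniq⟩ := Cfsg.Agent.S0862.result N' ϑ' hϑ'irr d hd' hcop'
    ⟨η, hη, hηN⟩ μ' ⟨hμ'c, hμ'1⟩ hμ'N
  refine ⟨χ, ⟨isCharacter_of_isIrrCharacter hχ, ?_, ?_⟩, hχ, ?_⟩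
  · intro n h
    have h1 := hχN ⟨⟨n, h⟩, (hmemN' _).2 n.2⟩
    simp only at h1
    rw [h1, hϑ']
    simp only
    congr 1
    apply Subtype.ext
    rw [he]
  · intro y
    rw [hχdet, hμ']
  · intro ψ' hψ'
    letI : Fintype H := Fintype.ofFinite H
    letI : Fintype N' := Fintype.ofFinite N'
    have hres : (fun n : N' => ψ' n) = ϑ' := by
      funext n
      have h1 := hψ'.2.1 (e n) (by rw [he]; exact (n : H).2)
      rw [hϑ']
      simp only
      rw [← h1]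
      congr 1
      apply Subtype.ext
      rw [he]
    have hirr' : IsIrrCharacter H ψ' := by
      apply Cfsg.Agent.Lib.helper3.CycExt.isIrrCharacter_of_restrict N' hψ'.1
      rw [hres]
      exact hϑ'irr
    apply huniq ψ' ⟨hirr', fun n => congrFun hres n, ?_⟩
    funext y
    rw [hψ'.2.2 y, hμ']

theorem mem_sup_zpowers (g : G) : g ∈ N ⊔ Subgroup.zpowers g :=
  (le_sup_right : Subgroup.zpowers g ≤ N ⊔ Subgroup.zpowers g) (Subgroup.mem_zpowers g)

open Classical in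
/-- The glued function. -/
noncomputable def glue : G → ℂ := fun g =>
  if h : ∃ ψ : ↥(N ⊔ Subgroup.zpowers g) → ℂ, CanExt N ϑ μ (N ⊔ Subgroup.zpowers g) ψ
  then Classical.choose h ⟨g, mem_sup_zpowers N g⟩ else 0

theorem isSolvable_zpowers (g : G) : Group.IsSolvable (Subgroup.zpowers g) := by
  letI : CommGroup (Subgroup.zpowers g) := IsCyclic.commGroup
  exact Group.isSolvable_of_comm (fun a b => mul_comm a b)

include hϑ hinv hμ hμ1 hμN in
theorem glue_eq (d : ℕ) (hd : ϑ 1 = d) (hcop : Nat.Coprime N.index d)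
    (H : Subgroup G) (hNH : N ≤ H)
    (ψ : H → ℂ) (hψ : CanExt N ϑ μ H ψ) (g : G) (hg : g ∈ H) : glue N ϑ μ g = ψ ⟨g, hg⟩ := by
  have hKH : N ⊔ Subgroup.zpowers g ≤ H := sup_le hNH ((Subgroup.zpowers_le).2 hg)
  have hK := hψ.restrict N ϑ μ hKH
  have hex : ∃ ψ : ↥(N ⊔ Subgroup.zpowers g) → ℂ, CanExt N ϑ μ (N ⊔ Subgroup.zpowers g) ψ :=
    ⟨_, hK⟩
  obtain ⟨ψ₀, _, _, huniq⟩ := canExt_exists_unique N ϑ μ hϑ hinv hμ hμ1 hμN d hd hcop
    (N ⊔ Subgroup.zpowers g) le_sup_left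
    (solvOver N (Subgroup.zpowers g) (isSolvable_zpowers g) _ le_rfl)
  have h1 := huniq _ hK
  have h2 := huniq _ (Classical.choose_spec hex)
  unfold glue
  rw [dif_pos hex, h2, ← h1]

include hϑ hinv hμ hμ1 hμN in
theorem glue_classFunction (d : ℕ) (hd : ϑ 1 = d) (hcop : Nat.Coprime N.index d) :
    IsClassFunction G (glue N ϑ μ) := by
  intro g x
  obtain ⟨K, hK⟩ : ∃ K : Subgroup G, K = N ⊔ Subgroup.zpowers g := ⟨_, rfl⟩
  have hNK : N ≤ K := hK ▸ le_sup_left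
  have hgK : g ∈ K := hK ▸ mem_sup_zpowers N g
  have hsolvK : Group.IsSolvable (K ⧸ N.subgroupOf K) :=
    solvOver N (Subgroup.zpowers g) (isSolvable_zpowers g) K (le_of_eq hK)
  obtain ⟨ψ, hψ, _, _⟩ := canExt_exists_unique N ϑ μ hϑ hinv hμ hμ1 hμN d hd hcop K hNK hsolvK
  have h1 := glue_eq N ϑ μ hϑ hinv hμ hμ1 hμN d hd hcop K hNK ψ hψ g hgK
  have hψ' := hψ.conj N ϑ μ hinv hμ x
  have hmap : K.map (MulAut.conj x).toMonoidHom ≤ N ⊔ Subgroup.zpowers (x * g * x⁻¹) := by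
    rw [hK, Subgroup.map_sup]
    apply sup_le
    · rintro _ ⟨n, hn, rfl⟩
      apply (le_sup_left : N ≤ N ⊔ Subgroup.zpowers (x * g * x⁻¹))
      simp only [MulEquiv.coe_toMonoidHom, MulAut.conj_apply]
      exact hN.conj_mem n hn x
    · rw [MonoidHom.map_zpowers]
      simp only [MulEquiv.coe_toMonoidHom, MulAut.conj_apply]
      exact le_sup_right
  have hNK' : N ≤ K.map (MulAut.conj x).toMonoidHom := by
    intro n hn
    refine ⟨x⁻¹ * n * x, hNK ?_, ?_⟩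
    · have := hN.conj_mem n hn x⁻¹
      rwa [inv_inv] at this
    · simp only [MulEquiv.coe_toMonoidHom, MulAut.conj_apply]
      group
  have hsolvK' : Group.IsSolvable (↥(K.map (MulAut.conj x).toMonoidHom) ⧸
      N.subgroupOf (K.map (MulAut.conj x).toMonoidHom)) :=
    solvOver N _ (isSolvable_zpowers (x * g * x⁻¹)) _ hmap
  have hmem : x * g * x⁻¹ ∈ K.map (MulAut.conj x).toMonoidHom :=
    ⟨g, hgK, by simp [MulAut.conj_apply]⟩
  have h2 := glue_eq N ϑ μ hϑ hinv hμ hμ1 hμN d hd hcop _ hNK' _ hψ' (x * g * x⁻¹) hmem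
  rw [h1, h2]
  congr 1
  rw [MulEquiv.symm_apply_eq]
  apply Subtype.ext
  have h3 := Subgroup.coe_equivMapOfInjective_apply K (MulAut.conj x).toMonoidHom
    (MulAut.conj x).injective ⟨g, hgK⟩
  exact (h3.trans (by simp [MulAut.conj_apply])).symm

include hϑ hinv hμ hμ1 hμN in
theorem glue_local (d : ℕ) (hd : ϑ 1 = d) (hcop : Nat.Coprime N.index d)
    (H : Subgroup G) (hNH : N ≤ H) (hsolv : Group.IsSolvable (H ⧸ N.subgroupOf H)) :
    ∃ ψ : H → ℂ, CanExt N ϑ μ H ψ ∧ IsIrrCharacter H ψ ∧ ∀ h : H, glue N ϑ μ h = ψ h := by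
  obtain ⟨ψ, hψ, hirr, _⟩ := canExt_exists_unique N ϑ μ hϑ hinv hμ hμ1 hμN d hd hcop H hNH hsolv
  exact ⟨ψ, hψ, hirr, fun h => glue_eq N ϑ μ hϑ hinv hμ hμ1 hμN d hd hcop H hNH ψ hψ h h.2⟩

include hϑ hinv hμ hμ1 hμN in
theorem glue_coset_sum (d : ℕ) (hd : ϑ 1 = d) (hcop : Nat.Coprime N.index d) [Fintype N] (g₀ : G) :
    ∑ n : N, glue N ϑ μ ((n : G) * g₀) * conj (glue N ϑ μ ((n : G) * g₀)) = (Nat.card N : ℂ) := by
  classical
  obtain ⟨H, hH⟩ : ∃ H : Subgroup G, H = N ⊔ Subgroup.zpowers g₀ := ⟨_, rfl⟩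
  have hNH : N ≤ H := hH ▸ le_sup_left
  have hgH : g₀ ∈ H := hH ▸ mem_sup_zpowers N g₀
  have hsolv : Group.IsSolvable (H ⧸ N.subgroupOf H) :=
    solvOver N (Subgroup.zpowers g₀) (isSolvable_zpowers g₀) H (le_of_eq hH)
  obtain ⟨ψ, hψ, hirr, hloc⟩ := glue_local N ϑ μ hϑ hinv hμ hμ1 hμN d hd hcop H hNH hsolv
  obtain ⟨N', hN'⟩ : ∃ N' : Subgroup H, N' = N.subgroupOf H := ⟨_, rfl⟩
  haveI hN'n : N'.Normal := hN' ▸ Subgroup.normal_subgroupOf
  obtain ⟨e, he⟩ : ∃ e : N' ≃* N, ∀ x : N', ((e x : N) : G) = ((x : H) : G) := by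
    subst hN'
    exact ⟨Subgroup.subgroupOfEquivOfLe hNH, fun x => rfl⟩
  letI : Fintype H := Fintype.ofFinite H
  letI : Fintype N' := Fintype.ofFinite N'
  have hres : (fun n : N' => ψ n) = fun n : N' => ϑ (e n) := by
    funext n
    have h1 := hψ.2.1 (e n) (by rw [he]; exact (n : H).2)
    rw [← h1]
    congr 1
    apply Subtype.ext
    rw [he]
  have hresirr : IsIrrCharacter N' (fun n : N' => ψ n) := by
    rw [hres]
    exact isIrrCharacter_comp_mulEquiv e hϑ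
  have h868 := (Cfsg.Agent.S0868.result N' ψ hirr hresirr ψ hirr _ rfl).2.2 rfl
  have h1 := congrFun h868 ⟨g₀, hgH⟩
  have hcard : Nat.card N' = Nat.card N := Nat.card_congr e.toEquiv
  have hN0 : (Nat.card N : ℂ) ≠ 0 := by
    have : Nat.card N ≠ 0 := Nat.card_pos.ne'
    exact_mod_cast this
  rw [hcard] at h1
  have h2 : ∑ n : N', ψ ((n : H) * ⟨g₀, hgH⟩) * conj (ψ ((n : H) * ⟨g₀, hgH⟩)) = (Nat.card N : ℂ) := by
    field_simp at h1
    exact h1
  rw [← h2]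
  symm
  apply Fintype.sum_equiv e.toEquiv
  intro n
  have h3 : glue N ϑ μ (((e n : N) : G) * g₀) = ψ ((n : H) * ⟨g₀, hgH⟩) := by
    have := hloc ((n : H) * ⟨g₀, hgH⟩)
    rw [← this]
    congr 1
    rw [he]
    rfl
  simp only [MulEquiv.toEquiv_eq_coe, MulEquiv.coe_toEquiv]
  rw [h3]

include hϑ hinv hμ hμ1 hμN in
/-- Gallagher: an invariant irreducible character of degree coprime to the index extends as soon
as its determinant does. -/
theorem exists_extension_of_det (d : ℕ) (hd : ϑ 1 = d) (hcop : Nat.Coprime N.index d) :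
    ∃ χ : G → ℂ, IsIrrCharacter G χ ∧ (∀ n : N, χ n = ϑ n) ∧ detChar χ = μ := by
  classical
  letI : Fintype N := Fintype.ofFinite N
  obtain ⟨θ, hθ⟩ : ∃ θ : G → ℂ, θ = glue N ϑ μ := ⟨_, rfl⟩
  have hcl : IsClassFunction G θ := hθ ▸ glue_classFunction N ϑ μ hϑ hinv hμ hμ1 hμN d hd hcop
  have hloc : ∀ (H : Subgroup G), N ≤ H → Group.IsSolvable (H ⧸ N.subgroupOf H) →
      ∃ ψ : H → ℂ, CanExt N ϑ μ H ψ ∧ IsIrrCharacter H ψ ∧ ∀ h : H, θ h = ψ h := by
    intro H hNH hsolv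
    rw [hθ]
    exact glue_local N ϑ μ hϑ hinv hμ hμ1 hμN d hd hcop H hNH hsolv
  -- generalized character
  have hgen : IsGeneralizedCharacter G θ := by
    apply brauer_characterization θ hcl
    intro E p hp hE
    haveI : Fact p.Prime := ⟨hp⟩
    haveI : Group.IsNilpotent E := isNilpotent_of_isElementary hE
    have hsolvE : Group.IsSolvable E := inferInstance
    obtain ⟨ψ, hψ, -, hψθ⟩ := hloc (N ⊔ E) le_sup_left (solvOver N E hsolvE _ le_rfl)
    have hEH : E ≤ N ⊔ E := le_sup_right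
    have h1 : (fun e : E => θ e) = fun e : E => ψ (Subgroup.inclusion hEH e) := by
      funext e
      exact hψθ (Subgroup.inclusion hEH e)
    refine ⟨_, 0, ?_, isCharacter_zero, (sub_zero _).symm⟩
    rw [h1]
    exact isCharacter_comp hψ.1 (Subgroup.inclusion hEH)
  -- restriction to `N`
  have hθN : ∀ n : N, θ n = ϑ n := by
    intro n
    obtain ⟨ψ, hψ, -, hψθ⟩ := hloc (N ⊔ Subgroup.zpowers (n : G)) le_sup_left
      (solvOver N _ (isSolvable_zpowers (n : G)) _ le_rfl)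
    have h1 := hψθ ⟨n, mem_sup_zpowers N (n : G)⟩
    simp only at h1
    rw [h1]
    exact hψ.2.1 n _
  -- the norm
  have hsumN : ∀ g₀ : G, ∑ n : N, θ ((n : G) * g₀) * conj (θ ((n : G) * g₀)) = (Nat.card N : ℂ) := by
    intro g₀
    rw [hθ]
    exact glue_coset_sum N ϑ μ hϑ hinv hμ hμ1 hμN d hd hcop g₀
  have hN0 : (Nat.card N : ℂ) ≠ 0 := by
    have : Nat.card N ≠ 0 := Nat.card_pos.ne'
    exact_mod_cast this
  have hG0 : (Nat.card G : ℂ) ≠ 0 := by
    have : Nat.card G ≠ 0 := Nat.card_pos.ne'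
    exact_mod_cast this
  have htotal : ∑ g : G, θ g * conj (θ g) = (Nat.card G : ℂ) := by
    have h1 : (Nat.card N : ℂ) * ∑ g : G, θ g * conj (θ g)
        = ∑ n : N, ∑ g : G, θ ((n : G) * g) * conj (θ ((n : G) * g)) := by
      have h2 : ∀ n : N, ∑ g : G, θ ((n : G) * g) * conj (θ ((n : G) * g))
          = ∑ g : G, θ g * conj (θ g) := by
        intro n
        exact Fintype.sum_equiv (Equiv.mulLeft (n : G)) _ _ (fun g => rfl)
      rw [Finset.sum_congr rfl (fun n _ => h2 n), Finset.sum_const, Finset.card_univ,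
        nsmul_eq_mul, Nat.card_eq_fintype_card]
    rw [Finset.sum_comm, Finset.sum_congr rfl (fun g _ => hsumN g), Finset.sum_const,
      Finset.card_univ, nsmul_eq_mul, ← Nat.card_eq_fintype_card] at h1
    have h3 : (Nat.card N : ℂ) * ∑ g : G, θ g * conj (θ g) = (Nat.card N : ℂ) * (Nat.card G : ℂ) := by
      rw [h1]; ring
    exact mul_left_cancel₀ hN0 h3
  have hnorm : classInner θ θ = 1 := by
    unfold classInner
    rw [htotal]
    field_simp
  obtain ⟨a, ha | ha⟩ := exists_irr_of_norm_one hgen hnorm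
  · have hirr : IsIrrCharacter G θ := ha ▸ a.2
    refine ⟨θ, hirr, hθN, ?_⟩
    funext g
    obtain ⟨ψ, hψ, -, hψθ⟩ := hloc (N ⊔ Subgroup.zpowers g) le_sup_left
      (solvOver N _ (isSolvable_zpowers g) _ le_rfl)
    have h1 := detChar_restrict (N ⊔ Subgroup.zpowers g) (isCharacter_of_isIrrCharacter hirr)
      ⟨g, mem_sup_zpowers N g⟩
    have h2 : (fun h : ↥(N ⊔ Subgroup.zpowers g) => θ h) = ψ := funext hψθ
    rw [h2] at h1
    rw [← h1]
    exact hψ.2.2 _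
  · exfalso
    obtain ⟨m, hm, ham⟩ := exists_pos_nat_apply_one a.2
    have h1 : θ 1 = ϑ 1 := hθN 1
    rw [ha, Pi.neg_apply, ham, hd] at h1
    have h2 : ((m + d : ℕ) : ℂ) = 0 := by
      push_cast
      rw [← h1]
      ring
    have h3 : m + d = 0 := by exact_mod_cast h2
    omega

end main

end Cfsg.Agent.Lib.helper3.GalExt
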