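import Mathlib
import Cfsg.Prelude.Def_Characters
import Cfsg.Prelude.Def_CharExt
import Cfsg.Agent.Lib.helper3.CharBasic
import Cfsg.Agent.Lib.helper3.Det
import Cfsg.Agent.Lib.helper3.SolvExt
import Cfsg.Agent.Lib.helper3.GalPow
import Cfsg.Agent.S0867

/-!
# The canonical extension is fixed by Galois conjugations trivial on the normal subgroup
-/

set_option autoImplicit false
set_option linter.style.haveILetI false
set_option linter.unusedSectionVars false

namespace Cfsg.Agent.Lib.helper3.GlCyc

open Cfsg Module Cfsg.Agent.Lib.helper3.Irr Cfsg.Agent.Lib.helper3.CharBasic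
open Cfsg.Agent.Lib.helper3.Det Cfsg.Agent.Lib.helper3.SolvExt
open scoped ComplexConjugate

section linalg

variable {V : Type*} [AddCommGroup V] [Module ℂ V] [FiniteDimensional ℂ V]

/-- Determinant of a diagonalisable endomorphism. -/
theorem det_eq_prod_of_eigenbasis {I : Type*} [Fintype I] (v : Basis I ℂ V) (μ : I → ℂ)
    (f : Module.End ℂ V) (hf : ∀ i, f (v i) = μ i • v i) :
    LinearMap.det f = ∏ i, μ i := by
  classical
  rw [← LinearMap.det_toMatrix v f]
  have : LinearMap.toMatrix v v f = Matrix.diagonal μ := by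
    ext i j
    rw [LinearMap.toMatrix_apply, hf, Matrix.diagonal_apply]
    simp only [map_smul, Basis.repr_self, Finsupp.smul_apply, smul_eq_mul]
    by_cases hij : i = j
    · subst hij
      simp
    · rw [if_neg hij, Finsupp.single_apply, if_neg (fun h => hij h.symm), mul_zero]
  rw [this, Matrix.det_diagonal]

end linalg

section roots

/-- Multiplicity of a root of unity in a family, via power sums. -/
theorem mult_of_pow_sums {I : Type*} [Fintype I] [DecidableEq ℂ] (a : I → ℂ) (N : ℕ) (hN : 0 < N)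
    (ha : ∀ i, a i ^ N = 1) (ω : ℂ) (hω : ω ^ N = 1) :
    ((Finset.univ.filter (fun i => a i = ω)).card : ℂ) * N
      = ∑ t ∈ Finset.range N, (ω⁻¹) ^ t * ∑ i, a i ^ t := by
  have hω0 : ω ≠ 0 := by
    intro h0
    rw [h0, zero_pow hN.ne'] at hω
    exact zero_ne_one hω
  have h1 : ∑ t ∈ Finset.range N, (ω⁻¹) ^ t * ∑ i, a i ^ t
      = ∑ i, ∑ t ∈ Finset.range N, (a i * ω⁻¹) ^ t := by
    rw [Finset.sum_comm]
    apply Finset.sum_congr rfl
    intro t _
    rw [Finset.mul_sum]
    apply Finset.sum_congr rfl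
    intro i _
    rw [mul_pow, mul_comm]
  rw [h1]
  have h2 : ∀ i, ∑ t ∈ Finset.range N, (a i * ω⁻¹) ^ t = if a i = ω then (N : ℂ) else 0 := by
    intro i
    by_cases hi : a i = ω
    · rw [if_pos hi, hi, mul_inv_cancel₀ hω0]
      simp
    · rw [if_neg hi]
      have hz : (a i * ω⁻¹) ^ N = 1 := by
        rw [mul_pow, ha i, inv_pow, hω, inv_one, mul_one]
      have hz1 : a i * ω⁻¹ - 1 ≠ 0 := by
        intro h0
        apply hi
        have := sub_eq_zero.mp h0
        field_simp at this
        exact this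
      have := geom_sum_mul (a i * ω⁻¹) N
      rw [hz, sub_self] at this
      rcases mul_eq_zero.mp this with h | h
      · exact h
      · exact absurd h hz1
  simp only [h2]
  rw [Finset.sum_ite, Finset.sum_const_zero, add_zero, Finset.sum_const, nsmul_eq_mul]

/-- Families of roots of unity with the same power sums have the same product. -/
theorem prod_eq_of_pow_sums {I J : Type*} [Fintype I] [Fintype J] (a : I → ℂ) (b : J → ℂ) (N : ℕ)
    (hN : 0 < N) (ha : ∀ i, a i ^ N = 1) (hb : ∀ j, b j ^ N = 1)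
    (hsum : ∀ t : ℕ, ∑ i, a i ^ t = ∑ j, b j ^ t) : ∏ i, a i = ∏ j, b j := by
  classical
  set R : Finset ℂ := Finset.univ.image a ∪ Finset.univ.image b with hR
  have hRN : ∀ ω ∈ R, ω ^ N = 1 := by
    intro ω hω
    rw [hR, Finset.mem_union, Finset.mem_image, Finset.mem_image] at hω
    rcases hω with ⟨i, -, rfl⟩ | ⟨j, -, rfl⟩
    · exact ha i
    · exact hb j
  have hmult : ∀ ω ∈ R, (Finset.univ.filter (fun i => a i = ω)).card
      = (Finset.univ.filter (fun j => b j = ω)).card := by
    intro ω hω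
    have h1 := mult_of_pow_sums a N hN ha ω (hRN ω hω)
    have h2 := mult_of_pow_sums b N hN hb ω (hRN ω hω)
    simp only [hsum] at h1
    rw [← h2] at h1
    have hN0 : (N : ℂ) ≠ 0 := by exact_mod_cast hN.ne'
    have := mul_right_cancel₀ hN0 h1
    exact_mod_cast this
  have hA : ∏ i, a i = ∏ ω ∈ R, ω ^ (Finset.univ.filter (fun i => a i = ω)).card := by
    rw [← Finset.prod_fiberwise_of_maps_to (s := Finset.univ) (t := R) (g := a)
      (fun i _ => by rw [hR]; exact Finset.mem_union_left _ (Finset.mem_image_of_mem a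
        (Finset.mem_univ i))) a]
    apply Finset.prod_congr rfl
    intro ω _
    rw [Finset.prod_congr rfl (fun i hi => (Finset.mem_filter.mp hi).2), Finset.prod_const]
  have hB : ∏ j, b j = ∏ ω ∈ R, ω ^ (Finset.univ.filter (fun j => b j = ω)).card := by
    rw [← Finset.prod_fiberwise_of_maps_to (s := Finset.univ) (t := R) (g := b)
      (fun j _ => by rw [hR]; exact Finset.mem_union_right _ (Finset.mem_image_of_mem b
        (Finset.mem_univ j))) b]
    apply Finset.prod_congr rfl
    intro ω _
    rw [Finset.prod_congr rfl (fun i hi => (Finset.mem_filter.mp hi).2), Finset.prod_const]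
  rw [hA, hB]
  apply Finset.prod_congr rfl
  intro ω hω
  rw [hmult ω hω]

end roots

section det

variable {G : Type*} [Group G] [Finite G]

/-- Determinant of a representation whose character is a Galois power conjugate. -/
theorem det_pow_of_character {V W : Type*} [AddCommGroup V] [Module ℂ V] [FiniteDimensional ℂ V]
    [AddCommGroup W] [Module ℂ W] [FiniteDimensional ℂ W]
    (ρ : Representation ℂ G V) (σ : Representation ℂ G W) (j : ℕ)
    (hσ : ∀ x : G, σ.character x = ρ.character (x ^ j)) (x : G) :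
    LinearMap.det (σ x) = LinearMap.det (ρ x) ^ j := by
  obtain ⟨I, _, v, μ, hf, hμ⟩ := exists_eigenbasis ρ x
  obtain ⟨J, _, w, ν, hg, hν⟩ := exists_eigenbasis σ x
  rw [det_eq_prod_of_eigenbasis v μ (ρ x) hf, det_eq_prod_of_eigenbasis w ν (σ x) hg,
    ← Finset.prod_pow]
  apply prod_eq_of_pow_sums ν (fun i => μ i ^ j) (orderOf x) (orderOf_pos x) hν
  · intro i
    rw [← pow_mul, mul_comm, pow_mul, hμ i, one_pow]
  · intro t
    have h1 : ∑ i, ν i ^ t = σ.character (x ^ t) :=
      (character_eq_sum_of_eigenbasis σ (x ^ t) w (fun i => ν i ^ t)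
        (fun i => rho_pow_apply_eigen σ x w ν hg t i)).symm
    have h2 : ∑ i, (μ i ^ j) ^ t = ρ.character (x ^ (j * t)) := by
      rw [character_eq_sum_of_eigenbasis ρ (x ^ (j * t)) v (fun i => μ i ^ (j * t))
        (fun i => rho_pow_apply_eigen ρ x v μ hf (j * t) i)]
      apply Finset.sum_congr rfl
      intro i _
      rw [pow_mul]
    rw [h1, h2, hσ, ← pow_mul, mul_comm]

/-- The determinantal character of a Galois power conjugate. -/
theorem detChar_pow_conj {χ ψ : G → ℂ} (hχ : IsCharacter G χ) (hψ : IsCharacter G ψ) (j : ℕ)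
    (h : ∀ x : G, ψ x = χ (x ^ j)) (x : G) : detChar ψ x = detChar χ x ^ j := by
  obtain ⟨n, ρ, rfl⟩ := hχ
  obtain ⟨m, σ, rfl⟩ := hψ
  rw [detChar_character, detChar_character]
  exact det_pow_of_character ρ σ j h x

theorem detOrder_pow_conj_dvd {χ ψ : G → ℂ} (hχ : IsCharacter G χ) (hψ : IsCharacter G ψ) (j : ℕ)
    (h : ∀ x : G, ψ x = χ (x ^ j)) : detOrder ψ ∣ detOrder χ := by
  unfold detOrder
  apply orderOf_dvd_of_pow_eq_one
  funext x
  rw [Pi.pow_apply, detChar_pow_conj hχ hψ j h x, ← pow_mul, mul_comm, pow_mul]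
  have := congrFun (pow_orderOf_eq_one (detChar χ)) x
  rw [Pi.pow_apply, Pi.one_apply] at this
  rw [this, one_pow, Pi.one_apply]

/-- The determinantal order of a character divides the group order. -/
theorem detOrder_dvd_card {χ : G → ℂ} (hχ : IsCharacter G χ) : detOrder χ ∣ Nat.card G := by
  unfold detOrder
  apply orderOf_dvd_of_pow_eq_one
  funext x
  obtain ⟨hc, h1⟩ := isCharacter_detChar hχ
  rw [Pi.pow_apply]
  exact Cfsg.Agent.Lib.helper3.Lin.pow_eq_one_of_linear hc h1 x _ pow_card_eq_one'

end det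

section canonical

variable {Γ : Type*} [Group Γ] [Fintype Γ]

/-- An irreducible character of `Γ` restricting irreducibly to the normal subgroup `G` of coprime
index, with determinantal order coprime to the index, is fixed by the Galois power
conjugations that are trivial on `G`. -/
theorem canonical_pow_invariant (G : Subgroup Γ) [hG : G.Normal]
    (hcop : (Nat.card G).Coprime G.index) (ξ : Γ → ℂ) (hξ : IsIrrCharacter Γ ξ)
    (hξG : IsIrrCharacter G (fun g : G => ξ g)) (hdet : (detOrder ξ).Coprime G.index)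
    (j : ℕ) (hj : j.Coprime (Nat.card Γ)) (hj1 : j ≡ 1 [MOD Nat.card G]) (x : Γ) :
    ξ (x ^ j) = ξ x := by
  classical
  set ψ : Γ → ℂ := fun x => ξ (x ^ j) with hψdef
  have hψ : IsIrrCharacter Γ ψ := Cfsg.Agent.Lib.helper3.GalPow.isIrrCharacter_pow hξ j hj
  have hξc := isCharacter_of_isIrrCharacter hξ
  have hψc := isCharacter_of_isIrrCharacter hψ
  have hcf := isClassFunction_of_isCharacter hξc
  obtain ⟨d, hd, hdd, -⟩ := Cfsg.Agent.Lib.helper3.Central.irr_degree_dvd_card hξG
  have hcop' : Nat.Coprime G.index (detOrder (fun g : G => ξ g) * d) := by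
    apply Nat.Coprime.mul_right
    · exact (Nat.Coprime.coprime_dvd_left
        (detOrder_dvd_card (isCharacter_of_isIrrCharacter hξG)) hcop).symm
    · exact (Nat.Coprime.coprime_dvd_left hdd hcop).symm
  obtain ⟨χ₀, -, huniq⟩ := Cfsg.Agent.S0867.result G (fun g : G => ξ g) hξG
    (fun g n => hcf n g) d hd hcop'
  have h1 : ξ = χ₀ := huniq ξ hξ (fun _ => rfl) hdet.symm
  have hres : ∀ n : G, ψ n = ξ n := by
    intro n
    rw [hψdef]
    simp only
    congr 1
    have hn : (n : Γ) ^ Nat.card G = 1 := by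
      have h0 : n ^ Nat.card G = 1 := pow_card_eq_one'
      have h00 := congrArg Subtype.val h0
      rw [Subgroup.coe_pow, Subgroup.coe_one] at h00
      exact h00
    have hord : orderOf (n : Γ) ∣ Nat.card G := orderOf_dvd_of_pow_eq_one hn
    have hmod : j ≡ 1 [MOD orderOf (n : Γ)] := hj1.of_dvd hord
    rw [(pow_eq_pow_iff_modEq (x := (n : Γ))).mpr hmod, pow_one]
  have h2 : ψ = χ₀ := huniq ψ hψ hres
    ((Nat.Coprime.coprime_dvd_left (detOrder_pow_conj_dvd hξc hψc j (fun _ => rfl)) hdet).symm)
  have := congrFun (h2.trans h1.symm) x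
  exact this

end canonical

end Cfsg.Agent.Lib.helper3.GlCyc
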