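import Mathlib
import Cfsg.Agent.Lib.helper3.GlCyc2
import Cfsg.Agent.Lib.helper3.GlCyc3
import Cfsg.Agent.Lib.helper3.Cyclo
import Cfsg.Agent.Lib.helper3.ProdIrr
import Cfsg.Agent.Lib.helper3.Irr10
import Cfsg.Agent.S0868

/-!
# Coprime cyclic action: the canonical extension on the generating coset
-/

set_option autoImplicit false
set_option linter.style.haveILetI false
set_option linter.unusedSectionVars false

namespace Cfsg.Agent.Lib.helper3.GlCyc

open Cfsg Module Cfsg.Agent.Lib.helper3.Irr Cfsg.Agent.Lib.helper3.CharBasic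
open Cfsg.Agent.Lib.helper3.IndFun Cfsg.Agent.Lib.helper3.Cyclo
open scoped ComplexConjugate

section cyclo

/-- A nonnegative integer combination of roots of unity fixed by all Galois conjugations is a
rational integer. -/
theorem int_of_pow_sums {I : Type*} [Fintype I] (m : I → ℕ) (ω : I → ℂ) (n : ℕ) [NeZero n]
    (hω : ∀ i, ω i ^ n = 1)
    (hinv : ∀ k : ℕ, k.Coprime n → ∑ i, (m i : ℂ) * ω i ^ k = ∑ i, (m i : ℂ) * ω i) :
    ∃ z : ℤ, ∑ i, (m i : ℂ) * ω i = z := by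
  have hex : ∀ i, ∃ e : ℕ, ω i = emb n (zetaK n) ^ e := by
    intro i
    obtain ⟨e, -, he⟩ := (emb_zetaK_spec n).eq_pow_of_pow_eq_one (hω i)
    exact ⟨e, he.symm⟩
  choose e he using hex
  obtain ⟨A, hAdef⟩ : ∃ A : CyclotomicField n ℚ,
      A = ∑ i, (m i : CyclotomicField n ℚ) * zetaK n ^ e i := ⟨_, rfl⟩
  have hA : emb n A = ∑ i, (m i : ℂ) * ω i := by
    rw [hAdef, map_sum]
    apply Finset.sum_congr rfl
    intro i _
    rw [map_mul, map_natCast, map_pow, he i]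
  have hint : IsIntegral ℤ A := by
    rw [hAdef]
    apply IsIntegral.sum
    intro i _
    exact (isIntegral_natCast (R := ℤ) (m i)).mul
      (((zetaK_spec n).isIntegral (NeZero.pos n)).pow _)
  have hfix : ∀ σ : CyclotomicField n ℚ ≃ₐ[ℚ] CyclotomicField n ℚ, σ A = A := by
    intro σ
    obtain ⟨t, ht, hσ⟩ := aut_zeta n σ
    apply emb_injective n
    rw [hA, ← hinv t ht, hAdef, map_sum, map_sum]
    apply Finset.sum_congr rfl
    intro i _
    rw [map_mul, map_mul, map_natCast, map_natCast, map_pow, map_pow, hσ, map_pow, he i,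
      ← pow_mul, ← pow_mul, mul_comm (e i) t]
  obtain ⟨q, hq⟩ := exists_rat_of_fixed n A hfix
  have hq_int : IsIntegral ℤ q := by
    rw [hq] at hint
    exact (isIntegral_algebraMap_iff (algebraMap ℚ (CyclotomicField n ℚ)).injective).mp hint
  obtain ⟨z, hz⟩ := IsIntegrallyClosed.isIntegral_iff.mp hq_int
  refine ⟨z, ?_⟩
  rw [← hA, hq, AlgHom.commutes, ← hz]
  simp

end cyclo

namespace Setup

variable {Γ : Type*} [Group Γ] [Fintype Γ] {G S : Subgroup Γ} {s₀ : Γ}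

theorem exists_pow_gen (h : Setup G S s₀) {s : Γ} (hs : Subgroup.zpowers s = S) :
    ∃ k : ℕ, k.Coprime (Nat.card S) ∧ s = s₀ ^ k := by
  have hsS : s ∈ S := hs ▸ Subgroup.mem_zpowers s
  obtain ⟨k, rfl⟩ := h.exists_pow_of_mem hsS
  refine ⟨k, ?_, rfl⟩
  have h1 : orderOf (s₀ ^ k) = Nat.card S := by rw [← hs, Nat.card_zpowers]
  rw [orderOf_pow, h.orderOf_eq, Nat.div_eq_self] at h1
  rcases h1 with h1 | h1
  · exact absurd h1 Nat.card_pos.ne'
  · rw [Nat.coprime_comm]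
    exact h1

/-- A power `j` which is trivial on `G` and induces `k` on `S`. -/
theorem exists_crt_pow (h : Setup G S s₀) (k : ℕ) (hk : k.Coprime (Nat.card S)) :
    ∃ j : ℕ, j.Coprime (Nat.card Γ) ∧ j ≡ 1 [MOD Nat.card G] ∧ j ≡ k [MOD Nat.card S] := by
  obtain ⟨j, hj1, hj2⟩ := Nat.chineseRemainder h.cop 1 k
  refine ⟨j, ?_, hj1, hj2⟩
  rw [h.card_eq]
  apply Nat.Coprime.mul_right
  · have := hj1.gcd_eq
    unfold Nat.Coprime
    rw [this]
    exact Nat.gcd_one_left _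
  · have := hj2.gcd_eq
    unfold Nat.Coprime
    rw [this]
    exact hk

theorem pow_crt' (h : Setup G S s₀) {c : Γ}
    (hc : c ∈ G ⊓ Subgroup.centralizer (S : Set Γ)) {j k : ℕ} (hj1 : j ≡ 1 [MOD Nat.card G])
    (hj2 : j ≡ k [MOD Nat.card S]) : (c * s₀) ^ j = c * s₀ ^ k := by
  have hcomm : Commute c s₀ := h.commute_of_mem hc
  rw [hcomm.mul_pow]
  have h1 : c ^ j = c := by
    have hcard : c ^ Nat.card G = 1 := by
      have h0 : (⟨c, (Subgroup.mem_inf.mp hc).1⟩ : G) ^ Nat.card G = 1 := pow_card_eq_one'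
      have h2 := congrArg Subtype.val h0
      rw [Subgroup.coe_pow, Subgroup.coe_one] at h2
      exact h2
    have hord : orderOf c ∣ Nat.card G := orderOf_dvd_of_pow_eq_one hcard
    rw [(pow_eq_pow_iff_modEq (x := c)).mpr (hj1.of_dvd hord), pow_one]
  have h2 : s₀ ^ j = s₀ ^ k :=
    (pow_eq_pow_iff_modEq (x := s₀)).mpr (by rw [h.orderOf_eq]; exact hj2)
  rw [h1, h2]

variable (C : Subgroup Γ) (hC : C = G ⊓ Subgroup.centralizer (S : Set Γ))

include hC in
/-- The canonical extension takes the same values on `c s₀ ^ k` for all `k` prime to `|S|`. -/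
theorem canonical_gen (h : Setup G S s₀) (ξ : Γ → ℂ) (hξ : IsIrrCharacter Γ ξ)
    (hξG : IsIrrCharacter G (fun g : G => ξ g)) (hdet : (detOrder ξ).Coprime (Nat.card S))
    (k : ℕ) (hk : k.Coprime (Nat.card S)) (c : C) :
    ξ ((c : Γ) * s₀ ^ k) = ξ ((c : Γ) * s₀) := by
  haveI := h.normal
  obtain ⟨j, hj, hj1, hj2⟩ := h.exists_crt_pow k hk
  rw [← h.pow_crt' (hC.le c.2) hj1 hj2]
  exact canonical_pow_invariant G (by rw [h.index_eq]; exact h.cop) ξ hξ hξG
    (by rw [h.index_eq]; exact hdet) j hj hj1 _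

include hC in
theorem canonical_gen' (h : Setup G S s₀) (ξ : Γ → ℂ) (hξ : IsIrrCharacter Γ ξ)
    (hξG : IsIrrCharacter G (fun g : G => ξ g)) (hdet : (detOrder ξ).Coprime (Nat.card S))
    (s : Γ) (hs : Subgroup.zpowers s = S) (c : C) :
    ξ ((c : Γ) * s) = ξ ((c : Γ) * s₀) := by
  obtain ⟨k, hk, rfl⟩ := h.exists_pow_gen hs
  exact h.canonical_gen C hC ξ hξ hξG hdet k hk c

variable [Fintype G] [Fintype C]

include hC in
/-- Inner products on `C` of the functions `c ↦ ξ (c s₀)` are coset averages. -/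
theorem classInner_coset (h : Setup G S s₀) (ξ ξ' : Γ → ℂ) (hξ : IsClassFunction Γ ξ)
    (hξ' : IsClassFunction Γ ξ') :
    classInner (fun c : C => ξ ((c : Γ) * s₀)) (fun c : C => ξ' ((c : Γ) * s₀))
      = (Nat.card G : ℂ)⁻¹ * ∑ g : G, ξ ((g : Γ) * s₀) * conj (ξ' ((g : Γ) * s₀)) := by
  have hsum := h.coset_sum C hC (fun x => ξ x * conj (ξ' x)) (by
    intro x y
    show ξ (y * x * y⁻¹) * conj (ξ' (y * x * y⁻¹)) = ξ x * conj (ξ' x)
    rw [hξ x y, hξ' x y])
  have hC0 : (Nat.card C : ℂ) ≠ 0 := card_ne_zero_complex C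
  have hG0 : (Nat.card G : ℂ) ≠ 0 := card_ne_zero_complex G
  unfold classInner
  simp only at hsum ⊢
  field_simp
  rw [mul_comm _ (Nat.card G : ℂ), ← hsum]

end Setup

end Cfsg.Agent.Lib.helper3.GlCyc
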