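import Mathlib
import Cfsg.Agent.Lib.helper3.GlCyc4
import Cfsg.Agent.Lib.helper3.Irr6

/-!
# Coprime cyclic action: the canonical extension on the generating coset is a signed
irreducible character of the fixed-point subgroup
-/

set_option autoImplicit false
set_option linter.style.haveILetI false
set_option linter.unusedSectionVars false

namespace Cfsg.Agent.Lib.helper3.GlCyc

open Cfsg Module Cfsg.Agent.Lib.helper3.Irr Cfsg.Agent.Lib.helper3.CharBasic
open Cfsg.Agent.Lib.helper3.IndFun Cfsg.Agent.Lib.helper3.Cyclo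
open scoped ComplexConjugate

/-- Integers whose squares sum to one. -/
theorem exists_of_sum_sq_eq_one {ι : Type*} [Fintype ι] (z : ι → ℤ) (h : ∑ i, z i ^ 2 = 1) :
    ∃ i₀, (z i₀ = 1 ∨ z i₀ = -1) ∧ ∀ i, i ≠ i₀ → z i = 0 := by
  classical
  have hex : ∃ i₀, z i₀ ≠ 0 := by
    by_contra hcon
    push Not at hcon
    simp [hcon] at h
  obtain ⟨i₀, hi₀⟩ := hex
  have hsplit : ∑ i, z i ^ 2 = z i₀ ^ 2 + ∑ i ∈ Finset.univ.erase i₀, z i ^ 2 := by
    exact (Finset.add_sum_erase _ (fun i => z i ^ 2) (Finset.mem_univ i₀)).symm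
  have hnn : 0 ≤ ∑ i ∈ Finset.univ.erase i₀, z i ^ 2 :=
    Finset.sum_nonneg (fun i _ => sq_nonneg _)
  have h1 : 1 ≤ z i₀ ^ 2 := by
    have : 0 < z i₀ ^ 2 := by positivity
    omega
  have h2 : z i₀ ^ 2 = 1 := by omega
  have h3 : ∑ i ∈ Finset.univ.erase i₀, z i ^ 2 = 0 := by omega
  refine ⟨i₀, ?_, ?_⟩
  · have : (z i₀ - 1) * (z i₀ + 1) = 0 := by ring_nf; omega
    rcases mul_eq_zero.mp this with h | h
    · left; omega
    · right; omega
  · intro i hi
    have := (Finset.sum_eq_zero_iff_of_nonneg (fun i _ => sq_nonneg (z i))).mp h3 i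
      (Finset.mem_erase.mpr ⟨hi, Finset.mem_univ i⟩)
    exact pow_eq_zero_iff (two_ne_zero) |>.mp this

namespace Setup

variable {Γ : Type*} [Group Γ] [Fintype Γ] {G S : Subgroup Γ} {s₀ : Γ}
variable (C : Subgroup Γ) (hC : C = G ⊓ Subgroup.centralizer (S : Set Γ))
variable [Fintype G] [Fintype C]

include hC in
/-- The function `c ↦ ξ (c s₀)` has norm one. -/
theorem phi_norm (h : Setup G S s₀) (ξ : Γ → ℂ) (hξ : IsIrrCharacter Γ ξ)
    (hξG : IsIrrCharacter G (fun g : G => ξ g)) :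
    classInner (fun c : C => ξ ((c : Γ) * s₀)) (fun c : C => ξ ((c : Γ) * s₀)) = 1 := by
  haveI := h.normal
  have hcf := isClassFunction_of_isCharacter (isCharacter_of_isIrrCharacter hξ)
  rw [h.classInner_coset C hC ξ ξ hcf hcf]
  have := (Cfsg.Agent.S0868.result G ξ hξ hξG ξ hξ _ rfl).2.2 rfl
  exact congrFun this s₀

include hC in
/-- Orthogonality of the functions `c ↦ ξ (c s₀)` for characters with different restrictions
to `G`. -/
theorem phi_orth (h : Setup G S s₀) (ξ ξ' : Γ → ℂ) (hξ : IsIrrCharacter Γ ξ)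
    (hξG : IsIrrCharacter G (fun g : G => ξ g)) (hξ' : IsIrrCharacter Γ ξ')
    (horth : classInner (fun g : G => ξ' g) (fun g : G => ξ g) = 0) :
    classInner (fun c : C => ξ' ((c : Γ) * s₀)) (fun c : C => ξ ((c : Γ) * s₀)) = 0 := by
  haveI := h.normal
  have hcf := isClassFunction_of_isCharacter (isCharacter_of_isIrrCharacter hξ)
  have hcf' := isClassFunction_of_isCharacter (isCharacter_of_isIrrCharacter hξ')
  rw [h.classInner_coset C hC ξ' ξ hcf' hcf]
  have := (Cfsg.Agent.S0868.result G ξ hξ hξG ξ' hξ' _ rfl).2.1 horth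
  exact congrFun this s₀

include hC in
theorem phi_classFunction (h : Setup G S s₀) (ξ : Γ → ℂ) (hξ : IsClassFunction Γ ξ) :
    IsClassFunction C (fun c : C => ξ ((c : Γ) * s₀)) := by
  intro c d
  show ξ (((d * c * d⁻¹ : C) : Γ) * s₀) = ξ ((c : Γ) * s₀)
  have hd : (d : Γ) * s₀ = s₀ * (d : Γ) := h.commute_of_mem (hC.le d.2)
  have hd' : (d : Γ)⁻¹ * s₀ = s₀ * (d : Γ)⁻¹ := by
    have : Commute (d : Γ) s₀ := hd
    exact this.inv_left.eq
  have : ((d * c * d⁻¹ : C) : Γ) * s₀ = (d : Γ) * ((c : Γ) * s₀) * (d : Γ)⁻¹ := by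
    push_cast
    calc (d : Γ) * (c : Γ) * (d : Γ)⁻¹ * s₀ = (d : Γ) * (c : Γ) * ((d : Γ)⁻¹ * s₀) := by group
      _ = (d : Γ) * (c : Γ) * (s₀ * (d : Γ)⁻¹) := by rw [hd']
      _ = (d : Γ) * ((c : Γ) * s₀) * (d : Γ)⁻¹ := by group
  rw [this, hξ]

/-- The multiplication map `C × S → Γ`. -/
noncomputable def mulHom (h : Setup G S s₀) : C × S →* Γ :=
  MonoidHom.noncommCoprod C.subtype S.subtype (by
    intro c t
    have := (Subgroup.mem_centralizer_iff.mp (Subgroup.mem_inf.mp (hC.le c.2)).2) t t.2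
    exact this.symm)

theorem mulHom_apply (h : Setup G S s₀) (p : C × S) :
    h.mulHom C hC p = (p.1 : Γ) * (p.2 : Γ) := rfl

include hC in
/-- The inner products of `c ↦ ξ (c s₀)` with irreducible characters of `C` are rational
integers, and constituents of it are constituents of the restriction of `ξ`. -/
theorem phi_int (h : Setup G S s₀) (ξ : Γ → ℂ) (hξ : IsIrrCharacter Γ ξ)
    (hξG : IsIrrCharacter G (fun g : G => ξ g)) (hdet : (detOrder ξ).Coprime (Nat.card S))
    (β : IrrCharacter C) :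
    (∃ z : ℤ, classInner (fun c : C => ξ ((c : Γ) * s₀)) (β : C → ℂ) = z) ∧
      (classInner (fun c : C => ξ ((c : Γ) * s₀)) (β : C → ℂ) ≠ 0 →
        classInner (fun c : C => ξ (c : Γ)) (β : C → ℂ) ≠ 0) := by
  classical
  haveI : NeZero (Nat.card S) := ⟨Nat.card_pos.ne'⟩
  letI : Fintype S := Fintype.ofFinite S
  have hξc := isCharacter_of_isIrrCharacter hξ
  have hΘ : IsCharacter (C × S) (fun p => ξ (h.mulHom C hC p)) :=
    isCharacter_comp hξc (h.mulHom C hC)
  obtain ⟨m, hm⟩ := exists_decomposition_of_isCharacter hΘ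
  choose βθ lθ hβθ hlθ hθ using fun θ : IrrCharacter (C × S) =>
    exists_of_isIrrCharacter_prod θ.2
  have hScomm : ∀ a b : S, a * b = b * a := by
    intro a b
    obtain ⟨i, hi⟩ := h.exists_pow_of_mem a.2
    obtain ⟨j, hj⟩ := h.exists_pow_of_mem b.2
    apply Subtype.ext
    push_cast
    rw [hi, hj, ← pow_add, ← pow_add, add_comm]
  have hl1 : ∀ θ, lθ θ 1 = 1 := fun θ => apply_one_eq_one_of_comm hScomm (hlθ θ)
  have hlc : ∀ θ, IsCharacter S (lθ θ) := fun θ => isCharacter_of_isIrrCharacter (hlθ θ)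
  set s₀' : S := ⟨s₀, h.mem_S⟩ with hs₀'
  have hlpow : ∀ θ (k : ℕ), lθ θ (s₀' ^ k) = lθ θ s₀' ^ k := by
    intro θ k
    rw [← Cfsg.Agent.Lib.helper3.Lin.toHom_apply (hlc θ) (hl1 θ),
      ← Cfsg.Agent.Lib.helper3.Lin.toHom_apply (hlc θ) (hl1 θ), map_pow]
  have hlroot : ∀ θ, lθ θ s₀' ^ Nat.card S = 1 := fun θ =>
    Cfsg.Agent.Lib.helper3.Lin.pow_eq_one_of_linear (hlc θ) (hl1 θ) s₀' _ pow_card_eq_one'
  -- the key formula
  have hkey : ∀ k : ℕ, classInner (fun c : C => ξ ((c : Γ) * s₀ ^ k)) (β : C → ℂ)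
      = ∑ θ : IrrCharacter (C × S),
        ((m θ * (if βθ θ = (β : C → ℂ) then 1 else 0) : ℕ) : ℂ) * lθ θ s₀' ^ k := by
    intro k
    have h1 : (fun c : C => ξ ((c : Γ) * s₀ ^ k))
        = ∑ θ : IrrCharacter (C × S), ((m θ : ℂ) * lθ θ s₀' ^ k) • βθ θ := by
      funext c
      have h2 : ξ ((c : Γ) * s₀ ^ k) = (fun p => ξ (h.mulHom C hC p)) (c, s₀' ^ k) := by
        simp only [mulHom_apply]
        rfl
      rw [h2, hm]
      simp only [Finset.sum_apply, Pi.smul_apply, smul_eq_mul]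
      apply Finset.sum_congr rfl
      intro θ _
      rw [hθ θ]
      simp only
      rw [hlpow]
      ring
    rw [h1, classInner_sum_left]
    apply Finset.sum_congr rfl
    intro θ _
    rw [classInner_smul_left, irr_classInner_eq (hβθ θ) β.2]
    by_cases hb : βθ θ = (β : C → ℂ)
    · rw [if_pos hb, if_pos hb]
      push_cast
      ring
    · rw [if_neg hb, if_neg hb]
      push_cast
      ring
  have hk1 : classInner (fun c : C => ξ ((c : Γ) * s₀)) (β : C → ℂ)
      = ∑ θ : IrrCharacter (C × S),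
        ((m θ * (if βθ θ = (β : C → ℂ) then 1 else 0) : ℕ) : ℂ) * lθ θ s₀' := by
    have := hkey 1
    simp only [pow_one] at this
    exact this
  have hk0 : classInner (fun c : C => ξ (c : Γ)) (β : C → ℂ)
      = ∑ θ : IrrCharacter (C × S),
        ((m θ * (if βθ θ = (β : C → ℂ) then 1 else 0) : ℕ) : ℂ) := by
    have := hkey 0
    simp only [pow_zero, mul_one] at this
    exact this
  constructor
  · rw [hk1]
    apply int_of_pow_sums _ _ (Nat.card S) hlroot
    intro k hk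
    rw [← hkey k, ← hk1]
    congr 1
    funext c
    exact h.canonical_gen C hC ξ hξ hξG hdet k hk c
  · intro hne
    rw [hk1] at hne
    obtain ⟨θ, -, hθne⟩ := Finset.exists_ne_zero_of_sum_ne_zero hne
    rw [hk0]
    have hpos : 0 < m θ * (if βθ θ = (β : C → ℂ) then 1 else 0) := by
      rcases Nat.eq_zero_or_pos (m θ * (if βθ θ = (β : C → ℂ) then 1 else 0)) with h0 | h0
      · rw [h0] at hθne
        simp at hθne
      · exact h0
    have : (0 : ℕ) < ∑ θ : IrrCharacter (C × S),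
        m θ * (if βθ θ = (β : C → ℂ) then 1 else 0) :=
      Finset.sum_pos' (fun _ _ => Nat.zero_le _) ⟨θ, Finset.mem_univ _, hpos⟩
    rw [← Nat.cast_sum]
    exact_mod_cast this.ne'

include hC in
/-- The canonical extension on the coset `C s₀` is a signed irreducible character of `C`. -/
theorem phi_eq (h : Setup G S s₀) (ξ : Γ → ℂ) (hξ : IsIrrCharacter Γ ξ)
    (hξG : IsIrrCharacter G (fun g : G => ξ g)) (hdet : (detOrder ξ).Coprime (Nat.card S)) :
    ∃ (β : IrrCharacter C) (ε : ℤ), (ε = 1 ∨ ε = -1) ∧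
      (∀ c : C, ξ ((c : Γ) * s₀) = (ε : ℂ) * (β : C → ℂ) c) ∧
      classInner (fun c : C => ξ (c : Γ)) (β : C → ℂ) ≠ 0 := by
  classical
  have hcf := isClassFunction_of_isCharacter (isCharacter_of_isIrrCharacter hξ)
  have hφcf := h.phi_classFunction C hC ξ hcf
  choose z hz using fun β : IrrCharacter C => (h.phi_int C hC ξ hξ hξG hdet β).1
  have hdec := classFunction_eq_sum _ hφcf
  simp only [hz] at hdec
  have hnorm := h.phi_norm C hC ξ hξ hξG
  have hsum : ∑ β : IrrCharacter C, z β ^ 2 = 1 := by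
    have h1 := hnorm
    conv at h1 =>
      lhs
      rw [hdec]
    rw [classInner_decomposition] at h1
    have h2 : (((∑ β : IrrCharacter C, z β ^ 2 : ℤ)) : ℂ) = ((1 : ℤ) : ℂ) := by
      rw [Int.cast_one, ← h1, Int.cast_sum]
      apply Finset.sum_congr rfl
      intro β _
      rw [map_intCast]
      push_cast
      ring
    exact_mod_cast h2
  obtain ⟨β₀, hβ₀, hrest⟩ := exists_of_sum_sq_eq_one z hsum
  have hφ : (fun c : C => ξ ((c : Γ) * s₀)) = ((z β₀ : ℤ) : ℂ) • (β₀ : C → ℂ) := by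
    rw [hdec]
    rw [Finset.sum_eq_single β₀]
    · intro β _ hne
      rw [hrest β hne, Int.cast_zero, zero_smul]
    · intro hn
      exact absurd (Finset.mem_univ _) hn
  refine ⟨β₀, z β₀, hβ₀, ?_, ?_⟩
  · intro c
    have := congrFun hφ c
    simpa using this
  · apply (h.phi_int C hC ξ hξ hξG hdet β₀).2
    rw [hz]
    rcases hβ₀ with h1 | h1 <;> rw [h1] <;> simp

end Setup

end Cfsg.Agent.Lib.helper3.GlCyc
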