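import Mathlib
import Cfsg.Agent.Lib.helper3.GlCyc5
import Cfsg.Agent.Lib.helper3.ProjVanish3
import Cfsg.Agent.Lib.helper3.AbelianInertia
import Cfsg.Agent.Lib.helper3.Gallagher3
import Cfsg.Agent.Lib.helper3.Irr7

/-!
# Coprime cyclic action: every irreducible character of the fixed-point subgroup arises
-/

set_option autoImplicit false
set_option linter.style.haveILetI false
set_option linter.unusedSectionVars false

namespace Cfsg.Agent.Lib.helper3.GlCyc

open Cfsg Module Cfsg.Agent.Lib.helper3.Irr Cfsg.Agent.Lib.helper3.CharBasic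
open Cfsg.Agent.Lib.helper3.IndFun
open scoped ComplexConjugate

section vanish

variable {Γ : Type*} [Group Γ] [Fintype Γ]

/-- An irreducible character not vanishing at an element which generates the commutative
quotient `Γ ⧸ G` restricts irreducibly to `G`. -/
theorem restrict_irr_of_ne_zero (G : Subgroup Γ) [hG : G.Normal] [Fintype G]
    (hcomm : ∀ a b : Γ ⧸ G, a * b = b * a) (ξ : Γ → ℂ) (hξ : IsIrrCharacter Γ ξ) (x : Γ)
    (hx : ξ x ≠ 0)
    (hgen : ∀ μ : (Γ ⧸ G) →* ℂˣ, μ (QuotientGroup.mk x) = 1 → μ = 1) :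
    IsIrrCharacter G (fun g : G => ξ g) := by
  classical
  letI : CommGroup (Γ ⧸ G) := { (inferInstance : Group (Γ ⧸ G)) with mul_comm := hcomm }
  letI : Fintype ((Γ ⧸ G) →* ℂˣ) := Fintype.ofFinite _
  have hξc := isCharacter_of_isIrrCharacter hξ
  obtain ⟨lam, hlamdef⟩ : ∃ lam : ((Γ ⧸ G) →* ℂˣ) → Γ → ℂ,
      lam = fun μ y => ((μ (QuotientGroup.mk y) : ℂˣ) : ℂ) := ⟨_, rfl⟩
  have hlamc : ∀ μ, IsCharacter Γ (lam μ) := by
    intro μ
    rw [hlamdef]
    exact Cfsg.Agent.Lib.helper3.Lin.isCharacter_of_hom (μ.comp (QuotientGroup.mk' G))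
  have hlam1 : ∀ μ, lam μ 1 = 1 := by
    intro μ
    rw [hlamdef]
    simp
  have hirr : ∀ μ, IsIrrCharacter Γ (lam μ * ξ) := fun μ =>
    isIrrCharacter_linear_mul (hlamc μ) (hlam1 μ) hξ
  -- only the trivial `μ` fixes `ξ`
  have hfix : ∀ μ, lam μ * ξ = ξ → μ = 1 := by
    intro μ hμ
    apply hgen
    have h1 := congrFun hμ x
    rw [Pi.mul_apply] at h1
    have h2 : lam μ x = 1 := by
      have : (lam μ x - 1) * ξ x = 0 := by rw [sub_mul, h1, one_mul, sub_self]
      rcases mul_eq_zero.mp this with h | h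
      · exact sub_eq_zero.mp h
      · exact absurd h hx
    rw [hlamdef] at h2
    exact Units.ext h2
  have hterm : ∀ μ : (Γ ⧸ G) →* ℂˣ,
      classInner (lam μ * ξ) ξ = if μ = 1 then 1 else 0 := by
    intro μ
    by_cases hμ : μ = 1
    · rw [if_pos hμ, hμ]
      have : lam 1 * ξ = ξ := by
        funext y
        rw [hlamdef]
        simp
      rw [this, irr_classInner_self hξ]
    · rw [if_neg hμ]
      exact irr_classInner_eq_zero (hirr μ) hξ (fun h => hμ (hfix μ h))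
  have hsum1 : ∑ μ : (Γ ⧸ G) →* ℂˣ, classInner (lam μ * ξ) ξ = 1 := by
    simp only [hterm]
    rw [Finset.sum_ite_eq' Finset.univ (1 : (Γ ⧸ G) →* ℂˣ), if_pos (Finset.mem_univ _)]
  -- the same sum computes the norm of the restriction
  have hdual : ∀ y : Γ, ∑ μ : (Γ ⧸ G) →* ℂˣ, lam μ y
      = if y ∈ G then (G.index : ℂ) else 0 := by
    intro y
    by_cases hy : y ∈ G
    · rw [if_pos hy]
      have h1 : ∀ μ : (Γ ⧸ G) →* ℂˣ, lam μ y = 1 := by
        intro μ
        rw [hlamdef]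
        simp only
        rw [(QuotientGroup.eq_one_iff y).mpr hy, map_one]
        rfl
      simp only [h1]
      rw [Finset.sum_const, Finset.card_univ, nsmul_eq_mul, mul_one,
        ← Nat.card_eq_fintype_card]
      haveI : NeZero ((Monoid.exponent (Γ ⧸ G) : ℕ) : ℂ) := by
        constructor
        have : Monoid.exponent (Γ ⧸ G) ≠ 0 := Monoid.exponent_ne_zero_of_finite
        exact_mod_cast this
      rw [CommGroup.card_monoidHom_of_hasEnoughRootsOfUnity (Γ ⧸ G) ℂ]
      rfl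
    · rw [if_neg hy]
      have hne : (QuotientGroup.mk y : Γ ⧸ G) ≠ 1 := fun h => hy ((QuotientGroup.eq_one_iff y).mp h)
      have := Cfsg.Agent.Lib.helper3.Block.sum_monoidHom_apply (QuotientGroup.mk y : Γ ⧸ G) hne
      rw [hlamdef]
      exact this
  have hsum2 : ∑ μ : (Γ ⧸ G) →* ℂˣ, classInner (lam μ * ξ) ξ
      = classInner (fun g : G => ξ g) (fun g : G => ξ g) := by
    simp only [classInner_apply, Pi.mul_apply]
    rw [← Finset.mul_sum, Finset.sum_comm]
    have h1 : ∀ y : Γ, ∑ μ : (Γ ⧸ G) →* ℂˣ, lam μ y * ξ y * conj (ξ y)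
        = if y ∈ G then (G.index : ℂ) * (ξ y * conj (ξ y)) else 0 := by
      intro y
      have : ∑ μ : (Γ ⧸ G) →* ℂˣ, lam μ y * ξ y * conj (ξ y)
          = (∑ μ : (Γ ⧸ G) →* ℂˣ, lam μ y) * (ξ y * conj (ξ y)) := by
        rw [Finset.sum_mul]
        apply Finset.sum_congr rfl
        intro μ _
        ring
      rw [this, hdual y]
      split_ifs <;> simp
    simp only [h1]
    rw [← Finset.sum_filter, ← Finset.mul_sum]
    have h2 : ∑ y ∈ Finset.univ.filter (fun y : Γ => y ∈ G), ξ y * conj (ξ y)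
        = ∑ g : G, ξ g * conj (ξ g) := by
      rw [Finset.sum_subtype (Finset.univ.filter (fun y : Γ => y ∈ G)) (p := fun y => y ∈ G)
        (fun y => by simp) (fun y => ξ y * conj (ξ y))]
    rw [h2, ← mul_assoc]
    congr 1
    have hG0 : (Nat.card G : ℂ) ≠ 0 := card_ne_zero_complex G
    have hΓ0 : (Nat.card Γ : ℂ) ≠ 0 := card_ne_zero_complex Γ
    have hidx : (Nat.card Γ : ℂ) = (Nat.card G : ℂ) * (G.index : ℂ) := by
      rw [← Nat.cast_mul, Subgroup.card_mul_index]
    have hI0 : (G.index : ℂ) ≠ 0 := by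
      intro h0
      rw [hidx, h0, mul_zero] at hΓ0
      exact hΓ0 rfl
    rw [hidx]
    field_simp
  rw [hsum2] at hsum1
  exact isIrrCharacter_of_classInner_self_eq_one (isCharacter_restrict hξc G) hsum1

end vanish

namespace Setup

variable {Γ : Type*} [Group Γ] [Fintype Γ] {G S : Subgroup Γ} {s₀ : Γ}
variable (C : Subgroup Γ) (hC : C = G ⊓ Subgroup.centralizer (S : Set Γ))
variable [Fintype G] [Fintype C]

theorem mk_eq_pow (h : Setup G S s₀) [G.Normal] (q : Γ ⧸ G) :
    ∃ k : ℕ, q = (QuotientGroup.mk s₀ : Γ ⧸ G) ^ k := by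
  obtain ⟨x, rfl⟩ := QuotientGroup.mk_surjective q
  obtain ⟨g, hg, k, rfl⟩ := h.exists_mul x
  refine ⟨k, ?_⟩
  rw [QuotientGroup.mk_mul, (QuotientGroup.eq_one_iff g).mpr hg, one_mul, QuotientGroup.mk_pow]

include hC in
/-- An irreducible character not vanishing somewhere on `C s₀` restricts irreducibly to `G`. -/
theorem restrict_irr (h : Setup G S s₀) (ξ : Γ → ℂ) (hξ : IsIrrCharacter Γ ξ) (c : C)
    (hc : ξ ((c : Γ) * s₀) ≠ 0) : IsIrrCharacter G (fun g : G => ξ g) := by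
  haveI := h.normal
  apply restrict_irr_of_ne_zero G _ ξ hξ ((c : Γ) * s₀) hc
  · intro μ hμ
    have hcG : (c : Γ) ∈ G := (Subgroup.mem_inf.mp (hC.le c.2)).1
    rw [QuotientGroup.mk_mul, (QuotientGroup.eq_one_iff (c : Γ)).mpr hcG, one_mul] at hμ
    apply MonoidHom.ext
    intro q
    obtain ⟨k, rfl⟩ := h.mk_eq_pow q
    rw [map_pow, hμ, one_pow]
    rfl
  · intro a b
    obtain ⟨i, rfl⟩ := h.mk_eq_pow a
    obtain ⟨j, rfl⟩ := h.mk_eq_pow b
    rw [← pow_add, ← pow_add, add_comm]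

include hC in
/-- Every irreducible character of `C` arises from a canonical extension. -/
theorem exists_of_irr (h : Setup G S s₀) (β₁ : IrrCharacter C) :
    ∃ ξ : Γ → ℂ, IsIrrCharacter Γ ξ ∧ IsIrrCharacter G (fun g : G => ξ g) ∧
      (detOrder ξ).Coprime (Nat.card S) ∧
      ∃ ε : ℤ, (ε = 1 ∨ ε = -1) ∧ ∀ c : C, ξ ((c : Γ) * s₀) = (ε : ℂ) * (β₁ : C → ℂ) c := by
  classical
  haveI := h.normal
  by_contra hcon
  push Not at hcon
  -- all the sums vanish
  have hA : ∀ ξ' : IrrCharacter Γ,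
      ∑ c : C, (β₁ : C → ℂ) c * conj ((ξ' : Γ → ℂ) ((c : Γ) * s₀)) = 0 := by
    intro ξ'
    by_cases hvan : ∀ c : C, (ξ' : Γ → ℂ) ((c : Γ) * s₀) = 0
    · simp [hvan]
    · push Not at hvan
      obtain ⟨c₀, hc₀⟩ := hvan
      have hξ'G := h.restrict_irr C hC _ ξ'.2 c₀ hc₀
      have hξ'c := isCharacter_of_isIrrCharacter ξ'.2
      have hcf := isClassFunction_of_isCharacter hξ'c
      obtain ⟨d, hd, hdd, -⟩ := Cfsg.Agent.Lib.helper3.Central.irr_degree_dvd_card hξ'G
      have hcop' : Nat.Coprime G.index (detOrder (fun g : G => (ξ' : Γ → ℂ) g) * d) := by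
        rw [h.index_eq]
        apply Nat.Coprime.mul_right
        · exact (Nat.Coprime.coprime_dvd_left
            (detOrder_dvd_card (isCharacter_of_isIrrCharacter hξ'G)) h.cop).symm
        · exact (Nat.Coprime.coprime_dvd_left hdd h.cop).symm
      obtain ⟨χh, ⟨hχh, hχhG, hχhdet⟩, -⟩ := Cfsg.Agent.S0867.result G
        (fun g : G => (ξ' : Γ → ℂ) g) hξ'G (fun g n => hcf n g) d hd hcop'
      have hχhG' : IsIrrCharacter G (fun g : G => χh g) := by
        have : (fun g : G => χh g) = fun g : G => (ξ' : Γ → ℂ) g := funext hχhG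
        rw [this]
        exact hξ'G
      have hdetcop : (detOrder χh).Coprime (Nat.card S) := by
        rw [hχhdet]
        exact Nat.Coprime.coprime_dvd_left
          (detOrder_dvd_card (isCharacter_of_isIrrCharacter hξ'G)) h.cop
      obtain ⟨β, ε, hε, hval, -⟩ := h.phi_eq C hC χh hχh hχhG' hdetcop
      have hne : β ≠ β₁ := by
        intro heq
        obtain ⟨c, hc⟩ := hcon χh hχh hχhG' hdetcop ε hε
        apply hc
        rw [← heq]
        exact hval c
      obtain ⟨lam, hlamc, hlam1, hlamG, hprod⟩ :=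
        exists_linear_mul_of_restrict_eq G χh (ξ' : Γ → ℂ) hχh ξ'.2 hχhG'
          (fun n => (hχhG n).symm)
      have hlamval : ∀ c : C, lam ((c : Γ) * s₀) = lam s₀ := by
        intro c
        rw [Cfsg.Agent.Lib.helper3.Lin.map_mul_of_apply_one_eq_one hlamc hlam1]
        have hcG : (c : Γ) ∈ G := (Subgroup.mem_inf.mp (hC.le c.2)).1
        rw [hlamG ⟨(c : Γ), hcG⟩, one_mul]
      have hform : ∀ c : C, (β₁ : C → ℂ) c * conj ((ξ' : Γ → ℂ) ((c : Γ) * s₀))
          = conj (lam s₀ * (ε : ℂ)) * ((β₁ : C → ℂ) c * conj ((β : C → ℂ) c)) := by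
        intro c
        rw [hprod, Pi.mul_apply, hlamval, hval]
        simp only [map_mul]
        ring
      simp only [hform]
      rw [← Finset.mul_sum]
      have horth := irr_classInner_eq_zero β₁.2 β.2 (fun heq => hne (Subtype.ext heq).symm)
      rw [classInner_apply] at horth
      have hC0 : (Nat.card C : ℂ) ≠ 0 := card_ne_zero_complex C
      rcases mul_eq_zero.mp horth with h0 | h0
      · exact absurd (inv_eq_zero.mp h0) hC0
      · rw [h0, mul_zero]
  -- column orthogonality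
  have hcol : ∀ c : C, ∑ ξ' : IrrCharacter Γ,
      (ξ' : Γ → ℂ) s₀ * conj ((ξ' : Γ → ℂ) ((c : Γ) * s₀))
      = if c = 1 then (Nat.card (Subgroup.centralizer ({s₀} : Set Γ)) : ℂ) else 0 := by
    intro c
    by_cases hc1 : c = 1
    · rw [if_pos hc1, hc1]
      have : (((1 : C) : Γ)) * s₀ = s₀ := by simp
      rw [this]
      exact (column_orthogonality s₀ s₀).1 (IsConj.refl _)
    · rw [if_neg hc1]
      apply (column_orthogonality s₀ ((c : Γ) * s₀)).2
      intro hconj
      apply hc1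
      obtain ⟨y, hy⟩ := isConj_iff.mp hconj
      obtain ⟨g, hg, k, rfl⟩ := h.exists_mul y
      have hy' : g * (1 * s₀) * g⁻¹ = (c : Γ) * s₀ := by
        rw [← hy]
        have : Commute (s₀ ^ k) s₀ := (Commute.refl s₀).pow_left k
        calc g * (1 * s₀) * g⁻¹ = g * (s₀ * s₀ ^ k * (s₀ ^ k)⁻¹) * g⁻¹ := by group
          _ = g * (s₀ ^ k * s₀ * (s₀ ^ k)⁻¹) * g⁻¹ := by rw [this.eq]
          _ = g * s₀ ^ k * s₀ * (g * s₀ ^ k)⁻¹ := by group
      have h1C : (1 : Γ) ∈ G ⊓ Subgroup.centralizer (S : Set Γ) := Subgroup.one_mem _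
      obtain ⟨-, hceq⟩ := h.conj_cent hg h1C (hC.le c.2) hy'
      apply Subtype.ext
      rw [hceq]
      simp
  have hzero : ∑ ξ' : IrrCharacter Γ, (ξ' : Γ → ℂ) s₀ *
      ∑ c : C, (β₁ : C → ℂ) c * conj ((ξ' : Γ → ℂ) ((c : Γ) * s₀)) = 0 := by
    apply Finset.sum_eq_zero
    intro ξ' _
    rw [hA ξ', mul_zero]
  have hswap : ∑ ξ' : IrrCharacter Γ, (ξ' : Γ → ℂ) s₀ *
      ∑ c : C, (β₁ : C → ℂ) c * conj ((ξ' : Γ → ℂ) ((c : Γ) * s₀))
      = ∑ c : C, (β₁ : C → ℂ) c * ∑ ξ' : IrrCharacter Γ,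
        (ξ' : Γ → ℂ) s₀ * conj ((ξ' : Γ → ℂ) ((c : Γ) * s₀)) := by
    simp only [Finset.mul_sum]
    rw [Finset.sum_comm]
    apply Finset.sum_congr rfl
    intro c _
    apply Finset.sum_congr rfl
    intro ξ' _
    ring
  rw [hswap] at hzero
  simp only [hcol] at hzero
  simp only [mul_ite, mul_zero] at hzero
  rw [Finset.sum_ite_eq' Finset.univ (1 : C), if_pos (Finset.mem_univ _)] at hzero
  rcases mul_eq_zero.mp hzero with h0 | h0
  · exact apply_one_ne_zero β₁.2 h0
  · have : (Nat.card (Subgroup.centralizer ({s₀} : Set Γ)) : ℂ) ≠ 0 :=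
      card_ne_zero_complex _
    exact this h0

end Setup

end Cfsg.Agent.Lib.helper3.GlCyc
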