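import Mathlib
import Cfsg.Agent.Lib.helper3.GlCyc6

/-!
# Coprime cyclic action: assembling the correspondence
-/

set_option autoImplicit false
set_option linter.style.haveILetI false
set_option linter.unusedSectionVars false

namespace Cfsg.Agent.Lib.helper3.GlCyc

open Cfsg Module Cfsg.Agent.Lib.helper3.Irr Cfsg.Agent.Lib.helper3.CharBasic
open Cfsg.Agent.Lib.helper3.IndFun
open scoped ComplexConjugate

/-- A signed irreducible character determines the sign and the character. -/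
theorem signed_irr_unique {C : Type*} [Group C] (β β' : IrrCharacter C) (ε ε' : ℤ)
    (hε : ε = 1 ∨ ε = -1) (hε' : ε' = 1 ∨ ε' = -1)
    (h : ∀ c : C, (ε : ℂ) * (β : C → ℂ) c = (ε' : ℂ) * (β' : C → ℂ) c) : β = β' ∧ ε = ε' := by
  obtain ⟨d, hd, hβ1⟩ := exists_pos_nat_apply_one β.2
  obtain ⟨d', hd', hβ'1⟩ := exists_pos_nat_apply_one β'.2
  have h1 := h 1
  rw [hβ1, hβ'1] at h1
  have h2 : ε * (d : ℤ) = ε' * (d' : ℤ) := by exact_mod_cast h1
  have hεε' : ε = ε' := by
    rcases hε with rfl | rfl <;> rcases hε' with rfl | rfl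
    · rfl
    · exfalso
      have : (0 : ℤ) < d := by exact_mod_cast hd
      have : (0 : ℤ) < d' := by exact_mod_cast hd'
      omega
    · exfalso
      have : (0 : ℤ) < d := by exact_mod_cast hd
      have : (0 : ℤ) < d' := by exact_mod_cast hd'
      omega
    · rfl
  refine ⟨?_, hεε'⟩
  apply Subtype.ext
  funext c
  have h3 := h c
  rw [← hεε'] at h3
  have hε0 : (ε : ℂ) ≠ 0 := by
    rcases hε with rfl | rfl <;> simp
  exact mul_left_cancel₀ hε0 h3

/-- Normality of `G` from the hypotheses as stated. -/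
theorem normal_of_sup_eq_top {Γ : Type*} [Group Γ] (G S : Subgroup Γ)
    (hnorm : ∀ s ∈ S, ∀ g ∈ G, s * g * s⁻¹ ∈ G) (htop : G ⊔ S = ⊤) : G.Normal := by
  rw [← Subgroup.normalizer_eq_top_iff, eq_top_iff, ← htop]
  apply sup_le Subgroup.le_normalizer
  intro s hs
  rw [Subgroup.mem_normalizer_iff]
  intro g
  constructor
  · intro hg
    exact hnorm s hs g hg
  · intro hg
    have := hnorm s⁻¹ (S.inv_mem hs) _ hg
    have h2 : s⁻¹ * (s * g * s⁻¹) * s⁻¹⁻¹ = g := by group
    rwa [h2] at this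

/-- A generator of a cyclic subgroup. -/
theorem exists_zpowers_eq {Γ : Type*} [Group Γ] (S : Subgroup Γ) (hcyc : IsCyclic S) :
    ∃ s₀ : Γ, Subgroup.zpowers s₀ = S := by
  obtain ⟨g, hg⟩ := hcyc.exists_generator
  refine ⟨(g : Γ), ?_⟩
  apply le_antisymm
  · rw [Subgroup.zpowers_le]
    exact g.2
  · intro x hx
    obtain ⟨k, hk⟩ := Subgroup.mem_zpowers_iff.mp (hg ⟨x, hx⟩)
    rw [Subgroup.mem_zpowers_iff]
    refine ⟨k, ?_⟩
    have := congrArg Subtype.val hk
    simpa using this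

end Cfsg.Agent.Lib.helper3.GlCyc
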