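import Mathlib
import Cfsg.Agent.Lib.helper3.GlCyc7
import Cfsg.Agent.Lib.helper3.AlgInt2

/-!
# Coprime cyclic action of a `p`-group: congruences for the multiplicities
-/

set_option autoImplicit false
set_option linter.style.haveILetI false
set_option linter.unusedSectionVars false

namespace Cfsg.Agent.Lib.helper3.GlCyc

open Cfsg Module Cfsg.Agent.Lib.helper3.Irr Cfsg.Agent.Lib.helper3.CharBasic
open Cfsg.Agent.Lib.helper3.IndFun Cfsg.Agent.Lib.helper3.Cyclo
open scoped ComplexConjugate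

namespace Setup

variable {Γ : Type*} [Group Γ] [Fintype Γ] {G S : Subgroup Γ} {s₀ : Γ}
variable (C : Subgroup Γ) (hC : C = G ⊓ Subgroup.centralizer (S : Set Γ))
variable [Fintype G] [Fintype C]

include hC in
/-- The inner products of `c ↦ ξ (c s₀ ^ k)` with an irreducible character of `C` are power sums
of roots of unity with multiplicities. -/
theorem phi_pow_sums (h : Setup G S s₀) (ξ : Γ → ℂ) (hξ : IsCharacter Γ ξ) (β : IrrCharacter C) :
    ∃ (I : Type) (_ : Fintype I) (m : I → ℕ) (ω : I → ℂ), (∀ i, ω i ^ Nat.card S = 1) ∧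
      ∀ k : ℕ, classInner (fun c : C => ξ ((c : Γ) * s₀ ^ k)) (β : C → ℂ)
        = ∑ i, (m i : ℂ) * ω i ^ k := by
  classical
  letI : Fintype S := Fintype.ofFinite S
  have hΘ : IsCharacter (C × S) (fun p => ξ (h.mulHom C hC p)) :=
    isCharacter_comp hξ (h.mulHom C hC)
  obtain ⟨m, hm⟩ := exists_decomposition_of_isCharacter hΘ
  choose βθ lθ hβθ hlθ hθ using fun θ : IrrCharacter (C × S) =>
    exists_of_isIrrCharacter_prod θ.2
  have hScomm : ∀ a b : S, a * b = b * a := by
    intro a b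
    obtain ⟨i, hi⟩ := h.exists_pow_of_mem a.2
    obtain ⟨j, hj⟩ := h.exists_pow_of_mem b.2
    apply Subtype.ext
    push_cast
    rw [hi, hj, ← pow_add, ← pow_add, add_comm]
  have hl1 : ∀ θ, lθ θ 1 = 1 := fun θ => apply_one_eq_one_of_comm hScomm (hlθ θ)
  have hlc : ∀ θ, IsCharacter S (lθ θ) := fun θ => isCharacter_of_isIrrCharacter (hlθ θ)
  obtain ⟨s₀', hs₀'⟩ : ∃ s₀' : S, s₀' = ⟨s₀, h.mem_S⟩ := ⟨_, rfl⟩
  have hlpow : ∀ θ (k : ℕ), lθ θ (s₀' ^ k) = lθ θ s₀' ^ k := by
    intro θ k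
    rw [← Cfsg.Agent.Lib.helper3.Lin.toHom_apply (hlc θ) (hl1 θ),
      ← Cfsg.Agent.Lib.helper3.Lin.toHom_apply (hlc θ) (hl1 θ), map_pow]
  have hlroot : ∀ θ, lθ θ s₀' ^ Nat.card S = 1 := fun θ =>
    Cfsg.Agent.Lib.helper3.Lin.pow_eq_one_of_linear (hlc θ) (hl1 θ) s₀' _ pow_card_eq_one'
  -- the index type is a `Fin`-type to stay in `Type`
  obtain ⟨e⟩ : Nonempty (IrrCharacter (C × S) ≃ Fin (Fintype.card (IrrCharacter (C × S)))) :=
    ⟨Fintype.equivFin _⟩
  refine ⟨Fin (Fintype.card (IrrCharacter (C × S))), inferInstance,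
    fun i => m (e.symm i) * (if βθ (e.symm i) = (β : C → ℂ) then 1 else 0),
    fun i => lθ (e.symm i) s₀', fun i => hlroot _, ?_⟩
  intro k
  have h1 : (fun c : C => ξ ((c : Γ) * s₀ ^ k))
      = ∑ θ : IrrCharacter (C × S), ((m θ : ℂ) * lθ θ s₀' ^ k) • βθ θ := by
    funext c
    have h2 : ξ ((c : Γ) * s₀ ^ k) = (fun p => ξ (h.mulHom C hC p)) (c, s₀' ^ k) := by
      simp only [mulHom_apply]
      rw [hs₀']
      rfl
    rw [h2, hm]
    simp only [Finset.sum_apply, Pi.smul_apply, smul_eq_mul]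
    apply Finset.sum_congr rfl
    intro θ _
    rw [hθ θ]
    simp only
    rw [hlpow]
    ring
  rw [h1, classInner_sum_left, ← Equiv.sum_comp e.symm]
  apply Finset.sum_congr rfl
  intro i _
  rw [classInner_smul_left, irr_classInner_eq (hβθ _) β.2]
  simp only
  by_cases hb : βθ (e.symm i) = (β : C → ℂ)
  · rw [if_pos hb, if_pos hb]
    push_cast
    ring
  · rw [if_neg hb, if_neg hb]
    push_cast
    ring

include hC in
/-- For `S` a `p`-group, the multiplicity of `β` in the restriction of `ξ` to `C` is congruent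
modulo `p` to the inner product of `c ↦ ξ (c s₀)` with `β`. -/
theorem phi_congr (h : Setup G S s₀) (p : ℕ) (hp : p.Prime) (j : ℕ) (hS : Nat.card S = p ^ j)
    (ξ : Γ → ℂ) (hξ : IsCharacter Γ ξ) (β : IrrCharacter C) (z : ℤ)
    (hz : classInner (fun c : C => ξ ((c : Γ) * s₀)) (β : C → ℂ) = z) :
    ∃ a : ℕ, classInner (fun c : C => ξ (c : Γ)) (β : C → ℂ) = a ∧ (a : ℤ) ≡ z [ZMOD p] := by
  classical
  obtain ⟨I, _, m, ω, hω, hk⟩ := h.phi_pow_sums C hC ξ hξ β
  have h0 := hk 0
  have h1 := hk 1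
  simp only [pow_zero, mul_one, pow_one] at h0 h1
  refine ⟨∑ i, m i, ?_, ?_⟩
  · rw [h0]
    push_cast
    rfl
  · rcases Nat.eq_zero_or_pos j with hj | hj
    · -- trivial `S`
      rw [hj, pow_zero] at hS
      have hω1 : ∀ i, ω i = 1 := by
        intro i
        have := hω i
        rwa [hS, pow_one] at this
      have : ((∑ i, m i : ℕ) : ℂ) = (z : ℂ) := by
        rw [← hz, h1]
        push_cast
        apply Finset.sum_congr rfl
        intro i _
        rw [hω1 i, mul_one]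
      have h2 : ((∑ i, m i : ℕ) : ℤ) = z := by exact_mod_cast this
      rw [h2]
    · obtain ⟨j', rfl⟩ : ∃ j', j = j' + 1 := ⟨j - 1, by omega⟩
      have hNpos : 0 < p ^ (j' + 1) := pow_pos hp.pos _
      haveI : NeZero (p ^ (j' + 1)) := ⟨hNpos.ne'⟩
      obtain ⟨ζ, hζ⟩ : ∃ ζ : ℂ, IsPrimitiveRoot ζ (p ^ (j' + 1)) :=
        ⟨_, Complex.isPrimitiveRoot_exp _ hNpos.ne'⟩
      have hζint : IsIntegral ℤ ζ := hζ.isIntegral hNpos
      have hex : ∀ i, ∃ e : ℕ, ζ ^ e = ω i := by
        intro i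
        have := hω i
        rw [hS] at this
        obtain ⟨e, -, he⟩ := hζ.eq_pow_of_pow_eq_one this
        exact ⟨e, he⟩
      choose e he using hex
      have hdvd : (p : ℤ) ∣ ((∑ i, m i : ℕ) : ℤ) - z := by
        apply Cfsg.Agent.Lib.helper3.AlgInt.prime_dvd_of_eq_one_sub_mul_pow hp j' hζ _
          (∑ i, (m i : ℂ) * ∑ l ∈ Finset.range (e i), ζ ^ l)
        · apply IsIntegral.sum
          intro i _
          apply IsIntegral.mul (isIntegral_natCast _)
          apply IsIntegral.sum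
          intro l _
          exact hζint.pow l
        · push_cast
          rw [← hz, h1, ← Finset.sum_sub_distrib, Finset.mul_sum]
          apply Finset.sum_congr rfl
          intro i _
          rw [← he i]
          have := mul_neg_geom_sum ζ (e i)
          linear_combination (-(m i : ℂ)) * this
      exact (Int.modEq_iff_dvd.mpr hdvd).symm

end Setup

end Cfsg.Agent.Lib.helper3.GlCyc
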