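import Mathlib
import Cfsg.Agent.Lib.helper3.GlCyc8

/-!
# Coprime cyclic action of a `p`-group: the correspondence with congruences
-/

set_option autoImplicit false
set_option linter.style.haveILetI false
set_option linter.unusedSectionVars false

namespace Cfsg.Agent.Lib.helper3.GlCyc

open Cfsg Module Cfsg.Agent.Lib.helper3.Irr Cfsg.Agent.Lib.helper3.CharBasic
open Cfsg.Agent.Lib.helper3.IndFun
open scoped ComplexConjugate

namespace Setup

variable {Γ : Type*} [Group Γ] [Fintype Γ] {G S : Subgroup Γ} {s₀ : Γ}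
variable (C : Subgroup Γ) (hC : C = G ⊓ Subgroup.centralizer (S : Set Γ))
variable [Fintype G] [Fintype C]

/-- Existence of the canonical extension of an invariant irreducible character. -/
theorem exists_canonical (h : Setup G S s₀) (χ : G → ℂ) (hχ : IsIrrCharacter G χ)
    (hinv : ∀ (y : Γ) (g : G), χ ⟨y * g * y⁻¹, h.normal.conj_mem g g.2 y⟩ = χ g) :
    ∃ ξ : Γ → ℂ, IsIrrCharacter Γ ξ ∧ (∀ g : G, ξ g = χ g) ∧
      (detOrder ξ).Coprime (Nat.card S) := by
  haveI := h.normal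
  obtain ⟨d, hd, hdd, -⟩ := Cfsg.Agent.Lib.helper3.Central.irr_degree_dvd_card hχ
  have hcop' : Nat.Coprime G.index (detOrder χ * d) := by
    rw [h.index_eq]
    apply Nat.Coprime.mul_right
    · exact (Nat.Coprime.coprime_dvd_left
        (detOrder_dvd_card (isCharacter_of_isIrrCharacter hχ)) h.cop).symm
    · exact (Nat.Coprime.coprime_dvd_left hdd h.cop).symm
  obtain ⟨χh, ⟨hχh, hχhG, hχhdet⟩, -⟩ := Cfsg.Agent.S0867.result G χ hχ hinv d hd hcop'
  refine ⟨χh, hχh, hχhG, ?_⟩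
  rw [hχhdet]
  exact Nat.Coprime.coprime_dvd_left
    (detOrder_dvd_card (isCharacter_of_isIrrCharacter hχ)) h.cop

include hC in
/-- The congruences for the multiplicities of the restriction to `C`, for `S` a `p`-group. -/
theorem pcorr_A (h : Setup G S s₀) (p : ℕ) (hp : p.Prime) (j : ℕ) (hS : Nat.card S = p ^ j)
    (ξ : Γ → ℂ) (hξ : IsIrrCharacter Γ ξ)
    (hξG : IsIrrCharacter G (fun g : G => ξ g)) (hdet : (detOrder ξ).Coprime (Nat.card S)) :
    ∃ (β : IrrCharacter C) (ε : ℤ), (ε = 1 ∨ ε = -1) ∧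
      (∀ c : C, ξ ((c : Γ) * s₀) = (ε : ℂ) * (β : C → ℂ) c) ∧
      ∀ β' : IrrCharacter C, ∃ a : ℕ, classInner (fun c : C => ξ (c : Γ)) (β' : C → ℂ) = a ∧
        (a : ℤ) ≡ (if β' = β then ε else 0) [ZMOD p] := by
  classical
  obtain ⟨β, ε, hε, hval, -⟩ := h.phi_eq C hC ξ hξ hξG hdet
  refine ⟨β, ε, hε, hval, ?_⟩
  intro β'
  have hφ : (fun c : C => ξ ((c : Γ) * s₀)) = (ε : ℂ) • (β : C → ℂ) := by
    funext c
    rw [hval c]
    rfl
  have hz : classInner (fun c : C => ξ ((c : Γ) * s₀)) (β' : C → ℂ)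
      = ((if β' = β then ε else 0 : ℤ) : ℂ) := by
    rw [hφ, classInner_smul_left, irr_classInner_eq β.2 β'.2]
    by_cases hb : β' = β
    · rw [if_pos hb, if_pos (by rw [hb])]
      simp
    · rw [if_neg hb, if_neg (fun heq => hb (Subtype.ext heq).symm)]
      simp
  exact h.phi_congr C hC p hp j hS ξ (isCharacter_of_isIrrCharacter hξ) β' _ hz

include hC in
/-- Injectivity of the correspondence. -/
theorem pcorr_B (h : Setup G S s₀) (ξ ξ' : Γ → ℂ) (hξ : IsIrrCharacter Γ ξ)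
    (hξG : IsIrrCharacter G (fun g : G => ξ g)) (hξ' : IsIrrCharacter Γ ξ')
    (hξ'G : IsIrrCharacter G (fun g : G => ξ' g)) (β : IrrCharacter C) (ε ε' : ℤ)
    (hε : ε = 1 ∨ ε = -1) (hε' : ε' = 1 ∨ ε' = -1)
    (hval : ∀ c : C, ξ ((c : Γ) * s₀) = (ε : ℂ) * (β : C → ℂ) c)
    (hval' : ∀ c : C, ξ' ((c : Γ) * s₀) = (ε' : ℂ) * (β : C → ℂ) c) :
    (fun g : G => ξ g) = fun g : G => ξ' g := by
  by_contra hne
  have horth : classInner (fun g : G => ξ' g) (fun g : G => ξ g) = 0 :=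
    irr_classInner_eq_zero hξ'G hξG (fun heq => hne heq.symm)
  have h0 := h.phi_orth C hC ξ ξ' hξ hξG hξ' horth
  have h1 : (fun c : C => ξ ((c : Γ) * s₀)) = (ε : ℂ) • (β : C → ℂ) := by
    funext c
    rw [hval c]
    rfl
  have h2 : (fun c : C => ξ' ((c : Γ) * s₀)) = (ε' : ℂ) • (β : C → ℂ) := by
    funext c
    rw [hval' c]
    rfl
  rw [h1, h2, classInner_smul_left, classInner_smul_right, irr_classInner_self β.2,
    mul_one] at h0
  rcases hε with rfl | rfl <;> rcases hε' with rfl | rfl <;> simp at h0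

end Setup

end Cfsg.Agent.Lib.helper3.GlCyc
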