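import Mathlib
import Cfsg.Agent.Lib.helper3.GlCyc9

/-!
# Coprime action of a cyclic `p`-group inside an ambient group
-/

set_option autoImplicit false
set_option linter.style.haveILetI false
set_option linter.unusedSectionVars false

namespace Cfsg.Agent.Lib.helper3.GlSub

open Cfsg Module Cfsg.Agent.Lib.helper3.Irr Cfsg.Agent.Lib.helper3.CharBasic
open Cfsg.Agent.Lib.helper3.IndFun Cfsg.Agent.Lib.helper3.GlCyc
open scoped ComplexConjugate

variable {Γ : Type*} [Group Γ]

section setup

variable (G : Subgroup Γ) (x : Γ)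

/-- The subgroup generated by `G` and `x`. -/
abbrev LL : Subgroup Γ := G ⊔ Subgroup.zpowers x

theorem G_le : G ≤ LL G x := le_sup_left

theorem x_mem : x ∈ LL G x :=
  (le_sup_right : Subgroup.zpowers x ≤ LL G x) (Subgroup.mem_zpowers x)

theorem zpowers_subgroupOf :
    Subgroup.zpowers (⟨x, x_mem G x⟩ : LL G x) = (Subgroup.zpowers x).subgroupOf (LL G x) := by
  ext y
  rw [Subgroup.mem_subgroupOf, Subgroup.mem_zpowers_iff, Subgroup.mem_zpowers_iff]
  constructor
  · rintro ⟨k, hk⟩
    refine ⟨k, ?_⟩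
    have := congrArg Subtype.val hk
    simpa using this
  · rintro ⟨k, hk⟩
    refine ⟨k, ?_⟩
    apply Subtype.ext
    simpa using hk

/-- The cyclic coprime setup inside `G ⊔ ⟨x⟩`. -/
theorem setup_sub [Finite Γ] (hx : x ∈ Subgroup.normalizer (G : Set Γ))
    (hcop : (Nat.card G).Coprime (orderOf x)) :
    Setup (G.subgroupOf (LL G x)) ((Subgroup.zpowers x).subgroupOf (LL G x))
      (⟨x, x_mem G x⟩ : LL G x) := by
  refine ⟨?_, ?_, ?_, ?_⟩
  · rw [Subgroup.normal_subgroupOf_iff_le_normalizer (G_le G x)]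
    apply sup_le Subgroup.le_normalizer
    rw [Subgroup.zpowers_le]
    exact hx
  · rw [Nat.card_congr (Subgroup.subgroupOfEquivOfLe (G_le G x)).toEquiv,
      Nat.card_congr (Subgroup.subgroupOfEquivOfLe
        (le_sup_right : Subgroup.zpowers x ≤ LL G x)).toEquiv, Nat.card_zpowers]
    exact hcop
  · have h1 := Subgroup.subgroupOf_sup (G_le G x)
      (le_sup_right : Subgroup.zpowers x ≤ LL G x)
    rw [← h1]
    exact Subgroup.subgroupOf_self (H := LL G x)
  · exact zpowers_subgroupOf G x

/-- The fixed points, inside `G ⊔ ⟨x⟩`. -/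
theorem cent_sub (C : Subgroup Γ) (hC : C = G ⊓ Subgroup.centralizer ({x} : Set Γ)) :
    C.subgroupOf (LL G x) = G.subgroupOf (LL G x) ⊓
      Subgroup.centralizer (((Subgroup.zpowers x).subgroupOf (LL G x) : Subgroup (LL G x)) :
        Set (LL G x)) := by
  ext y
  rw [Subgroup.mem_inf, Subgroup.mem_subgroupOf, Subgroup.mem_subgroupOf, hC, Subgroup.mem_inf,
    Subgroup.mem_centralizer_iff, Subgroup.mem_centralizer_iff]
  apply and_congr Iff.rfl
  constructor
  · intro h t ht
    rw [SetLike.mem_coe, Subgroup.mem_subgroupOf, Subgroup.mem_zpowers_iff] at ht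
    obtain ⟨k, hk⟩ := ht
    apply Subtype.ext
    push_cast
    rw [← hk]
    have h1 : Commute x (y : Γ) := h x (Set.mem_singleton x)
    exact (h1.zpow_left k).eq
  · intro h t ht
    rw [Set.mem_singleton_iff] at ht
    subst ht
    have := h ⟨t, x_mem G t⟩ (by
      rw [SetLike.mem_coe, Subgroup.mem_subgroupOf]
      exact Subgroup.mem_zpowers t)
    have := congrArg Subtype.val this
    simpa using this

end setup

end Cfsg.Agent.Lib.helper3.GlSub
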