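import Mathlib
import Cfsg.Agent.Lib.helper3.GlSub1

/-!
# Coprime action of a cyclic `p`-group inside an ambient group: the correspondence
-/

set_option autoImplicit false
set_option linter.style.haveILetI false
set_option linter.unusedSectionVars false

namespace Cfsg.Agent.Lib.helper3.GlSub

open Cfsg Module Cfsg.Agent.Lib.helper3.Irr Cfsg.Agent.Lib.helper3.CharBasic
open Cfsg.Agent.Lib.helper3.IndFun Cfsg.Agent.Lib.helper3.GlCyc
open scoped ComplexConjugate

/-- Transport of irreducible characters along an isomorphism. -/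
noncomputable def irrEquiv {H K : Type*} [Group H] [Group K] [Finite H] [Finite K] (e : H ≃* K) :
    IrrCharacter K ≃ IrrCharacter H where
  toFun χ := ⟨fun h => (χ : K → ℂ) (e h), isIrrCharacter_comp_mulEquiv e χ.2⟩
  invFun ψ := ⟨fun k => (ψ : H → ℂ) (e.symm k), isIrrCharacter_comp_mulEquiv e.symm ψ.2⟩
  left_inv χ := by
    apply Subtype.ext
    funext k
    simp
  right_inv ψ := by
    apply Subtype.ext
    funext h
    simp

theorem irrEquiv_apply {H K : Type*} [Group H] [Group K] [Finite H] [Finite K] (e : H ≃* K)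
    (χ : IrrCharacter K) (h : H) : ((irrEquiv e χ : IrrCharacter H) : H → ℂ) h
      = (χ : K → ℂ) (e h) := rfl

variable {Γ : Type*} [Group Γ] [Fintype Γ]

/-- Invariance under `x` implies invariance under the powers of `x`. -/
theorem inv_pow (G : Subgroup Γ) (x : Γ) (hx : x ∈ Subgroup.normalizer (G : Set Γ))
    (χ : G → ℂ)
    (hinv : ∀ g g' : G, (g' : Γ) = x * g * x⁻¹ → χ g' = χ g) (k : ℕ) :
    ∀ g g' : G, (g' : Γ) = x ^ k * g * (x ^ k)⁻¹ → χ g' = χ g := by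
  induction k with
  | zero =>
    intro g g' h
    have : g' = g := by
      apply Subtype.ext
      rw [h]
      simp
    rw [this]
  | succ k ih =>
    intro g g' h
    have hmem : x ^ k * (g : Γ) * (x ^ k)⁻¹ ∈ G := by
      have hk : x ^ k ∈ Subgroup.normalizer (G : Set Γ) := Subgroup.pow_mem _ hx k
      exact (Subgroup.mem_normalizer_iff.mp hk (g : Γ)).mp g.2
    rw [hinv ⟨_, hmem⟩ g' (by
      rw [h, pow_succ']
      simp only
      group), ih g ⟨_, hmem⟩ rfl]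

/-- The correspondence for the action of an element of `p`-power order. -/
theorem cycP (G : Subgroup Γ) [Fintype G] (x : Γ)
    (hx : x ∈ Subgroup.normalizer (G : Set Γ)) (p : ℕ) (hp : p.Prime) (j : ℕ)
    (hord : orderOf x = p ^ j) (hcop : (Nat.card G).Coprime (orderOf x))
    (C : Subgroup Γ) [Fintype C] (hC : C = G ⊓ Subgroup.centralizer ({x} : Set Γ))
    (hCG : C ≤ G) :
    (∀ χ : IrrCharacter G, (∀ g g' : G, (g' : Γ) = x * g * x⁻¹ → (χ : G → ℂ) g' = (χ : G → ℂ) g) →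
      ∃ (β : IrrCharacter C) (ε : ℤ), (ε = 1 ∨ ε = -1) ∧ ∀ β' : IrrCharacter C, ∃ a : ℕ,
        classInner (fun c : C => (χ : G → ℂ) ⟨c, hCG c.2⟩) (β' : C → ℂ) = a ∧
        (a : ℤ) ≡ (if β' = β then ε else 0) [ZMOD p]) ∧
    (∀ χ χ' : IrrCharacter G,
      (∀ g g' : G, (g' : Γ) = x * g * x⁻¹ → (χ : G → ℂ) g' = (χ : G → ℂ) g) →
      (∀ g g' : G, (g' : Γ) = x * g * x⁻¹ → (χ' : G → ℂ) g' = (χ' : G → ℂ) g) →
      ∀ β : IrrCharacter C, ∀ m m' : ℕ,
        classInner (fun c : C => (χ : G → ℂ) ⟨c, hCG c.2⟩) (β : C → ℂ) = m → ¬ p ∣ m →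
        classInner (fun c : C => (χ' : G → ℂ) ⟨c, hCG c.2⟩) (β : C → ℂ) = m' → ¬ p ∣ m' →
        χ = χ') ∧
    (∀ β : IrrCharacter C, ∃ χ : IrrCharacter G,
      (∀ g g' : G, (g' : Γ) = x * g * x⁻¹ → (χ : G → ℂ) g' = (χ : G → ℂ) g) ∧
      ∃ m : ℕ, classInner (fun c : C => (χ : G → ℂ) ⟨c, hCG c.2⟩) (β : C → ℂ) = m ∧
        ¬ p ∣ m) := by
  classical
  letI : Fintype (LL G x) := Fintype.ofFinite _
  letI : Fintype (G.subgroupOf (LL G x)) := Fintype.ofFinite _
  letI : Fintype (C.subgroupOf (LL G x)) := Fintype.ofFinite _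
  have h := setup_sub G x hx hcop
  have hC' := cent_sub G x C hC
  haveI hGn := h.normal
  have hCL : C ≤ LL G x := hCG.trans (G_le G x)
  obtain ⟨eG, heG⟩ : ∃ eG : G.subgroupOf (LL G x) ≃* G, ∀ y, ((eG y : G) : Γ) = ((y : LL G x) : Γ) :=
    ⟨Subgroup.subgroupOfEquivOfLe (G_le G x), fun _ => rfl⟩
  obtain ⟨eC, heC⟩ : ∃ eC : C.subgroupOf (LL G x) ≃* C, ∀ y, ((eC y : C) : Γ) = ((y : LL G x) : Γ) :=
    ⟨Subgroup.subgroupOfEquivOfLe hCL, fun _ => rfl⟩
  have hS : Nat.card ((Subgroup.zpowers x).subgroupOf (LL G x)) = p ^ j := by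
    rw [Nat.card_congr (Subgroup.subgroupOfEquivOfLe
      (le_sup_right : Subgroup.zpowers x ≤ LL G x)).toEquiv, Nat.card_zpowers, hord]
  -- the invariance in `L`
  have hinvL : ∀ χ : IrrCharacter G,
      (∀ g g' : G, (g' : Γ) = x * g * x⁻¹ → (χ : G → ℂ) g' = (χ : G → ℂ) g) →
      ∀ (y : LL G x) (g : G.subgroupOf (LL G x)),
        (irrEquiv eG χ : G.subgroupOf (LL G x) → ℂ) ⟨y * g * y⁻¹, hGn.conj_mem g g.2 y⟩
          = (irrEquiv eG χ : G.subgroupOf (LL G x) → ℂ) g := by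
    intro χ hinv y g
    obtain ⟨g₀, hg₀, k, rfl⟩ := h.exists_mul y
    rw [irrEquiv_apply, irrEquiv_apply]
    have hcf := isClassFunction_of_isCharacter (isCharacter_of_isIrrCharacter χ.2)
    have hmem : x ^ k * ((eG g : G) : Γ) * (x ^ k)⁻¹ ∈ G := by
      have hk : x ^ k ∈ Subgroup.normalizer (G : Set Γ) := Subgroup.pow_mem _ hx k
      exact (Subgroup.mem_normalizer_iff.mp hk _).mp (eG g).2
    have h1 := inv_pow G x hx (χ : G → ℂ) hinv k (eG g) ⟨_, hmem⟩ rfl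
    rw [← h1]
    have hg₀G : ((g₀ : LL G x) : Γ) ∈ G := Subgroup.mem_subgroupOf.mp hg₀
    rw [← hcf ⟨_, hmem⟩ ⟨_, hg₀G⟩]
    apply congrArg (χ : G → ℂ)
    apply Subtype.ext
    rw [heG]
    push_cast
    rw [heG]
    group
  -- canonical extensions
  have hcan : ∀ χ : IrrCharacter G,
      (∀ g g' : G, (g' : Γ) = x * g * x⁻¹ → (χ : G → ℂ) g' = (χ : G → ℂ) g) →
      ∃ ξ : LL G x → ℂ, IsIrrCharacter (LL G x) ξ ∧
        IsIrrCharacter (G.subgroupOf (LL G x)) (fun g : G.subgroupOf (LL G x) => ξ g) ∧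
        (∀ g : G, ξ ⟨g, G_le G x g.2⟩ = (χ : G → ℂ) g) ∧
        (detOrder ξ).Coprime (Nat.card ((Subgroup.zpowers x).subgroupOf (LL G x))) := by
    intro χ hinv
    obtain ⟨ξ, hξ, hξG, hdet⟩ := h.exists_canonical (irrEquiv eG χ : G.subgroupOf (LL G x) → ℂ)
      (irrEquiv eG χ).2 (hinvL χ hinv)
    refine ⟨ξ, hξ, ?_, ?_, hdet⟩
    · have : (fun g : G.subgroupOf (LL G x) => ξ g)
          = (irrEquiv eG χ : G.subgroupOf (LL G x) → ℂ) := funext hξG
      rw [this]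
      exact (irrEquiv eG χ).2
    · intro g
      have := hξG ⟨⟨g, G_le G x g.2⟩, Subgroup.mem_subgroupOf.mpr g.2⟩
      rw [irrEquiv_apply] at this
      rw [this]
      apply congrArg (χ : G → ℂ)
      apply Subtype.ext
      rw [heG]
  -- restriction to `C` in the two pictures
  have hresC : ∀ (χ : IrrCharacter G) (ξ : LL G x → ℂ),
      (∀ g : G, ξ ⟨g, G_le G x g.2⟩ = (χ : G → ℂ) g) → ∀ β : IrrCharacter C,
      classInner (fun c : C => (χ : G → ℂ) ⟨c, hCG c.2⟩) (β : C → ℂ)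
        = classInner (fun c : C.subgroupOf (LL G x) => ξ (c : LL G x))
          (irrEquiv eC β : C.subgroupOf (LL G x) → ℂ) := by
    intro χ ξ hext β
    rw [← classInner_comp_mulEquiv eC]
    congr 1
    funext c
    rw [← hext]
    congr 1
    apply Subtype.ext
    exact heC c
  -- part A in terms of canonical extensions
  have hA : ∀ (χ : IrrCharacter G) (ξ : LL G x → ℂ), IsIrrCharacter (LL G x) ξ →
      IsIrrCharacter (G.subgroupOf (LL G x)) (fun g : G.subgroupOf (LL G x) => ξ g) →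
      (∀ g : G, ξ ⟨g, G_le G x g.2⟩ = (χ : G → ℂ) g) →
      (detOrder ξ).Coprime (Nat.card ((Subgroup.zpowers x).subgroupOf (LL G x))) →
      ∃ (β : IrrCharacter C) (ε : ℤ), (ε = 1 ∨ ε = -1) ∧
        (∀ c : C.subgroupOf (LL G x), ξ ((c : LL G x) * ⟨x, x_mem G x⟩)
          = (ε : ℂ) * (irrEquiv eC β : C.subgroupOf (LL G x) → ℂ) c) ∧
        ∀ β' : IrrCharacter C, ∃ a : ℕ,
          classInner (fun c : C => (χ : G → ℂ) ⟨c, hCG c.2⟩) (β' : C → ℂ) = a ∧
          (a : ℤ) ≡ (if β' = β then ε else 0) [ZMOD p] := by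
    intro χ ξ hξ hξG hext hdet
    obtain ⟨β₀, ε, hε, hval, hall⟩ := h.pcorr_A _ hC' p hp j hS ξ hξ hξG hdet
    refine ⟨(irrEquiv eC).symm β₀, ε, hε, ?_, ?_⟩
    · intro c
      rw [Equiv.apply_symm_apply]
      exact hval c
    · intro β'
      obtain ⟨a, ha1, ha2⟩ := hall (irrEquiv eC β')
      refine ⟨a, ?_, ?_⟩
      · rw [hresC χ ξ hext β', ha1]
      · have hiff : (irrEquiv eC β' = β₀) ↔ (β' = (irrEquiv eC).symm β₀) := by
          rw [Equiv.eq_symm_apply]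
        by_cases hb : β' = (irrEquiv eC).symm β₀
        · rw [if_pos hb]
          rw [if_pos (hiff.mpr hb)] at ha2
          exact ha2
        · rw [if_neg hb]
          rw [if_neg (fun h' => hb (hiff.mp h'))] at ha2
          exact ha2
  refine ⟨?_, ?_, ?_⟩
  · intro χ hinv
    obtain ⟨ξ, hξ, hξG, hext, hdet⟩ := hcan χ hinv
    obtain ⟨β, ε, hε, -, hall⟩ := hA χ ξ hξ hξG hext hdet
    exact ⟨β, ε, hε, hall⟩
  · intro χ χ' hinv hinv' β m m' hm hpm hm' hpm'
    obtain ⟨ξ, hξ, hξG, hext, hdet⟩ := hcan χ hinv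
    obtain ⟨ξ', hξ', hξ'G, hext', hdet'⟩ := hcan χ' hinv'
    obtain ⟨β₁, ε, hε, hval, hall⟩ := hA χ ξ hξ hξG hext hdet
    obtain ⟨β₁', ε', hε', hval', hall'⟩ := hA χ' ξ' hξ' hξ'G hext' hdet'
    have hβ : β = β₁ := by
      by_contra hne
      obtain ⟨a, ha1, ha2⟩ := hall β
      rw [if_neg hne] at ha2
      rw [hm] at ha1
      have : m = a := by exact_mod_cast ha1
      apply hpm
      rw [this]
      have := Int.emod_emod_of_dvd a (dvd_refl (p : ℤ))
      exact_mod_cast (Int.modEq_zero_iff_dvd.mp ha2)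
    have hβ' : β = β₁' := by
      by_contra hne
      obtain ⟨a, ha1, ha2⟩ := hall' β
      rw [if_neg hne] at ha2
      rw [hm'] at ha1
      have : m' = a := by exact_mod_cast ha1
      apply hpm'
      rw [this]
      exact_mod_cast (Int.modEq_zero_iff_dvd.mp ha2)
    rw [← hβ] at hval
    rw [← hβ'] at hval'
    have heq := h.pcorr_B _ hC' ξ ξ' hξ hξG hξ' hξ'G (irrEquiv eC β) ε ε' hε hε' hval hval'
    apply Subtype.ext
    funext g
    rw [← hext g, ← hext' g]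
    exact congrFun heq ⟨⟨g, G_le G x g.2⟩, Subgroup.mem_subgroupOf.mpr g.2⟩
  · intro β
    obtain ⟨ξ, hξ, hξG, hdet, ε, hε, hval⟩ := h.exists_of_irr _ hC' (irrEquiv eC β)
    -- the character of `G`
    obtain ⟨χ, hχ⟩ : ∃ χ : IrrCharacter G, ∀ g : G, ξ ⟨g, G_le G x g.2⟩ = (χ : G → ℂ) g := by
      refine ⟨(irrEquiv eG).symm ⟨_, hξG⟩, ?_⟩
      intro g
      show ξ ⟨g, _⟩ = ξ ((eG.symm g : G.subgroupOf (LL G x)) : LL G x)
      congr 1
      apply Subtype.ext
      have := heG (eG.symm g)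
      rw [MulEquiv.apply_symm_apply] at this
      exact this
    have hinv : ∀ g g' : G, (g' : Γ) = x * g * x⁻¹ → (χ : G → ℂ) g' = (χ : G → ℂ) g := by
      intro g g' hgg'
      rw [← hχ, ← hχ]
      have hcf := isClassFunction_of_isCharacter (isCharacter_of_isIrrCharacter hξ)
      rw [← hcf ⟨g, G_le G x g.2⟩ ⟨x, x_mem G x⟩]
      congr 1
      apply Subtype.ext
      push_cast
      exact hgg'
    refine ⟨χ, hinv, ?_⟩
    obtain ⟨β₁, ε₁, hε₁, hval₁, hall⟩ := hA χ ξ hξ hξG hχ hdet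
    have hββ₁ : β = β₁ := by
      have := signed_irr_unique (irrEquiv eC β) (irrEquiv eC β₁) ε ε₁ hε hε₁ (by
        intro c
        rw [← hval c, ← hval₁ c])
      exact (irrEquiv eC).injective this.1
    obtain ⟨a, ha1, ha2⟩ := hall β
    rw [if_pos hββ₁] at ha2
    refine ⟨a, ha1, ?_⟩
    intro hdvd
    have h0 : (a : ℤ) ≡ 0 [ZMOD p] := Int.modEq_zero_iff_dvd.mpr (by exact_mod_cast hdvd)
    have h1 : (ε₁ : ℤ) ≡ 0 [ZMOD p] := ha2.symm.trans h0
    have h2 : (p : ℤ) ∣ ε₁ := Int.modEq_zero_iff_dvd.mp h1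
    have hp2 : (2 : ℤ) ≤ p := by exact_mod_cast hp.two_le
    rcases hε₁ with rfl | rfl
    · have := Int.le_of_dvd one_pos h2
      omega
    · have h3 : (p : ℤ) ∣ 1 := by
        have := (dvd_neg).mpr h2
        simpa using this
      have := Int.le_of_dvd one_pos h3
      omega

end Cfsg.Agent.Lib.helper3.GlSub
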