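import Mathlib
import Cfsg.Agent.H1.SZConj

set_option autoImplicit false
set_option linter.style.haveILetI false
set_option linter.unusedSectionVars false

/-!
# Glauberman's lemma on fixed points of coprime actions
-/

namespace Cfsg.Agent.Lib.helper3.Glaub

open scoped Pointwise

universe u v

/-- Glauberman's lemma, when the transitive group is normal and complemented. -/
theorem fixed_point_core {X : Type u} {T : Type v} [Group X] [Finite X] [MulAction X T]
    (A B : Subgroup X) [hA : A.Normal] (hAB : Subgroup.IsComplement' A B)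
    (hcop : (Nat.card A).Coprime (Nat.card B))
    (hsolv : Group.IsSolvable A ∨ Group.IsSolvable B) (Ω : Set T) (hne : Ω.Nonempty)
    (hstab : ∀ (x : X), ∀ ω ∈ Ω, x • ω ∈ Ω)
    (htrans : ∀ ω ∈ Ω, ∀ ω' ∈ Ω, ∃ a ∈ A, a • ω = ω') :
    ∃ ω ∈ Ω, ∀ b ∈ B, b • ω = ω := by
  classical
  obtain ⟨ω, hω⟩ := hne
  obtain ⟨St, hSt⟩ : ∃ St : Subgroup X, St = MulAction.stabilizer X ω := ⟨_, rfl⟩
  have htop : St ⊔ A = ⊤ := by
    rw [eq_top_iff]
    intro x _
    obtain ⟨a, ha, hax⟩ := htrans ω hω (x • ω) (hstab x ω hω)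
    have h1 : a⁻¹ * x ∈ St := by
      rw [hSt, MulAction.mem_stabilizer_iff, mul_smul, ← hax, inv_smul_smul]
    have h2 : x = a * (a⁻¹ * x) := by group
    rw [h2]
    exact Subgroup.mul_mem _ (Subgroup.mem_sup_right ha) (Subgroup.mem_sup_left h1)
  have hidx : (A.subgroupOf St).index = Nat.card B := by
    have h1 : (A.subgroupOf St).index = A.relIndex St := rfl
    rw [h1, ← Subgroup.relIndex_sup_right St A, htop, Subgroup.relIndex_top_right]
    exact hAB.symm.index_eq_card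
  have hcard : Nat.card (A.subgroupOf St) ∣ Nat.card A := by
    have h1 : Nat.card (A.subgroupOf St) = Nat.card ↥(A ⊓ St) := by
      rw [← Subgroup.inf_subgroupOf_right]
      exact Nat.card_congr (Subgroup.subgroupOfEquivOfLe inf_le_right).toEquiv
    rw [h1]
    exact Subgroup.card_dvd_of_le inf_le_left
  have hcop' : (Nat.card (A.subgroupOf St)).Coprime (A.subgroupOf St).index := by
    rw [hidx]
    exact Nat.Coprime.coprime_dvd_left hcard hcop
  obtain ⟨T₀, hT₀⟩ := Subgroup.exists_right_complement'_of_coprime hcop'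
  obtain ⟨T₁, hT₁⟩ : ∃ T₁ : Subgroup X, T₁ = T₀.map St.subtype := ⟨_, rfl⟩
  have hT₁card : Nat.card T₁ = Nat.card B := by
    rw [hT₁, Subgroup.card_map_of_injective St.subtype_injective, ← hidx]
    exact hT₀.symm.index_eq_card.symm
  have hT₁le : T₁ ≤ St := by
    rw [hT₁]
    exact Subgroup.map_subtype_le T₀
  have hcompl : Subgroup.IsComplement' A T₁ := by
    apply Subgroup.isComplement'_of_coprime
    · rw [hT₁card]
      exact hAB.card_mul_card
    · rw [hT₁card]
      exact hcop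
  obtain ⟨g, hg⟩ := Cfsg.Agent.H1.sz_conj A B T₁ hAB hcompl hcop hsolv
  refine ⟨g⁻¹ • ω, hstab _ ω hω, ?_⟩
  intro b hb
  have h1 : g * b * g⁻¹ ∈ T₁ := by
    rw [← hg]
    exact ⟨b, hb, rfl⟩
  have h2 := hT₁le h1
  rw [hSt, MulAction.mem_stabilizer_iff] at h2
  rw [← mul_smul]
  have h3 : b * g⁻¹ = g⁻¹ * (g * b * g⁻¹) := by group
  rw [h3, mul_smul, h2]

/-- Glauberman's lemma for two subgroups of a finite group acting on a set. -/
theorem fixed_point {X : Type u} {T : Type v} [Group X] [Finite X] [MulAction X T]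
    (A B : Subgroup X) (hnorm : ∀ b ∈ B, ∀ a ∈ A, b * a * b⁻¹ ∈ A)
    (hcop : (Nat.card A).Coprime (Nat.card B))
    (hsolv : Group.IsSolvable A ∨ Group.IsSolvable B) (Ω : Set T) (hne : Ω.Nonempty)
    (hstabA : ∀ a ∈ A, ∀ ω ∈ Ω, a • ω ∈ Ω) (hstabB : ∀ b ∈ B, ∀ ω ∈ Ω, b • ω ∈ Ω)
    (htrans : ∀ ω ∈ Ω, ∀ ω' ∈ Ω, ∃ a ∈ A, a • ω = ω') :
    ∃ ω ∈ Ω, ∀ b ∈ B, b • ω = ω := by
  classical
  obtain ⟨Y, hY⟩ : ∃ Y : Subgroup X, Y = A ⊔ B := ⟨_, rfl⟩
  have hAY : A ≤ Y := hY ▸ le_sup_left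
  have hBY : B ≤ Y := hY ▸ le_sup_right
  have hBn : B ≤ Subgroup.normalizer (A : Set X) := by
    intro b hb
    rw [Subgroup.mem_normalizer_iff]
    intro a
    constructor
    · intro ha
      exact hnorm b hb a ha
    · intro ha
      have := hnorm b⁻¹ (B.inv_mem hb) _ ha
      rw [inv_inv] at this
      have h2 : b⁻¹ * (b * a * b⁻¹) * b = a := by group
      rwa [h2] at this
  have hYset : (Y : Set X) = (A : Set X) * (B : Set X) := by
    rw [hY]
    exact Subgroup.coe_mul_of_right_le_normalizer_left A B hBn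
  haveI hAn : (A.subgroupOf Y).Normal := by
    constructor
    intro n hn y
    rw [Subgroup.mem_subgroupOf] at hn ⊢
    have hy : (y : X) ∈ (Y : Set X) := y.2
    rw [hYset] at hy
    obtain ⟨a, ha, b, hb, hab⟩ := Set.mem_mul.1 hy
    have h1 : ((y * n * y⁻¹ : Y) : X) = a * (b * (n : X) * b⁻¹) * a⁻¹ := by
      push_cast
      rw [← hab]
      group
    rw [h1]
    exact A.mul_mem (A.mul_mem ha (hnorm b hb _ hn)) (A.inv_mem ha)
  have hcardA : Nat.card (A.subgroupOf Y) = Nat.card A :=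
    Nat.card_congr (Subgroup.subgroupOfEquivOfLe hAY).toEquiv
  have hcardB : Nat.card (B.subgroupOf Y) = Nat.card B :=
    Nat.card_congr (Subgroup.subgroupOfEquivOfLe hBY).toEquiv
  have hcompl : Subgroup.IsComplement' (A.subgroupOf Y) (B.subgroupOf Y) := by
    apply Subgroup.isComplement'_of_disjoint_and_mul_eq_univ
    · apply Subgroup.disjoint_of_coprime_natCard
      rw [hcardA, hcardB]
      exact hcop
    · rw [Set.eq_univ_iff_forall]
      intro y
      have hy : (y : X) ∈ (Y : Set X) := y.2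
      rw [hYset] at hy
      obtain ⟨a, ha, b, hb, hab⟩ := Set.mem_mul.1 hy
      exact Set.mem_mul.2 ⟨⟨a, hAY ha⟩, Subgroup.mem_subgroupOf.2 ha, ⟨b, hBY hb⟩,
        Subgroup.mem_subgroupOf.2 hb, Subtype.ext hab⟩
  have hsolv' : Group.IsSolvable (A.subgroupOf Y) ∨ Group.IsSolvable (B.subgroupOf Y) := by
    rcases hsolv with h | h
    · left
      exact Group.isSolvable_of_isSolvable_injective (f := (Subgroup.subgroupOfEquivOfLe hAY).toMonoidHom)
        (Subgroup.subgroupOfEquivOfLe hAY).injective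
    · right
      exact Group.isSolvable_of_isSolvable_injective (f := (Subgroup.subgroupOfEquivOfLe hBY).toMonoidHom)
        (Subgroup.subgroupOfEquivOfLe hBY).injective
  have hstabY : ∀ (y : Y), ∀ ω ∈ Ω, y • ω ∈ Ω := by
    intro y ω hω
    have hy : (y : X) ∈ (Y : Set X) := y.2
    rw [hYset] at hy
    obtain ⟨a, ha, b, hb, hab⟩ := Set.mem_mul.1 hy
    have h1 : y • ω = a • b • ω := by
      rw [← mul_smul, hab]
      rfl
    rw [h1]
    exact hstabA a ha _ (hstabB b hb ω hω)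
  obtain ⟨ω, hω, hfix⟩ := fixed_point_core (A.subgroupOf Y) (B.subgroupOf Y) hcompl
    (by rw [hcardA, hcardB]; exact hcop) hsolv' Ω hne hstabY
    (by
      intro ω hω ω' hω'
      obtain ⟨a, ha, haω⟩ := htrans ω hω ω' hω'
      exact ⟨⟨a, hAY ha⟩, Subgroup.mem_subgroupOf.2 ha, haω⟩)
  refine ⟨ω, hω, ?_⟩
  intro b hb
  exact hfix ⟨b, hBY hb⟩ (Subgroup.mem_subgroupOf.2 hb)

end Cfsg.Agent.Lib.helper3.Glaub
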