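import Mathlib
import Cfsg.Prelude.Def_Characters
import Cfsg.Agent.Lib.helper3.Clifford
import Cfsg.Agent.Lib.helper3.Irr16

set_option autoImplicit false
set_option linter.style.haveILetI false
set_option linter.unusedSectionVars false

/-!
# Clifford's theorem in finset form, and the orbit count
-/

namespace Cfsg.Agent.Lib.helper3.Irr

open Cfsg Module Cfsg.Agent.Lib.helper3.IndFun Cfsg.Agent.Lib.helper3.CharBasic
open scoped ComplexConjugate

variable {K : Type*} [Group K]

/-- Clifford's theorem with the orbit as a finset. -/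
theorem clifford_finset [Fintype K] (L : Subgroup K) [hL : L.Normal] [Fintype L]
    [DecidableEq (L → ℂ)] (θ : K → ℂ)
    (hθ : IsIrrCharacter K θ) (φ : L → ℂ) (hφ : IsIrrCharacter L φ)
    (hconst : classInner (fun n : L => θ n) φ ≠ 0) :
    ∃ e : ℕ, e ≠ 0 ∧ classInner (fun n : L => θ n) φ = e ∧
      (fun n : L => θ n) = (e : ℂ) • ∑ ψ ∈ Finset.univ.image (conjFun L φ), ψ ∧
      classInner (fun n : L => θ n) (fun n : L => θ n)
        = ((e ^ 2 * (Finset.univ.image (conjFun L φ)).card : ℕ) : ℂ) ∧
      ∀ ψ : L → ℂ, IsIrrCharacter L ψ → classInner (fun n : L => θ n) ψ ≠ 0 →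
        ψ ∈ Finset.univ.image (conjFun L φ) := by
  have hres := isCharacter_restrict (isCharacter_of_isIrrCharacter hθ) L
  obtain ⟨e, he⟩ := exists_nat_classInner_of_isCharacter hres ⟨φ, hφ⟩
  have he' : classInner (fun n : L => θ n) φ = e := he
  have he0 : e ≠ 0 := by
    intro h
    apply hconst
    rw [he', h, Nat.cast_zero]
  have hcl := clifford L θ hθ φ hφ hconst
  rw [setOf_conj_eq, finsum_mem_coe_finset, he'] at hcl
  have himg : ∀ ψ ∈ Finset.univ.image (conjFun L φ), IsIrrCharacter L ψ := by
    intro ψ hψ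
    obtain ⟨g, -, rfl⟩ := Finset.mem_image.mp hψ
    exact isIrrCharacter_conjFun L hφ g
  have hinner : ∀ ψ : L → ℂ, IsIrrCharacter L ψ →
      classInner (fun n : L => θ n) ψ
        = if ψ ∈ Finset.univ.image (conjFun L φ) then (e : ℂ) else 0 := by
    intro ψ hψ
    conv_lhs => rw [hcl]
    rw [classInner_smul_left, classInner_sum_left]
    split_ifs with h
    · rw [Finset.sum_eq_single_of_mem ψ h, irr_classInner_self hψ, mul_one]
      intro ψ' hψ' hne
      exact irr_classInner_eq_zero (himg ψ' hψ') hψ hne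
    · rw [Finset.sum_eq_zero, mul_zero]
      intro ψ' hψ'
      apply irr_classInner_eq_zero (himg ψ' hψ') hψ
      intro heq
      apply h
      rw [← heq]
      exact hψ'
  refine ⟨e, he0, he', hcl, ?_, ?_⟩
  · conv_lhs =>
      arg 2
      rw [hcl]
    rw [classInner_smul_right, classInner_sum_right]
    have h1 : ∀ ψ ∈ Finset.univ.image (conjFun L φ), classInner (fun n : L => θ n) ψ = (e : ℂ) := by
      intro ψ hψ
      rw [hinner ψ (himg ψ hψ), if_pos hψ]
    rw [Finset.sum_congr rfl h1, Finset.sum_const, Complex.conj_natCast]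
    push_cast
    ring
  · intro ψ hψ hne
    by_contra h
    apply hne
    rw [hinner ψ hψ, if_neg h]

/-- Orbit–stabilizer for the conjugation action on functions on a normal subgroup. -/
theorem card_eq_card_image_conjFun_mul [Fintype K] (L : Subgroup K) [hL : L.Normal]
    [DecidableEq (L → ℂ)] (φ : L → ℂ) :
    Fintype.card K = (Finset.univ.image (conjFun L φ)).card
      * (Finset.univ.filter (fun x : K => conjFun L φ x = φ)).card := by
  classical
  have h1 := Finset.card_eq_sum_card_fiberwise (f := conjFun L φ) (s := (Finset.univ : Finset K))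
    (t := Finset.univ.image (conjFun L φ)) (fun x hx => Finset.mem_image_of_mem _ hx)
  rw [Finset.card_univ] at h1
  rw [h1]
  have h2 : ∀ ψ ∈ Finset.univ.image (conjFun L φ),
      (Finset.univ.filter (fun x : K => conjFun L φ x = ψ)).card
        = (Finset.univ.filter (fun x : K => conjFun L φ x = φ)).card := by
    intro ψ hψ
    obtain ⟨g, -, rfl⟩ := Finset.mem_image.mp hψ
    exact card_fiber_conjFun L φ g
  rw [Finset.sum_congr rfl h2, Finset.sum_const, smul_eq_mul]

end Cfsg.Agent.Lib.helper3.Irr
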