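import Mathlib
import Cfsg.Prelude.Def_Characters
import Cfsg.Agent.Lib.helper3.Glaub1
import Cfsg.Agent.Lib.helper3.GoingDown2
import Cfsg.Agent.Lib.helper3.Irr12

set_option autoImplicit false
set_option linter.style.haveILetI false
set_option linter.unusedSectionVars false

/-!
# Coprime actions: invariant constituents of restrictions
-/

namespace Cfsg.Agent.Lib.helper3.Glaub

open Cfsg Cfsg.Agent.Lib.helper3.Irr Cfsg.Agent.Lib.helper3.CharBasic
open scoped ComplexConjugate

universe u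

variable {Γ : Type u} [Group Γ]

/-- Conjugation by an element of the normalizer, as an automorphism. -/
def conjN (N : Subgroup Γ) (m : Subgroup.normalizer (N : Set Γ)) : N ≃* N where
  toFun n := ⟨m * n * (m : Γ)⁻¹, (Subgroup.mem_normalizer_iff.1 m.2 n).1 n.2⟩
  invFun n := ⟨(m : Γ)⁻¹ * n * m, by
    have := (Subgroup.mem_normalizer_iff.1 (Subgroup.inv_mem _ m.2) n).1 n.2
    simpa using this⟩
  left_inv n := by
    apply Subtype.ext
    simp only
    group
  right_inv n := by
    apply Subtype.ext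
    simp only
    group
  map_mul' a b := by
    apply Subtype.ext
    simp only [Subgroup.coe_mul]
    group

theorem conjN_apply (N : Subgroup Γ) (m : Subgroup.normalizer (N : Set Γ)) (n : N) :
    ((conjN N m n : N) : Γ) = m * n * (m : Γ)⁻¹ := rfl

/-- The action of the normalizer of `N` on the irreducible characters of `N`:
`(m • θ)(n) = θ(m⁻¹ n m)`. -/
noncomputable def normAction [Finite Γ] (N : Subgroup Γ) :
    MulAction (Subgroup.normalizer (N : Set Γ)) (IrrCharacter N) where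
  smul m θ := ⟨fun n => (θ : N → ℂ) (conjN N m⁻¹ n), isIrrCharacter_comp_mulEquiv (conjN N m⁻¹) θ.2⟩
  one_smul θ := by
    apply Subtype.ext
    funext n
    show (θ : N → ℂ) (conjN N (1 : Subgroup.normalizer (N : Set Γ))⁻¹ n) = (θ : N → ℂ) n
    apply congrArg (θ : N → ℂ)
    apply Subtype.ext
    rw [conjN_apply]
    simp
  mul_smul a b θ := by
    apply Subtype.ext
    funext n
    show (θ : N → ℂ) (conjN N (a * b)⁻¹ n) = (θ : N → ℂ) (conjN N b⁻¹ (conjN N a⁻¹ n))
    apply congrArg (θ : N → ℂ)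
    apply Subtype.ext
    rw [conjN_apply, conjN_apply, conjN_apply]
    push_cast
    group

theorem normAction_apply [Finite Γ] (N : Subgroup Γ) (m : Subgroup.normalizer (N : Set Γ))
    (θ : IrrCharacter N) (n : N) :
    letI := normAction N
    ((m • θ : IrrCharacter N) : N → ℂ) n = (θ : N → ℂ) (conjN N m⁻¹ n) := rfl

/-- Invariance of the inner product with an invariant function. -/
theorem classInner_normAction [Fintype Γ] (N : Subgroup Γ) [Fintype N]
    (m : Subgroup.normalizer (N : Set Γ)) (φ : N → ℂ)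
    (hφ : ∀ n : N, φ (conjN N m⁻¹ n) = φ n) (θ : IrrCharacter N) :
    letI := normAction N
    classInner φ ((m • θ : IrrCharacter N) : N → ℂ) = classInner φ (θ : N → ℂ) := by
  letI := normAction N
  have h1 : φ = fun n => φ (conjN N m⁻¹ n) := by
    funext n
    exact (hφ n).symm
  have h2 : ((m • θ : IrrCharacter N) : N → ℂ) = fun n => (θ : N → ℂ) (conjN N m⁻¹ n) := rfl
  rw [h2]
  conv_lhs => rw [h1]
  exact classInner_comp_mulEquiv (conjN N m⁻¹) φ (θ : N → ℂ)

/-- Isaacs 13.27: an invariant irreducible character has an invariant constituent on an invariant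
normal subgroup of coprime index. -/
theorem exists_invariant_constituent [Fintype Γ] (G S N : Subgroup Γ) [Fintype G] [Fintype N]
    (hnorm : ∀ s ∈ S, ∀ g ∈ G, s * g * s⁻¹ ∈ G) (hNG : N ≤ G) [hNn : (N.subgroupOf G).Normal]
    (hNS : ∀ s ∈ S, ∀ n ∈ N, s * n * s⁻¹ ∈ N) (hcop : (N.relIndex G).Coprime (Nat.card S))
    (hsolv : Group.IsSolvable S ∨ Group.IsSolvable (G ⧸ N.subgroupOf G)) (χ : IrrCharacter G)
    (hinv : ∀ s ∈ S, ∀ g g' : G, (g' : Γ) = s * g * s⁻¹ → (χ : G → ℂ) g' = (χ : G → ℂ) g) :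
    ∃ θ : IrrCharacter N,
      classInner (fun n : N => (χ : G → ℂ) ⟨n, hNG n.2⟩) (θ : N → ℂ) ≠ 0 ∧
      ∀ s ∈ S, ∀ g g' : N, (g' : Γ) = s * g * s⁻¹ → (θ : N → ℂ) g' = (θ : N → ℂ) g := by
  classical
  letI := normAction N
  have hGconj : ∀ g ∈ G, ∀ n ∈ N, g * n * g⁻¹ ∈ N := by
    intro g hg n hn
    have := hNn.conj_mem ⟨n, hNG hn⟩ (Subgroup.mem_subgroupOf.2 hn) ⟨g, hg⟩
    exact Subgroup.mem_subgroupOf.1 this
  have hnormalizer : ∀ (K : Subgroup Γ), (∀ k ∈ K, ∀ n ∈ N, k * n * k⁻¹ ∈ N) →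
      K ≤ Subgroup.normalizer (N : Set Γ) := by
    intro K hK k hk
    rw [Subgroup.mem_normalizer_iff]
    intro n
    constructor
    · exact hK k hk n
    · intro h
      have := hK k⁻¹ (K.inv_mem hk) _ h
      rw [inv_inv] at this
      have h2 : k⁻¹ * (k * n * k⁻¹) * k = n := by group
      rwa [h2] at this
  have hGM := hnormalizer G hGconj
  have hSM := hnormalizer S hNS
  obtain ⟨ρ, hρ⟩ : ∃ ρ : Subgroup.normalizer (N : Set Γ) →* Equiv.Perm (IrrCharacter N),
      ρ = MulAction.toPermHom _ _ := ⟨_, rfl⟩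
  have hρapply : ∀ (m : Subgroup.normalizer (N : Set Γ)) (θ : IrrCharacter N), ρ m θ = m • θ := by
    intro m θ
    rw [hρ]
    rfl
  obtain ⟨fG, hfG⟩ : ∃ fG : G →* Equiv.Perm (IrrCharacter N), fG = ρ.comp (Subgroup.inclusion hGM) :=
    ⟨_, rfl⟩
  obtain ⟨fS, hfS⟩ : ∃ fS : S →* Equiv.Perm (IrrCharacter N), fS = ρ.comp (Subgroup.inclusion hSM) :=
    ⟨_, rfl⟩
  obtain ⟨res, hres⟩ : ∃ res : N → ℂ, res = fun n : N => (χ : G → ℂ) ⟨n, hNG n.2⟩ := ⟨_, rfl⟩
  have hχc := isCharacter_of_isIrrCharacter χ.2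
  have hχcf := isClassFunction_of_isCharacter hχc
  have hresc : IsCharacter N res := by
    rw [hres]
    exact isCharacter_comp hχc (Subgroup.inclusion hNG)
  have hres0 : res ≠ 0 := by
    intro h
    have h1 := congrFun h 1
    rw [hres] at h1
    simp only [Pi.zero_apply] at h1
    exact apply_one_ne_zero χ.2 h1
  -- invariance of the restriction
  have hresG : ∀ (g : G) (n : N), res (conjN N (Subgroup.inclusion hGM g) n) = res n := by
    intro g n
    rw [hres]
    simp only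
    have h1 : (⟨((conjN N (Subgroup.inclusion hGM g) n : N) : Γ), hNG (conjN N _ n).2⟩ : G)
        = g * ⟨n, hNG n.2⟩ * g⁻¹ := by
      apply Subtype.ext
      rfl
    rw [h1]
    exact hχcf _ g
  have hresS : ∀ (s : S) (n : N), res (conjN N (Subgroup.inclusion hSM s) n) = res n := by
    intro s n
    rw [hres]
    simp only
    exact hinv s s.2 ⟨n, hNG n.2⟩ _ rfl
  obtain ⟨Ω, hΩ⟩ : ∃ Ω : Set (IrrCharacter N), Ω = {θ : IrrCharacter N | classInner res (θ : N → ℂ) ≠ 0} :=
    ⟨_, rfl⟩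
  have hne : Ω.Nonempty := by
    obtain ⟨ψ, hψ⟩ := exists_constituent hresc hres0
    exact ⟨ψ, by rw [hΩ]; exact hψ⟩
  have hstabA : ∀ a ∈ fG.range, ∀ ω ∈ Ω, a • ω ∈ Ω := by
    rintro a ⟨g, rfl⟩ ω hω
    rw [hΩ] at hω ⊢
    simp only [Set.mem_ofPred_eq] at hω ⊢
    have h1 : (fG g) • ω = (Subgroup.inclusion hGM g) • ω := by
      rw [hfG]
      exact hρapply _ _
    rw [h1, classInner_normAction N _ res _ ω]
    · exact hω
    · intro n
      have := hresG g⁻¹ n
      rwa [map_inv] at this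
  have hstabB : ∀ b ∈ fS.range, ∀ ω ∈ Ω, b • ω ∈ Ω := by
    rintro b ⟨s, rfl⟩ ω hω
    rw [hΩ] at hω ⊢
    simp only [Set.mem_ofPred_eq] at hω ⊢
    have h1 : (fS s) • ω = (Subgroup.inclusion hSM s) • ω := by
      rw [hfS]
      exact hρapply _ _
    rw [h1, classInner_normAction N _ res _ ω]
    · exact hω
    · intro n
      have := hresS s⁻¹ n
      rwa [map_inv] at this
  -- normalization
  have hnormAB : ∀ b ∈ fS.range, ∀ a ∈ fG.range, b * a * b⁻¹ ∈ fG.range := by
    rintro b ⟨s, rfl⟩ a ⟨g, rfl⟩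
    refine ⟨⟨s * g * (s : Γ)⁻¹, hnorm s s.2 g g.2⟩, ?_⟩
    rw [hfG, hfS]
    simp only [MonoidHom.comp_apply]
    rw [← map_inv, ← map_mul, ← map_mul]
    congr 1
  -- orders
  have hkerG : N.subgroupOf G ≤ fG.ker := by
    intro x hx
    rw [MonoidHom.mem_ker]
    apply Equiv.ext
    intro θ
    rw [hfG, MonoidHom.comp_apply, hρapply]
    apply Subtype.ext
    funext n
    rw [normAction_apply]
    show (θ : N → ℂ) (conjN N (Subgroup.inclusion hGM x)⁻¹ n) = (θ : N → ℂ) n
    have hθcf := isClassFunction_of_isCharacter (isCharacter_of_isIrrCharacter θ.2)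
    have hxN : (x : Γ) ∈ N := Subgroup.mem_subgroupOf.1 hx
    have h1 : conjN N (Subgroup.inclusion hGM x)⁻¹ n = (⟨(x : Γ), hxN⟩ : N)⁻¹ * n * (⟨(x : Γ), hxN⟩ : N)⁻¹⁻¹ := by
      apply Subtype.ext
      rw [conjN_apply]
      push_cast
      rfl
    rw [h1]
    exact hθcf n _
  have hcardA : Nat.card fG.range ∣ N.relIndex G := by
    rw [← Subgroup.index_ker]
    exact Subgroup.index_dvd_of_le hkerG
  have hcardB : Nat.card fS.range ∣ Nat.card S := by
    rw [← Subgroup.index_ker]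
    exact Subgroup.index_dvd_card _
  have hcopAB : (Nat.card fG.range).Coprime (Nat.card fS.range) :=
    Nat.Coprime.coprime_dvd_left hcardA (Nat.Coprime.coprime_dvd_right hcardB hcop)
  have hsolvAB : Group.IsSolvable fG.range ∨ Group.IsSolvable fS.range := by
    rcases hsolv with h | h
    · right
      haveI := h
      exact Group.isSolvable_of_surjective (f := fS.rangeRestrict) fS.rangeRestrict_surjective
    · left
      have hk : N.subgroupOf G ≤ fG.rangeRestrict.ker := by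
        intro x hx
        rw [MonoidHom.mem_ker]
        apply Subtype.ext
        exact hkerG hx
      haveI := h
      apply Group.isSolvable_of_surjective (f := QuotientGroup.lift (N.subgroupOf G) fG.rangeRestrict hk)
      intro y
      obtain ⟨x, hx⟩ := fG.rangeRestrict_surjective y
      exact ⟨QuotientGroup.mk x, hx⟩
  -- transitivity
  letI : Fintype (N.subgroupOf G) := Fintype.ofFinite _
  have htrans : ∀ ω ∈ Ω, ∀ ω' ∈ Ω, ∃ a ∈ fG.range, a • ω = ω' := by
    intro ω hω ω' hω'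
    rw [hΩ] at hω hω'
    simp only [Set.mem_ofPred_eq] at hω hω'
    obtain ⟨e, he⟩ : ∃ e : N.subgroupOf G ≃* N, e = Subgroup.subgroupOfEquivOfLe hNG := ⟨_, rfl⟩
    have hecoe : ∀ x : N.subgroupOf G, ((e x : N) : Γ) = ((x : G) : Γ) := by
      intro x
      rw [he]
      rfl
    have hres' : (fun x : N.subgroupOf G => (χ : G → ℂ) x) = fun x => res (e x) := by
      funext x
      rw [hres]
      simp only
      apply congrArg (χ : G → ℂ)
      apply Subtype.ext
      exact (hecoe x).symm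
    have h1 : classInner (fun x : N.subgroupOf G => (χ : G → ℂ) x) (fun x => (ω : N → ℂ) (e x))
        ≠ 0 := by
      rw [hres', classInner_comp_mulEquiv e res (ω : N → ℂ)]
      exact hω
    have h2 : classInner (fun x : N.subgroupOf G => (χ : G → ℂ) x) (fun x => (ω' : N → ℂ) (e x))
        ≠ 0 := by
      rw [hres', classInner_comp_mulEquiv e res (ω' : N → ℂ)]
      exact hω'
    obtain ⟨_, _, _, _, _, hall⟩ := clifford_finset (N.subgroupOf G) (χ : G → ℂ) χ.2
      (fun x => (ω : N → ℂ) (e x)) (isIrrCharacter_comp_mulEquiv e ω.2) h1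
    have h3 := hall (fun x => (ω' : N → ℂ) (e x)) (isIrrCharacter_comp_mulEquiv e ω'.2) h2
    obtain ⟨g, -, hg⟩ := Finset.mem_image.1 h3
    refine ⟨fG g⁻¹, ⟨g⁻¹, rfl⟩, ?_⟩
    have h4 : (fG g⁻¹) • ω = (Subgroup.inclusion hGM g⁻¹) • ω := by
      rw [hfG]
      exact hρapply _ _
    rw [h4]
    apply Subtype.ext
    funext n
    rw [normAction_apply]
    have h5 := congrFun hg (e.symm n)
    simp only [MulEquiv.apply_symm_apply] at h5
    rw [← h5]
    unfold conjFun
    show (ω : N → ℂ) _ = (ω : N → ℂ) _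
    apply congrArg (ω : N → ℂ)
    apply Subtype.ext
    rw [hecoe, conjN_apply]
    have h6 : (((e.symm n : N.subgroupOf G) : G) : Γ) = n := by
      rw [← hecoe, MulEquiv.apply_symm_apply]
    push_cast
    rw [h6]
    simp
  obtain ⟨θ, hθΩ, hθfix⟩ := fixed_point fG.range fS.range hnormAB hcopAB hsolvAB Ω hne hstabA hstabB
    htrans
  refine ⟨θ, ?_, ?_⟩
  · rw [hΩ] at hθΩ
    simp only [Set.mem_ofPred_eq] at hθΩ
    rw [hres] at hθΩ
    exact hθΩ
  · intro s hs g g' hgg'
    have h1 := hθfix (fS ⟨s⁻¹, S.inv_mem hs⟩) ⟨_, rfl⟩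
    have h2 : (fS ⟨s⁻¹, S.inv_mem hs⟩) • θ = (Subgroup.inclusion hSM ⟨s⁻¹, S.inv_mem hs⟩) • θ := by
      rw [hfS]
      exact hρapply _ _
    rw [h2] at h1
    have h3 : ((Subgroup.inclusion hSM ⟨s⁻¹, S.inv_mem hs⟩ • θ : IrrCharacter N) : N → ℂ) g
        = (θ : N → ℂ) g := by rw [h1]
    rw [normAction_apply] at h3
    rw [← h3]
    apply congrArg (θ : N → ℂ)
    apply Subtype.ext
    rw [hgg', conjN_apply]
    simp

end Cfsg.Agent.Lib.helper3.Glaub
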