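import Mathlib
import Cfsg.Agent.Lib.helper3.GlP1
import Cfsg.Agent.Lib.helper3.Glaub2
import Cfsg.Agent.Lib.helper3.GlSub2

/-!
# Conjugation of characters of subgroups and the correspondence predicate
-/

set_option autoImplicit false
set_option linter.style.haveILetI false
set_option linter.unusedSectionVars false

namespace Cfsg.Agent.Lib.helper3.GlP

open Cfsg Cfsg.Agent.Lib.helper3.Irr Cfsg.Agent.Lib.helper3.CharBasic
open Cfsg.Agent.Lib.helper3.Glaub
open scoped ComplexConjugate

variable {Γ : Type*} [Group Γ]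

/-- Invariance of a function on a subgroup under conjugation by an element. -/
def InvUnder (N : Subgroup Γ) (χ : N → ℂ) (y : Γ) : Prop :=
  ∀ g g' : N, (g' : Γ) = y * g * y⁻¹ → χ g' = χ g

theorem invUnder_iff_smul [Finite Γ] (N : Subgroup Γ) (m : Subgroup.normalizer (N : Set Γ))
    (θ : IrrCharacter N) :
    letI := normAction N
    (m • θ = θ) ↔ InvUnder N (θ : N → ℂ) (m : Γ) := by
  letI := normAction N
  constructor
  · intro h g g' hgg'
    have h1 : ((m • θ : IrrCharacter N) : N → ℂ) g' = (θ : N → ℂ) g' := by rw [h]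
    rw [normAction_apply] at h1
    rw [← h1]
    apply congrArg (θ : N → ℂ)
    apply Subtype.ext
    rw [conjN_apply, hgg']
    push_cast
    group
  · intro h
    apply Subtype.ext
    funext n
    rw [normAction_apply]
    exact (h (conjN N m⁻¹ n) n (by
      rw [conjN_apply]
      push_cast
      group)).symm

/-- Conjugating both a character and a character of a smaller invariant subgroup preserves the
multiplicity. -/
theorem classInner_restrict_smul [Fintype Γ] (N N' : Subgroup Γ) [Fintype N] [Fintype N']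
    (hN'N : N' ≤ N) (y : Γ) (hy : y ∈ Subgroup.normalizer (N : Set Γ))
    (hy' : y ∈ Subgroup.normalizer (N' : Set Γ)) (χ : IrrCharacter N) (θ : IrrCharacter N') :
    letI := normAction N
    letI := normAction N'
    classInner (fun n : N' => (((⟨y, hy⟩ : Subgroup.normalizer (N : Set Γ)) • χ :
        IrrCharacter N) : N → ℂ) ⟨n, hN'N n.2⟩)
      ((((⟨y, hy'⟩ : Subgroup.normalizer (N' : Set Γ)) • θ : IrrCharacter N') : N' → ℂ))
      = classInner (fun n : N' => (χ : N → ℂ) ⟨n, hN'N n.2⟩) (θ : N' → ℂ) := by
  letI := normAction N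
  letI := normAction N'
  rw [← classInner_comp_mulEquiv (conjN N' (⟨y, hy'⟩ : Subgroup.normalizer (N' : Set Γ))⁻¹)
    (fun n : N' => (χ : N → ℂ) ⟨n, hN'N n.2⟩) (θ : N' → ℂ)]
  congr 1

/-- The conjugate of a character agrees with the character on elements centralised by the
conjugating element. -/
theorem smul_apply_of_commute [Finite Γ] (N : Subgroup Γ) (m : Subgroup.normalizer (N : Set Γ))
    (θ : IrrCharacter N) (n : N) (hn : (m : Γ) * n = n * m) :
    letI := normAction N
    ((m • θ : IrrCharacter N) : N → ℂ) n = (θ : N → ℂ) n := by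
  letI := normAction N
  rw [normAction_apply]
  apply congrArg (θ : N → ℂ)
  apply Subtype.ext
  rw [conjN_apply]
  push_cast
  have h1 : Commute (m : Γ) (n : Γ) := hn
  calc (m : Γ)⁻¹ * n * (m : Γ)⁻¹⁻¹ = (m : Γ)⁻¹ * ((n : Γ) * m) := by group
    _ = (m : Γ)⁻¹ * ((m : Γ) * n) := by rw [h1.eq]
    _ = n := by group

/-- Iterating the conjugation. -/
theorem smul_iterate' [Finite Γ] (N : Subgroup Γ) (m : Subgroup.normalizer (N : Set Γ)) (k : ℕ)
    (θ : IrrCharacter N) :
    letI := normAction N
    (fun ψ : IrrCharacter N => m • ψ)^[k] θ = (m ^ k) • θ := by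
  letI := normAction N
  induction k with
  | zero => simp
  | succ k ih =>
    rw [Function.iterate_succ_apply', ih, pow_succ', mul_smul]

/-- Invariance under a subgroup is inherited by conjugates under a normalising element. -/
theorem invUnder_smul [Finite Γ] (N T : Subgroup Γ) (m : Subgroup.normalizer (N : Set Γ))
    (hmT : ∀ t ∈ T, (m : Γ)⁻¹ * t * (m : Γ) ∈ T) (θ : IrrCharacter N)
    (hθ : ∀ t ∈ T, InvUnder N (θ : N → ℂ) t) :
    letI := normAction N
    ∀ t ∈ T, InvUnder N ((m • θ : IrrCharacter N) : N → ℂ) t := by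
  letI := normAction N
  intro t ht g g' hgg'
  rw [normAction_apply, normAction_apply]
  apply hθ ((m : Γ)⁻¹ * t * (m : Γ)) (hmT t ht)
  rw [conjN_apply, conjN_apply, hgg']
  push_cast
  group

end Cfsg.Agent.Lib.helper3.GlP
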