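import Mathlib
import Cfsg.Agent.Lib.helper3.GlP2

/-!
# Maximal subgroups of `p`-subgroups, and the correspondence predicate
-/

set_option autoImplicit false
set_option linter.style.haveILetI false
set_option linter.unusedSectionVars false

namespace Cfsg.Agent.Lib.helper3.GlP

open Cfsg Cfsg.Agent.Lib.helper3.Irr Cfsg.Agent.Lib.helper3.CharBasic
open scoped ComplexConjugate

variable {Γ : Type*} [Group Γ]

/-- A nontrivial finite `p`-subgroup has a normal subgroup of index `p`, and is generated by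
it together with one further element. -/
theorem exists_max_normal [Finite Γ] (p : ℕ) [hp : Fact p.Prime] (S : Subgroup Γ)
    (hS : IsPGroup p S) (hne : S ≠ ⊥) :
    ∃ T : Subgroup Γ, T ≤ S ∧ Nat.card T < Nat.card S ∧
      (∀ u ∈ S, ∀ t ∈ T, u⁻¹ * t * u ∈ T) ∧ ∃ s ∈ S, T ⊔ Subgroup.zpowers s = S := by
  obtain ⟨k, hk⟩ := IsPGroup.iff_card.mp hS
  have hk0 : k ≠ 0 := by
    intro h0
    rw [h0, pow_zero] at hk
    exact hne (Subgroup.eq_bot_of_card_eq S hk)
  obtain ⟨k', rfl⟩ : ∃ k', k = k' + 1 := ⟨k - 1, by omega⟩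
  obtain ⟨T₀, hT₀⟩ := Sylow.exists_subgroup_card_pow_prime (G := S) p (n := k')
    (by rw [hk]; exact pow_dvd_pow p (Nat.le_succ k'))
  have hidx : T₀.index = p := by
    have h1 := T₀.card_mul_index
    rw [hT₀, hk, pow_succ] at h1
    exact Nat.eq_of_mul_eq_mul_left (pow_pos hp.out.pos k') h1
  haveI hT₀n : T₀.Normal := by
    apply Subgroup.normal_of_index_eq_minFac_card
    rw [hidx, hk, hp.out.pow_minFac (Nat.succ_ne_zero k')]
  have hcardT : Nat.card (T₀.map S.subtype) = p ^ k' := by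
    rw [Nat.card_congr (T₀.equivMapOfInjective S.subtype S.subtype_injective).symm.toEquiv, hT₀]
  have hTS : T₀.map S.subtype ≤ S := by
    rintro _ ⟨y, -, rfl⟩
    exact y.2
  have hlt : p ^ k' < p ^ (k' + 1) := Nat.pow_lt_pow_right hp.out.one_lt (Nat.lt_succ_self k')
  refine ⟨T₀.map S.subtype, hTS, by rw [hcardT, hk]; exact hlt, ?_, ?_⟩
  · rintro u hu _ ⟨t, ht, rfl⟩
    refine ⟨(⟨u, hu⟩ : S)⁻¹ * t * ⟨u, hu⟩, ?_, rfl⟩
    have := hT₀n.conj_mem t ht (⟨u, hu⟩ : S)⁻¹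
    rwa [inv_inv] at this
  · -- an element outside
    have hex : ∃ s ∈ S, s ∉ T₀.map S.subtype := by
      by_contra hcon
      push Not at hcon
      have : S ≤ T₀.map S.subtype := hcon
      have hle := Nat.card_le_card_of_injective _ (Subgroup.inclusion_injective this)
      rw [hcardT, hk] at hle
      omega
    obtain ⟨s, hs, hsT⟩ := hex
    refine ⟨s, hs, ?_⟩
    have hUS : T₀.map S.subtype ⊔ Subgroup.zpowers s ≤ S :=
      sup_le hTS ((Subgroup.zpowers_le).mpr hs)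
    have hU : IsPGroup p (T₀.map S.subtype ⊔ Subgroup.zpowers s : Subgroup Γ) := hS.to_le hUS
    obtain ⟨i, hi⟩ := IsPGroup.iff_card.mp hU
    have hTU : T₀.map S.subtype ≤ T₀.map S.subtype ⊔ Subgroup.zpowers s := le_sup_left
    have h1 : p ^ k' ≤ p ^ i := by
      rw [← hcardT, ← hi]
      exact Nat.card_le_card_of_injective _ (Subgroup.inclusion_injective hTU)
    have h2 : p ^ i ≤ p ^ (k' + 1) := by
      rw [← hk, ← hi]
      exact Nat.card_le_card_of_injective _ (Subgroup.inclusion_injective hUS)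
    have hi1 : k' ≤ i := (Nat.pow_le_pow_iff_right hp.out.one_lt).mp h1
    have hi2 : i ≤ k' + 1 := (Nat.pow_le_pow_iff_right hp.out.one_lt).mp h2
    have hik : i ≠ k' := by
      intro hik
      apply hsT
      have hcard : Nat.card (T₀.map S.subtype ⊔ Subgroup.zpowers s : Subgroup Γ)
          ≤ Nat.card (T₀.map S.subtype) := by rw [hi, hcardT, hik]
      have heq : T₀.map S.subtype = T₀.map S.subtype ⊔ Subgroup.zpowers s :=
        Subgroup.eq_of_le_of_card_ge hTU hcard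
      rw [heq]
      exact (le_sup_right : Subgroup.zpowers s ≤ _) (Subgroup.mem_zpowers s)
    have hik' : i = k' + 1 := by omega
    apply Subgroup.eq_of_le_of_card_ge hUS
    rw [hi, hk, hik']

/-- The correspondence predicate for `S` acting on `G` with fixed points `C`. -/
def Corr [Fintype Γ] (p : ℕ) (G S C : Subgroup Γ) [Fintype G] [Fintype C] (hCG : C ≤ G) : Prop :=
  (∀ χ : IrrCharacter G, (∀ s ∈ S, InvUnder G (χ : G → ℂ) s) →
      ∃ (β : IrrCharacter C) (ε : ℤ), (ε = 1 ∨ ε = -1) ∧ ∀ β' : IrrCharacter C, ∃ a : ℕ,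
        classInner (fun c : C => (χ : G → ℂ) ⟨c, hCG c.2⟩) (β' : C → ℂ) = a ∧
        (a : ℤ) ≡ (if β' = β then ε else 0) [ZMOD p]) ∧
  (∀ χ χ' : IrrCharacter G, (∀ s ∈ S, InvUnder G (χ : G → ℂ) s) →
      (∀ s ∈ S, InvUnder G (χ' : G → ℂ) s) → ∀ β : IrrCharacter C, ∀ m m' : ℕ,
        classInner (fun c : C => (χ : G → ℂ) ⟨c, hCG c.2⟩) (β : C → ℂ) = m → ¬ p ∣ m →
        classInner (fun c : C => (χ' : G → ℂ) ⟨c, hCG c.2⟩) (β : C → ℂ) = m' → ¬ p ∣ m' →
        χ = χ') ∧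
  (∀ β : IrrCharacter C, ∃ χ : IrrCharacter G, (∀ s ∈ S, InvUnder G (χ : G → ℂ) s) ∧
      ∃ m : ℕ, classInner (fun c : C => (χ : G → ℂ) ⟨c, hCG c.2⟩) (β : C → ℂ) = m ∧ ¬ p ∣ m)

/-- A number congruent to a sign is not divisible by `p`. -/
theorem not_dvd_of_modEq_sign (p : ℕ) (hp : p.Prime) (a : ℕ) (ε : ℤ) (hε : ε = 1 ∨ ε = -1)
    (h : (a : ℤ) ≡ ε [ZMOD p]) : ¬ p ∣ a := by
  intro hdvd
  have h0 : (a : ℤ) ≡ 0 [ZMOD p] := Int.modEq_zero_iff_dvd.mpr (by exact_mod_cast hdvd)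
  have h1 : (ε : ℤ) ≡ 0 [ZMOD p] := h.symm.trans h0
  have h2 : (p : ℤ) ∣ ε := Int.modEq_zero_iff_dvd.mp h1
  have hp2 : (2 : ℤ) ≤ p := by exact_mod_cast hp.two_le
  rcases hε with rfl | rfl
  · have := Int.le_of_dvd one_pos h2
    omega
  · have h3 : (p : ℤ) ∣ 1 := by
      have := (dvd_neg).mpr h2
      simpa using this
    have := Int.le_of_dvd one_pos h3
    omega

/-- A number congruent to zero is divisible by `p`. -/
theorem dvd_of_modEq_zero (p : ℕ) (a : ℕ) (h : (a : ℤ) ≡ 0 [ZMOD p]) : p ∣ a := by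
  have := Int.modEq_zero_iff_dvd.mp h
  exact_mod_cast this

/-- Uniqueness of the constituent with multiplicity prime to `p`. -/
theorem unique_of_congr [Fintype Γ] (p : ℕ) (C : Subgroup Γ) [Fintype C] (φ : C → ℂ)
    (β : IrrCharacter C) (ε : ℤ)
    (hall : ∀ β' : IrrCharacter C, ∃ a : ℕ, classInner φ (β' : C → ℂ) = a ∧
      (a : ℤ) ≡ (if β' = β then ε else 0) [ZMOD p])
    (β' : IrrCharacter C) (m : ℕ) (hm : classInner φ (β' : C → ℂ) = m) (hpm : ¬ p ∣ m) :
    β' = β := by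
  by_contra hne
  obtain ⟨a, ha1, ha2⟩ := hall β'
  rw [if_neg hne] at ha2
  rw [hm] at ha1
  have : m = a := by exact_mod_cast ha1
  apply hpm
  rw [this]
  exact dvd_of_modEq_zero p a ha2

end Cfsg.Agent.Lib.helper3.GlP
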