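import Mathlib
import Cfsg.Agent.Lib.helper3.GlP3

/-!
# The correspondence for `p`-groups of operators: the inductive step
-/

set_option autoImplicit false
set_option linter.style.haveILetI false
set_option linter.unusedSectionVars false
set_option maxHeartbeats 1600000

namespace Cfsg.Agent.Lib.helper3.GlP

open Cfsg Cfsg.Agent.Lib.helper3.Irr Cfsg.Agent.Lib.helper3.CharBasic
open Cfsg.Agent.Lib.helper3.Glaub
open scoped ComplexConjugate

variable {Γ : Type*} [Group Γ]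

/-- Invariance under a subgroup and a further element gives invariance under the subgroup they
generate. -/
theorem invUnder_of_gen (G T : Subgroup Γ) (s : Γ) (hT : T ≤ Subgroup.normalizer (G : Set Γ))
    (hs : s ∈ Subgroup.normalizer (G : Set Γ)) (χ : G → ℂ) (hχT : ∀ t ∈ T, InvUnder G χ t)
    (hχs : InvUnder G χ s) : ∀ u ∈ T ⊔ Subgroup.zpowers s, InvUnder G χ u := by
  let H : Subgroup Γ :=
    { carrier := {y | y ∈ Subgroup.normalizer (G : Set Γ) ∧ InvUnder G χ y}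
      one_mem' := by
        refine ⟨Subgroup.one_mem _, ?_⟩
        intro g g' h
        have : g' = g := by
          apply Subtype.ext
          rw [h]
          simp
        rw [this]
      mul_mem' := by
        rintro y₁ y₂ ⟨hy₁, hi₁⟩ ⟨hy₂, hi₂⟩
        refine ⟨Subgroup.mul_mem _ hy₁ hy₂, ?_⟩
        intro g g' h
        have hmem : y₂ * (g : Γ) * y₂⁻¹ ∈ G := (Subgroup.mem_normalizer_iff.mp hy₂ _).mp g.2
        rw [hi₁ ⟨_, hmem⟩ g' (by rw [h]; simp only; group), hi₂ g ⟨_, hmem⟩ rfl]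
      inv_mem' := by
        rintro y ⟨hy, hi⟩
        refine ⟨Subgroup.inv_mem _ hy, ?_⟩
        intro g g' h
        exact (hi g' g (by rw [h]; group)).symm }
  have hTH : T ≤ H := fun t ht => ⟨hT ht, hχT t ht⟩
  have hsH : Subgroup.zpowers s ≤ H := (Subgroup.zpowers_le).mpr ⟨hs, hχs⟩
  intro u hu
  exact ((sup_le hTH hsH) hu).2

variable [Fintype Γ]

/-- The inductive step. -/
theorem corr_step (p : ℕ) [hp : Fact p.Prime] (S : Subgroup Γ) (hS : IsPGroup p S)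
    (hne : S ≠ ⊥)
    (IH : ∀ T : Subgroup Γ, Nat.card T < Nat.card S → IsPGroup p T →
      ∀ (G : Subgroup Γ) [Fintype G], T ≤ Subgroup.normalizer (G : Set Γ) →
        (Nat.card G).Coprime (Nat.card T) → ∀ (C : Subgroup Γ) [Fintype C],
        C = G ⊓ Subgroup.centralizer (T : Set Γ) → ∀ hCG : C ≤ G, Corr p G T C hCG)
    (G : Subgroup Γ) [Fintype G] (hnorm : S ≤ Subgroup.normalizer (G : Set Γ))
    (hcop : (Nat.card G).Coprime (Nat.card S)) (C : Subgroup Γ) [Fintype C]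
    (hC : C = G ⊓ Subgroup.centralizer (S : Set Γ)) (hCG : C ≤ G) : Corr p G S C hCG := by
  classical
  obtain ⟨T, hTS, hTlt, hTn, s, hsS, hgen⟩ := exists_max_normal p S hS hne
  obtain ⟨B, hBdef⟩ : ∃ B : Subgroup Γ, B = G ⊓ Subgroup.centralizer (T : Set Γ) := ⟨_, rfl⟩
  letI : Fintype B := Fintype.ofFinite B
  have hBG : B ≤ G := hBdef ▸ inf_le_left
  have hCB : C ≤ B := by
    rw [hC, hBdef]
    exact inf_le_inf_left G (Subgroup.centralizer_le hTS)
  have hIH := IH T hTlt (hS.to_le hTS) G (hTS.trans hnorm)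
    (Nat.Coprime.coprime_dvd_right (Subgroup.card_dvd_of_le hTS) hcop) B hBdef hBG
  have hsG : s ∈ Subgroup.normalizer (G : Set Γ) := hnorm hsS
  -- `S` normalises `B`
  have hSB : ∀ u ∈ S, ∀ b ∈ B, u * b * u⁻¹ ∈ B := by
    intro u hu b hb
    rw [hBdef] at hb ⊢
    obtain ⟨hbG, hbT⟩ := Subgroup.mem_inf.mp hb
    refine Subgroup.mem_inf.mpr ⟨(Subgroup.mem_normalizer_iff.mp (hnorm hu) b).mp hbG, ?_⟩
    rw [Subgroup.mem_centralizer_iff] at hbT ⊢
    intro t ht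
    have h1 := hbT (u⁻¹ * t * u) (hTn u hu t ht)
    calc t * (u * b * u⁻¹) = u * ((u⁻¹ * t * u) * b) * u⁻¹ := by group
      _ = u * (b * (u⁻¹ * t * u)) * u⁻¹ := by rw [h1]
      _ = u * b * u⁻¹ * t := by group
  have hsB : s ∈ Subgroup.normalizer (B : Set Γ) := by
    rw [Subgroup.mem_normalizer_iff]
    intro b
    constructor
    · exact hSB s hsS b
    · intro hb
      have := hSB s⁻¹ (S.inv_mem hsS) _ hb
      have h2 : s⁻¹ * (s * b * s⁻¹) * s⁻¹⁻¹ = b := by group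
      rwa [h2] at this
  -- the order of `s`
  obtain ⟨j, hj⟩ : ∃ j, orderOf s = p ^ j := by
    obtain ⟨k, hk⟩ := hS ⟨s, hsS⟩
    have hk' : s ^ p ^ k = 1 := by
      have := congrArg Subtype.val hk
      simpa using this
    obtain ⟨j, -, hj⟩ := (Nat.dvd_prime_pow hp.out).mp (orderOf_dvd_of_pow_eq_one hk')
    exact ⟨j, hj⟩
  have hcopB : (Nat.card B).Coprime (orderOf s) := by
    have h1 : orderOf s ∣ Nat.card S := by
      have : orderOf (⟨s, hsS⟩ : S) = orderOf s := Subgroup.orderOf_mk s hsS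
      rw [← this]
      exact orderOf_dvd_natCard _
    exact Nat.Coprime.coprime_dvd_left (Subgroup.card_dvd_of_le hBG)
      (Nat.Coprime.coprime_dvd_right h1 hcop)
  have hC2 : C = B ⊓ Subgroup.centralizer ({s} : Set Γ) := by
    ext g
    rw [hC, hBdef, Subgroup.mem_inf, Subgroup.mem_inf, Subgroup.mem_inf]
    constructor
    · rintro ⟨hgG, hgS⟩
      refine ⟨⟨hgG, Subgroup.centralizer_le hTS hgS⟩, ?_⟩
      exact Subgroup.centralizer_le (Set.singleton_subset_iff.mpr hsS) hgS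
    · rintro ⟨⟨hgG, hgT⟩, hgs⟩
      refine ⟨hgG, ?_⟩
      rw [Subgroup.mem_centralizer_iff]
      intro u hu
      have hTle : T ≤ Subgroup.centralizer ({g} : Set Γ) := by
        intro t ht
        rw [Subgroup.mem_centralizer_iff]
        intro y hy
        rw [Set.mem_singleton_iff] at hy
        subst hy
        exact ((Subgroup.mem_centralizer_iff.mp hgT) t ht).symm
      have hsle : Subgroup.zpowers s ≤ Subgroup.centralizer ({g} : Set Γ) := by
        rw [Subgroup.zpowers_le, Subgroup.mem_centralizer_iff]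
        intro y hy
        rw [Set.mem_singleton_iff] at hy
        subst hy
        exact ((Subgroup.mem_centralizer_iff.mp hgs) s rfl).symm
      have huc : u ∈ Subgroup.centralizer ({g} : Set Γ) := by
        have : u ∈ T ⊔ Subgroup.zpowers s := hgen ▸ hu
        exact (sup_le hTle hsle) this
      exact ((Subgroup.mem_centralizer_iff.mp huc) g rfl).symm
  obtain ⟨hA2, hB2, hC2'⟩ := Cfsg.Agent.Lib.helper3.GlSub.cycP B s hsB p hp.out j hj hcopB C hC2 hCB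
  obtain ⟨hA1, hB1, hC1⟩ := hIH
  letI actG := normAction G
  letI actB := normAction B
  obtain ⟨sG, hsGdef⟩ : ∃ sG : Subgroup.normalizer (G : Set Γ), sG = ⟨s, hsG⟩ := ⟨_, rfl⟩
  obtain ⟨sB, hsBdef⟩ : ∃ sB : Subgroup.normalizer (B : Set Γ), sB = ⟨s, hsB⟩ := ⟨_, rfl⟩
  have hsGval : (sG : Γ) = s := by rw [hsGdef]
  have hsBval : (sB : Γ) = s := by rw [hsBdef]
  -- conjugation and multiplicities
  have hconj : ∀ (χ : IrrCharacter G) (ψ' : IrrCharacter B),
      classInner (fun b : B => ((sG • χ : IrrCharacter G) : G → ℂ) ⟨b, hBG b.2⟩)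
        ((sB • ψ' : IrrCharacter B) : B → ℂ)
      = classInner (fun b : B => (χ : G → ℂ) ⟨b, hBG b.2⟩) (ψ' : B → ℂ) := by
    intro χ ψ'
    rw [hsGdef, hsBdef]
    exact classInner_restrict_smul G B hBG s hsG hsB χ ψ'
  -- the restriction to `C` of a conjugate
  have hresC : ∀ ψ' : IrrCharacter B,
      (fun c : C => ((sB • ψ' : IrrCharacter B) : B → ℂ) ⟨c, hCB c.2⟩)
        = fun c : C => (ψ' : B → ℂ) ⟨c, hCB c.2⟩ := by
    intro ψ'
    funext c
    apply smul_apply_of_commute B sB ψ' ⟨c, hCB c.2⟩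
    rw [hsBval]
    have hcS : (c : Γ) ∈ Subgroup.centralizer (S : Set Γ) :=
      (Subgroup.mem_inf.mp (hC.le c.2)).2
    exact (Subgroup.mem_centralizer_iff.mp hcS) s hsS
  have hiter : ∀ ψ' : IrrCharacter B, (fun ψ : IrrCharacter B => sB • ψ)^[p ^ j] ψ' = ψ' := by
    intro ψ'
    rw [smul_iterate']
    have : sB ^ p ^ j = 1 := by
      apply Subtype.ext
      rw [Subgroup.coe_pow, hsBval, ← hj, pow_orderOf_eq_one]
      rfl
    rw [this, one_smul]
  -- the strengthened form of the first part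
  have hAplus : ∀ χ : IrrCharacter G, (∀ u ∈ S, InvUnder G (χ : G → ℂ) u) →
      ∃ (ψ : IrrCharacter B) (β : IrrCharacter C) (ε : ℤ), (ε = 1 ∨ ε = -1) ∧
        InvUnder B (ψ : B → ℂ) s ∧
        (∃ m : ℕ, classInner (fun b : B => (χ : G → ℂ) ⟨b, hBG b.2⟩) (ψ : B → ℂ) = m ∧
          ¬ p ∣ m) ∧
        (∃ m : ℕ, classInner (fun c : C => (ψ : B → ℂ) ⟨c, hCB c.2⟩) (β : C → ℂ) = m ∧
          ¬ p ∣ m) ∧
        ∀ β' : IrrCharacter C, ∃ a : ℕ,
          classInner (fun c : C => (χ : G → ℂ) ⟨c, hCG c.2⟩) (β' : C → ℂ) = a ∧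
          (a : ℤ) ≡ (if β' = β then ε else 0) [ZMOD p] := by
    intro χ hχS
    have hχT : ∀ t ∈ T, InvUnder G (χ : G → ℂ) t := fun t ht => hχS t (hTS ht)
    obtain ⟨ψ, ε₁, hε₁, hall₁⟩ := hA1 χ hχT
    have hsχ : sG • χ = χ := (invUnder_iff_smul G sG χ).mpr (by rw [hsGval]; exact hχS s hsS)
    have hconjB : ∀ ψ' : IrrCharacter B,
        classInner (fun b : B => (χ : G → ℂ) ⟨b, hBG b.2⟩) ((sB • ψ' : IrrCharacter B) : B → ℂ)
        = classInner (fun b : B => (χ : G → ℂ) ⟨b, hBG b.2⟩) (ψ' : B → ℂ) := by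
      intro ψ'
      have := hconj χ ψ'
      rw [hsχ] at this
      exact this
    obtain ⟨a₀, ha₀, ha₀c⟩ := hall₁ ψ
    rw [if_pos rfl] at ha₀c
    have hpa₀ : ¬ p ∣ a₀ := not_dvd_of_modEq_sign p hp.out a₀ ε₁ hε₁ ha₀c
    have hψs : sB • ψ = ψ :=
      unique_of_congr p B _ ψ ε₁ hall₁ (sB • ψ) a₀ (by rw [hconjB, ha₀]) hpa₀
    have hψinv : InvUnder B (ψ : B → ℂ) s := by
      have := (invUnder_iff_smul B sB ψ).mp hψs
      rwa [hsBval] at this
    obtain ⟨β, ε₂, hε₂, hall₂⟩ := hA2 ψ hψinv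
    obtain ⟨b₀, hb₀, hb₀c⟩ := hall₂ β
    rw [if_pos rfl] at hb₀c
    have hε : ε₁ * ε₂ = 1 ∨ ε₁ * ε₂ = -1 := by
      rcases hε₁ with rfl | rfl <;> rcases hε₂ with rfl | rfl <;> simp
    refine ⟨ψ, β, ε₁ * ε₂, hε, hψinv, ⟨a₀, ha₀, hpa₀⟩,
      ⟨b₀, hb₀, not_dvd_of_modEq_sign p hp.out b₀ ε₂ hε₂ hb₀c⟩, ?_⟩
    intro β'
    choose a₁ ha₁ ha₁c using hall₁
    have hψ'C : ∀ ψ' : IrrCharacter B, ∃ n : ℕ,
        classInner (fun c : C => (ψ' : B → ℂ) ⟨c, hCB c.2⟩) (β' : C → ℂ) = n := fun ψ' =>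
      exists_nat_classInner_of_isCharacter
        (isCharacter_comp (isCharacter_of_isIrrCharacter ψ'.2) (Subgroup.inclusion hCB)) β'
    choose b hb using hψ'C
    have hstage := classInner_restrict_stages G B C hCB hBG (χ : G → ℂ)
      (isCharacter_of_isIrrCharacter χ.2) (β' : C → ℂ)
    refine ⟨∑ ψ' : IrrCharacter B, a₁ ψ' * b ψ', ?_, ?_⟩
    · rw [hstage]
      push_cast
      apply Finset.sum_congr rfl
      intro ψ' _
      rw [ha₁, hb]
    · have hf : ∀ ψ' : IrrCharacter B,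
          a₁ (sB • ψ') * b (sB • ψ') = a₁ ψ' * b ψ' := by
        intro ψ'
        have h1 : a₁ (sB • ψ') = a₁ ψ' := by
          have := (ha₁ (sB • ψ')).symm.trans ((hconjB ψ').trans (ha₁ ψ'))
          exact_mod_cast this
        have h2 : b (sB • ψ') = b ψ' := by
          have h3 := hb (sB • ψ')
          rw [hresC ψ', hb ψ'] at h3
          exact_mod_cast h3.symm
        rw [h1, h2]
      have hmod := sum_modEq_sum_fixed p (fun ψ' : IrrCharacter B => sB • ψ') j hiter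
        (fun ψ' => a₁ ψ' * b ψ') hf
      have hψmem : ψ ∈ Finset.univ.filter (fun ψ' : IrrCharacter B => sB • ψ' = ψ') :=
        Finset.mem_filter.mpr ⟨Finset.mem_univ _, hψs⟩
      have hrest : p ∣ ∑ ψ' ∈ (Finset.univ.filter
          (fun ψ' : IrrCharacter B => sB • ψ' = ψ')).erase ψ, a₁ ψ' * b ψ' := by
        apply Finset.dvd_sum
        intro ψ' hψ'
        apply dvd_mul_of_dvd_left
        apply dvd_of_modEq_zero
        have := ha₁c ψ'
        rwa [if_neg (Finset.ne_of_mem_erase hψ')] at this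
      have hfix : ∑ ψ' ∈ Finset.univ.filter (fun ψ' : IrrCharacter B => sB • ψ' = ψ'),
          a₁ ψ' * b ψ' ≡ a₁ ψ * b ψ [MOD p] := by
        rw [← Finset.add_sum_erase _ _ hψmem]
        obtain ⟨r, hr⟩ := hrest
        rw [hr]
        exact Nat.ModEq.symm (Nat.modEq_iff_dvd' (Nat.le_add_right _ _) |>.mpr (by simp))
      have htot : ((∑ ψ' : IrrCharacter B, a₁ ψ' * b ψ' : ℕ) : ℤ)
          ≡ ((a₁ ψ * b ψ : ℕ) : ℤ) [ZMOD p] :=
        Int.natCast_modEq_iff.mpr (hmod.trans hfix)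
      refine htot.trans ?_
      push_cast
      -- the two factors
      have hfa : (a₁ ψ : ℤ) ≡ ε₁ [ZMOD p] := by
        have := ha₁c ψ
        rwa [if_pos rfl] at this
      have hfb : (b ψ : ℤ) ≡ (if β' = β then ε₂ else 0) [ZMOD p] := by
        obtain ⟨a', ha'1, ha'2⟩ := hall₂ β'
        have : b ψ = a' := by
          have := (hb ψ).symm.trans ha'1
          exact_mod_cast this
        rw [this]
        exact ha'2
      have := hfa.mul hfb
      by_cases hβ : β' = β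
      · rw [if_pos hβ] at this ⊢
        exact this
      · rw [if_neg hβ] at this ⊢
        rwa [mul_zero] at this
  refine ⟨?_, ?_, ?_⟩
  · intro χ hχS
    obtain ⟨ψ, β, ε, hε, -, -, -, hall⟩ := hAplus χ hχS
    exact ⟨β, ε, hε, hall⟩
  · intro χ χ' hχS hχ'S β m m' hm hpm hm' hpm'
    obtain ⟨ψ, β₁, ε, hε, hψinv, ⟨m₁, hm₁, hpm₁⟩, ⟨m₂, hm₂, hpm₂⟩, hall⟩ := hAplus χ hχS
    obtain ⟨ψ', β₁', ε', hε', hψ'inv, ⟨m₁', hm₁', hpm₁'⟩, ⟨m₂', hm₂', hpm₂'⟩, hall'⟩ :=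
      hAplus χ' hχ'S
    have hβ : β = β₁ := unique_of_congr p C _ β₁ ε hall β m hm hpm
    have hβ' : β = β₁' := unique_of_congr p C _ β₁' ε' hall' β m' hm' hpm'
    rw [← hβ] at hm₂
    rw [← hβ'] at hm₂'
    have hψψ' : ψ = ψ' := hB2 ψ ψ' hψinv hψ'inv β m₂ m₂' hm₂ hpm₂ hm₂' hpm₂'
    rw [← hψψ'] at hm₁'
    exact hB1 χ χ' (fun t ht => hχS t (hTS ht)) (fun t ht => hχ'S t (hTS ht)) ψ m₁ m₁'
      hm₁ hpm₁ hm₁' hpm₁'
  · intro β
    obtain ⟨ψ, hψinv, m₂, hm₂, hpm₂⟩ := hC2' β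
    obtain ⟨χ, hχT, m₁, hm₁, hpm₁⟩ := hC1 ψ
    have hψs : sB • ψ = ψ := (invUnder_iff_smul B sB ψ).mpr (by rw [hsBval]; exact hψinv)
    -- `χ` is fixed by `s`
    have hχ'T : ∀ t ∈ T, InvUnder G ((sG • χ : IrrCharacter G) : G → ℂ) t := by
      apply invUnder_smul G T sG _ χ hχT
      intro t ht
      rw [hsGval]
      exact hTn s hsS t ht
    have hm₁' : classInner (fun b : B => ((sG • χ : IrrCharacter G) : G → ℂ) ⟨b, hBG b.2⟩)
        (ψ : B → ℂ) = m₁ := by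
      have := hconj χ ψ
      rw [hψs] at this
      rw [this, hm₁]
    have hsχ : sG • χ = χ := hB1 (sG • χ) χ hχ'T hχT ψ m₁ m₁ hm₁' hpm₁ hm₁ hpm₁
    have hχs : InvUnder G (χ : G → ℂ) s := by
      have := (invUnder_iff_smul G sG χ).mp hsχ
      rwa [hsGval] at this
    have hχS : ∀ u ∈ S, InvUnder G (χ : G → ℂ) u := by
      intro u hu
      exact invUnder_of_gen G T s (hTS.trans hnorm) hsG (χ : G → ℂ) hχT hχs u (hgen ▸ hu)
    refine ⟨χ, hχS, ?_⟩
    obtain ⟨ψ₁, β₁, ε, hε, hψ₁inv, ⟨n₁, hn₁, hpn₁⟩, ⟨n₂, hn₂, hpn₂⟩, hall⟩ := hAplus χ hχS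
    have hψψ₁ : ψ₁ = ψ := by
      obtain ⟨ψ₀, ε₀, hε₀, hall₀⟩ := hA1 χ hχT
      have e1 := unique_of_congr p B _ ψ₀ ε₀ hall₀ ψ₁ n₁ hn₁ hpn₁
      have e2 := unique_of_congr p B _ ψ₀ ε₀ hall₀ ψ m₁ hm₁ hpm₁
      rw [e1, e2]
    rw [hψψ₁] at hn₂
    have hββ₁ : β = β₁ := by
      obtain ⟨β₀, ε₀, hε₀, hall₀⟩ := hA2 ψ hψinv
      have e1 := unique_of_congr p C _ β₀ ε₀ hall₀ β m₂ hm₂ hpm₂
      have e2 := unique_of_congr p C _ β₀ ε₀ hall₀ β₁ n₂ hn₂ hpn₂
      rw [e1, e2]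
    obtain ⟨a, ha1, ha2⟩ := hall β
    rw [if_pos hββ₁] at ha2
    exact ⟨a, ha1, not_dvd_of_modEq_sign p hp.out a ε hε ha2⟩

end Cfsg.Agent.Lib.helper3.GlP
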