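import Mathlib
import Cfsg.Agent.Lib.helper3.GlP4

/-!
# The correspondence for `p`-groups of operators
-/

set_option autoImplicit false
set_option linter.style.haveILetI false
set_option linter.unusedSectionVars false

namespace Cfsg.Agent.Lib.helper3.GlP

open Cfsg Cfsg.Agent.Lib.helper3.Irr Cfsg.Agent.Lib.helper3.CharBasic
open scoped ComplexConjugate

variable {Γ : Type*} [Group Γ] [Fintype Γ]

theorem invUnder_one (G : Subgroup Γ) (χ : G → ℂ) : InvUnder G χ 1 := by
  intro g g' h
  have : g' = g := by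
    apply Subtype.ext
    rw [h]
    simp
  rw [this]

/-- The trivial group of operators. -/
theorem corr_bot (p : ℕ) [hp : Fact p.Prime] (G : Subgroup Γ) [Fintype G] (C : Subgroup Γ)
    [Fintype C] (hC : C = G ⊓ Subgroup.centralizer ((⊥ : Subgroup Γ) : Set Γ)) (hCG : C ≤ G) :
    Corr p G ⊥ C hCG := by
  have hC' : C = G ⊓ Subgroup.centralizer ({1} : Set Γ) := by
    rw [hC, Subgroup.coe_bot]
  obtain ⟨hA, hB, hC3⟩ := Cfsg.Agent.Lib.helper3.GlSub.cycP G (1 : Γ) (Subgroup.one_mem _) p
    hp.out 0 (by rw [orderOf_one, pow_zero]) (by rw [orderOf_one]; exact Nat.coprime_one_right _)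
    C hC' hCG
  refine ⟨?_, ?_, ?_⟩
  · intro χ _
    exact hA χ (invUnder_one G _)
  · intro χ χ' _ _
    exact hB χ χ' (invUnder_one G _) (invUnder_one G _)
  · intro β
    obtain ⟨χ, -, hm⟩ := hC3 β
    refine ⟨χ, ?_, hm⟩
    intro s hs
    rw [Subgroup.mem_bot] at hs
    rw [hs]
    exact invUnder_one G _

/-- The correspondence for a `p`-group of operators, by induction on its order. -/
theorem corr_all (p : ℕ) [hp : Fact p.Prime] : ∀ (n : ℕ) (S : Subgroup Γ), Nat.card S = n →
    IsPGroup p S → ∀ (G : Subgroup Γ) [Fintype G], S ≤ Subgroup.normalizer (G : Set Γ) →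
      (Nat.card G).Coprime (Nat.card S) → ∀ (C : Subgroup Γ) [Fintype C],
      C = G ⊓ Subgroup.centralizer (S : Set Γ) → ∀ hCG : C ≤ G, Corr p G S C hCG := by
  intro n
  induction n using Nat.strong_induction_on with
  | _ n ih =>
    intro S hn hS G _ hnorm hcop C _ hC hCG
    by_cases hbot : S = ⊥
    · subst hbot
      exact corr_bot p G C hC hCG
    · apply corr_step p S hS hbot _ G hnorm hcop C hC hCG
      intro T hTlt hT G' _ hnorm' hcop' C' _ hC' hC'G'
      exact ih (Nat.card T) (hn ▸ hTlt) T rfl hT G' hnorm' hcop' C' hC' hC'G'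

end Cfsg.Agent.Lib.helper3.GlP
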