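import Mathlib
import Cfsg.Prelude.Def_Characters
import Cfsg.Agent.Lib.helper3.GlP5

/-!
# Correspondence above a normal Sylow subgroup: common definitions

Ambient-group conventions: all groups are subgroups of one finite group `G`; restriction
between them is `res`; the inner product `ip` does not mention any `Fintype` instance.
-/

set_option autoImplicit false
set_option linter.style.haveILetI false
set_option linter.unusedSectionVars false

namespace Cfsg.Agent.Lib.helper3.GNS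

open Cfsg Cfsg.Agent.Lib.helper3.Irr Cfsg.Agent.Lib.helper3.CharBasic
open Cfsg.Agent.Lib.helper3.Glaub Cfsg.Agent.Lib.helper3.GlP
open scoped ComplexConjugate

variable {G : Type*} [Group G]

/-- The Hermitian inner product, written without any `Fintype` instance. -/
noncomputable def ip {A : Type*} [Group A] (φ ψ : A → ℂ) : ℂ :=
  (Nat.card A : ℂ)⁻¹ * ∑ᶠ a : A, φ a * (starRingEnd ℂ) (ψ a)

theorem ip_eq_classInner {A : Type*} [Group A] [Fintype A] (φ ψ : A → ℂ) :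
    ip φ ψ = classInner φ ψ := by
  unfold ip classInner
  rw [finsum_eq_sum_of_fintype]

/-- Restriction to a smaller subgroup of the ambient group. -/
def res {A B : Subgroup G} (h : B ≤ A) (χ : ↥A → ℂ) : ↥B → ℂ := fun b => χ ⟨b, h b.2⟩

theorem res_apply {A B : Subgroup G} (h : B ≤ A) (χ : ↥A → ℂ) (b : ↥B) :
    res h χ b = χ ⟨b, h b.2⟩ := rfl

theorem res_res {A B D : Subgroup G} (h : B ≤ A) (h' : D ≤ B) (χ : ↥A → ℂ) :
    res h' (res h χ) = res (h'.trans h) χ := rfl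

theorem res_mul {A B : Subgroup G} (h : B ≤ A) (χ ψ : ↥A → ℂ) :
    res h (χ * ψ) = res h χ * res h ψ := rfl

/-- Invariance under conjugation by the elements of `P`. -/
def PInv (P A : Subgroup G) (χ : ↥A → ℂ) : Prop := ∀ x ∈ P, InvUnder A χ x

/-- `Q` is in the kernel, phrased with values. -/
def KerGE (Q A : Subgroup G) (β : ↥A → ℂ) : Prop := ∀ a : ↥A, (a : G) ∈ Q → β a = β 1

/-- The inertia subgroup in `X` of a function on `Q`. -/
def inertia (X Q : Subgroup G) (θ : ↥Q → ℂ) : Subgroup G where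
  carrier := {g | g ∈ X ∧ g ∈ Subgroup.normalizer (Q : Set G) ∧ InvUnder Q θ g}
  one_mem' := by
    refine ⟨X.one_mem, Subgroup.one_mem _, ?_⟩
    intro q q' h
    have : q' = q := by
      apply Subtype.ext
      rw [h]
      simp
    rw [this]
  mul_mem' := by
    rintro a b ⟨ha, han, hai⟩ ⟨hb, hbn, hbi⟩
    refine ⟨X.mul_mem ha hb, Subgroup.mul_mem _ han hbn, ?_⟩
    intro q q' h
    have hq'' : b * (q : G) * b⁻¹ ∈ Q := (Subgroup.mem_normalizer_iff.mp hbn (q : G)).mp q.2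
    have h1 := hbi q ⟨b * (q : G) * b⁻¹, hq''⟩ rfl
    have h2 := hai ⟨b * (q : G) * b⁻¹, hq''⟩ q' (by
      rw [h]
      simp only
      group)
    rw [h2, h1]
  inv_mem' := by
    rintro a ⟨ha, han, hai⟩
    refine ⟨X.inv_mem ha, Subgroup.inv_mem _ han, ?_⟩
    intro q q' h
    have := hai q' q (by
      rw [h]
      group)
    exact this.symm

theorem mem_inertia {X Q : Subgroup G} {θ : ↥Q → ℂ} {g : G} :
    g ∈ inertia X Q θ ↔ g ∈ X ∧ g ∈ Subgroup.normalizer (Q : Set G) ∧ InvUnder Q θ g := Iff.rfl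

theorem inertia_le (X Q : Subgroup G) (θ : ↥Q → ℂ) : inertia X Q θ ≤ X := fun _ h => h.1

theorem inertia_le_normalizer (X Q : Subgroup G) (θ : ↥Q → ℂ) :
    inertia X Q θ ≤ Subgroup.normalizer (Q : Set G) := fun _ h => h.2.1

theorem inertia_inf (X Y Q : Subgroup G) (hYX : Y ≤ X) (θ : ↥Q → ℂ) :
    inertia Y Q θ = inertia X Q θ ⊓ Y := by
  ext g
  rw [Subgroup.mem_inf, mem_inertia, mem_inertia]
  constructor
  · rintro ⟨h1, h2, h3⟩
    exact ⟨⟨hYX h1, h2, h3⟩, h1⟩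
  · rintro ⟨⟨_, h2, h3⟩, h1⟩
    exact ⟨h1, h2, h3⟩

/-- A class function on `Q` is fixed by `Q`. -/
theorem le_inertia {X Q : Subgroup G} (hQX : Q ≤ X) {θ : ↥Q → ℂ} (hθ : IsClassFunction ↥Q θ) :
    Q ≤ inertia X Q θ := by
  intro g hg
  refine ⟨hQX hg, Subgroup.le_normalizer hg, ?_⟩
  intro q q' h
  have : q' = (⟨g, hg⟩ : ↥Q) * q * (⟨g, hg⟩ : ↥Q)⁻¹ := by
    apply Subtype.ext
    rw [h]
    simp
  rw [this]
  exact hθ q ⟨g, hg⟩

/-- The standing hypotheses. -/
structure Hyp (p : ℕ) (P K Q C : Subgroup G) : Prop where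
  hP : IsPGroup p ↥P
  hPK : P ≤ Subgroup.normalizer (K : Set G)
  hQK : Q ≤ K
  hKQ : K ≤ Subgroup.normalizer (Q : Set G)
  hPQ : P ≤ Subgroup.normalizer (Q : Set G)
  hQp : IsPGroup p ↥Q
  hQsyl : ¬ p ∣ Q.relIndex K
  hCK : C ≤ K
  hQC : Q ≤ C
  hC : ∀ k : G, k ∈ C ↔ (k ∈ K ∧ ∀ x ∈ P, x * k * x⁻¹ * k⁻¹ ∈ Q)

end Cfsg.Agent.Lib.helper3.GNS
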