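import Mathlib
import Cfsg.Prelude.Def_Blocks
import Cfsg.Prelude.Def_BrauerPairs
import Cfsg.Agent.Lib.helper3.IrrCongr
import Cfsg.Agent.Lib.helper3.AutBlock2

set_option autoImplicit false
set_option linter.style.haveILetI false
set_option linter.unusedSectionVars false

/-!
# Transport of a block of a subgroup `K` to `K` inside an intermediate subgroup `X`
-/

namespace Cfsg.Agent.Lib.helper3.Block

open Cfsg Module Cfsg.Agent.Lib.helper3.CharBasic Cfsg.Agent.Lib.helper3.Irr
open Cfsg.Agent.Lib.helper3.Central Cfsg.Agent.Lib.helper3.LocalM Cfsg.Agent.Lib.helper3.IndFun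
open scoped ComplexConjugate

universe u

variable {G : Type u} [Group G] [Fintype G] {M : Ideal AlgInt}

open Classical in
/-- Transport of the idempotent coefficients to an intermediate subgroup. -/
theorem subgroupBlockCoeff_subgroupOf (K X : Subgroup G) (hKX : K ≤ X) [Fintype K]
    [Fintype (K.subgroupOf X)] (e : Set (IrrCharacter K)) (x : X) :
    subgroupBlockCoeff (K.subgroupOf X)
        (irrCongr (Subgroup.subgroupOfEquivOfLe hKX) '' e) x
      = subgroupBlockCoeff K e (x : G) := by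
  unfold subgroupBlockCoeff
  by_cases hx : x ∈ K.subgroupOf X
  · rw [dif_pos hx, dif_pos (Subgroup.mem_subgroupOf.mp hx), blockCoeff_image_irrCongr]
    rfl
  · rw [dif_neg hx, dif_neg (fun h => hx (Subgroup.mem_subgroupOf.mpr h))]

open Classical in
/-- Transport of stabilization to an intermediate subgroup. -/
theorem stabilizesBlock_subgroupOf (K X : Subgroup G) (hKX : K ≤ X) [Fintype K]
    [Fintype (K.subgroupOf X)] (e : Set (IrrCharacter K)) (x : X)
    (hx : StabilizesBlock K e (x : G)) :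
    StabilizesBlock (K.subgroupOf X) (irrCongr (Subgroup.subgroupOfEquivOfLe hKX) '' e) x := by
  obtain ⟨hn, hc⟩ := hx
  refine ⟨?_, ?_⟩
  · rw [Subgroup.mem_normalizer_iff] at hn ⊢
    intro y
    rw [Subgroup.mem_subgroupOf, Subgroup.mem_subgroupOf]
    have := hn (y : G)
    simpa using this
  · rintro _ ⟨χ₀, hχ₀, rfl⟩
    obtain ⟨χ₀', hχ₀', hconj⟩ := hc χ₀ hχ₀
    refine ⟨irrCongr (Subgroup.subgroupOfEquivOfLe hKX) χ₀', ⟨χ₀', hχ₀', rfl⟩, ?_⟩
    intro k k' hk
    rw [irrCongr_apply, irrCongr_apply]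
    apply hconj
    have := congrArg Subtype.val hk
    simpa using this

/-- The index of `K` in `K ⊔ ⟨u⟩` is a power of `p` when `u` is a `p`-element normalizing `K`. -/
theorem index_subgroupOf_sup_zpowers {p : ℕ} [hp : Fact p.Prime] (K : Subgroup G) (u : G)
    (hu : u ∈ Subgroup.normalizer (K : Set G)) (k : ℕ) (huk : orderOf u = p ^ k) :
    ∃ j : ℕ, (K.subgroupOf (K ⊔ Subgroup.zpowers u)).index = p ^ j := by
  classical
  obtain ⟨X, hX⟩ : ∃ X : Subgroup G, X = K ⊔ Subgroup.zpowers u := ⟨_, rfl⟩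
  rw [← hX]
  have hKX : K ≤ X := by rw [hX]; exact le_sup_left
  have huX : u ∈ X := by
    rw [hX]
    exact (le_sup_right : Subgroup.zpowers u ≤ _) (Subgroup.mem_zpowers u)
  have hXN : X ≤ Subgroup.normalizer (K : Set G) := by
    rw [hX]
    apply sup_le Subgroup.le_normalizer
    rw [Subgroup.zpowers_le]
    exact hu
  haveI hn : (K.subgroupOf X).Normal := Subgroup.normal_subgroupOf_of_le_normalizer hXN
  obtain ⟨ū, hū⟩ : ∃ ū : X ⧸ K.subgroupOf X, ū = QuotientGroup.mk (⟨u, huX⟩ : X) := ⟨_, rfl⟩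
  -- every element of the quotient is a power of `ū`
  have hall : ∀ x : X, (QuotientGroup.mk x : X ⧸ K.subgroupOf X) ∈ Subgroup.zpowers ū := by
    obtain ⟨S, hS⟩ : ∃ S : Subgroup G, S = ((Subgroup.zpowers ū).comap
        (QuotientGroup.mk' (K.subgroupOf X))).map X.subtype := ⟨_, rfl⟩
    have hKS : K ≤ S := by
      intro c hc
      rw [hS]
      refine ⟨⟨c, hKX hc⟩, ?_, rfl⟩
      rw [SetLike.mem_coe, Subgroup.mem_comap]
      have : (QuotientGroup.mk' (K.subgroupOf X)) ⟨c, hKX hc⟩ = 1 := by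
        rw [QuotientGroup.mk'_apply, QuotientGroup.eq_one_iff, Subgroup.mem_subgroupOf]
        exact hc
      rw [this]
      exact Subgroup.one_mem _
    have huS : u ∈ S := by
      rw [hS]
      refine ⟨⟨u, huX⟩, ?_, rfl⟩
      rw [SetLike.mem_coe, Subgroup.mem_comap, QuotientGroup.mk'_apply, ← hū]
      exact Subgroup.mem_zpowers ū
    have hXS : X ≤ S := by
      rw [hX]
      apply sup_le hKS
      rw [Subgroup.zpowers_le]
      exact huS
    intro x
    have h1 := hXS x.2
    rw [hS] at h1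
    obtain ⟨y, hy, hyx⟩ := h1
    have : y = x := Subtype.ext hyx
    rw [this, SetLike.mem_coe, Subgroup.mem_comap] at hy
    exact hy
  have htop : Subgroup.zpowers ū = ⊤ := by
    rw [eq_top_iff]
    intro q _
    obtain ⟨x, rfl⟩ := QuotientGroup.mk_surjective q
    exact hall x
  have hcard : Nat.card (X ⧸ K.subgroupOf X) = orderOf ū := by
    rw [← Nat.card_zpowers, htop, Subgroup.card_top]
  have hdvd : orderOf ū ∣ p ^ k := by
    apply orderOf_dvd_of_pow_eq_one
    rw [hū, ← QuotientGroup.mk_pow]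
    have : (⟨u, huX⟩ : X) ^ (p ^ k) = 1 := by
      apply Subtype.ext
      show u ^ (p ^ k) = 1
      rw [← huk]
      exact pow_orderOf_eq_one u
    rw [this]
    rfl
  obtain ⟨j, -, hj⟩ := (Nat.dvd_prime_pow hp.out).mp hdvd
  refine ⟨j, ?_⟩
  rw [Subgroup.index_eq_card, hcard, hj]

end Cfsg.Agent.Lib.helper3.Block
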