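import Mathlib
import Cfsg.Prelude.Def_Characters
import Cfsg.Prelude.Def_Blocks
import Cfsg.Agent.S0887
import Cfsg.Agent.Lib.helper3.Inflate2
import Cfsg.Agent.Lib.helper3.BlockCover2
import Cfsg.Agent.Lib.helper3.RankOne2

set_option autoImplicit false
set_option linter.style.haveILetI false
set_option linter.unusedSectionVars false

/-!
# Characters of full `p`-part degree, composition with surjective homomorphisms
-/

namespace Cfsg.Agent.Lib.helper3.Block

open Cfsg Cfsg.Agent.Lib.helper3.LocalM Cfsg.Agent.Lib.helper3.CharBasic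
open Cfsg.Agent.Lib.helper3.Irr Cfsg.Agent.Lib.helper3.IndFun
open scoped ComplexConjugate

/-- Sums along a surjective homomorphism. -/
theorem sum_comp_surjective {C N : Type*} [Group C] [Fintype C] [Group N] [Fintype N]
    (φ : C →* N) (hφ : Function.Surjective φ) (F : N → ℂ) :
    ∑ c : C, F (φ c) = (Nat.card φ.ker : ℂ) * ∑ n : N, F n := by
  classical
  letI : Fintype (C ⧸ φ.ker) := Fintype.ofFinite _
  obtain ⟨e, he⟩ : ∃ e : C ⧸ φ.ker ≃* N, e = QuotientGroup.quotientKerEquivOfSurjective φ hφ :=
    ⟨_, rfl⟩
  have h1 : ∀ c : C, F (φ c) = (fun x : C ⧸ φ.ker => F (e x)) (c : C ⧸ φ.ker) := by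
    intro c
    rw [he]
    rfl
  rw [Finset.sum_congr rfl (fun c _ => h1 c), sum_comp_mk φ.ker (fun x : C ⧸ φ.ker => F (e x))]
  congr 1
  exact Equiv.sum_comp e.toEquiv F

theorem card_eq_card_ker_mul {C N : Type*} [Group C] [Fintype C] [Group N] [Fintype N]
    (φ : C →* N) (hφ : Function.Surjective φ) :
    Nat.card C = Nat.card φ.ker * Nat.card N := by
  have e := QuotientGroup.quotientKerEquivOfSurjective φ hφ
  rw [← Nat.card_congr e.toEquiv, ← Subgroup.index_eq_card, Subgroup.card_mul_index]

/-- Composition with a surjective homomorphism preserves the inner product. -/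
theorem classInner_comp_surjective {C N : Type*} [Group C] [Fintype C] [Group N] [Fintype N]
    (φ : C →* N) (hφ : Function.Surjective φ) (a b : N → ℂ) :
    classInner (fun c : C => a (φ c)) (fun c : C => b (φ c)) = classInner a b := by
  rw [classInner_apply, classInner_apply]
  have := sum_comp_surjective φ hφ (fun x => a x * conj (b x))
  beta_reduce at this
  rw [this, card_eq_card_ker_mul φ hφ]
  have hN0 : (Nat.card φ.ker : ℂ) ≠ 0 := card_ne_zero_complex _
  have hQ0 : (Nat.card N : ℂ) ≠ 0 := card_ne_zero_complex _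
  push_cast
  field_simp

/-- Composition with a surjective homomorphism preserves irreducibility. -/
theorem isIrrCharacter_comp_surjective {C N : Type*} [Group C] [Fintype C] [Group N] [Fintype N]
    (φ : C →* N) (hφ : Function.Surjective φ) {a : N → ℂ} (ha : IsIrrCharacter N a) :
    IsIrrCharacter C (fun c : C => a (φ c)) := by
  apply isIrrCharacter_of_classInner_self_eq_one
  · exact isCharacter_comp (isCharacter_of_isIrrCharacter ha) φ
  · rw [classInner_comp_surjective φ hφ, irr_classInner_self ha]

/-- If the idempotent of a set `e` of irreducible characters acts as the identity on the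
character `A`, all irreducible constituents of `A` lie in `e`. -/
theorem mem_of_sum_blockCoeff_mul {C : Type*} [Group C] [Fintype C] (e : Set (IrrCharacter C))
    (A : C → ℂ) (hA : IsCharacter C A) (h : ∑ c : C, blockCoeff e c * A c = A 1)
    (ξ : IrrCharacter C) (hξ : classInner A (ξ : C → ℂ) ≠ 0) : ξ ∈ e := by
  classical
  by_contra hne
  rw [sum_blockCoeff_mul] at h
  have h1 : A 1 = ∑ θ : IrrCharacter C, classInner A (θ : C → ℂ) * (θ : C → ℂ) 1 := by
    conv_lhs => rw [isCharacter_eq_sum_classInner hA]
    rw [Finset.sum_apply]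
    apply Finset.sum_congr rfl
    intro θ _
    rfl
  -- each multiplicity and each degree is a natural number
  choose m hm using fun θ : IrrCharacter C => exists_nat_classInner_of_isCharacter hA θ
  choose d hd using fun θ : IrrCharacter C => exists_pos_nat_apply_one θ.2
  have h2 : ∑ θ : IrrCharacter C, (if θ ∈ e then 0 else m θ * d θ) = 0 := by
    have h3 : (∑ θ : IrrCharacter C, (if θ ∈ e then m θ * d θ else 0) : ℕ)
        = ∑ θ : IrrCharacter C, m θ * d θ := by
      have : ((∑ θ : IrrCharacter C, (if θ ∈ e then m θ * d θ else 0) : ℕ) : ℂ)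
          = ((∑ θ : IrrCharacter C, m θ * d θ : ℕ) : ℂ) := by
        push_cast
        rw [h1] at h
        refine Eq.trans ?_ (h.trans ?_)
        · apply Finset.sum_congr rfl
          intro θ _
          rw [hm θ, (hd θ).2]
          by_cases hθ : θ ∈ e
          · rw [if_pos hθ, if_pos hθ]; push_cast; ring
          · rw [if_neg hθ, if_neg hθ]; ring
        · apply Finset.sum_congr rfl
          intro θ _
          rw [hm θ, (hd θ).2]
      exact_mod_cast this
    have h4 : ∀ θ : IrrCharacter C, m θ * d θ
        = (if θ ∈ e then m θ * d θ else 0) + (if θ ∈ e then 0 else m θ * d θ) := by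
      intro θ
      by_cases hθ : θ ∈ e
      · rw [if_pos hθ, if_pos hθ, add_zero]
      · rw [if_neg hθ, if_neg hθ, zero_add]
    rw [Finset.sum_congr rfl (fun θ _ => h4 θ), Finset.sum_add_distrib] at h3
    omega
  have h5 := (Finset.sum_eq_zero_iff.mp h2) ξ (Finset.mem_univ ξ)
  rw [if_neg hne] at h5
  rcases Nat.mul_eq_zero.mp h5 with h6 | h6
  · apply hξ
    rw [hm ξ, h6, Nat.cast_zero]
  · exact absurd h6 (hd ξ).1.ne'

end Cfsg.Agent.Lib.helper3.Block
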