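import Mathlib
import Cfsg.Prelude.Def_Characters
import Cfsg.Prelude.Def_Blocks
import Cfsg.Agent.Lib.helper3.Weight1
import Cfsg.Agent.Lib.helper3.ProdIrr
import Cfsg.Agent.Lib.helper3.CentralChar
import Cfsg.Agent.Lib.helper3.Irr12

set_option autoImplicit false
set_option linter.style.haveILetI false
set_option linter.unusedSectionVars false

/-!
# Characters of a group `G = P · C_G(P)`
-/

namespace Cfsg.Agent.Lib.helper3.Block

open Cfsg Cfsg.Agent.Lib.helper3.LocalM Cfsg.Agent.Lib.helper3.CharBasic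
open Cfsg.Agent.Lib.helper3.Irr Cfsg.Agent.Lib.helper3.IndFun Cfsg.Agent.Lib.helper3.Central
open scoped ComplexConjugate

universe u

variable {G : Type u} [Group G] [Fintype G]

/-- The multiplication map `P × C_G(P) → G`. -/
noncomputable def prodHom (P : Subgroup G) : P × ↥(Subgroup.centralizer (P : Set G)) →* G :=
  MonoidHom.noncommCoprod P.subtype (Subgroup.centralizer (P : Set G)).subtype
    (fun d c => ((Subgroup.mem_centralizer_iff.mp c.2) d d.2))

theorem prodHom_apply (P : Subgroup G) (x : P × ↥(Subgroup.centralizer (P : Set G))) :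
    prodHom P x = (x.1 : G) * (x.2 : G) := rfl

theorem prodHom_surjective (P : Subgroup G) (hG : P ⊔ Subgroup.centralizer (P : Set G) = ⊤) :
    Function.Surjective (prodHom P) := by
  intro g
  have h1 : P ≤ (prodHom P).range := fun u hu => ⟨(⟨u, hu⟩, 1), by rw [prodHom_apply]; simp⟩
  have h2 : Subgroup.centralizer (P : Set G) ≤ (prodHom P).range :=
    fun v hv => ⟨(1, ⟨v, hv⟩), by rw [prodHom_apply]; simp⟩
  have h3 := sup_le h1 h2
  rw [hG] at h3
  exact h3 (Subgroup.mem_top g)

theorem exists_mul_of_sup_eq_top (P : Subgroup G)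
    (hG : P ⊔ Subgroup.centralizer (P : Set G) = ⊤) (g : G) :
    ∃ (d : P) (c : ↥(Subgroup.centralizer (P : Set G))), g = (d : G) * (c : G) := by
  obtain ⟨x, hx⟩ := prodHom_surjective P hG g
  exact ⟨x.1, x.2, by rw [← hx, prodHom_apply]⟩

/-- Every irreducible character of `G = P · C_G(P)` is a product. -/
theorem exists_prod_decomp (P : Subgroup G) (hG : P ⊔ Subgroup.centralizer (P : Set G) = ⊤)
    (θ : IrrCharacter G) :
    ∃ (ζ : IrrCharacter P) (ψ : IrrCharacter ↥(Subgroup.centralizer (P : Set G))),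
      ∀ (d : P) (c : ↥(Subgroup.centralizer (P : Set G))),
        (θ : G → ℂ) ((d : G) * (c : G)) = (ζ : P → ℂ) d * (ψ : _ → ℂ) c := by
  classical
  letI : Fintype P := Fintype.ofFinite _
  letI : Fintype ↥(Subgroup.centralizer (P : Set G)) := Fintype.ofFinite _
  have hirr := isIrrCharacter_comp_surjective (prodHom P) (prodHom_surjective P hG) θ.2
  obtain ⟨φ₁, φ₂, hφ₁, hφ₂, hprod⟩ := exists_of_isIrrCharacter_prod hirr
  refine ⟨⟨φ₁, hφ₁⟩, ⟨φ₂, hφ₂⟩, ?_⟩
  intro d c
  have := congrFun hprod (d, c)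
  rw [prodHom_apply] at this
  exact this

/-- Central elements act by a linear character: the quotient `χ(n)/χ(1)`. -/
theorem isIrrCharacter_central_quot {X : Type*} [Group X] [Fintype X] (N : Subgroup X)
    [Fintype N] (hN : N ≤ Subgroup.center X) (χ : IrrCharacter X) :
    IsIrrCharacter N (fun n : N => (χ : X → ℂ) n / (χ : X → ℂ) 1)
      ∧ ∀ (g : X) (n : N), (χ : X → ℂ) (g * n)
          = ((χ : X → ℂ) n / (χ : X → ℂ) 1) * (χ : X → ℂ) g := by
  have hres : IsCharacter N (fun n : N => (χ : X → ℂ) n) :=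
    isCharacter_restrict (isCharacter_of_isIrrCharacter χ.2) N
  have hne : (fun n : N => (χ : X → ℂ) n) ≠ 0 := by
    intro h0
    have := congrFun h0 1
    exact apply_one_ne_zero χ.2 this
  obtain ⟨φ, hφ⟩ := exists_constituent hres hne
  have hmul := apply_mul_central N hN φ.2 χ.2 hφ
  have h1 : ∀ n : N, (φ : N → ℂ) n = (χ : X → ℂ) n / (χ : X → ℂ) 1 := by
    intro n
    have := hmul 1 n
    rw [one_mul] at this
    rw [this, mul_div_assoc, div_self (apply_one_ne_zero χ.2), mul_one]
  constructor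
  · have : (fun n : N => (χ : X → ℂ) n / (χ : X → ℂ) 1) = (φ : N → ℂ) := by
      funext n
      exact (h1 n).symm
    rw [this]
    exact φ.2
  · intro g n
    rw [hmul g n, h1 n]

end Cfsg.Agent.Lib.helper3.Block
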