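import Mathlib
import Cfsg.Prelude.Def_Blocks
import Cfsg.Prelude.Def_BlockLocal
import Cfsg.Prelude.Def_BrauerPairs
import Cfsg.Agent.Lib.helper3.SubpairBlock
import Cfsg.Agent.Lib.helper3.IrrCongr
import Cfsg.Agent.Lib.helper3.BrauerMap3

/-!
# The Brauer functional is the central character of the Brauer correspondent block

If `ξ` is an irreducible character of `C_G(P)` whose Brauer functional takes the value `1` modulo
the local ideal on the idempotent of the block `B` of `G`, then the Brauer functional of `ξ`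
agrees modulo the local ideal with the central character of `B` on every local class function.
-/

set_option autoImplicit false
set_option linter.style.haveILetI false
set_option linter.unusedSectionVars false

namespace Cfsg.Agent.Lib.helper3.Block

open Cfsg Module Cfsg.Agent.Lib.helper3.CharBasic Cfsg.Agent.Lib.helper3.Irr
open Cfsg.Agent.Lib.helper3.Central Cfsg.Agent.Lib.helper3.LocalM Cfsg.Agent.Lib.helper3.IndFun
open Cfsg.Agent.Lib.helper3.Lin
open scoped ComplexConjugate

universe u

variable {G : Type u} [Group G] [Fintype G] {M : Ideal AlgInt}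

/-- The Brauer functional vanishes modulo the local ideal on the local class functions of `G`
all of whose central character values lie in the local ideal. -/
theorem memLocalIdeal_brauerOmega_of_centralChar_top {p : ℕ} (hM : IsPModular p M)
    (P : Subgroup G) (hP : IsPGroup p P) [Fintype (Subgroup.centralizer (P : Set G))]
    (z : G → ℂ) (hz : ∀ g, MemLocalRing M (z g)) (hzc : ∀ g x : G, z (x * g * x⁻¹) = z g)
    (hc : ∀ χ : IrrCharacter G,
      MemLocalIdeal M (∑ g : G, z g * ((χ : G → ℂ) g / (χ : G → ℂ) 1)))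
    (ξ : IrrCharacter (Subgroup.centralizer (P : Set G))) :
    MemLocalIdeal M (brauerOmega P z (ξ : Subgroup.centralizer (P : Set G) → ℂ)) := by
  classical
  haveI : Fintype (⊤ : Subgroup G) := Fintype.ofFinite _
  apply memLocalIdeal_brauerOmega_of_centralChar hM P hP ⊤ z hz (fun u _ g => hzc g u)
    (fun c _ g => hzc g c) (fun g hg => absurd (Subgroup.mem_top g) hg) (fun h _ g => hzc g h) _ ξ
  intro θ
  have h1 := hc ((irrCongr (Subgroup.topEquiv (G := G))).symm θ)
  convert h1 using 1
  apply Fintype.sum_equiv (Subgroup.topEquiv (G := G)).toEquiv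
  intro x
  rfl

open Classical in
/-- **The Brauer functional as a central character.** -/
theorem memLocalIdeal_brauerOmega_sub_centralChar {p : ℕ} [hp : Fact p.Prime]
    (hM : IsPModular p M) (P : Subgroup G) (hP : IsPGroup p P)
    [Fintype (Subgroup.centralizer (P : Set G))] (B : Set (IrrCharacter G)) (hB : IsPBlock M B)
    (ξ : IrrCharacter (Subgroup.centralizer (P : Set G)))
    (hωξ : MemLocalIdeal M (brauerOmega P (blockCoeff B)
      (ξ : Subgroup.centralizer (P : Set G) → ℂ) - 1))
    (a : G → ℂ) (ha : ∀ g, MemLocalRing M (a g)) (hac : ∀ g x : G, a (x * g * x⁻¹) = a g)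
    (χ : IrrCharacter G) (hχ : χ ∈ B) :
    MemLocalIdeal M (brauerOmega P a (ξ : Subgroup.centralizer (P : Set G) → ℂ)
      - ∑ g : G, a g * ((χ : G → ℂ) g / (χ : G → ℂ) 1)) := by
  haveI hMp := isPrime_of_isPModular hM
  have hMtop : M ≠ ⊤ := hM.2.1.ne_top
  obtain ⟨χf, hfdef⟩ := id hB
  obtain ⟨β, hβ⟩ : ∃ β : G → ℂ, β = blockCoeff B := ⟨_, rfl⟩
  obtain ⟨A, hA⟩ : ∃ A : IrrCharacter G → ℂ,
      A = fun θ : IrrCharacter G =>
        ∑ x : G, a x * ((θ : G → ℂ) x / (θ : G → ℂ) 1) := ⟨_, rfl⟩
  obtain ⟨κ, hκ⟩ : ∃ κ : ℂ, κ = A χ := ⟨_, rfl⟩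
  obtain ⟨z, hz⟩ : ∃ z : G → ℂ, z = fun g => conv a β g - κ * β g := ⟨_, rfl⟩
  have hAloc : ∀ θ, MemLocalRing M (A θ) := by
    intro θ
    rw [hA]
    exact memLocalRing_sum_mul_div a ha hac θ
  have hκloc : MemLocalRing M κ := hκ ▸ hAloc χ
  have hβ_loc : ∀ g, MemLocalRing M (β g) := by
    intro g
    rw [hβ]
    exact osima hM B hB g
  have hβ_conj : ∀ g x : G, β (x * g * x⁻¹) = β g := by
    intro g x
    rw [hβ]
    exact blockCoeff_conj' B g x
  have hz_loc : ∀ g, MemLocalRing M (z g) := by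
    intro g
    rw [hz]
    beta_reduce
    rw [sub_eq_add_neg]
    apply memLocalRing_add (memLocalRing_conv a β ha hβ_loc g)
    have : -(κ * β g) = (-1 : ℂ) * (κ * β g) := by ring
    rw [this]
    exact memLocalRing_mul (memLocalRing_of_integral (isIntegral_one.neg))
      (memLocalRing_mul hκloc (hβ_loc g))
  have hz_conj : ∀ g x : G, z (x * g * x⁻¹) = z g := by
    intro g x
    rw [hz]
    beta_reduce
    rw [conv_conj a β x (fun g => hac g x) (fun g => hβ_conj g x), hβ_conj]
  have hzθ : ∀ θ : IrrCharacter G, ∑ x : G, z x * ((θ : G → ℂ) x / (θ : G → ℂ) 1)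
      = (A θ - κ) * (if θ ∈ B then 1 else 0) := by
    intro θ
    have h1 := centralFunctional_mul θ a β hac
    have h2 := sum_blockCoeff_mul_div B θ
    rw [← hβ] at h2
    rw [h2] at h1
    have h3 : ∑ x : G, z x * ((θ : G → ℂ) x / (θ : G → ℂ) 1)
        = ∑ x : G, conv a β x * ((θ : G → ℂ) x / (θ : G → ℂ) 1)
          - κ * ∑ x : G, β x * ((θ : G → ℂ) x / (θ : G → ℂ) 1) := by
      rw [Finset.mul_sum, ← Finset.sum_sub_distrib]
      apply Finset.sum_congr rfl
      intro x _
      rw [hz]
      ring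
    rw [h3, ← h1, h2, hA]
    ring
  have hc : ∀ θ : IrrCharacter G,
      MemLocalIdeal M (∑ x : G, z x * ((θ : G → ℂ) x / (θ : G → ℂ) 1)) := by
    intro θ
    rw [hzθ θ]
    by_cases hθ : θ ∈ B
    · rw [if_pos hθ, mul_one, hκ, hA]
      apply memLocalIdeal_sum_mul_div_sub a ha hac θ χ
      rw [hfdef] at hθ hχ
      exact sameBlock_trans (sameBlock_symm hθ) hχ
    · rw [if_neg hθ, mul_zero]
      exact memLocalIdeal_zero hMtop
  have hΛz := memLocalIdeal_brauerOmega_of_centralChar_top hM P hP z hz_loc hz_conj hc ξ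
  have hΛz_eq : brauerOmega P z (ξ : Subgroup.centralizer (P : Set G) → ℂ)
      = brauerOmega P (conv a β) (ξ : Subgroup.centralizer (P : Set G) → ℂ)
        - κ * brauerOmega P β (ξ : Subgroup.centralizer (P : Set G) → ℂ) := by
    rw [brauerOmega_eq_sum, brauerOmega_eq_sum, brauerOmega_eq_sum, Finset.mul_sum,
      ← Finset.sum_sub_distrib]
    apply Finset.sum_congr rfl
    intro x _
    rw [hz]
    ring
  have hmul := memLocalIdeal_brauerOmega_conv hM P hP a β ha hβ_loc
    (fun u _ g => hac g u) (fun u _ g => hβ_conj g u) (fun c _ g => hac g c)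
    (fun c _ g => hβ_conj g c) ξ
  have hΛa_loc := memLocalRing_brauerOmega P a ha (fun c _ g => hac g c) ξ
  rw [← hβ] at hωξ
  rw [hΛz_eq] at hΛz
  have hκ' : κ = ∑ x : G, a x * ((χ : G → ℂ) x / (χ : G → ℂ) 1) := by
    rw [hκ, hA]
  rw [← hκ']
  have hloc1 : MemLocalRing M (brauerOmega P a (ξ : Subgroup.centralizer (P : Set G) → ℂ)
      - κ) := by
    rw [sub_eq_add_neg]
    apply memLocalRing_add hΛa_loc
    have : -κ = (-1 : ℂ) * κ := by ring
    rw [this]
    exact memLocalRing_mul (memLocalRing_of_integral (isIntegral_one.neg)) hκloc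
  have h1 := memLocalIdeal_mul_localRing hloc1 hωξ
  have h2 := memLocalIdeal_sub (memLocalIdeal_sub hΛz h1) hmul
  convert h2 using 1
  ring

end Cfsg.Agent.Lib.helper3.Block
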