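import Mathlib
import Cfsg.Prelude.Def_Blocks
import Cfsg.Prelude.Def_BrauerPairs
import Cfsg.Agent.Lib.helper3.BrauerHom
import Cfsg.Agent.Lib.helper3.BlockInd

/-!
# A Brauer pair of `B` induces `B`
-/

set_option autoImplicit false
set_option linter.style.haveILetI false
set_option linter.unusedSectionVars false

namespace Cfsg.Agent.Lib.helper3.Block

open Cfsg Module Cfsg.Agent.Lib.helper3.CharBasic Cfsg.Agent.Lib.helper3.Irr
open Cfsg.Agent.Lib.helper3.Central Cfsg.Agent.Lib.helper3.LocalM Cfsg.Agent.Lib.helper3.IndFun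
open Cfsg.Agent.Lib.helper3.Lin
open scoped ComplexConjugate

universe u

variable {G : Type u} [Group G] [Fintype G] {M : Ideal AlgInt}

open Classical in
/-- The central character as a sum over the conjugacy class. -/
theorem centralChar_eq_sum_isConj (χ : G → ℂ) (hχ : ∀ g x : G, χ (x * g * x⁻¹) = χ g) (g : G) :
    centralChar χ g = ∑ x : G, (if IsConj g x then (1 : ℂ) else 0) * (χ x / χ 1) := by
  have hC0 : (Nat.card (Subgroup.centralizer ({g} : Set G)) : ℂ) ≠ 0 := card_ne_zero_complex _
  have h1 := sum_conj_eq (fun y : G => χ y / χ 1) g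
  have h2 : ∑ x : G, (fun y : G => χ y / χ 1) (x⁻¹ * g * x) = (Nat.card G : ℂ) * (χ g / χ 1) := by
    have : ∀ x : G, (fun y : G => χ y / χ 1) (x⁻¹ * g * x) = χ g / χ 1 := by
      intro x
      beta_reduce
      have := hχ g x⁻¹
      rw [inv_inv] at this
      rw [this]
    rw [Finset.sum_congr rfl (fun x _ => this x), Finset.sum_const, Finset.card_univ,
      nsmul_eq_mul, Nat.card_eq_fintype_card]
  rw [h2] at h1
  have h3 : ∑ x : G, (if IsConj g x then (1 : ℂ) else 0) * (χ x / χ 1)
      = ∑ y : G, if IsConj g y then (fun y : G => χ y / χ 1) y else 0 := by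
    apply Finset.sum_congr rfl
    intro x _
    split_ifs <;> simp
  rw [h3]
  unfold centralChar
  have h5 : ((Subgroup.centralizer ({g} : Set G)).index : ℂ)
      * (Nat.card (Subgroup.centralizer ({g} : Set G)) : ℂ) = (Nat.card G : ℂ) := by
    rw [← Nat.cast_mul, Subgroup.index_mul_card]
  rw [← h5] at h1
  have h6 : (Nat.card (Subgroup.centralizer ({g} : Set G)) : ℂ)
      * (((Subgroup.centralizer ({g} : Set G)).index : ℂ) * χ g / χ 1)
      = (Nat.card (Subgroup.centralizer ({g} : Set G)) : ℂ)
        * ∑ y : G, if IsConj g y then (fun y : G => χ y / χ 1) y else 0 := by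
    rw [← h1]
    ring
  exact mul_left_cancel₀ hC0 h6

open Classical in
/-- **A Brauer pair of `B` induces `B`.** -/
theorem isInducedBlock_of_isBrauerPairOf {p : ℕ} [hp : Fact p.Prime]
    (hM : IsPModular p M) (P : Subgroup G) (B : Set (IrrCharacter G))
    (e : Set (IrrCharacter (Subgroup.centralizer (P : Set G))))
    (h : IsBrauerPairOf p M B P e) :
    IsInducedBlock M (Subgroup.centralizer (P : Set G)) e B := by
  haveI hMp := isPrime_of_isPModular hM
  obtain ⟨⟨hP, he⟩, hB, hΛ⟩ := h
  refine ⟨he, hB, ?_⟩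
  intro ξ hξ χ hχ g
  have h1 := memLocalIdeal_brauerOmega_sub_centralChar hM P hP B hB ξ (hΛ ξ hξ)
    (fun x : G => if IsConj g x then (1 : ℂ) else 0)
    (fun x => by
      beta_reduce
      split_ifs
      · exact memLocalRing_of_integral isIntegral_one
      · exact memLocalRing_of_integral isIntegral_zero)
    (fun x c => by
      beta_reduce
      have : IsConj g (c * x * c⁻¹) ↔ IsConj g x := by
        constructor
        · intro h
          exact h.trans (isConj_iff.mpr ⟨c, rfl⟩).symm
        · intro h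
          exact h.trans (isConj_iff.mpr ⟨c, rfl⟩)
      simp only [this]) χ hχ
  rw [brauerOmega_eq_sum] at h1
  have hχcf := isClassFunction_of_isCharacter (isCharacter_of_isIrrCharacter χ.2)
  rw [← centralChar_eq_sum_isConj (χ : G → ℂ) (fun g x => hχcf g x) g] at h1
  rw [inducedCentralChar_eq_sum]
  refine Eq.mp ?_ h1
  congr 2
  apply Finset.sum_congr rfl
  intro x _
  split_ifs <;> simp

end Cfsg.Agent.Lib.helper3.Block
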