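import Mathlib
import Cfsg.Prelude.Def_Characters
import Cfsg.Prelude.Def_Blocks
import Cfsg.Agent.Lib.helper3.CProd1

set_option autoImplicit false
set_option linter.style.haveILetI false
set_option linter.unusedSectionVars false

/-!
# Construction of characters of `G = P · C_G(P)` from compatible pairs
-/

namespace Cfsg.Agent.Lib.helper3.Block

open Cfsg Cfsg.Agent.Lib.helper3.LocalM Cfsg.Agent.Lib.helper3.CharBasic
open Cfsg.Agent.Lib.helper3.Irr Cfsg.Agent.Lib.helper3.IndFun Cfsg.Agent.Lib.helper3.Central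
open scoped ComplexConjugate

universe u

variable {G : Type u} [Group G] [Fintype G]

/-- A compatible pair of irreducible characters of `P` and `C_G(P)` gives an irreducible
character of `G = P · C_G(P)`. -/
theorem exists_of_prod (P : Subgroup G) (hG : P ⊔ Subgroup.centralizer (P : Set G) = ⊤)
    (ζ : IrrCharacter P) (ψ : IrrCharacter ↥(Subgroup.centralizer (P : Set G)))
    (hcompat : ∀ (z : G) (hzP : z ∈ P) (hzC : z ∈ Subgroup.centralizer (P : Set G)),
      (ζ : P → ℂ) ⟨z, hzP⟩ * (ψ : ↥(Subgroup.centralizer (P : Set G)) → ℂ) 1 = (ζ : P → ℂ) 1 * (ψ : ↥(Subgroup.centralizer (P : Set G)) → ℂ) ⟨z, hzC⟩) :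
    ∃ θ : IrrCharacter G, ∀ (d : P) (c : ↥(Subgroup.centralizer (P : Set G))),
        (θ : G → ℂ) ((d : G) * (c : G)) = (ζ : P → ℂ) d * (ψ : ↥(Subgroup.centralizer (P : Set G)) → ℂ) c := by
  classical
  letI : Fintype P := Fintype.ofFinite _
  letI : Fintype ↥(Subgroup.centralizer (P : Set G)) := Fintype.ofFinite _
  have hζ1 := apply_one_ne_zero ζ.2
  have hψ1 := apply_one_ne_zero ψ.2
  have hΘ : IsIrrCharacter (P × ↥(Subgroup.centralizer (P : Set G)))
      (fun x => (ζ : P → ℂ) x.1 * (ψ : ↥(Subgroup.centralizer (P : Set G)) → ℂ) x.2) := isIrrCharacter_prod ζ.2 ψ.2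
  -- the central subgroups
  obtain ⟨ZP, hZP⟩ : ∃ ZP : Subgroup P,
      ZP = (P ⊓ Subgroup.centralizer (P : Set G)).subgroupOf P := ⟨_, rfl⟩
  obtain ⟨ZC, hZC⟩ : ∃ ZC : Subgroup ↥(Subgroup.centralizer (P : Set G)),
      ZC = (P ⊓ Subgroup.centralizer (P : Set G)).subgroupOf (Subgroup.centralizer (P : Set G)) :=
    ⟨_, rfl⟩
  have hZPmem : ∀ d : P, d ∈ ZP ↔ (d : G) ∈ Subgroup.centralizer (P : Set G) := by
    intro d
    rw [hZP, Subgroup.mem_subgroupOf]
    constructor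
    · intro h; exact (Subgroup.mem_inf.mp h).2
    · intro h; exact Subgroup.mem_inf.mpr ⟨d.2, h⟩
  have hZCmem : ∀ c : ↥(Subgroup.centralizer (P : Set G)), c ∈ ZC ↔ (c : G) ∈ P := by
    intro c
    rw [hZC, Subgroup.mem_subgroupOf]
    constructor
    · intro h; exact (Subgroup.mem_inf.mp h).1
    · intro h; exact Subgroup.mem_inf.mpr ⟨h, c.2⟩
  have hZPc : ZP ≤ Subgroup.center P := by
    intro z hz
    rw [Subgroup.mem_center_iff]
    intro y
    apply Subtype.ext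
    have := (hZPmem z).mp hz
    rw [Subgroup.mem_centralizer_iff] at this
    exact this y y.2
  have hZCc : ZC ≤ Subgroup.center ↥(Subgroup.centralizer (P : Set G)) := by
    intro z hz
    rw [Subgroup.mem_center_iff]
    intro y
    apply Subtype.ext
    have hy := y.2
    rw [Subgroup.mem_centralizer_iff] at hy
    exact (hy _ ((hZCmem z).mp hz)).symm
  letI : Fintype ZP := Fintype.ofFinite _
  letI : Fintype ZC := Fintype.ofFinite _
  obtain ⟨-, hmulP⟩ := isIrrCharacter_central_quot ZP hZPc ζ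
  obtain ⟨-, hmulC⟩ := isIrrCharacter_central_quot ZC hZCc ψ
  -- constancy on the kernel
  have hconst : ∀ x k : P × ↥(Subgroup.centralizer (P : Set G)), k ∈ (prodHom P).ker →
      (fun x : P × ↥(Subgroup.centralizer (P : Set G)) => (ζ : P → ℂ) x.1 * (ψ : ↥(Subgroup.centralizer (P : Set G)) → ℂ) x.2)
        (x * k)
      = (fun x : P × ↥(Subgroup.centralizer (P : Set G)) => (ζ : P → ℂ) x.1 * (ψ : ↥(Subgroup.centralizer (P : Set G)) → ℂ) x.2)
        x := by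
    intro x k hk
    beta_reduce
    rw [MonoidHom.mem_ker, prodHom_apply] at hk
    have hk1 : (k.1 : G) = (k.2 : G)⁻¹ := eq_inv_of_mul_eq_one_left hk
    have hk1C : (k.1 : G) ∈ Subgroup.centralizer (P : Set G) := by
      rw [hk1]
      exact Subgroup.inv_mem _ k.2.2
    have hk2P : (k.2 : G) ∈ P := by
      have : (k.2 : G) = (k.1 : G)⁻¹ := eq_inv_of_mul_eq_one_right hk
      rw [this]
      exact Subgroup.inv_mem _ k.1.2
    have hk1Z : k.1 ∈ ZP := (hZPmem _).mpr hk1C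
    have hk2Z : k.2 ∈ ZC := (hZCmem _).mpr hk2P
    have e1 := hmulP x.1 ⟨k.1, hk1Z⟩
    have e2 := hmulC x.2 ⟨k.2, hk2Z⟩
    have e3 := hmulC (⟨(k.1 : G), hk1C⟩ : ↥(Subgroup.centralizer (P : Set G))) ⟨k.2, hk2Z⟩
    have e4 : (⟨(k.1 : G), hk1C⟩ : ↥(Subgroup.centralizer (P : Set G))) * k.2 = 1 := by
      apply Subtype.ext
      exact hk
    have e5 := hcompat (k.1 : G) k.1.2 hk1C
    simp only at e1 e2 e3
    rw [e4] at e3
    show (ζ : P → ℂ) (x.1 * k.1) * (ψ : ↥(Subgroup.centralizer (P : Set G)) → ℂ) (x.2 * k.2) = _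
    rw [e1, e2]
    have e6 : (ζ : P → ℂ) k.1 / (ζ : P → ℂ) 1
        = (ψ : ↥(Subgroup.centralizer (P : Set G)) → ℂ) ⟨(k.1 : G), hk1C⟩ / (ψ : ↥(Subgroup.centralizer (P : Set G)) → ℂ) 1 := by
      rw [div_eq_div_iff hζ1 hψ1]
      have : (⟨(k.1 : G), k.1.2⟩ : P) = k.1 := rfl
      rw [this] at e5
      rw [e5]
      ring
    rw [e6]
    have e7 : (ψ : ↥(Subgroup.centralizer (P : Set G)) → ℂ) ⟨(k.1 : G), hk1C⟩ / (ψ : ↥(Subgroup.centralizer (P : Set G)) → ℂ) 1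
        * ((ψ : ↥(Subgroup.centralizer (P : Set G)) → ℂ) k.2 / (ψ : ↥(Subgroup.centralizer (P : Set G)) → ℂ) 1) = 1 := by
      rw [div_mul_div_comm, div_eq_one_iff_eq (mul_ne_zero hψ1 hψ1)]
      have e3' := e3
      rw [div_mul_eq_mul_div, eq_div_iff hψ1] at e3'
      rw [e3', mul_comm]
    calc (ψ : ↥(Subgroup.centralizer (P : Set G)) → ℂ) ⟨(k.1 : G), hk1C⟩ / (ψ : ↥(Subgroup.centralizer (P : Set G)) → ℂ) 1 * (ζ : P → ℂ) x.1
          * ((ψ : ↥(Subgroup.centralizer (P : Set G)) → ℂ) k.2 / (ψ : ↥(Subgroup.centralizer (P : Set G)) → ℂ) 1 * (ψ : ↥(Subgroup.centralizer (P : Set G)) → ℂ) x.2)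
        = ((ψ : ↥(Subgroup.centralizer (P : Set G)) → ℂ) ⟨(k.1 : G), hk1C⟩ / (ψ : ↥(Subgroup.centralizer (P : Set G)) → ℂ) 1
          * ((ψ : ↥(Subgroup.centralizer (P : Set G)) → ℂ) k.2 / (ψ : ↥(Subgroup.centralizer (P : Set G)) → ℂ) 1)) * ((ζ : P → ℂ) x.1 * (ψ : ↥(Subgroup.centralizer (P : Set G)) → ℂ) x.2) := by ring
      _ = (ζ : P → ℂ) x.1 * (ψ : ↥(Subgroup.centralizer (P : Set G)) → ℂ) x.2 := by rw [e7, one_mul]
  obtain ⟨Ψ, hΨ, hΨeq⟩ := exists_eq_inflate hΘ (prodHom P).ker hconst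
  obtain ⟨iso, hiso⟩ : ∃ iso : (P × ↥(Subgroup.centralizer (P : Set G))) ⧸ (prodHom P).ker ≃* G,
      ∀ x : P × ↥(Subgroup.centralizer (P : Set G)),
        iso (x : _ ⧸ (prodHom P).ker) = prodHom P x :=
    ⟨QuotientGroup.quotientKerEquivOfSurjective (prodHom P) (prodHom_surjective P hG),
      fun x => rfl⟩
  refine ⟨⟨fun g => Ψ (iso.symm g), isIrrCharacter_comp_mulEquiv iso.symm hΨ⟩, ?_⟩
  intro d c
  show Ψ (iso.symm ((d : G) * (c : G))) = _
  have h1 : iso.symm ((d : G) * (c : G))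
      = (((d, c) : P × ↥(Subgroup.centralizer (P : Set G))) : _ ⧸ (prodHom P).ker) := by
    rw [MulEquiv.symm_apply_eq, hiso, prodHom_apply]
  rw [h1]
  have h2 := congrFun hΨeq (d, c)
  rw [inflate_apply] at h2
  rw [← h2]

end Cfsg.Agent.Lib.helper3.Block
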