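import Mathlib
import Cfsg.Prelude.Def_Blocks
import Cfsg.Agent.Lib.helper3.DefectOrder3
import Cfsg.Agent.Lib.helper3.BlockCover2

/-!
# Blocks are determined by the central characters on the `p`-regular classes
-/

set_option autoImplicit false
set_option linter.style.haveILetI false
set_option linter.unusedSectionVars false

namespace Cfsg.Agent.Lib.helper3.Block

open Cfsg Cfsg.Agent.Lib.helper3.LocalM Cfsg.Agent.Lib.helper3.CharBasic
open Cfsg.Agent.Lib.helper3.Irr Cfsg.Agent.Lib.helper3.Central Cfsg.Agent.Lib.helper3.Lin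
open scoped ComplexConjugate

variable {G : Type*} [Group G] [Fintype G] {M : Ideal AlgInt}

/-- Two irreducible characters whose central characters agree modulo `M` on the `p`-regular
elements lie in the same block. -/
theorem sameBlock_of_pregular {p : ℕ} (hM : IsPModular p M) (χ ψ : IrrCharacter G)
    (h : ∀ g : G, ¬ p ∣ orderOf g →
      MemLocalIdeal M (centralChar (χ : G → ℂ) g - centralChar (ψ : G → ℂ) g)) :
    SameBlock M (χ : G → ℂ) (ψ : G → ℂ) := by
  classical
  haveI hMp := isPrime_of_isPModular hM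
  have hMtop : M ≠ ⊤ := hM.2.1.ne_top
  obtain ⟨B, hBdef⟩ : ∃ B : Set (IrrCharacter G), B = blockOf M (χ : G → ℂ) := ⟨_, rfl⟩
  have hB : IsPBlock M B := ⟨χ, hBdef⟩
  have hS : ∀ θ ∈ B, blockOf M (θ : G → ℂ) ⊆ B := by
    intro θ hθ φ hφ
    rw [hBdef] at hθ ⊢
    exact sameBlock_trans hθ hφ
  have hχB : χ ∈ B := by
    rw [hBdef]
    exact sameBlock_refl hMtop _
  by_contra hcon
  have hψB : ψ ∉ B := by
    rw [hBdef]
    exact hcon
  have h1 := sum_classes_blockCoeff_mul_centralChar B χ
  have h2 := sum_classes_blockCoeff_mul_centralChar B ψ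
  rw [if_pos hχB] at h1
  rw [if_neg hψB] at h2
  have h3 : ∑ C : ConjClasses G, blockCoeff B (Quotient.out C)
      * (centralChar (χ : G → ℂ) (Quotient.out C) - centralChar (ψ : G → ℂ) (Quotient.out C))
      = 1 := by
    simp_rw [mul_sub]
    rw [Finset.sum_sub_distrib, h1, h2, sub_zero]
  apply not_memLocalIdeal_one (M := M)
  rw [← h3]
  apply memLocalIdeal_sum
  intro C _
  by_cases hC : p ∣ orderOf (Quotient.out C)
  · rw [blockCoeff_eq_zero_of_dvd hM B hB _ hC, zero_mul]
    exact memLocalIdeal_zero hMtop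
  · exact memLocalIdeal_mul_localRing (memLocalRing_blockCoeff_of_closed hM B hS _) (h _ hC)

end Cfsg.Agent.Lib.helper3.Block
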