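import Mathlib
import Cfsg.Prelude.Def_Characters
import Cfsg.Prelude.Def_Blocks
import Cfsg.Agent.Lib.helper3.CProd2
import Cfsg.Agent.Lib.helper3.SecMain7
import Cfsg.Agent.Lib.helper3.BrauerPairInd
import Cfsg.Agent.Lib.helper3.RegClasses

set_option autoImplicit false
set_option linter.style.haveILetI false
set_option linter.unusedSectionVars false

/-!
# Central characters and blocks of `G = P · C_G(P)`
-/

namespace Cfsg.Agent.Lib.helper3.Block

open Cfsg Cfsg.Agent.Lib.helper3.LocalM Cfsg.Agent.Lib.helper3.CharBasic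
open Cfsg.Agent.Lib.helper3.Irr Cfsg.Agent.Lib.helper3.IndFun Cfsg.Agent.Lib.helper3.Central
open scoped ComplexConjugate

universe u

variable {G : Type u} [Group G] [Fintype G] {M : Ideal AlgInt}

/-- Conjugates in `G = P · C_G(P)` of an element of `C_G(P)` are conjugates in `C_G(P)`. -/
theorem isConj_coe_iff (P : Subgroup G) (hG : P ⊔ Subgroup.centralizer (P : Set G) = ⊤)
    (n : ↥(Subgroup.centralizer (P : Set G))) (x : G) :
    IsConj (n : G) x ↔ ∃ h : ↥(Subgroup.centralizer (P : Set G)), (h : G) = x ∧ IsConj n h := by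
  constructor
  · intro hc
    obtain ⟨g, hg⟩ := isConj_iff.mp hc
    obtain ⟨d, c, rfl⟩ := exists_mul_of_sup_eq_top P hG g
    have hcn : (c : G) * (n : G) * (c : G)⁻¹ ∈ Subgroup.centralizer (P : Set G) :=
      Subgroup.mul_mem _ (Subgroup.mul_mem _ c.2 n.2) (Subgroup.inv_mem _ c.2)
    have hd : (d : G) * ((c : G) * (n : G) * (c : G)⁻¹) * (d : G)⁻¹
        = (c : G) * (n : G) * (c : G)⁻¹ := by
      have := (Subgroup.mem_centralizer_iff.mp hcn) d d.2
      rw [this]
      group
    refine ⟨c * n * c⁻¹, ?_, isConj_iff.mpr ⟨c, rfl⟩⟩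
    rw [← hg]
    push_cast
    rw [← hd]
    group
  · rintro ⟨h, rfl, hc⟩
    obtain ⟨c, hc⟩ := isConj_iff.mp hc
    refine isConj_iff.mpr ⟨(c : G), ?_⟩
    rw [← hc]
    rfl

open Classical in
/-- The central character of a product character on `C_G(P)`. -/
theorem centralChar_of_prod (P : Subgroup G) (hG : P ⊔ Subgroup.centralizer (P : Set G) = ⊤)
    [Fintype ↥(Subgroup.centralizer (P : Set G))]
    (θ : IrrCharacter G) (ζ : IrrCharacter P)
    (ψ : IrrCharacter ↥(Subgroup.centralizer (P : Set G)))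
    (hθ : ∀ (d : P) (c : ↥(Subgroup.centralizer (P : Set G))),
        (θ : G → ℂ) ((d : G) * (c : G))
          = (ζ : P → ℂ) d * (ψ : ↥(Subgroup.centralizer (P : Set G)) → ℂ) c)
    (n : ↥(Subgroup.centralizer (P : Set G))) :
    centralChar (θ : G → ℂ) (n : G)
      = centralChar (ψ : ↥(Subgroup.centralizer (P : Set G)) → ℂ) n := by
  have hζ1 := apply_one_ne_zero ζ.2
  have hψ1 := apply_one_ne_zero ψ.2
  have hθC : ∀ c : ↥(Subgroup.centralizer (P : Set G)),
      (θ : G → ℂ) (c : G) = (ζ : P → ℂ) 1 * (ψ : ↥(Subgroup.centralizer (P : Set G)) → ℂ) c := by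
    intro c
    have := hθ 1 c
    rw [OneMemClass.coe_one, one_mul] at this
    exact this
  rw [centralChar_eq_sum_isConj (θ : G → ℂ)
      (fun g x => isClassFunction_of_isCharacter (isCharacter_of_isIrrCharacter θ.2) g x),
    centralChar_eq_sum_isConj (ψ : ↥(Subgroup.centralizer (P : Set G)) → ℂ)
      (fun g x => isClassFunction_of_isCharacter (isCharacter_of_isIrrCharacter ψ.2) g x)]
  rw [sum_of_support (Subgroup.centralizer (P : Set G))]
  · apply Finset.sum_congr rfl
    intro h _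
    have hiff : IsConj (n : G) (h : G) ↔ IsConj n h := by
      rw [isConj_coe_iff P hG]
      constructor
      · rintro ⟨h', hh', hc⟩
        have : h' = h := Subtype.ext hh'
        rw [← this]
        exact hc
      · intro hc
        exact ⟨h, rfl, hc⟩
    by_cases hc : IsConj n h
    · rw [if_pos hc, if_pos (hiff.mpr hc), hθC h]
      have h1 : (θ : G → ℂ) 1
          = (ζ : P → ℂ) 1 * (ψ : ↥(Subgroup.centralizer (P : Set G)) → ℂ) 1 := by
        have := hθC 1
        rw [OneMemClass.coe_one] at this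
        exact this
      rw [h1, mul_div_mul_left _ _ hζ1]
    · rw [if_neg hc, if_neg (fun h' => hc (hiff.mp h')), zero_mul, zero_mul]
  · intro g hg
    rw [if_neg, zero_mul]
    intro hc
    obtain ⟨h, rfl, -⟩ := (isConj_coe_iff P hG n g).mp hc
    exact hg h.2

/-- Elements of order prime to `p` of `G = P · C_G(P)` centralize the `p`-group `P`. -/
theorem mem_centralizer_of_pregular {p : ℕ} [hp : Fact p.Prime] (P : Subgroup G)
    (hP : IsPGroup p P) (hG : P ⊔ Subgroup.centralizer (P : Set G) = ⊤) (g : G)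
    (hg : ¬ p ∣ orderOf g) : g ∈ Subgroup.centralizer (P : Set G) := by
  obtain ⟨d, c, rfl⟩ := exists_mul_of_sup_eq_top P hG g
  obtain ⟨k, hk⟩ := hP d
  have hk' : (d : G) ^ (p ^ k) = 1 := by
    have := congrArg (fun t : P => (t : G)) hk
    simpa using this
  have hcomm : Commute (d : G) (c : G) := (Subgroup.mem_centralizer_iff.mp c.2) d d.2
  have hpow : ((d : G) * (c : G)) ^ (p ^ k) = (c : G) ^ (p ^ k) := by
    rw [hcomm.mul_pow, hk', one_mul]
  have hcop : Nat.Coprime (p ^ k) (orderOf ((d : G) * (c : G))) :=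
    Nat.Coprime.pow_left k ((Nat.Prime.coprime_iff_not_dvd hp.out).mpr hg)
  obtain ⟨m, hm⟩ := exists_pow_eq_self_of_coprime hcop
  rw [← hm, hpow]
  exact Subgroup.pow_mem _ (Subgroup.pow_mem _ c.2 _) _

/-- Product characters lie in the same block of `G` exactly when their `C_G(P)`-factors lie in
the same block of `C_G(P)`. -/
theorem sameBlock_iff_of_prod {p : ℕ} [hp : Fact p.Prime] (hM : IsPModular p M) (P : Subgroup G)
    (hP : IsPGroup p P) (hG : P ⊔ Subgroup.centralizer (P : Set G) = ⊤)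
    [Fintype ↥(Subgroup.centralizer (P : Set G))]
    (θ θ' : IrrCharacter G) (ζ ζ' : IrrCharacter P)
    (ψ ψ' : IrrCharacter ↥(Subgroup.centralizer (P : Set G)))
    (hθ : ∀ (d : P) (c : ↥(Subgroup.centralizer (P : Set G))),
        (θ : G → ℂ) ((d : G) * (c : G))
          = (ζ : P → ℂ) d * (ψ : ↥(Subgroup.centralizer (P : Set G)) → ℂ) c)
    (hθ' : ∀ (d : P) (c : ↥(Subgroup.centralizer (P : Set G))),
        (θ' : G → ℂ) ((d : G) * (c : G))
          = (ζ' : P → ℂ) d * (ψ' : ↥(Subgroup.centralizer (P : Set G)) → ℂ) c) :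
    SameBlock M (θ : G → ℂ) (θ' : G → ℂ)
      ↔ SameBlock M (ψ : ↥(Subgroup.centralizer (P : Set G)) → ℂ)
          (ψ' : ↥(Subgroup.centralizer (P : Set G)) → ℂ) := by
  constructor
  · intro h n
    rw [← centralChar_of_prod P hG θ ζ ψ hθ n, ← centralChar_of_prod P hG θ' ζ' ψ' hθ' n]
    exact h (n : G)
  · intro h
    apply sameBlock_of_pregular hM
    intro g hg
    have hgC := mem_centralizer_of_pregular P hP hG g hg
    have h1 := centralChar_of_prod P hG θ ζ ψ hθ ⟨g, hgC⟩
    have h2 := centralChar_of_prod P hG θ' ζ' ψ' hθ' ⟨g, hgC⟩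
    simp only at h1 h2
    rw [h1, h2]
    exact h ⟨g, hgC⟩

end Cfsg.Agent.Lib.helper3.Block
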