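import Mathlib
import Cfsg.Prelude.Def_Characters
import Cfsg.Prelude.Def_Blocks
import Cfsg.Agent.Lib.helper3.CProd1
import Cfsg.Agent.Lib.helper3.CentralDefect6
import Cfsg.Agent.Lib.helper3.DefectOrder

set_option autoImplicit false
set_option linter.style.haveILetI false
set_option linter.unusedSectionVars false

/-!
# The characters of a block with a central defect group
-/

namespace Cfsg.Agent.Lib.helper3.Block

open Cfsg Cfsg.Agent.Lib.helper3.LocalM Cfsg.Agent.Lib.helper3.CharBasic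
open Cfsg.Agent.Lib.helper3.Irr Cfsg.Agent.Lib.helper3.IndFun Cfsg.Agent.Lib.helper3.Central
open scoped ComplexConjugate

universe u

variable {X : Type u} [Group X] [Fintype X] {M : Ideal AlgInt}

theorem not_dvd_orderOf_one' {p : ℕ} (hp : p.Prime) : ¬ p ∣ orderOf (1 : X) := by
  rw [orderOf_one]
  exact hp.not_dvd_one

/-- Members of the block have the same degree. -/
theorem apply_one_eq_of_sameBlock {p : ℕ} [hp : Fact p.Prime] (hM : IsPModular p M)
    (Z : Subgroup X) (hZ : IsPGroup p Z) (hZc : Z ≤ Subgroup.center X) (ψ₀ : IrrCharacter X)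
    (hdeg : (charDegree (ψ₀ : X → ℂ)).factorization p = Z.index.factorization p)
    (ψ : IrrCharacter X) (hψ : ψ ∈ blockOf M (ψ₀ : X → ℂ)) :
    (ψ : X → ℂ) 1 = (ψ₀ : X → ℂ) 1
      ∧ (charDegree (ψ : X → ℂ)).factorization p = Z.index.factorization p := by
  have h1 := apply_eq_of_sameBlock_central_defect hM Z hZ hZc ψ₀ hdeg ψ hψ 1
    (not_dvd_orderOf_one' hp.out)
  refine ⟨h1, ?_⟩
  unfold charDegree at hdeg ⊢
  rw [h1]
  exact hdeg

/-- Two members of the block that agree on the central defect group are equal. -/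
theorem eq_of_sameBlock_of_central_eq {p : ℕ} [hp : Fact p.Prime] (hM : IsPModular p M)
    (Z : Subgroup X) (hZ : IsPGroup p Z) (hZc : Z ≤ Subgroup.center X) (ψ₀ : IrrCharacter X)
    (hdeg : (charDegree (ψ₀ : X → ℂ)).factorization p = Z.index.factorization p)
    (ψ ψ' : IrrCharacter X) (hψ : ψ ∈ blockOf M (ψ₀ : X → ℂ))
    (hψ' : ψ' ∈ blockOf M (ψ₀ : X → ℂ))
    (hcen : ∀ z : X, z ∈ Z → (ψ : X → ℂ) z = (ψ' : X → ℂ) z) : ψ = ψ' := by
  classical
  letI : Fintype Z := Fintype.ofFinite _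
  obtain ⟨h1, hd⟩ := apply_one_eq_of_sameBlock hM Z hZ hZc ψ₀ hdeg ψ hψ
  obtain ⟨h1', hd'⟩ := apply_one_eq_of_sameBlock hM Z hZ hZc ψ₀ hdeg ψ' hψ'
  apply Subtype.ext
  funext c
  by_cases h : ∃ (d : Z) (s : X), ¬ p ∣ orderOf s ∧ (d : X) * s = c
  · obtain ⟨d, s, hs, rfl⟩ := h
    have hds : (d : X) * s = s * (d : X) := (Subgroup.mem_center_iff.mp (hZc d.2) s).symm
    rw [hds, (isIrrCharacter_central_quot Z hZc ψ).2 s d,
      (isIrrCharacter_central_quot Z hZc ψ').2 s d, hcen d d.2, h1, h1',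
      apply_eq_of_sameBlock_central_defect hM Z hZ hZc ψ₀ hdeg ψ hψ s hs,
      apply_eq_of_sameBlock_central_defect hM Z hZ hZc ψ₀ hdeg ψ' hψ' s hs]
  · push Not at h
    rw [apply_eq_zero_of_central_defect Z hZ hZc ψ hd c (fun d s hs => h d s hs),
      apply_eq_zero_of_central_defect Z hZ hZc ψ' hd' c (fun d s hs => h d s hs)]

open Classical in
/-- Every linear character of the central defect group lies under a member of the block. -/
theorem exists_over_of_central_defect {p : ℕ} [hp : Fact p.Prime] (hM : IsPModular p M)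
    (Z : Subgroup X) [Fintype Z] (hZ : IsPGroup p Z) (hZc : Z ≤ Subgroup.center X)
    (ψ₀ : IrrCharacter X)
    (lam : Z → ℂ) (hlam : IsIrrCharacter Z lam) :
    ∃ ψ ∈ blockOf M (ψ₀ : X → ℂ), ∀ z : Z, (ψ : X → ℂ) z = lam z * (ψ : X → ℂ) 1 := by
  haveI hMp := isPrime_of_isPModular hM
  have hMtop : M ≠ ⊤ := hMp.ne_top
  by_contra hcon
  push Not at hcon
  obtain ⟨b, hb⟩ : ∃ b : Set (IrrCharacter X), b = blockOf M (ψ₀ : X → ℂ) := ⟨_, rfl⟩
  rw [← hb] at hcon
  have hclosed : ∀ θ ∈ b, blockOf M (θ : X → ℂ) ⊆ b := by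
    intro θ hθ φ hφ
    rw [hb] at hθ ⊢
    exact sameBlock_trans hθ hφ
  have hψ₀b : ψ₀ ∈ b := by
    rw [hb]
    exact sameBlock_refl hMtop _
  have hcommZ : ∀ a c : Z, a * c = c * a := by
    intro a c
    apply Subtype.ext
    exact (Subgroup.mem_center_iff.mp (hZc a.2) c).symm
  have hlam1 : lam 1 = 1 := apply_one_eq_one_of_comm hcommZ hlam
  -- orthogonality with `lam`
  have horth : ∀ ψ ∈ b, ∑ z : Z, (ψ : X → ℂ) z * conj (lam z) = 0 := by
    intro ψ hψ
    have hirr := (isIrrCharacter_central_quot Z hZc ψ).1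
    have hne : (fun n : Z => (ψ : X → ℂ) n / (ψ : X → ℂ) 1) ≠ lam := by
      intro heq
      obtain ⟨z, hz⟩ := hcon ψ hψ
      apply hz
      rw [← heq]
      beta_reduce
      rw [div_mul_cancel₀ _ (apply_one_ne_zero ψ.2)]
    have h0 := irr_classInner_eq_zero hirr hlam hne
    rw [classInner_apply] at h0
    have hZ0 : (Nat.card Z : ℂ)⁻¹ ≠ 0 := inv_ne_zero (card_ne_zero_complex Z)
    have h1 := (mul_eq_zero.mp h0).resolve_left hZ0
    have h2 : ∑ z : Z, (ψ : X → ℂ) z * conj (lam z)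
        = (ψ : X → ℂ) 1 * ∑ z : Z, (ψ : X → ℂ) z / (ψ : X → ℂ) 1 * conj (lam z) := by
      rw [Finset.mul_sum]
      apply Finset.sum_congr rfl
      intro z _
      field_simp [apply_one_ne_zero ψ.2]
    rw [h2, h1, mul_zero]
  -- block orthogonality
  have hblock : ∀ z : Z, z ≠ 1 →
      ∑ χ : IrrCharacter X, (if χ ∈ b then (1 : ℂ) else 0)
        * ((χ : X → ℂ) 1 * (χ : X → ℂ) z) = 0 := by
    intro z hz
    apply sum_degree_mul_eq_zero hM b hclosed
    obtain ⟨k, hk⟩ := (IsPGroup.iff_orderOf.mp hZ) z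
    rw [Subgroup.orderOf_coe, hk]
    have hk0 : k ≠ 0 := by
      rintro rfl
      rw [pow_zero, orderOf_eq_one_iff] at hk
      exact hz hk
    exact dvd_pow_self p hk0
  -- the double sum
  have hS1 : ∑ z : Z, conj (lam z) * ∑ χ : IrrCharacter X, (if χ ∈ b then (1 : ℂ) else 0)
        * ((χ : X → ℂ) 1 * (χ : X → ℂ) z)
      = ∑ χ : IrrCharacter X, (if χ ∈ b then (1 : ℂ) else 0)
        * ((χ : X → ℂ) 1 * (χ : X → ℂ) 1) := by
    rw [Finset.sum_eq_single (1 : Z)]
    · rw [hlam1, map_one, one_mul]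
      rfl
    · intro z _ hz
      rw [hblock z hz, mul_zero]
    · intro h
      exact absurd (Finset.mem_univ _) h
  have hS2 : ∑ z : Z, conj (lam z) * ∑ χ : IrrCharacter X, (if χ ∈ b then (1 : ℂ) else 0)
        * ((χ : X → ℂ) 1 * (χ : X → ℂ) z) = 0 := by
    have h1 : ∀ z : Z, conj (lam z) * ∑ χ : IrrCharacter X, (if χ ∈ b then (1 : ℂ) else 0)
        * ((χ : X → ℂ) 1 * (χ : X → ℂ) z)
        = ∑ χ : IrrCharacter X, (if χ ∈ b then (1 : ℂ) else 0) * (χ : X → ℂ) 1
          * ((χ : X → ℂ) z * conj (lam z)) := by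
      intro z
      rw [Finset.mul_sum]
      apply Finset.sum_congr rfl
      intro χ _
      ring
    rw [Finset.sum_congr rfl (fun z _ => h1 z), Finset.sum_comm]
    apply Finset.sum_eq_zero
    intro χ _
    rw [← Finset.mul_sum]
    by_cases hχ : χ ∈ b
    · rw [horth χ hχ, mul_zero]
    · rw [if_neg hχ, zero_mul, zero_mul]
  rw [hS1] at hS2
  -- positivity
  choose d hd using fun θ : IrrCharacter X => exists_pos_nat_apply_one θ.2
  have h3 : ∑ χ : IrrCharacter X, (if χ ∈ b then d χ * d χ else 0) = 0 := by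
    have : ((∑ χ : IrrCharacter X, (if χ ∈ b then d χ * d χ else 0) : ℕ) : ℂ) = 0 := by
      rw [← hS2]
      push_cast
      apply Finset.sum_congr rfl
      intro χ _
      by_cases hχ : χ ∈ b
      · rw [if_pos hχ, if_pos hχ, (hd χ).2, one_mul]
      · rw [if_neg hχ, if_neg hχ, zero_mul]
    exact_mod_cast this
  have h4 := (Finset.sum_eq_zero_iff.mp h3) ψ₀ (Finset.mem_univ _)
  rw [if_pos hψ₀b] at h4
  have := (hd ψ₀).1
  rcases Nat.mul_eq_zero.mp h4 with h5 | h5 <;> omega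

end Cfsg.Agent.Lib.helper3.Block
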