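import Mathlib
import Cfsg.Prelude.Def_Characters
import Cfsg.Prelude.Def_Blocks
import Cfsg.Agent.Lib.helper3.BlockNil
import Cfsg.Agent.Lib.helper3.BlockOver
import Cfsg.Agent.Lib.helper3.Inflate2
import Cfsg.Agent.Lib.helper3.Irr11

/-!
# A `p`-group has a single block; inflation preserves blocks
-/

set_option autoImplicit false
set_option linter.style.haveILetI false
set_option linter.unusedSectionVars false

namespace Cfsg.Agent.Lib.helper3.Block

open Cfsg Module Cfsg.Agent.Lib.helper3.CharBasic Cfsg.Agent.Lib.helper3.Irr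
open Cfsg.Agent.Lib.helper3.Central Cfsg.Agent.Lib.helper3.LocalM Cfsg.Agent.Lib.helper3.IndFun
open Cfsg.Agent.Lib.helper3.GroupAlgNil
open scoped ComplexConjugate

variable {G : Type*} [Group G] [Fintype G]

/-- On central elements, central characters are multiplicative: `ω(g)^n = ω(g^n)`. -/
theorem centralChar_pow_of_central (g : G) (hg : ∀ x : G, x * g = g * x) (n : ℕ)
    (χ : IrrCharacter G) :
    (centralChar (χ : G → ℂ) g) ^ n = centralChar (χ : G → ℂ) (g ^ n) := by
  classical
  have hconj : ∀ (a z : G), (∀ x : G, x * a = a * x) → (IsConj a z ↔ z = a) := by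
    intro a z ha
    constructor
    · intro h
      obtain ⟨t, ht⟩ := isConj_iff.mp h
      rw [← ht, ha t, mul_assoc, mul_inv_cancel, mul_one]
    · rintro rfl
      exact IsConj.refl _
  have hgn : ∀ x : G, x * g ^ n = g ^ n * x := by
    intro x
    have : Commute x g := hg x
    exact (this.pow_right n)
  have h1 : classSumZ g = MonoidAlgebra.single g (1 : ℤ) := by
    apply MonoidAlgebra.coeff_injective
    ext z
    rw [classSumZ_coeff, MonoidAlgebra.coeff_single, Finsupp.single_apply]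
    by_cases h : z = g
    · rw [if_pos ((hconj g z hg).mpr h), if_pos h.symm]
    · rw [if_neg (fun h' => h ((hconj g z hg).mp h')), if_neg (fun h' => h h'.symm)]
  have h2 : ∀ z : G, coef ((fun χ : IrrCharacter G => centralChar (χ : G → ℂ) g) ^ n) z
      = coef (fun χ : IrrCharacter G => centralChar (χ : G → ℂ) (g ^ n)) z := by
    intro z
    rw [coef_pow_centralChar, h1, MonoidAlgebra.single_pow, one_pow, coef_centralChar,
      MonoidAlgebra.coeff_single, Finsupp.single_apply]
    by_cases h : z = g ^ n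
    · rw [if_pos h.symm, if_pos ((hconj (g ^ n) z hgn).mpr h)]; simp
    · rw [if_neg (fun h' => h h'.symm), if_neg (fun h' => h ((hconj (g ^ n) z hgn).mp h'))]; simp
  have h3 := sum_coef_mul_div ((fun χ : IrrCharacter G => centralChar (χ : G → ℂ) g) ^ n) χ
  have h4 := sum_coef_mul_div (fun χ : IrrCharacter G => centralChar (χ : G → ℂ) (g ^ n)) χ
  rw [Finset.sum_congr rfl (fun z _ => by rw [h2 z])] at h3
  rw [h3] at h4
  exact h4

variable {M : Ideal AlgInt}

theorem centralChar_one_eq_one (χ : IrrCharacter G) : centralChar (χ : G → ℂ) 1 = 1 := by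
  unfold centralChar
  have h0 := apply_one_ne_zero χ.2
  have h1 : Subgroup.centralizer ({(1 : G)} : Set G) = ⊤ := by
    rw [eq_top_iff]
    intro x _
    rw [Subgroup.mem_centralizer_iff]
    intro b hb
    rw [Set.mem_singleton_iff] at hb
    subst hb
    simp
  rw [h1, Subgroup.index_top, Nat.cast_one, one_mul, div_self h0]

/-- A `p`-group has a single block. -/
theorem sameBlock_of_isPGroup {p : ℕ} (hM : IsPModular p M) (hG : IsPGroup p G)
    (χ ψ : IrrCharacter G) : SameBlock M (χ : G → ℂ) (ψ : G → ℂ) := by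
  classical
  haveI : Fact p.Prime := ⟨hM.1⟩
  haveI hMp := isPrime_of_isPModular hM
  have hMtop : M ≠ ⊤ := hM.2.1.ne_top
  intro g
  by_cases hg : ∀ x : G, x * g = g * x
  · -- central: both values are `p`-power roots of unity
    obtain ⟨k, hk⟩ := (IsPGroup.iff_orderOf.mp hG) g
    have key : ∀ φ : IrrCharacter G, MemLocalIdeal M (centralChar (φ : G → ℂ) g - 1) := by
      intro φ
      obtain ⟨w, hw⟩ : ∃ w : AlgInt, (w : ℂ) = centralChar (φ : G → ℂ) g :=
        ⟨⟨_, isIntegral_centralChar φ.2 g⟩, rfl⟩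
      have h1 : w ^ p ^ k = 1 := by
        apply Subtype.ext
        push_cast
        rw [hw, centralChar_pow_of_central g hg, ← hk, pow_orderOf_eq_one, centralChar_one_eq_one]
      have h2 := sub_one_mem_of_pow hM w k h1
      have h3 := memLocalIdeal_of_mem h2 hMtop
      push_cast at h3
      rw [hw] at h3
      exact h3
    have := memLocalIdeal_sub (key χ) (key ψ)
    rwa [sub_sub_sub_cancel_right] at this
  · -- non-central: both values lie in the local ideal
    push Not at hg
    haveI : (⊤ : Subgroup G).Normal := inferInstance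
    have hP : IsPGroup p (⊤ : Subgroup G) := hG.to_subgroup ⊤
    have hno : ∀ x : G, IsConj g x → x ∉ Subgroup.centralizer ((⊤ : Subgroup G) : Set G) := by
      intro x hx hxc
      obtain ⟨t, ht⟩ := isConj_iff.mp hx
      rw [Subgroup.mem_centralizer_iff] at hxc
      obtain ⟨y, hy⟩ := hg
      apply hy
      have h1 := hxc (t * y * t⁻¹) (Subgroup.mem_top _)
      rw [← ht] at h1
      have h2 : t * (y * g) * t⁻¹ = t * (g * y) * t⁻¹ := by
        calc t * (y * g) * t⁻¹ = t * y * t⁻¹ * (t * g * t⁻¹) := by group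
          _ = t * g * t⁻¹ * (t * y * t⁻¹) := h1
          _ = t * (g * y) * t⁻¹ := by group
      exact mul_left_cancel (mul_right_cancel h2)
    exact memLocalIdeal_sub
      (memLocalIdeal_centralChar_of_not_centralizer hM ⊤ hP g hno χ)
      (memLocalIdeal_centralChar_of_not_centralizer hM ⊤ hP g hno ψ)

/-- The class size of the image in a quotient divides the class size. -/
theorem index_centralizer_mk_dvd (N : Subgroup G) [N.Normal] (g : G) :
    (Subgroup.centralizer ({(g : G ⧸ N)} : Set (G ⧸ N))).index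
      ∣ (Subgroup.centralizer ({g} : Set G)).index := by
  have h1 : ((Subgroup.centralizer ({(g : G ⧸ N)} : Set (G ⧸ N))).comap (QuotientGroup.mk' N)).index
      = (Subgroup.centralizer ({(g : G ⧸ N)} : Set (G ⧸ N))).index :=
    Subgroup.index_comap_of_surjective _ (QuotientGroup.mk'_surjective N)
  rw [← h1]
  apply Subgroup.index_dvd_of_le
  intro x hx
  rw [Subgroup.mem_comap, Subgroup.mem_centralizer_iff]
  intro b hb
  rw [Set.mem_singleton_iff] at hb
  subst hb
  rw [Subgroup.mem_centralizer_iff] at hx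
  have := hx g (Set.mem_singleton g)
  show ((g : G ⧸ N)) * ((x : G ⧸ N)) = ((x : G ⧸ N)) * ((g : G ⧸ N))
  rw [← QuotientGroup.mk_mul, ← QuotientGroup.mk_mul, this]

/-- Inflation preserves blocks. -/
theorem sameBlock_inflate (N : Subgroup G) [N.Normal]
    (χ ψ : IrrCharacter (G ⧸ N))
    (h : SameBlock M (χ : G ⧸ N → ℂ) (ψ : G ⧸ N → ℂ)) :
    SameBlock M ((χ : G ⧸ N → ℂ) ∘ QuotientGroup.mk) ((ψ : G ⧸ N → ℂ) ∘ QuotientGroup.mk) := by
  intro g
  obtain ⟨m, hm⟩ := index_centralizer_mk_dvd N g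
  have h1 := h (g : G ⧸ N)
  have hmint : IsIntegral ℤ (m : ℂ) := by
    have : (m : ℂ) = algebraMap ℤ ℂ (m : ℤ) := by simp
    rw [this]
    exact isIntegral_algebraMap
  have h2 := memLocalIdeal_mul_integral h1 hmint
  convert h2 using 1
  unfold centralChar
  simp only [Function.comp_apply, QuotientGroup.mk_one]
  rw [hm]
  push_cast
  ring

/-- A character lying over the trivial character of `N` is trivial on `N`. -/
theorem apply_eq_of_irrOver_one (N : Subgroup G) [hN : N.Normal] [Fintype N] (χ : IrrCharacter G)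
    (hχ : χ ∈ irrOver N (fun _ : N => (1 : ℂ))) (n : G) (hn : n ∈ N) :
    (χ : G → ℂ) n = (χ : G → ℂ) 1 := by
  classical
  have h := clifford N (χ : G → ℂ) χ.2 (fun _ : N => (1 : ℂ)) isIrrCharacter_one hχ
  have hset : {ψ : N → ℂ | ∃ g : G, ψ = fun n : N =>
      (fun _ : N => (1 : ℂ)) ⟨g * n * g⁻¹, hN.conj_mem n n.2 g⟩} = {fun _ : N => (1 : ℂ)} := by
    ext ψ
    simp only [Set.mem_ofPred_eq, Set.mem_singleton_iff]
    constructor
    · rintro ⟨g, rfl⟩
      rfl
    · rintro rfl
      exact ⟨1, rfl⟩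
  rw [hset, finsum_mem_singleton] at h
  have h1 := congrFun h ⟨n, hn⟩
  have h2 := congrFun h 1
  simp only [Pi.smul_apply, smul_eq_mul, mul_one] at h1 h2
  show (χ : G → ℂ) ((⟨n, hn⟩ : N) : G) = (χ : G → ℂ) ((1 : N) : G)
  rw [h1, h2]

/-- Over a normal `p'`-subgroup, inflation reflects blocks. -/
theorem sameBlock_of_sameBlock_inflate {p : ℕ} (hM : IsPModular p M) (N : Subgroup G) [N.Normal]
    (hN : ¬ p ∣ Nat.card N) (χ ψ : IrrCharacter (G ⧸ N))
    (h : SameBlock M ((χ : G ⧸ N → ℂ) ∘ QuotientGroup.mk) ((ψ : G ⧸ N → ℂ) ∘ QuotientGroup.mk)) :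
    SameBlock M (χ : G ⧸ N → ℂ) (ψ : G ⧸ N → ℂ) := by
  classical
  haveI hMp := isPrime_of_isPModular hM
  have hMtop : M ≠ ⊤ := hM.2.1.ne_top
  letI : Fintype (G ⧸ N) := Fintype.ofFinite _
  intro y
  obtain ⟨δ, hδ⟩ : ∃ δ : ℂ, δ = (χ : G ⧸ N → ℂ) y / (χ : G ⧸ N → ℂ) 1
      - (ψ : G ⧸ N → ℂ) y / (ψ : G ⧸ N → ℂ) 1 := ⟨_, rfl⟩
  have hχcf := isClassFunction_of_isCharacter (isCharacter_of_isIrrCharacter χ.2)
  have hψcf := isClassFunction_of_isCharacter (isCharacter_of_isIrrCharacter ψ.2)
  have hsum : MemLocalIdeal M (∑ x : G, if IsConj y (x : G ⧸ N) then δ else 0) := by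
    apply memLocalIdeal_sum_class_fun
    · intro x t
      have e1 : IsConj y ((t * x * t⁻¹ : G) : G ⧸ N) ↔ IsConj y (x : G ⧸ N) := by
        have : IsConj (x : G ⧸ N) ((t * x * t⁻¹ : G) : G ⧸ N) :=
          isConj_iff.mpr ⟨(t : G ⧸ N), by simp⟩
        exact ⟨fun h' => h'.trans this.symm, fun h' => h'.trans this⟩
      by_cases hc : IsConj y (x : G ⧸ N)
      · rw [if_pos hc, if_pos (e1.mpr hc)]
      · rw [if_neg hc, if_neg (fun h' => hc (e1.mp h'))]
    · intro x
      by_cases hc : IsConj y (x : G ⧸ N)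
      · rw [if_pos hc]
        obtain ⟨t, ht⟩ := isConj_iff.mp hc
        have h1 := h x
        have e2 : (χ : G ⧸ N → ℂ) (x : G ⧸ N) = (χ : G ⧸ N → ℂ) y := by
          rw [← ht, hχcf]
        have e3 : (ψ : G ⧸ N → ℂ) (x : G ⧸ N) = (ψ : G ⧸ N → ℂ) y := by
          rw [← ht, hψcf]
        convert h1 using 1
        unfold centralChar
        simp only [Function.comp_apply, QuotientGroup.mk_one]
        rw [e2, e3, hδ]
        ring
      · rw [if_neg hc, mul_zero]
        exact memLocalIdeal_zero hMtop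
  rw [sum_comp_mk N (fun z : G ⧸ N => if IsConj y z then δ else 0)] at hsum
  have e4 : ∑ z : G ⧸ N, (if IsConj y z then δ else 0)
      = ((Subgroup.centralizer ({y} : Set (G ⧸ N))).index : ℂ) * δ := by
    rw [← Finset.sum_filter, Finset.sum_const, nsmul_eq_mul]
    congr 1
    norm_cast
    convert card_class_eq_index y
  rw [e4] at hsum
  obtain ⟨w, hw⟩ : ∃ w : AlgInt, (w : ℂ) = centralChar (χ : G ⧸ N → ℂ) y
      - centralChar (ψ : G ⧸ N → ℂ) y :=
    ⟨⟨_, (isIntegral_centralChar χ.2 y).sub (isIntegral_centralChar ψ.2 y)⟩, rfl⟩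
  have e5 : (((Nat.card N : AlgInt) * w : AlgInt) : ℂ)
      = (Nat.card N : ℂ) * (((Subgroup.centralizer ({y} : Set (G ⧸ N))).index : ℂ) * δ) := by
    push_cast
    rw [hw, hδ]
    unfold centralChar
    have : (((Nat.card N : AlgInt) : AlgInt) : ℂ) = (Nat.card N : ℂ) := by
      push_cast; rfl
    ring
  rw [← e5] at hsum
  have h6 := mem_of_memLocalIdeal hsum
  rcases hMp.mem_or_mem h6 with h7 | h7
  · exact absurd ((natCast_mem_iff hM _).mp h7) hN
  · rw [← hw]
    exact memLocalIdeal_of_mem h7 hMtop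

end Cfsg.Agent.Lib.helper3.Block
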