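import Mathlib
import Cfsg.Prelude.Def_Characters
import Cfsg.Prelude.Def_Blocks
import Cfsg.Agent.Lib.helper3.CProd3
import Cfsg.Agent.Lib.helper3.CProd4
import Cfsg.Agent.Lib.helper3.SecMain11
import Cfsg.Agent.S4434
import Cfsg.Agent.S0908

set_option autoImplicit false
set_option linter.style.haveILetI false
set_option linter.unusedSectionVars false

/-!
# The canonical character of a block with normal defect group `P` when `G = P · C_G(P)`
-/

namespace Cfsg.Agent.Lib.helper3.Block

open Cfsg Cfsg.Agent.Lib.helper3.LocalM Cfsg.Agent.Lib.helper3.CharBasic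
open Cfsg.Agent.Lib.helper3.Irr Cfsg.Agent.Lib.helper3.IndFun Cfsg.Agent.Lib.helper3.Central
open scoped ComplexConjugate

universe u

variable {G : Type u} [Group G] [Fintype G] {M : Ideal AlgInt}

/-- A block whose defect group `P` is a normal subgroup contains a character with `P` in its
kernel whose degree has the full `p`-part of the index of `P`. -/
theorem exists_canonical {p : ℕ} [hp : Fact p.Prime] (hM : IsPModular p M) (P : Subgroup G)
    [hPn : P.Normal] (hP : IsPGroup p P) (B : Set (IrrCharacter G)) (hB : IsPBlock M B)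
    (hD : IsDefectGroup p M B P) :
    ∃ θ ∈ B, (∀ x ∈ P, (θ : G → ℂ) x = (θ : G → ℂ) 1)
      ∧ (charDegree (θ : G → ℂ)).factorization p = P.index.factorization p := by
  classical
  haveI hMp := isPrime_of_isPModular hM
  letI : Fintype (G ⧸ P) := Fintype.ofFinite _
  obtain ⟨Bbar, hBbar, hinfl, hdef⟩ := Cfsg.Agent.S4434.result p M hM P hP B hB
  have hDbar : IsDefectGroup p M Bbar (P.map (QuotientGroup.mk' P)) :=
    (hdef _).mpr ⟨P, hD, rfl⟩
  have hcard := Cfsg.Agent.S0908.result p M hM Bbar hBbar _ hDbar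
  have hbot : P.map (QuotientGroup.mk' P) = ⊥ := by
    rw [Subgroup.map_eq_bot_iff, QuotientGroup.ker_mk']
  rw [hbot, Subgroup.card_bot] at hcard
  have hdef0 : blockDefect p Bbar = 0 := by
    by_contra hne
    have : 1 < p ^ blockDefect p Bbar := Nat.one_lt_pow hne hp.out.one_lt
    omega
  -- a member of the block of minimal degree exponent
  obtain ⟨χ₁, hχ₁⟩ := hBbar
  have hne : ((fun χ : IrrCharacter (G ⧸ P) =>
      (charDegree (χ : G ⧸ P → ℂ)).factorization p) '' Bbar).Nonempty := by
    refine ⟨_, χ₁, ?_, rfl⟩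
    rw [hχ₁]
    exact sameBlock_refl hMp.ne_top _
  obtain ⟨χb, hχbB, hχbmin⟩ := Nat.sInf_mem hne
  beta_reduce at hχbmin
  unfold blockDefect at hdef0
  rw [← hχbmin] at hdef0
  obtain ⟨n, hn, hndvd, hn0⟩ := irr_degree_dvd_card χb.2
  rw [charDegree_eq hn] at hdef0
  have hle : n.factorization p ≤ (Nat.card (G ⧸ P)).factorization p :=
    (Nat.factorization_le_iff_dvd hn0.ne' Nat.card_pos.ne').mpr hndvd p
  have hθirr : IsIrrCharacter G (inflate P (χb : G ⧸ P → ℂ)) := isIrrCharacter_inflate P χb.2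
  refine ⟨⟨_, hθirr⟩, ?_, ?_, ?_⟩
  · exact hinfl χb hχbB ⟨_, hθirr⟩ rfl
  · intro x hx
    exact inflate_apply_of_mem P _ hx
  · show (charDegree (inflate P (χb : G ⧸ P → ℂ))).factorization p = _
    have h1 : inflate P (χb : G ⧸ P → ℂ) 1 = n := by
      rw [inflate_apply, QuotientGroup.mk_one, hn]
    rw [charDegree_eq h1, Subgroup.index_eq_card]
    omega

end Cfsg.Agent.Lib.helper3.Block
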