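import Mathlib
import Cfsg.Prelude.Def_Blocks
import Cfsg.Prelude.Def_BrauerPairs
import Cfsg.Agent.Lib.helper3.IndBlockLocal
import Cfsg.Agent.Lib.helper3.BrauerMap2
import Cfsg.Agent.Lib.helper3.AutBlock2
import Cfsg.Agent.Lib.helper3.SubpairBlock

/-!
# Nonzero Brauer images of idempotents lie over a block
-/

set_option autoImplicit false
set_option linter.style.haveILetI false
set_option linter.unusedSectionVars false

namespace Cfsg.Agent.Lib.helper3.Block

open Cfsg Module Cfsg.Agent.Lib.helper3.CharBasic Cfsg.Agent.Lib.helper3.Irr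
open Cfsg.Agent.Lib.helper3.Central Cfsg.Agent.Lib.helper3.LocalM Cfsg.Agent.Lib.helper3.IndFun
open Cfsg.Agent.Lib.helper3.Lin
open scoped ComplexConjugate

variable {G : Type*} [Group G] [Fintype G] {M : Ideal AlgInt}

/-- If the Brauer functional of an idempotent `a`, invariant under `R` and `C_G(R)`, at every
irreducible character of `C_G(R)` lies in the local ideal, then all the coefficients of `a` on
`C_G(R)` lie in the local ideal. -/
theorem memLocalIdeal_of_brauerOmega_idem {p : ℕ} [hp : Fact p.Prime]
    (hM : IsPModular p M) (R : Subgroup G) (hR : IsPGroup p R)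
    [Fintype (Subgroup.centralizer (R : Set G))] (a : G → ℂ)
    (haloc : ∀ g, MemLocalRing M (a g))
    (haR : ∀ u ∈ R, ∀ g, a (u * g * u⁻¹) = a g)
    (haC : ∀ u ∈ Subgroup.centralizer (R : Set G), ∀ g, a (u * g * u⁻¹) = a g)
    (hidem : conv a a = a)
    (h : ∀ ξ : IrrCharacter (Subgroup.centralizer (R : Set G)),
      MemLocalIdeal M (brauerOmega R a (ξ : Subgroup.centralizer (R : Set G) → ℂ)))
    (c : G) (hc : c ∈ Subgroup.centralizer (R : Set G)) :
    MemLocalIdeal M (a c) := by
  classical
  haveI hMp := isPrime_of_isPModular hM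
  have hMtop : M ≠ ⊤ := hM.2.1.ne_top
  obtain ⟨z, hz⟩ : ∃ z : G → ℂ, z = fun g =>
      if g ∈ Subgroup.centralizer (R : Set G) then a g else 0 := ⟨_, rfl⟩
  have hz_mem : ∀ g, g ∈ Subgroup.centralizer (R : Set G) → z g = a g := by
    intro g hg
    rw [hz]
    beta_reduce
    rw [if_pos hg]
  have hz_supp : ∀ g, g ∉ Subgroup.centralizer (R : Set G) → z g = 0 := by
    intro g hg
    rw [hz]
    beta_reduce
    rw [if_neg hg]
  have hz_loc : ∀ g, MemLocalRing M (z g) := by
    intro g
    by_cases hg : g ∈ Subgroup.centralizer (R : Set G)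
    · rw [hz_mem g hg]
      exact haloc g
    · rw [hz_supp g hg]
      exact memLocalRing_of_integral isIntegral_zero
  have hz_C : ∀ x ∈ Subgroup.centralizer (R : Set G), ∀ g, z (x * g * x⁻¹) = z g := by
    intro x hx g
    have hiff : g ∈ Subgroup.centralizer (R : Set G)
        ↔ x * g * x⁻¹ ∈ Subgroup.centralizer (R : Set G) := by
      constructor
      · intro hg
        exact Subgroup.mul_mem _ (Subgroup.mul_mem _ hx hg) (Subgroup.inv_mem _ hx)
      · intro hg
        have := Subgroup.mul_mem _ (Subgroup.mul_mem _ (Subgroup.inv_mem _ hx) hg) hx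
        rwa [show x⁻¹ * (x * g * x⁻¹) * x = g by group] at this
    by_cases hg : g ∈ Subgroup.centralizer (R : Set G)
    · rw [hz_mem g hg, hz_mem _ (hiff.mp hg), haC x hx g]
    · rw [hz_supp g hg, hz_supp _ (fun h' => hg (hiff.mpr h'))]
  have hcθ : ∀ θ : IrrCharacter (Subgroup.centralizer (R : Set G)),
      MemLocalIdeal M (∑ x : Subgroup.centralizer (R : Set G), z (x : G)
        * ((θ : Subgroup.centralizer (R : Set G) → ℂ) x
          / (θ : Subgroup.centralizer (R : Set G) → ℂ) 1)) := by
    intro θ
    have := h θ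
    rw [brauerOmega_eq_sum] at this
    convert this using 1
    apply Finset.sum_congr rfl
    intro x _
    rw [hz_mem _ x.2]
  obtain ⟨n, hn⟩ := exists_pow_coef_memLocalIdeal hM _ hcθ
  obtain ⟨h1, h2⟩ := cpow_eq_coef (Subgroup.centralizer (R : Set G)) z hz_supp hz_C n
  have hval : ∀ g, MemLocalIdeal M (cpow z n g) := by
    intro g
    by_cases hg : g ∈ Subgroup.centralizer (R : Set G)
    · have := h2 ⟨g, hg⟩
      rw [show ((⟨g, hg⟩ : Subgroup.centralizer (R : Set G)) : G) = g from rfl] at this
      rw [this]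
      exact hn _
    · rw [h1 g hg]
      exact memLocalIdeal_zero hMtop
  have hval' : ∀ g, MemLocalIdeal M (cpow z (n + 1) g) := by
    intro g
    rw [cpow_succ]
    unfold conv
    apply memLocalIdeal_sum
    intro y _
    rw [mul_comm]
    exact memLocalIdeal_mul_localRing (hz_loc _) (hval y)
  have hidem' : ∀ m : ℕ, ∀ x ∈ Subgroup.centralizer (R : Set G),
      MemLocalIdeal M (cpow z (m + 1) x - z x) := by
    intro m
    induction m with
    | zero =>
      intro x _
      rw [cpow_succ, cpow_zero, conv_deltaOne, sub_self]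
      exact memLocalIdeal_zero hMtop
    | succ m ih =>
      intro x hx
      have hsupp_m : ∀ g, g ∉ Subgroup.centralizer (R : Set G) → cpow z (m + 1) g = 0 :=
        (cpow_eq_coef (Subgroup.centralizer (R : Set G)) z hz_supp hz_C (m + 1)).1
      rw [cpow_succ, conv_of_support (Subgroup.centralizer (R : Set G)) _ _ hsupp_m]
      have e1 := memLocalIdeal_conv_sub_trunc hM R hR a a haloc haloc haR haR x hx
      rw [hidem] at e1
      have e2 : MemLocalIdeal M (∑ y : Subgroup.centralizer (R : Set G),
          (cpow z (m + 1) (y : G) - z (y : G)) * z ((y : G)⁻¹ * x)) := by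
        apply memLocalIdeal_sum
        intro y _
        rw [mul_comm]
        exact memLocalIdeal_mul_localRing (hz_loc _) (ih y y.2)
      have e3 : ∑ y : Subgroup.centralizer (R : Set G), z (y : G) * z ((y : G)⁻¹ * x)
          = ∑ y : Subgroup.centralizer (R : Set G), a (y : G) * a ((y : G)⁻¹ * x) := by
        apply Finset.sum_congr rfl
        intro y _
        rw [hz_mem _ y.2, hz_mem _ (Subgroup.mul_mem _ (Subgroup.inv_mem _ y.2) hx)]
      have e4 := memLocalIdeal_sub e2 e1
      convert e4 using 1
      have : ∀ y : Subgroup.centralizer (R : Set G),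
          (cpow z (m + 1) (y : G) - z (y : G)) * z ((y : G)⁻¹ * x)
          = cpow z (m + 1) (y : G) * z ((y : G)⁻¹ * x) - z (y : G) * z ((y : G)⁻¹ * x) := by
        intro y
        ring
      rw [hz_mem x hx, ← e3, Finset.sum_congr rfl (fun y _ => this y), Finset.sum_sub_distrib]
      ring
  have h3 := hidem' n c hc
  have h4 := memLocalIdeal_sub (hval' c) h3
  rw [sub_sub_cancel, hz_mem c hc] at h4
  exact h4

end Cfsg.Agent.Lib.helper3.Block
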