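import Mathlib
import Cfsg.Prelude.Def_Blocks
import Cfsg.Prelude.Def_BrauerPairs
import Cfsg.Agent.Lib.helper3.MaxPair1
import Cfsg.Agent.Lib.helper3.BrauerMap3

/-!
# A Brauer pair above a given one
-/

set_option autoImplicit false
set_option linter.style.haveILetI false
set_option linter.unusedSectionVars false

namespace Cfsg.Agent.Lib.helper3.Block

open Cfsg Module Cfsg.Agent.Lib.helper3.CharBasic Cfsg.Agent.Lib.helper3.Irr
open Cfsg.Agent.Lib.helper3.Central Cfsg.Agent.Lib.helper3.LocalM Cfsg.Agent.Lib.helper3.IndFun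
open Cfsg.Agent.Lib.helper3.Lin
open scoped ComplexConjugate

variable {G : Type*} [Group G] [Fintype G] {M : Ideal AlgInt}

/-- If the idempotent of the `R`-stable block `e` of `C_G(P)`, `P ≤ R`, has a coefficient outside
the local ideal at an element of `C_G(R)`, then `e` occurs below a block of `C_G(R)`. -/
theorem exists_block_above {p : ℕ} [hp : Fact p.Prime] (hM : IsPModular p M)
    (P R : Subgroup G) (hR : IsPGroup p R) (hPR : P ≤ R)
    (e : Set (IrrCharacter (Subgroup.centralizer (P : Set G)))) (he : IsPBlock M e)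
    (hst : ∀ r ∈ R, StabilizesBlock (Subgroup.centralizer (P : Set G)) e r)
    (x : G) (hx : x ∈ Subgroup.centralizer (R : Set G))
    (hxe : ¬ MemLocalIdeal M (subgroupBlockCoeff (Subgroup.centralizer (P : Set G)) e x)) :
    ∃ g : Set (IrrCharacter (Subgroup.centralizer (R : Set G))), IsPBlock M g ∧
      ∀ ξ ∈ g, MemLocalIdeal M
        (brauerOmega R (subgroupBlockCoeff (Subgroup.centralizer (P : Set G)) e)
          (ξ : Subgroup.centralizer (R : Set G) → ℂ) - 1) := by
  classical
  haveI : Fintype (Subgroup.centralizer (P : Set G)) := Fintype.ofFinite _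
  haveI : Fintype (Subgroup.centralizer (R : Set G)) := Fintype.ofFinite _
  haveI hMp := isPrime_of_isPModular hM
  have hMtop : M ≠ ⊤ := hM.2.1.ne_top
  obtain ⟨a, ha⟩ : ∃ a : G → ℂ, a = subgroupBlockCoeff (Subgroup.centralizer (P : Set G)) e :=
    ⟨_, rfl⟩
  rw [← ha] at hxe ⊢
  have hCRP : Subgroup.centralizer (R : Set G) ≤ Subgroup.centralizer (P : Set G) :=
    Subgroup.centralizer_le hPR
  have haloc : ∀ g, MemLocalRing M (a g) := by
    intro g
    rw [ha]
    exact memLocalRing_subgroupBlockCoeff hM _ e he g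
  have haR : ∀ u ∈ R, ∀ g, a (u * g * u⁻¹) = a g := by
    intro u hu g
    rw [ha]
    exact subgroupBlockCoeff_conj_of_stabilizes _ e he u (hst u hu) g
  have haC : ∀ u ∈ Subgroup.centralizer (R : Set G), ∀ g, a (u * g * u⁻¹) = a g := by
    intro u hu g
    rw [ha]
    exact subgroupBlockCoeff_conj_of_mem _ e u (hCRP hu) g
  have hidem : conv a a = a := by
    rw [ha]
    exact conv_subgroupBlockCoeff_self _ e
  have hex : ∃ θ : IrrCharacter (Subgroup.centralizer (R : Set G)),
      ¬ MemLocalIdeal M (brauerOmega R a (θ : Subgroup.centralizer (R : Set G) → ℂ)) := by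
    by_contra hcon
    push Not at hcon
    exact hxe (memLocalIdeal_of_brauerOmega_idem hM R hR a haloc haR haC hidem hcon x hx)
  obtain ⟨θ, hθ⟩ := hex
  have hΛloc : ∀ ξ : IrrCharacter (Subgroup.centralizer (R : Set G)),
      MemLocalRing M (brauerOmega R a (ξ : Subgroup.centralizer (R : Set G) → ℂ)) :=
    fun ξ => memLocalRing_brauerOmega R a haloc haC ξ
  have hθ1 : MemLocalIdeal M (brauerOmega R a (θ : Subgroup.centralizer (R : Set G) → ℂ) - 1) := by
    have h1 := memLocalIdeal_brauerOmega_conv hM R hR a a haloc haloc haR haR haC haC θ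
    rw [hidem] at h1
    have h2 := memLocalIdeal_neg h1
    have h3 : MemLocalIdeal M (brauerOmega R a (θ : Subgroup.centralizer (R : Set G) → ℂ)
        * (brauerOmega R a (θ : Subgroup.centralizer (R : Set G) → ℂ) - 1)) := by
      convert h2 using 1
      ring
    have h4 : MemLocalRing M (brauerOmega R a (θ : Subgroup.centralizer (R : Set G) → ℂ) - 1) := by
      obtain ⟨a1, a2, ha2, ha'⟩ := hΛloc θ
      refine ⟨a1 - a2, a2, ha2, ?_⟩
      rw [← ha']
      have := coe_ne_zero_of_notMem ha2
      push_cast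
      field_simp
    rcases memLocalIdeal_or_of_mul_local (hΛloc θ) h4 h3 with h | h
    · exact absurd h hθ
    · exact h
  refine ⟨blockOf M (θ : Subgroup.centralizer (R : Set G) → ℂ), ⟨θ, rfl⟩, ?_⟩
  intro ξ hξ
  have h1 := memLocalIdeal_brauerOmega_sub hM R a haloc haC ξ θ (sameBlock_symm hξ)
  have h2 := memLocalIdeal_add h1 hθ1
  convert h2 using 1
  ring

end Cfsg.Agent.Lib.helper3.Block
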