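import Mathlib
import Cfsg.Prelude.Def_Blocks
import Cfsg.Prelude.Def_BlockLocal
import Cfsg.Prelude.Def_BrauerPairs
import Cfsg.Agent.Lib.helper3.NormalSupp
import Cfsg.Agent.Lib.helper3.IrrCongr
import Cfsg.Agent.Lib.helper3.AutBlock2

/-!
# The idempotent of the orbit of a block of a normal subgroup as a trace
-/

set_option autoImplicit false
set_option linter.style.haveILetI false
set_option linter.unusedSectionVars false

namespace Cfsg.Agent.Lib.helper3.Block

open Cfsg Module Cfsg.Agent.Lib.helper3.CharBasic Cfsg.Agent.Lib.helper3.Irr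
open Cfsg.Agent.Lib.helper3.Central Cfsg.Agent.Lib.helper3.LocalM Cfsg.Agent.Lib.helper3.IndFun
open Cfsg.Agent.Lib.helper3.Lin
open scoped ComplexConjugate

variable {G : Type*} [Group G] [Fintype G] {M : Ideal AlgInt}

theorem coe_conjIrr (N : Subgroup G) [hN : N.Normal] [Fintype N] (g : G) (θ : IrrCharacter N) :
    ((conjIrr N g θ : IrrCharacter N) : N → ℂ) = conjFun N (θ : N → ℂ) g := rfl

/-- For a member `ξ` of a block `e` of the normal subgroup `N`, the conjugate of `ξ` by `z` lies in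
`e` iff `z` stabilizes `e`. -/
theorem conjIrr_mem_iff_stabilizes [hMp : M.IsPrime] (N : Subgroup G) [hN : N.Normal]
    [Fintype N] (e : Set (IrrCharacter N)) (he : IsPBlock M e) (ξ : IrrCharacter N) (hξ : ξ ∈ e)
    (z : G) : conjIrr N z ξ ∈ e ↔ StabilizesBlock N e z⁻¹ := by
  obtain ⟨ξ', he'⟩ := id he
  constructor
  · intro h
    refine ⟨?_, ?_⟩
    · rw [Subgroup.normalizer_eq_top]
      exact Subgroup.mem_top _
    · intro χ hχ
      refine ⟨conjIrr N z χ, ?_, ?_⟩
      · rw [he'] at hξ hχ h ⊢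
        have h1 : SameBlock M (ξ : N → ℂ) (χ : N → ℂ) := sameBlock_trans (sameBlock_symm hξ) hχ
        have h2 := sameBlock_conjFun N h1 z
        exact sameBlock_trans h h2
      · intro k k' hk
        rw [coe_conjIrr]
        unfold conjFun
        have hkk : (⟨z * (k' : G) * z⁻¹, hN.conj_mem k' k'.2 z⟩ : N) = k := by
          apply Subtype.ext
          show z * (k' : G) * z⁻¹ = (k : G)
          rw [hk]
          group
        rw [hkk]
  · rintro ⟨-, h⟩
    obtain ⟨χ', hχ', hconj⟩ := h ξ hξ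
    have : χ' = conjIrr N z ξ := by
      apply Subtype.ext
      rw [coe_conjIrr]
      funext k
      unfold conjFun
      exact hconj ⟨z * k * z⁻¹, hN.conj_mem k k.2 z⟩ k (by
        show (k : G) = z⁻¹ * (z * (k : G) * z⁻¹) * z⁻¹⁻¹
        group)
    rw [← this]
    exact hχ'

open Classical in
/-- The idempotent of the orbit of a block `e` of the normal subgroup `N` is the trace of the
idempotent of `e` from the stabilizer `T`. -/
theorem subgroupBlockCoeff_conjOrbit [hMp : M.IsPrime] (N : Subgroup G) [hN : N.Normal]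
    [Fintype N] (e : Set (IrrCharacter N)) (he : IsPBlock M e) (T : Subgroup G)
    (hT : ∀ x : G, x ∈ T ↔ StabilizesBlock N e x) (g : G) :
    subgroupBlockCoeff N (conjOrbit N e) g
      = (Nat.card T : ℂ)⁻¹ * ∑ x : G, subgroupBlockCoeff N e (x⁻¹ * g * x) := by
  have hT0 : (Nat.card T : ℂ) ≠ 0 := by
    have : Nat.card T ≠ 0 := Nat.card_pos.ne'
    exact_mod_cast this
  by_cases hg : g ∈ N
  · -- the count
    have hcount : ∀ θ' : IrrCharacter N,
        ∑ x : G, (if conjIrr N x θ' ∈ e then (1 : ℂ) else 0)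
          = if θ' ∈ conjOrbit N e then (Nat.card T : ℂ) else 0 := by
      intro θ'
      by_cases hθ' : θ' ∈ conjOrbit N e
      · rw [if_pos hθ']
        obtain ⟨y, ξ, hξ, hy⟩ := hθ'
        have h1 : ∀ x : G, conjIrr N x θ' ∈ e ↔ y * x ∈ T := by
          intro x
          have e1 : conjIrr N x θ' = conjIrr N (y * x) ξ := by
            apply Subtype.ext
            rw [coe_conjIrr, coe_conjIrr, hy, conjFun_mul]
          rw [e1, conjIrr_mem_iff_stabilizes N e he ξ hξ, ← hT]
          exact T.inv_mem_iff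
        simp_rw [h1]
        rw [Fintype.sum_equiv (Equiv.mulLeft y) (fun x => if y * x ∈ T then (1 : ℂ) else 0)
          (fun x => if x ∈ T then (1 : ℂ) else 0) (fun x => rfl)]
        rw [Finset.sum_boole, Nat.card_eq_fintype_card, Fintype.card_subtype]
      · rw [if_neg hθ']
        apply Finset.sum_eq_zero
        intro x _
        rw [if_neg]
        intro h
        apply hθ'
        refine ⟨x⁻¹, conjIrr N x θ', h, ?_⟩
        rw [coe_conjIrr, conjFun_mul, mul_inv_cancel, conjFun_one]
    have hterm : ∀ x : G, subgroupBlockCoeff N e (x⁻¹ * g * x)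
        = (Nat.card N : ℂ)⁻¹ * ∑ θ' : IrrCharacter N,
          (if conjIrr N x θ' ∈ e then (1 : ℂ) else 0) * (θ' : N → ℂ) 1
            * conj ((θ' : N → ℂ) ⟨g, hg⟩) := by
      intro x
      have hx : x⁻¹ * g * x ∈ N := by
        have := hN.conj_mem g hg x⁻¹
        rwa [inv_inv] at this
      rw [subgroupBlockCoeff_of_mem N e hx, blockCoeff_eq_coef]
      unfold coef
      congr 1
      apply Fintype.sum_equiv (conjIrr N x⁻¹)
      intro θ
      have e1 : conjIrr N x (conjIrr N x⁻¹ θ) = θ := by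
        apply Subtype.ext
        rw [coe_conjIrr, coe_conjIrr, conjFun_mul, inv_mul_cancel, conjFun_one]
      rw [e1, coe_conjIrr, conjFun_apply_one]
      beta_reduce
      have e2 : conjFun N (θ : N → ℂ) x⁻¹ ⟨g, hg⟩ = (θ : N → ℂ) ⟨x⁻¹ * g * x, hx⟩ := by
        unfold conjFun
        have e3 : (⟨x⁻¹ * ((⟨g, hg⟩ : N) : G) * x⁻¹⁻¹, hN.conj_mem _ hg x⁻¹⟩ : N)
            = ⟨x⁻¹ * g * x, hx⟩ := by
          apply Subtype.ext
          show x⁻¹ * g * x⁻¹⁻¹ = x⁻¹ * g * x
          rw [inv_inv]
        rw [e3]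
      rw [e2]
    rw [subgroupBlockCoeff_of_mem N _ hg, blockCoeff_eq_coef]
    unfold coef
    simp_rw [hterm]
    rw [← Finset.mul_sum, Finset.sum_comm]
    have h2 : ∀ θ' : IrrCharacter N, ∑ x : G, (if conjIrr N x θ' ∈ e then (1 : ℂ) else 0)
        * (θ' : N → ℂ) 1 * conj ((θ' : N → ℂ) ⟨g, hg⟩)
        = (Nat.card T : ℂ) * ((if θ' ∈ conjOrbit N e then (1 : ℂ) else 0) * (θ' : N → ℂ) 1
          * conj ((θ' : N → ℂ) ⟨g, hg⟩)) := by
      intro θ'
      rw [← Finset.sum_mul, ← Finset.sum_mul, hcount]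
      by_cases hθ' : θ' ∈ conjOrbit N e
      · rw [if_pos hθ', if_pos hθ']
        ring
      · rw [if_neg hθ', if_neg hθ']
        ring
    rw [Finset.sum_congr rfl (fun θ' _ => h2 θ'), ← Finset.mul_sum]
    field_simp
  · rw [subgroupBlockCoeff_of_notMem N _ hg]
    have : ∀ x : G, subgroupBlockCoeff N e (x⁻¹ * g * x) = 0 := by
      intro x
      apply subgroupBlockCoeff_of_notMem
      intro h
      apply hg
      have := hN.conj_mem _ h x
      rwa [show x * (x⁻¹ * g * x) * x⁻¹ = g by group] at this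
    simp_rw [this]
    rw [Finset.sum_const_zero, mul_zero]

end Cfsg.Agent.Lib.helper3.Block
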