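import Mathlib
import Cfsg.Prelude.Def_Blocks
import Cfsg.Prelude.Def_BrauerPairs
import Cfsg.Agent.Lib.helper3.MaxPair2
import Cfsg.Agent.Lib.helper3.ProjVanish2
import Cfsg.Agent.Lib.helper3.QuotDefect
import Cfsg.Agent.S4654
import Cfsg.Agent.S0912

/-!
# Maximal Brauer pairs on a normal `p`-subgroup
-/

set_option autoImplicit false
set_option linter.style.haveILetI false
set_option linter.unusedSectionVars false

namespace Cfsg.Agent.Lib.helper3.Block

open Cfsg Module Cfsg.Agent.Lib.helper3.CharBasic Cfsg.Agent.Lib.helper3.Irr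
open Cfsg.Agent.Lib.helper3.Central Cfsg.Agent.Lib.helper3.LocalM Cfsg.Agent.Lib.helper3.IndFun
open Cfsg.Agent.Lib.helper3.Lin
open scoped ComplexConjugate

universe u

variable {G : Type u} [Group G] [Fintype G] {M : Ideal AlgInt}

/-- Let `(P, e)` be a Brauer pair of the block `β` with `P` normal, `T` the stabilizer of `e`.  If no
`p`-subgroup of `T` properly containing `P` centralizes an element at which the idempotent of `e`
has a coefficient outside the local ideal, then `P` is a defect group of `β`. -/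
theorem isDefectGroup_of_normal_pair {p : ℕ} [hp : Fact p.Prime] (hM : IsPModular p M)
    (P : Subgroup G) [hPn : P.Normal] (hP : IsPGroup p P) (β : Set (IrrCharacter G))
    (e : Set (IrrCharacter (Subgroup.centralizer (P : Set G))))
    (hβe : IsBrauerPairOf p M β P e) (T : Subgroup G)
    (hT : ∀ x : G, x ∈ T ↔ StabilizesBlock (Subgroup.centralizer (P : Set G)) e x)
    (hmax : ∀ R : Subgroup G, IsPGroup p R → P ≤ R → R ≤ T →
      (∃ x ∈ Subgroup.centralizer (R : Set G),
        ¬ MemLocalIdeal M (subgroupBlockCoeff (Subgroup.centralizer (P : Set G)) e x)) → R = P) :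
    IsDefectGroup p M β P := by
  classical
  haveI : Fintype (Subgroup.centralizer (P : Set G)) := Fintype.ofFinite _
  haveI hMp := isPrime_of_isPModular hM
  have hMtop : M ≠ ⊤ := hM.2.1.ne_top
  have htrace := (Cfsg.Agent.S4654.result p M hM P hP β e hβe T hT).2
  have hβ : IsPBlock M β := hβe.2.1
  have he : IsPBlock M e := hβe.1.2
  obtain ⟨y, hy⟩ := exists_defectClass hM β hβ
  obtain ⟨S₀⟩ : Nonempty (Sylow p (Subgroup.centralizer ({y} : Set G))) := inferInstance
  obtain ⟨D, hDdef⟩ : ∃ D : Subgroup G, D = (S₀ : Subgroup (Subgroup.centralizer ({y} : Set G))).map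
      (Subgroup.centralizer ({y} : Set G)).subtype := ⟨_, rfl⟩
  have hD : IsDefectGroup p M β D := ⟨y, hy, S₀, hDdef⟩
  have hDp : IsPGroup p D := by
    rw [hDdef]
    exact S₀.isPGroup'.map _
  have hDy : ∀ u ∈ D, u * y = y * u := by
    intro u hu
    rw [hDdef] at hu
    obtain ⟨c, -, rfl⟩ := hu
    exact Subgroup.mem_centralizer_singleton_iff.mp c.2
  have hPD : P ≤ D := by
    refine le_trans ?_ (Cfsg.Agent.S0912.result p M hM β hβ D hD)
    exact le_sSup ⟨hPn, hP⟩
  -- the trace formula at `y`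
  obtain ⟨F, hF⟩ : ∃ F : G → ℂ, F = fun x : G =>
      subgroupBlockCoeff (Subgroup.centralizer (P : Set G)) e (x⁻¹ * y * x) := ⟨_, rfl⟩
  have hFapp : ∀ x, F x = subgroupBlockCoeff (Subgroup.centralizer (P : Set G)) e (x⁻¹ * y * x) :=
    fun x => by rw [hF]
  have hFloc : ∀ x, MemLocalRing M (F x) := by
    intro x
    rw [hFapp]
    exact memLocalRing_subgroupBlockCoeff hM _ e he _
  have hFT : ∀ (x : G) (t : G), t ∈ T → F (x * t) = F x := by
    intro x t ht
    rw [hFapp, hFapp]
    have h1 := subgroupBlockCoeff_conj_of_stabilizes _ e he t⁻¹ ((hT _).mp (T.inv_mem ht))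
      (x⁻¹ * y * x)
    rw [← h1]
    congr 1
    group
  have hFD : ∀ (u : G) (x : G), u ∈ D → F (u * x) = F x := by
    intro u x hu
    rw [hFapp, hFapp]
    congr 1
    have h1 := hDy u hu
    calc (u * x)⁻¹ * y * (u * x) = x⁻¹ * (u⁻¹ * (y * u)) * x := by group
      _ = x⁻¹ * y * x := by rw [← h1]; group
  have hT0 : (Nat.card T : ℂ) ≠ 0 := card_ne_zero_complex T
  have hsum : blockCoeff β y = ∑ c : G ⧸ T, F (Quotient.out c) := by
    rw [htrace y]
    have h1 : ∑ x : G, subgroupBlockCoeff (Subgroup.centralizer (P : Set G)) e (x⁻¹ * y * x)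
        = ∑ x : G, F x := by
      apply Finset.sum_congr rfl
      intro x _
      rw [hFapp]
    rw [h1, ← (cosetProdEquiv T).sum_comp, Fintype.sum_prod_type]
    have h2 : ∀ c : G ⧸ T, ∑ z : T, F (cosetProdEquiv T (c, z))
        = (Nat.card T : ℂ) * F (Quotient.out c) := by
      intro c
      have : ∀ z : T, F (cosetProdEquiv T (c, z)) = F (Quotient.out c) := by
        intro z
        rw [cosetProdEquiv_apply]
        exact hFT _ _ z.2
      rw [Finset.sum_congr rfl (fun z _ => this z), Finset.sum_const, Finset.card_univ,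
        nsmul_eq_mul, Nat.card_eq_fintype_card]
    rw [Finset.sum_congr rfl (fun c _ => h2 c), ← Finset.mul_sum, ← mul_assoc,
      inv_mul_cancel₀ hT0, one_mul]
  have hnot : ¬ MemLocalIdeal M (∑ c : G ⧸ T, F (Quotient.out c)) := by
    rw [← hsum]
    exact hy.2.1
  have hout : ∀ (u : D) (c : G ⧸ T), ∃ t ∈ T, Quotient.out (u • c) = (u : G) * Quotient.out c * t := by
    intro u c
    have h1 : (QuotientGroup.mk (Quotient.out (u • c)) : G ⧸ T)
        = QuotientGroup.mk ((u : G) * Quotient.out c) := by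
      calc (QuotientGroup.mk (Quotient.out (u • c)) : G ⧸ T) = u • c := QuotientGroup.out_eq' _
        _ = (u : G) • c := rfl
        _ = (u : G) • (QuotientGroup.mk (Quotient.out c) : G ⧸ T) := by
            rw [QuotientGroup.out_eq']
        _ = QuotientGroup.mk ((u : G) * Quotient.out c) := rfl
    have h2 := QuotientGroup.eq.mp h1.symm
    refine ⟨_, h2, ?_⟩
    group
  obtain ⟨c, hcfix, hc⟩ := exists_fixed_of_sum_notMem (P := D) hM hDp
    (fun c : G ⧸ T => F (Quotient.out c)) (fun c => hFloc _)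
    (by
      intro u c
      beta_reduce
      obtain ⟨t, ht, hout'⟩ := hout u c
      rw [hout', hFT _ _ ht, hFD _ _ u.2]) hnot
  beta_reduce at hc
  obtain ⟨x, hx⟩ : ∃ x : G, x = Quotient.out c := ⟨_, rfl⟩
  rw [← hx] at hc
  have hxD : ∀ u ∈ D, x⁻¹ * u * x ∈ T := by
    intro u hu
    obtain ⟨t, ht, hout'⟩ := hout ⟨u, hu⟩ c
    rw [hcfix ⟨u, hu⟩, ← hx] at hout'
    have : x⁻¹ * u * x = t⁻¹ := by
      have h3 : x * t⁻¹ = u * x := by
        calc x * t⁻¹ = (u * x * t) * t⁻¹ := by rw [← hout']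
          _ = u * x := by group
      calc x⁻¹ * u * x = x⁻¹ * (u * x) := by group
        _ = x⁻¹ * (x * t⁻¹) := by rw [h3]
        _ = t⁻¹ := by group
    rw [this]
    exact T.inv_mem ht
  obtain ⟨R, hRdef⟩ : ∃ R : Subgroup G, R = D.map (MulAut.conj x⁻¹).toMonoidHom := ⟨_, rfl⟩
  have hRmem : ∀ r : G, r ∈ R ↔ ∃ u ∈ D, x⁻¹ * u * x = r := by
    intro r
    rw [hRdef]
    constructor
    · rintro ⟨u, hu, rfl⟩
      refine ⟨u, hu, ?_⟩
      show x⁻¹ * u * x = x⁻¹ * u * x⁻¹⁻¹
      rw [inv_inv]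
    · rintro ⟨u, hu, rfl⟩
      refine ⟨u, hu, ?_⟩
      show x⁻¹ * u * x⁻¹⁻¹ = x⁻¹ * u * x
      rw [inv_inv]
  have hRp : IsPGroup p R := by
    rw [hRdef]
    exact hDp.map _
  have hPR : P ≤ R := by
    intro u hu
    rw [hRmem]
    refine ⟨x * u * x⁻¹, hPD (hPn.conj_mem u hu x), ?_⟩
    group
  have hRT : R ≤ T := by
    intro r hr
    obtain ⟨u, hu, rfl⟩ := (hRmem r).mp hr
    exact hxD u hu
  have hRP := hmax R hRp hPR hRT ⟨x⁻¹ * y * x, by
    rw [Subgroup.mem_centralizer_iff]
    intro r hr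
    obtain ⟨u, hu, rfl⟩ := (hRmem r).mp hr
    have h1 := hDy u hu
    calc x⁻¹ * u * x * (x⁻¹ * y * x) = x⁻¹ * (u * y) * x := by group
      _ = x⁻¹ * (y * u) * x := by rw [h1]
      _ = x⁻¹ * y * x * (x⁻¹ * u * x) := by group, by
    rw [← hFapp]
    exact hc⟩
  have hcard : Nat.card D = Nat.card P := by
    rw [← hRP, hRdef]
    exact (Subgroup.card_map_of_injective (MulAut.conj x⁻¹).injective).symm
  have hDP : P = D := Subgroup.eq_of_le_of_card_ge hPD (le_of_eq hcard)
  rw [hDP]
  exact hD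

end Cfsg.Agent.Lib.helper3.Block
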