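import Mathlib
import Cfsg.Prelude.Def_Blocks
import Cfsg.Prelude.Def_BrauerPairs
import Cfsg.Agent.Lib.helper3.AutBlock3
import Cfsg.Agent.Lib.helper3.ExtFirstMain2
import Cfsg.Agent.Lib.helper3.IrrCongr

/-!
# Stabilizers of blocks, and transport to the normalizer of a `p`-subgroup
-/

set_option autoImplicit false
set_option linter.style.haveILetI false
set_option linter.unusedSectionVars false

namespace Cfsg.Agent.Lib.helper3.Block

open Cfsg Module Cfsg.Agent.Lib.helper3.CharBasic Cfsg.Agent.Lib.helper3.Irr
open Cfsg.Agent.Lib.helper3.Central Cfsg.Agent.Lib.helper3.LocalM Cfsg.Agent.Lib.helper3.IndFun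
open Cfsg.Agent.Lib.helper3.Lin
open scoped ComplexConjugate

universe u

variable {G : Type u} [Group G] [Fintype G] {M : Ideal AlgInt}

/-- The stabilizer of a block of a subgroup is a subgroup. -/
theorem exists_stabilizer_subgroup [hMp : M.IsPrime] (H : Subgroup G) [Fintype H]
    (f : Set (IrrCharacter H)) (hf : IsPBlock M f) :
    ∃ T : Subgroup G, ∀ x : G, x ∈ T ↔ StabilizesBlock H f x := by
  obtain ⟨T₀, hT₀⟩ : ∃ T₀ : Subgroup (Subgroup.normalizer (H : Set G)),
      ∀ n, n ∈ T₀ ↔ autIrr (H.normalizerMonoidHom n) '' f = f := by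
    refine ⟨{ carrier := {n | autIrr (H.normalizerMonoidHom n) '' f = f}
              mul_mem' := ?_
              one_mem' := ?_
              inv_mem' := ?_ }, fun n => Iff.rfl⟩
    · intro a b ha hb
      show autIrr (H.normalizerMonoidHom (a * b)) '' f = f
      rw [map_mul]
      have : autIrr (H.normalizerMonoidHom a * H.normalizerMonoidHom b) '' f
          = autIrr (H.normalizerMonoidHom a) '' (autIrr (H.normalizerMonoidHom b) '' f) := by
        rw [Set.image_image]
        apply Set.image_congr
        intro θ _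
        rw [autIrr_mul]
      rw [this, hb, ha]
    · show autIrr (H.normalizerMonoidHom 1) '' f = f
      rw [map_one]
      have : autIrr (1 : MulAut H) '' f = id '' f := by
        apply Set.image_congr
        intro θ _
        rw [autIrr_one]
        rfl
      rw [this, Set.image_id]
    · intro a ha
      show autIrr (H.normalizerMonoidHom a⁻¹) '' f = f
      have ha' : autIrr (H.normalizerMonoidHom a) '' f = f := ha
      rw [map_inv]
      conv_lhs => rw [← ha']
      rw [Set.image_image]
      have : (fun θ => autIrr (H.normalizerMonoidHom a)⁻¹ (autIrr (H.normalizerMonoidHom a) θ))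
          = id := by
        funext θ
        rw [← autIrr_mul, inv_mul_cancel, autIrr_one]
        rfl
      rw [this, Set.image_id]
  refine ⟨T₀.map (Subgroup.normalizer (H : Set G)).subtype, ?_⟩
  intro x
  constructor
  · rintro ⟨n, hn, rfl⟩
    exact (stabilizesBlock_iff H f hf n).mpr ((hT₀ n).mp hn)
  · intro hx
    refine ⟨⟨x, hx.1⟩, (hT₀ _).mpr ((stabilizesBlock_iff H f hf ⟨x, hx.1⟩).mp hx), rfl⟩

/-- The identification of the centralizer of `P` in its normalizer with the centralizer of `P`. -/
noncomputable def cEquiv (P : Subgroup G) :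
    ↥(Subgroup.centralizer (pInN P : Set ↥(Subgroup.normalizer (P : Set G))))
      ≃* ↥(Subgroup.centralizer (P : Set G)) :=
  (MulEquiv.subgroupCongr (centralizer_pInN P)).trans
    (Subgroup.subgroupOfEquivOfLe (Subgroup.centralizer_le_normalizer _))

theorem cEquiv_coe (P : Subgroup G)
    (m : ↥(Subgroup.centralizer (pInN P : Set ↥(Subgroup.normalizer (P : Set G))))) :
    ((cEquiv P m : ↥(Subgroup.centralizer (P : Set G))) : G)
      = ((m : ↥(Subgroup.normalizer (P : Set G))) : G) := rfl

theorem mem_centralizer_pInN_iff (P : Subgroup G) (x : ↥(Subgroup.normalizer (P : Set G))) :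
    x ∈ Subgroup.centralizer (pInN P : Set ↥(Subgroup.normalizer (P : Set G)))
      ↔ (x : G) ∈ Subgroup.centralizer (P : Set G) := by
  rw [centralizer_pInN, Subgroup.mem_subgroupOf]

open Classical in
/-- Transport of the idempotent coefficients. -/
theorem subgroupBlockCoeff_pInN (P : Subgroup G)
    [Fintype (Subgroup.centralizer (P : Set G))]
    [Fintype (Subgroup.centralizer (pInN P : Set ↥(Subgroup.normalizer (P : Set G))))]
    (e : Set (IrrCharacter (Subgroup.centralizer (P : Set G))))
    (x : ↥(Subgroup.normalizer (P : Set G))) :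
    subgroupBlockCoeff (Subgroup.centralizer (pInN P : Set ↥(Subgroup.normalizer (P : Set G))))
        (irrCongr (cEquiv P) '' e) x
      = subgroupBlockCoeff (Subgroup.centralizer (P : Set G)) e (x : G) := by
  unfold subgroupBlockCoeff
  by_cases hx : x ∈ Subgroup.centralizer (pInN P : Set ↥(Subgroup.normalizer (P : Set G)))
  · rw [dif_pos hx, dif_pos ((mem_centralizer_pInN_iff P x).mp hx), blockCoeff_image_irrCongr]
    rfl
  · rw [dif_neg hx, dif_neg (fun h => hx ((mem_centralizer_pInN_iff P x).mpr h))]

/-- Transport of the stabilizing condition. -/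
theorem stabilizesBlock_of_pInN (P : Subgroup G)
    [Fintype (Subgroup.centralizer (P : Set G))]
    [Fintype (Subgroup.centralizer (pInN P : Set ↥(Subgroup.normalizer (P : Set G))))]
    (e : Set (IrrCharacter (Subgroup.centralizer (P : Set G))))
    (x : ↥(Subgroup.normalizer (P : Set G)))
    (hx : StabilizesBlock
      (Subgroup.centralizer (pInN P : Set ↥(Subgroup.normalizer (P : Set G))))
      (irrCongr (cEquiv P) '' e) x) :
    StabilizesBlock (Subgroup.centralizer (P : Set G)) e (x : G) := by
  have hnorm : ∀ (n : G), n ∈ Subgroup.normalizer (P : Set G) → ∀ c : G,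
      c ∈ Subgroup.centralizer (P : Set G) → n * c * n⁻¹ ∈ Subgroup.centralizer (P : Set G) := by
    intro n hn c hc
    rw [Subgroup.mem_centralizer_iff] at hc ⊢
    intro u hu
    have hu' : n⁻¹ * u * n ∈ P := by
      have := (Subgroup.mem_normalizer_iff.mp (Subgroup.inv_mem _ hn) u).mp hu
      rwa [inv_inv] at this
    have h1 := hc _ hu'
    calc u * (n * c * n⁻¹) = n * ((n⁻¹ * u * n) * c) * n⁻¹ := by group
      _ = n * (c * (n⁻¹ * u * n)) * n⁻¹ := by rw [h1]
      _ = n * c * n⁻¹ * u := by group
  refine ⟨?_, ?_⟩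
  · rw [Subgroup.mem_normalizer_iff]
    intro c
    constructor
    · intro hc
      exact hnorm _ x.2 c hc
    · intro hc
      have := hnorm _ (Subgroup.inv_mem _ x.2) _ hc
      rwa [show (x : G)⁻¹ * ((x : G) * c * (x : G)⁻¹) * (x : G)⁻¹⁻¹ = c by group] at this
  · intro χ hχ
    obtain ⟨ψ', ⟨χ', hχ', rfl⟩, hconj⟩ := hx.2 (irrCongr (cEquiv P) χ) ⟨χ, hχ, rfl⟩
    refine ⟨χ', hχ', ?_⟩
    intro k k' hk
    have h1 := hconj ((cEquiv P).symm k) ((cEquiv P).symm k') (by
      apply Subtype.ext
      have e1 : ∀ c : ↥(Subgroup.centralizer (P : Set G)),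
          ((((cEquiv P).symm c :
            ↥(Subgroup.centralizer (pInN P : Set ↥(Subgroup.normalizer (P : Set G))))) :
            ↥(Subgroup.normalizer (P : Set G))) : G) = (c : G) := by
        intro c
        rw [← cEquiv_coe, MulEquiv.apply_symm_apply]
      push_cast
      rw [e1, e1]
      exact hk)
    rw [irrCongr_apply, irrCongr_apply, MulEquiv.apply_symm_apply,
      MulEquiv.apply_symm_apply] at h1
    exact h1

end Cfsg.Agent.Lib.helper3.Block
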