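import Mathlib
import Cfsg.Prelude.Def_Blocks
import Cfsg.Prelude.Def_BrauerPairs
import Cfsg.Agent.Lib.helper3.MaxPair3
import Cfsg.Agent.Lib.helper3.MaxPair4
import Cfsg.Agent.Lib.helper3.BrauerPairInd
import Cfsg.Agent.Lib.helper3.FirstMain2
import Cfsg.Agent.S4657
import Cfsg.Agent.S4658
import Cfsg.Agent.S0919

/-!
# A maximal Brauer pair of a block has a defect group as its first component
-/

set_option autoImplicit false
set_option linter.style.haveILetI false
set_option linter.unusedSectionVars false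

namespace Cfsg.Agent.Lib.helper3.Block

open Cfsg Module Cfsg.Agent.Lib.helper3.CharBasic Cfsg.Agent.Lib.helper3.Irr
open Cfsg.Agent.Lib.helper3.Central Cfsg.Agent.Lib.helper3.LocalM Cfsg.Agent.Lib.helper3.IndFun
open Cfsg.Agent.Lib.helper3.Lin
open scoped ComplexConjugate

universe u

variable {G : Type u} [Group G] [Fintype G] {M : Ideal AlgInt}

/-- **Maximal Brauer pairs and defect groups.** -/
theorem isDefectGroup_of_isMaximalBrauerPair {p : ℕ} [hp : Fact p.Prime] (hM : IsPModular p M)
    (B : Set (IrrCharacter G)) (P : Subgroup G)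
    (e : Set (IrrCharacter (Subgroup.centralizer (P : Set G))))
    (hmax : IsMaximalBrauerPair p M B P e) : IsDefectGroup p M B P := by
  classical
  haveI : Fintype (Subgroup.centralizer (P : Set G)) := Fintype.ofFinite _
  haveI : Fintype ↥(Subgroup.normalizer (P : Set G)) := Fintype.ofFinite _
  haveI : Fintype (Subgroup.centralizer (pInN P : Set ↥(Subgroup.normalizer (P : Set G)))) :=
    Fintype.ofFinite _
  haveI hMp := isPrime_of_isPModular hM
  have hMtop : M ≠ ⊤ := hM.2.1.ne_top
  obtain ⟨hBe, hmaxR⟩ := hmax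
  obtain ⟨⟨hP, he⟩, hB, -⟩ := id hBe
  -- the transported pair
  obtain ⟨e', he'def⟩ : ∃ e' : Set (IrrCharacter
      (Subgroup.centralizer (pInN P : Set ↥(Subgroup.normalizer (P : Set G))))),
      e' = irrCongr (cEquiv P) '' e := ⟨_, rfl⟩
  have hP' : IsPGroup p (pInN P) := hP.comap_subtype
  have he' : IsPBlock M e' := by
    rw [he'def]
    exact isPBlock_image_irrCongr (cEquiv P) e he
  obtain ⟨β, hβe, -⟩ := Cfsg.Agent.S4657.result p M hM (pInN P) e' ⟨hP', he'⟩
  obtain ⟨T', hT'⟩ := exists_stabilizer_subgroup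
    (Subgroup.centralizer (pInN P : Set ↥(Subgroup.normalizer (P : Set G)))) e' he'
  have hβ : IsPBlock M β := hβe.2.1
  have hDβ : IsDefectGroup p M β (pInN P) := by
    apply isDefectGroup_of_normal_pair hM (pInN P) hP' β e' hβe T' hT'
    intro R' hR'p hPR' hRT' ⟨x, hxR', hxe⟩
    obtain ⟨R, hRdef⟩ : ∃ R : Subgroup G,
        R = R'.map (Subgroup.normalizer (P : Set G)).subtype := ⟨_, rfl⟩
    have hRmem : ∀ r : G, r ∈ R ↔ ∃ hr : r ∈ Subgroup.normalizer (P : Set G),
        (⟨r, hr⟩ : ↥(Subgroup.normalizer (P : Set G))) ∈ R' := by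
      intro r
      rw [hRdef]
      constructor
      · rintro ⟨r', hr', rfl⟩
        exact ⟨r'.2, hr'⟩
      · rintro ⟨hr, hr'⟩
        exact ⟨⟨r, hr⟩, hr', rfl⟩
    have hRp : IsPGroup p R := by
      rw [hRdef]
      exact hR'p.map _
    have hPR : P ≤ R := by
      intro u hu
      rw [hRmem]
      refine ⟨Subgroup.le_normalizer hu, hPR' ?_⟩
      show (⟨u, _⟩ : ↥(Subgroup.normalizer (P : Set G))) ∈ P.subgroupOf _
      rw [Subgroup.mem_subgroupOf]
      exact hu
    have hRN : R ≤ Subgroup.normalizer (P : Set G) := by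
      intro r hr
      obtain ⟨hr', -⟩ := (hRmem r).mp hr
      exact hr'
    have hst : ∀ r ∈ R, StabilizesBlock (Subgroup.centralizer (P : Set G)) e r := by
      intro r hr
      obtain ⟨hr', hr''⟩ := (hRmem r).mp hr
      have h1 := (hT' _).mp (hRT' hr'')
      rw [he'def] at h1
      exact stabilizesBlock_of_pInN P e ⟨r, hr'⟩ h1
    have hxR : (x : G) ∈ Subgroup.centralizer (R : Set G) := by
      rw [Subgroup.mem_centralizer_iff]
      intro r hr
      obtain ⟨hr', hr''⟩ := (hRmem r).mp hr
      have h1 := (Subgroup.mem_centralizer_iff.mp hxR') _ hr''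
      exact congrArg Subtype.val h1
    have hxe' : ¬ MemLocalIdeal M
        (subgroupBlockCoeff (Subgroup.centralizer (P : Set G)) e (x : G)) := by
      rw [← subgroupBlockCoeff_pInN P e x, ← he'def]
      exact hxe
    obtain ⟨g, hg, hgΛ⟩ := exists_block_above hM P R hRp hPR e he hst (x : G) hxR hxe'
    have hsub : IsNormalSubpair p M P e R g :=
      ⟨⟨hP, he⟩, ⟨hRp, hg⟩, hPR, hRN, hst, hgΛ⟩
    have hle : SubpairLE p M P e R g := Relation.ReflTransGen.single hsub
    have hBg : IsBrauerPairOf p M B R g :=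
      (Cfsg.Agent.S4658.result p M hM R P g e ⟨hRp, hg⟩ ⟨hP, he⟩ hle B hB).mpr hBe
    have hRP : R = P := hmaxR R g hBg hle
    have : R' = R.subgroupOf (Subgroup.normalizer (P : Set G)) := by
      rw [hRdef]
      exact (Subgroup.comap_map_eq_self_of_injective (Subgroup.subtype_injective _) R').symm
    rw [this, hRP]
  -- the block of the normalizer induces `B`
  have hind1 : IsInducedBlock M
      (Subgroup.centralizer (pInN P : Set ↥(Subgroup.normalizer (P : Set G)))) e' β :=
    isInducedBlock_of_isBrauerPairOf hM (pInN P) β e' hβe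
  obtain ⟨B₁, hind2⟩ := Cfsg.Agent.S0919.result p M hM P (Subgroup.normalizer (P : Set G)) hP
    Subgroup.le_normalizer (Subgroup.centralizer_le_normalizer _) le_rfl β hβ
  rw [he'def] at hind1
  have hind3 := isInducedBlock_trans (Subgroup.centralizer (P : Set G))
    (Subgroup.normalizer (P : Set G)) _ (cEquiv P) (cEquiv_coe P) e he β B₁ hind1 hind2
  have hind4 := isInducedBlock_of_isBrauerPairOf hM P B e hBe
  have hBB : B₁ = B := isInducedBlock_unique _ e B₁ B hind3 hind4
  rw [hBB] at hind2
  exact isDefectGroup_of_induced_normalizer hM P hP β hβ hDβ B hB hind2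

end Cfsg.Agent.Lib.helper3.Block
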