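import Mathlib
import Cfsg.Prelude.Def_Blocks
import Cfsg.Prelude.Def_BrauerPairs
import Cfsg.Agent.Lib.helper3.MaxPair5
import Cfsg.Agent.Lib.helper3.SubpairBlock
import Cfsg.Agent.Lib.helper3.SecMain11

set_option autoImplicit false
set_option linter.style.haveILetI false
set_option linter.unusedSectionVars false

/-!
# Maximal Brauer pairs: a local criterion
-/

namespace Cfsg.Agent.Lib.helper3.Block

open Cfsg Module Cfsg.Agent.Lib.helper3.CharBasic Cfsg.Agent.Lib.helper3.Irr
open Cfsg.Agent.Lib.helper3.Central Cfsg.Agent.Lib.helper3.LocalM Cfsg.Agent.Lib.helper3.IndFun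
open Cfsg.Agent.Lib.helper3.Lin
open scoped ComplexConjugate

universe u

variable {G : Type u} [Group G] [Fintype G] {M : Ideal AlgInt}

/-- The local form of maximality of a Brauer pair. -/
def MaxCond (p : ℕ) (M : Ideal AlgInt) (Q : Subgroup G)
    (e : Set (IrrCharacter (Subgroup.centralizer (Q : Set G)))) : Prop :=
  ∀ R : Subgroup G, IsPGroup p R → Q ≤ R → R ≤ Subgroup.normalizer (Q : Set G) →
    (∀ r ∈ R, StabilizesBlock (Subgroup.centralizer (Q : Set G)) e r) →
    (∃ x ∈ Subgroup.centralizer (R : Set G),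
      ¬ MemLocalIdeal M (subgroupBlockCoeff (Subgroup.centralizer (Q : Set G)) e x)) → R = Q

theorem maxCond_of_isMaximalBrauerPair {p : ℕ} [hp : Fact p.Prime] (hM : IsPModular p M)
    (B : Set (IrrCharacter G)) (Q : Subgroup G)
    (e : Set (IrrCharacter (Subgroup.centralizer (Q : Set G))))
    (hmax : IsMaximalBrauerPair p M B Q e) : MaxCond p M Q e := by
  classical
  obtain ⟨hBe, hmaxR⟩ := hmax
  obtain ⟨⟨hP, he⟩, hB, -⟩ := id hBe
  intro R hRp hQR hRN hst ⟨x, hxR, hxe⟩
  obtain ⟨g, hg, hgΛ⟩ := exists_block_above hM Q R hRp hQR e he hst x hxR hxe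
  have hsub : IsNormalSubpair p M Q e R g := ⟨⟨hP, he⟩, ⟨hRp, hg⟩, hQR, hRN, hst, hgΛ⟩
  have hle : SubpairLE p M Q e R g := Relation.ReflTransGen.single hsub
  have hBg := (Cfsg.Agent.S4658.result p M hM R Q g e ⟨hRp, hg⟩ ⟨hP, he⟩ hle B hB).mpr hBe
  exact hmaxR R g hBg hle

/-- If a block of `C_G(R)` occurs in the Brauer-map image of the idempotent of `e`, the idempotent has
a coefficient outside the local ideal on `C_G(R)`. -/
theorem exists_notMem_of_brauerOmega [hMp : M.IsPrime] (Q R : Subgroup G) (hQR : Q ≤ R)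
    (e : Set (IrrCharacter (Subgroup.centralizer (Q : Set G))))
    (ξ : IrrCharacter (Subgroup.centralizer (R : Set G)))
    (h : MemLocalIdeal M (brauerOmega R (subgroupBlockCoeff (Subgroup.centralizer (Q : Set G)) e)
      (ξ : Subgroup.centralizer (R : Set G) → ℂ) - 1)) :
    ∃ x ∈ Subgroup.centralizer (R : Set G),
      ¬ MemLocalIdeal M (subgroupBlockCoeff (Subgroup.centralizer (Q : Set G)) e x) := by
  classical
  letI : Fintype (Subgroup.centralizer (Q : Set G)) := Fintype.ofFinite _
  letI : Fintype (Subgroup.centralizer (R : Set G)) := Fintype.ofFinite _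
  by_contra hall
  push Not at hall
  have hRQ : Subgroup.centralizer (R : Set G) ≤ Subgroup.centralizer (Q : Set G) :=
    Subgroup.centralizer_le hQR
  have h1 : MemLocalIdeal M (brauerOmega R (subgroupBlockCoeff (Subgroup.centralizer (Q : Set G)) e)
      (ξ : Subgroup.centralizer (R : Set G) → ℂ)) := by
    rw [brauerOmega_eq_sum]
    apply memLocalIdeal_sum_class_fun (G := ↥(Subgroup.centralizer (R : Set G)))
    · intro x c
      rw [isClassFunction_of_isCharacter (isCharacter_of_isIrrCharacter ξ.2) x c]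
      congr 1
      have : ((c * x * c⁻¹ : ↥(Subgroup.centralizer (R : Set G))) : G)
          = (c : G) * (x : G) * (c : G)⁻¹ := by simp
      rw [this]
      exact subgroupBlockCoeff_conj_of_mem _ e (c : G) (hRQ c.2) (x : G)
    · intro x
      have e1 : ((Subgroup.centralizer ({x} : Set ↥(Subgroup.centralizer (R : Set G)))).index : ℂ)
          * (subgroupBlockCoeff (Subgroup.centralizer (Q : Set G)) e (x : G)
            * ((ξ : Subgroup.centralizer (R : Set G) → ℂ) x
              / (ξ : Subgroup.centralizer (R : Set G) → ℂ) 1))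
          = subgroupBlockCoeff (Subgroup.centralizer (Q : Set G)) e (x : G)
            * centralChar (ξ : Subgroup.centralizer (R : Set G) → ℂ) x := by
        unfold centralChar
        ring
      rw [e1, mul_comm]
      exact memLocalIdeal_mul_integral (hall (x : G) x.2) (isIntegral_centralChar ξ.2 x)
  have h2 := memLocalIdeal_sub h1 h
  rw [sub_sub_cancel] at h2
  exact not_memLocalIdeal_one h2

/-- A normal step above a pair satisfying the local criterion is trivial. -/
theorem eq_of_isNormalSubpair {p : ℕ} [hp : Fact p.Prime] (hM : IsPModular p M) (Q : Subgroup G)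
    (e : Set (IrrCharacter (Subgroup.centralizer (Q : Set G)))) (hmc : MaxCond p M Q e)
    (R : Subgroup G) (g : Set (IrrCharacter (Subgroup.centralizer (R : Set G))))
    (h : IsNormalSubpair p M Q e R g) : (⟨R, g⟩ : BrauerPairIdx G) = ⟨Q, e⟩ := by
  classical
  haveI hMp := isPrime_of_isPModular hM
  have hMtop : M ≠ ⊤ := hM.2.1.ne_top
  obtain ⟨⟨hQ, he⟩, ⟨hRp, hg⟩, hQR, hRN, hst, hΛ⟩ := h
  obtain ⟨ξ, hξ⟩ : ∃ ξ, ξ ∈ g := by
    obtain ⟨χ, hχ⟩ := id hg
    exact ⟨χ, by rw [hχ]; exact sameBlock_refl hMtop _⟩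
  have hx := exists_notMem_of_brauerOmega Q R hQR e ξ (hΛ ξ hξ)
  have hRQ : R = Q := hmc R hRp hQR hRN hst hx
  subst hRQ
  letI : Fintype (Subgroup.centralizer (R : Set G)) := Fintype.ofFinite _
  have hξe : ξ ∈ e := by
    by_contra hne
    have h1 := hΛ ξ hξ
    rw [brauerOmega_eq_sum] at h1
    have h2 : ∑ x : ↥(Subgroup.centralizer (R : Set G)),
        subgroupBlockCoeff (Subgroup.centralizer (R : Set G)) e (x : G)
          * ((ξ : Subgroup.centralizer (R : Set G) → ℂ) x
            / (ξ : Subgroup.centralizer (R : Set G) → ℂ) 1)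
        = ∑ x : ↥(Subgroup.centralizer (R : Set G)), blockCoeff e x
          * ((ξ : Subgroup.centralizer (R : Set G) → ℂ) x
            / (ξ : Subgroup.centralizer (R : Set G) → ℂ) 1) := by
      apply Finset.sum_congr rfl
      intro x _
      rw [subgroupBlockCoeff_of_mem _ e x.2]
    rw [h2, sum_blockCoeff_mul_div, if_neg hne, zero_sub] at h1
    have h3 := memLocalIdeal_neg h1
    rw [neg_neg] at h3
    exact not_memLocalIdeal_one h3
  have hge : g = e := isPBlock_eq_of_mem hg he ξ hξ hξe
  rw [hge]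

theorem eq_of_subpairLE {p : ℕ} [hp : Fact p.Prime] (hM : IsPModular p M) (Q : Subgroup G)
    (e : Set (IrrCharacter (Subgroup.centralizer (Q : Set G)))) (hmc : MaxCond p M Q e)
    (c : BrauerPairIdx G)
    (h : Relation.ReflTransGen (NormalSubpairRel p M) (⟨Q, e⟩ : BrauerPairIdx G) c) :
    c = ⟨Q, e⟩ := by
  induction h with
  | refl => rfl
  | tail hab hbc ih =>
    subst ih
    rename_i c'
    have := eq_of_isNormalSubpair hM Q e hmc c'.1 c'.2 hbc
    exact this

theorem exists_isMaximalBrauerPair_of_maxCond {p : ℕ} [hp : Fact p.Prime] (hM : IsPModular p M)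
    (Q : Subgroup G) (e : Set (IrrCharacter (Subgroup.centralizer (Q : Set G))))
    (he : IsBrauerPair p M Q e) (hmc : MaxCond p M Q e) :
    ∃ B : Set (IrrCharacter G), IsMaximalBrauerPair p M B Q e := by
  obtain ⟨B, hB, -⟩ := Cfsg.Agent.S4657.result p M hM Q e he
  refine ⟨B, hB, ?_⟩
  intro R g _ hle
  have := eq_of_subpairLE hM Q e hmc ⟨R, g⟩ hle
  exact congrArg Sigma.fst this

end Cfsg.Agent.Lib.helper3.Block
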