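import Mathlib
import Cfsg.Prelude.Def_Characters
import Cfsg.Prelude.Def_Blocks
import Cfsg.Agent.Lib.helper3.Weight1

set_option autoImplicit false
set_option linter.style.haveILetI false
set_option linter.unusedSectionVars false

/-!
# Characters of full `p`-part degree and normal subgroups
-/

namespace Cfsg.Agent.Lib.helper3.Block

open Cfsg Cfsg.Agent.Lib.helper3.LocalM Cfsg.Agent.Lib.helper3.CharBasic
open Cfsg.Agent.Lib.helper3.Irr Cfsg.Agent.Lib.helper3.IndFun Cfsg.Agent.Lib.helper3.Central
open scoped ComplexConjugate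

/-- Constituents of the restriction of a character of full `p`-part degree to a normal subgroup
have full `p`-part degree. -/
theorem factorization_degree_of_full {X : Type*} [Group X] [Fintype X] (p : ℕ) [hp : Fact p.Prime]
    (χ : IrrCharacter X)
    (hχ : (charDegree (χ : X → ℂ)).factorization p = (Nat.card X).factorization p)
    (N : Subgroup X) [N.Normal] [Fintype N] (ξ : IrrCharacter N)
    (hcon : classInner (fun n : N => (χ : X → ℂ) n) (ξ : N → ℂ) ≠ 0) :
    (charDegree (ξ : N → ℂ)).factorization p = (Nat.card N).factorization p := by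
  classical
  obtain ⟨c, hc0, hc⟩ := exists_pos_nat_apply_one χ.2
  obtain ⟨d, hd, hdN, hd0⟩ := irr_degree_dvd_card ξ.2
  have h := Cfsg.Agent.S0887.result N (χ : X → ℂ) χ.2 (ξ : N → ℂ) ξ.2 hcon c d hc hd
  obtain ⟨hdc, hcd⟩ := h
  rw [charDegree_eq hc] at hχ
  rw [charDegree_eq hd]
  have hN0 : Nat.card N ≠ 0 := Nat.card_pos.ne'
  have hI0 : N.index ≠ 0 := Subgroup.index_ne_zero_of_finite
  have h1 : d.factorization p ≤ (Nat.card N).factorization p :=
    (Nat.factorization_le_iff_dvd hd0.ne' hN0).mpr hdN p
  obtain ⟨k, hk⟩ := hdc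
  have hk0 : k ≠ 0 := by
    rintro rfl
    rw [mul_zero] at hk
    omega
  have hcdk : c / d = k := by
    rw [hk, Nat.mul_div_cancel_left _ hd0]
  rw [hcdk] at hcd
  have h2 : k.factorization p ≤ N.index.factorization p :=
    (Nat.factorization_le_iff_dvd hk0 hI0).mpr hcd p
  have h3 : c.factorization p = d.factorization p + k.factorization p := by
    rw [hk, Nat.factorization_mul hd0.ne' hk0]
    rfl
  have h4 : (Nat.card X).factorization p
      = (Nat.card N).factorization p + N.index.factorization p := by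
    rw [← Subgroup.card_mul_index N, Nat.factorization_mul hN0 hI0]
    rfl
  omega

/-- A group with an irreducible character of full `p`-part degree has no nontrivial normal
`p`-subgroup. -/
theorem eq_bot_of_full {X : Type*} [Group X] [Fintype X] (p : ℕ) [hp : Fact p.Prime]
    (χ : IrrCharacter X)
    (hχ : (charDegree (χ : X → ℂ)).factorization p = (Nat.card X).factorization p)
    (P : Subgroup X) [P.Normal] (hP : IsPGroup p P) : P = ⊥ := by
  classical
  letI : Fintype P := Fintype.ofFinite _
  have hres : IsCharacter P (fun n : P => (χ : X → ℂ) n) :=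
    isCharacter_restrict (isCharacter_of_isIrrCharacter χ.2) P
  have hne : (fun n : P => (χ : X → ℂ) n) ≠ 0 := by
    intro h0
    have := congrFun h0 1
    exact apply_one_ne_zero χ.2 this
  obtain ⟨ξ, hξ⟩ := exists_constituent hres hne
  have hfac := factorization_degree_of_full p χ hχ P ξ hξ
  obtain ⟨d, hd0, hd⟩ := exists_pos_nat_apply_one ξ.2
  rw [charDegree_eq hd] at hfac
  obtain ⟨k, hk⟩ := hP.exists_card_eq
  rw [hk, Nat.Prime.factorization_pow hp.out, Finsupp.single_eq_same] at hfac
  have h1 : p ^ k ∣ d := by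
    rw [← hfac]
    exact Nat.ordProj_dvd d p
  have h2 : p ^ k ≤ d := Nat.le_of_dvd hd0 h1
  -- the sum of squares of degrees
  choose dd hdd using fun θ : IrrCharacter P => exists_pos_nat_apply_one θ.2
  have h3 : ∑ θ : IrrCharacter P, (dd θ) ^ 2 = Nat.card P := by
    have : ((∑ θ : IrrCharacter P, (dd θ) ^ 2 : ℕ) : ℂ) = (Nat.card P : ℂ) := by
      rw [← sum_sq_degree]
      push_cast
      apply Finset.sum_congr rfl
      intro θ _
      rw [(hdd θ).2]
    exact_mod_cast this
  have h4 : (dd ξ) ^ 2 ≤ Nat.card P := by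
    rw [← h3]
    exact Finset.single_le_sum (f := fun θ : IrrCharacter P => (dd θ) ^ 2)
      (fun θ _ => Nat.zero_le _) (Finset.mem_univ ξ)
  have h5 : dd ξ = d := by
    have : ((dd ξ : ℕ) : ℂ) = (d : ℂ) := by rw [← (hdd ξ).2, hd]
    exact_mod_cast this
  rw [h5, hk] at h4
  have h6 : d ≤ 1 := by
    by_contra hlt
    push Not at hlt
    nlinarith
  have h7 : Nat.card P ≤ 1 := by rw [hk]; omega
  exact (Subgroup.card_le_one_iff_eq_bot P).mp h7

end Cfsg.Agent.Lib.helper3.Block
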