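import Mathlib
import Cfsg.Prelude.Def_Characters
import Cfsg.Prelude.Def_Blocks
import Cfsg.Prelude.Def_BlockLocal
import Cfsg.Prelude.Def_BrauerPairs
import Cfsg.Agent.Lib.helper3.Weight2

set_option autoImplicit false
set_option linter.style.haveILetI false
set_option linter.unusedSectionVars false

/-!
# The stabilizer of a Brauer pair: inclusions and block membership of restrictions
-/

namespace Cfsg.Agent.Lib.helper3.Block

open Cfsg Cfsg.Agent.Lib.helper3.LocalM Cfsg.Agent.Lib.helper3.CharBasic
open Cfsg.Agent.Lib.helper3.Irr Cfsg.Agent.Lib.helper3.IndFun Cfsg.Agent.Lib.helper3.Central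
open scoped ComplexConjugate

universe u

variable {G : Type u} [Group G] [Fintype G] {M : Ideal AlgInt}

/-- Elements of the centralizer stabilize every set of characters of the centralizer. -/
theorem stabilizesBlock_of_mem_self (K : Subgroup G) (e : Set (IrrCharacter K)) (c : G)
    (hc : c ∈ K) : StabilizesBlock K e c := by
  refine ⟨Subgroup.le_normalizer hc, ?_⟩
  intro χ hχ
  refine ⟨χ, hχ, ?_⟩
  intro k k' hk
  have hcf := isClassFunction_of_isCharacter (isCharacter_of_isIrrCharacter χ.2)
  have : k' = (⟨c, hc⟩ : K) * k * (⟨c, hc⟩ : K)⁻¹ := by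
    apply Subtype.ext
    rw [hk]
    rfl
  rw [this]
  exact hcf k ⟨c, hc⟩

/-- Elements of `Q` stabilize every set of characters of the centralizer of `Q`. -/
theorem stabilizesBlock_of_mem_base (Q : Subgroup G)
    (e : Set (IrrCharacter (Subgroup.centralizer (Q : Set G)))) (q : G) (hq : q ∈ Q) :
    StabilizesBlock (Subgroup.centralizer (Q : Set G)) e q := by
  have hcomm : ∀ k : G, k ∈ Subgroup.centralizer (Q : Set G) → q * k * q⁻¹ = k := by
    intro k hk
    rw [Subgroup.mem_centralizer_iff] at hk
    have := hk q hq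
    rw [this]
    group
  refine ⟨?_, ?_⟩
  · rw [Subgroup.mem_normalizer_iff]
    intro k
    constructor
    · intro hk
      rw [hcomm k hk]
      exact hk
    · intro hk
      have h1 := hcomm _ hk
      have h3 : k = q * k * q⁻¹ := by
        calc k = q⁻¹ * (q * k * q⁻¹) * q := by group
          _ = q⁻¹ * (q * (q * k * q⁻¹) * q⁻¹) * q := by rw [h1]
          _ = q * k * q⁻¹ := by group
      rw [h3]
      exact hk
  · intro χ hχ
    refine ⟨χ, hχ, ?_⟩
    intro k k' hk
    have : k' = k := by
      apply Subtype.ext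
      rw [hk, hcomm k k.2]
    rw [this]

open Classical in
/-- Membership in `e` for constituents of the restriction to the centralizer of a character in
the block with the idempotent of `e`. -/
theorem mem_of_constituent_restrict (K T : Subgroup G) [Fintype K] [Fintype T] (hKT : K ≤ T)
    (e : Set (IrrCharacter K)) (F' : Set (IrrCharacter T))
    (hF'e : ∀ t : T, blockCoeff F' t = subgroupBlockCoeff K e (t : G))
    (χ : IrrCharacter T) (hχ : χ ∈ F') (ξ : IrrCharacter K)
    (hξ : classInner (fun c : K => (χ : T → ℂ) ⟨c, hKT c.2⟩) (ξ : K → ℂ) ≠ 0) : ξ ∈ e := by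
  have hA : IsCharacter K (fun c : K => (χ : T → ℂ) ⟨c, hKT c.2⟩) :=
    isCharacter_comp (isCharacter_of_isIrrCharacter χ.2) (Subgroup.inclusion hKT)
  apply mem_of_sum_blockCoeff_mul e _ hA _ ξ hξ
  -- the sum over `T`
  have h1 : ∑ t : T, blockCoeff F' t * (χ : T → ℂ) t = (χ : T → ℂ) 1 := by
    rw [sum_blockCoeff_mul, Finset.sum_eq_single χ]
    · rw [if_pos hχ, irr_classInner_self χ.2]
      ring
    · intro θ _ hne
      have hne' : ¬ ((χ : T → ℂ) = (θ : T → ℂ)) := fun h => hne (Subtype.ext h.symm)
      rw [irr_classInner_eq χ.2 θ.2, if_neg hne', mul_zero]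
    · intro h
      exact absurd (Finset.mem_univ χ) h
  have h2 : ∑ t : T, blockCoeff F' t * (χ : T → ℂ) t
      = ∑ c : K, blockCoeff e c * (χ : T → ℂ) ⟨c, hKT c.2⟩ := by
    have hinj : Function.Injective (fun c : K => (⟨c, hKT c.2⟩ : T)) := by
      intro a b hab
      apply Subtype.ext
      exact congrArg (fun t : T => (t : G)) hab
    rw [← Finset.sum_subset (Finset.subset_univ
      (Finset.univ.image (fun c : K => (⟨c, hKT c.2⟩ : T))))]
    · rw [Finset.sum_image (fun a _ b _ hab => hinj hab)]
      apply Finset.sum_congr rfl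
      intro c _
      rw [hF'e]
      unfold subgroupBlockCoeff
      rw [dif_pos c.2]
    · intro t _ ht
      rw [hF'e]
      unfold subgroupBlockCoeff
      rw [dif_neg, zero_mul]
      intro htK
      apply ht
      exact Finset.mem_image.mpr ⟨⟨t, htK⟩, Finset.mem_univ _, rfl⟩
  rw [← h2, h1]
  rfl

end Cfsg.Agent.Lib.helper3.Block
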