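import Mathlib
import Cfsg.Prelude.Def_Blocks
import Cfsg.Prelude.Def_BrauerPairs
import Cfsg.Agent.Lib.helper3.MP1
import Cfsg.Agent.Lib.helper3.FR6
import Cfsg.Agent.Lib.helper3.CProd5
import Cfsg.Agent.Lib.helper3.Weight3
import Cfsg.Agent.S0912

set_option autoImplicit false
set_option linter.style.haveILetI false
set_option linter.unusedSectionVars false

/-!
# Maximal Brauer pairs: the canonical character
-/

namespace Cfsg.Agent.Lib.helper3.Block

open Cfsg Module Cfsg.Agent.Lib.helper3.CharBasic Cfsg.Agent.Lib.helper3.Irr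
open Cfsg.Agent.Lib.helper3.Central Cfsg.Agent.Lib.helper3.LocalM Cfsg.Agent.Lib.helper3.IndFun
open Cfsg.Agent.Lib.helper3.Lin
open scoped ComplexConjugate

universe u

variable {G : Type u} [Group G] [Fintype G] {M : Ideal AlgInt}

/-- The centre of `Q` inside `C_G(Q)`. -/
abbrev zInC (Q : Subgroup G) : Subgroup ↥(Subgroup.centralizer (Q : Set G)) :=
  (Q ⊓ Subgroup.centralizer (Q : Set G)).subgroupOf (Subgroup.centralizer (Q : Set G))

theorem mem_zInC_iff (Q : Subgroup G) (z : ↥(Subgroup.centralizer (Q : Set G))) :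
    z ∈ zInC Q ↔ (z : G) ∈ Q := by
  rw [Subgroup.mem_subgroupOf, Subgroup.mem_inf]
  exact ⟨fun h => h.1, fun h => ⟨h, z.2⟩⟩

theorem zInC_le_center (Q : Subgroup G) : zInC Q ≤ Subgroup.center _ := by
  intro z hz
  rw [mem_zInC_iff] at hz
  rw [Subgroup.mem_center_iff]
  intro c
  apply Subtype.ext
  have := (Subgroup.mem_centralizer_iff.mp c.2) (z : G) hz
  simpa using this.symm

instance zInC_normal (Q : Subgroup G) : (zInC Q).Normal := by
  constructor
  intro z hz c
  have h := Subgroup.mem_center_iff.mp (zInC_le_center Q hz) c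
  have : c * z * c⁻¹ = z := by
    rw [h]
    group
  rw [this]
  exact hz

theorem zInC_isPGroup {p : ℕ} (Q : Subgroup G) (hQ : IsPGroup p Q) : IsPGroup p (zInC Q) :=
  (hQ.to_le inf_le_left).comap_subtype

/-- Under the local maximality criterion, `Z(Q)` is a defect group of `e`. -/
theorem isDefectGroup_zInC_of_maxCond {p : ℕ} [hp : Fact p.Prime] (hM : IsPModular p M)
    (Q : Subgroup G) (e : Set (IrrCharacter (Subgroup.centralizer (Q : Set G))))
    (he : IsBrauerPair p M Q e) (hmc : MaxCond p M Q e) :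
    IsDefectGroup p M e (zInC Q) := by
  classical
  letI : Fintype (Subgroup.centralizer (Q : Set G)) := Fintype.ofFinite _
  haveI hMp := isPrime_of_isPModular hM
  obtain ⟨hQ, heb⟩ := he
  obtain ⟨D, hD⟩ := exists_isDefectGroup hM e heb
  obtain ⟨x₀, hx₀, S, hDS⟩ := id hD
  have hCN : Subgroup.centralizer (Q : Set G) ≤ Subgroup.normalizer (Q : Set G) :=
    Subgroup.centralizer_le_normalizer _
  obtain ⟨D', hD'⟩ : ∃ D' : Subgroup G, D' = D.map (Subgroup.centralizer (Q : Set G)).subtype :=
    ⟨_, rfl⟩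
  have hD'C : D' ≤ Subgroup.centralizer (Q : Set G) := by
    rw [hD']
    rintro _ ⟨d, -, rfl⟩
    exact d.2
  have hDp : IsPGroup p D := by
    rw [hDS]
    exact S.isPGroup'.map _
  have hD'p : IsPGroup p D' := by
    rw [hD']
    exact hDp.map _
  have hRp : IsPGroup p (Q ⊔ D' : Subgroup G) := by
    rw [sup_comm]
    exact IsPGroup.to_sup_of_normal_right' hD'p hQ (le_trans hD'C hCN)
  have hRN : Q ⊔ D' ≤ Subgroup.normalizer (Q : Set G) :=
    sup_le Subgroup.le_normalizer (le_trans hD'C hCN)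
  obtain ⟨T, hT⟩ := exists_stabilizer_subgroup (Subgroup.centralizer (Q : Set G)) e heb
  have hQT : Q ≤ T := fun q hq => (hT q).mpr (stabilizesBlock_of_mem_base Q e q hq)
  have hCT : Subgroup.centralizer (Q : Set G) ≤ T :=
    fun c hc => (hT c).mpr (stabilizesBlock_of_mem_self _ e c hc)
  have hst : ∀ r ∈ Q ⊔ D', StabilizesBlock (Subgroup.centralizer (Q : Set G)) e r :=
    fun r hr => (hT r).mp (sup_le hQT (le_trans hD'C hCT) hr)
  have hxc : ∀ r ∈ Q ⊔ D', r * (x₀ : G) = (x₀ : G) * r := by
    have hle : Q ⊔ D' ≤ Subgroup.centralizer ({(x₀ : G)} : Set G) := by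
      apply sup_le
      · intro q hq
        rw [Subgroup.mem_centralizer_singleton_iff]
        exact (Subgroup.mem_centralizer_iff.mp x₀.2) q hq
      · rw [hD', hDS]
        rintro _ ⟨d, ⟨s, -, rfl⟩, rfl⟩
        rw [Subgroup.mem_centralizer_singleton_iff]
        have := Subgroup.mem_centralizer_singleton_iff.mp s.2
        exact congrArg Subtype.val this
    intro r hr
    exact Subgroup.mem_centralizer_singleton_iff.mp (hle hr)
  have hx : ∃ x ∈ Subgroup.centralizer ((Q ⊔ D' : Subgroup G) : Set G),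
      ¬ MemLocalIdeal M (subgroupBlockCoeff (Subgroup.centralizer (Q : Set G)) e x) := by
    refine ⟨(x₀ : G), ?_, ?_⟩
    · rw [Subgroup.mem_centralizer_iff]
      intro r hr
      exact hxc r hr
    · rw [subgroupBlockCoeff_of_mem _ e x₀.2]
      exact hx₀.2.1
  have hRQ := hmc (Q ⊔ D') hRp le_sup_left hRN hst hx
  have hD'Q : D' ≤ Q := by
    rw [← hRQ]
    exact le_sup_right
  have hDZ : D ≤ zInC Q := by
    intro d hd
    rw [mem_zInC_iff]
    apply hD'Q
    rw [hD']
    exact ⟨d, hd, rfl⟩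
  have hZD : zInC Q ≤ D := by
    refine le_trans ?_ (Cfsg.Agent.S0912.result p M hM e heb D hD)
    unfold pCore
    apply le_sSup
    exact ⟨inferInstance, zInC_isPGroup Q hQ⟩
  have hEq : D = zInC Q := le_antisymm hDZ hZD
  rw [← hEq]
  exact hD

/-- Under the local maximality criterion, `e` contains a canonical character. -/
theorem exists_canonical_of_maxCond {p : ℕ} [hp : Fact p.Prime] (hM : IsPModular p M)
    (Q : Subgroup G) (e : Set (IrrCharacter (Subgroup.centralizer (Q : Set G))))
    (he : IsBrauerPair p M Q e) (hmc : MaxCond p M Q e) :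
    ∃ θ ∈ e, (∀ z : Subgroup.centralizer (Q : Set G), (z : G) ∈ Q →
        (θ : Subgroup.centralizer (Q : Set G) → ℂ) z
          = (θ : Subgroup.centralizer (Q : Set G) → ℂ) 1) ∧
      (charDegree (θ : Subgroup.centralizer (Q : Set G) → ℂ)).factorization p
        + (Nat.card ↥(Q ⊓ Subgroup.centralizer (Q : Set G))).factorization p
        = (Nat.card (Subgroup.centralizer (Q : Set G))).factorization p := by
  classical
  letI : Fintype (Subgroup.centralizer (Q : Set G)) := Fintype.ofFinite _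
  have hDZ := isDefectGroup_zInC_of_maxCond hM Q e he hmc
  obtain ⟨θ, hθ, hker, hdeg⟩ := exists_canonical hM (zInC Q) (zInC_isPGroup Q he.1) e he.2 hDZ
  refine ⟨θ, hθ, ?_, ?_⟩
  · intro z hz
    exact hker z ((mem_zInC_iff Q z).mpr hz)
  · rw [hdeg]
    have h1 : Nat.card (zInC Q) = Nat.card ↥(Q ⊓ Subgroup.centralizer (Q : Set G)) :=
      Nat.card_congr (Subgroup.subgroupOfEquivOfLe inf_le_right).toEquiv
    rw [← h1, ← (zInC Q).index_mul_card,
      Nat.factorization_mul Subgroup.index_ne_zero_of_finite Nat.card_pos.ne']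
    rfl

end Cfsg.Agent.Lib.helper3.Block
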