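import Mathlib
import Cfsg.Prelude.Def_Blocks
import Cfsg.Prelude.Def_BrauerPairs
import Cfsg.Agent.Lib.helper3.MP2
import Cfsg.Agent.Lib.helper3.CProd1
import Cfsg.Agent.Lib.helper3.BlockMinMax2
import Cfsg.Agent.Lib.helper3.FirstMain2
import Cfsg.Agent.S0969

set_option autoImplicit false
set_option linter.style.haveILetI false
set_option linter.unusedSectionVars false

/-!
# Maximal Brauer pairs: sufficiency of the canonical character criterion
-/

namespace Cfsg.Agent.Lib.helper3.Block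

open Cfsg Module Cfsg.Agent.Lib.helper3.CharBasic Cfsg.Agent.Lib.helper3.Irr
open Cfsg.Agent.Lib.helper3.Central Cfsg.Agent.Lib.helper3.LocalM Cfsg.Agent.Lib.helper3.IndFun
open Cfsg.Agent.Lib.helper3.Lin
open scoped ComplexConjugate

universe u

variable {G : Type u} [Group G] [Fintype G] {M : Ideal AlgInt}

theorem exists_mul_of_mem_sup_centralizer (Q : Subgroup G) (r : G)
    (hr : r ∈ Q ⊔ Subgroup.centralizer (Q : Set G)) :
    ∃ (q : Q) (c : ↥(Subgroup.centralizer (Q : Set G))), r = (q : G) * (c : G) := by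
  have h1 : Q ≤ (prodHom Q).range := fun u hu => ⟨(⟨u, hu⟩, 1), by rw [prodHom_apply]; simp⟩
  have h2 : Subgroup.centralizer (Q : Set G) ≤ (prodHom Q).range :=
    fun v hv => ⟨(1, ⟨v, hv⟩), by rw [prodHom_apply]; simp⟩
  obtain ⟨x, hx⟩ := sup_le h1 h2 hr
  exact ⟨x.1, x.2, by rw [← hx, prodHom_apply]⟩

theorem isPGroup_zpowers_of_pow_eq_one {X : Type*} [Group X] {p : ℕ} (c : X) (k : ℕ)
    (hc : c ^ (p ^ k) = 1) : IsPGroup p (Subgroup.zpowers c) := by
  rintro ⟨y, hy⟩
  obtain ⟨n, rfl⟩ := Subgroup.mem_zpowers_iff.mp hy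
  refine ⟨k, ?_⟩
  apply Subtype.ext
  show (c ^ n) ^ (p ^ k) = 1
  rw [← zpow_natCast, ← zpow_mul, mul_comm, zpow_mul, zpow_natCast, hc, one_zpow]

/-- The canonical character criterion implies the local maximality criterion. -/
theorem maxCond_of_canonical {p : ℕ} [hp : Fact p.Prime] (hM : IsPModular p M)
    (Q : Subgroup G) (e : Set (IrrCharacter (Subgroup.centralizer (Q : Set G))))
    (he : IsBrauerPair p M Q e) (θ : IrrCharacter (Subgroup.centralizer (Q : Set G)))
    (hθ : θ ∈ e)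
    (hker : ∀ z : Subgroup.centralizer (Q : Set G), (z : G) ∈ Q →
      (θ : Subgroup.centralizer (Q : Set G) → ℂ) z
        = (θ : Subgroup.centralizer (Q : Set G) → ℂ) 1)
    (hdeg : (charDegree (θ : Subgroup.centralizer (Q : Set G) → ℂ)).factorization p
      + (Nat.card ↥(Q ⊓ Subgroup.centralizer (Q : Set G))).factorization p
      = (Nat.card (Subgroup.centralizer (Q : Set G))).factorization p)
    (hpel : ∀ g : G, g ∈ Subgroup.normalizer (Q : Set G) →
      StabilizesBlock (Subgroup.centralizer (Q : Set G)) e g → (∃ k : ℕ, orderOf g = p ^ k) →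
      g ∈ Q ⊔ Subgroup.centralizer (Q : Set G)) :
    MaxCond p M Q e := by
  classical
  letI : Fintype (Subgroup.centralizer (Q : Set G)) := Fintype.ofFinite _
  haveI hMp := isPrime_of_isPModular hM
  have hMtop : M ≠ ⊤ := hM.2.1.ne_top
  obtain ⟨hQ, heb⟩ := he
  have hZp := zInC_isPGroup Q hQ
  -- `Z(Q)` is a defect group of `e`
  have hdeg' : (charDegree (θ : Subgroup.centralizer (Q : Set G) → ℂ)).factorization p
      = (zInC Q).index.factorization p := by
    have h1 : Nat.card (zInC Q) = Nat.card ↥(Q ⊓ Subgroup.centralizer (Q : Set G)) :=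
      Nat.card_congr (Subgroup.subgroupOfEquivOfLe inf_le_right).toEquiv
    have h2 : (Nat.card (Subgroup.centralizer (Q : Set G))).factorization p
        = (zInC Q).index.factorization p + (Nat.card (zInC Q)).factorization p := by
      rw [← (zInC Q).index_mul_card,
        Nat.factorization_mul Subgroup.index_ne_zero_of_finite Nat.card_pos.ne']
      rfl
    rw [h2, h1] at hdeg
    omega
  have hDZ0 := (Cfsg.Agent.S0969.result p M hM (zInC Q) hZp (zInC_le_center Q) θ hdeg').1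
  have heq : e = blockOf M (θ : Subgroup.centralizer (Q : Set G) → ℂ) :=
    isPBlock_eq_of_mem heb ⟨θ, rfl⟩ θ hθ (sameBlock_refl hMtop _)
  rw [← heq] at hDZ0
  obtain ⟨g₀, hg₀, D, hZD⟩ := hDZ0
  -- the maximality condition
  intro R hRp hQR hRN hst ⟨x, hxR, hxe⟩
  apply le_antisymm _ hQR
  intro r hr
  have hxQ : x ∈ Subgroup.centralizer (Q : Set G) := Subgroup.centralizer_le hQR hxR
  have hxe' : ¬ MemLocalIdeal M (blockCoeff e ⟨x, hxQ⟩) := by
    rw [← subgroupBlockCoeff_of_mem _ e hxQ]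
    exact hxe
  obtain ⟨y, Q', hQ'⟩ := (min_max hM e heb g₀ hg₀ D ⟨x, hxQ⟩).1 hxe'
  rw [← hZD, map_conj_of_normal] at hQ'
  -- `r` is a `p`-element
  obtain ⟨k₁, hk₁⟩ := hRp ⟨r, hr⟩
  have hrk : r ^ (p ^ k₁) = 1 := by
    have := congrArg Subtype.val hk₁
    simpa using this
  have hrord : ∃ k : ℕ, orderOf r = p ^ k := by
    obtain ⟨j, -, hj⟩ := (Nat.dvd_prime_pow hp.out).mp (orderOf_dvd_of_pow_eq_one hrk)
    exact ⟨j, hj⟩
  have hrL := hpel r (hRN hr) (hst r hr) hrord
  obtain ⟨q, c, hrqc⟩ := exists_mul_of_mem_sup_centralizer Q r hrL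
  obtain ⟨k₂, hk₂⟩ := hQ q
  have hqk : (q : G) ^ (p ^ k₂) = 1 := by
    have := congrArg Subtype.val hk₂
    simpa using this
  have hqc : Commute (q : G) (c : G) := ((Subgroup.mem_centralizer_iff.mp c.2) (q : G) q.2)
  have hceq : (c : G) = (q : G)⁻¹ * r := by rw [hrqc]; group
  have hqr : Commute ((q : G)⁻¹) r := by
    rw [hrqc]
    exact (Commute.refl (q : G)).inv_left.mul_right hqc.inv_left
  have hck : (c : G) ^ (p ^ (k₁ + k₂)) = 1 := by
    rw [hceq, hqr.mul_pow, inv_pow, pow_add, pow_mul', hqk, one_pow, inv_one, one_mul,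
      mul_comm (p ^ k₁), pow_mul', hrk, one_pow]
  -- `c` commutes with `x`
  have hxr : r * x = x * r := (Subgroup.mem_centralizer_iff.mp hxR) r hr
  have hxq : (q : G) * x = x * (q : G) := (Subgroup.mem_centralizer_iff.mp hxR) (q : G) (hQR q.2)
  have hcx : (c : G) * x = x * (c : G) := by
    rw [hceq]
    calc (q : G)⁻¹ * r * x = (q : G)⁻¹ * (x * r) := by rw [mul_assoc, hxr]
      _ = (q : G)⁻¹ * (x * (q : G)) * (q : G)⁻¹ * r := by group
      _ = (q : G)⁻¹ * ((q : G) * x) * (q : G)⁻¹ * r := by rw [hxq]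
      _ = x * ((q : G)⁻¹ * r) := by group
  have hcmem : c ∈ Subgroup.centralizer
      ({(⟨x, hxQ⟩ : ↥(Subgroup.centralizer (Q : Set G)))} : Set ↥(Subgroup.centralizer (Q : Set G))) := by
    rw [Subgroup.mem_centralizer_singleton_iff]
    apply Subtype.ext
    exact hcx
  have hck' : c ^ (p ^ (k₁ + k₂)) = 1 := by
    apply Subtype.ext
    simpa using hck
  have hzp := isPGroup_zpowers_of_pow_eq_one c (k₁ + k₂) hck'
  have hzle : Subgroup.zpowers c ≤ Subgroup.centralizer
      ({(⟨x, hxQ⟩ : ↥(Subgroup.centralizer (Q : Set G)))} : Set ↥(Subgroup.centralizer (Q : Set G))) := by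
    rw [Subgroup.zpowers_le]
    exact hcmem
  obtain ⟨t, -, ht⟩ := exists_le_conj_sylow _ Q' (Subgroup.zpowers c) hzp hzle
  have hcZ : c ∈ zInC Q := by
    have h1 := ht (Subgroup.mem_zpowers c)
    have h2 : ((Q' : Subgroup _).map (Subgroup.centralizer
        ({(⟨x, hxQ⟩ : ↥(Subgroup.centralizer (Q : Set G)))} :
          Set ↥(Subgroup.centralizer (Q : Set G)))).subtype).map (MulAut.conj t).toMonoidHom
        ≤ (zInC Q).map (MulAut.conj t).toMonoidHom := Subgroup.map_mono hQ'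
    rw [map_conj_of_normal (zInC Q) t] at h2
    exact h2 h1
  rw [mem_zInC_iff] at hcZ
  rw [hrqc]
  exact Q.mul_mem q.2 hcZ

end Cfsg.Agent.Lib.helper3.Block
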