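import Mathlib
import Cfsg.Prelude.Def_Blocks
import Cfsg.Prelude.Def_BrauerPairs
import Cfsg.Agent.Lib.helper3.MP3a
import Cfsg.Agent.Lib.helper3.MP4
import Cfsg.Agent.S4672

set_option autoImplicit false
set_option linter.style.haveILetI false
set_option linter.unusedSectionVars false

/-!
# Maximal Brauer pairs: `p`-elements stabilizing the block
-/

namespace Cfsg.Agent.Lib.helper3.Block

open Cfsg Module Cfsg.Agent.Lib.helper3.CharBasic Cfsg.Agent.Lib.helper3.Irr
open Cfsg.Agent.Lib.helper3.Central Cfsg.Agent.Lib.helper3.LocalM Cfsg.Agent.Lib.helper3.IndFun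
open Cfsg.Agent.Lib.helper3.Lin
open scoped ComplexConjugate Pointwise

universe u

variable {G : Type u} [Group G] [Fintype G] {M : Ideal AlgInt}

/-- Under the local maximality criterion, the `p`-elements of `N_G(Q)` stabilizing `e` lie in
`Q C_G(Q)`. -/
theorem mem_sup_of_maxCond {p : ℕ} [hp : Fact p.Prime] (hM : IsPModular p M)
    (Q : Subgroup G) (e : Set (IrrCharacter (Subgroup.centralizer (Q : Set G))))
    (he : IsBrauerPair p M Q e) (hmc : MaxCond p M Q e) (u : G)
    (huN : u ∈ Subgroup.normalizer (Q : Set G))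
    (hust : StabilizesBlock (Subgroup.centralizer (Q : Set G)) e u)
    (hu : ∃ k : ℕ, orderOf u = p ^ k) :
    u ∈ Q ⊔ Subgroup.centralizer (Q : Set G) := by
  classical
  letI : Fintype (Subgroup.centralizer (Q : Set G)) := Fintype.ofFinite _
  haveI hMp := isPrime_of_isPModular hM
  have hMtop : M ≠ ⊤ := hM.2.1.ne_top
  obtain ⟨hQ, heb⟩ := he
  obtain ⟨k, huk⟩ := hu
  have huC : u ∈ Subgroup.normalizer ((Subgroup.centralizer (Q : Set G) : Subgroup G) : Set G) :=
    hust.1
  obtain ⟨X, hXdef⟩ : ∃ X : Subgroup G,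
      X = Subgroup.centralizer (Q : Set G) ⊔ Subgroup.zpowers u := ⟨_, rfl⟩
  have hCX : Subgroup.centralizer (Q : Set G) ≤ X := by rw [hXdef]; exact le_sup_left
  have huX : u ∈ X := by
    rw [hXdef]
    exact (le_sup_right : Subgroup.zpowers u ≤ _) (Subgroup.mem_zpowers u)
  have hXN : X ≤ Subgroup.normalizer
      ((Subgroup.centralizer (Q : Set G) : Subgroup G) : Set G) := by
    rw [hXdef]
    apply sup_le Subgroup.le_normalizer
    rw [Subgroup.zpowers_le]
    exact huC
  haveI hn : ((Subgroup.centralizer (Q : Set G)).subgroupOf X).Normal :=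
    Subgroup.normal_subgroupOf_of_le_normalizer hXN
  letI : Fintype X := Fintype.ofFinite _
  letI : Fintype ((Subgroup.centralizer (Q : Set G)).subgroupOf X) := Fintype.ofFinite _
  obtain ⟨j, hj⟩ := index_subgroupOf_sup_zpowers (p := p) (Subgroup.centralizer (Q : Set G)) u huC
    k huk
  rw [← hXdef] at hj
  -- the stabilizer
  obtain ⟨T, hT⟩ := exists_stabilizer_subgroup (Subgroup.centralizer (Q : Set G)) e heb
  have hQT : Q ≤ T := fun q hq => (hT q).mpr (stabilizesBlock_of_mem_base Q e q hq)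
  have hCT : Subgroup.centralizer (Q : Set G) ≤ T :=
    fun c hc => (hT c).mpr (stabilizesBlock_of_mem_self _ e c hc)
  have hXT : X ≤ T := by
    rw [hXdef]
    apply sup_le hCT
    rw [Subgroup.zpowers_le]
    exact (hT u).mpr hust
  have hXNQ : X ≤ Subgroup.normalizer (Q : Set G) := by
    rw [hXdef]
    apply sup_le (Subgroup.centralizer_le_normalizer _)
    rw [Subgroup.zpowers_le]
    exact huN
  -- the transported block
  have heX : IsPBlock M (irrCongr (Subgroup.subgroupOfEquivOfLe hCX) '' e) :=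
    isPBlock_image_irrCongr _ e heb
  have hstX : ∀ x : X, StabilizesBlock ((Subgroup.centralizer (Q : Set G)).subgroupOf X)
      (irrCongr (Subgroup.subgroupOfEquivOfLe hCX) '' e) x :=
    fun x => stabilizesBlock_subgroupOf _ X hCX e x ((hT x).mp (hXT x.2))
  obtain ⟨⟨E, hE, hEc⟩, hdef⟩ := Cfsg.Agent.S4672.result p M hM
    ((Subgroup.centralizer (Q : Set G)).subgroupOf X) ⟨j, hj⟩
    (irrCongr (Subgroup.subgroupOfEquivOfLe hCX) '' e) heX hstX
  obtain ⟨P, hP⟩ := exists_isDefectGroup hM E hE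
  obtain ⟨hsup, -⟩ := hdef E hE hEc P hP
  obtain ⟨x₀, hx₀, S, hPS⟩ := id hP
  have hx₀e : ¬ MemLocalIdeal M
      (subgroupBlockCoeff (Subgroup.centralizer (Q : Set G)) e (x₀ : G)) := by
    rw [← subgroupBlockCoeff_subgroupOf _ X hCX e x₀, ← hEc]
    exact hx₀.2.1
  have hx₀C : (x₀ : G) ∈ Subgroup.centralizer (Q : Set G) := by
    by_contra h
    apply hx₀e
    rw [subgroupBlockCoeff_of_notMem _ e h]
    exact memLocalIdeal_zero hMtop
  -- decompose `u`
  have huXtop : (⟨u, huX⟩ : X) ∈ ((Subgroup.centralizer (Q : Set G)).subgroupOf X ⊔ P : Subgroup X) := by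
    rw [hsup]
    exact Subgroup.mem_top _
  have hmul : (⟨u, huX⟩ : X) ∈ (((Subgroup.centralizer (Q : Set G)).subgroupOf X : Subgroup X) : Set X)
      * (P : Set X) := by
    rw [← Subgroup.normal_mul]
    exact huXtop
  obtain ⟨c, hc, d, hd, hcd⟩ := Set.mem_mul.mp hmul
  have hdx : d * x₀ = x₀ * d := by
    have hd' : d ∈ P := hd
    rw [hPS] at hd'
    obtain ⟨s, -, rfl⟩ := hd'
    exact Subgroup.mem_centralizer_singleton_iff.mp s.2
  have hPp : IsPGroup p P := by
    rw [hPS]
    exact S.isPGroup'.map _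
  obtain ⟨k₂, hk₂⟩ := hPp ⟨d, hd⟩
  have hdk : (d : G) ^ (p ^ k₂) = 1 := by
    have := congrArg (fun z : P => ((z : X) : G)) hk₂
    simpa using this
  have hdN : (d : G) ∈ Subgroup.normalizer (Q : Set G) := hXNQ d.2
  have hzp : IsPGroup p (Subgroup.zpowers (d : G)) :=
    isPGroup_zpowers_of_pow_eq_one _ k₂ hdk
  have hzN : Subgroup.zpowers (d : G) ≤ Subgroup.normalizer (Q : Set G) := by
    rw [Subgroup.zpowers_le]
    exact hdN
  have hRp : IsPGroup p (Q ⊔ Subgroup.zpowers (d : G) : Subgroup G) := by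
    rw [sup_comm]
    exact IsPGroup.to_sup_of_normal_right' hzp hQ hzN
  have hRN : Q ⊔ Subgroup.zpowers (d : G) ≤ Subgroup.normalizer (Q : Set G) :=
    sup_le Subgroup.le_normalizer hzN
  have hzT : Subgroup.zpowers (d : G) ≤ T := by
    rw [Subgroup.zpowers_le]
    exact hXT d.2
  have hst : ∀ r ∈ Q ⊔ Subgroup.zpowers (d : G),
      StabilizesBlock (Subgroup.centralizer (Q : Set G)) e r :=
    fun r hr => (hT r).mp (sup_le hQT hzT hr)
  have hx : ∃ x ∈ Subgroup.centralizer ((Q ⊔ Subgroup.zpowers (d : G) : Subgroup G) : Set G),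
      ¬ MemLocalIdeal M (subgroupBlockCoeff (Subgroup.centralizer (Q : Set G)) e x) := by
    refine ⟨(x₀ : G), ?_, hx₀e⟩
    have hle : Q ⊔ Subgroup.zpowers (d : G) ≤ Subgroup.centralizer ({(x₀ : G)} : Set G) := by
      apply sup_le
      · intro q hq
        rw [Subgroup.mem_centralizer_singleton_iff]
        exact (Subgroup.mem_centralizer_iff.mp hx₀C) q hq
      · rw [Subgroup.zpowers_le, Subgroup.mem_centralizer_singleton_iff]
        have := congrArg Subtype.val hdx
        simpa using this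
    rw [Subgroup.mem_centralizer_iff]
    intro r hr
    exact Subgroup.mem_centralizer_singleton_iff.mp (hle hr)
  have hRQ := hmc _ hRp le_sup_left hRN hst hx
  have hdQ : (d : G) ∈ Q := by
    rw [← hRQ]
    exact (le_sup_right : Subgroup.zpowers (d : G) ≤ _) (Subgroup.mem_zpowers _)
  have hueq : u = (c : G) * (d : G) := by
    have := congrArg Subtype.val hcd
    simpa using this.symm
  rw [hueq]
  have hcC : (c : G) ∈ Subgroup.centralizer (Q : Set G) := Subgroup.mem_subgroupOf.mp hc
  exact Subgroup.mul_mem _ ((le_sup_right : Subgroup.centralizer (Q : Set G) ≤ _) hcC)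
    ((le_sup_left : Q ≤ _) hdQ)

end Cfsg.Agent.Lib.helper3.Block
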