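import Mathlib
import Cfsg.Agent.Lib.helper3.SP1
import Cfsg.Agent.Lib.helper3.MP1
import Cfsg.Agent.S4656

/-!
# Inclusion of Brauer pairs: uniqueness of the pair below on each subgroup
-/

set_option autoImplicit false
set_option linter.style.haveILetI false
set_option linter.unusedSectionVars false

namespace Cfsg.Agent.Lib.helper3.Block

open Cfsg Module Cfsg.Agent.Lib.helper3.CharBasic Cfsg.Agent.Lib.helper3.Irr
open Cfsg.Agent.Lib.helper3.Central Cfsg.Agent.Lib.helper3.LocalM Cfsg.Agent.Lib.helper3.IndFun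
open Cfsg.Agent.Lib.helper3.Lin
open scoped ComplexConjugate

universe u

variable {G : Type u} [Group G] [Fintype G] {M : Ideal AlgInt}

/-- Two pairs normal in a third one, on nested subgroups, are normally included. -/
theorem isNormalSubpair_of_le {p : ℕ} [hp : Fact p.Prime] (hM : IsPModular p M)
    (Q R P : Subgroup G) (f : Set (IrrCharacter (Subgroup.centralizer (Q : Set G))))
    (g : Set (IrrCharacter (Subgroup.centralizer (R : Set G))))
    (e : Set (IrrCharacter (Subgroup.centralizer (P : Set G)))) (hQR : Q ≤ R)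
    (hQf : IsNormalSubpair p M Q f P e) (hRg : IsNormalSubpair p M R g P e) :
    IsNormalSubpair p M Q f R g := by
  classical
  haveI hMp := isPrime_of_isPModular hM
  have hMtop : M ≠ ⊤ := hM.2.1.ne_top
  haveI : Fintype (Subgroup.centralizer (P : Set G)) := Fintype.ofFinite _
  haveI : Fintype (Subgroup.centralizer (R : Set G)) := Fintype.ofFinite _
  haveI : Fintype (Subgroup.centralizer (Q : Set G)) := Fintype.ofFinite _
  obtain ⟨⟨hQp, hf⟩, ⟨hPp, he⟩, hQP, hPNQ, hstf, hωf⟩ := hQf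
  obtain ⟨⟨hRp, hg⟩, -, hRP, hPNR, hstg, hωg⟩ := hRg
  refine ⟨⟨hQp, hf⟩, ⟨hRp, hg⟩, hQR, hRP.trans hPNQ, fun x hx => hstf x (hRP hx), ?_⟩
  intro θ hθ
  obtain ⟨ξ, hξ⟩ : ∃ ξ, ξ ∈ e := by
    obtain ⟨χ, hχ⟩ := id he
    exact ⟨χ, by rw [hχ]; exact sameBlock_refl hMtop _⟩
  have hCPR : Subgroup.centralizer (P : Set G) ≤ Subgroup.centralizer (R : Set G) :=
    Subgroup.centralizer_le (by exact_mod_cast hRP)
  have hCRQ : Subgroup.centralizer (R : Set G) ≤ Subgroup.centralizer (Q : Set G) :=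
    Subgroup.centralizer_le (by exact_mod_cast hQR)
  have key := memLocalIdeal_brauerOmega_sub_sum_of_stable hM P hPp
    (Subgroup.centralizer (R : Set G)) hCPR g hg hstg ξ (hωg ξ hξ)
    (subgroupBlockCoeff (Subgroup.centralizer (Q : Set G)) f)
    (fun x => memLocalRing_subgroupBlockCoeff hM _ f hf x)
    (fun u hu x => subgroupBlockCoeff_conj_of_stabilizes _ f hf u (hstf u hu) x)
    (fun h hh x => subgroupBlockCoeff_conj_of_mem _ f h (hCRQ hh) x) θ hθ
  rw [← brauerOmega_eq_sum R] at key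
  have h2 := memLocalIdeal_sub (hωf ξ hξ) key
  convert h2 using 1
  ring

theorem fst_le_of_normalSubpairRel {p : ℕ} {a b : BrauerPairIdx G}
    (h : NormalSubpairRel p M a b) : a.1 ≤ b.1 := h.2.2.1

theorem fst_le_of_reflTransGen {p : ℕ} {a b : BrauerPairIdx G}
    (h : Relation.ReflTransGen (NormalSubpairRel p M) a b) : a.1 ≤ b.1 := by
  induction h with
  | refl => exact le_refl _
  | tail _ hbc ih => exact ih.trans (fst_le_of_normalSubpairRel hbc)

/-- A normal step between pairs on the same subgroup is trivial. -/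
theorem eq_of_normalSubpairRel_of_fst_eq {p : ℕ} [hp : Fact p.Prime] (hM : IsPModular p M)
    {a b : BrauerPairIdx G} (h : NormalSubpairRel p M a b) (hab : a.1 = b.1) : a = b := by
  classical
  haveI hMp := isPrime_of_isPModular hM
  have hMtop : M ≠ ⊤ := hM.2.1.ne_top
  obtain ⟨Q, e⟩ := a
  obtain ⟨R, g⟩ := b
  simp only at hab
  subst hab
  letI : Fintype (Subgroup.centralizer (Q : Set G)) := Fintype.ofFinite _
  have h' : IsNormalSubpair p M Q e Q g := h
  obtain ⟨⟨hQ, he⟩, ⟨-, hg⟩, -, -, -, hΛ⟩ := h'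
  obtain ⟨ξ, hξ⟩ : ∃ ξ, ξ ∈ g := by
    obtain ⟨χ, hχ⟩ := id hg
    exact ⟨χ, by rw [hχ]; exact sameBlock_refl hMtop _⟩
  have hξe : ξ ∈ e := by
    by_contra hne
    have h1 := hΛ ξ hξ
    rw [brauerOmega_eq_sum] at h1
    have h2 : ∑ x : ↥(Subgroup.centralizer (Q : Set G)),
        subgroupBlockCoeff (Subgroup.centralizer (Q : Set G)) e (x : G)
          * ((ξ : Subgroup.centralizer (Q : Set G) → ℂ) x
            / (ξ : Subgroup.centralizer (Q : Set G) → ℂ) 1)
        = ∑ x : ↥(Subgroup.centralizer (Q : Set G)), blockCoeff e x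
          * ((ξ : Subgroup.centralizer (Q : Set G) → ℂ) x
            / (ξ : Subgroup.centralizer (Q : Set G) → ℂ) 1) := by
      apply Finset.sum_congr rfl
      intro x _
      rw [subgroupBlockCoeff_of_mem _ e x.2]
    rw [h2, sum_blockCoeff_mul_div, if_neg hne, zero_sub] at h1
    have h3 := memLocalIdeal_neg h1
    rw [neg_neg] at h3
    exact not_memLocalIdeal_one h3
  have hge : g = e := isPBlock_eq_of_mem hg he ξ hξ hξe
  rw [hge]

theorem eq_of_reflTransGen_of_fst_eq {p : ℕ} [hp : Fact p.Prime] (hM : IsPModular p M)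
    {a b : BrauerPairIdx G} (h : Relation.ReflTransGen (NormalSubpairRel p M) a b)
    (hab : a.1 = b.1) : a = b := by
  induction h with
  | refl => rfl
  | tail hac hcb ih =>
    rename_i c b
    have h1 : a.1 ≤ c.1 := fst_le_of_reflTransGen hac
    have h2 : c.1 ≤ b.1 := fst_le_of_normalSubpairRel hcb
    have hcb' : c.1 = b.1 := le_antisymm h2 (hab ▸ h1)
    have hac' : a.1 = c.1 := hab.trans hcb'.symm
    rw [ih hac']
    exact eq_of_normalSubpairRel_of_fst_eq hM hcb hcb'

/-- A nontrivial chain ends with a proper normal step. -/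
theorem exists_proper_step {p : ℕ} [hp : Fact p.Prime] (hM : IsPModular p M)
    {a b : BrauerPairIdx G} (h : Relation.ReflTransGen (NormalSubpairRel p M) a b) :
    a = b ∨ ∃ c : BrauerPairIdx G, Relation.ReflTransGen (NormalSubpairRel p M) a c ∧
      NormalSubpairRel p M c b ∧ c.1 < b.1 := by
  induction h with
  | refl => exact Or.inl rfl
  | tail hac hcb ih =>
    rename_i c b
    by_cases hcb' : c.1 = b.1
    · have hcb'' : c = b := eq_of_normalSubpairRel_of_fst_eq hM hcb hcb'
      rw [← hcb'']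
      exact ih
    · exact Or.inr ⟨c, hac, hcb, lt_of_le_of_ne (fst_le_of_normalSubpairRel hcb) hcb'⟩

/-- The normalizer condition in a finite `p`-group, inside `G`. -/
theorem exists_normalizing_of_lt {p : ℕ} [hp : Fact p.Prime] (P Q : Subgroup G)
    (hP : IsPGroup p P) (hQP : Q < P) :
    ∃ x ∈ P, x ∈ Subgroup.normalizer (Q : Set G) ∧ x ∉ Q := by
  classical
  haveI hnil : Group.IsNilpotent P := hP.isNilpotent
  have hnc : NormalizerCondition P := Group.normalizerCondition_of_isNilpotent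
  have hlt : Q.subgroupOf P < ⊤ := by
    rw [lt_top_iff_ne_top]
    intro h
    rw [Subgroup.subgroupOf_eq_top] at h
    exact (not_le_of_gt hQP) h
  have h1 := hnc (Q.subgroupOf P) hlt
  obtain ⟨x, hxN, hxQ⟩ := SetLike.exists_of_lt h1
  refine ⟨x, x.2, ?_, fun h => hxQ (Subgroup.mem_subgroupOf.mpr h)⟩
  rw [Subgroup.mem_normalizer_iff] at hxN ⊢
  intro q
  constructor
  · intro hq
    have := (hxN ⟨q, hQP.le hq⟩).mp (Subgroup.mem_subgroupOf.mpr hq)
    exact Subgroup.mem_subgroupOf.mp this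
  · intro hq
    have hqP : q ∈ P := by
      have h2 : (x : G) * q * (x : G)⁻¹ ∈ P := hQP.le hq
      have h3 := P.mul_mem (P.mul_mem (P.inv_mem x.2) h2) x.2
      have e : (x : G)⁻¹ * ((x : G) * q * (x : G)⁻¹) * (x : G) = q := by group
      rwa [e] at h3
    have := (hxN ⟨q, hqP⟩).mpr (Subgroup.mem_subgroupOf.mpr hq)
    exact Subgroup.mem_subgroupOf.mp this

/-- Below a Brauer pair there is a pair on each smaller subgroup. -/
theorem exists_subpair {p : ℕ} [hp : Fact p.Prime] (hM : IsPModular p M)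
    (P : Subgroup G) (e : Set (IrrCharacter (Subgroup.centralizer (P : Set G))))
    (hPe : IsBrauerPair p M P e) :
    ∀ (k : ℕ) (Q : Subgroup G), Q ≤ P → Nat.card P - Nat.card Q = k →
      ∃ f : Set (IrrCharacter (Subgroup.centralizer (Q : Set G))), IsPBlock M f ∧
        SubpairLE p M Q f P e := by
  classical
  intro k
  induction k using Nat.strong_induction_on with
  | _ k ih =>
    intro Q hQP hk
    by_cases hQeq : Q = P
    · subst hQeq
      exact ⟨e, hPe.2, Relation.ReflTransGen.refl⟩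
    · have hlt : Q < P := lt_of_le_of_ne hQP hQeq
      obtain ⟨x, hxP, hxN, hxQ⟩ := exists_normalizing_of_lt P Q hPe.1 hlt
      obtain ⟨Q₁, hQ₁⟩ : ∃ Q₁ : Subgroup G, Q₁ = P ⊓ Subgroup.normalizer (Q : Set G) := ⟨_, rfl⟩
      have hQQ₁ : Q ≤ Q₁ := by
        rw [hQ₁]
        exact le_inf hQP Subgroup.le_normalizer
      have hQ₁P : Q₁ ≤ P := by
        rw [hQ₁]
        exact inf_le_left
      have hQ₁N : Q₁ ≤ Subgroup.normalizer (Q : Set G) := by
        rw [hQ₁]
        exact inf_le_right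
      have hxQ₁ : x ∈ Q₁ := by
        rw [hQ₁]
        exact ⟨hxP, hxN⟩
      have hlt₁ : Q < Q₁ := lt_of_le_of_ne hQQ₁ (fun h => hxQ (h ▸ hxQ₁))
      have hcard : Nat.card Q < Nat.card Q₁ := by
        have := Set.ncard_lt_ncard (s := (Q : Set G)) (t := (Q₁ : Set G))
          (by exact_mod_cast hlt₁) (Set.toFinite _)
        rw [Set.ncard_eq_toFinset_card', Set.ncard_eq_toFinset_card'] at this
        rw [Nat.card_eq_fintype_card, Nat.card_eq_fintype_card]
        simpa [Set.toFinset_card] using this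
      have hcard₁ : Nat.card Q₁ ≤ Nat.card P := Subgroup.card_le_of_le hQ₁P
      obtain ⟨f₁, hf₁, hle₁⟩ := ih (Nat.card P - Nat.card Q₁) (by omega) Q₁ hQ₁P rfl
      have hQ₁f₁ : IsBrauerPair p M Q₁ f₁ := ⟨hPe.1.to_le hQ₁P, hf₁⟩
      obtain ⟨f, hf, -⟩ := Cfsg.Agent.S4656.result p M hM Q₁ Q f₁ hQ₁f₁ hQQ₁ hQ₁N
      have hf' : NormalSubpairRel p M (⟨Q, f⟩ : BrauerPairIdx G) ⟨Q₁, f₁⟩ := hf
      exact ⟨f, hf.1.2, Relation.ReflTransGen.head hf' hle₁⟩

/-- Uniqueness of the pair below a given pair on each subgroup. -/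
theorem subpair_unique {p : ℕ} [hp : Fact p.Prime] (hM : IsPModular p M) :
    ∀ (n : ℕ) (b : BrauerPairIdx G), Nat.card b.1 = n → ∀ a a' : BrauerPairIdx G,
      Relation.ReflTransGen (NormalSubpairRel p M) a b →
      Relation.ReflTransGen (NormalSubpairRel p M) a' b → a.1 = a'.1 → a = a' := by
  classical
  intro n
  induction n using Nat.strong_induction_on with
  | _ n ih =>
    intro b hb a a' hab ha'b haa'
    rcases exists_proper_step hM hab with h1 | ⟨c, hac, hcb, hclt⟩
    · subst h1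
      exact (eq_of_reflTransGen_of_fst_eq hM ha'b haa'.symm).symm
    rcases exists_proper_step hM ha'b with h2 | ⟨c', ha'c', hc'b, hc'lt⟩
    · subst h2
      exact eq_of_reflTransGen_of_fst_eq hM hab haa'
    -- the intersection
    obtain ⟨T, hT⟩ : ∃ T : Subgroup G, T = c.1 ⊓ c'.1 := ⟨_, rfl⟩
    have haT : a.1 ≤ T := by
      rw [hT]
      exact le_inf (fst_le_of_reflTransGen hac) (haa' ▸ fst_le_of_reflTransGen ha'c')
    have hTc : T ≤ c.1 := hT ▸ inf_le_left
    have hTc' : T ≤ c'.1 := hT ▸ inf_le_right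
    have hTb : T ≤ b.1 := hTc.trans hclt.le
    have hbN : b.1 ≤ Subgroup.normalizer (T : Set G) := by
      intro u hu
      have h1 := hcb.2.2.2.1 hu
      have h2 := hc'b.2.2.2.1 hu
      rw [Subgroup.mem_normalizer_iff] at h1 h2 ⊢
      intro t
      rw [hT, Subgroup.mem_inf, Subgroup.mem_inf, ← h1 t, ← h2 t]
    have hbpair : IsBrauerPair p M b.1 b.2 := hcb.2.1
    obtain ⟨h, hh, -⟩ := Cfsg.Agent.S4656.result p M hM b.1 T b.2 hbpair hTb hbN
    have hTc_n : IsNormalSubpair p M T h c.1 c.2 :=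
      isNormalSubpair_of_le hM T c.1 b.1 h c.2 b.2 hTc hh hcb
    have hTc'_n : IsNormalSubpair p M T h c'.1 c'.2 :=
      isNormalSubpair_of_le hM T c'.1 b.1 h c'.2 b.2 hTc' hh hc'b
    obtain ⟨f'', -, hle''⟩ := exists_subpair hM T h hh.1 _ a.1 haT rfl
    have hcardlt : ∀ d : BrauerPairIdx G, d.1 < b.1 → Nat.card d.1 < n := by
      intro d hd
      rw [← hb]
      have := Set.ncard_lt_ncard (s := (d.1 : Set G)) (t := (b.1 : Set G))
        (by exact_mod_cast hd) (Set.toFinite _)
      rw [Set.ncard_eq_toFinset_card', Set.ncard_eq_toFinset_card'] at this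
      rw [Nat.card_eq_fintype_card, Nat.card_eq_fintype_card]
      simpa [Set.toFinset_card] using this
    have e1 : (⟨a.1, f''⟩ : BrauerPairIdx G) = a :=
      ih _ (hcardlt c hclt) c rfl ⟨a.1, f''⟩ a
        (Relation.ReflTransGen.tail hle'' hTc_n) hac rfl
    have e2 : (⟨a.1, f''⟩ : BrauerPairIdx G) = a' :=
      ih _ (hcardlt c' hc'lt) c' rfl ⟨a.1, f''⟩ a'
        (Relation.ReflTransGen.tail hle'' hTc'_n) ha'c' haa'
    exact e1.symm.trans e2

end Cfsg.Agent.Lib.helper3.Block
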