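import Mathlib
import Cfsg.Agent.Lib.helper3.SP2
import Cfsg.Agent.Lib.helper3.IrrCongr

/-!
# Conjugation of Brauer pairs
-/

set_option autoImplicit false
set_option linter.style.haveILetI false
set_option linter.unusedSectionVars false

namespace Cfsg.Agent.Lib.helper3.Block

open Cfsg Module Cfsg.Agent.Lib.helper3.CharBasic Cfsg.Agent.Lib.helper3.Irr
open Cfsg.Agent.Lib.helper3.Central Cfsg.Agent.Lib.helper3.LocalM Cfsg.Agent.Lib.helper3.IndFun
open Cfsg.Agent.Lib.helper3.Lin
open scoped ComplexConjugate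

universe u

variable {G : Type u} [Group G] [Fintype G] {M : Ideal AlgInt}

theorem conj_inv_mem_centralizer_of_map (Q : Subgroup G) (x c : G)
    (hc : c ∈ Subgroup.centralizer ((Q.map (MulAut.conj x).toMonoidHom : Subgroup G) : Set G)) :
    x⁻¹ * c * x ∈ Subgroup.centralizer (Q : Set G) := by
  rw [Subgroup.mem_centralizer_iff] at hc ⊢
  intro q hq
  have h1 := hc (x * q * x⁻¹) ⟨q, hq, rfl⟩
  calc q * (x⁻¹ * c * x) = x⁻¹ * ((x * q * x⁻¹) * c) * x := by group
    _ = x⁻¹ * (c * (x * q * x⁻¹)) * x := by rw [h1]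
    _ = x⁻¹ * c * x * q := by group

theorem conj_mem_centralizer_map (Q : Subgroup G) (x c : G)
    (hc : c ∈ Subgroup.centralizer (Q : Set G)) :
    x * c * x⁻¹ ∈
      Subgroup.centralizer ((Q.map (MulAut.conj x).toMonoidHom : Subgroup G) : Set G) := by
  rw [Subgroup.mem_centralizer_iff] at hc ⊢
  rintro _ ⟨q, hq, rfl⟩
  have h1 := hc q hq
  show x * q * x⁻¹ * (x * c * x⁻¹) = x * c * x⁻¹ * (x * q * x⁻¹)
  calc x * q * x⁻¹ * (x * c * x⁻¹) = x * (q * c) * x⁻¹ := by group
    _ = x * (c * q) * x⁻¹ := by rw [h1]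
    _ = x * c * x⁻¹ * (x * q * x⁻¹) := by group

/-- Conjugation by `x⁻¹` from `C_G(xQx⁻¹)` to `C_G(Q)`. -/
noncomputable def centConj (Q : Subgroup G) (x : G) :
    ↥(Subgroup.centralizer ((Q.map (MulAut.conj x).toMonoidHom : Subgroup G) : Set G))
      ≃* ↥(Subgroup.centralizer (Q : Set G)) where
  toFun c := ⟨x⁻¹ * c * x, conj_inv_mem_centralizer_of_map Q x c c.2⟩
  invFun c := ⟨x * c * x⁻¹, conj_mem_centralizer_map Q x c c.2⟩
  left_inv c := by
    apply Subtype.ext
    simp only
    group
  right_inv c := by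
    apply Subtype.ext
    simp only
    group
  map_mul' a b := by
    apply Subtype.ext
    simp only [Subgroup.coe_mul]
    group

theorem centConj_coe (Q : Subgroup G) (x : G)
    (c : ↥(Subgroup.centralizer ((Q.map (MulAut.conj x).toMonoidHom : Subgroup G) : Set G))) :
    ((centConj Q x c : ↥(Subgroup.centralizer (Q : Set G))) : G) = x⁻¹ * c * x := rfl

theorem conjBlock_eq_image (Q : Subgroup G) (x : G)
    [Fintype (Subgroup.centralizer (Q : Set G))]
    [Fintype (Subgroup.centralizer ((Q.map (MulAut.conj x).toMonoidHom : Subgroup G) : Set G))]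
    (f : Set (IrrCharacter (Subgroup.centralizer (Q : Set G)))) :
    conjBlock Q x f = irrCongr (centConj Q x) '' f := by
  ext ξ'
  constructor
  · rintro ⟨ξ, hξ, h⟩
    refine ⟨ξ, hξ, ?_⟩
    apply Subtype.ext
    funext c'
    rw [irrCongr_apply]
    symm
    apply h
    rw [centConj_coe]
    group
  · rintro ⟨ξ, hξ, rfl⟩
    refine ⟨ξ, hξ, ?_⟩
    intro c c' hcc'
    rw [irrCongr_apply]
    apply congrArg
    apply Subtype.ext
    rw [centConj_coe, hcc']
    group

theorem isPBlock_principalBlock (K : Type*) [Group K] [Fintype K] :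
    IsPBlock M (principalBlock M K) :=
  ⟨⟨fun _ : K => (1 : ℂ), isIrrCharacter_one⟩, rfl⟩

theorem conjBlock_principalBlock (Q : Subgroup G) (x : G) :
    conjBlock Q x (principalBlock M (Subgroup.centralizer (Q : Set G)))
      = principalBlock M
        (Subgroup.centralizer ((Q.map (MulAut.conj x).toMonoidHom : Subgroup G) : Set G)) := by
  classical
  haveI : Fintype (Subgroup.centralizer (Q : Set G)) := Fintype.ofFinite _
  haveI : Fintype (Subgroup.centralizer
    ((Q.map (MulAut.conj x).toMonoidHom : Subgroup G) : Set G)) := Fintype.ofFinite _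
  rw [conjBlock_eq_image]
  have h := image_irrCongr_blockOf (M := M) (centConj Q x)
    (⟨fun _ => 1, isIrrCharacter_one⟩ : IrrCharacter (Subgroup.centralizer (Q : Set G)))
  exact h

theorem isPBlock_conjBlock (Q : Subgroup G) (x : G)
    (f : Set (IrrCharacter (Subgroup.centralizer (Q : Set G)))) (hf : IsPBlock M f) :
    IsPBlock M (conjBlock Q x f) := by
  classical
  haveI : Fintype (Subgroup.centralizer (Q : Set G)) := Fintype.ofFinite _
  haveI : Fintype (Subgroup.centralizer
    ((Q.map (MulAut.conj x).toMonoidHom : Subgroup G) : Set G)) := Fintype.ofFinite _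
  rw [conjBlock_eq_image]
  exact isPBlock_image_irrCongr _ f hf

end Cfsg.Agent.Lib.helper3.Block
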