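import Mathlib
import Cfsg.Agent.Lib.helper3.SP3

/-!
# Conjugation of Brauer pairs: equivariance of the inclusion
-/

set_option autoImplicit false
set_option linter.style.haveILetI false
set_option linter.unusedSectionVars false

namespace Cfsg.Agent.Lib.helper3.Block

open Cfsg Module Cfsg.Agent.Lib.helper3.CharBasic Cfsg.Agent.Lib.helper3.Irr
open Cfsg.Agent.Lib.helper3.Central Cfsg.Agent.Lib.helper3.LocalM Cfsg.Agent.Lib.helper3.IndFun
open Cfsg.Agent.Lib.helper3.Lin
open scoped ComplexConjugate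

universe u

variable {G : Type u} [Group G] [Fintype G] {M : Ideal AlgInt}

/-- The conjugate of a Brauer pair, on the index type. -/
def conjIdx (x : G) (a : BrauerPairIdx G) : BrauerPairIdx G :=
  ⟨a.1.map (MulAut.conj x).toMonoidHom, conjBlock a.1 x a.2⟩

theorem mem_centralizer_map_conj_iff (Q : Subgroup G) (x g : G) :
    g ∈ Subgroup.centralizer ((Q.map (MulAut.conj x).toMonoidHom : Subgroup G) : Set G)
      ↔ x⁻¹ * g * x ∈ Subgroup.centralizer (Q : Set G) := by
  constructor
  · exact conj_inv_mem_centralizer_of_map Q x g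
  · intro h
    have := conj_mem_centralizer_map Q x _ h
    have e : x * (x⁻¹ * g * x) * x⁻¹ = g := by group
    rwa [e] at this

theorem subgroupBlockCoeff_conjBlock (Q : Subgroup G) (x : G)
    (f : Set (IrrCharacter (Subgroup.centralizer (Q : Set G)))) (g : G) :
    subgroupBlockCoeff
        (Subgroup.centralizer ((Q.map (MulAut.conj x).toMonoidHom : Subgroup G) : Set G))
        (conjBlock Q x f) g
      = subgroupBlockCoeff (Subgroup.centralizer (Q : Set G)) f (x⁻¹ * g * x) := by
  classical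
  haveI : Fintype (Subgroup.centralizer (Q : Set G)) := Fintype.ofFinite _
  haveI : Fintype (Subgroup.centralizer
    ((Q.map (MulAut.conj x).toMonoidHom : Subgroup G) : Set G)) := Fintype.ofFinite _
  by_cases hg : g ∈ Subgroup.centralizer
      ((Q.map (MulAut.conj x).toMonoidHom : Subgroup G) : Set G)
  · have hg' := (mem_centralizer_map_conj_iff Q x g).mp hg
    rw [subgroupBlockCoeff_of_mem _ _ hg, subgroupBlockCoeff_of_mem _ _ hg', conjBlock_eq_image,
      blockCoeff_image_irrCongr]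
    rfl
  · have hg' : x⁻¹ * g * x ∉ Subgroup.centralizer (Q : Set G) :=
      fun h => hg ((mem_centralizer_map_conj_iff Q x g).mpr h)
    rw [subgroupBlockCoeff_of_notMem _ _ hg, subgroupBlockCoeff_of_notMem _ _ hg']

theorem brauerOmega_conj (P : Subgroup G) (x : G) (β β' : G → ℂ)
    (hβ : ∀ g, β' g = β (x⁻¹ * g * x))
    [Fintype (Subgroup.centralizer (P : Set G))]
    [Fintype (Subgroup.centralizer ((P.map (MulAut.conj x).toMonoidHom : Subgroup G) : Set G))]
    (ξ : IrrCharacter (Subgroup.centralizer (P : Set G))) :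
    brauerOmega (P.map (MulAut.conj x).toMonoidHom) β'
        (irrCongr (centConj P x) ξ :
          Subgroup.centralizer ((P.map (MulAut.conj x).toMonoidHom : Subgroup G) : Set G) → ℂ)
      = brauerOmega P β (ξ : Subgroup.centralizer (P : Set G) → ℂ) := by
  classical
  rw [brauerOmega_eq_sum, brauerOmega_eq_sum]
  apply Fintype.sum_equiv (centConj P x).toEquiv
  intro c'
  rw [irrCongr_apply, irrCongr_apply, map_one, hβ]
  rfl

theorem isBrauerPairOf_conj {p : ℕ} (B : Set (IrrCharacter G)) (Q : Subgroup G)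
    (f : Set (IrrCharacter (Subgroup.centralizer (Q : Set G)))) (x : G)
    (h : IsBrauerPairOf p M B Q f) :
    IsBrauerPairOf p M B (Q.map (MulAut.conj x).toMonoidHom) (conjBlock Q x f) := by
  classical
  haveI : Fintype (Subgroup.centralizer (Q : Set G)) := Fintype.ofFinite _
  haveI : Fintype (Subgroup.centralizer
    ((Q.map (MulAut.conj x).toMonoidHom : Subgroup G) : Set G)) := Fintype.ofFinite _
  obtain ⟨⟨hQ, hf⟩, hB, hω⟩ := h
  refine ⟨⟨hQ.map _, isPBlock_conjBlock Q x f hf⟩, hB, ?_⟩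
  intro ξ' hξ'
  rw [conjBlock_eq_image] at hξ'
  obtain ⟨ξ, hξ, rfl⟩ := hξ'
  rw [brauerOmega_conj Q x (blockCoeff B) (blockCoeff B) _ ξ]
  · exact hω ξ hξ
  · intro g
    have := blockCoeff_conj' B g x⁻¹
    rw [inv_inv] at this
    exact this.symm

theorem stabilizesBlock_conjBlock (Q : Subgroup G) (x : G)
    (f : Set (IrrCharacter (Subgroup.centralizer (Q : Set G)))) (u : G)
    (h : StabilizesBlock (Subgroup.centralizer (Q : Set G)) f u) :
    StabilizesBlock
      (Subgroup.centralizer ((Q.map (MulAut.conj x).toMonoidHom : Subgroup G) : Set G))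
      (conjBlock Q x f) (x * u * x⁻¹) := by
  classical
  haveI : Fintype (Subgroup.centralizer (Q : Set G)) := Fintype.ofFinite _
  haveI : Fintype (Subgroup.centralizer
    ((Q.map (MulAut.conj x).toMonoidHom : Subgroup G) : Set G)) := Fintype.ofFinite _
  obtain ⟨hN, hst⟩ := h
  constructor
  · rw [Subgroup.mem_normalizer_iff] at hN ⊢
    intro h
    rw [mem_centralizer_map_conj_iff, mem_centralizer_map_conj_iff, hN (x⁻¹ * h * x)]
    have e : x⁻¹ * (x * u * x⁻¹ * h * (x * u * x⁻¹)⁻¹) * x = u * (x⁻¹ * h * x) * u⁻¹ := by group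
    rw [e]
  · intro χ' hχ'
    rw [conjBlock_eq_image] at hχ' ⊢
    obtain ⟨χ, hχ, rfl⟩ := hχ'
    obtain ⟨χ₂, hχ₂, hconj⟩ := hst χ hχ
    refine ⟨irrCongr (centConj Q x) χ₂, ⟨χ₂, hχ₂, rfl⟩, ?_⟩
    intro k k' hkk'
    rw [irrCongr_apply, irrCongr_apply]
    apply hconj
    rw [centConj_coe, centConj_coe, hkk']
    group

theorem isNormalSubpair_conj {p : ℕ} (x : G) (Q P : Subgroup G)
    (f : Set (IrrCharacter (Subgroup.centralizer (Q : Set G))))
    (e : Set (IrrCharacter (Subgroup.centralizer (P : Set G))))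
    (h : IsNormalSubpair p M Q f P e) :
    IsNormalSubpair p M (Q.map (MulAut.conj x).toMonoidHom) (conjBlock Q x f)
      (P.map (MulAut.conj x).toMonoidHom) (conjBlock P x e) := by
  classical
  haveI : Fintype (Subgroup.centralizer (P : Set G)) := Fintype.ofFinite _
  haveI : Fintype (Subgroup.centralizer
    ((P.map (MulAut.conj x).toMonoidHom : Subgroup G) : Set G)) := Fintype.ofFinite _
  obtain ⟨⟨hQ, hf⟩, ⟨hP, he⟩, hQP, hPN, hst, hω⟩ := h
  refine ⟨⟨hQ.map _, isPBlock_conjBlock Q x f hf⟩, ⟨hP.map _, isPBlock_conjBlock P x e he⟩,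
    Subgroup.map_mono hQP, (Subgroup.map_mono hPN).trans (Subgroup.le_normalizer_map _), ?_, ?_⟩
  · rintro _ ⟨u, hu, rfl⟩
    exact stabilizesBlock_conjBlock Q x f u (hst u hu)
  · intro ξ' hξ'
    rw [conjBlock_eq_image] at hξ'
    obtain ⟨ξ, hξ, rfl⟩ := hξ'
    rw [brauerOmega_conj P x (subgroupBlockCoeff (Subgroup.centralizer (Q : Set G)) f) _
      (subgroupBlockCoeff_conjBlock Q x f) ξ]
    exact hω ξ hξ

theorem normalSubpairRel_conjIdx {p : ℕ} (x : G) {a b : BrauerPairIdx G}
    (h : NormalSubpairRel p M a b) : NormalSubpairRel p M (conjIdx x a) (conjIdx x b) :=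
  isNormalSubpair_conj x a.1 b.1 a.2 b.2 h

theorem reflTransGen_conjIdx {p : ℕ} (x : G) {a b : BrauerPairIdx G}
    (h : Relation.ReflTransGen (NormalSubpairRel p M) a b) :
    Relation.ReflTransGen (NormalSubpairRel p M) (conjIdx x a) (conjIdx x b) :=
  Relation.ReflTransGen.lift (conjIdx x) (fun _ _ h => normalSubpairRel_conjIdx x h) _ _ h

/-- Extensionality for Brauer pair indices. -/
theorem brauerPairIdx_ext (Q Q' : Subgroup G)
    (f : Set (IrrCharacter (Subgroup.centralizer (Q : Set G))))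
    (f' : Set (IrrCharacter (Subgroup.centralizer (Q' : Set G)))) (hQ : Q = Q')
    (h : ∀ ξ' : IrrCharacter (Subgroup.centralizer (Q' : Set G)), ξ' ∈ f' ↔
      ∃ ξ ∈ f, ∀ (c : Subgroup.centralizer (Q : Set G)) (c' : Subgroup.centralizer (Q' : Set G)),
        (c' : G) = c → (ξ' : Subgroup.centralizer (Q' : Set G) → ℂ) c'
          = (ξ : Subgroup.centralizer (Q : Set G) → ℂ) c) :
    (⟨Q, f⟩ : BrauerPairIdx G) = ⟨Q', f'⟩ := by
  subst hQ
  have : f = f' := by
    ext ξ
    rw [h ξ]
    constructor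
    · intro hξ
      exact ⟨ξ, hξ, fun c c' hcc' => by rw [Subtype.ext hcc']⟩
    · rintro ⟨ξ₀, hξ₀, hc⟩
      have : ξ = ξ₀ := by
        apply Subtype.ext
        funext c
        exact hc c c rfl
      rw [this]
      exact hξ₀
  rw [this]

theorem map_conj_map_conj (x y : G) (Q : Subgroup G) :
    (Q.map (MulAut.conj y).toMonoidHom).map (MulAut.conj x).toMonoidHom
      = Q.map (MulAut.conj (x * y)).toMonoidHom := by
  rw [Subgroup.map_map]
  congr 1
  ext g
  simp [MulAut.conj_apply, mul_assoc]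

theorem conjIdx_mul (x y : G) (a : BrauerPairIdx G) :
    conjIdx x (conjIdx y a) = conjIdx (x * y) a := by
  classical
  obtain ⟨Q, f⟩ := a
  haveI : Fintype (Subgroup.centralizer (Q : Set G)) := Fintype.ofFinite _
  haveI : Fintype (Subgroup.centralizer
    ((Q.map (MulAut.conj y).toMonoidHom : Subgroup G) : Set G)) := Fintype.ofFinite _
  haveI : Fintype (Subgroup.centralizer
    (((Q.map (MulAut.conj y).toMonoidHom).map (MulAut.conj x).toMonoidHom : Subgroup G) : Set G)) :=
    Fintype.ofFinite _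
  have hQeq := map_conj_map_conj x y Q
  apply brauerPairIdx_ext _ _ _ _ hQeq
  intro ξ''
  show ξ'' ∈ conjBlock Q (x * y) f ↔ ∃ ξ' ∈ conjBlock (Q.map (MulAut.conj y).toMonoidHom) x
    (conjBlock Q y f), _
  constructor
  · rintro ⟨ξ, hξ, hc⟩
    refine ⟨irrCongr (centConj (Q.map (MulAut.conj y).toMonoidHom) x)
      (irrCongr (centConj Q y) ξ), ?_, ?_⟩
    · rw [conjBlock_eq_image, conjBlock_eq_image]
      exact ⟨_, ⟨ξ, hξ, rfl⟩, rfl⟩
    · intro c c'' hcc''
      rw [irrCongr_apply, irrCongr_apply]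
      apply hc
      rw [centConj_coe, centConj_coe, hcc'']
      group
  · rintro ⟨ξ', hξ', hc⟩
    rw [conjBlock_eq_image, conjBlock_eq_image] at hξ'
    obtain ⟨_, ⟨ξ, hξ, rfl⟩, rfl⟩ := hξ'
    refine ⟨ξ, hξ, ?_⟩
    intro c₀ c'' hcc''
    have hmem : (c'' : G) ∈ Subgroup.centralizer
        (((Q.map (MulAut.conj y).toMonoidHom).map (MulAut.conj x).toMonoidHom : Subgroup G)
          : Set G) := by
      rw [hQeq]
      exact c''.2
    rw [hc ⟨(c'' : G), hmem⟩ c'' rfl, irrCongr_apply, irrCongr_apply]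
    apply congrArg
    apply Subtype.ext
    rw [centConj_coe, centConj_coe]
    show y⁻¹ * (x⁻¹ * (c'' : G) * x) * y = c₀
    rw [hcc'']
    group

end Cfsg.Agent.Lib.helper3.Block
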