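import Mathlib
import Cfsg.Agent.Lib.helper3.SP4
import Cfsg.Agent.Lib.helper3.MaxPair5

/-!
# Maximal Brauer pairs above a given pair; conjugacy on a defect group
-/

set_option autoImplicit false
set_option linter.style.haveILetI false
set_option linter.unusedSectionVars false

namespace Cfsg.Agent.Lib.helper3.Block

open Cfsg Module Cfsg.Agent.Lib.helper3.CharBasic Cfsg.Agent.Lib.helper3.Irr
open Cfsg.Agent.Lib.helper3.Central Cfsg.Agent.Lib.helper3.LocalM Cfsg.Agent.Lib.helper3.IndFun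
open Cfsg.Agent.Lib.helper3.Lin
open scoped ComplexConjugate

universe u

variable {G : Type u} [Group G] [Fintype G] {M : Ideal AlgInt}

theorem card_lt_of_lt {Q P : Subgroup G} (h : Q < P) : Nat.card Q < Nat.card P := by
  classical
  have := Set.ncard_lt_ncard (s := (Q : Set G)) (t := (P : Set G))
    (by exact_mod_cast h) (Set.toFinite _)
  rw [Set.ncard_eq_toFinset_card', Set.ncard_eq_toFinset_card'] at this
  rw [Nat.card_eq_fintype_card, Nat.card_eq_fintype_card]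
  simpa [Set.toFinset_card] using this

/-- Every Brauer pair of `B` lies below a maximal Brauer pair of `B`. -/
theorem exists_maximal_above {p : ℕ} (B : Set (IrrCharacter G)) :
    ∀ (k : ℕ) (a : BrauerPairIdx G), Nat.card G - Nat.card a.1 = k →
      IsBrauerPairOf p M B a.1 a.2 →
      ∃ b : BrauerPairIdx G, IsMaximalBrauerPair p M B b.1 b.2 ∧
        Relation.ReflTransGen (NormalSubpairRel p M) a b := by
  classical
  intro k
  induction k using Nat.strong_induction_on with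
  | _ k ih =>
    intro a hk ha
    by_cases hex : ∃ (R : Subgroup G) (g : Set (IrrCharacter (Subgroup.centralizer (R : Set G)))),
        IsBrauerPairOf p M B R g ∧ SubpairLE p M a.1 a.2 R g ∧ R ≠ a.1
    · obtain ⟨R, g, hRg, hle, hne⟩ := hex
      have hle' : Relation.ReflTransGen (NormalSubpairRel p M) a ⟨R, g⟩ := hle
      have h1 : a.1 ≤ R := fst_le_of_reflTransGen hle'
      have h2 : a.1 < R := lt_of_le_of_ne h1 (Ne.symm hne)
      have h3 := card_lt_of_lt h2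
      have h4 : Nat.card R ≤ Nat.card G := Subgroup.card_le_card_group R
      obtain ⟨b, hb, hRb⟩ := ih (Nat.card G - Nat.card R) (by omega) ⟨R, g⟩ rfl hRg
      exact ⟨b, hb, hle'.trans hRb⟩
    · refine ⟨a, ⟨ha, fun R g hRg hle => ?_⟩, Relation.ReflTransGen.refl⟩
      by_contra hne
      exact hex ⟨R, g, hRg, hle, hne⟩

theorem exists_snd_of_fst_eq (a : BrauerPairIdx G) (P : Subgroup G) (h : a.1 = P) :
    ∃ e : Set (IrrCharacter (Subgroup.centralizer (P : Set G))), a = ⟨P, e⟩ := by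
  obtain ⟨Q, f⟩ := a
  simp only at h
  subst h
  exact ⟨f, rfl⟩

theorem mem_of_sigma_eq (Q Q' : Subgroup G)
    (f : Set (IrrCharacter (Subgroup.centralizer (Q : Set G))))
    (f' : Set (IrrCharacter (Subgroup.centralizer (Q' : Set G))))
    (h : (⟨Q, f⟩ : BrauerPairIdx G) = ⟨Q', f'⟩)
    (ξ : IrrCharacter (Subgroup.centralizer (Q : Set G)))
    (ξ' : IrrCharacter (Subgroup.centralizer (Q' : Set G))) (hξ : ξ ∈ f)
    (hc : ∀ (c : Subgroup.centralizer (Q : Set G)) (c' : Subgroup.centralizer (Q' : Set G)),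
      (c' : G) = c → (ξ' : Subgroup.centralizer (Q' : Set G) → ℂ) c'
        = (ξ : Subgroup.centralizer (Q : Set G) → ℂ) c) : ξ' ∈ f' := by
  obtain ⟨hQ, hf⟩ := Sigma.mk.inj_iff.mp h
  subst hQ
  have hf' := eq_of_heq hf
  subst hf'
  have : ξ' = ξ := by
    apply Subtype.ext
    funext c
    exact hc c c rfl
  rw [this]
  exact hξ

theorem map_conj_eq_of_mem_normalizer (P : Subgroup G) (n : G)
    (hn : n ∈ Subgroup.normalizer (P : Set G)) :
    P.map (MulAut.conj n).toMonoidHom = P := by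
  ext g
  constructor
  · rintro ⟨q, hq, rfl⟩
    exact (Subgroup.mem_normalizer_iff.mp hn q).mp hq
  · intro hg
    refine ⟨n⁻¹ * g * n, ?_, ?_⟩
    · have := (Subgroup.mem_normalizer_iff.mp (Subgroup.inv_mem _ hn) g).mp hg
      rwa [inv_inv] at this
    · show n * (n⁻¹ * g * n) * n⁻¹ = g
      group

open Classical in
/-- The Brauer pairs of `B` on a defect group `P` are conjugate under `N_G(P)`. -/
theorem conj_of_isBrauerPairOf_defectGroup {p : ℕ} [hp : Fact p.Prime] (hM : IsPModular p M)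
    (B : Set (IrrCharacter G)) (P : Subgroup G) (hPD : IsDefectGroup p M B P)
    (e₁ e₂ : Set (IrrCharacter (Subgroup.centralizer (P : Set G))))
    (h₁ : IsBrauerPairOf p M B P e₁) (h₂ : IsBrauerPairOf p M B P e₂) :
    ∃ n ∈ Subgroup.normalizer (P : Set G),
      conjIdx n (⟨P, e₁⟩ : BrauerPairIdx G) = ⟨P, e₂⟩ := by
  haveI : Fintype (Subgroup.centralizer (P : Set G)) := Fintype.ofFinite _
  haveI : Fintype ↥(Subgroup.normalizer (P : Set G)) := Fintype.ofFinite _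
  haveI : Fintype (Subgroup.centralizer (pInN P : Set ↥(Subgroup.normalizer (P : Set G)))) :=
    Fintype.ofFinite _
  haveI hMp := isPrime_of_isPModular hM
  have hMtop : M ≠ ⊤ := hM.2.1.ne_top
  obtain ⟨⟨hP, he₁⟩, hB, -⟩ := id h₁
  obtain ⟨⟨-, he₂⟩, -, -⟩ := id h₂
  have hP' : IsPGroup p (pInN P) := hP.comap_subtype
  -- the block of the normalizer attached to a pair
  have key : ∀ e : Set (IrrCharacter (Subgroup.centralizer (P : Set G))),
      IsBrauerPairOf p M B P e →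
      ∃ β : Set (IrrCharacter ↥(Subgroup.normalizer (P : Set G))),
        IsInducedBlock M (Subgroup.centralizer (pInN P : Set ↥(Subgroup.normalizer (P : Set G))))
          (irrCongr (cEquiv P) '' e) β ∧
        IsInducedBlock M (Subgroup.normalizer (P : Set G)) β B := by
    intro e hBe
    obtain ⟨⟨-, he⟩, -, -⟩ := id hBe
    have he' : IsPBlock M (irrCongr (cEquiv P) '' e) := isPBlock_image_irrCongr (cEquiv P) e he
    obtain ⟨β, hβe, -⟩ := Cfsg.Agent.S4657.result p M hM (pInN P) _ ⟨hP', he'⟩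
    have hβ : IsPBlock M β := hβe.2.1
    have hind1 := isInducedBlock_of_isBrauerPairOf hM (pInN P) β _ hβe
    obtain ⟨B₁, hind2⟩ := Cfsg.Agent.S0919.result p M hM P (Subgroup.normalizer (P : Set G)) hP
      Subgroup.le_normalizer (Subgroup.centralizer_le_normalizer _) le_rfl β hβ
    have hind3 := isInducedBlock_trans (Subgroup.centralizer (P : Set G))
      (Subgroup.normalizer (P : Set G)) _ (cEquiv P) (cEquiv_coe P) e he β B₁ hind1 hind2
    have hind4 := isInducedBlock_of_isBrauerPairOf hM P B e hBe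
    have hBB : B₁ = B := isInducedBlock_unique _ e B₁ B hind3 hind4
    rw [hBB] at hind2
    exact ⟨β, hind1, hind2⟩
  obtain ⟨β₁, hi₁, hj₁⟩ := key e₁ h₁
  obtain ⟨β₂, hi₂, hj₂⟩ := key e₂ h₂
  have hD₁ := isDefectGroup_normalizer_of_induced hM P hP B hB hPD β₁ hj₁
  have hD₂ := isDefectGroup_normalizer_of_induced hM P hP B hB hPD β₂ hj₂
  have hEq : β₁ = β₂ := induced_normalizer_unique hM P hP β₁ β₂ hD₁ hD₂ B hj₁ hj₂
  subst hEq
  obtain ⟨ξ₁, hξ₁⟩ : ∃ ξ, ξ ∈ e₁ := by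
    obtain ⟨χ, hχ⟩ := id he₁
    exact ⟨χ, by rw [hχ]; exact sameBlock_refl hMtop _⟩
  obtain ⟨ξ₂, hξ₂⟩ : ∃ ξ, ξ ∈ e₂ := by
    obtain ⟨χ, hχ⟩ := id he₂
    exact ⟨χ, by rw [hχ]; exact sameBlock_refl hMtop _⟩
  have hξ₁' : irrCongr (cEquiv P) ξ₁ ∈ irrCongr (cEquiv P) '' e₁ := ⟨ξ₁, hξ₁, rfl⟩
  have hξ₂' : irrCongr (cEquiv P) ξ₂ ∈ irrCongr (cEquiv P) '' e₂ := ⟨ξ₂, hξ₂, rfl⟩
  obtain ⟨χ₁, hχ₁, hχ₁ne⟩ := Cfsg.Agent.S0934.result p M hM _ _ β₁ hi₁ _ hξ₁'
  obtain ⟨χ₂, hχ₂, hχ₂ne⟩ := Cfsg.Agent.S0934.result p M hM _ _ β₁ hi₂ _ hξ₂'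
  obtain ⟨g, θ'', hθ'', hconj⟩ := Cfsg.Agent.S0964.result p M hM
    (Subgroup.centralizer (pInN P : Set ↥(Subgroup.normalizer (P : Set G)))) β₁ hi₁.2.1 _ hi₁.1
    χ₁ hχ₁ _ hξ₁' hχ₁ne χ₂ hχ₂ _ hχ₂ne
  obtain ⟨θ, hθ, rfl⟩ := hθ''
  -- `ξ₂ c = θ (g c g⁻¹)`
  have hgN : (g : G)⁻¹ ∈ Subgroup.normalizer (P : Set G) := Subgroup.inv_mem _ g.2
  refine ⟨(g : G)⁻¹, hgN, ?_⟩
  have hfst : (conjIdx (g : G)⁻¹ (⟨P, e₁⟩ : BrauerPairIdx G)).1 = P :=
    map_conj_eq_of_mem_normalizer P _ hgN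
  obtain ⟨e₃, he₃⟩ := exists_snd_of_fst_eq _ P hfst
  rw [he₃]
  have he₃b : IsPBlock M e₃ := by
    have h1 : IsPBlock M (conjIdx (g : G)⁻¹ (⟨P, e₁⟩ : BrauerPairIdx G)).2 :=
      isPBlock_conjBlock P _ e₁ he₁
    rw [he₃] at h1
    exact h1
  have hmem : ξ₂ ∈ e₃ := by
    have he₃' : (⟨P.map (MulAut.conj (g : G)⁻¹).toMonoidHom, conjBlock P (g : G)⁻¹ e₁⟩ :
        BrauerPairIdx G) = ⟨P, e₃⟩ := he₃
    haveI : Fintype (Subgroup.centralizer
      ((P.map (MulAut.conj (g : G)⁻¹).toMonoidHom : Subgroup G) : Set G)) := Fintype.ofFinite _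
    apply mem_of_sigma_eq _ _ _ _ he₃' (irrCongr (centConj P (g : G)⁻¹) θ) ξ₂
    · rw [conjBlock_eq_image]
      exact ⟨θ, hθ, rfl⟩
    · intro c c' hcc'
      have h1 := hconj ((cEquiv P).symm c')
      rw [irrCongr_apply, irrCongr_apply, MulEquiv.apply_symm_apply] at h1
      rw [h1, irrCongr_apply]
      apply congrArg
      apply Subtype.ext
      rw [cEquiv_coe, centConj_coe, inv_inv, ← hcc']
      show (g : G) * (((cEquiv P).symm c' : ↥(Subgroup.centralizer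
        (pInN P : Set ↥(Subgroup.normalizer (P : Set G)))))
          : ↥(Subgroup.normalizer (P : Set G))) * (g : G)⁻¹ = _
      rw [← cEquiv_coe, MulEquiv.apply_symm_apply]
  have : e₃ = e₂ := isPBlock_eq_of_mem he₃b he₂ ξ₂ hmem hξ₂
  rw [this]

end Cfsg.Agent.Lib.helper3.Block
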