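import Mathlib
import Cfsg.Agent.Lib.helper3.SP5
import Cfsg.Agent.Lib.helper3.Weight3

/-!
# Brauer pairs of a block of `C_G(Q)` and normal inclusions above `(Q, f)`
-/

set_option autoImplicit false
set_option linter.style.haveILetI false
set_option linter.unusedSectionVars false

namespace Cfsg.Agent.Lib.helper3.Block

open Cfsg Module Cfsg.Agent.Lib.helper3.CharBasic Cfsg.Agent.Lib.helper3.Irr
open Cfsg.Agent.Lib.helper3.Central Cfsg.Agent.Lib.helper3.LocalM Cfsg.Agent.Lib.helper3.IndFun
open Cfsg.Agent.Lib.helper3.Lin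
open scoped ComplexConjugate

universe u

variable {G : Type u} [Group G] [Fintype G] {M : Ideal AlgInt}

/-- For `D' ≤ C_G(Q)`, the subgroup `Q D'` of `G`. -/
abbrev supIn (Q : Subgroup G) (D' : Subgroup ↥(Subgroup.centralizer (Q : Set G))) : Subgroup G :=
  Q ⊔ D'.map (Subgroup.centralizer (Q : Set G)).subtype

theorem mem_centralizer_supIn_iff (Q : Subgroup G)
    (D' : Subgroup ↥(Subgroup.centralizer (Q : Set G))) (c : G) :
    c ∈ Subgroup.centralizer ((supIn Q D' : Subgroup G) : Set G) ↔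
      ∃ hc : c ∈ Subgroup.centralizer (Q : Set G),
        (⟨c, hc⟩ : ↥(Subgroup.centralizer (Q : Set G))) ∈
          Subgroup.centralizer (D' : Set ↥(Subgroup.centralizer (Q : Set G))) := by
  constructor
  · intro h
    have hc : c ∈ Subgroup.centralizer (Q : Set G) :=
      Subgroup.centralizer_le (show (Q : Set G) ⊆ (supIn Q D' : Subgroup G) from
        fun x hx => (le_sup_left : Q ≤ supIn Q D') hx) h
    refine ⟨hc, ?_⟩
    rw [Subgroup.mem_centralizer_iff]
    intro d hd
    apply Subtype.ext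
    have hdR : (d : G) ∈ supIn Q D' :=
      (le_sup_right : _ ≤ supIn Q D') ⟨d, hd, rfl⟩
    exact (Subgroup.mem_centralizer_iff.mp h) _ hdR
  · rintro ⟨hc, hcD⟩
    have hle : supIn Q D' ≤ Subgroup.centralizer ({c} : Set G) := by
      apply sup_le
      · intro q hq
        rw [Subgroup.mem_centralizer_singleton_iff]
        exact (Subgroup.mem_centralizer_iff.mp hc) q hq
      · rintro _ ⟨d, hd, rfl⟩
        rw [Subgroup.mem_centralizer_singleton_iff]
        have := (Subgroup.mem_centralizer_iff.mp hcD) d hd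
        exact congrArg Subtype.val this
    rw [Subgroup.mem_centralizer_iff]
    intro r hr
    exact Subgroup.mem_centralizer_singleton_iff.mp (hle hr)

/-- The identification of `C_{C_G(Q)}(D')` with `C_G(Q D')`. -/
noncomputable def cInEquiv (Q : Subgroup G) (D' : Subgroup ↥(Subgroup.centralizer (Q : Set G))) :
    ↥(Subgroup.centralizer (D' : Set ↥(Subgroup.centralizer (Q : Set G))))
      ≃* ↥(Subgroup.centralizer ((supIn Q D' : Subgroup G) : Set G)) where
  toFun c := ⟨((c : ↥(Subgroup.centralizer (Q : Set G))) : G),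
    (mem_centralizer_supIn_iff Q D' _).mpr ⟨(c : ↥(Subgroup.centralizer (Q : Set G))).2, c.2⟩⟩
  invFun c := ⟨⟨(c : G), ((mem_centralizer_supIn_iff Q D' _).mp c.2).1⟩,
    ((mem_centralizer_supIn_iff Q D' _).mp c.2).2⟩
  left_inv c := Subtype.ext (Subtype.ext rfl)
  right_inv c := Subtype.ext rfl
  map_mul' a b := Subtype.ext rfl

theorem cInEquiv_coe (Q : Subgroup G) (D' : Subgroup ↥(Subgroup.centralizer (Q : Set G)))
    (c : ↥(Subgroup.centralizer (D' : Set ↥(Subgroup.centralizer (Q : Set G))))) :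
    ((cInEquiv Q D' c : ↥(Subgroup.centralizer ((supIn Q D' : Subgroup G) : Set G))) : G)
      = ((c : ↥(Subgroup.centralizer (Q : Set G))) : G) := rfl

theorem brauerOmega_cInEquiv (Q : Subgroup G) (D' : Subgroup ↥(Subgroup.centralizer (Q : Set G)))
    [Fintype ↥(Subgroup.centralizer (Q : Set G))]
    [Fintype ↥(Subgroup.centralizer (D' : Set ↥(Subgroup.centralizer (Q : Set G))))]
    [Fintype ↥(Subgroup.centralizer ((supIn Q D' : Subgroup G) : Set G))]
    (f : Set (IrrCharacter (Subgroup.centralizer (Q : Set G))))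
    (ξ : IrrCharacter ↥(Subgroup.centralizer ((supIn Q D' : Subgroup G) : Set G))) :
    brauerOmega D' (blockCoeff f) (irrCongr (cInEquiv Q D') ξ :
        ↥(Subgroup.centralizer (D' : Set ↥(Subgroup.centralizer (Q : Set G)))) → ℂ)
      = brauerOmega (supIn Q D') (subgroupBlockCoeff (Subgroup.centralizer (Q : Set G)) f)
        (ξ : ↥(Subgroup.centralizer ((supIn Q D' : Subgroup G) : Set G)) → ℂ) := by
  classical
  rw [brauerOmega_eq_sum, brauerOmega_eq_sum]
  apply Fintype.sum_equiv (cInEquiv Q D').toEquiv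
  intro c
  rw [irrCongr_apply, irrCongr_apply, map_one]
  congr 1
  have hc : ((c : ↥(Subgroup.centralizer (Q : Set G))) : G) ∈ Subgroup.centralizer (Q : Set G) :=
    (c : ↥(Subgroup.centralizer (Q : Set G))).2
  show _ = subgroupBlockCoeff _ f ((c : ↥(Subgroup.centralizer (Q : Set G))) : G)
  rw [subgroupBlockCoeff_of_mem _ f hc]

/-- A normal inclusion above `(Q, f)` gives a Brauer pair of `f` in `C_G(Q)`. -/
theorem isBrauerPairOf_of_isNormalSubpair {p : ℕ} (Q : Subgroup G)
    (D' : Subgroup ↥(Subgroup.centralizer (Q : Set G)))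
    [Fintype ↥(Subgroup.centralizer (Q : Set G))]
    [Fintype ↥(Subgroup.centralizer (D' : Set ↥(Subgroup.centralizer (Q : Set G))))]
    [Fintype ↥(Subgroup.centralizer ((supIn Q D' : Subgroup G) : Set G))]
    (f : Set (IrrCharacter (Subgroup.centralizer (Q : Set G))))
    (h : Set (IrrCharacter ↥(Subgroup.centralizer ((supIn Q D' : Subgroup G) : Set G))))
    (hn : IsNormalSubpair p M Q f (supIn Q D') h) :
    IsBrauerPairOf p M f D' (irrCongr (cInEquiv Q D') '' h) := by
  obtain ⟨⟨hQ, hf⟩, ⟨hR, hh⟩, -, -, -, hω⟩ := hn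
  have hD : IsPGroup p (D'.map (Subgroup.centralizer (Q : Set G)).subtype) :=
    hR.to_le le_sup_right
  have hD' : IsPGroup p D' :=
    (hD.comap_of_injective _ (Subgroup.subtype_injective _)).to_le (Subgroup.le_comap_map _ _)
  refine ⟨⟨hD', isPBlock_image_irrCongr _ h hh⟩, hf, ?_⟩
  rintro _ ⟨ξ, hξ, rfl⟩
  rw [brauerOmega_cInEquiv]
  exact hω ξ hξ

/-- A Brauer pair of `f` in `C_G(Q)` gives a normal inclusion above `(Q, f)`. -/
theorem isNormalSubpair_of_isBrauerPairOf {p : ℕ} [hp : Fact p.Prime] (hM : IsPModular p M)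
    (Q : Subgroup G) (hQ : IsPGroup p Q)
    (D' : Subgroup ↥(Subgroup.centralizer (Q : Set G)))
    [Fintype ↥(Subgroup.centralizer (Q : Set G))]
    [Fintype ↥(Subgroup.centralizer (D' : Set ↥(Subgroup.centralizer (Q : Set G))))]
    [Fintype ↥(Subgroup.centralizer ((supIn Q D' : Subgroup G) : Set G))]
    (f : Set (IrrCharacter (Subgroup.centralizer (Q : Set G))))
    (h : Set (IrrCharacter ↥(Subgroup.centralizer ((supIn Q D' : Subgroup G) : Set G))))
    (hh : IsPBlock M h)
    (hb : IsBrauerPairOf p M f D' (irrCongr (cInEquiv Q D') '' h)) :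
    IsNormalSubpair p M Q f (supIn Q D') h := by
  haveI hMp := isPrime_of_isPModular hM
  obtain ⟨⟨hD', -⟩, hf, hω⟩ := hb
  have hD : IsPGroup p (D'.map (Subgroup.centralizer (Q : Set G)).subtype) := hD'.map _
  have hDC : D'.map (Subgroup.centralizer (Q : Set G)).subtype ≤ Subgroup.centralizer (Q : Set G) := by
    rintro _ ⟨d, -, rfl⟩
    exact d.2
  have hDN : D'.map (Subgroup.centralizer (Q : Set G)).subtype ≤ Subgroup.normalizer (Q : Set G) :=
    hDC.trans (Subgroup.centralizer_le_normalizer _)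
  have hR : IsPGroup p (supIn Q D') := IsPGroup.to_sup_of_normal_left' hQ hD hDN
  obtain ⟨T, hT⟩ := exists_stabilizer_subgroup (Subgroup.centralizer (Q : Set G)) f hf
  have hRT : supIn Q D' ≤ T := by
    apply sup_le
    · intro q hq
      exact (hT q).mpr (stabilizesBlock_of_mem_base Q f q hq)
    · intro d hd
      exact (hT d).mpr (stabilizesBlock_of_mem_self _ f d (hDC hd))
  refine ⟨⟨hQ, hf⟩, ⟨hR, hh⟩, le_sup_left, sup_le Subgroup.le_normalizer hDN,
    fun x hx => (hT x).mp (hRT hx), ?_⟩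
  intro ξ hξ
  rw [← brauerOmega_cInEquiv]
  exact hω _ ⟨ξ, hξ, rfl⟩

end Cfsg.Agent.Lib.helper3.Block
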