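import Mathlib
import Cfsg.Agent.Lib.helper3.SP6
import Cfsg.Agent.Lib.helper3.FR6
import Cfsg.Agent.S4659
import Cfsg.Agent.S4660
import Cfsg.Agent.S4658

/-!
# Centralizers in a maximal pair and defect groups of the blocks below
-/

set_option autoImplicit false
set_option linter.style.haveILetI false
set_option linter.unusedSectionVars false

namespace Cfsg.Agent.Lib.helper3.Block

open Cfsg Module Cfsg.Agent.Lib.helper3.CharBasic Cfsg.Agent.Lib.helper3.Irr
open Cfsg.Agent.Lib.helper3.Central Cfsg.Agent.Lib.helper3.LocalM Cfsg.Agent.Lib.helper3.IndFun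
open Cfsg.Agent.Lib.helper3.Lin
open scoped ComplexConjugate

universe u

variable {G : Type u} [Group G] [Fintype G] {M : Ideal AlgInt}

open Classical in
/-- Below a Brauer pair `(P, e)`: a maximal Brauer pair of `f` in `C_G(Q)` whose subgroup contains
`C_P(Q)`. -/
theorem exists_maximal_ge_centralizerIn {p : ℕ} [hp : Fact p.Prime] (hM : IsPModular p M)
    (P Q : Subgroup G) (e : Set (IrrCharacter (Subgroup.centralizer (P : Set G))))
    (f : Set (IrrCharacter (Subgroup.centralizer (Q : Set G))))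
    (hPe : IsBrauerPair p M P e) (hQP : Q ≤ P)
    (hle : SubpairLE p M Q f P e) :
    ∃ b : BrauerPairIdx ↥(Subgroup.centralizer (Q : Set G)),
      IsMaximalBrauerPair p M f b.1 b.2 ∧
      (P ⊓ Subgroup.centralizer (Q : Set G)).subgroupOf (Subgroup.centralizer (Q : Set G)) ≤ b.1 := by
  haveI : Fintype ↥(Subgroup.centralizer (Q : Set G)) := Fintype.ofFinite _
  haveI hMp := isPrime_of_isPModular hM
  obtain ⟨D', hD'⟩ : ∃ D' : Subgroup ↥(Subgroup.centralizer (Q : Set G)),
      D' = (P ⊓ Subgroup.centralizer (Q : Set G)).subgroupOf (Subgroup.centralizer (Q : Set G)) :=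
    ⟨_, rfl⟩
  haveI : Fintype ↥(Subgroup.centralizer (D' : Set ↥(Subgroup.centralizer (Q : Set G)))) :=
    Fintype.ofFinite _
  haveI : Fintype ↥(Subgroup.centralizer ((supIn Q D' : Subgroup G) : Set G)) :=
    Fintype.ofFinite _
  have hDmap : D'.map (Subgroup.centralizer (Q : Set G)).subtype
      = P ⊓ Subgroup.centralizer (Q : Set G) := by
    rw [hD']
    exact Subgroup.map_subgroupOf_eq_of_le inf_le_right
  have hRP : supIn Q D' ≤ P := by
    apply sup_le hQP
    rw [hDmap]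
    exact inf_le_left
  have hRN : supIn Q D' ≤ Subgroup.normalizer (Q : Set G) := by
    apply sup_le Subgroup.le_normalizer
    rw [hDmap]
    exact inf_le_right.trans (Subgroup.centralizer_le_normalizer _)
  obtain ⟨g, hg, hleR⟩ := exists_subpair hM P e hPe _ (supIn Q D') hRP rfl
  have hRg : IsBrauerPair p M (supIn Q D') g := ⟨hPe.1.to_le hRP, hg⟩
  obtain ⟨f₂, hf₂, -⟩ := Cfsg.Agent.S4656.result p M hM (supIn Q D') Q g hRg le_sup_left hRN
  have hf₂' : NormalSubpairRel p M (⟨Q, f₂⟩ : BrauerPairIdx G) ⟨supIn Q D', g⟩ := hf₂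
  have hle₂ : Relation.ReflTransGen (NormalSubpairRel p M) (⟨Q, f₂⟩ : BrauerPairIdx G) ⟨P, e⟩ :=
    Relation.ReflTransGen.head hf₂' hleR
  have heq := subpair_unique hM _ ⟨P, e⟩ rfl ⟨Q, f₂⟩ ⟨Q, f⟩ hle₂ hle rfl
  have hff : f₂ = f := eq_of_heq (Sigma.mk.inj_iff.mp heq).2
  rw [hff] at hf₂
  have hpair := isBrauerPairOf_of_isNormalSubpair Q D' f g hf₂
  obtain ⟨b, hb, hleb⟩ := exists_maximal_above (M := M) (p := p) f _
    (⟨D', irrCongr (cInEquiv Q D') '' g⟩ : BrauerPairIdx ↥(Subgroup.centralizer (Q : Set G)))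
    rfl hpair
  refine ⟨b, hb, ?_⟩
  rw [← hD']
  exact fst_le_of_reflTransGen hleb

open Classical in
/-- `C_P(Q)` is contained in a defect group of `f`. -/
theorem exists_isDefectGroup_ge_centralizerIn {p : ℕ} [hp : Fact p.Prime] (hM : IsPModular p M)
    (P Q : Subgroup G) (e : Set (IrrCharacter (Subgroup.centralizer (P : Set G))))
    (f : Set (IrrCharacter (Subgroup.centralizer (Q : Set G))))
    (hPe : IsBrauerPair p M P e) (hQP : Q ≤ P)
    (hle : SubpairLE p M Q f P e) :
    ∃ D : Subgroup ↥(Subgroup.centralizer (Q : Set G)), IsDefectGroup p M f D ∧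
      (P ⊓ Subgroup.centralizer (Q : Set G)).subgroupOf (Subgroup.centralizer (Q : Set G)) ≤ D := by
  haveI : Fintype ↥(Subgroup.centralizer (Q : Set G)) := Fintype.ofFinite _
  obtain ⟨b, hb, hle'⟩ := exists_maximal_ge_centralizerIn hM P Q e f hPe hQP hle
  exact ⟨b.1, Cfsg.Agent.S4659.result p M hM f b.1 b.2 hb, hle'⟩

open Classical in
/-- Some conjugate of `(Q, f)` lies below `(P, e)` with `C_P(xQx⁻¹)` a defect group. -/
theorem exists_conj_centralizerIn_isDefectGroup {p : ℕ} [hp : Fact p.Prime] (hM : IsPModular p M)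
    (B : Set (IrrCharacter G)) (P Q : Subgroup G)
    (e : Set (IrrCharacter (Subgroup.centralizer (P : Set G))))
    (f : Set (IrrCharacter (Subgroup.centralizer (Q : Set G))))
    (hmax : IsMaximalBrauerPair p M B P e) (hQP : Q ≤ P) (hf : IsPBlock M f)
    (hle : SubpairLE p M Q f P e) :
    ∃ x : G, SubpairLE p M (Q.map (MulAut.conj x).toMonoidHom) (conjBlock Q x f) P e ∧
      IsDefectGroup p M (conjBlock Q x f)
        ((P ⊓ Subgroup.centralizer ((Q.map (MulAut.conj x).toMonoidHom) : Set G)).subgroupOf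
          (Subgroup.centralizer ((Q.map (MulAut.conj x).toMonoidHom) : Set G))) := by
  haveI : Fintype ↥(Subgroup.centralizer (Q : Set G)) := Fintype.ofFinite _
  haveI hMp := isPrime_of_isPModular hM
  obtain ⟨hBe, -⟩ := id hmax
  obtain ⟨hPe, hB, -⟩ := id hBe
  have hQp : IsPGroup p Q := hPe.1.to_le hQP
  obtain ⟨b, hb, -⟩ := exists_maximal_ge_centralizerIn hM P Q e f hPe hQP hle
  obtain ⟨D₀', h₀'⟩ := b
  haveI : Fintype ↥(Subgroup.centralizer (D₀' : Set ↥(Subgroup.centralizer (Q : Set G)))) :=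
    Fintype.ofFinite _
  haveI : Fintype ↥(Subgroup.centralizer ((supIn Q D₀' : Subgroup G) : Set G)) :=
    Fintype.ofFinite _
  have hb' : IsMaximalBrauerPair p M f D₀' h₀' := hb
  have hD₀def : IsDefectGroup p M f D₀' := Cfsg.Agent.S4659.result p M hM f D₀' h₀' hb'
  have hh₀' : IsPBlock M h₀' := hb'.1.1.2
  obtain ⟨h₀, hh₀def⟩ : ∃ h₀ : Set (IrrCharacter
      ↥(Subgroup.centralizer ((supIn Q D₀' : Subgroup G) : Set G))),
      h₀ = irrCongr (cInEquiv Q D₀').symm '' h₀' := ⟨_, rfl⟩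
  have hh₀ : IsPBlock M h₀ := by
    rw [hh₀def]
    exact isPBlock_image_irrCongr _ h₀' hh₀'
  have himg : irrCongr (cInEquiv Q D₀') '' h₀ = h₀' := by
    rw [hh₀def, Set.image_image]
    have : ∀ ξ, irrCongr (cInEquiv Q D₀') (irrCongr (cInEquiv Q D₀').symm ξ) = ξ := by
      intro ξ
      apply Subtype.ext
      funext c
      rw [irrCongr_apply, irrCongr_apply, MulEquiv.symm_apply_apply]
    simp only [this, Set.image_id']
  have hn : IsNormalSubpair p M Q f (supIn Q D₀') h₀ := by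
    apply isNormalSubpair_of_isBrauerPairOf hM Q hQp D₀' f h₀ hh₀
    rw [himg]
    exact hb'.1
  have hQfB : IsBrauerPairOf p M B Q f :=
    (Cfsg.Agent.S4658.result p M hM P Q e f hPe ⟨hQp, hf⟩ hle B hB).mp hBe
  have hR₀B : IsBrauerPairOf p M B (supIn Q D₀') h₀ :=
    (Cfsg.Agent.S4658.result p M hM (supIn Q D₀') Q h₀ f hn.2.1 ⟨hQp, hf⟩
      (Relation.ReflTransGen.single hn) B hB).mpr hQfB
  obtain ⟨x, hx⟩ := Cfsg.Agent.S4660.result p M hM B P (supIn Q D₀') e h₀ hmax hR₀B
  have hnx := isNormalSubpair_conj x Q (supIn Q D₀') f h₀ hn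
  have hnx' : NormalSubpairRel p M (conjIdx x (⟨Q, f⟩ : BrauerPairIdx G))
      (conjIdx x ⟨supIn Q D₀', h₀⟩) := hnx
  have hlex : SubpairLE p M (Q.map (MulAut.conj x).toMonoidHom) (conjBlock Q x f) P e :=
    Relation.ReflTransGen.head hnx' hx
  refine ⟨x, hlex, ?_⟩
  have hRxP : (supIn Q D₀').map (MulAut.conj x).toMonoidHom ≤ P := fst_le_of_reflTransGen hx
  have hQxP : Q.map (MulAut.conj x).toMonoidHom ≤ P :=
    (Subgroup.map_mono le_sup_left).trans hRxP
  obtain ⟨D₁, hD₁, hle₁⟩ := exists_isDefectGroup_ge_centralizerIn hM P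
    (Q.map (MulAut.conj x).toMonoidHom) e (conjBlock Q x f) hPe hQxP hlex
  haveI : Fintype ↥(Subgroup.centralizer
    ((Q.map (MulAut.conj x).toMonoidHom : Subgroup G) : Set G)) := Fintype.ofFinite _
  have hfx : IsPBlock M (conjBlock Q x f) := isPBlock_conjBlock Q x f hf
  have hc₁ := Cfsg.Agent.S0908.result p M hM (conjBlock Q x f) hfx D₁ hD₁
  have hc₀ := Cfsg.Agent.S0908.result p M hM f hf D₀' hD₀def
  have hdef : blockDefect p (conjBlock Q x f) = blockDefect p f := by
    rw [conjBlock_eq_image]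
    exact blockDefect_image_irrCongr _ f
  -- the conjugate of `D₀` inside `C_P(xQx⁻¹)`
  obtain ⟨D₀, hD₀⟩ : ∃ D₀ : Subgroup G,
      D₀ = D₀'.map (Subgroup.centralizer (Q : Set G)).subtype := ⟨_, rfl⟩
  have hcD₀ : Nat.card D₀ = Nat.card D₀' := by
    rw [hD₀]
    exact Subgroup.card_map_of_injective (Subgroup.subtype_injective _)
  have hcD₀x : Nat.card (D₀.map (MulAut.conj x).toMonoidHom) = Nat.card D₀ :=
    Subgroup.card_map_of_injective (MulAut.conj x).injective
  have hD₀x : D₀.map (MulAut.conj x).toMonoidHom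
      ≤ P ⊓ Subgroup.centralizer ((Q.map (MulAut.conj x).toMonoidHom : Subgroup G) : Set G) := by
    apply le_inf
    · refine le_trans (Subgroup.map_mono ?_) hRxP
      rw [hD₀]
      exact le_sup_right
    · rintro _ ⟨d, hd, rfl⟩
      apply conj_mem_centralizer_map
      rw [hD₀] at hd
      obtain ⟨d', -, rfl⟩ := hd
      exact d'.2
  have hcsub : Nat.card ((P ⊓ Subgroup.centralizer
      ((Q.map (MulAut.conj x).toMonoidHom : Subgroup G) : Set G)).subgroupOf
        (Subgroup.centralizer ((Q.map (MulAut.conj x).toMonoidHom : Subgroup G) : Set G)))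
      = Nat.card ↥(P ⊓ Subgroup.centralizer
        ((Q.map (MulAut.conj x).toMonoidHom : Subgroup G) : Set G)) :=
    Nat.card_congr (Subgroup.subgroupOfEquivOfLe inf_le_right).toEquiv
  have h1 := Subgroup.card_le_of_le hD₀x
  have hEq := Subgroup.eq_of_le_of_card_ge hle₁ (by
    rw [hcsub, hc₁, hdef, ← hc₀, ← hcD₀, ← hcD₀x]
    exact h1)
  rw [hEq]
  exact hD₁

end Cfsg.Agent.Lib.helper3.Block
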