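import Mathlib
import Cfsg.Agent.Lib.helper3.SP7
import Cfsg.Agent.Lib.helper3.TraceBlock2

/-!
# The stabilizer of a Brauer pair: conjugation, and the block with the same idempotent
-/

set_option autoImplicit false
set_option linter.style.haveILetI false
set_option linter.unusedSectionVars false

namespace Cfsg.Agent.Lib.helper3.Block

open Cfsg Module Cfsg.Agent.Lib.helper3.CharBasic Cfsg.Agent.Lib.helper3.Irr
open Cfsg.Agent.Lib.helper3.Central Cfsg.Agent.Lib.helper3.LocalM Cfsg.Agent.Lib.helper3.IndFun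
open Cfsg.Agent.Lib.helper3.Lin
open scoped ComplexConjugate

universe u

variable {G : Type u} [Group G] [Fintype G] {M : Ideal AlgInt}

theorem mem_map_conj_iff (Q : Subgroup G) (x g : G) :
    g ∈ Q.map (MulAut.conj x).toMonoidHom ↔ x⁻¹ * g * x ∈ Q := by
  constructor
  · rintro ⟨q, hq, rfl⟩
    show x⁻¹ * (x * q * x⁻¹) * x ∈ Q
    have e : x⁻¹ * (x * q * x⁻¹) * x = q := by group
    rw [e]
    exact hq
  · intro h
    refine ⟨x⁻¹ * g * x, h, ?_⟩
    show x * (x⁻¹ * g * x) * x⁻¹ = g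
    group

theorem mem_normalizer_map_conj_iff (Q : Subgroup G) (x y : G) :
    y ∈ Subgroup.normalizer ((Q.map (MulAut.conj x).toMonoidHom : Subgroup G) : Set G)
      ↔ x⁻¹ * y * x ∈ Subgroup.normalizer (Q : Set G) := by
  rw [Subgroup.mem_normalizer_iff, Subgroup.mem_normalizer_iff]
  constructor
  · intro h q
    have h1 := h (x * q * x⁻¹)
    rw [mem_map_conj_iff, mem_map_conj_iff] at h1
    have e1 : x⁻¹ * (x * q * x⁻¹) * x = q := by group
    have e2 : x⁻¹ * (y * (x * q * x⁻¹) * y⁻¹) * x = x⁻¹ * y * x * q * (x⁻¹ * y * x)⁻¹ := by group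
    rw [e1, e2] at h1
    exact h1
  · intro h g
    rw [mem_map_conj_iff, mem_map_conj_iff, h (x⁻¹ * g * x)]
    have e : x⁻¹ * y * x * (x⁻¹ * g * x) * (x⁻¹ * y * x)⁻¹ = x⁻¹ * (y * g * y⁻¹) * x := by group
    rw [e]

theorem stabilizesBlock_of_conjBlock (Q : Subgroup G) (x : G)
    (f : Set (IrrCharacter (Subgroup.centralizer (Q : Set G)))) (y : G)
    (h : StabilizesBlock
      (Subgroup.centralizer ((Q.map (MulAut.conj x).toMonoidHom : Subgroup G) : Set G))
      (conjBlock Q x f) y) :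
    StabilizesBlock (Subgroup.centralizer (Q : Set G)) f (x⁻¹ * y * x) := by
  classical
  haveI : Fintype (Subgroup.centralizer (Q : Set G)) := Fintype.ofFinite _
  haveI : Fintype (Subgroup.centralizer
    ((Q.map (MulAut.conj x).toMonoidHom : Subgroup G) : Set G)) := Fintype.ofFinite _
  obtain ⟨hN, hst⟩ := h
  constructor
  · rw [Subgroup.mem_normalizer_iff] at hN ⊢
    intro c
    have h1 := hN (x * c * x⁻¹)
    rw [mem_centralizer_map_conj_iff, mem_centralizer_map_conj_iff] at h1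
    have e1 : x⁻¹ * (x * c * x⁻¹) * x = c := by group
    have e2 : x⁻¹ * (y * (x * c * x⁻¹) * y⁻¹) * x = x⁻¹ * y * x * c * (x⁻¹ * y * x)⁻¹ := by group
    rw [e1, e2] at h1
    exact h1
  · intro χ hχ
    have hχ' : irrCongr (centConj Q x) χ ∈ conjBlock Q x f := by
      rw [conjBlock_eq_image]
      exact ⟨χ, hχ, rfl⟩
    obtain ⟨χ₂', hχ₂', hconj⟩ := hst _ hχ'
    rw [conjBlock_eq_image] at hχ₂'
    obtain ⟨χ₂, hχ₂, rfl⟩ := hχ₂'
    refine ⟨χ₂, hχ₂, ?_⟩
    intro k k' hkk'
    have h1 := hconj ((centConj Q x).symm k) ((centConj Q x).symm k') (by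
      show x * (k' : G) * x⁻¹ = y * (x * (k : G) * x⁻¹) * y⁻¹
      rw [hkk']
      group)
    rw [irrCongr_apply, irrCongr_apply, MulEquiv.apply_symm_apply, MulEquiv.apply_symm_apply] at h1
    exact h1

open Classical in
/-- Transport of the stabilizing condition into the normalizer. -/
theorem stabilizesBlock_pInN_of (P : Subgroup G)
    [Fintype (Subgroup.centralizer (P : Set G))]
    [Fintype (Subgroup.centralizer (pInN P : Set ↥(Subgroup.normalizer (P : Set G))))]
    (e : Set (IrrCharacter (Subgroup.centralizer (P : Set G))))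
    (x : ↥(Subgroup.normalizer (P : Set G)))
    (hx : StabilizesBlock (Subgroup.centralizer (P : Set G)) e (x : G)) :
    StabilizesBlock
      (Subgroup.centralizer (pInN P : Set ↥(Subgroup.normalizer (P : Set G))))
      (irrCongr (cEquiv P) '' e) x := by
  refine ⟨?_, ?_⟩
  · have hn : (Subgroup.centralizer (pInN P : Set ↥(Subgroup.normalizer (P : Set G)))).Normal :=
      inferInstance
    have htop := Subgroup.normalizer_eq_top
      (H := Subgroup.centralizer (pInN P : Set ↥(Subgroup.normalizer (P : Set G))))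
    have : x ∈ (⊤ : Subgroup ↥(Subgroup.normalizer (P : Set G))) := Subgroup.mem_top _
    rw [← htop] at this
    exact this
  · rintro _ ⟨χ, hχ, rfl⟩
    obtain ⟨χ₂, hχ₂, hconj⟩ := hx.2 χ hχ
    refine ⟨irrCongr (cEquiv P) χ₂, ⟨χ₂, hχ₂, rfl⟩, ?_⟩
    intro k k' hkk'
    rw [irrCongr_apply, irrCongr_apply]
    apply hconj
    rw [cEquiv_coe, cEquiv_coe, hkk']
    rfl

open Classical in
/-- The idempotent of `f` is a block idempotent of the stabilizer of `(Q, f)`. -/
theorem exists_block_of_normalizer_stabilizer {p : ℕ} [hp : Fact p.Prime] (hM : IsPModular p M)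
    (Q : Subgroup G) (hQ : IsPGroup p Q)
    (f : Set (IrrCharacter (Subgroup.centralizer (Q : Set G)))) (hf : IsPBlock M f)
    (T : Subgroup G)
    (hT : ∀ y : G, y ∈ T ↔ y ∈ Subgroup.normalizer (Q : Set G) ∧
      StabilizesBlock (Subgroup.centralizer (Q : Set G)) f y) :
    ∃ F : Set (IrrCharacter T), IsPBlock M F ∧
      ∀ t : T, blockCoeff F t = subgroupBlockCoeff (Subgroup.centralizer (Q : Set G)) f (t : G) := by
  haveI : Fintype (Subgroup.centralizer (Q : Set G)) := Fintype.ofFinite _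
  haveI : Fintype ↥(Subgroup.normalizer (Q : Set G)) := Fintype.ofFinite _
  haveI : Fintype (Subgroup.centralizer (pInN Q : Set ↥(Subgroup.normalizer (Q : Set G)))) :=
    Fintype.ofFinite _
  haveI : Fintype T := Fintype.ofFinite _
  haveI hMp := isPrime_of_isPModular hM
  obtain ⟨e', he'def⟩ : ∃ e' : Set (IrrCharacter
      (Subgroup.centralizer (pInN Q : Set ↥(Subgroup.normalizer (Q : Set G))))),
      e' = irrCongr (cEquiv Q) '' f := ⟨_, rfl⟩
  have he' : IsPBlock M e' := by
    rw [he'def]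
    exact isPBlock_image_irrCongr (cEquiv Q) f hf
  have hTN : T ≤ Subgroup.normalizer (Q : Set G) := fun y hy => ((hT y).mp hy).1
  obtain ⟨T₀, hT₀def⟩ : ∃ T₀ : Subgroup ↥(Subgroup.normalizer (Q : Set G)),
      T₀ = T.subgroupOf (Subgroup.normalizer (Q : Set G)) := ⟨_, rfl⟩
  haveI : Fintype T₀ := Fintype.ofFinite _
  have hT₀ : ∀ t : ↥(Subgroup.normalizer (Q : Set G)), t ∈ T₀ ↔
      StabilizesBlock (Subgroup.centralizer (pInN Q : Set ↥(Subgroup.normalizer (Q : Set G))))
        e' t := by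
    intro t
    rw [hT₀def, Subgroup.mem_subgroupOf, hT, he'def]
    constructor
    · rintro ⟨-, h⟩
      exact stabilizesBlock_pInN_of Q f t h
    · intro h
      exact ⟨t.2, stabilizesBlock_of_pInN Q f t h⟩
  have hCT : Subgroup.centralizer (Q : Set G) ≤ T := by
    intro c hc
    rw [hT]
    exact ⟨Subgroup.centralizer_le_normalizer _ hc, stabilizesBlock_of_mem_self _ f c hc⟩
  have hQT : Q ≤ T := by
    intro q hq
    rw [hT]
    exact ⟨Subgroup.le_normalizer hq, stabilizesBlock_of_mem_base Q f q hq⟩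
  have hNT₀ : Subgroup.centralizer (pInN Q : Set ↥(Subgroup.normalizer (Q : Set G))) ≤ T₀ := by
    intro c hc
    rw [hT₀def, Subgroup.mem_subgroupOf]
    exact hCT ((mem_centralizer_pInN_iff Q c).mp hc)
  have hcent : ∀ t ∈ T₀, (∀ u ∈ pInN Q, u ∈ T₀ → u * t = t * u) →
      t ∈ Subgroup.centralizer (pInN Q : Set ↥(Subgroup.normalizer (Q : Set G))) := by
    intro t _ h
    rw [Subgroup.mem_centralizer_iff]
    intro u hu
    apply h u hu
    rw [hT₀def, Subgroup.mem_subgroupOf]
    apply hQT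
    have : u ∈ Q.subgroupOf (Subgroup.normalizer (Q : Set G)) := hu
    rwa [Subgroup.mem_subgroupOf] at this
  obtain ⟨E₀, hE₀, hE₀c⟩ := exists_block_of_stabilizer hM (pInN Q) hQ.comap_subtype
    (Subgroup.centralizer (pInN Q : Set ↥(Subgroup.normalizer (Q : Set G)))) e' he' T₀ hT₀ hNT₀
    hcent
  obtain ⟨κ, hκ⟩ : ∃ κ : ↥T₀ ≃* ↥T, ∀ s : T₀,
      ((κ s : T) : G) = ((s : ↥(Subgroup.normalizer (Q : Set G))) : G) := by
    subst hT₀def
    exact ⟨Subgroup.subgroupOfEquivOfLe hTN, fun s => rfl⟩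
  refine ⟨irrCongr κ.symm '' E₀, isPBlock_image_irrCongr _ E₀ hE₀, ?_⟩
  intro t
  rw [blockCoeff_image_irrCongr, hE₀c, he'def, subgroupBlockCoeff_pInN, ← hκ,
    MulEquiv.apply_symm_apply]

end Cfsg.Agent.Lib.helper3.Block
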