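import Mathlib
import Cfsg.Agent.Lib.helper3.SP8

/-!
# Brauer pairs of the block of the stabilizer of `(Q, f)` and normal inclusions above `(Q, f)`
-/

set_option autoImplicit false
set_option linter.style.haveILetI false
set_option linter.unusedSectionVars false

namespace Cfsg.Agent.Lib.helper3.Block

open Cfsg Module Cfsg.Agent.Lib.helper3.CharBasic Cfsg.Agent.Lib.helper3.Irr
open Cfsg.Agent.Lib.helper3.Central Cfsg.Agent.Lib.helper3.LocalM Cfsg.Agent.Lib.helper3.IndFun
open Cfsg.Agent.Lib.helper3.Lin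
open scoped ComplexConjugate

universe u

variable {G : Type u} [Group G] [Fintype G] {M : Ideal AlgInt}

theorem mem_centralizer_map_subtype_iff (X : Subgroup G) (D' : Subgroup ↥X)
    (hX : Subgroup.centralizer ((D'.map X.subtype : Subgroup G) : Set G) ≤ X) (c : G) :
    c ∈ Subgroup.centralizer ((D'.map X.subtype : Subgroup G) : Set G) ↔
      ∃ hc : c ∈ X, (⟨c, hc⟩ : ↥X) ∈ Subgroup.centralizer (D' : Set ↥X) := by
  constructor
  · intro h
    refine ⟨hX h, ?_⟩
    rw [Subgroup.mem_centralizer_iff]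
    intro d hd
    apply Subtype.ext
    exact (Subgroup.mem_centralizer_iff.mp h) _ ⟨d, hd, rfl⟩
  · rintro ⟨hc, hcD⟩
    rw [Subgroup.mem_centralizer_iff]
    rintro _ ⟨d, hd, rfl⟩
    have := (Subgroup.mem_centralizer_iff.mp hcD) d hd
    exact congrArg Subtype.val this

/-- The identification of `C_X(D')` with `C_G(D')` when the latter lies in `X`. -/
noncomputable def cSubEquiv (X : Subgroup G) (D' : Subgroup ↥X)
    (hX : Subgroup.centralizer ((D'.map X.subtype : Subgroup G) : Set G) ≤ X) :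
    ↥(Subgroup.centralizer (D' : Set ↥X))
      ≃* ↥(Subgroup.centralizer ((D'.map X.subtype : Subgroup G) : Set G)) where
  toFun c := ⟨((c : ↥X) : G),
    (mem_centralizer_map_subtype_iff X D' hX _).mpr ⟨(c : ↥X).2, c.2⟩⟩
  invFun c := ⟨⟨(c : G), ((mem_centralizer_map_subtype_iff X D' hX _).mp c.2).1⟩,
    ((mem_centralizer_map_subtype_iff X D' hX _).mp c.2).2⟩
  left_inv c := Subtype.ext (Subtype.ext rfl)
  right_inv c := Subtype.ext rfl
  map_mul' a b := Subtype.ext rfl

theorem cSubEquiv_coe (X : Subgroup G) (D' : Subgroup ↥X)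
    (hX : Subgroup.centralizer ((D'.map X.subtype : Subgroup G) : Set G) ≤ X)
    (c : ↥(Subgroup.centralizer (D' : Set ↥X))) :
    ((cSubEquiv X D' hX c : ↥(Subgroup.centralizer ((D'.map X.subtype : Subgroup G) : Set G))) : G)
      = ((c : ↥X) : G) := rfl

theorem brauerOmega_cSubEquiv (X : Subgroup G) (D' : Subgroup ↥X)
    (hX : Subgroup.centralizer ((D'.map X.subtype : Subgroup G) : Set G) ≤ X)
    [Fintype ↥(Subgroup.centralizer (D' : Set ↥X))]
    [Fintype ↥(Subgroup.centralizer ((D'.map X.subtype : Subgroup G) : Set G))]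
    (βX : ↥X → ℂ) (β : G → ℂ) (hβ : ∀ t : ↥X, βX t = β (t : G))
    (ξ : IrrCharacter ↥(Subgroup.centralizer ((D'.map X.subtype : Subgroup G) : Set G))) :
    brauerOmega D' βX (irrCongr (cSubEquiv X D' hX) ξ :
        ↥(Subgroup.centralizer (D' : Set ↥X)) → ℂ)
      = brauerOmega (D'.map X.subtype) β
        (ξ : ↥(Subgroup.centralizer ((D'.map X.subtype : Subgroup G) : Set G)) → ℂ) := by
  classical
  rw [brauerOmega_eq_sum, brauerOmega_eq_sum]
  apply Fintype.sum_equiv (cSubEquiv X D' hX).toEquiv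
  intro c
  rw [irrCongr_apply, irrCongr_apply, map_one, hβ]
  rfl

/-- A normal inclusion above `(Q, f)` gives a Brauer pair of the block of the stabilizer. -/
theorem isBrauerPairOf_stabilizer_of_isNormalSubpair {p : ℕ} (Q : Subgroup G)
    (f : Set (IrrCharacter (Subgroup.centralizer (Q : Set G))))
    (T : Subgroup G) (D' : Subgroup ↥T)
    (hX : Subgroup.centralizer ((D'.map T.subtype : Subgroup G) : Set G) ≤ T)
    [Fintype ↥(Subgroup.centralizer (D' : Set ↥T))]
    [Fintype ↥(Subgroup.centralizer ((D'.map T.subtype : Subgroup G) : Set G))]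
    (F : Set (IrrCharacter T)) (hF : IsPBlock M F)
    (hFf : ∀ t : T, blockCoeff F t
      = subgroupBlockCoeff (Subgroup.centralizer (Q : Set G)) f (t : G))
    (h : Set (IrrCharacter ↥(Subgroup.centralizer ((D'.map T.subtype : Subgroup G) : Set G))))
    (hn : IsNormalSubpair p M Q f (D'.map T.subtype) h) :
    IsBrauerPairOf p M F D' (irrCongr (cSubEquiv T D' hX) '' h) := by
  obtain ⟨-, ⟨hD, hh⟩, -, -, -, hω⟩ := hn
  have hD' : IsPGroup p D' :=
    (hD.comap_of_injective _ (Subgroup.subtype_injective _)).to_le (Subgroup.le_comap_map _ _)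
  refine ⟨⟨hD', isPBlock_image_irrCongr _ h hh⟩, hF, ?_⟩
  rintro _ ⟨ξ, hξ, rfl⟩
  rw [brauerOmega_cSubEquiv T D' hX (blockCoeff F) _ hFf]
  exact hω ξ hξ

/-- A Brauer pair of the block of the stabilizer gives a normal inclusion above `(Q, f)`. -/
theorem isNormalSubpair_of_isBrauerPairOf_stabilizer {p : ℕ} (Q : Subgroup G)
    (hQ : IsPGroup p Q)
    (f : Set (IrrCharacter (Subgroup.centralizer (Q : Set G)))) (hf : IsPBlock M f)
    (T : Subgroup G)
    (hT : ∀ y : G, y ∈ T ↔ y ∈ Subgroup.normalizer (Q : Set G) ∧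
      StabilizesBlock (Subgroup.centralizer (Q : Set G)) f y)
    (D' : Subgroup ↥T)
    (hX : Subgroup.centralizer ((D'.map T.subtype : Subgroup G) : Set G) ≤ T)
    (hQD : Q ≤ D'.map T.subtype)
    [Fintype ↥(Subgroup.centralizer (D' : Set ↥T))]
    [Fintype ↥(Subgroup.centralizer ((D'.map T.subtype : Subgroup G) : Set G))]
    (F : Set (IrrCharacter T))
    (hFf : ∀ t : T, blockCoeff F t
      = subgroupBlockCoeff (Subgroup.centralizer (Q : Set G)) f (t : G))
    (h : Set (IrrCharacter ↥(Subgroup.centralizer ((D'.map T.subtype : Subgroup G) : Set G))))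
    (hh : IsPBlock M h)
    (hb : IsBrauerPairOf p M F D' (irrCongr (cSubEquiv T D' hX) '' h)) :
    IsNormalSubpair p M Q f (D'.map T.subtype) h := by
  obtain ⟨⟨hD', -⟩, -, hω⟩ := hb
  have hDT : D'.map T.subtype ≤ T := by
    rintro _ ⟨d, -, rfl⟩
    exact d.2
  refine ⟨⟨hQ, hf⟩, ⟨hD'.map _, hh⟩, hQD, fun y hy => ((hT y).mp (hDT hy)).1,
    fun y hy => ((hT y).mp (hDT hy)).2, ?_⟩
  intro ξ hξ
  rw [← brauerOmega_cSubEquiv T D' hX (blockCoeff F) _ hFf]
  exact hω _ ⟨ξ, hξ, rfl⟩

end Cfsg.Agent.Lib.helper3.Block
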