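import Mathlib
import Cfsg.Agent.Lib.helper3.SP9

/-!
# Normalizers in a maximal pair and defect groups of the blocks of the stabilizers
-/

set_option autoImplicit false
set_option linter.style.haveILetI false
set_option linter.unusedSectionVars false

namespace Cfsg.Agent.Lib.helper3.Block

open Cfsg Module Cfsg.Agent.Lib.helper3.CharBasic Cfsg.Agent.Lib.helper3.Irr
open Cfsg.Agent.Lib.helper3.Central Cfsg.Agent.Lib.helper3.LocalM Cfsg.Agent.Lib.helper3.IndFun
open Cfsg.Agent.Lib.helper3.Lin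
open scoped ComplexConjugate

universe u

variable {G : Type u} [Group G] [Fintype G] {M : Ideal AlgInt}

open Classical in
/-- Below a Brauer pair `(P, e)`: `N_P(Q)` stabilizes `f`, and a maximal Brauer pair of the block
of the stabilizer has a subgroup containing `N_P(Q)`. -/
theorem exists_maximal_ge_normalizerIn {p : ℕ} [hp : Fact p.Prime] (hM : IsPModular p M)
    (P Q : Subgroup G) (e : Set (IrrCharacter (Subgroup.centralizer (P : Set G))))
    (f : Set (IrrCharacter (Subgroup.centralizer (Q : Set G))))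
    (hPe : IsBrauerPair p M P e) (hQP : Q ≤ P)
    (hle : SubpairLE p M Q f P e) (T : Subgroup G)
    (hT : ∀ y : G, y ∈ T ↔ y ∈ Subgroup.normalizer (Q : Set G) ∧
      StabilizesBlock (Subgroup.centralizer (Q : Set G)) f y)
    (F : Set (IrrCharacter T)) (hF : IsPBlock M F)
    (hFf : ∀ t : T, blockCoeff F t
      = subgroupBlockCoeff (Subgroup.centralizer (Q : Set G)) f (t : G)) :
    P ⊓ Subgroup.normalizer (Q : Set G) ≤ T ∧
    ∃ b : BrauerPairIdx ↥T, IsMaximalBrauerPair p M F b.1 b.2 ∧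
      (P ⊓ Subgroup.normalizer (Q : Set G)).subgroupOf T ≤ b.1 := by
  haveI : Fintype ↥T := Fintype.ofFinite _
  haveI : Fintype ↥(Subgroup.centralizer (Q : Set G)) := Fintype.ofFinite _
  haveI hMp := isPrime_of_isPModular hM
  have hCT : Subgroup.centralizer (Q : Set G) ≤ T := by
    intro c hc
    rw [hT]
    exact ⟨Subgroup.centralizer_le_normalizer _ hc, stabilizesBlock_of_mem_self _ f c hc⟩
  have key : ∀ R' : Subgroup G, Q ≤ R' → R' ≤ P → R' ≤ Subgroup.normalizer (Q : Set G) →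
      ∃ g : Set (IrrCharacter (Subgroup.centralizer (R' : Set G))),
        IsNormalSubpair p M Q f R' g := by
    intro R' hQR' hR'P hR'N
    obtain ⟨g, hg, hleR⟩ := exists_subpair hM P e hPe _ R' hR'P rfl
    have hRg : IsBrauerPair p M R' g := ⟨hPe.1.to_le hR'P, hg⟩
    obtain ⟨f₂, hf₂, -⟩ := Cfsg.Agent.S4656.result p M hM R' Q g hRg hQR' hR'N
    have hf₂' : NormalSubpairRel p M (⟨Q, f₂⟩ : BrauerPairIdx G) ⟨R', g⟩ := hf₂
    have hle₂ : Relation.ReflTransGen (NormalSubpairRel p M) (⟨Q, f₂⟩ : BrauerPairIdx G) ⟨P, e⟩ :=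
      Relation.ReflTransGen.head hf₂' hleR
    have heq := subpair_unique hM _ ⟨P, e⟩ rfl ⟨Q, f₂⟩ ⟨Q, f⟩ hle₂ hle rfl
    have hff : f₂ = f := eq_of_heq (Sigma.mk.inj_iff.mp heq).2
    rw [hff] at hf₂
    exact ⟨g, hf₂⟩
  have hQR : Q ≤ P ⊓ Subgroup.normalizer (Q : Set G) := le_inf hQP Subgroup.le_normalizer
  obtain ⟨g₀, hn₀⟩ := key _ hQR inf_le_left inf_le_right
  have hRT : P ⊓ Subgroup.normalizer (Q : Set G) ≤ T :=
    fun y hy => (hT y).mpr ⟨hn₀.2.2.2.1 hy, hn₀.2.2.2.2.1 y hy⟩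
  refine ⟨hRT, ?_⟩
  obtain ⟨D', hD'⟩ : ∃ D' : Subgroup ↥T,
      D' = (P ⊓ Subgroup.normalizer (Q : Set G)).subgroupOf T := ⟨_, rfl⟩
  have hDmap : D'.map T.subtype = P ⊓ Subgroup.normalizer (Q : Set G) := by
    rw [hD']
    exact Subgroup.map_subgroupOf_eq_of_le hRT
  have hQD : Q ≤ D'.map T.subtype := by
    rw [hDmap]
    exact hQR
  have hX : Subgroup.centralizer ((D'.map T.subtype : Subgroup G) : Set G) ≤ T :=
    (Subgroup.centralizer_le (by exact_mod_cast hQD)).trans hCT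
  haveI : Fintype ↥(Subgroup.centralizer (D' : Set ↥T)) := Fintype.ofFinite _
  haveI : Fintype ↥(Subgroup.centralizer ((D'.map T.subtype : Subgroup G) : Set G)) :=
    Fintype.ofFinite _
  obtain ⟨g, hn⟩ := key (D'.map T.subtype) hQD (by rw [hDmap]; exact inf_le_left)
    (by rw [hDmap]; exact inf_le_right)
  have hpair := isBrauerPairOf_stabilizer_of_isNormalSubpair Q f T D' hX F hF hFf g hn
  obtain ⟨b, hb, hleb⟩ := exists_maximal_above (M := M) (p := p) F _
    (⟨D', irrCongr (cSubEquiv T D' hX) '' g⟩ : BrauerPairIdx ↥T) rfl hpair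
  refine ⟨b, hb, ?_⟩
  rw [← hD']
  exact fst_le_of_reflTransGen hleb

open Classical in
/-- Some conjugate of `(Q, f)` lies below `(P, e)` with `N_P(xQx⁻¹)` a defect group of the block
of the stabilizer. -/
theorem exists_conj_normalizerIn_isDefectGroup {p : ℕ} [hp : Fact p.Prime] (hM : IsPModular p M)
    (B : Set (IrrCharacter G)) (P Q : Subgroup G)
    (e : Set (IrrCharacter (Subgroup.centralizer (P : Set G))))
    (f : Set (IrrCharacter (Subgroup.centralizer (Q : Set G))))
    (hmax : IsMaximalBrauerPair p M B P e) (hQP : Q ≤ P) (hf : IsPBlock M f)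
    (hle : SubpairLE p M Q f P e) :
    ∃ x : G, SubpairLE p M (Q.map (MulAut.conj x).toMonoidHom) (conjBlock Q x f) P e ∧
      ∀ (T' : Subgroup G), (∀ y : G, y ∈ T' ↔
          y ∈ Subgroup.normalizer ((Q.map (MulAut.conj x).toMonoidHom) : Set G) ∧
          StabilizesBlock (Subgroup.centralizer ((Q.map (MulAut.conj x).toMonoidHom) : Set G))
            (conjBlock Q x f) y) →
        ∃ F' : Set (IrrCharacter T'), IsPBlock M F' ∧
          (∀ t : T', blockCoeff F' t = subgroupBlockCoeff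
            (Subgroup.centralizer ((Q.map (MulAut.conj x).toMonoidHom) : Set G))
            (conjBlock Q x f) (t : G)) ∧
          IsDefectGroup p M F'
            ((P ⊓ Subgroup.normalizer ((Q.map (MulAut.conj x).toMonoidHom) : Set G)).subgroupOf
              T') := by
  haveI : Fintype ↥(Subgroup.centralizer (Q : Set G)) := Fintype.ofFinite _
  haveI hMp := isPrime_of_isPModular hM
  obtain ⟨hBe, -⟩ := id hmax
  obtain ⟨hPe, hB, -⟩ := id hBe
  have hQp : IsPGroup p Q := hPe.1.to_le hQP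
  -- the stabilizer
  obtain ⟨T₁, hT₁⟩ := exists_stabilizer_subgroup (Subgroup.centralizer (Q : Set G)) f hf
  obtain ⟨T, hTdef⟩ : ∃ T : Subgroup G, T = Subgroup.normalizer (Q : Set G) ⊓ T₁ := ⟨_, rfl⟩
  have hT : ∀ y : G, y ∈ T ↔ y ∈ Subgroup.normalizer (Q : Set G) ∧
      StabilizesBlock (Subgroup.centralizer (Q : Set G)) f y := by
    intro y
    rw [hTdef, Subgroup.mem_inf, hT₁]
  haveI : Fintype ↥T := Fintype.ofFinite _
  have hCT : Subgroup.centralizer (Q : Set G) ≤ T := by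
    intro c hc
    rw [hT]
    exact ⟨Subgroup.centralizer_le_normalizer _ hc, stabilizesBlock_of_mem_self _ f c hc⟩
  obtain ⟨F, hF, hFf⟩ := exists_block_of_normalizer_stabilizer hM Q hQp f hf T hT
  obtain ⟨hRT, b, hb, hleb⟩ := exists_maximal_ge_normalizerIn hM P Q e f hPe hQP hle T hT F hF hFf
  obtain ⟨D₀', h₀'⟩ := b
  have hb' : IsMaximalBrauerPair p M F D₀' h₀' := hb
  have hleb' : (P ⊓ Subgroup.normalizer (Q : Set G)).subgroupOf T ≤ D₀' := hleb
  have hD₀def : IsDefectGroup p M F D₀' := Cfsg.Agent.S4659.result p M hM F D₀' h₀' hb'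
  have hh₀' : IsPBlock M h₀' := hb'.1.1.2
  have hQD₀ : Q ≤ D₀'.map T.subtype := by
    have h1 : Q ≤ P ⊓ Subgroup.normalizer (Q : Set G) := le_inf hQP Subgroup.le_normalizer
    have h2 := Subgroup.map_mono (f := T.subtype) hleb'
    rw [Subgroup.map_subgroupOf_eq_of_le hRT] at h2
    exact h1.trans h2
  have hX₀ : Subgroup.centralizer ((D₀'.map T.subtype : Subgroup G) : Set G) ≤ T :=
    (Subgroup.centralizer_le (by exact_mod_cast hQD₀)).trans hCT
  haveI : Fintype ↥(Subgroup.centralizer (D₀' : Set ↥T)) := Fintype.ofFinite _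
  haveI : Fintype ↥(Subgroup.centralizer ((D₀'.map T.subtype : Subgroup G) : Set G)) :=
    Fintype.ofFinite _
  obtain ⟨h₀, hh₀def⟩ : ∃ h₀ : Set (IrrCharacter
      ↥(Subgroup.centralizer ((D₀'.map T.subtype : Subgroup G) : Set G))),
      h₀ = irrCongr (cSubEquiv T D₀' hX₀).symm '' h₀' := ⟨_, rfl⟩
  have hh₀ : IsPBlock M h₀ := by
    rw [hh₀def]
    exact isPBlock_image_irrCongr _ h₀' hh₀'
  have himg : irrCongr (cSubEquiv T D₀' hX₀) '' h₀ = h₀' := by
    rw [hh₀def, Set.image_image]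
    have : ∀ ξ, irrCongr (cSubEquiv T D₀' hX₀) (irrCongr (cSubEquiv T D₀' hX₀).symm ξ) = ξ := by
      intro ξ
      apply Subtype.ext
      funext c
      rw [irrCongr_apply, irrCongr_apply, MulEquiv.symm_apply_apply]
    simp only [this, Set.image_id']
  have hn : IsNormalSubpair p M Q f (D₀'.map T.subtype) h₀ := by
    apply isNormalSubpair_of_isBrauerPairOf_stabilizer Q hQp f hf T hT D₀' hX₀ hQD₀ F hFf h₀ hh₀
    rw [himg]
    exact hb'.1
  have hQfB : IsBrauerPairOf p M B Q f :=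
    (Cfsg.Agent.S4658.result p M hM P Q e f hPe ⟨hQp, hf⟩ hle B hB).mp hBe
  have hD₀B : IsBrauerPairOf p M B (D₀'.map T.subtype) h₀ :=
    (Cfsg.Agent.S4658.result p M hM (D₀'.map T.subtype) Q h₀ f hn.2.1 ⟨hQp, hf⟩
      (Relation.ReflTransGen.single hn) B hB).mpr hQfB
  obtain ⟨x, hx⟩ := Cfsg.Agent.S4660.result p M hM B P (D₀'.map T.subtype) e h₀ hmax hD₀B
  have hnx := isNormalSubpair_conj x Q (D₀'.map T.subtype) f h₀ hn
  have hnx' : NormalSubpairRel p M (conjIdx x (⟨Q, f⟩ : BrauerPairIdx G))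
      (conjIdx x ⟨D₀'.map T.subtype, h₀⟩) := hnx
  have hlex : SubpairLE p M (Q.map (MulAut.conj x).toMonoidHom) (conjBlock Q x f) P e :=
    Relation.ReflTransGen.head hnx' hx
  refine ⟨x, hlex, ?_⟩
  intro T' hT'
  haveI : Fintype ↥T' := Fintype.ofFinite _
  have hDxP : (D₀'.map T.subtype).map (MulAut.conj x).toMonoidHom ≤ P :=
    fst_le_of_reflTransGen hx
  have hQxP : Q.map (MulAut.conj x).toMonoidHom ≤ P :=
    (Subgroup.map_mono hQD₀).trans hDxP
  have hfx : IsPBlock M (conjBlock Q x f) := isPBlock_conjBlock Q x f hf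
  obtain ⟨F', hF', hF'f⟩ := exists_block_of_normalizer_stabilizer hM
    (Q.map (MulAut.conj x).toMonoidHom) (hQp.map _) (conjBlock Q x f) hfx T' hT'
  refine ⟨F', hF', hF'f, ?_⟩
  obtain ⟨hR'T', b₁, hb₁, hleb₁⟩ := exists_maximal_ge_normalizerIn hM P
    (Q.map (MulAut.conj x).toMonoidHom) e (conjBlock Q x f) hPe hQxP hlex T' hT' F' hF' hF'f
  have hD₁ : IsDefectGroup p M F' b₁.1 := Cfsg.Agent.S4659.result p M hM F' b₁.1 b₁.2 hb₁
  -- the conjugation isomorphism
  obtain ⟨cj, hcj⟩ : ∃ cj : ↥T' ≃* ↥T, ∀ t' : ↥T', ((cj t' : ↥T) : G) = x⁻¹ * (t' : G) * x := by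
    refine ⟨{ toFun := fun t' => ⟨x⁻¹ * (t' : G) * x, (hT _).mpr
                ⟨(mem_normalizer_map_conj_iff Q x t').mp ((hT' t').mp t'.2).1,
                  stabilizesBlock_of_conjBlock Q x f t' ((hT' t').mp t'.2).2⟩⟩
              invFun := fun t => ⟨x * (t : G) * x⁻¹, (hT' _).mpr
                ⟨(mem_normalizer_map_conj_iff Q x _).mpr (by
                    have e1 : x⁻¹ * (x * (t : G) * x⁻¹) * x = (t : G) := by group
                    rw [e1]
                    exact ((hT t).mp t.2).1),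
                  stabilizesBlock_conjBlock Q x f t ((hT t).mp t.2).2⟩⟩
              left_inv := ?_
              right_inv := ?_
              map_mul' := ?_ }, fun t' => rfl⟩
    · intro t'
      apply Subtype.ext
      show x * (x⁻¹ * (t' : G) * x) * x⁻¹ = t'
      group
    · intro t
      apply Subtype.ext
      show x⁻¹ * (x * (t : G) * x⁻¹) * x = t
      group
    · intro a b
      apply Subtype.ext
      show x⁻¹ * ((a : G) * (b : G)) * x = x⁻¹ * (a : G) * x * (x⁻¹ * (b : G) * x)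
      group
  have hF'eq : F' = irrCongr cj '' F := by
    apply eq_of_blockCoeff_eq
    intro t'
    rw [blockCoeff_image_irrCongr, hF'f, hFf, hcj, subgroupBlockCoeff_conjBlock]
  have hdef : blockDefect p F' = blockDefect p F := by
    rw [hF'eq]
    exact blockDefect_image_irrCongr _ F
  have hc₁ := Cfsg.Agent.S0908.result p M hM F' hF' b₁.1 hD₁
  have hc₀ := Cfsg.Agent.S0908.result p M hM F hF D₀' hD₀def
  have hcD₀ : Nat.card (D₀'.map T.subtype) = Nat.card D₀' :=
    Subgroup.card_map_of_injective (Subgroup.subtype_injective _)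
  have hcD₀x : Nat.card ((D₀'.map T.subtype).map (MulAut.conj x).toMonoidHom)
      = Nat.card (D₀'.map T.subtype) :=
    Subgroup.card_map_of_injective (MulAut.conj x).injective
  have hD₀x : (D₀'.map T.subtype).map (MulAut.conj x).toMonoidHom
      ≤ P ⊓ Subgroup.normalizer ((Q.map (MulAut.conj x).toMonoidHom : Subgroup G) : Set G) := by
    apply le_inf hDxP
    rintro _ ⟨d, hd, rfl⟩
    rw [mem_normalizer_map_conj_iff]
    show x⁻¹ * (x * d * x⁻¹) * x ∈ _
    have e1 : x⁻¹ * (x * d * x⁻¹) * x = d := by group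
    rw [e1]
    obtain ⟨d', -, rfl⟩ := hd
    exact ((hT _).mp d'.2).1
  have hcsub : Nat.card ((P ⊓ Subgroup.normalizer
      ((Q.map (MulAut.conj x).toMonoidHom : Subgroup G) : Set G)).subgroupOf T')
      = Nat.card ↥(P ⊓ Subgroup.normalizer
        ((Q.map (MulAut.conj x).toMonoidHom : Subgroup G) : Set G)) :=
    Nat.card_congr (Subgroup.subgroupOfEquivOfLe hR'T').toEquiv
  have h1 := Subgroup.card_le_of_le hD₀x
  have hEq := Subgroup.eq_of_le_of_card_ge hleb₁ (by
    rw [hcsub, hc₁, hdef, ← hc₀, ← hcD₀, ← hcD₀x]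
    exact h1)
  rw [hEq]
  exact hD₁

end Cfsg.Agent.Lib.helper3.Block
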