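import Mathlib
import Cfsg.Agent.Lib.helper3.SP10

/-!
# The defect of the block of the stabilizer is invariant under conjugation
-/

set_option autoImplicit false
set_option linter.style.haveILetI false
set_option linter.unusedSectionVars false

namespace Cfsg.Agent.Lib.helper3.Block

open Cfsg Module Cfsg.Agent.Lib.helper3.CharBasic Cfsg.Agent.Lib.helper3.Irr
open Cfsg.Agent.Lib.helper3.Central Cfsg.Agent.Lib.helper3.LocalM Cfsg.Agent.Lib.helper3.IndFun
open Cfsg.Agent.Lib.helper3.Lin
open scoped ComplexConjugate

universe u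

variable {G : Type u} [Group G] [Fintype G] {M : Ideal AlgInt}

open Classical in
theorem blockDefect_stabilizer_conj {p : ℕ} (Q : Subgroup G)
    (f : Set (IrrCharacter (Subgroup.centralizer (Q : Set G)))) (x : G)
    (T : Subgroup G)
    (hT : ∀ y : G, y ∈ T ↔ y ∈ Subgroup.normalizer (Q : Set G) ∧
      StabilizesBlock (Subgroup.centralizer (Q : Set G)) f y)
    (T' : Subgroup G)
    (hT' : ∀ y : G, y ∈ T' ↔
      y ∈ Subgroup.normalizer ((Q.map (MulAut.conj x).toMonoidHom) : Set G) ∧
      StabilizesBlock (Subgroup.centralizer ((Q.map (MulAut.conj x).toMonoidHom) : Set G))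
        (conjBlock Q x f) y)
    (F : Set (IrrCharacter T))
    (hFf : ∀ t : T, blockCoeff F t
      = subgroupBlockCoeff (Subgroup.centralizer (Q : Set G)) f (t : G))
    (F' : Set (IrrCharacter T'))
    (hF'f : ∀ t : T', blockCoeff F' t = subgroupBlockCoeff
      (Subgroup.centralizer ((Q.map (MulAut.conj x).toMonoidHom) : Set G))
      (conjBlock Q x f) (t : G)) :
    blockDefect p F' = blockDefect p F := by
  haveI : Fintype ↥T := Fintype.ofFinite _
  haveI : Fintype ↥T' := Fintype.ofFinite _
  obtain ⟨cj, hcj⟩ : ∃ cj : ↥T' ≃* ↥T, ∀ t' : ↥T', ((cj t' : ↥T) : G) = x⁻¹ * (t' : G) * x := by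
    refine ⟨{ toFun := fun t' => ⟨x⁻¹ * (t' : G) * x, (hT _).mpr
                ⟨(mem_normalizer_map_conj_iff Q x t').mp ((hT' t').mp t'.2).1,
                  stabilizesBlock_of_conjBlock Q x f t' ((hT' t').mp t'.2).2⟩⟩
              invFun := fun t => ⟨x * (t : G) * x⁻¹, (hT' _).mpr
                ⟨(mem_normalizer_map_conj_iff Q x _).mpr (by
                    have e1 : x⁻¹ * (x * (t : G) * x⁻¹) * x = (t : G) := by group
                    rw [e1]
                    exact ((hT t).mp t.2).1),
                  stabilizesBlock_conjBlock Q x f t ((hT t).mp t.2).2⟩⟩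
              left_inv := ?_
              right_inv := ?_
              map_mul' := ?_ }, fun t' => rfl⟩
    · intro t'
      apply Subtype.ext
      show x * (x⁻¹ * (t' : G) * x) * x⁻¹ = t'
      group
    · intro t
      apply Subtype.ext
      show x⁻¹ * (x * (t : G) * x⁻¹) * x = t
      group
    · intro a b
      apply Subtype.ext
      show x⁻¹ * ((a : G) * (b : G)) * x = x⁻¹ * (a : G) * x * (x⁻¹ * (b : G) * x)
      group
  have hF'eq : F' = irrCongr cj '' F := by
    apply eq_of_blockCoeff_eq
    intro t'
    rw [blockCoeff_image_irrCongr, hF'f, hFf, hcj, subgroupBlockCoeff_conjBlock]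
  rw [hF'eq]
  exact blockDefect_image_irrCongr _ F

end Cfsg.Agent.Lib.helper3.Block
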