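import Mathlib
import Cfsg.Agent.Lib.helper3.SP11

/-!
# Brauer pairs of a subgroup `T` containing the centralizers, lifted to `G`
-/

set_option autoImplicit false
set_option linter.style.haveILetI false
set_option linter.unusedSectionVars false

namespace Cfsg.Agent.Lib.helper3.Block

open Cfsg Module Cfsg.Agent.Lib.helper3.CharBasic Cfsg.Agent.Lib.helper3.Irr
open Cfsg.Agent.Lib.helper3.Central Cfsg.Agent.Lib.helper3.LocalM Cfsg.Agent.Lib.helper3.IndFun
open Cfsg.Agent.Lib.helper3.Lin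
open scoped ComplexConjugate

universe u

variable {G : Type u} [Group G] [Fintype G] {M : Ideal AlgInt}

open Classical in
/-- The lift to `G` of a Brauer pair index of the subgroup `T`. -/
noncomputable def upT (T : Subgroup G) (a' : BrauerPairIdx ↥T) : BrauerPairIdx G :=
  if hX : Subgroup.centralizer ((a'.1.map T.subtype : Subgroup G) : Set G) ≤ T then
    ⟨a'.1.map T.subtype,
      @irrCongr _ _ _ _ (Fintype.ofFinite _) (Fintype.ofFinite _) (cSubEquiv T a'.1 hX).symm ''
        a'.2⟩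
  else ⟨a'.1.map T.subtype, ∅⟩

theorem upT_fst (T : Subgroup G) (a' : BrauerPairIdx ↥T) :
    (upT T a').1 = a'.1.map T.subtype := by
  unfold upT
  split_ifs <;> rfl

theorem upT_eq (T : Subgroup G) (D' : Subgroup ↥T)
    (h' : Set (IrrCharacter ↥(Subgroup.centralizer (D' : Set ↥T))))
    (hX : Subgroup.centralizer ((D'.map T.subtype : Subgroup G) : Set G) ≤ T) :
    upT T ⟨D', h'⟩ = ⟨D'.map T.subtype,
      @irrCongr _ _ _ _ (Fintype.ofFinite _) (Fintype.ofFinite _) (cSubEquiv T D' hX).symm ''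
        h'⟩ := by
  unfold upT
  rw [dif_pos hX]

theorem subgroupBlockCoeff_cSubEquiv_symm (T : Subgroup G) (D' : Subgroup ↥T)
    (hX : Subgroup.centralizer ((D'.map T.subtype : Subgroup G) : Set G) ≤ T)
    [Fintype ↥(Subgroup.centralizer (D' : Set ↥T))]
    [Fintype ↥(Subgroup.centralizer ((D'.map T.subtype : Subgroup G) : Set G))]
    (h' : Set (IrrCharacter ↥(Subgroup.centralizer (D' : Set ↥T)))) (t : ↥T) :
    subgroupBlockCoeff (Subgroup.centralizer (D' : Set ↥T)) h' t
      = subgroupBlockCoeff (Subgroup.centralizer ((D'.map T.subtype : Subgroup G) : Set G))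
        (irrCongr (cSubEquiv T D' hX).symm '' h') (t : G) := by
  classical
  by_cases ht : t ∈ Subgroup.centralizer (D' : Set ↥T)
  · have ht' : (t : G) ∈ Subgroup.centralizer ((D'.map T.subtype : Subgroup G) : Set G) :=
      (mem_centralizer_map_subtype_iff T D' hX _).mpr ⟨t.2, ht⟩
    rw [subgroupBlockCoeff_of_mem _ _ ht, subgroupBlockCoeff_of_mem _ _ ht',
      blockCoeff_image_irrCongr]
    rfl
  · have ht' : (t : G) ∉ Subgroup.centralizer ((D'.map T.subtype : Subgroup G) : Set G) := by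
      intro h
      obtain ⟨_, h2⟩ := (mem_centralizer_map_subtype_iff T D' hX _).mp h
      exact ht h2
    rw [subgroupBlockCoeff_of_notMem _ _ ht, subgroupBlockCoeff_of_notMem _ _ ht']

theorem normalizer_le_normalizer_centralizer (D : Subgroup G) :
    Subgroup.normalizer (D : Set G)
      ≤ Subgroup.normalizer ((Subgroup.centralizer (D : Set G) : Subgroup G) : Set G) := by
  intro u hu
  rw [Subgroup.mem_normalizer_iff] at hu ⊢
  have key : ∀ (v : G), (∀ q, q ∈ D ↔ v * q * v⁻¹ ∈ D) → ∀ h,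
      h ∈ Subgroup.centralizer (D : Set G) → v * h * v⁻¹ ∈ Subgroup.centralizer (D : Set G) := by
    intro v hv h hh
    rw [Subgroup.mem_centralizer_iff] at hh ⊢
    intro q hq
    have hq' : v⁻¹ * q * v ∈ D := by
      rw [hv]
      have : v * (v⁻¹ * q * v) * v⁻¹ = q := by group
      rw [this]
      exact hq
    have h1 := hh _ hq'
    calc q * (v * h * v⁻¹) = v * ((v⁻¹ * q * v) * h) * v⁻¹ := by group
      _ = v * (h * (v⁻¹ * q * v)) * v⁻¹ := by rw [h1]
      _ = v * h * v⁻¹ * q := by group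
  intro h
  constructor
  · exact key u hu h
  · intro hh
    have hinv : ∀ q, q ∈ D ↔ u⁻¹ * q * u⁻¹⁻¹ ∈ D := by
      intro q
      rw [hu (u⁻¹ * q * u⁻¹⁻¹)]
      have : u * (u⁻¹ * q * u⁻¹⁻¹) * u⁻¹ = q := by group
      rw [this]
    have := key u⁻¹ hinv _ hh
    have e : u⁻¹ * (u * h * u⁻¹) * u⁻¹⁻¹ = h := by group
    rwa [e] at this

/-- A normal inclusion in `T` lifts to a normal inclusion in `G`. -/
theorem isNormalSubpair_lift {p : ℕ} (T : Subgroup G) (D₁' D₂' : Subgroup ↥T)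
    (hX₁ : Subgroup.centralizer ((D₁'.map T.subtype : Subgroup G) : Set G) ≤ T)
    (hX₂ : Subgroup.centralizer ((D₂'.map T.subtype : Subgroup G) : Set G) ≤ T)
    [Fintype ↥(Subgroup.centralizer (D₁' : Set ↥T))]
    [Fintype ↥(Subgroup.centralizer ((D₁'.map T.subtype : Subgroup G) : Set G))]
    [Fintype ↥(Subgroup.centralizer (D₂' : Set ↥T))]
    [Fintype ↥(Subgroup.centralizer ((D₂'.map T.subtype : Subgroup G) : Set G))]
    (h₁' : Set (IrrCharacter ↥(Subgroup.centralizer (D₁' : Set ↥T))))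
    (h₂' : Set (IrrCharacter ↥(Subgroup.centralizer (D₂' : Set ↥T))))
    (hn : IsNormalSubpair p M D₁' h₁' D₂' h₂') :
    IsNormalSubpair p M (D₁'.map T.subtype) (irrCongr (cSubEquiv T D₁' hX₁).symm '' h₁')
      (D₂'.map T.subtype) (irrCongr (cSubEquiv T D₂' hX₂).symm '' h₂') := by
  classical
  obtain ⟨⟨hD₁, hh₁⟩, ⟨hD₂, hh₂⟩, hle, hN, hst, hω⟩ := hn
  refine ⟨⟨hD₁.map _, isPBlock_image_irrCongr _ h₁' hh₁⟩,
    ⟨hD₂.map _, isPBlock_image_irrCongr _ h₂' hh₂⟩, Subgroup.map_mono hle,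
    (Subgroup.map_mono hN).trans (Subgroup.le_normalizer_map _), ?_, ?_⟩
  · rintro _ ⟨x', hx', rfl⟩
    obtain ⟨-, hc⟩ := hst x' hx'
    have hxN : (x' : G) ∈ Subgroup.normalizer ((D₁'.map T.subtype : Subgroup G) : Set G) :=
      Subgroup.le_normalizer_map _ ⟨x', hN hx', rfl⟩
    refine ⟨normalizer_le_normalizer_centralizer _ hxN, ?_⟩
    rintro _ ⟨χ', hχ', rfl⟩
    obtain ⟨χ₂', hχ₂', hconj⟩ := hc χ' hχ'
    refine ⟨irrCongr (cSubEquiv T D₁' hX₁).symm χ₂', ⟨χ₂', hχ₂', rfl⟩, ?_⟩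
    intro k k' hkk'
    rw [irrCongr_apply, irrCongr_apply]
    apply hconj
    apply Subtype.ext
    exact hkk'
  · rintro _ ⟨ξ', hξ', rfl⟩
    have h1 := brauerOmega_cSubEquiv T D₂' hX₂
      (subgroupBlockCoeff (Subgroup.centralizer (D₁' : Set ↥T)) h₁')
      (subgroupBlockCoeff (Subgroup.centralizer ((D₁'.map T.subtype : Subgroup G) : Set G))
        (irrCongr (cSubEquiv T D₁' hX₁).symm '' h₁'))
      (subgroupBlockCoeff_cSubEquiv_symm T D₁' hX₁ h₁')
      (irrCongr (cSubEquiv T D₂' hX₂).symm ξ')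
    have h2 : irrCongr (cSubEquiv T D₂' hX₂) (irrCongr (cSubEquiv T D₂' hX₂).symm ξ') = ξ' := by
      apply Subtype.ext
      funext c
      rw [irrCongr_apply, irrCongr_apply, MulEquiv.symm_apply_apply]
    rw [h2] at h1
    rw [← h1]
    exact hω ξ' hξ'

open Classical in
theorem normalSubpairRel_upT {p : ℕ} (T : Subgroup G) (a' b' : BrauerPairIdx ↥T)
    (hXa : Subgroup.centralizer ((a'.1.map T.subtype : Subgroup G) : Set G) ≤ T)
    (h : NormalSubpairRel p M a' b') : NormalSubpairRel p M (upT T a') (upT T b') := by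
  obtain ⟨D₁', h₁'⟩ := a'
  obtain ⟨D₂', h₂'⟩ := b'
  have hle : D₁' ≤ D₂' := h.2.2.1
  have hXb : Subgroup.centralizer ((D₂'.map T.subtype : Subgroup G) : Set G) ≤ T :=
    (Subgroup.centralizer_le (by exact_mod_cast (Subgroup.map_mono hle))).trans hXa
  rw [upT_eq T D₁' h₁' hXa, upT_eq T D₂' h₂' hXb]
  exact @isNormalSubpair_lift _ _ _ _ _ T D₁' D₂' hXa hXb (Fintype.ofFinite _) (Fintype.ofFinite _)
    (Fintype.ofFinite _) (Fintype.ofFinite _) h₁' h₂' h

theorem fst_le_of_reflTransGen' {K : Type u} [Group K] {p : ℕ} {a b : BrauerPairIdx K}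
    (h : Relation.ReflTransGen (NormalSubpairRel p M) a b) : a.1 ≤ b.1 := by
  induction h with
  | refl => exact le_refl _
  | tail _ hbc ih => exact ih.trans hbc.2.2.1

theorem reflTransGen_upT {p : ℕ} (T : Subgroup G) (a' b' : BrauerPairIdx ↥T)
    (hXa : Subgroup.centralizer ((a'.1.map T.subtype : Subgroup G) : Set G) ≤ T)
    (h : Relation.ReflTransGen (NormalSubpairRel p M) a' b') :
    Relation.ReflTransGen (NormalSubpairRel p M) (upT T a') (upT T b') := by
  induction h with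
  | refl => exact Relation.ReflTransGen.refl
  | tail hac hcb ih =>
    rename_i c' b'
    have hle : a'.1 ≤ c'.1 := fst_le_of_reflTransGen' hac
    have hXc : Subgroup.centralizer ((c'.1.map T.subtype : Subgroup G) : Set G) ≤ T :=
      (Subgroup.centralizer_le (by exact_mod_cast (Subgroup.map_mono hle))).trans hXa
    exact Relation.ReflTransGen.tail ih (normalSubpairRel_upT T c' b' hXc hcb)

end Cfsg.Agent.Lib.helper3.Block
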