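import Mathlib
import Cfsg.Agent.Lib.helper3.SP12

/-!
# The lift of Brauer pairs from `T` to `G` commutes with conjugation by elements of `T`
-/

set_option autoImplicit false
set_option linter.style.haveILetI false
set_option linter.unusedSectionVars false

namespace Cfsg.Agent.Lib.helper3.Block

open Cfsg Module Cfsg.Agent.Lib.helper3.CharBasic Cfsg.Agent.Lib.helper3.Irr
open Cfsg.Agent.Lib.helper3.Central Cfsg.Agent.Lib.helper3.LocalM Cfsg.Agent.Lib.helper3.IndFun
open Cfsg.Agent.Lib.helper3.Lin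
open scoped ComplexConjugate

universe u

variable {G : Type u} [Group G] [Fintype G] {M : Ideal AlgInt}

theorem map_subtype_map_conj (T : Subgroup G) (t : ↥T) (D' : Subgroup ↥T) :
    (D'.map (MulAut.conj t).toMonoidHom).map T.subtype
      = (D'.map T.subtype).map (MulAut.conj (t : G)).toMonoidHom := by
  rw [Subgroup.map_map, Subgroup.map_map]
  congr 1

theorem centralizer_map_conj_le (T : Subgroup G) (t : G) (ht : t ∈ T) (D : Subgroup G)
    (hX : Subgroup.centralizer (D : Set G) ≤ T) :
    Subgroup.centralizer ((D.map (MulAut.conj t).toMonoidHom : Subgroup G) : Set G) ≤ T := by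
  intro c hc
  have h1 := hX ((mem_centralizer_map_conj_iff D t c).mp hc)
  have h2 := T.mul_mem (T.mul_mem ht h1) (T.inv_mem ht)
  have e : t * (t⁻¹ * c * t) * t⁻¹ = c := by group
  rwa [e] at h2

open Classical in
theorem upT_conjIdx (T : Subgroup G) [Fintype ↥T] (t : ↥T) (a' : BrauerPairIdx ↥T)
    (hXa : Subgroup.centralizer ((a'.1.map T.subtype : Subgroup G) : Set G) ≤ T) :
    upT T (conjIdx t a') = conjIdx (t : G) (upT T a') := by
  obtain ⟨D', h'⟩ := a'
  have hmapeq := map_subtype_map_conj T t D'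
  have hX' : Subgroup.centralizer
      (((D'.map (MulAut.conj t).toMonoidHom).map T.subtype : Subgroup G) : Set G) ≤ T := by
    rw [hmapeq]
    exact centralizer_map_conj_le T t t.2 _ hXa
  haveI i1 : Fintype ↥(Subgroup.centralizer (D' : Set ↥T)) := Fintype.ofFinite _
  haveI i2 : Fintype ↥(Subgroup.centralizer ((D'.map T.subtype : Subgroup G) : Set G)) :=
    Fintype.ofFinite _
  haveI i3 : Fintype ↥(Subgroup.centralizer
    ((D'.map (MulAut.conj t).toMonoidHom : Subgroup ↥T) : Set ↥T)) := Fintype.ofFinite _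
  haveI i4 : Fintype ↥(Subgroup.centralizer
    (((D'.map (MulAut.conj t).toMonoidHom).map T.subtype : Subgroup G) : Set G)) :=
    Fintype.ofFinite _
  haveI i5 : Fintype ↥(Subgroup.centralizer
    (((D'.map T.subtype).map (MulAut.conj (t : G)).toMonoidHom : Subgroup G) : Set G)) :=
    Fintype.ofFinite _
  have e1 : upT T (conjIdx t (⟨D', h'⟩ : BrauerPairIdx ↥T))
      = ⟨(D'.map (MulAut.conj t).toMonoidHom).map T.subtype,
        irrCongr (cSubEquiv T (D'.map (MulAut.conj t).toMonoidHom) hX').symm ''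
          conjBlock D' t h'⟩ := upT_eq T _ _ hX'
  have e2 : conjIdx (t : G) (upT T (⟨D', h'⟩ : BrauerPairIdx ↥T))
      = ⟨(D'.map T.subtype).map (MulAut.conj (t : G)).toMonoidHom,
        conjBlock (D'.map T.subtype) (t : G)
          (irrCongr (cSubEquiv T D' hXa).symm '' h')⟩ := by
    rw [upT_eq T D' h' hXa]
    rfl
  rw [e1, e2]
  apply brauerPairIdx_ext _ _ _ _ hmapeq
  intro ξ₂
  rw [conjBlock_eq_image, conjBlock_eq_image]
  -- the key identity between the two composite identifications
  have key : ∀ (c : ↥(Subgroup.centralizer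
      (((D'.map (MulAut.conj t).toMonoidHom).map T.subtype : Subgroup G) : Set G)))
      (c' : ↥(Subgroup.centralizer
        (((D'.map T.subtype).map (MulAut.conj (t : G)).toMonoidHom : Subgroup G) : Set G))),
      (c' : G) = c →
      (cSubEquiv T D' hXa).symm (centConj (D'.map T.subtype) (t : G) c')
        = centConj D' t ((cSubEquiv T (D'.map (MulAut.conj t).toMonoidHom) hX').symm c) := by
    intro c c' hcc'
    apply Subtype.ext
    apply Subtype.ext
    show (t : G)⁻¹ * (c' : G) * (t : G) = (t : G)⁻¹ * (c : G) * (t : G)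
    rw [hcc']
  constructor
  · rintro ⟨_, ⟨χ, hχ, rfl⟩, rfl⟩
    refine ⟨irrCongr (cSubEquiv T (D'.map (MulAut.conj t).toMonoidHom) hX').symm
      (irrCongr (centConj D' t) χ), ⟨_, ⟨χ, hχ, rfl⟩, rfl⟩, ?_⟩
    intro c c' hcc'
    rw [irrCongr_apply, irrCongr_apply, irrCongr_apply, irrCongr_apply, key c c' hcc']
  · rintro ⟨_, ⟨_, ⟨χ, hχ, rfl⟩, rfl⟩, hag⟩
    refine ⟨irrCongr (cSubEquiv T D' hXa).symm χ, ⟨χ, hχ, rfl⟩, ?_⟩
    apply Subtype.ext
    funext c'
    have hmem : (c' : G) ∈ Subgroup.centralizer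
        (((D'.map (MulAut.conj t).toMonoidHom).map T.subtype : Subgroup G) : Set G) := by
      rw [hmapeq]
      exact c'.2
    rw [hag ⟨(c' : G), hmem⟩ c' rfl, irrCongr_apply, irrCongr_apply, irrCongr_apply,
      irrCongr_apply, key ⟨(c' : G), hmem⟩ c' rfl]

end Cfsg.Agent.Lib.helper3.Block
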