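import Mathlib
import Cfsg.Agent.Lib.helper3.SP13
import Cfsg.Agent.Lib.helper3.MP3a
import Cfsg.Agent.Lib.helper3.MP3
import Cfsg.Agent.Lib.helper3.MP4
import Cfsg.Agent.S4672

/-!
# Helper lemmas for nilpotent blocks
-/

set_option autoImplicit false
set_option linter.style.haveILetI false
set_option linter.unusedSectionVars false

namespace Cfsg.Agent.Lib.helper3.Block

open Cfsg Module Cfsg.Agent.Lib.helper3.CharBasic Cfsg.Agent.Lib.helper3.Irr
open Cfsg.Agent.Lib.helper3.Central Cfsg.Agent.Lib.helper3.LocalM Cfsg.Agent.Lib.helper3.IndFun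
open Cfsg.Agent.Lib.helper3.Lin
open scoped ComplexConjugate

universe u

variable {G : Type u} [Group G] [Fintype G] {M : Ideal AlgInt}

/-- Decomposition of an element into commuting powers of `p`-power and `p'`-order. -/
theorem exists_zpow_decomp {K : Type*} [Group K] [Finite K] (p : ℕ) (hp : p.Prime) (g : K) :
    ∃ a b : ℤ, g ^ a * g ^ b = g ∧ (∃ k : ℕ, orderOf (g ^ a) = p ^ k) ∧
      ¬ p ∣ orderOf (g ^ b) := by
  have hn : orderOf g ≠ 0 := (orderOf_pos g).ne'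
  obtain ⟨a, m'', hm'', hn'⟩ := Nat.exists_eq_pow_mul_and_not_dvd hn p hp.ne_one
  have hcop : IsCoprime ((p ^ a : ℕ) : ℤ) (m'' : ℤ) :=
    Nat.isCoprime_iff_coprime.mpr
      (Nat.Coprime.pow_left a ((Nat.Prime.coprime_iff_not_dvd hp).mpr hm''))
  obtain ⟨u, v, huv⟩ := hcop
  refine ⟨v * (m'' : ℤ), u * ((p ^ a : ℕ) : ℤ), ?_, ?_, ?_⟩
  · rw [← zpow_add, add_comm, huv, zpow_one]
  · have h1 : (g ^ (v * (m'' : ℤ))) ^ (p ^ a) = 1 := by
      rw [← zpow_natCast, ← zpow_mul, mul_assoc, ← Nat.cast_mul, mul_comm m'', ← hn', zpow_mul',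
        zpow_natCast, pow_orderOf_eq_one, one_zpow]
    obtain ⟨k, -, hk⟩ := (Nat.dvd_prime_pow hp).mp (orderOf_dvd_of_pow_eq_one h1)
    exact ⟨k, hk⟩
  · have h1 : (g ^ (u * ((p ^ a : ℕ) : ℤ))) ^ m'' = 1 := by
      rw [← zpow_natCast, ← zpow_mul, mul_assoc, ← Nat.cast_mul, ← hn', zpow_mul',
        zpow_natCast, pow_orderOf_eq_one, one_zpow]
    intro hdvd
    exact hm'' (hdvd.trans (orderOf_dvd_of_pow_eq_one h1))

theorem exists_mem_of_sigma_eq (Q₂ Q : Subgroup G)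
    (f₂ : Set (IrrCharacter (Subgroup.centralizer (Q₂ : Set G))))
    (f : Set (IrrCharacter (Subgroup.centralizer (Q : Set G))))
    (h : (⟨Q₂, f₂⟩ : BrauerPairIdx G) = ⟨Q, f⟩)
    (ξ : IrrCharacter (Subgroup.centralizer (Q₂ : Set G))) (hξ : ξ ∈ f₂) :
    ∃ ξ' ∈ f, ∀ (c : Subgroup.centralizer (Q₂ : Set G)) (c' : Subgroup.centralizer (Q : Set G)),
      (c' : G) = c → (ξ' : Subgroup.centralizer (Q : Set G) → ℂ) c'
        = (ξ : Subgroup.centralizer (Q₂ : Set G) → ℂ) c := by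
  obtain ⟨hQ, hf⟩ := Sigma.mk.inj_iff.mp h
  subst hQ
  have hf' := eq_of_heq hf
  subst hf'
  exact ⟨ξ, hξ, fun c c' hcc' => by rw [Subtype.ext hcc']⟩

theorem conjIdx_one (a : BrauerPairIdx G) : conjIdx 1 a = a := by
  classical
  obtain ⟨Q, f⟩ := a
  haveI : Fintype (Subgroup.centralizer (Q : Set G)) := Fintype.ofFinite _
  haveI : Fintype (Subgroup.centralizer
    ((Q.map (MulAut.conj (1 : G)).toMonoidHom : Subgroup G) : Set G)) := Fintype.ofFinite _
  have hQ : Q.map (MulAut.conj (1 : G)).toMonoidHom = Q := by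
    ext x
    rw [mem_map_conj_iff]
    simp
  symm
  apply brauerPairIdx_ext _ _ _ _ hQ.symm
  intro ξ'
  show ξ' ∈ conjBlock Q 1 f ↔ _
  rw [conjBlock_eq_image]
  constructor
  · rintro ⟨ξ, hξ, rfl⟩
    refine ⟨ξ, hξ, ?_⟩
    intro c c' hcc'
    rw [irrCongr_apply]
    apply congrArg
    apply Subtype.ext
    rw [centConj_coe, hcc']
    simp
  · rintro ⟨ξ, hξ, hc⟩
    refine ⟨ξ, hξ, ?_⟩
    apply Subtype.ext
    funext c'
    rw [irrCongr_apply]
    symm
    apply hc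
    rw [centConj_coe]
    simp

/-- A pair fixed by conjugation is stabilized. -/
theorem stabilizesBlock_of_conjIdx_eq (Q : Subgroup G)
    (f : Set (IrrCharacter (Subgroup.centralizer (Q : Set G)))) (g : G)
    (h : conjIdx g (⟨Q, f⟩ : BrauerPairIdx G) = ⟨Q, f⟩) :
    g ∈ Subgroup.normalizer (Q : Set G) ∧
      StabilizesBlock (Subgroup.centralizer (Q : Set G)) f g := by
  classical
  haveI : Fintype (Subgroup.centralizer (Q : Set G)) := Fintype.ofFinite _
  haveI : Fintype (Subgroup.centralizer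
    ((Q.map (MulAut.conj g).toMonoidHom : Subgroup G) : Set G)) := Fintype.ofFinite _
  have hfst : Q.map (MulAut.conj g).toMonoidHom = Q := congrArg Sigma.fst h
  have hgN : g ∈ Subgroup.normalizer (Q : Set G) := by
    rw [Subgroup.mem_normalizer_iff]
    intro q
    constructor
    · intro hq
      rw [← hfst]
      exact ⟨q, hq, rfl⟩
    · intro hq
      rw [← hfst, mem_map_conj_iff] at hq
      have e : g⁻¹ * (g * q * g⁻¹) * g = q := by group
      rwa [e] at hq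
  refine ⟨hgN, normalizer_le_normalizer_centralizer Q hgN, ?_⟩
  intro χ hχ
  have h' : (⟨Q.map (MulAut.conj g).toMonoidHom, conjBlock Q g f⟩ : BrauerPairIdx G) = ⟨Q, f⟩ := h
  have hmem : irrCongr (centConj Q g) χ ∈ conjBlock Q g f := by
    rw [conjBlock_eq_image]
    exact ⟨χ, hχ, rfl⟩
  obtain ⟨χ', hχ', hc⟩ := exists_mem_of_sigma_eq _ _ _ _ h' _ hmem
  refine ⟨χ', hχ', ?_⟩
  intro k k' hkk'
  have hk'mem : (k' : G) ∈ Subgroup.centralizer
      ((Q.map (MulAut.conj g).toMonoidHom : Subgroup G) : Set G) := by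
    rw [hfst]
    exact k'.2
  rw [hc ⟨(k' : G), hk'mem⟩ k' rfl, irrCongr_apply]
  apply congrArg
  apply Subtype.ext
  rw [centConj_coe]
  show g⁻¹ * (k' : G) * g = k
  rw [hkk']
  group

/-- A stabilized pair is fixed by conjugation. -/
theorem conjIdx_eq_of_stabilizesBlock [hMp : M.IsPrime] (Q : Subgroup G)
    (f : Set (IrrCharacter (Subgroup.centralizer (Q : Set G)))) (hf : IsPBlock M f) (g : G)
    (hgN : g ∈ Subgroup.normalizer (Q : Set G))
    (hst : StabilizesBlock (Subgroup.centralizer (Q : Set G)) f g) :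
    conjIdx g (⟨Q, f⟩ : BrauerPairIdx G) = ⟨Q, f⟩ := by
  classical
  haveI : Fintype (Subgroup.centralizer (Q : Set G)) := Fintype.ofFinite _
  haveI : Fintype (Subgroup.centralizer
    ((Q.map (MulAut.conj g).toMonoidHom : Subgroup G) : Set G)) := Fintype.ofFinite _
  have hMtop : M ≠ ⊤ := hMp.ne_top
  have hfst : (conjIdx g (⟨Q, f⟩ : BrauerPairIdx G)).1 = Q :=
    map_conj_eq_of_mem_normalizer Q g hgN
  obtain ⟨f₃, hf₃⟩ := exists_snd_of_fst_eq _ Q hfst
  rw [hf₃]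
  have hf₃b : IsPBlock M f₃ := by
    have h1 : IsPBlock M (conjIdx g (⟨Q, f⟩ : BrauerPairIdx G)).2 := isPBlock_conjBlock Q g f hf
    rw [hf₃] at h1
    exact h1
  obtain ⟨χ, hχ⟩ : ∃ χ, χ ∈ f := by
    obtain ⟨χ, hχ⟩ := id hf
    exact ⟨χ, by rw [hχ]; exact sameBlock_refl hMtop _⟩
  obtain ⟨χ', hχ', hconj⟩ := hst.2 χ hχ
  have hf₃' : (⟨Q.map (MulAut.conj g).toMonoidHom, conjBlock Q g f⟩ : BrauerPairIdx G)
      = ⟨Q, f₃⟩ := hf₃
  have hmem : χ' ∈ f₃ := by
    apply mem_of_sigma_eq _ _ _ _ hf₃' (irrCongr (centConj Q g) χ) χ'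
    · rw [conjBlock_eq_image]
      exact ⟨χ, hχ, rfl⟩
    · intro c c' hcc'
      rw [irrCongr_apply]
      apply hconj
      rw [centConj_coe, hcc']
      group
  have : f₃ = f := isPBlock_eq_of_mem hf₃b hf χ' hmem hχ'
  rw [this]

open Classical in
/-- Below `(P, e)`: the pair on a subgroup `R'` of `P` normalizing `Q` lies normally above
`(Q, f)`. -/
theorem exists_normalSubpair_above {p : ℕ} [hp : Fact p.Prime] (hM : IsPModular p M)
    (P Q : Subgroup G) (e : Set (IrrCharacter (Subgroup.centralizer (P : Set G))))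
    (f : Set (IrrCharacter (Subgroup.centralizer (Q : Set G))))
    (hPe : IsBrauerPair p M P e) (hle : SubpairLE p M Q f P e)
    (R' : Subgroup G) (hQR' : Q ≤ R') (hR'P : R' ≤ P)
    (hR'N : R' ≤ Subgroup.normalizer (Q : Set G)) :
    ∃ g : Set (IrrCharacter (Subgroup.centralizer (R' : Set G))),
      IsNormalSubpair p M Q f R' g ∧ SubpairLE p M R' g P e := by
  obtain ⟨g, hg, hleR⟩ := exists_subpair hM P e hPe _ R' hR'P rfl
  have hRg : IsBrauerPair p M R' g := ⟨hPe.1.to_le hR'P, hg⟩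
  obtain ⟨f₂, hf₂, -⟩ := Cfsg.Agent.S4656.result p M hM R' Q g hRg hQR' hR'N
  have hf₂' : NormalSubpairRel p M (⟨Q, f₂⟩ : BrauerPairIdx G) ⟨R', g⟩ := hf₂
  have hle₂ : Relation.ReflTransGen (NormalSubpairRel p M) (⟨Q, f₂⟩ : BrauerPairIdx G) ⟨P, e⟩ :=
    Relation.ReflTransGen.head hf₂' hleR
  have heq := subpair_unique hM _ ⟨P, e⟩ rfl ⟨Q, f₂⟩ ⟨Q, f⟩ hle₂ hle rfl
  have hff : f₂ = f := eq_of_heq (Sigma.mk.inj_iff.mp heq).2
  rw [hff] at hf₂
  exact ⟨g, hf₂, hleR⟩

theorem image_irrCongr_symm_image {H H' : Type*} [Group H] [Group H'] [Fintype H] [Fintype H']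
    (ι : H' ≃* H) (S : Set (IrrCharacter H)) :
    irrCongr ι.symm '' (irrCongr ι '' S) = S := by
  rw [Set.image_image]
  have : ∀ ξ, irrCongr ι.symm (irrCongr ι ξ) = ξ := by
    intro ξ
    apply Subtype.ext
    funext c
    rw [irrCongr_apply, irrCongr_apply, MulEquiv.apply_symm_apply]
  simp only [this, Set.image_id']

theorem image_irrCongr_image_symm {H H' : Type*} [Group H] [Group H'] [Fintype H] [Fintype H']
    (ι : H' ≃* H) (S : Set (IrrCharacter H')) :
    irrCongr ι '' (irrCongr ι.symm '' S) = S := by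
  rw [Set.image_image]
  have : ∀ ξ, irrCongr ι (irrCongr ι.symm ξ) = ξ := by
    intro ξ
    apply Subtype.ext
    funext c
    rw [irrCongr_apply, irrCongr_apply, MulEquiv.symm_apply_apply]
  simp only [this, Set.image_id']

end Cfsg.Agent.Lib.helper3.Block
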