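import Mathlib
import Cfsg.Agent.Lib.helper3.SP14

/-!
# Pairs of the stabilizer: descent from `G`, and the chain above `N_P(Q)`
-/

set_option autoImplicit false
set_option linter.style.haveILetI false
set_option linter.unusedSectionVars false

namespace Cfsg.Agent.Lib.helper3.Block

open Cfsg Module Cfsg.Agent.Lib.helper3.CharBasic Cfsg.Agent.Lib.helper3.Irr
open Cfsg.Agent.Lib.helper3.Central Cfsg.Agent.Lib.helper3.LocalM Cfsg.Agent.Lib.helper3.IndFun
open Cfsg.Agent.Lib.helper3.Lin
open scoped ComplexConjugate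

universe u

variable {G : Type u} [Group G] [Fintype G] {M : Ideal AlgInt}

/-- The descent to `T` of a Brauer pair of `G` on a subgroup `D'` of `T`. -/
noncomputable def downT (T : Subgroup G) (D' : Subgroup ↥T)
    (hX : Subgroup.centralizer ((D'.map T.subtype : Subgroup G) : Set G) ≤ T)
    (g : Set (IrrCharacter ↥(Subgroup.centralizer ((D'.map T.subtype : Subgroup G) : Set G)))) :
    BrauerPairIdx ↥T :=
  ⟨D', @irrCongr _ _ _ _ (Fintype.ofFinite _) (Fintype.ofFinite _) (cSubEquiv T D' hX) '' g⟩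

theorem downT_fst (T : Subgroup G) (D' : Subgroup ↥T)
    (hX : Subgroup.centralizer ((D'.map T.subtype : Subgroup G) : Set G) ≤ T)
    (g : Set (IrrCharacter ↥(Subgroup.centralizer ((D'.map T.subtype : Subgroup G) : Set G)))) :
    (downT T D' hX g).1 = D' := rfl

theorem upT_downT (T : Subgroup G) (D' : Subgroup ↥T)
    (hX : Subgroup.centralizer ((D'.map T.subtype : Subgroup G) : Set G) ≤ T)
    (g : Set (IrrCharacter ↥(Subgroup.centralizer ((D'.map T.subtype : Subgroup G) : Set G)))) :
    upT T (downT T D' hX g) = ⟨D'.map T.subtype, g⟩ := by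
  unfold downT
  rw [upT_eq T D' _ hX]
  congr 1
  exact @image_irrCongr_symm_image _ _ _ _ (Fintype.ofFinite _) (Fintype.ofFinite _)
    (cSubEquiv T D' hX) g

theorem isBrauerPairOf_downT {p : ℕ} (Q : Subgroup G)
    (f : Set (IrrCharacter (Subgroup.centralizer (Q : Set G))))
    (T : Subgroup G) (D' : Subgroup ↥T)
    (hX : Subgroup.centralizer ((D'.map T.subtype : Subgroup G) : Set G) ≤ T)
    (F : Set (IrrCharacter T)) (hF : IsPBlock M F)
    (hFf : ∀ t : T, blockCoeff F t
      = subgroupBlockCoeff (Subgroup.centralizer (Q : Set G)) f (t : G))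
    (h : Set (IrrCharacter ↥(Subgroup.centralizer ((D'.map T.subtype : Subgroup G) : Set G))))
    (hn : IsNormalSubpair p M Q f (D'.map T.subtype) h) :
    IsBrauerPairOf p M F (downT T D' hX h).1 (downT T D' hX h).2 :=
  @isBrauerPairOf_stabilizer_of_isNormalSubpair _ _ _ _ _ Q f T D' hX (Fintype.ofFinite _)
    (Fintype.ofFinite _) F hF hFf h hn

open Classical in
/-- Below a Brauer pair `(P, e)`: the chain in the stabilizer from `N_P(Q)` to a maximal pair. -/
theorem exists_maximal_chain_normalizerIn {p : ℕ} [hp : Fact p.Prime] (hM : IsPModular p M)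
    (P Q : Subgroup G) (e : Set (IrrCharacter (Subgroup.centralizer (P : Set G))))
    (f : Set (IrrCharacter (Subgroup.centralizer (Q : Set G))))
    (hPe : IsBrauerPair p M P e) (hQP : Q ≤ P)
    (hle : SubpairLE p M Q f P e) (T : Subgroup G)
    (hT : ∀ y : G, y ∈ T ↔ y ∈ Subgroup.normalizer (Q : Set G) ∧
      StabilizesBlock (Subgroup.centralizer (Q : Set G)) f y)
    (F : Set (IrrCharacter T)) (hF : IsPBlock M F)
    (hFf : ∀ t : T, blockCoeff F t
      = subgroupBlockCoeff (Subgroup.centralizer (Q : Set G)) f (t : G)) :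
    ∃ (D' : Subgroup ↥T)
      (hX : Subgroup.centralizer ((D'.map T.subtype : Subgroup G) : Set G) ≤ T)
      (g : Set (IrrCharacter ↥(Subgroup.centralizer ((D'.map T.subtype : Subgroup G) : Set G))))
      (b : BrauerPairIdx ↥T),
      D'.map T.subtype = P ⊓ Subgroup.normalizer (Q : Set G) ∧
      IsNormalSubpair p M Q f (D'.map T.subtype) g ∧
      SubpairLE p M (D'.map T.subtype) g P e ∧
      IsMaximalBrauerPair p M F b.1 b.2 ∧
      Relation.ReflTransGen (NormalSubpairRel p M) (downT T D' hX g) b := by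
  haveI : Fintype ↥T := Fintype.ofFinite _
  haveI : Fintype ↥(Subgroup.centralizer (Q : Set G)) := Fintype.ofFinite _
  haveI hMp := isPrime_of_isPModular hM
  have hCT : Subgroup.centralizer (Q : Set G) ≤ T := by
    intro c hc
    rw [hT]
    exact ⟨Subgroup.centralizer_le_normalizer _ hc, stabilizesBlock_of_mem_self _ f c hc⟩
  have hQR : Q ≤ P ⊓ Subgroup.normalizer (Q : Set G) := le_inf hQP Subgroup.le_normalizer
  obtain ⟨g₀, hn₀, -⟩ := exists_normalSubpair_above hM P Q e f hPe hle _ hQR inf_le_left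
    inf_le_right
  have hRT : P ⊓ Subgroup.normalizer (Q : Set G) ≤ T :=
    fun y hy => (hT y).mpr ⟨hn₀.2.2.2.1 hy, hn₀.2.2.2.2.1 y hy⟩
  obtain ⟨D', hD'⟩ : ∃ D' : Subgroup ↥T,
      D' = (P ⊓ Subgroup.normalizer (Q : Set G)).subgroupOf T := ⟨_, rfl⟩
  have hDmap : D'.map T.subtype = P ⊓ Subgroup.normalizer (Q : Set G) := by
    rw [hD']
    exact Subgroup.map_subgroupOf_eq_of_le hRT
  have hQD : Q ≤ D'.map T.subtype := by
    rw [hDmap]
    exact hQR
  have hX : Subgroup.centralizer ((D'.map T.subtype : Subgroup G) : Set G) ≤ T :=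
    (Subgroup.centralizer_le (by exact_mod_cast hQD)).trans hCT
  obtain ⟨g, hn, hleD⟩ := exists_normalSubpair_above hM P Q e f hPe hle (D'.map T.subtype) hQD
    (by rw [hDmap]; exact inf_le_left) (by rw [hDmap]; exact inf_le_right)
  have hpair := isBrauerPairOf_downT Q f T D' hX F hF hFf g hn
  obtain ⟨b, hb, hleb⟩ := exists_maximal_above (M := M) (p := p) F _
    (downT T D' hX g) rfl hpair
  exact ⟨D', hX, g, b, hDmap, hn, hleD, hb, hleb⟩

end Cfsg.Agent.Lib.helper3.Block
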