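import Mathlib
import Cfsg.Agent.Lib.helper3.SP15

/-!
# Nilpotent blocks: the structure of the stabilizer of a pair below the maximal pair
-/

set_option autoImplicit false
set_option linter.style.haveILetI false
set_option linter.unusedSectionVars false

namespace Cfsg.Agent.Lib.helper3.Block

open Cfsg Module Cfsg.Agent.Lib.helper3.CharBasic Cfsg.Agent.Lib.helper3.Irr
open Cfsg.Agent.Lib.helper3.Central Cfsg.Agent.Lib.helper3.LocalM Cfsg.Agent.Lib.helper3.IndFun
open Cfsg.Agent.Lib.helper3.Lin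
open scoped ComplexConjugate Pointwise

universe u

variable {G : Type u} [Group G] [Fintype G] {M : Ideal AlgInt}

theorem isBrauerPair_of_reflTransGen {p : ℕ} {a b : BrauerPairIdx G}
    (h : Relation.ReflTransGen (NormalSubpairRel p M) a b) (ha : IsBrauerPair p M a.1 a.2) :
    IsBrauerPair p M b.1 b.2 := by
  cases h with
  | refl => exact ha
  | tail _ hcb => exact hcb.2.1

set_option maxHeartbeats 800000 in
open Classical in
theorem nilpotent_step_one {p : ℕ} [hp : Fact p.Prime] (hM : IsPModular p M)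
    (B : Set (IrrCharacter G)) (P Q : Subgroup G)
    (e : Set (IrrCharacter (Subgroup.centralizer (P : Set G))))
    (f : Set (IrrCharacter (Subgroup.centralizer (Q : Set G))))
    (hmax : IsMaximalBrauerPair p M B P e) (hnil : IsNilpotentBlock p M B)
    (hQP : Q ≤ P) (hQne : Q ≠ P) (hf : IsPBlock M f) (hle : SubpairLE p M Q f P e)
    (IH : ∀ (R : Subgroup G) (gR : Set (IrrCharacter (Subgroup.centralizer (R : Set G)))),
      Nat.card Q < Nat.card R → R ≤ P → IsPBlock M gR → SubpairLE p M R gR P e →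
      ∀ y : G, SubpairLE p M (R.map (MulAut.conj y).toMonoidHom) (conjBlock R y gR) P e →
      ∃ v ∈ P, ∀ n ∈ R, y * n * y⁻¹ = v * n * v⁻¹)
    (T : Subgroup G)
    (hT : ∀ y : G, y ∈ T ↔ y ∈ Subgroup.normalizer (Q : Set G) ∧
      StabilizesBlock (Subgroup.centralizer (Q : Set G)) f y)
    (F : Set (IrrCharacter T)) (hF : IsPBlock M F)
    (hFf : ∀ t : T, blockCoeff F t
      = subgroupBlockCoeff (Subgroup.centralizer (Q : Set G)) f (t : G)) :
    ∃ b : BrauerPairIdx ↥T, IsMaximalBrauerPair p M F b.1 b.2 ∧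
      Subgroup.centralizer ((b.1.map T.subtype : Subgroup G) : Set G) ≤ T ∧
      Relation.ReflTransGen (NormalSubpairRel p M) (upT T b) ⟨P, e⟩ ∧
      ∀ t ∈ T, ∃ c ∈ Subgroup.centralizer (Q : Set G),
        ∃ d ∈ P ⊓ Subgroup.normalizer (Q : Set G), t = c * d := by
  haveI : Fintype ↥T := Fintype.ofFinite _
  haveI : Fintype ↥(Subgroup.centralizer (Q : Set G)) := Fintype.ofFinite _
  haveI hMp := isPrime_of_isPModular hM
  obtain ⟨hBe, -⟩ := id hmax
  obtain ⟨hPe, hB, -⟩ := id hBe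
  have hQp : IsPGroup p Q := hPe.1.to_le hQP
  have hQfB : IsBrauerPairOf p M B Q f :=
    (Cfsg.Agent.S4658.result p M hM P Q e f hPe ⟨hQp, hf⟩ hle B hB).mp hBe
  have hCT : Subgroup.centralizer (Q : Set G) ≤ T := by
    intro c hc
    rw [hT]
    exact ⟨Subgroup.centralizer_le_normalizer _ hc, stabilizesBlock_of_mem_self _ f c hc⟩
  obtain ⟨D', hX, g, b, hDmap, hn, hleD, hb, hchain⟩ :=
    exists_maximal_chain_normalizerIn hM P Q e f hPe hQP hle T hT F hF hFf
  have hD'b : D' ≤ b.1 := fst_le_of_reflTransGen' hchain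
  have hXb : Subgroup.centralizer ((b.1.map T.subtype : Subgroup G) : Set G) ≤ T :=
    (Subgroup.centralizer_le (by exact_mod_cast (Subgroup.map_mono hD'b))).trans hX
  have hG := reflTransGen_upT (M := M) (p := p) T (downT T D' hX g) b hX hchain
  rw [upT_downT] at hG
  obtain ⟨ub, hub⟩ : ∃ ub : BrauerPairIdx G, ub = upT T b := ⟨_, rfl⟩
  rw [← hub] at hG
  have hubfst : ub.1 = b.1.map T.subtype := by
    rw [hub]
    exact upT_fst T b
  have hNle : D'.map T.subtype ≤ ub.1 := fst_le_of_reflTransGen hG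
  have hnrel : NormalSubpairRel p M (⟨Q, f⟩ : BrauerPairIdx G) ⟨D'.map T.subtype, g⟩ := hn
  have hQub : Relation.ReflTransGen (NormalSubpairRel p M) (⟨Q, f⟩ : BrauerPairIdx G) ub :=
    Relation.ReflTransGen.head hnrel hG
  have hubpair : IsBrauerPair p M ub.1 ub.2 := isBrauerPair_of_reflTransGen hG hn.2.1
  have hubB : IsBrauerPairOf p M B ub.1 ub.2 :=
    (Cfsg.Agent.S4658.result p M hM ub.1 Q ub.2 f hubpair ⟨hQp, hf⟩ hQub B hB).mpr hQfB
  obtain ⟨y, hy⟩ := Cfsg.Agent.S4660.result p M hM B P ub.1 e ub.2 hmax hubB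
  have hy' : Relation.ReflTransGen (NormalSubpairRel p M) (conjIdx y ub) ⟨P, e⟩ := hy
  have hNy : Relation.ReflTransGen (NormalSubpairRel p M)
      (conjIdx y (⟨D'.map T.subtype, g⟩ : BrauerPairIdx G)) ⟨P, e⟩ :=
    (reflTransGen_conjIdx y hG).trans hy'
  -- the normalizer grows
  have hcardlt : Nat.card Q < Nat.card (D'.map T.subtype) := by
    obtain ⟨x, hxP, hxN, hxQ⟩ := exists_normalizing_of_lt P Q hPe.1 (lt_of_le_of_ne hQP hQne)
    have hQR : Q ≤ D'.map T.subtype := by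
      rw [hDmap]
      exact le_inf hQP Subgroup.le_normalizer
    have hxR : x ∈ D'.map T.subtype := by
      rw [hDmap]
      exact ⟨hxP, hxN⟩
    exact card_lt_of_lt (lt_of_le_of_ne hQR (fun h => hxQ (h ▸ hxR)))
  have hRP : D'.map T.subtype ≤ P := by
    rw [hDmap]
    exact inf_le_left
  obtain ⟨v, hvP, hv⟩ := IH (D'.map T.subtype) g hcardlt hRP hn.2.1.2 hleD y hNy
  obtain ⟨c₀, hc₀def⟩ : ∃ c₀ : G, c₀ = v⁻¹ * y := ⟨_, rfl⟩
  have hc₀ : ∀ n ∈ D'.map T.subtype, c₀ * n * c₀⁻¹ = n := by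
    intro n hn'
    rw [hc₀def]
    calc v⁻¹ * y * n * (v⁻¹ * y)⁻¹ = v⁻¹ * (y * n * y⁻¹) * v := by group
      _ = v⁻¹ * (v * n * v⁻¹) * v := by rw [hv n hn']
      _ = n := by group
  have hQR : Q ≤ D'.map T.subtype := by
    rw [hDmap]
    exact le_inf hQP Subgroup.le_normalizer
  have hc₀Q : c₀ ∈ Subgroup.centralizer (Q : Set G) := by
    rw [Subgroup.mem_centralizer_iff]
    intro q hq
    have := hc₀ q (hQR hq)
    calc q * c₀ = (c₀ * q * c₀⁻¹) * c₀ := by rw [this]
      _ = c₀ * q := by group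
  have hubyP : ub.1.map (MulAut.conj y).toMonoidHom ≤ P := fst_le_of_reflTransGen hy'
  have hubT : ub.1 ≤ T := by
    rw [hubfst]
    rintro _ ⟨d, -, rfl⟩
    exact d.2
  have hub_le : ub.1.map (MulAut.conj c₀).toMonoidHom
      ≤ P ⊓ Subgroup.normalizer (Q : Set G) := by
    rintro _ ⟨d, hd, rfl⟩
    constructor
    · have h1 : y * d * y⁻¹ ∈ P := hubyP ⟨d, hd, rfl⟩
      have h2 := P.mul_mem (P.mul_mem (P.inv_mem hvP) h1) hvP
      show c₀ * d * c₀⁻¹ ∈ P
      rw [hc₀def]
      have e1 : v⁻¹ * y * d * (v⁻¹ * y)⁻¹ = v⁻¹ * (y * d * y⁻¹) * v := by group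
      rw [e1]
      exact h2
    · have h1 : d ∈ Subgroup.normalizer (Q : Set G) := ((hT d).mp (hubT hd)).1
      have h2 : c₀ ∈ Subgroup.normalizer (Q : Set G) :=
        Subgroup.centralizer_le_normalizer _ hc₀Q
      exact Subgroup.mul_mem _ (Subgroup.mul_mem _ h2 h1) (Subgroup.inv_mem _ h2)
  have hcard1 : Nat.card (ub.1.map (MulAut.conj c₀).toMonoidHom) = Nat.card ub.1 :=
    Subgroup.card_map_of_injective (MulAut.conj c₀).injective
  have hcard2 := Subgroup.card_le_of_le hub_le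
  have hReq : D'.map T.subtype = ub.1 := by
    apply Subgroup.eq_of_le_of_card_ge hNle
    rw [← hcard1, hDmap]
    exact hcard2
  have hubeq : (⟨D'.map T.subtype, g⟩ : BrauerPairIdx G) = ub :=
    eq_of_reflTransGen_of_fst_eq hM hG hReq
  refine ⟨b, hb, hXb, ?_, ?_⟩
  · rw [← hub, ← hubeq]
    exact hleD
  -- the factorization of the stabilizer
  have hTNC : T ≤ Subgroup.normalizer
      ((Subgroup.centralizer (Q : Set G) : Subgroup G) : Set G) :=
    fun t ht => ((hT t).mp ht).2.1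
  haveI hNn : ((Subgroup.centralizer (Q : Set G)).subgroupOf T).Normal :=
    Subgroup.normal_subgroupOf_of_le_normalizer hTNC
  haveI : Fintype ↥((Subgroup.centralizer (Q : Set G)).subgroupOf T) := Fintype.ofFinite _
  have hquot : IsPGroup p (↥T ⧸ (Subgroup.centralizer (Q : Set G)).subgroupOf T) := by
    intro xbar
    induction xbar using QuotientGroup.induction_on with
    | H t =>
      obtain ⟨a, b', hab, ⟨k, hk⟩, hb'⟩ := exists_zpow_decomp p hp.out t
      have htb : ((t ^ b' : ↥T) : G) ∈ T := (t ^ b').2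
      obtain ⟨h1, h2⟩ := (hT _).mp htb
      have hreg : IsPRegular p ((t ^ b' : ↥T) : G) := by
        unfold IsPRegular
        rw [Subgroup.orderOf_coe]
        exact hb'
      have hcen := hnil.2 Q f hQfB _ h1 h2 hreg
      have hmemN : t ^ b' ∈ (Subgroup.centralizer (Q : Set G)).subgroupOf T :=
        Subgroup.mem_subgroupOf.mpr hcen
      refine ⟨k, ?_⟩
      have h3 : ((t : ↥T) : ↥T ⧸ (Subgroup.centralizer (Q : Set G)).subgroupOf T)
          = ((t ^ a : ↥T) : ↥T ⧸ (Subgroup.centralizer (Q : Set G)).subgroupOf T) := by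
        rw [QuotientGroup.eq]
        have : t⁻¹ * t ^ a = (t ^ b')⁻¹ := by
          have h4 : t = t ^ a * t ^ b' := hab.symm
          calc t⁻¹ * t ^ a = (t ^ a * t ^ b')⁻¹ * t ^ a := by rw [← h4]
            _ = (t ^ b')⁻¹ := by group
        rw [this]
        exact Subgroup.inv_mem _ hmemN
      rw [h3, ← QuotientGroup.mk_pow, ← hk, pow_orderOf_eq_one]
      rfl
  have hNidx : ∃ k : ℕ, ((Subgroup.centralizer (Q : Set G)).subgroupOf T).index = p ^ k := by
    obtain ⟨n, hn'⟩ := IsPGroup.iff_card.mp hquot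
    exact ⟨n, by rw [Subgroup.index_eq_card]; exact hn'⟩
  have hc_T : IsPBlock M (irrCongr (Subgroup.subgroupOfEquivOfLe hCT) '' f) :=
    isPBlock_image_irrCongr _ f hf
  have hst_T : ∀ x : ↥T, StabilizesBlock ((Subgroup.centralizer (Q : Set G)).subgroupOf T)
      (irrCongr (Subgroup.subgroupOfEquivOfLe hCT) '' f) x :=
    fun x => stabilizesBlock_subgroupOf _ T hCT f x ((hT x).mp x.2).2
  have hFc : ∀ t : ↥T, blockCoeff F t
      = subgroupBlockCoeff ((Subgroup.centralizer (Q : Set G)).subgroupOf T)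
        (irrCongr (Subgroup.subgroupOfEquivOfLe hCT) '' f) t := by
    intro t
    rw [hFf, subgroupBlockCoeff_subgroupOf]
  have hDb : IsDefectGroup p M F b.1 := Cfsg.Agent.S4659.result p M hM F b.1 b.2 hb
  have hsup := ((Cfsg.Agent.S4672.result p M hM
    ((Subgroup.centralizer (Q : Set G)).subgroupOf T) hNidx _ hc_T hst_T).2 F hF hFc b.1 hDb).1
  intro t ht
  have htmem : (⟨t, ht⟩ : ↥T) ∈ (Subgroup.centralizer (Q : Set G)).subgroupOf T ⊔ b.1 := by
    rw [hsup]
    exact Subgroup.mem_top _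
  rw [← SetLike.mem_coe, Subgroup.normal_mul, Set.mem_mul] at htmem
  obtain ⟨n, hn', d, hd, hnd⟩ := htmem
  refine ⟨(n : G), Subgroup.mem_subgroupOf.mp hn', (d : G), ?_, ?_⟩
  · rw [← hDmap, hReq, hubfst]
    exact ⟨d, hd, rfl⟩
  · have := congrArg Subtype.val hnd
    exact this.symm

end Cfsg.Agent.Lib.helper3.Block
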