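import Mathlib
import Cfsg.Agent.Lib.helper3.SP16

/-!
# Nilpotent blocks: fusion of Brauer pairs below a maximal pair is induced by the defect group
-/

set_option autoImplicit false
set_option linter.style.haveILetI false
set_option linter.unusedSectionVars false

namespace Cfsg.Agent.Lib.helper3.Block

open Cfsg Module Cfsg.Agent.Lib.helper3.CharBasic Cfsg.Agent.Lib.helper3.Irr
open Cfsg.Agent.Lib.helper3.Central Cfsg.Agent.Lib.helper3.LocalM Cfsg.Agent.Lib.helper3.IndFun
open Cfsg.Agent.Lib.helper3.Lin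
open scoped ComplexConjugate Pointwise

universe u

variable {G : Type u} [Group G] [Fintype G] {M : Ideal AlgInt}

open Classical in
/-- In a nilpotent block, the stabilizer of the maximal pair is `P C_G(P)`. -/
theorem mem_sup_centralizer_of_nilpotent {p : ℕ} [hp : Fact p.Prime] (hM : IsPModular p M)
    (B : Set (IrrCharacter G)) (P : Subgroup G)
    (e : Set (IrrCharacter (Subgroup.centralizer (P : Set G))))
    (hmax : IsMaximalBrauerPair p M B P e) (hnil : IsNilpotentBlock p M B) (g : G)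
    (hgN : g ∈ Subgroup.normalizer (P : Set G))
    (hgst : StabilizesBlock (Subgroup.centralizer (P : Set G)) e g) :
    g ∈ P ⊔ Subgroup.centralizer (P : Set G) := by
  haveI : Fintype ↥(Subgroup.centralizer (P : Set G)) := Fintype.ofFinite _
  haveI hMp := isPrime_of_isPModular hM
  obtain ⟨hBe, -⟩ := id hmax
  obtain ⟨hPe, hB, -⟩ := id hBe
  obtain ⟨T₁, hT₁⟩ := exists_stabilizer_subgroup (Subgroup.centralizer (P : Set G)) e hPe.2
  obtain ⟨a, b', hab, hk, hb'⟩ := exists_zpow_decomp p hp.out g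
  have hgT : g ∈ Subgroup.normalizer (P : Set G) ⊓ T₁ := ⟨hgN, (hT₁ g).mpr hgst⟩
  have haT : g ^ a ∈ Subgroup.normalizer (P : Set G) ⊓ T₁ := Subgroup.zpow_mem _ hgT a
  have hbT : g ^ b' ∈ Subgroup.normalizer (P : Set G) ⊓ T₁ := Subgroup.zpow_mem _ hgT b'
  have h1 : g ^ b' ∈ Subgroup.centralizer (P : Set G) :=
    hnil.2 P e hBe _ hbT.1 ((hT₁ _).mp hbT.2) hb'
  have h2 : g ^ a ∈ P ⊔ Subgroup.centralizer (P : Set G) :=
    mem_sup_of_maxCond hM P e hPe (maxCond_of_isMaximalBrauerPair hM B P e hmax) _ haT.1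
      ((hT₁ _).mp haT.2) hk
  rw [← hab]
  exact Subgroup.mul_mem _ h2 (le_sup_right (a := P) h1)

set_option maxHeartbeats 800000 in
open Classical in
/-- In a nilpotent block, an element carrying a pair below `(P, e)` to a pair below `(P, e)` acts
on the subgroup as an element of `P`. -/
theorem exists_conj_of_nilpotent {p : ℕ} [hp : Fact p.Prime] (hM : IsPModular p M)
    (B : Set (IrrCharacter G)) (P : Subgroup G)
    (e : Set (IrrCharacter (Subgroup.centralizer (P : Set G))))
    (hmax : IsMaximalBrauerPair p M B P e) (hnil : IsNilpotentBlock p M B) :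
    ∀ (k : ℕ) (Q : Subgroup G) (f : Set (IrrCharacter (Subgroup.centralizer (Q : Set G)))),
      Nat.card P - Nat.card Q = k → Q ≤ P → IsPBlock M f → SubpairLE p M Q f P e →
      ∀ g : G, SubpairLE p M (Q.map (MulAut.conj g).toMonoidHom) (conjBlock Q g f) P e →
      ∃ v ∈ P, ∀ q ∈ Q, g * q * g⁻¹ = v * q * v⁻¹ := by
  haveI hMp := isPrime_of_isPModular hM
  obtain ⟨hBe, -⟩ := id hmax
  obtain ⟨hPe, hB, -⟩ := id hBe
  intro k
  induction k using Nat.strong_induction_on with
  | _ k ih =>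
    intro Q f hk hQP hf hle g hleg
    haveI : Fintype ↥(Subgroup.centralizer (Q : Set G)) := Fintype.ofFinite _
    have hQp : IsPGroup p Q := hPe.1.to_le hQP
    have hleg' : Relation.ReflTransGen (NormalSubpairRel p M)
        (conjIdx g (⟨Q, f⟩ : BrauerPairIdx G)) ⟨P, e⟩ := hleg
    by_cases hQeq : Q = P
    · -- the maximal pair itself
      have hfe : (⟨Q, f⟩ : BrauerPairIdx G) = ⟨P, e⟩ := eq_of_reflTransGen_of_fst_eq hM hle hQeq
      rw [hfe] at hleg'
      have hle1 : P.map (MulAut.conj g).toMonoidHom ≤ P := fst_le_of_reflTransGen hleg'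
      have hPg : P.map (MulAut.conj g).toMonoidHom = P := by
        apply Subgroup.eq_of_le_of_card_ge hle1
        rw [Subgroup.card_map_of_injective (MulAut.conj g).injective]
      have hfix : conjIdx g (⟨P, e⟩ : BrauerPairIdx G) = ⟨P, e⟩ :=
        eq_of_reflTransGen_of_fst_eq hM hleg' hPg
      obtain ⟨hgN, hgst⟩ := stabilizesBlock_of_conjIdx_eq P e g hfix
      have hgsup := mem_sup_centralizer_of_nilpotent hM B P e hmax hnil g hgN hgst
      obtain ⟨u, c, huc⟩ := exists_mul_of_mem_sup_centralizer P g hgsup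
      refine ⟨(u : G), u.2, ?_⟩
      intro q hq
      have hc := (Subgroup.mem_centralizer_iff.mp c.2) q (hQeq ▸ hq)
      rw [huc]
      calc (u : G) * (c : G) * q * ((u : G) * (c : G))⁻¹
          = (u : G) * ((c : G) * q) * (c : G)⁻¹ * (u : G)⁻¹ := by group
        _ = (u : G) * (q * (c : G)) * (c : G)⁻¹ * (u : G)⁻¹ := by rw [hc]
        _ = (u : G) * q * (u : G)⁻¹ := by group
    · -- a proper subgroup
      obtain ⟨T₁, hT₁⟩ := exists_stabilizer_subgroup (Subgroup.centralizer (Q : Set G)) f hf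
      obtain ⟨T, hTdef⟩ : ∃ T : Subgroup G, T = Subgroup.normalizer (Q : Set G) ⊓ T₁ := ⟨_, rfl⟩
      have hT : ∀ y : G, y ∈ T ↔ y ∈ Subgroup.normalizer (Q : Set G) ∧
          StabilizesBlock (Subgroup.centralizer (Q : Set G)) f y := by
        intro y
        rw [hTdef, Subgroup.mem_inf, hT₁]
      haveI : Fintype ↥T := Fintype.ofFinite _
      have hCT : Subgroup.centralizer (Q : Set G) ≤ T := by
        intro c hc
        rw [hT]
        exact ⟨Subgroup.centralizer_le_normalizer _ hc, stabilizesBlock_of_mem_self _ f c hc⟩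
      obtain ⟨F, hF, hFf⟩ := exists_block_of_normalizer_stabilizer hM Q hQp f hf T hT
      have hcardQP : Nat.card Q < Nat.card P := card_lt_of_lt (lt_of_le_of_ne hQP hQeq)
      have IH : ∀ (R : Subgroup G) (gR : Set (IrrCharacter (Subgroup.centralizer (R : Set G)))),
          Nat.card Q < Nat.card R → R ≤ P → IsPBlock M gR → SubpairLE p M R gR P e →
          ∀ y : G, SubpairLE p M (R.map (MulAut.conj y).toMonoidHom) (conjBlock R y gR) P e →
          ∃ v ∈ P, ∀ n ∈ R, y * n * y⁻¹ = v * n * v⁻¹ := by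
        intro R gR hcard hRP hgR hleR y hley
        have h1 : Nat.card R ≤ Nat.card P := Subgroup.card_le_of_le hRP
        exact ih (Nat.card P - Nat.card R) (by omega) R gR rfl hRP hgR hleR y hley
      obtain ⟨b, hb, hXb, hble, hfact⟩ :=
        nilpotent_step_one hM B P Q e f hmax hnil hQP hQeq hf hle IH T hT F hF hFf
      -- the conjugate pair
      obtain ⟨Q₂, hQ₂⟩ : ∃ Q₂ : Subgroup G, Q₂ = Q.map (MulAut.conj g).toMonoidHom := ⟨_, rfl⟩
      have hQ₂P : Q.map (MulAut.conj g).toMonoidHom ≤ P := fst_le_of_reflTransGen hleg'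
      have hcardQ₂ : Nat.card (Q.map (MulAut.conj g).toMonoidHom) = Nat.card Q :=
        Subgroup.card_map_of_injective (MulAut.conj g).injective
      have hQ₂ne : Q.map (MulAut.conj g).toMonoidHom ≠ P := by
        intro h
        rw [h] at hcardQ₂
        omega
      obtain ⟨k₂, hn₂, hleN₂⟩ := exists_normalSubpair_above hM P
        (Q.map (MulAut.conj g).toMonoidHom) e (conjBlock Q g f) hPe hleg
        (P ⊓ Subgroup.normalizer ((Q.map (MulAut.conj g).toMonoidHom : Subgroup G) : Set G))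
        (le_inf hQ₂P Subgroup.le_normalizer) inf_le_left inf_le_right
      have hcardN₂ : Nat.card Q < Nat.card ↥(P ⊓ Subgroup.normalizer
          ((Q.map (MulAut.conj g).toMonoidHom : Subgroup G) : Set G)) := by
        obtain ⟨x, hxP, hxN, hxQ⟩ := exists_normalizing_of_lt P _ hPe.1
          (lt_of_le_of_ne hQ₂P hQ₂ne)
        have hlt : Q.map (MulAut.conj g).toMonoidHom < P ⊓ Subgroup.normalizer
            ((Q.map (MulAut.conj g).toMonoidHom : Subgroup G) : Set G) := by
          refine lt_of_le_of_ne (le_inf hQ₂P Subgroup.le_normalizer) (fun h => hxQ ?_)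
          rw [h]
          exact ⟨hxP, hxN⟩
        have := card_lt_of_lt hlt
        omega
      have hrel : NormalSubpairRel p M
          (conjIdx g⁻¹ (conjIdx g (⟨Q, f⟩ : BrauerPairIdx G)))
          (conjIdx g⁻¹ ⟨P ⊓ Subgroup.normalizer
            ((Q.map (MulAut.conj g).toMonoidHom : Subgroup G) : Set G), k₂⟩) :=
        normalSubpairRel_conjIdx g⁻¹ hn₂
      rw [conjIdx_mul, inv_mul_cancel, conjIdx_one] at hrel
      obtain ⟨aE, haE⟩ : ∃ aE : BrauerPairIdx G, aE = conjIdx g⁻¹ ⟨P ⊓ Subgroup.normalizer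
          ((Q.map (MulAut.conj g).toMonoidHom : Subgroup G) : Set G), k₂⟩ := ⟨_, rfl⟩
      rw [← haE] at hrel
      have hrel' : IsNormalSubpair p M Q f aE.1 aE.2 := hrel
      have hET : aE.1 ≤ T :=
        fun x hx => (hT x).mpr ⟨hrel'.2.2.2.1 hx, hrel'.2.2.2.2.1 x hx⟩
      obtain ⟨E', hE'⟩ : ∃ E' : Subgroup ↥T, E' = aE.1.subgroupOf T := ⟨_, rfl⟩
      have hEmap : E'.map T.subtype = aE.1 := by
        rw [hE']
        exact Subgroup.map_subgroupOf_eq_of_le hET
      obtain ⟨h_E, hh_E⟩ := exists_snd_of_fst_eq aE (E'.map T.subtype) hEmap.symm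
      have hnE : IsNormalSubpair p M Q f (E'.map T.subtype) h_E := by
        have h1 := hrel
        rw [hh_E] at h1
        exact h1
      have hXE : Subgroup.centralizer ((E'.map T.subtype : Subgroup G) : Set G) ≤ T :=
        (Subgroup.centralizer_le (by exact_mod_cast hnE.2.2.1)).trans hCT
      have hpairE := isBrauerPairOf_downT Q f T E' hXE F hF hFf h_E hnE
      obtain ⟨t', ht'⟩ := Cfsg.Agent.S4660.result p M hM F b.1 (downT T E' hXE h_E).1 b.2
        (downT T E' hXE h_E).2 hb hpairE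
      have ht'' : Relation.ReflTransGen (NormalSubpairRel p M)
          (conjIdx t' (downT T E' hXE h_E)) b := ht'
      have hXc : Subgroup.centralizer
          ((((conjIdx t' (downT T E' hXE h_E)).1).map T.subtype : Subgroup G) : Set G) ≤ T := by
        show Subgroup.centralizer
          (((E'.map (MulAut.conj t').toMonoidHom).map T.subtype : Subgroup G) : Set G) ≤ T
        rw [map_subtype_map_conj]
        exact centralizer_map_conj_le T t' t'.2 _ hXE
      have hGc := reflTransGen_upT (M := M) (p := p) T _ b hXc ht''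
      rw [upT_conjIdx T t' (downT T E' hXE h_E) hXE, upT_downT, ← hh_E, haE, conjIdx_mul] at hGc
      have hfin := hGc.trans hble
      obtain ⟨v, hvP, hv⟩ := IH _ k₂ hcardN₂ inf_le_left hn₂.2.1.2 hleN₂ ((t' : G) * g⁻¹) hfin
      obtain ⟨c, hc, d, hd, htcd⟩ := hfact (t' : G) t'.2
      refine ⟨v⁻¹ * d, P.mul_mem (P.inv_mem hvP) hd.1, ?_⟩
      intro q hq
      have hqQ₂ : g * q * g⁻¹ ∈ Q.map (MulAut.conj g).toMonoidHom := ⟨q, hq, rfl⟩
      have h1 := hv (g * q * g⁻¹) ⟨hQ₂P hqQ₂, Subgroup.le_normalizer hqQ₂⟩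
      have hdq : d * q * d⁻¹ ∈ Q := (Subgroup.mem_normalizer_iff.mp hd.2 q).mp hq
      have hcq := (Subgroup.mem_centralizer_iff.mp hc) _ hdq
      have h2 : (t' : G) * g⁻¹ * (g * q * g⁻¹) * ((t' : G) * g⁻¹)⁻¹ = d * q * d⁻¹ := by
        rw [htcd]
        calc c * d * g⁻¹ * (g * q * g⁻¹) * (c * d * g⁻¹)⁻¹
            = c * (d * q * d⁻¹) * c⁻¹ := by group
          _ = (d * q * d⁻¹ * c) * c⁻¹ := by rw [hcq]
          _ = d * q * d⁻¹ := by group
      rw [h2] at h1
      calc g * q * g⁻¹ = v⁻¹ * (v * (g * q * g⁻¹) * v⁻¹) * v := by group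
        _ = v⁻¹ * (d * q * d⁻¹) * v := by rw [← h1]
        _ = v⁻¹ * d * q * (v⁻¹ * d)⁻¹ := by group

end Cfsg.Agent.Lib.helper3.Block
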