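import Mathlib
import Cfsg.Agent.Lib.helper3.SP17

/-!
# Nilpotent blocks: a criterion through fusion below a maximal pair
-/

set_option autoImplicit false
set_option linter.style.haveILetI false
set_option linter.unusedSectionVars false

namespace Cfsg.Agent.Lib.helper3.Block

open Cfsg Module Cfsg.Agent.Lib.helper3.CharBasic Cfsg.Agent.Lib.helper3.Irr
open Cfsg.Agent.Lib.helper3.Central Cfsg.Agent.Lib.helper3.LocalM Cfsg.Agent.Lib.helper3.IndFun
open Cfsg.Agent.Lib.helper3.Lin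
open scoped ComplexConjugate Pointwise

universe u

variable {G : Type u} [Group G] [Fintype G] {M : Ideal AlgInt}

theorem isBrauerPair_of_reflTransGen_left {p : ℕ} {a b : BrauerPairIdx G}
    (h : Relation.ReflTransGen (NormalSubpairRel p M) a b) (hb : IsBrauerPair p M b.1 b.2) :
    IsBrauerPair p M a.1 a.2 := by
  rcases h.cases_head with rfl | ⟨c, hac, -⟩
  · exact hb
  · exact hac.1

theorem pow_mul_mem_of_normal (C N : Subgroup G)
    (hCN : ∀ n ∈ N, ∀ c ∈ C, n⁻¹ * c * n ∈ C) (u w : G) (hu : u ∈ N) (hw : w ∈ C) :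
    ∀ j : ℕ, ∃ c ∈ C, (u * w) ^ j = u ^ j * c := by
  intro j
  induction j with
  | zero => exact ⟨1, C.one_mem, by simp⟩
  | succ j ih =>
    obtain ⟨c, hc, hj⟩ := ih
    refine ⟨u⁻¹ * c * u * w, C.mul_mem (hCN u hu c hc) hw, ?_⟩
    rw [pow_succ, hj, pow_succ]
    group

/-- An element of `p'`-order normalizing `Q` which acts on `Q` as a `p`-element centralizes `Q`. -/
theorem mem_centralizer_of_conj_eq {p : ℕ} [hp : Fact p.Prime] (Q : Subgroup G) (x u : G)
    (hxN : x ∈ Subgroup.normalizer (Q : Set G)) (hx : ¬ p ∣ orderOf x)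
    (k : ℕ) (hu : u ^ (p ^ k) = 1)
    (h : ∀ q ∈ Q, x * q * x⁻¹ = u * q * u⁻¹) : x ∈ Subgroup.centralizer (Q : Set G) := by
  obtain ⟨w, hwdef⟩ : ∃ w : G, w = u⁻¹ * x := ⟨_, rfl⟩
  have hw : w ∈ Subgroup.centralizer (Q : Set G) := by
    rw [Subgroup.mem_centralizer_iff]
    intro q hq
    have h1 := h q hq
    rw [hwdef]
    calc q * (u⁻¹ * x) = u⁻¹ * (u * q * u⁻¹) * x := by group
      _ = u⁻¹ * (x * q * x⁻¹) * x := by rw [h1]
      _ = u⁻¹ * x * q := by group
  have hxuw : x = u * w := by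
    rw [hwdef]
    group
  have huN : u ∈ Subgroup.normalizer (Q : Set G) := by
    have : u = x * w⁻¹ := by
      rw [hwdef]
      group
    rw [this]
    exact Subgroup.mul_mem _ hxN
      (Subgroup.inv_mem _ (Subgroup.centralizer_le_normalizer _ hw))
  have hCN : ∀ n ∈ Subgroup.normalizer (Q : Set G), ∀ c ∈ Subgroup.centralizer (Q : Set G),
      n⁻¹ * c * n ∈ Subgroup.centralizer (Q : Set G) := by
    intro n hn c hc
    have h1 := normalizer_le_normalizer_centralizer Q (Subgroup.inv_mem _ hn)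
    have h2 := (Subgroup.mem_normalizer_iff.mp h1 c).mp hc
    rwa [inv_inv] at h2
  obtain ⟨c, hc, hpow⟩ := pow_mul_mem_of_normal _ _ hCN u w huN hw (p ^ k)
  rw [← hxuw, hu, one_mul] at hpow
  have hcop : IsCoprime ((orderOf x : ℕ) : ℤ) ((p ^ k : ℕ) : ℤ) :=
    Nat.isCoprime_iff_coprime.mpr
      (Nat.Coprime.pow_right k ((Nat.Prime.coprime_iff_not_dvd hp.out).mpr hx).symm)
  obtain ⟨a, b', hab⟩ := hcop
  have hx1 : x = x ^ (a * ((orderOf x : ℕ) : ℤ) + b' * ((p ^ k : ℕ) : ℤ)) := by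
    rw [hab, zpow_one]
  rw [zpow_add, zpow_mul', zpow_natCast, pow_orderOf_eq_one, one_zpow, one_mul, zpow_mul',
    zpow_natCast, hpow] at hx1
  rw [hx1]
  exact Subgroup.zpow_mem _ hc _

end Cfsg.Agent.Lib.helper3.Block
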