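import Mathlib
import Cfsg.Agent.Lib.helper3.SP18
import Cfsg.Agent.S4660
import Cfsg.Agent.S4658

/-!
# Abelian defect groups: the stabilizer of a pair below `(P, e)`
-/

set_option autoImplicit false
set_option linter.style.haveILetI false
set_option linter.unusedSectionVars false

namespace Cfsg.Agent.Lib.helper3.Block

open Cfsg Module Cfsg.Agent.Lib.helper3.CharBasic Cfsg.Agent.Lib.helper3.Irr
open Cfsg.Agent.Lib.helper3.Central Cfsg.Agent.Lib.helper3.LocalM Cfsg.Agent.Lib.helper3.IndFun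
open Cfsg.Agent.Lib.helper3.Lin
open scoped ComplexConjugate

universe u

variable {G : Type u} [Group G] [Fintype G] {M : Ideal AlgInt}

/-- An inclusion of pairs whose upper group normalizes the lower one is a normal inclusion. -/
theorem normalSubpairRel_of_reflTransGen {p : ℕ} [hp : Fact p.Prime] (hM : IsPModular p M)
    (a b : BrauerPairIdx G) (hb : IsBrauerPair p M b.1 b.2)
    (h : Relation.ReflTransGen (NormalSubpairRel p M) a b)
    (hN : b.1 ≤ Subgroup.normalizer (a.1 : Set G)) : NormalSubpairRel p M a b := by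
  obtain ⟨Q, f⟩ := a
  obtain ⟨P, e⟩ := b
  have hQP : Q ≤ P := fst_le_of_reflTransGen h
  obtain ⟨g, hn, hleg⟩ := exists_normalSubpair_above hM P Q e f hb h P hQP le_rfl hN
  have heq : (⟨P, g⟩ : BrauerPairIdx G) = ⟨P, e⟩ := eq_of_reflTransGen_of_fst_eq hM hleg rfl
  have hn' : NormalSubpairRel p M (⟨Q, f⟩ : BrauerPairIdx G) ⟨P, g⟩ := hn
  rw [heq] at hn'
  exact hn'

open Classical in
/-- A normal overpair of `(Q, f)` inside `C_G(Q)` descends to a Brauer pair of `f`. -/
theorem exists_downT_centralizer {p : ℕ} (Q : Subgroup G)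
    (f : Set (IrrCharacter (Subgroup.centralizer (Q : Set G)))) (hf : IsPBlock M f)
    (a : BrauerPairIdx G) (hQa : Q ≤ a.1) (haH : a.1 ≤ Subgroup.centralizer (Q : Set G))
    (hn : NormalSubpairRel p M (⟨Q, f⟩ : BrauerPairIdx G) a) :
    ∃ (D' : Subgroup ↥(Subgroup.centralizer (Q : Set G)))
      (hX : Subgroup.centralizer
        ((D'.map (Subgroup.centralizer (Q : Set G)).subtype : Subgroup G) : Set G)
          ≤ Subgroup.centralizer (Q : Set G))
      (g : Set (IrrCharacter ↥(Subgroup.centralizer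
        ((D'.map (Subgroup.centralizer (Q : Set G)).subtype : Subgroup G) : Set G)))),
      (⟨D'.map (Subgroup.centralizer (Q : Set G)).subtype, g⟩ : BrauerPairIdx G) = a ∧
      IsBrauerPairOf p M f (downT _ D' hX g).1 (downT _ D' hX g).2 := by
  haveI : Fintype ↥(Subgroup.centralizer (Q : Set G)) := Fintype.ofFinite _
  obtain ⟨D', hD'⟩ : ∃ D' : Subgroup ↥(Subgroup.centralizer (Q : Set G)),
      D' = a.1.subgroupOf (Subgroup.centralizer (Q : Set G)) := ⟨_, rfl⟩
  have hmap : D'.map (Subgroup.centralizer (Q : Set G)).subtype = a.1 := by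
    rw [hD']
    exact Subgroup.map_subgroupOf_eq_of_le haH
  have hX : Subgroup.centralizer
      ((D'.map (Subgroup.centralizer (Q : Set G)).subtype : Subgroup G) : Set G)
        ≤ Subgroup.centralizer (Q : Set G) := by
    rw [hmap]
    exact Subgroup.centralizer_le (by exact_mod_cast hQa)
  obtain ⟨g, hg⟩ := exists_snd_of_fst_eq a _ hmap.symm
  refine ⟨D', hX, g, hg.symm, ?_⟩
  rw [hg] at hn
  exact isBrauerPairOf_downT Q f _ D' hX f hf
    (fun t => (subgroupBlockCoeff_of_mem _ f t.2).symm) g hn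

set_option maxHeartbeats 800000 in
open Classical in
/-- Abelian defect group: every element stabilizing a pair `(Q, f) ≤ (P, e)` is, up to an element
of `C_G(Q)`, in the stabilizer of `(P, e)`. -/
theorem exists_centralizer_mul_of_abelian {p : ℕ} [hp : Fact p.Prime] (hM : IsPModular p M)
    (B : Set (IrrCharacter G)) (P : Subgroup G)
    (e : Set (IrrCharacter (Subgroup.centralizer (P : Set G))))
    (hmax : IsMaximalBrauerPair p M B P e) (hab : ∀ x ∈ P, ∀ y ∈ P, x * y = y * x)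
    (Q : Subgroup G) (f : Set (IrrCharacter (Subgroup.centralizer (Q : Set G))))
    (hf : IsPBlock M f) (hle : SubpairLE p M Q f P e) (t : G)
    (htN : t ∈ Subgroup.normalizer (Q : Set G))
    (htst : StabilizesBlock (Subgroup.centralizer (Q : Set G)) f t) :
    ∃ c ∈ Subgroup.centralizer (Q : Set G), c * t ∈ Subgroup.normalizer (P : Set G) ∧
      StabilizesBlock (Subgroup.centralizer (P : Set G)) e (c * t) := by
  haveI hMp := isPrime_of_isPModular hM
  haveI : Fintype ↥(Subgroup.centralizer (Q : Set G)) := Fintype.ofFinite _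
  obtain ⟨hBe, hmax2⟩ := id hmax
  obtain ⟨hPe, hB, -⟩ := id hBe
  have hle' : Relation.ReflTransGen (NormalSubpairRel p M) (⟨Q, f⟩ : BrauerPairIdx G) ⟨P, e⟩ := hle
  have hQP : Q ≤ P := fst_le_of_reflTransGen hle'
  have hPH : P ≤ Subgroup.centralizer (Q : Set G) := by
    intro x hx
    rw [Subgroup.mem_centralizer_iff]
    intro q hq
    exact hab q (hQP hq) x hx
  -- the two overpairs of `(Q, f)`
  have hfix : conjIdx t (⟨Q, f⟩ : BrauerPairIdx G) = ⟨Q, f⟩ :=
    conjIdx_eq_of_stabilizesBlock Q f hf t htN htst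
  have hle₂ : Relation.ReflTransGen (NormalSubpairRel p M) (⟨Q, f⟩ : BrauerPairIdx G)
      (conjIdx t ⟨P, e⟩) := by
    have := reflTransGen_conjIdx (M := M) (p := p) t hle'
    rwa [hfix] at this
  have hQP₂ : Q ≤ (conjIdx t (⟨P, e⟩ : BrauerPairIdx G)).1 := fst_le_of_reflTransGen hle₂
  have hP₂H : (conjIdx t (⟨P, e⟩ : BrauerPairIdx G)).1 ≤ Subgroup.centralizer (Q : Set G) := by
    rintro _ ⟨x, hx, rfl⟩
    rw [Subgroup.mem_centralizer_iff]
    intro q hq
    obtain ⟨y, hy, rfl⟩ := hQP₂ hq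
    show t * y * t⁻¹ * (t * x * t⁻¹) = t * x * t⁻¹ * (t * y * t⁻¹)
    have e1 : t * y * t⁻¹ * (t * x * t⁻¹) = t * (y * x) * t⁻¹ := by group
    have e2 : t * x * t⁻¹ * (t * y * t⁻¹) = t * (x * y) * t⁻¹ := by group
    rw [e1, e2, hab y hy x hx]
  have hPe₂ : IsBrauerPair p M (conjIdx t (⟨P, e⟩ : BrauerPairIdx G)).1
      (conjIdx t (⟨P, e⟩ : BrauerPairIdx G)).2 :=
    isBrauerPair_of_reflTransGen hle₂ ⟨hPe.1.to_le hQP, hf⟩
  have hn₁ : NormalSubpairRel p M (⟨Q, f⟩ : BrauerPairIdx G) ⟨P, e⟩ :=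
    normalSubpairRel_of_reflTransGen hM _ _ hPe hle'
      (hPH.trans (Subgroup.centralizer_le_normalizer _))
  have hn₂ : NormalSubpairRel p M (⟨Q, f⟩ : BrauerPairIdx G) (conjIdx t ⟨P, e⟩) :=
    normalSubpairRel_of_reflTransGen hM _ _ hPe₂ hle₂
      (hP₂H.trans (Subgroup.centralizer_le_normalizer _))
  obtain ⟨D₁', hX₁, g₁, heq₁, hb₁⟩ := exists_downT_centralizer Q f hf _ hQP hPH hn₁
  obtain ⟨D₂', hX₂, g₂, heq₂, hb₂⟩ := exists_downT_centralizer Q f hf _ hQP₂ hP₂H hn₂
  obtain ⟨m₁, hm₁, hbm₁⟩ := exists_maximal_above (M := M) (p := p) f _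
    (downT _ D₁' hX₁ g₁) rfl hb₁
  obtain ⟨c, hc⟩ := Cfsg.Agent.S4660.result p M hM f m₁.1 (downT _ D₂' hX₂ g₂).1 m₁.2
    (downT _ D₂' hX₂ g₂).2 hm₁ hb₂
  have hc' : Relation.ReflTransGen (NormalSubpairRel p M) (conjIdx c (downT _ D₂' hX₂ g₂)) m₁ := hc
  -- lift to `G`
  have hXc : Subgroup.centralizer
      ((((conjIdx c (downT _ D₂' hX₂ g₂)).1.map
        (Subgroup.centralizer (Q : Set G)).subtype : Subgroup G)) : Set G)
        ≤ Subgroup.centralizer (Q : Set G) := by
    show Subgroup.centralizer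
      ((((D₂'.map (MulAut.conj c).toMonoidHom).map
        (Subgroup.centralizer (Q : Set G)).subtype : Subgroup G)) : Set G) ≤ _
    rw [map_subtype_map_conj]
    exact centralizer_map_conj_le _ (c : G) c.2 _ hX₂
  have hup₂ := reflTransGen_upT (M := M) (p := p) _ _ _ hXc hc'
  rw [upT_conjIdx _ c _ hX₂, upT_downT, heq₂, conjIdx_mul] at hup₂
  have hup₁ := reflTransGen_upT (M := M) (p := p) _ _ _ hX₁ hbm₁
  rw [upT_downT, heq₁] at hup₁
  obtain ⟨R, r, hRr⟩ : ∃ (R : Subgroup G)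
      (r : Set (IrrCharacter (Subgroup.centralizer (R : Set G)))),
      upT (Subgroup.centralizer (Q : Set G)) m₁ = ⟨R, r⟩ := ⟨_, _, rfl⟩
  rw [hRr] at hup₁ hup₂
  have hRr' : IsBrauerPair p M R r := isBrauerPair_of_reflTransGen hup₁ hPe
  have hRB : IsBrauerPairOf p M B R r :=
    (Cfsg.Agent.S4658.result p M hM R P r e hRr' hPe hup₁ B hB).mpr hBe
  have hRP : R = P := hmax2 R r hRB hup₁
  have hle3 : (conjIdx (↑c * t) (⟨P, e⟩ : BrauerPairIdx G)).1 ≤ R := fst_le_of_reflTransGen hup₂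
  have hfst : (conjIdx (↑c * t) (⟨P, e⟩ : BrauerPairIdx G)).1 = P := by
    rw [hRP] at hle3
    apply Subgroup.eq_of_le_of_card_ge hle3
    show Nat.card P ≤ Nat.card ↥(P.map (MulAut.conj (↑c * t)).toMonoidHom)
    rw [Subgroup.card_map_of_injective (MulAut.conj (↑c * t)).injective]
  have hfin : conjIdx (↑c * t) (⟨P, e⟩ : BrauerPairIdx G) = ⟨P, e⟩ :=
    subpair_unique hM _ ⟨R, r⟩ rfl _ _ hup₂ hup₁ hfst
  exact ⟨c, c.2, stabilizesBlock_of_conjIdx_eq P e _ hfin⟩

end Cfsg.Agent.Lib.helper3.Block
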