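import Mathlib
import Cfsg.Agent.Lib.helper3.SP19
import Cfsg.Agent.Lib.helper3.TraceBlock2
import Cfsg.Agent.Lib.helper3.SubpairBlock

/-!
# Blocks of subgroups of the stabilizer, and the reflexive normal inclusion
-/

set_option autoImplicit false
set_option linter.style.haveILetI false
set_option linter.unusedSectionVars false

namespace Cfsg.Agent.Lib.helper3.Block

open Cfsg Module Cfsg.Agent.Lib.helper3.CharBasic Cfsg.Agent.Lib.helper3.Irr
open Cfsg.Agent.Lib.helper3.Central Cfsg.Agent.Lib.helper3.LocalM Cfsg.Agent.Lib.helper3.IndFun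
open Cfsg.Agent.Lib.helper3.Lin
open scoped ComplexConjugate

universe u

variable {G : Type u} [Group G] [Fintype G] {M : Ideal AlgInt}

/-- Let `P` be a normal `p`-subgroup, `N` a normal subgroup containing the centralizer of `P`
in a subgroup `T` stabilizing the block `e` of `N`.  Then the idempotent of `e` is a block idempotent
of `T`. -/
theorem exists_block_of_le_stabilizer {p : ℕ} [hp : Fact p.Prime] (hM : IsPModular p M)
    (P : Subgroup G) [hPn : P.Normal] (hP : IsPGroup p P) (N : Subgroup G) [hN : N.Normal]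
    [Fintype N] (e : Set (IrrCharacter N)) (he : IsPBlock M e) (T : Subgroup G)
    (hT : ∀ x ∈ T, StabilizesBlock N e x) (hNT : N ≤ T)
    (hcent : ∀ t ∈ T, (∀ u ∈ P, u ∈ T → u * t = t * u) → t ∈ N) :
    ∃ E : Set (IrrCharacter T), IsPBlock M E ∧
      ∀ t : T, blockCoeff E t = subgroupBlockCoeff N e (t : G) := by
  classical
  haveI hMp := isPrime_of_isPModular hM
  have hMtop : M ≠ ⊤ := hM.2.1.ne_top
  haveI : Fintype T := Fintype.ofFinite T
  obtain ⟨N', hN'⟩ : ∃ N' : Subgroup T, N' = N.subgroupOf T := ⟨_, rfl⟩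
  haveI hN'n : N'.Normal := by
    rw [hN']
    exact Subgroup.Normal.subgroupOf hN T
  haveI : Fintype N' := Fintype.ofFinite N'
  obtain ⟨P', hP'def⟩ : ∃ P' : Subgroup T, P' = P.subgroupOf T := ⟨_, rfl⟩
  haveI hP'n : P'.Normal := by
    rw [hP'def]
    exact Subgroup.Normal.subgroupOf hPn T
  have hP' : IsPGroup p P' := by
    rw [hP'def]
    exact hP.comap_subtype
  have hmemN' : ∀ t : T, t ∈ N' ↔ (t : G) ∈ N := by
    intro t
    rw [hN', Subgroup.mem_subgroupOf]
  -- the isomorphism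
  obtain ⟨ι, hι⟩ : ∃ ι : N' ≃* N, ∀ n' : N', ((ι n' : N) : G) = ((n' : T) : G) := by
    subst hN'
    exact ⟨Subgroup.subgroupOfEquivOfLe hNT, fun n' => rfl⟩
  obtain ⟨e', he'def⟩ : ∃ e' : Set (IrrCharacter N'), e' = irrCongr ι '' e := ⟨_, rfl⟩
  have he' : IsPBlock M e' := by
    rw [he'def]
    exact isPBlock_image_irrCongr ι e he
  -- the support
  have hsuppT : ∀ E : Set (IrrCharacter T), IsPBlock M E → ∀ t, t ∉ N' → blockCoeff E t = 0 := by
    intro E hE t ht
    apply blockCoeff_eq_zero_of_vanish hM N' _ E hE t ht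
    intro χ x hx
    apply memLocalIdeal_centralChar_of_notMem_centralizer hM P' hP' χ x
    intro hxc
    apply hx
    rw [hmemN']
    apply hcent _ x.2
    intro u hu huT
    have := (Subgroup.mem_centralizer_iff.mp hxc) ⟨u, huT⟩ (by
      rw [hP'def]
      show (⟨u, huT⟩ : T) ∈ P.subgroupOf T
      rw [Subgroup.mem_subgroupOf]
      exact hu)
    exact congrArg Subtype.val this
  -- stability
  have hS : ConjStable N' e' := by
    intro θ' hθ' t θ'' hθ''
    rw [he'def] at hθ' ⊢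
    obtain ⟨θ, hθ, rfl⟩ := hθ'
    refine ⟨conjIrr N (t : G) θ, ?_, ?_⟩
    · rw [conjIrr_mem_iff_stabilizes N e he θ hθ]
      exact hT _ (T.inv_mem t.2)
    · apply Subtype.ext
      rw [hθ'']
      funext n'
      rw [irrCongr_apply, coe_conjIrr]
      unfold Cfsg.Agent.Lib.helper3.Irr.conjFun
      rw [irrCongr_apply]
      have e3 : (⟨(t : G) * ((ι n' : N) : G) * (t : G)⁻¹, hN.conj_mem _ (ι n').2 (t : G)⟩ : N)
          = ι ⟨t * (n' : T) * t⁻¹, hN'n.conj_mem _ n'.2 t⟩ := by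
        apply Subtype.ext
        show (t : G) * ((ι n' : N) : G) * (t : G)⁻¹ = _
        rw [hι, hι]
        rfl
      rw [e3]
  obtain ⟨ξ₀, hξ₀⟩ : ∃ ξ₀, ξ₀ ∈ e := by
    obtain ⟨χ, rfl⟩ := he
    exact ⟨χ, sameBlock_refl hMtop _⟩
  have hξ₀' : irrCongr ι ξ₀ ∈ e' := by
    rw [he'def]
    exact ⟨ξ₀, hξ₀, rfl⟩
  obtain ⟨χ₁, hχ₁⟩ := exists_irr_over N' (irrCongr ι ξ₀ : N' → ℂ) (irrCongr ι ξ₀).2
  have hX := overSet_conjOrbit_eq_blockOf hM N' hsuppT e' he' (irrCongr ι ξ₀) hξ₀' χ₁ hχ₁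
  have horb : conjOrbit N' e' = e' := by
    apply Set.Subset.antisymm
    · rintro θ'' ⟨g, θ', hθ', hg⟩
      exact hS θ' hθ' g θ'' hg
    · intro θ' hθ'
      exact ⟨1, θ', hθ', (conjFun_one N' _).symm⟩
  rw [horb] at hX
  refine ⟨overSet N' e', ⟨χ₁, hX⟩, ?_⟩
  intro t
  rw [blockCoeff_overSet N' e' hS t]
  by_cases ht : (t : G) ∈ N
  · rw [subgroupBlockCoeff_of_mem N e ht, subgroupBlockCoeff_of_mem N' e' ((hmemN' t).mpr ht),
      he'def, blockCoeff_image_irrCongr]
    congr 1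
    apply Subtype.ext
    rw [hι]
  · rw [subgroupBlockCoeff_of_notMem N e ht,
      subgroupBlockCoeff_of_notMem N' e' (fun h => ht ((hmemN' t).mp h))]


open Classical in
/-- Every Brauer pair is normally included in itself. -/
theorem isNormalSubpair_refl {p : ℕ} (hMtop : M ≠ ⊤) (Q : Subgroup G)
    (f : Set (IrrCharacter (Subgroup.centralizer (Q : Set G)))) (hQf : IsBrauerPair p M Q f) :
    IsNormalSubpair p M Q f Q f := by
  haveI : Fintype ↥(Subgroup.centralizer (Q : Set G)) := Fintype.ofFinite _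
  refine ⟨hQf, hQf, le_rfl, Subgroup.le_normalizer,
    fun x hx => stabilizesBlock_of_mem_base Q f x hx, ?_⟩
  intro ξ hξ
  rw [brauerOmega_eq_sum]
  have h1 : ∑ x : ↥(Subgroup.centralizer (Q : Set G)),
      subgroupBlockCoeff (Subgroup.centralizer (Q : Set G)) f (x : G) *
        ((ξ : ↥(Subgroup.centralizer (Q : Set G)) → ℂ) x /
          (ξ : ↥(Subgroup.centralizer (Q : Set G)) → ℂ) 1) = 1 := by
    have h2 := sum_blockCoeff_mul_div f ξ
    rw [if_pos hξ] at h2
    rw [← h2]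
    apply Finset.sum_congr rfl
    intro x _
    rw [subgroupBlockCoeff_of_mem _ f x.2]
  rw [h1, sub_self]
  exact memLocalIdeal_zero hMtop

end Cfsg.Agent.Lib.helper3.Block
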