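import Mathlib
import Cfsg.Agent.Lib.helper3.SP20
import Cfsg.Agent.Lib.helper3.NilCentral2
import Cfsg.Agent.Lib.helper3.BrauerMap3

/-!
# Central idempotents modulo the local ideal are determined by their central character values
-/

set_option autoImplicit false
set_option linter.style.haveILetI false
set_option linter.unusedSectionVars false

namespace Cfsg.Agent.Lib.helper3.Block

open Cfsg Module Cfsg.Agent.Lib.helper3.CharBasic Cfsg.Agent.Lib.helper3.Irr
open Cfsg.Agent.Lib.helper3.Central Cfsg.Agent.Lib.helper3.LocalM Cfsg.Agent.Lib.helper3.IndFun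
open Cfsg.Agent.Lib.helper3.Lin
open scoped ComplexConjugate

universe u

section fourierE

variable {M : Ideal AlgInt} {H : Type*} [Group H] [Fintype H]

theorem memLocalRing_neg_aux [hMp : M.IsPrime] {z : ℂ} (hz : MemLocalRing M z) :
    MemLocalRing M (-z) := by
  have h1 : IsIntegral ℤ (-1 : ℂ) := isIntegral_one.neg
  have := memLocalRing_mul (memLocalRing_of_integral (M := M) h1) hz
  simpa using this

theorem memLocalRing_sub_aux [hMp : M.IsPrime] {r z : ℂ} (hr : MemLocalRing M r)
    (hz : MemLocalRing M z) : MemLocalRing M (r - z) := by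
  rw [sub_eq_add_neg]
  exact memLocalRing_add hr (memLocalRing_neg_aux hz)

theorem memLocalRing_coef_mul [hMp : M.IsPrime] (c d : IrrCharacter H → ℂ)
    (hc : ∀ h, MemLocalRing M (coef c h)) (hd : ∀ h, MemLocalRing M (coef d h)) (h : H) :
    MemLocalRing M (coef (c * d) h) := by
  rw [coef_mul]
  apply memLocalRing_sum
  intro x _
  exact memLocalRing_mul (hc x) (hd _)

theorem memLocalIdeal_coef_mul [hMp : M.IsPrime] (c d : IrrCharacter H → ℂ)
    (hc : ∀ h, MemLocalIdeal M (coef c h)) (hd : ∀ h, MemLocalRing M (coef d h)) (h : H) :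
    MemLocalIdeal M (coef (c * d) h) := by
  rw [coef_mul]
  apply memLocalIdeal_sum
  intro x _
  rw [mul_comm]
  exact memLocalIdeal_mul_localRing (hd _) (hc x)

open Classical in
theorem memLocalRing_coef_one [hMp : M.IsPrime] (h : H) :
    MemLocalRing M (coef (1 : IrrCharacter H → ℂ) h) := by
  rw [show (1 : IrrCharacter H → ℂ) = fun _ => (1 : ℂ) from rfl, coef_one]
  split_ifs
  · exact memLocalRing_of_integral isIntegral_one
  · exact memLocalRing_of_integral isIntegral_zero

theorem memLocalRing_coef_pow [hMp : M.IsPrime] (c : IrrCharacter H → ℂ)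
    (hc : ∀ h, MemLocalRing M (coef c h)) (n : ℕ) (h : H) :
    MemLocalRing M (coef (c ^ n) h) := by
  induction n generalizing h with
  | zero =>
    rw [pow_zero]
    exact memLocalRing_coef_one h
  | succ n ih =>
    rw [pow_succ]
    exact memLocalRing_coef_mul _ _ ih hc h

theorem memLocalRing_coef_add [hMp : M.IsPrime] (c d : IrrCharacter H → ℂ)
    (hc : ∀ h, MemLocalRing M (coef c h)) (hd : ∀ h, MemLocalRing M (coef d h)) (h : H) :
    MemLocalRing M (coef (c + d) h) := by
  rw [coef_add]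
  exact memLocalRing_add (hc h) (hd h)

theorem memLocalRing_coef_sub [hMp : M.IsPrime] (c d : IrrCharacter H → ℂ)
    (hc : ∀ h, MemLocalRing M (coef c h)) (hd : ∀ h, MemLocalRing M (coef d h)) (h : H) :
    MemLocalRing M (coef (c - d) h) := by
  rw [coef_sub]
  exact memLocalRing_sub_aux (hc h) (hd h)

/-- A central element with local coefficients, all central character values in the local ideal
and cube congruent to itself has all coefficients in the local ideal. -/
theorem memLocalIdeal_coef_of_tripotent {p : ℕ} (hM : IsPModular p M) (d : IrrCharacter H → ℂ)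
    (hd : ∀ h, MemLocalRing M (coef d h)) (hdθ : ∀ θ, MemLocalIdeal M (d θ))
    (h3 : ∀ h, MemLocalIdeal M (coef (d ^ 3 - d) h)) : ∀ h, MemLocalIdeal M (coef d h) := by
  haveI hMp := isPrime_of_isPModular hM
  have hMtop : M ≠ ⊤ := hM.2.1.ne_top
  obtain ⟨n, hn⟩ := exists_pow_coef_memLocalIdeal hM d hdθ
  have hodd : ∀ k : ℕ, ∀ h, MemLocalIdeal M (coef (d ^ (2 * k + 1) - d) h) := by
    intro k
    induction k with
    | zero =>
      intro h
      rw [show 2 * 0 + 1 = 1 from rfl, pow_one, coef_sub, sub_self]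
      exact memLocalIdeal_zero hMtop
    | succ k ih =>
      intro h
      have e : d ^ (2 * (k + 1) + 1) - d = (d ^ (2 * k + 1) - d) * (d ^ 2) + (d ^ 3 - d) := by
        ring
      rw [e, coef_add]
      exact memLocalIdeal_add (memLocalIdeal_coef_mul _ _ ih (memLocalRing_coef_pow d hd 2) h) (h3 h)
  have hbig : ∀ h, MemLocalIdeal M (coef (d ^ (2 * n + 1)) h) := by
    intro h
    have e : d ^ (2 * n + 1) = d ^ n * d ^ (n + 1) := by ring
    rw [e]
    exact memLocalIdeal_coef_mul _ _ hn (memLocalRing_coef_pow d hd (n + 1)) h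
  intro h
  have h1 := hodd n h
  rw [coef_sub] at h1
  have h2 := memLocalIdeal_sub (hbig h) h1
  convert h2 using 1
  ring

/-- Two central idempotents modulo the local ideal with congruent central character values have
congruent coefficients. -/
theorem memLocalIdeal_coef_sub_of_idem {p : ℕ} (hM : IsPModular p M) (a b : IrrCharacter H → ℂ)
    (ha : ∀ h, MemLocalRing M (coef a h)) (hb : ∀ h, MemLocalRing M (coef b h))
    (ha2 : ∀ h, MemLocalIdeal M (coef (a * a - a) h))
    (hb2 : ∀ h, MemLocalIdeal M (coef (b * b - b) h))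
    (hab : ∀ θ, MemLocalIdeal M (a θ - b θ)) : ∀ h, MemLocalIdeal M (coef (a - b) h) := by
  haveI hMp := isPrime_of_isPModular hM
  apply memLocalIdeal_coef_of_tripotent hM (a - b) (memLocalRing_coef_sub a b ha hb)
  · intro θ
    exact hab θ
  · intro h
    have e : (a - b) ^ 3 - (a - b)
        = (a * a - a) * (a + 1 - (b + b + b)) + (b * b - b) * ((a + a + a) - b - 1) := by ring
    rw [e, coef_add]
    have h1 : ∀ h, MemLocalRing M (coef (a + 1 - (b + b + b)) h) :=
      memLocalRing_coef_sub _ _ (memLocalRing_coef_add _ _ ha memLocalRing_coef_one)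
        (memLocalRing_coef_add _ _ (memLocalRing_coef_add _ _ hb hb) hb)
    have h2 : ∀ h, MemLocalRing M (coef ((a + a + a) - b - 1) h) :=
      memLocalRing_coef_sub _ _ (memLocalRing_coef_sub _ _
        (memLocalRing_coef_add _ _ (memLocalRing_coef_add _ _ ha ha) ha) hb) memLocalRing_coef_one
    exact memLocalIdeal_add (memLocalIdeal_coef_mul _ _ ha2 h1 h) (memLocalIdeal_coef_mul _ _ hb2 h2 h)

end fourierE

variable {G : Type u} [Group G] [Fintype G] {M : Ideal AlgInt}

/-- Fourier inversion on `C_G(P)` for the truncation of a function. -/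
theorem coef_brauerOmega_eq (P : Subgroup G) [Fintype (Subgroup.centralizer (P : Set G))]
    (β : G → ℂ) (hβC : ∀ c ∈ Subgroup.centralizer (P : Set G), ∀ g, β (c * g * c⁻¹) = β g)
    (x : ↥(Subgroup.centralizer (P : Set G))) :
    coef (fun θ : IrrCharacter ↥(Subgroup.centralizer (P : Set G)) =>
      brauerOmega P β (θ : ↥(Subgroup.centralizer (P : Set G)) → ℂ)) x = β (x : G) := by
  have h1 := eq_coef_of_classFunction (fun y : ↥(Subgroup.centralizer (P : Set G)) => β (y : G))
    (by
      intro g y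
      show β ((y * g * y⁻¹ : ↥(Subgroup.centralizer (P : Set G))) : G) = β (g : G)
      have : ((y * g * y⁻¹ : ↥(Subgroup.centralizer (P : Set G))) : G)
          = (y : G) * (g : G) * (y : G)⁻¹ := by simp
      rw [this, hβC y y.2]) x
  rw [h1]
  congr 1
  funext θ
  rw [brauerOmega_eq_sum]

/-- The truncation to `C_G(P)` of an idempotent is an idempotent modulo the local ideal. -/
theorem memLocalIdeal_coef_brauerOmega_idem {p : ℕ} (hM : IsPModular p M) (P : Subgroup G)
    (hP : IsPGroup p P) [Fintype (Subgroup.centralizer (P : Set G))] (β : G → ℂ)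
    (hβ : ∀ g, MemLocalRing M (β g)) (hβP : ∀ u ∈ P, ∀ g, β (u * g * u⁻¹) = β g)
    (hβC : ∀ c ∈ Subgroup.centralizer (P : Set G), ∀ g, β (c * g * c⁻¹) = β g)
    (hidem : conv β β = β) (x : ↥(Subgroup.centralizer (P : Set G))) :
    MemLocalIdeal M (coef
      ((fun θ : IrrCharacter ↥(Subgroup.centralizer (P : Set G)) =>
          brauerOmega P β (θ : ↥(Subgroup.centralizer (P : Set G)) → ℂ))
        * (fun θ : IrrCharacter ↥(Subgroup.centralizer (P : Set G)) =>
          brauerOmega P β (θ : ↥(Subgroup.centralizer (P : Set G)) → ℂ))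
        - (fun θ : IrrCharacter ↥(Subgroup.centralizer (P : Set G)) =>
          brauerOmega P β (θ : ↥(Subgroup.centralizer (P : Set G)) → ℂ))) x) := by
  rw [coef_sub, coef_mul]
  simp_rw [coef_brauerOmega_eq P β hβC]
  have h1 := memLocalIdeal_conv_sub_trunc hM P hP β β hβ hβ hβP hβP (x : G) x.2
  rw [hidem] at h1
  have h2 := memLocalIdeal_neg h1
  convert h2 using 1
  rw [neg_sub]
  rfl

/-- The dichotomy for the Brauer functional of an idempotent. -/
theorem brauerOmega_dichotomy {p : ℕ} (hM : IsPModular p M) (P : Subgroup G)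
    (hP : IsPGroup p P) [Fintype (Subgroup.centralizer (P : Set G))] (β : G → ℂ)
    (hβ : ∀ g, MemLocalRing M (β g)) (hβP : ∀ u ∈ P, ∀ g, β (u * g * u⁻¹) = β g)
    (hβC : ∀ c ∈ Subgroup.centralizer (P : Set G), ∀ g, β (c * g * c⁻¹) = β g)
    (hidem : conv β β = β) (θ : IrrCharacter ↥(Subgroup.centralizer (P : Set G))) :
    MemLocalIdeal M (brauerOmega P β (θ : ↥(Subgroup.centralizer (P : Set G)) → ℂ)) ∨
      MemLocalIdeal M (brauerOmega P β (θ : ↥(Subgroup.centralizer (P : Set G)) → ℂ) - 1) := by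
  haveI hMp := isPrime_of_isPModular hM
  have h1 := memLocalIdeal_brauerOmega_conv hM P hP β β hβ hβ hβP hβP hβC hβC θ
  rw [hidem] at h1
  have h2 := memLocalIdeal_neg h1
  have hloc := memLocalRing_brauerOmega P β hβ hβC θ
  apply memLocalIdeal_or_of_mul_local hloc
    (memLocalRing_sub_aux hloc (memLocalRing_of_integral isIntegral_one))
  convert h2 using 1
  ring

open Classical in
/-- Two idempotents whose truncations to `C_G(P)` have the same blocks in their support have
congruent truncations. -/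
theorem memLocalIdeal_sub_of_same_pairs {p : ℕ} (hM : IsPModular p M) (P : Subgroup G)
    (hP : IsPGroup p P) [Fintype (Subgroup.centralizer (P : Set G))] (β₁ β₂ : G → ℂ)
    (hβ₁ : ∀ g, MemLocalRing M (β₁ g)) (hβ₁P : ∀ u ∈ P, ∀ g, β₁ (u * g * u⁻¹) = β₁ g)
    (hβ₁C : ∀ c ∈ Subgroup.centralizer (P : Set G), ∀ g, β₁ (c * g * c⁻¹) = β₁ g)
    (hidem₁ : conv β₁ β₁ = β₁)
    (hβ₂ : ∀ g, MemLocalRing M (β₂ g)) (hβ₂P : ∀ u ∈ P, ∀ g, β₂ (u * g * u⁻¹) = β₂ g)
    (hβ₂C : ∀ c ∈ Subgroup.centralizer (P : Set G), ∀ g, β₂ (c * g * c⁻¹) = β₂ g)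
    (hidem₂ : conv β₂ β₂ = β₂)
    (hsame : ∀ θ : IrrCharacter ↥(Subgroup.centralizer (P : Set G)),
      MemLocalIdeal M (brauerOmega P β₁ (θ : ↥(Subgroup.centralizer (P : Set G)) → ℂ) - 1) ↔
      MemLocalIdeal M (brauerOmega P β₂ (θ : ↥(Subgroup.centralizer (P : Set G)) → ℂ) - 1))
    (x : G) (hx : x ∈ Subgroup.centralizer (P : Set G)) :
    MemLocalIdeal M (β₁ x - β₂ x) := by
  haveI hMp := isPrime_of_isPModular hM
  have hMtop : M ≠ ⊤ := hM.2.1.ne_top
  obtain ⟨a, ha⟩ : ∃ a : IrrCharacter ↥(Subgroup.centralizer (P : Set G)) → ℂ,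
      a = fun θ : IrrCharacter ↥(Subgroup.centralizer (P : Set G)) =>
        brauerOmega P β₁ (θ : ↥(Subgroup.centralizer (P : Set G)) → ℂ) := ⟨_, rfl⟩
  obtain ⟨b, hb⟩ : ∃ b : IrrCharacter ↥(Subgroup.centralizer (P : Set G)) → ℂ,
      b = fun θ : IrrCharacter ↥(Subgroup.centralizer (P : Set G)) =>
        brauerOmega P β₂ (θ : ↥(Subgroup.centralizer (P : Set G)) → ℂ) := ⟨_, rfl⟩
  have hca : ∀ y : ↥(Subgroup.centralizer (P : Set G)), coef a y = β₁ (y : G) := by
    intro y
    rw [ha]
    exact coef_brauerOmega_eq P β₁ hβ₁C y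
  have hcb : ∀ y : ↥(Subgroup.centralizer (P : Set G)), coef b y = β₂ (y : G) := by
    intro y
    rw [hb]
    exact coef_brauerOmega_eq P β₂ hβ₂C y
  have hab : ∀ θ, MemLocalIdeal M (a θ - b θ) := by
    intro θ
    rw [ha, hb]
    rcases brauerOmega_dichotomy hM P hP β₁ hβ₁ hβ₁P hβ₁C hidem₁ θ with h1 | h1
    · rcases brauerOmega_dichotomy hM P hP β₂ hβ₂ hβ₂P hβ₂C hidem₂ θ with h2 | h2
      · exact memLocalIdeal_sub h1 h2
      · exfalso
        have h3 := (hsame θ).mpr h2
        apply not_memLocalIdeal_one (M := M)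
        have := memLocalIdeal_sub h1 h3
        convert this using 1
        ring
    · have h2 := (hsame θ).mp h1
      have := memLocalIdeal_sub h1 h2
      convert this using 1
      ring
  have hmain := memLocalIdeal_coef_sub_of_idem hM a b
    (fun y => by rw [hca]; exact hβ₁ _) (fun y => by rw [hcb]; exact hβ₂ _)
    (by
      intro y
      rw [ha]
      exact memLocalIdeal_coef_brauerOmega_idem hM P hP β₁ hβ₁ hβ₁P hβ₁C hidem₁ y)
    (by
      intro y
      rw [hb]
      exact memLocalIdeal_coef_brauerOmega_idem hM P hP β₂ hβ₂ hβ₂P hβ₂C hidem₂ y)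
    hab ⟨x, hx⟩
  rw [coef_sub, hca, hcb] at hmain
  exact hmain

open Classical in
/-- Congruent truncations give congruent Brauer functionals. -/
theorem memLocalIdeal_brauerOmega_sub_of_congr [hMp : M.IsPrime] (P : Subgroup G)
    [Fintype (Subgroup.centralizer (P : Set G))] (β₁ β₂ : G → ℂ)
    (hβ₁C : ∀ c ∈ Subgroup.centralizer (P : Set G), ∀ g, β₁ (c * g * c⁻¹) = β₁ g)
    (hβ₂C : ∀ c ∈ Subgroup.centralizer (P : Set G), ∀ g, β₂ (c * g * c⁻¹) = β₂ g)
    (hcong : ∀ x ∈ Subgroup.centralizer (P : Set G), MemLocalIdeal M (β₁ x - β₂ x))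
    (θ : IrrCharacter ↥(Subgroup.centralizer (P : Set G))) :
    MemLocalIdeal M (brauerOmega P β₁ (θ : ↥(Subgroup.centralizer (P : Set G)) → ℂ)
      - brauerOmega P β₂ (θ : ↥(Subgroup.centralizer (P : Set G)) → ℂ)) := by
  have hMtop : M ≠ ⊤ := hMp.ne_top
  obtain ⟨a, ha⟩ : ∃ a : G → ℂ, a = fun g =>
      if g ∈ Subgroup.centralizer (P : Set G) then β₁ g - β₂ g else 0 := ⟨_, rfl⟩
  have h1 : brauerOmega P β₁ (θ : ↥(Subgroup.centralizer (P : Set G)) → ℂ)
      - brauerOmega P β₂ (θ : ↥(Subgroup.centralizer (P : Set G)) → ℂ)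
      = brauerOmega P a (θ : ↥(Subgroup.centralizer (P : Set G)) → ℂ) := by
    rw [brauerOmega_eq_sum, brauerOmega_eq_sum, brauerOmega_eq_sum, ← Finset.sum_sub_distrib]
    apply Finset.sum_congr rfl
    intro y _
    rw [ha]
    simp only [if_pos y.2]
    ring
  rw [h1]
  apply memLocalIdeal_brauerOmega_of_forall P a
  · intro g
    rw [ha]
    by_cases hg : g ∈ Subgroup.centralizer (P : Set G)
    · simp only [if_pos hg]
      exact hcong g hg
    · simp only [if_neg hg]
      exact memLocalIdeal_zero hMtop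
  · intro c hc g
    rw [ha]
    have hiff : c * g * c⁻¹ ∈ Subgroup.centralizer (P : Set G)
        ↔ g ∈ Subgroup.centralizer (P : Set G) := by
      constructor
      · intro h
        have := Subgroup.mul_mem _ (Subgroup.mul_mem _ (Subgroup.inv_mem _ hc) h) hc
        have e : c⁻¹ * (c * g * c⁻¹) * c = g := by group
        rwa [e] at this
      · intro h
        exact Subgroup.mul_mem _ (Subgroup.mul_mem _ hc h) (Subgroup.inv_mem _ hc)
    by_cases hg : g ∈ Subgroup.centralizer (P : Set G)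
    · simp only [if_pos hg, if_pos (hiff.mpr hg)]
      rw [hβ₁C c hc, hβ₂C c hc]
    · simp only [if_neg hg, if_neg (fun h => hg (hiff.mp h))]

end Cfsg.Agent.Lib.helper3.Block
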