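import Mathlib
import Cfsg.Agent.Lib.helper3.SP21
import Cfsg.Agent.S4659
import Cfsg.Agent.S0908
import Cfsg.Agent.S0959

/-!
# Brauer pairs at a defect group; descent of normal inclusions to a subgroup
-/

set_option autoImplicit false
set_option linter.style.haveILetI false
set_option linter.unusedSectionVars false

namespace Cfsg.Agent.Lib.helper3.Block

open Cfsg Module Cfsg.Agent.Lib.helper3.CharBasic Cfsg.Agent.Lib.helper3.Irr
open Cfsg.Agent.Lib.helper3.Central Cfsg.Agent.Lib.helper3.LocalM Cfsg.Agent.Lib.helper3.IndFun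
open Cfsg.Agent.Lib.helper3.Lin
open scoped ComplexConjugate

universe u

variable {G : Type u} [Group G] [Fintype G] {M : Ideal AlgInt}

open Classical in
/-- A Brauer pair of `B` on a defect group of `B` is maximal. -/
theorem isMaximalBrauerPair_of_isDefectGroup {p : ℕ} [hp : Fact p.Prime] (hM : IsPModular p M)
    (B : Set (IrrCharacter G)) (P : Subgroup G)
    (e : Set (IrrCharacter (Subgroup.centralizer (P : Set G))))
    (hPD : IsDefectGroup p M B P) (hBe : IsBrauerPairOf p M B P e) :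
    IsMaximalBrauerPair p M B P e := by
  obtain ⟨hPe, hB, -⟩ := id hBe
  refine ⟨hBe, ?_⟩
  intro R g hRg hle
  have hle' : Relation.ReflTransGen (NormalSubpairRel p M) (⟨P, e⟩ : BrauerPairIdx G) ⟨R, g⟩ := hle
  obtain ⟨m, hm, hlem⟩ := exists_maximal_above (M := M) (p := p) B _ (⟨R, g⟩ : BrauerPairIdx G)
    rfl hRg
  have hmD := Cfsg.Agent.S4659.result p M hM B m.1 m.2 hm
  have hc1 := Cfsg.Agent.S0908.result p M hM B hB m.1 hmD
  have hc2 := Cfsg.Agent.S0908.result p M hM B hB P hPD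
  have hPR : P ≤ R := fst_le_of_reflTransGen hle'
  have hRm : R ≤ m.1 := fst_le_of_reflTransGen hlem
  have hcard : Nat.card R ≤ Nat.card P := by
    rw [hc2, ← hc1]
    exact Subgroup.card_le_of_le hRm
  exact (Subgroup.eq_of_le_of_card_ge hPR hcard).symm

open Classical in
/-- A defect group carries a Brauer pair of the block. -/
theorem exists_isBrauerPairOf_of_isDefectGroup {p : ℕ} [hp : Fact p.Prime] (hM : IsPModular p M)
    (B : Set (IrrCharacter G)) (hB : IsPBlock M B) (P : Subgroup G)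
    (hPD : IsDefectGroup p M B P) :
    ∃ e : Set (IrrCharacter (Subgroup.centralizer (P : Set G))), IsBrauerPairOf p M B P e := by
  haveI hMp := isPrime_of_isPModular hM
  have hMtop : M ≠ ⊤ := hM.2.1.ne_top
  haveI : Fintype (Subgroup.centralizer (P : Set G)) := Fintype.ofFinite _
  have hP : IsPGroup p P := isPGroup_of_isDefectGroup hPD
  have hloc : ∀ g, MemLocalRing M (blockCoeff B g) := osima hM B hB
  have hconj : ∀ (c g : G), blockCoeff B (c * g * c⁻¹) = blockCoeff B g :=
    fun c g => blockCoeff_conj' B g c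
  obtain ⟨g, -, hgI, c, hgc, hcC⟩ := (Cfsg.Agent.S0959.result p M hM B hB P hPD P hP).mpr
    ⟨1, by
      intro y hy
      obtain ⟨q, hq, rfl⟩ := hy
      show (1 : G) * q * (1 : G)⁻¹ ∈ P
      simpa using hq⟩
  have hcI : ¬ MemLocalIdeal M (blockCoeff B c) := by
    obtain ⟨y, hy⟩ := isConj_iff.mp hgc
    rw [← hy, hconj]
    exact hgI
  -- some Brauer functional is congruent to one
  have hex : ∃ θ : IrrCharacter ↥(Subgroup.centralizer (P : Set G)),
      MemLocalIdeal M (brauerOmega P (blockCoeff B)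
        (θ : ↥(Subgroup.centralizer (P : Set G)) → ℂ) - 1) := by
    by_contra hcon
    apply hcI
    have := memLocalIdeal_sub_of_same_pairs hM P hP (blockCoeff B) (0 : G → ℂ) hloc
      (fun u _ g => hconj u g) (fun u _ g => hconj u g) (conv_blockCoeff_self B)
      (fun _ => memLocalRing_of_integral isIntegral_zero) (fun _ _ _ => rfl) (fun _ _ _ => rfl)
      (by
        funext g
        unfold conv
        simp)
      (by
        intro θ
        constructor
        · intro h
          exact absurd ⟨θ, h⟩ hcon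
        · intro h
          exfalso
          rw [brauerOmega_zero, zero_sub] at h
          apply not_memLocalIdeal_one (M := M)
          have := memLocalIdeal_neg h
          rwa [neg_neg] at this) c hcC
    simpa using this
  obtain ⟨θ, hθ⟩ := hex
  refine ⟨blockOf M (θ : ↥(Subgroup.centralizer (P : Set G)) → ℂ), ⟨hP, θ, rfl⟩, hB, ?_⟩
  intro ξ hξ
  have h1 := memLocalIdeal_brauerOmega_sub hM P (blockCoeff B) hloc (fun u _ g => hconj u g)
    ξ θ (sameBlock_symm hξ)
  have h2 := memLocalIdeal_add h1 hθ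
  convert h2 using 1
  ring

open Classical in
/-- The lift of Brauer pair indices is injective. -/
theorem upT_injective (T : Subgroup G) (a' b' : BrauerPairIdx ↥T)
    (hXa : Subgroup.centralizer ((a'.1.map T.subtype : Subgroup G) : Set G) ≤ T)
    (hXb : Subgroup.centralizer ((b'.1.map T.subtype : Subgroup G) : Set G) ≤ T)
    (h : upT T a' = upT T b') : a' = b' := by
  obtain ⟨D₁, h₁⟩ := a'
  obtain ⟨D₂, h₂⟩ := b'
  rw [upT_eq T D₁ h₁ hXa, upT_eq T D₂ h₂ hXb] at h
  have hD : D₁.map T.subtype = D₂.map T.subtype := congrArg Sigma.fst h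
  have hD' : D₁ = D₂ := Subgroup.map_injective (Subgroup.subtype_injective T) hD
  subst hD'
  have h2 := eq_of_heq (Sigma.mk.inj_iff.mp h).2
  have h3 := congrArg (fun S => @irrCongr _ _ _ _ (Fintype.ofFinite _) (Fintype.ofFinite _)
    (cSubEquiv T D₁ hXa) '' S) h2
  beta_reduce at h3
  rw [@image_irrCongr_image_symm _ _ _ _ (Fintype.ofFinite _) (Fintype.ofFinite _),
    @image_irrCongr_image_symm _ _ _ _ (Fintype.ofFinite _) (Fintype.ofFinite _)] at h3
  rw [h3]

theorem mem_normalizer_of_coe_mem_normalizer_map (T : Subgroup G) (D' : Subgroup ↥T) (y : ↥T)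
    (hy : (y : G) ∈ Subgroup.normalizer ((D'.map T.subtype : Subgroup G) : Set G)) :
    y ∈ Subgroup.normalizer (D' : Set ↥T) := by
  rw [Subgroup.mem_normalizer_iff] at hy ⊢
  intro d
  constructor
  · intro hd
    obtain ⟨d₂, hd₂, he⟩ := (hy (d : G)).mp ⟨d, hd, rfl⟩
    have : d₂ = y * d * y⁻¹ := Subtype.ext he
    rw [← this]
    exact hd₂
  · intro hd
    obtain ⟨d₂, hd₂, he⟩ := (hy (d : G)).mpr ⟨y * d * y⁻¹, hd, rfl⟩
    have : d₂ = d := Subtype.ext he
    rw [← this]
    exact hd₂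

open Classical in
/-- A normal inclusion in `G` between pairs on subgroups of `T` descends to `T`. -/
theorem isNormalSubpair_downT {p : ℕ} (T : Subgroup G) (D₁' D₂' : Subgroup ↥T)
    (hX₁ : Subgroup.centralizer ((D₁'.map T.subtype : Subgroup G) : Set G) ≤ T)
    (hX₂ : Subgroup.centralizer ((D₂'.map T.subtype : Subgroup G) : Set G) ≤ T)
    [Fintype ↥(Subgroup.centralizer (D₁' : Set ↥T))]
    [Fintype ↥(Subgroup.centralizer ((D₁'.map T.subtype : Subgroup G) : Set G))]
    [Fintype ↥(Subgroup.centralizer (D₂' : Set ↥T))]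
    [Fintype ↥(Subgroup.centralizer ((D₂'.map T.subtype : Subgroup G) : Set G))]
    (g₁ : Set (IrrCharacter ↥(Subgroup.centralizer ((D₁'.map T.subtype : Subgroup G) : Set G))))
    (g₂ : Set (IrrCharacter ↥(Subgroup.centralizer ((D₂'.map T.subtype : Subgroup G) : Set G))))
    (hn : IsNormalSubpair p M (D₁'.map T.subtype) g₁ (D₂'.map T.subtype) g₂) :
    IsNormalSubpair p M D₁' (irrCongr (cSubEquiv T D₁' hX₁) '' g₁)
      D₂' (irrCongr (cSubEquiv T D₂' hX₂) '' g₂) := by
  obtain ⟨⟨hD₁, hg₁⟩, ⟨hD₂, hg₂⟩, hle, hN, hst, hω⟩ := hn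
  have hD₁' : IsPGroup p D₁' :=
    (hD₁.comap_of_injective _ (Subgroup.subtype_injective _)).to_le (Subgroup.le_comap_map _ _)
  have hD₂' : IsPGroup p D₂' :=
    (hD₂.comap_of_injective _ (Subgroup.subtype_injective _)).to_le (Subgroup.le_comap_map _ _)
  have hle' : D₁' ≤ D₂' := by
    intro d hd
    obtain ⟨d₂, hd₂, he⟩ := hle ⟨d, hd, rfl⟩
    have : d₂ = d := Subtype.ext he
    rw [← this]
    exact hd₂
  have hN' : D₂' ≤ Subgroup.normalizer (D₁' : Set ↥T) := by
    intro y hy
    exact mem_normalizer_of_coe_mem_normalizer_map T D₁' y (hN ⟨y, hy, rfl⟩)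
  refine ⟨⟨hD₁', isPBlock_image_irrCongr _ g₁ hg₁⟩, ⟨hD₂', isPBlock_image_irrCongr _ g₂ hg₂⟩,
    hle', hN', ?_, ?_⟩
  · intro x' hx'
    obtain ⟨-, hc⟩ := hst (x' : G) ⟨x', hx', rfl⟩
    refine ⟨normalizer_le_normalizer_centralizer _ (hN' hx'), ?_⟩
    rintro _ ⟨ξ, hξ, rfl⟩
    obtain ⟨ξ₂, hξ₂, hconj⟩ := hc ξ hξ
    refine ⟨irrCongr (cSubEquiv T D₁' hX₁) ξ₂, ⟨ξ₂, hξ₂, rfl⟩, ?_⟩
    intro k k' hkk'
    rw [irrCongr_apply, irrCongr_apply]
    apply hconj
    show ((k' : ↥T) : G) = (x' : G) * ((k : ↥T) : G) * (x' : G)⁻¹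
    have := congrArg (Subtype.val : ↥T → G) hkk'
    simpa using this
  · rintro _ ⟨ξ, hξ, rfl⟩
    have hβ : ∀ t : ↥T, subgroupBlockCoeff (Subgroup.centralizer (D₁' : Set ↥T))
        (irrCongr (cSubEquiv T D₁' hX₁) '' g₁) t
        = subgroupBlockCoeff (Subgroup.centralizer ((D₁'.map T.subtype : Subgroup G) : Set G))
          g₁ (t : G) := by
      intro t
      rw [subgroupBlockCoeff_cSubEquiv_symm T D₁' hX₁ _ t, image_irrCongr_symm_image]
    rw [brauerOmega_cSubEquiv T D₂' hX₂ _ _ hβ ξ]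
    exact hω ξ hξ

open Classical in
/-- With congruent idempotents on `C_G(D)`, a pair on `D` belongs to `B` exactly when its descent
belongs to `c`. -/
theorem isBrauerPairOf_downT_iff_of_congr {p : ℕ} [hp : Fact p.Prime] (hM : IsPModular p M)
    (H : Subgroup G) [Fintype ↥H] (D' : Subgroup ↥H)
    (hX : Subgroup.centralizer ((D'.map H.subtype : Subgroup G) : Set G) ≤ H)
    (B : Set (IrrCharacter G)) (hB : IsPBlock M B) (c : Set (IrrCharacter H)) (hc : IsPBlock M c)
    (hcong : ∀ x ∈ Subgroup.centralizer ((D'.map H.subtype : Subgroup G) : Set G),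
      MemLocalIdeal M (blockCoeff B x - subgroupBlockCoeff H c x))
    (g : Set (IrrCharacter ↥(Subgroup.centralizer ((D'.map H.subtype : Subgroup G) : Set G))))
    (hg : IsPBlock M g) (hD : IsPGroup p (D'.map H.subtype : Subgroup G)) :
    IsBrauerPairOf p M B (D'.map H.subtype) g ↔
      IsBrauerPairOf p M c (downT H D' hX g).1 (downT H D' hX g).2 := by
  haveI hMp := isPrime_of_isPModular hM
  haveI i1 : Fintype ↥(Subgroup.centralizer (D' : Set ↥H)) := Fintype.ofFinite _
  haveI i2 : Fintype ↥(Subgroup.centralizer ((D'.map H.subtype : Subgroup G) : Set G)) :=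
    Fintype.ofFinite _
  have hD' : IsPGroup p D' :=
    (hD.comap_of_injective _ (Subgroup.subtype_injective _)).to_le (Subgroup.le_comap_map _ _)
  have hβ : ∀ t : ↥H, blockCoeff c t = subgroupBlockCoeff H c (t : G) :=
    fun t => (subgroupBlockCoeff_of_mem H c t.2).symm
  have hdiff : ∀ ξ : IrrCharacter ↥(Subgroup.centralizer ((D'.map H.subtype : Subgroup G) : Set G)),
      MemLocalIdeal M (brauerOmega (D'.map H.subtype) (blockCoeff B)
          (ξ : ↥(Subgroup.centralizer ((D'.map H.subtype : Subgroup G) : Set G)) → ℂ)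
        - brauerOmega (D'.map H.subtype) (subgroupBlockCoeff H c)
          (ξ : ↥(Subgroup.centralizer ((D'.map H.subtype : Subgroup G) : Set G)) → ℂ)) :=
    fun ξ => memLocalIdeal_brauerOmega_sub_of_congr (D'.map H.subtype) _ _
      (fun u _ g => blockCoeff_conj' B g u)
      (fun u hu g => subgroupBlockCoeff_conj_of_mem H c u (hX hu) g) hcong ξ
  have hdown : downT H D' hX g = ⟨D', irrCongr (cSubEquiv H D' hX) '' g⟩ := by
    unfold downT
    congr 1
  rw [hdown]
  constructor
  · rintro ⟨-, -, hω⟩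
    refine ⟨⟨hD', isPBlock_image_irrCongr _ g hg⟩, hc, ?_⟩
    rintro _ ⟨ξ, hξ, rfl⟩
    rw [brauerOmega_cSubEquiv H D' hX (blockCoeff c) (subgroupBlockCoeff H c) hβ ξ]
    have := memLocalIdeal_sub (hω ξ hξ) (hdiff ξ)
    convert this using 1
    ring
  · rintro ⟨-, -, hω⟩
    refine ⟨⟨hD, hg⟩, hB, ?_⟩
    intro ξ hξ
    have h1 := hω _ ⟨ξ, hξ, rfl⟩
    rw [brauerOmega_cSubEquiv H D' hX (blockCoeff c) (subgroupBlockCoeff H c) hβ ξ] at h1
    have := memLocalIdeal_add h1 (hdiff ξ)
    convert this using 1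
    ring

end Cfsg.Agent.Lib.helper3.Block
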