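import Mathlib
import Cfsg.Agent.Lib.helper3.SP22
import Cfsg.Agent.S4657

/-!
# The Brauer correspondence over a subgroup containing the normalizer of the defect group
-/

set_option autoImplicit false
set_option linter.style.haveILetI false
set_option linter.unusedSectionVars false

namespace Cfsg.Agent.Lib.helper3.Block

open Cfsg Module Cfsg.Agent.Lib.helper3.CharBasic Cfsg.Agent.Lib.helper3.Irr
open Cfsg.Agent.Lib.helper3.Central Cfsg.Agent.Lib.helper3.LocalM Cfsg.Agent.Lib.helper3.IndFun
open Cfsg.Agent.Lib.helper3.Lin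
open scoped ComplexConjugate

universe u

variable {G : Type u} [Group G] [Fintype G] {M : Ideal AlgInt}

theorem forall_blockOf_brauerOmega_iff {p : ℕ} (hM : IsPModular p M) (D : Subgroup G)
    [Fintype (Subgroup.centralizer (D : Set G))] (β : G → ℂ)
    (hβ : ∀ g, MemLocalRing M (β g))
    (hβC : ∀ c ∈ Subgroup.centralizer (D : Set G), ∀ g, β (c * g * c⁻¹) = β g)
    (θ : IrrCharacter ↥(Subgroup.centralizer (D : Set G))) :
    (∀ ξ ∈ blockOf M (θ : ↥(Subgroup.centralizer (D : Set G)) → ℂ),
      MemLocalIdeal M (brauerOmega D β (ξ : ↥(Subgroup.centralizer (D : Set G)) → ℂ) - 1)) ↔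
    MemLocalIdeal M (brauerOmega D β (θ : ↥(Subgroup.centralizer (D : Set G)) → ℂ) - 1) := by
  haveI hMp := isPrime_of_isPModular hM
  have hMtop : M ≠ ⊤ := hM.2.1.ne_top
  constructor
  · intro h
    exact h θ (sameBlock_refl hMtop _)
  · intro h ξ hξ
    have h1 := memLocalIdeal_brauerOmega_sub hM D β hβ hβC ξ θ (sameBlock_symm hξ)
    have h2 := memLocalIdeal_add h1 h
    convert h2 using 1
    ring

set_option maxHeartbeats 800000 in
open Classical in
/-- Blocks `B` of `G` and `c` of `H ⊇ N_G(D)` with defect group `D` and a common Brauer pair on `D`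
have congruent idempotents on `C_G(D)`. -/
theorem memLocalIdeal_blockCoeff_sub_of_common_pair {p : ℕ} [hp : Fact p.Prime]
    (hM : IsPModular p M) (H : Subgroup G) [Fintype ↥H] (D' : Subgroup ↥H)
    (hN : Subgroup.normalizer ((D'.map H.subtype : Subgroup G) : Set G) ≤ H)
    (hX : Subgroup.centralizer ((D'.map H.subtype : Subgroup G) : Set G) ≤ H)
    (B : Set (IrrCharacter G)) (hB : IsPBlock M B)
    (hBD : IsDefectGroup p M B (D'.map H.subtype))
    (c : Set (IrrCharacter H)) (hc : IsPBlock M c) (hcD : IsDefectGroup p M c D')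
    (e : Set (IrrCharacter ↥(Subgroup.centralizer ((D'.map H.subtype : Subgroup G) : Set G))))
    (hBe : IsBrauerPairOf p M B (D'.map H.subtype) e)
    (hce : IsBrauerPairOf p M c (downT H D' hX e).1 (downT H D' hX e).2) :
    ∀ x ∈ Subgroup.centralizer ((D'.map H.subtype : Subgroup G) : Set G),
      MemLocalIdeal M (blockCoeff B x - subgroupBlockCoeff H c x) := by
  haveI hMp := isPrime_of_isPModular hM
  have hMtop : M ≠ ⊤ := hM.2.1.ne_top
  haveI i1 : Fintype ↥(Subgroup.centralizer (D' : Set ↥H)) := Fintype.ofFinite _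
  haveI i2 : Fintype ↥(Subgroup.centralizer ((D'.map H.subtype : Subgroup G) : Set G)) :=
    Fintype.ofFinite _
  have hD : IsPGroup p (D'.map H.subtype : Subgroup G) := hBe.1.1
  have hDH : D'.map H.subtype ≤ H := by
    rintro _ ⟨d, -, rfl⟩
    exact d.2
  have hdown : ∀ g : Set (IrrCharacter
      ↥(Subgroup.centralizer ((D'.map H.subtype : Subgroup G) : Set G))),
      downT H D' hX g = ⟨D', irrCongr (cSubEquiv H D' hX) '' g⟩ := by
    intro g
    unfold downT
    congr 1
  have hβ : ∀ t : ↥H, blockCoeff c t = subgroupBlockCoeff H c (t : G) :=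
    fun t => (subgroupBlockCoeff_of_mem H c t.2).symm
  -- the matching of pairs
  have hmatch : ∀ e₁ : Set (IrrCharacter
      ↥(Subgroup.centralizer ((D'.map H.subtype : Subgroup G) : Set G))),
      IsBrauerPairOf p M B (D'.map H.subtype) e₁ ↔
        IsBrauerPairOf p M c (downT H D' hX e₁).1 (downT H D' hX e₁).2 := by
    intro e₁
    have hXc : ∀ n' : ↥H, Subgroup.centralizer
        ((((conjIdx n' (downT H D' hX e)).1.map H.subtype : Subgroup G)) : Set G) ≤ H := by
      intro n'
      show Subgroup.centralizer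
        ((((D'.map (MulAut.conj n').toMonoidHom).map H.subtype : Subgroup G)) : Set G) ≤ _
      rw [map_subtype_map_conj]
      exact centralizer_map_conj_le _ (n' : G) n'.2 _ hX
    constructor
    · intro hBe₁
      obtain ⟨n, hnN, hn⟩ := conj_of_isBrauerPairOf_defectGroup hM B _ hBD e e₁ hBe hBe₁
      have h1 := upT_conjIdx H (⟨n, hN hnN⟩ : ↥H) (downT H D' hX e) hX
      rw [upT_downT] at h1
      have h2 : upT H (conjIdx (⟨n, hN hnN⟩ : ↥H) (downT H D' hX e))
          = upT H (downT H D' hX e₁) := by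
        rw [h1, upT_downT]
        exact hn
      have h3 := upT_injective H _ _ (hXc _) hX h2
      have h4 := isBrauerPairOf_conj c (downT H D' hX e).1 (downT H D' hX e).2
        (⟨n, hN hnN⟩ : ↥H) hce
      have h5 : IsBrauerPairOf p M c (conjIdx (⟨n, hN hnN⟩ : ↥H) (downT H D' hX e)).1
          (conjIdx (⟨n, hN hnN⟩ : ↥H) (downT H D' hX e)).2 := h4
      rw [h3] at h5
      exact h5
    · intro hce₁
      obtain ⟨n', -, hn'⟩ := conj_of_isBrauerPairOf_defectGroup hM c D' hcD
        (downT H D' hX e).2 (downT H D' hX e₁).2 hce hce₁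
      have hn'' : conjIdx n' (downT H D' hX e) = downT H D' hX e₁ := hn'
      have h1 := upT_conjIdx H n' (downT H D' hX e) hX
      rw [hn'', upT_downT, upT_downT] at h1
      have h4 := isBrauerPairOf_conj B (D'.map H.subtype) e (n' : G) hBe
      have h5 : IsBrauerPairOf p M B
          (conjIdx (n' : G) (⟨D'.map H.subtype, e⟩ : BrauerPairIdx G)).1
          (conjIdx (n' : G) (⟨D'.map H.subtype, e⟩ : BrauerPairIdx G)).2 := h4
      rw [← h1] at h5
      exact h5
  -- apply the determination of idempotents by their central character values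
  apply memLocalIdeal_sub_of_same_pairs hM (D'.map H.subtype) hD (blockCoeff B)
    (subgroupBlockCoeff H c) (osima hM B hB) (fun u _ g => blockCoeff_conj' B g u)
    (fun u _ g => blockCoeff_conj' B g u) (conv_blockCoeff_self B)
    (memLocalRing_subgroupBlockCoeff hM H c hc)
    (fun u hu g => subgroupBlockCoeff_conj_of_mem H c u (hDH hu) g)
    (fun u hu g => subgroupBlockCoeff_conj_of_mem H c u (hX hu) g)
    (conv_subgroupBlockCoeff_self H c)
  intro θ
  rw [← forall_blockOf_brauerOmega_iff hM _ (blockCoeff B) (osima hM B hB)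
      (fun u _ g => blockCoeff_conj' B g u) θ,
    ← forall_blockOf_brauerOmega_iff hM _ (subgroupBlockCoeff H c)
      (memLocalRing_subgroupBlockCoeff hM H c hc)
      (fun u hu g => subgroupBlockCoeff_conj_of_mem H c u (hX hu) g) θ]
  constructor
  · intro h ξ hξ
    have hpair : IsBrauerPairOf p M B (D'.map H.subtype)
        (blockOf M (θ : ↥(Subgroup.centralizer ((D'.map H.subtype : Subgroup G) : Set G)) → ℂ)) :=
      ⟨⟨hD, θ, rfl⟩, hB, h⟩
    have h2 := (hmatch _).mp hpair
    rw [hdown] at h2
    have h3 := h2.2.2 _ ⟨ξ, hξ, rfl⟩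
    rw [brauerOmega_cSubEquiv H D' hX (blockCoeff c) (subgroupBlockCoeff H c) hβ ξ] at h3
    exact h3
  · intro h
    have hD' : IsPGroup p D' :=
      (hD.comap_of_injective _ (Subgroup.subtype_injective _)).to_le (Subgroup.le_comap_map _ _)
    have hpair : IsBrauerPairOf p M c (downT H D' hX
        (blockOf M (θ : ↥(Subgroup.centralizer ((D'.map H.subtype : Subgroup G) : Set G)) → ℂ))).1
        (downT H D' hX
        (blockOf M (θ : ↥(Subgroup.centralizer ((D'.map H.subtype : Subgroup G) : Set G)) → ℂ))).2 := by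
      rw [hdown]
      refine ⟨⟨hD', isPBlock_image_irrCongr _ _ ⟨θ, rfl⟩⟩, hc, ?_⟩
      rintro _ ⟨ξ, hξ, rfl⟩
      rw [brauerOmega_cSubEquiv H D' hX (blockCoeff c) (subgroupBlockCoeff H c) hβ ξ]
      exact h ξ hξ
    exact ((hmatch _).mpr hpair).2.2

end Cfsg.Agent.Lib.helper3.Block
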