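import Mathlib
import Cfsg.Agent.Lib.helper3.SP23

/-!
# The Brauer correspondence over a subgroup containing the normalizer of the defect group, II
-/

set_option autoImplicit false
set_option linter.style.haveILetI false
set_option linter.unusedSectionVars false

namespace Cfsg.Agent.Lib.helper3.Block

open Cfsg Module Cfsg.Agent.Lib.helper3.CharBasic Cfsg.Agent.Lib.helper3.Irr
open Cfsg.Agent.Lib.helper3.Central Cfsg.Agent.Lib.helper3.LocalM Cfsg.Agent.Lib.helper3.IndFun
open Cfsg.Agent.Lib.helper3.Lin
open scoped ComplexConjugate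

universe u

variable {G : Type u} [Group G] [Fintype G] {M : Ideal AlgInt}

set_option maxHeartbeats 1600000 in
open Classical in
theorem brauer_correspondence_over {p : ℕ} [hp : Fact p.Prime] (hM : IsPModular p M)
    (H : Subgroup G) [Fintype ↥H] (D' : Subgroup ↥H)
    (hD : IsPGroup p (D'.map H.subtype : Subgroup G))
    (hN : Subgroup.normalizer ((D'.map H.subtype : Subgroup G) : Set G) ≤ H) :
    (∀ B : Set (IrrCharacter G), IsPBlock M B → IsDefectGroup p M B (D'.map H.subtype) →
      ∃! c : Set (IrrCharacter H), IsPBlock M c ∧ IsDefectGroup p M c D' ∧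
        ∀ x : G, x ∈ Subgroup.centralizer ((D'.map H.subtype : Subgroup G) : Set G) →
          MemLocalIdeal M (blockCoeff B x - subgroupBlockCoeff H c x)) ∧
    (∀ c : Set (IrrCharacter H), IsPBlock M c → IsDefectGroup p M c D' →
      ∃! B : Set (IrrCharacter G), IsPBlock M B ∧ IsDefectGroup p M B (D'.map H.subtype) ∧
        ∀ x : G, x ∈ Subgroup.centralizer ((D'.map H.subtype : Subgroup G) : Set G) →
          MemLocalIdeal M (blockCoeff B x - subgroupBlockCoeff H c x)) := by
  haveI hMp := isPrime_of_isPModular hM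
  have hMtop : M ≠ ⊤ := hM.2.1.ne_top
  haveI i1 : Fintype ↥(Subgroup.centralizer (D' : Set ↥H)) := Fintype.ofFinite _
  haveI i2 : Fintype ↥(Subgroup.centralizer ((D'.map H.subtype : Subgroup G) : Set G)) :=
    Fintype.ofFinite _
  have hX : Subgroup.centralizer ((D'.map H.subtype : Subgroup G) : Set G) ≤ H :=
    (Subgroup.centralizer_le_normalizer _).trans hN
  have hD' : IsPGroup p D' :=
    (hD.comap_of_injective _ (Subgroup.subtype_injective _)).to_le (Subgroup.le_comap_map _ _)
  have hdown : ∀ g : Set (IrrCharacter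
      ↥(Subgroup.centralizer ((D'.map H.subtype : Subgroup G) : Set G))),
      downT H D' hX g = ⟨D', irrCongr (cSubEquiv H D' hX) '' g⟩ := by
    intro g
    unfold downT
    congr 1
  constructor
  · intro B hB hBD
    obtain ⟨e, hBe⟩ := exists_isBrauerPairOf_of_isDefectGroup hM B hB _ hBD
    have hmaxe := isMaximalBrauerPair_of_isDefectGroup hM B _ e hBD hBe
    have he : IsPBlock M e := hBe.1.2
    have hpair : IsBrauerPair p M (downT H D' hX e).1 (downT H D' hX e).2 := by
      rw [hdown]
      exact ⟨hD', isPBlock_image_irrCongr _ e he⟩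
    obtain ⟨c, hce, hcuniq⟩ := Cfsg.Agent.S4657.result p M hM (downT H D' hX e).1
      (downT H D' hX e).2 hpair
    have hc : IsPBlock M c := hce.2.1
    have hmaxc : IsMaximalBrauerPair p M c (downT H D' hX e).1 (downT H D' hX e).2 := by
      refine ⟨hce, ?_⟩
      intro R' r' hR'r' hle
      have hle' : Relation.ReflTransGen (NormalSubpairRel p M) (downT H D' hX e) ⟨R', r'⟩ := hle
      have hup := reflTransGen_upT (M := M) (p := p) H (downT H D' hX e) ⟨R', r'⟩ hX hle'
      rw [upT_downT] at hup
      obtain ⟨R, r, hRr⟩ : ∃ (R : Subgroup G)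
          (r : Set (IrrCharacter (Subgroup.centralizer (R : Set G)))),
          upT H (⟨R', r'⟩ : BrauerPairIdx ↥H) = ⟨R, r⟩ := ⟨_, _, rfl⟩
      have hRmap : R = R'.map H.subtype := by
        have := upT_fst H (⟨R', r'⟩ : BrauerPairIdx ↥H)
        rw [hRr] at this
        exact this
      rw [hRr] at hup
      have hRr' : IsBrauerPair p M R r := isBrauerPair_of_reflTransGen hup hBe.1
      have hRB : IsBrauerPairOf p M B R r :=
        (Cfsg.Agent.S4658.result p M hM R _ r e hRr' hBe.1 hup B hB).mpr hBe
      have hRD : R = D'.map H.subtype := hmaxe.2 R r hRB hup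
      rw [hRmap] at hRD
      exact Subgroup.map_injective (Subgroup.subtype_injective H) hRD
    have hcD : IsDefectGroup p M c D' :=
      Cfsg.Agent.S4659.result p M hM c (downT H D' hX e).1 (downT H D' hX e).2 hmaxc
    have hcong := memLocalIdeal_blockCoeff_sub_of_common_pair hM H D' hN hX B hB hBD c hc hcD e
      hBe hce
    refine ⟨c, ⟨hc, hcD, hcong⟩, ?_⟩
    rintro c₂ ⟨hc₂, -, hcong₂⟩
    have := (isBrauerPairOf_downT_iff_of_congr hM H D' hX B hB c₂ hc₂ hcong₂ e he hD).mp hBe
    exact hcuniq c₂ this
  · intro c hc hcD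
    obtain ⟨e', hce'⟩ := exists_isBrauerPairOf_of_isDefectGroup hM c hc D' hcD
    obtain ⟨e, hedef⟩ : ∃ e : Set (IrrCharacter
        ↥(Subgroup.centralizer ((D'.map H.subtype : Subgroup G) : Set G))),
        e = irrCongr (cSubEquiv H D' hX).symm '' e' := ⟨_, rfl⟩
    have he : IsPBlock M e := by
      rw [hedef]
      exact isPBlock_image_irrCongr _ e' hce'.1.2
    have hee' : irrCongr (cSubEquiv H D' hX) '' e = e' := by
      rw [hedef]
      exact image_irrCongr_image_symm _ _
    have hdn : downT H D' hX e = ⟨D', e'⟩ := by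
      rw [hdown, hee']
    have hce : IsBrauerPairOf p M c (downT H D' hX e).1 (downT H D' hX e).2 := by
      rw [hdn]
      exact hce'
    obtain ⟨B, hBe, hBuniq⟩ := Cfsg.Agent.S4657.result p M hM (D'.map H.subtype) e ⟨hD, he⟩
    have hB : IsPBlock M B := hBe.2.1
    have hmaxc := isMaximalBrauerPair_of_isDefectGroup hM c D' e' hcD hce'
    have hmaxB : IsMaximalBrauerPair p M B (D'.map H.subtype) e := by
      refine ⟨hBe, ?_⟩
      intro R r hRr hle
      have hle' : Relation.ReflTransGen (NormalSubpairRel p M)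
          (⟨D'.map H.subtype, e⟩ : BrauerPairIdx G) ⟨R, r⟩ := hle
      by_contra hne
      have hDR : D'.map H.subtype ≤ R := fst_le_of_reflTransGen hle'
      have hlt : D'.map H.subtype < R := lt_of_le_of_ne hDR (fun h => hne h.symm)
      obtain ⟨S', hS'def⟩ : ∃ S' : Subgroup ↥H, S' = (R ⊓ Subgroup.normalizer
          ((D'.map H.subtype : Subgroup G) : Set G)).subgroupOf H := ⟨_, rfl⟩
      have hmapS : S'.map H.subtype
          = R ⊓ Subgroup.normalizer ((D'.map H.subtype : Subgroup G) : Set G) := by
        rw [hS'def]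
        exact Subgroup.map_subgroupOf_eq_of_le (inf_le_right.trans hN)
      have hDS : D'.map H.subtype ≤ S'.map H.subtype := by
        rw [hmapS]
        exact le_inf hDR Subgroup.le_normalizer
      have hSR : S'.map H.subtype ≤ R := by
        rw [hmapS]
        exact inf_le_left
      have hSN : S'.map H.subtype
          ≤ Subgroup.normalizer ((D'.map H.subtype : Subgroup G) : Set G) := by
        rw [hmapS]
        exact inf_le_right
      obtain ⟨s, hn, -⟩ := exists_normalSubpair_above hM R _ r e hRr.1 hle (S'.map H.subtype)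
        hDS hSR hSN
      have hXS : Subgroup.centralizer ((S'.map H.subtype : Subgroup G) : Set G) ≤ H :=
        (Subgroup.centralizer_le (by exact_mod_cast hDS)).trans hX
      haveI i3 : Fintype ↥(Subgroup.centralizer (S' : Set ↥H)) := Fintype.ofFinite _
      haveI i4 : Fintype ↥(Subgroup.centralizer ((S'.map H.subtype : Subgroup G) : Set G)) :=
        Fintype.ofFinite _
      have hn' := isNormalSubpair_downT H D' S' hX hXS e s hn
      rw [hee'] at hn'
      have hS'c : IsBrauerPairOf p M c S' (irrCongr (cSubEquiv H S' hXS) '' s) :=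
        (Cfsg.Agent.S4658.result p M hM S' D' _ e' hn'.2.1 hn'.1
          (Relation.ReflTransGen.single hn') c hc).mpr hce'
      have hSD : S' = D' := hmaxc.2 S' _ hS'c (Relation.ReflTransGen.single hn')
      obtain ⟨x, hxR, hxN, hxD⟩ := exists_normalizing_of_lt R _ hRr.1.1 hlt
      apply hxD
      have hx : x ∈ S'.map H.subtype := by
        rw [hmapS]
        exact ⟨hxR, hxN⟩
      rw [hSD] at hx
      exact hx
    have hBD : IsDefectGroup p M B (D'.map H.subtype) :=
      Cfsg.Agent.S4659.result p M hM B _ e hmaxB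
    have hcong := memLocalIdeal_blockCoeff_sub_of_common_pair hM H D' hN hX B hB hBD c hc hcD e
      hBe hce
    refine ⟨B, ⟨hB, hBD, hcong⟩, ?_⟩
    rintro B₂ ⟨hB₂, -, hcong₂⟩
    have := (isBrauerPairOf_downT_iff_of_congr hM H D' hX B₂ hB₂ c hc hcong₂ e he hD).mpr hce
    exact hBuniq B₂ this

end Cfsg.Agent.Lib.helper3.Block
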