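import Mathlib
import Cfsg.Prelude.Def_BlockFusion
import Cfsg.Agent.Lib.helper3.SP24
import Cfsg.Agent.Lib.helper3.Weight3

/-!
# The fusion system of a block: construction
-/

set_option autoImplicit false
set_option linter.style.haveILetI false
set_option linter.unusedSectionVars false

namespace Cfsg.Agent.Lib.helper3.Block

open Cfsg Module Cfsg.Agent.Lib.helper3.CharBasic Cfsg.Agent.Lib.helper3.Irr
open Cfsg.Agent.Lib.helper3.Central Cfsg.Agent.Lib.helper3.LocalM Cfsg.Agent.Lib.helper3.IndFun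
open Cfsg.Agent.Lib.helper3.Lin
open scoped ComplexConjugate

universe u

variable {G : Type u} [Group G] [Fintype G] {M : Ideal AlgInt}

/-- Two pairs below a third one are comparable as soon as their subgroups are. -/
theorem le_of_le_of_le_of_fst_le {p : ℕ} [hp : Fact p.Prime] (hM : IsPModular p M)
    {a b c : BrauerPairIdx G} (hc : IsBrauerPair p M c.1 c.2)
    (hac : Relation.ReflTransGen (NormalSubpairRel p M) a c)
    (hbc : Relation.ReflTransGen (NormalSubpairRel p M) b c) (hab : a.1 ≤ b.1) :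
    Relation.ReflTransGen (NormalSubpairRel p M) a b := by
  have hb : IsBrauerPair p M b.1 b.2 := isBrauerPair_of_reflTransGen_left hbc hc
  obtain ⟨f, hf, hle⟩ := exists_subpair hM b.1 b.2 hb _ a.1 hab rfl
  have hle' : Relation.ReflTransGen (NormalSubpairRel p M) (⟨a.1, f⟩ : BrauerPairIdx G) b := hle
  have h1 := subpair_unique hM _ c rfl (⟨a.1, f⟩ : BrauerPairIdx G) a (hle'.trans hbc) hac rfl
  rw [← h1]
  exact hle'

/-- An element of `P` fixes the pair `(P, e)`. -/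
theorem conjIdx_eq_of_mem [hMp : M.IsPrime] (P : Subgroup G)
    (e : Set (IrrCharacter (Subgroup.centralizer (P : Set G)))) (he : IsPBlock M e) (g : G)
    (hg : g ∈ P) : conjIdx g (⟨P, e⟩ : BrauerPairIdx G) = ⟨P, e⟩ :=
  conjIdx_eq_of_stabilizesBlock P e he g (Subgroup.le_normalizer hg)
    (stabilizesBlock_of_mem_base P e g hg)

/-- The maps of the fusion system of a block. -/
def blockHom (p : ℕ) (M : Ideal AlgInt) (P : Subgroup G)
    (e : Set (IrrCharacter (Subgroup.centralizer (P : Set G)))) (Q : Subgroup G) :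
    Set (Q →* G) :=
  {φ | Q ≤ P ∧ ∃ g : G, (∀ u : Q, φ u = g * (u : G) * g⁻¹) ∧
    Q.map (MulAut.conj g).toMonoidHom ≤ P ∧
    ∃ f : Set (IrrCharacter (Subgroup.centralizer (Q : Set G))),
      SubpairLE p M Q f P e ∧
        SubpairLE p M (Q.map (MulAut.conj g).toMonoidHom) (conjBlock Q g f) P e}

theorem range_eq_map_conj (Q : Subgroup G) (φ : Q →* G) (g : G)
    (h : ∀ u : Q, φ u = g * (u : G) * g⁻¹) : φ.range = Q.map (MulAut.conj g).toMonoidHom := by
  ext y
  constructor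
  · rintro ⟨u, rfl⟩
    exact ⟨u, u.2, (h u).symm⟩
  · rintro ⟨q, hq, rfl⟩
    exact ⟨⟨q, hq⟩, h _⟩

/-- The fusion system of a block on a Brauer pair. -/
noncomputable def blockFusion {p : ℕ} [hp : Fact p.Prime] (hM : IsPModular p M) (P : Subgroup G)
    (e : Set (IrrCharacter (Subgroup.centralizer (P : Set G)))) (hPe : IsBrauerPair p M P e) :
    FusionSystem P where
  Hom Q := blockHom p M P e Q
  le_of_mem := by
    rintro Q φ ⟨hQP, g, hg, hQg, -⟩
    refine ⟨hQP, fun x => ?_⟩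
    rw [hg x]
    exact hQg ⟨x, x.2, rfl⟩
  injective_of_mem := by
    rintro Q φ ⟨-, g, hg, -⟩ a b hab
    have h : g * (a : G) * g⁻¹ = g * (b : G) * g⁻¹ := ((hg a).symm.trans hab).trans (hg b)
    exact Subtype.ext (mul_left_cancel (mul_right_cancel h))
  conj_mem := by
    intro Q g hQP hg
    haveI hMp := isPrime_of_isPModular hM
    obtain ⟨f, -, hle⟩ := exists_subpair hM P e hPe _ Q hQP rfl
    have hle' : Relation.ReflTransGen (NormalSubpairRel p M) (⟨Q, f⟩ : BrauerPairIdx G) ⟨P, e⟩ :=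
      hle
    have h1 := reflTransGen_conjIdx (M := M) (p := p) g hle'
    rw [conjIdx_eq_of_mem P e hPe.2 g hg] at h1
    refine ⟨hQP, g, fun u => rfl, ?_, f, hle, h1⟩
    exact fst_le_of_reflTransGen h1
  comp_mem := by
    rintro Q₁ Q₂ φ ψ ⟨hQ₁P, g, hg, hQ₁g, f₁, hle₁, hle₁g⟩ ⟨hQ₂P, k, hk, hQ₂k, f₂, hle₂, hle₂k⟩ h
    have hle₁' : Relation.ReflTransGen (NormalSubpairRel p M)
      (conjIdx g (⟨Q₁, f₁⟩ : BrauerPairIdx G)) ⟨P, e⟩ := hle₁g
    have hle₂' : Relation.ReflTransGen (NormalSubpairRel p M) (⟨Q₂, f₂⟩ : BrauerPairIdx G)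
      ⟨P, e⟩ := hle₂
    have hle₂k' : Relation.ReflTransGen (NormalSubpairRel p M)
      (conjIdx k (⟨Q₂, f₂⟩ : BrauerPairIdx G)) ⟨P, e⟩ := hle₂k
    have hsub : (conjIdx g (⟨Q₁, f₁⟩ : BrauerPairIdx G)).1 ≤ Q₂ := by
      rintro _ ⟨q, hq, rfl⟩
      have := h ⟨q, hq⟩
      rw [hg] at this
      exact this
    have h1 := le_of_le_of_le_of_fst_le hM (c := (⟨P, e⟩ : BrauerPairIdx G)) hPe hle₁' hle₂' hsub
    have h2 := (reflTransGen_conjIdx (M := M) (p := p) k h1).trans hle₂k'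
    rw [conjIdx_mul] at h2
    refine ⟨hQ₁P, k * g, fun u => ?_, fst_le_of_reflTransGen h2, f₁, hle₁, h2⟩
    show ψ (φ.codRestrict Q₂ h u) = k * g * (u : G) * (k * g)⁻¹
    rw [hk]
    show k * φ u * k⁻¹ = _
    rw [hg, mul_inv_rev]
    simp only [mul_assoc]
  inv_mem := by
    rintro Q φ ⟨hQP, g, hg, hQg, f, hle, hleg⟩
    have hrange := range_eq_map_conj Q φ g hg
    have hleg' : Relation.ReflTransGen (NormalSubpairRel p M)
      (conjIdx g (⟨Q, f⟩ : BrauerPairIdx G)) ⟨P, e⟩ := hleg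
    obtain ⟨f', hf'⟩ := exists_snd_of_fst_eq (conjIdx g (⟨Q, f⟩ : BrauerPairIdx G)) φ.range
      hrange.symm
    have hback : conjIdx g⁻¹ (⟨φ.range, f'⟩ : BrauerPairIdx G) = ⟨Q, f⟩ := by
      rw [← hf', conjIdx_mul, inv_mul_cancel, conjIdx_one]
    have hle2 : Relation.ReflTransGen (NormalSubpairRel p M)
        (conjIdx g⁻¹ (⟨φ.range, f'⟩ : BrauerPairIdx G)) ⟨P, e⟩ := by
      rw [hback]
      exact hle
    refine ⟨conjHom φ.range g⁻¹, ⟨?_, g⁻¹, fun y => rfl, fst_le_of_reflTransGen hle2, f', ?_,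
      hle2⟩, ?_⟩
    · rw [hrange]
      exact hQg
    · show Relation.ReflTransGen (NormalSubpairRel p M) (⟨φ.range, f'⟩ : BrauerPairIdx G) ⟨P, e⟩
      rw [← hf']
      exact hleg'
    · intro x
      show g⁻¹ * φ x * g⁻¹⁻¹ = x
      rw [hg, inv_inv]
      simp only [mul_assoc, inv_mul_cancel, mul_one, inv_mul_cancel_left]

theorem isBlockFusionSystemOn_blockFusion {p : ℕ} [hp : Fact p.Prime] (hM : IsPModular p M)
    (B : Set (IrrCharacter G)) (P : Subgroup G)
    (e : Set (IrrCharacter (Subgroup.centralizer (P : Set G))))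
    (hmax : IsMaximalBrauerPair p M B P e) :
    IsBlockFusionSystemOn p M B P e (blockFusion hM P e hmax.1.1) :=
  ⟨hmax, fun _ _ => Iff.rfl⟩

end Cfsg.Agent.Lib.helper3.Block
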