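import Mathlib
import Cfsg.Agent.Lib.helper3.StableBlock2

/-!
# Defect groups of a block with the idempotent of a stable block of a normal subgroup
-/

set_option autoImplicit false
set_option linter.style.haveILetI false
set_option linter.unusedSectionVars false

namespace Cfsg.Agent.Lib.helper3.Block

open Cfsg Module Cfsg.Agent.Lib.helper3.CharBasic Cfsg.Agent.Lib.helper3.Irr
open Cfsg.Agent.Lib.helper3.Central Cfsg.Agent.Lib.helper3.LocalM Cfsg.Agent.Lib.helper3.IndFun
open Cfsg.Agent.Lib.helper3.Lin
open scoped ComplexConjugate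

section GroupCount

variable {G : Type*} [Group G]

/-- A Sylow subgroup of `C` covers the `p`-part of `C N / N`. -/
theorem relIndex_sylow_of_normal [Finite G] {p : ℕ} [hp : Fact p.Prime] (N C D : Subgroup G)
    [hN : N.Normal] (hDC : D ≤ C) (hcard : Nat.card D = p ^ (Nat.card C).factorization p) :
    N.relIndex D = p ^ (N.relIndex C).factorization p := by
  have h1 := card_eq_card_inf_mul_relIndex D N
  have h2 := card_eq_card_inf_mul_relIndex C N
  have hdvd1 : Nat.card (D ⊓ N : Subgroup G) ∣ Nat.card (C ⊓ N : Subgroup G) :=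
    Subgroup.card_dvd_of_le (inf_le_inf_right N hDC)
  have hdvd2 : N.relIndex D ∣ N.relIndex C := by
    rw [← Subgroup.relIndex_sup_right (H := D) (K := N),
      ← Subgroup.relIndex_sup_right (H := C) (K := N)]
    have := Subgroup.relIndex_mul_relIndex N (D ⊔ N) (C ⊔ N) le_sup_right
      (sup_le_sup_right hDC N)
    exact Dvd.intro _ this
  have hC0 : Nat.card C ≠ 0 := Nat.card_pos.ne'
  have ha'0 : Nat.card (C ⊓ N : Subgroup G) ≠ 0 := Nat.card_pos.ne'
  have hb'0 : N.relIndex C ≠ 0 := by
    intro h0
    rw [h0, mul_zero] at h2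
    exact hC0 h2
  obtain ⟨n, hn⟩ : ∃ n, n = (Nat.card C).factorization p := ⟨_, rfl⟩
  rw [← hn] at hcard
  have hab : Nat.card (D ⊓ N : Subgroup G) * N.relIndex D = p ^ n := by rw [← h1, hcard]
  obtain ⟨α, -, hα⟩ := (Nat.dvd_prime_pow hp.out).mp (Dvd.intro _ hab)
  obtain ⟨β, -, hβ⟩ := (Nat.dvd_prime_pow hp.out).mp (Dvd.intro_left _ hab)
  have hsum : α + β = n := by
    rw [hα, hβ, ← pow_add] at hab
    exact Nat.pow_right_injective hp.out.two_le hab
  have hα' : α ≤ (Nat.card (C ⊓ N : Subgroup G)).factorization p := by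
    rw [← hp.out.pow_dvd_iff_le_factorization ha'0, ← hα]
    exact hdvd1
  have hβ' : β ≤ (N.relIndex C).factorization p := by
    rw [← hp.out.pow_dvd_iff_le_factorization hb'0, ← hβ]
    exact hdvd2
  have hsum' : (Nat.card (C ⊓ N : Subgroup G)).factorization p + (N.relIndex C).factorization p
      = n := by
    rw [hn, h2, Nat.factorization_mul ha'0 hb'0]
    rfl
  have : β = (N.relIndex C).factorization p := by omega
  rw [hβ, this]

end GroupCount

variable {G : Type*} [Group G] [Fintype G] {M : Ideal AlgInt}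

open Classical in
/-- For a block of `G` with the idempotent of a stable block of the normal subgroup `N`, a defect
group `D` covers the `p`-part of `G / N`. -/
theorem relIndex_defectGroup_of_stable {p : ℕ} [hp : Fact p.Prime] (hM : IsPModular p M)
    (N : Subgroup G) [hN : N.Normal] [Fintype N]
    (c : Set (IrrCharacter N)) (hc : IsPBlock M c) (hst : ∀ x : G, StabilizesBlock N c x)
    (B : Set (IrrCharacter G)) (hB : IsPBlock M B)
    (hBc : ∀ g : G, blockCoeff B g = subgroupBlockCoeff N c g)
    (D : Subgroup G) (hD : IsDefectGroup p M B D) :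
    N.relIndex D = p ^ (N.index).factorization p := by
  haveI hMp := isPrime_of_isPModular hM
  have hMtop : M ≠ ⊤ := hM.2.1.ne_top
  have hS := conjStable_of_stabilizes N c hst
  have hcoef := blockCoeff_overSet N c hS
  have hBeq : B = overSet N c := by
    apply eq_of_blockCoeff_eq
    intro g
    rw [hBc, hcoef]
  obtain ⟨g, ⟨hloc, hnot, hω⟩, Q, hPQ⟩ := hD
  have hgN : g ∈ N := by
    by_contra hg
    apply hnot
    rw [hBc]
    unfold Cfsg.subgroupBlockCoeff
    rw [dif_neg hg]
    exact memLocalIdeal_zero hMtop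
  obtain ⟨g', hg'⟩ : ∃ g' : N, g' = ⟨g, hgN⟩ := ⟨_, rfl⟩
  have hgg' : (g' : G) = g := by rw [hg']
  have hcong : ∀ θ ∈ c, ¬ Cfsg.MemLocalIdeal M
      ((numClasses N g' : ℂ) * Cfsg.centralChar ((θ : Cfsg.IrrCharacter N) : N → ℂ) g') := by
    intro θ hθ hmem
    obtain ⟨χ, hχ⟩ := exists_irr_over N (θ : N → ℂ) θ.2
    have hχB : χ ∈ B := by
      rw [hBeq]
      exact ⟨θ, hθ, hχ⟩
    apply hω χ hχB
    have h1 := centralChar_eq_of_over N χ θ hχ g'
    rw [hgg'] at h1
    rw [h1]
    have h2 := memLocalIdeal_inducedCentralChar_sub_numClasses N c hc hS θ hθ g'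
    rw [hgg'] at h2
    have h3 := memLocalIdeal_add h2 hmem
    rw [sub_add_cancel] at h3
    exact h3
  obtain ⟨ξ, hcdef⟩ := id hc
  have hξ : ξ ∈ c := by
    rw [hcdef]
    exact sameBlock_refl hMtop _
  have hpt : ¬ p ∣ numClasses N g' := by
    intro hdvd
    apply hcong ξ hξ
    have h1 : Cfsg.MemLocalIdeal M ((numClasses N g' : ℂ)) := by
      have := memLocalIdeal_of_mem ((natCast_mem_iff hM (numClasses N g')).mpr hdvd) hMtop
      push_cast at this
      exact this
    rw [mul_comm]
    exact memLocalIdeal_mul_localRing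
      (memLocalRing_of_integral (isIntegral_centralChar ξ.2 g')) h1
  have hmul := numClasses_mul_relIndex N g'
  rw [hgg'] at hmul
  have hidx0 : N.index ≠ 0 := Subgroup.index_ne_zero_of_finite
  have hnc0 : numClasses N g' ≠ 0 := by
    intro h0
    rw [h0, zero_mul] at hmul
    exact hidx0 hmul.symm
  have hrel0 : N.relIndex (Subgroup.centralizer ({g} : Set G)) ≠ 0 := by
    intro h0
    rw [h0, mul_zero] at hmul
    exact hidx0 hmul.symm
  have hfac : (N.index).factorization p
      = (N.relIndex (Subgroup.centralizer ({g} : Set G))).factorization p := by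
    rw [← hmul, Nat.factorization_mul hnc0 hrel0]
    have : (numClasses N g').factorization p = 0 := Nat.factorization_eq_zero_of_not_dvd hpt
    show (numClasses N g').factorization p + _ = _
    rw [this, zero_add]
  rw [hfac]
  apply relIndex_sylow_of_normal N (Subgroup.centralizer ({g} : Set G)) D
  · rw [hPQ]
    exact Subgroup.map_subtype_le _
  · rw [hPQ, Subgroup.card_map_of_injective (Subgroup.subtype_injective _)]
    exact Q.card_eq_multiplicity

end Cfsg.Agent.Lib.helper3.Block
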