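import Mathlib
import Cfsg.Agent.Lib.helper3.SP30
import Cfsg.Agent.Lib.helper3.SP31
import Cfsg.Agent.Lib.helper3.MP3a

/-!
# The fusion system of a block: fully automized subgroups
-/

set_option autoImplicit false
set_option linter.style.haveILetI false
set_option linter.unusedSectionVars false

namespace Cfsg.Agent.Lib.helper3.Block

open Cfsg Module Cfsg.Agent.Lib.helper3.CharBasic Cfsg.Agent.Lib.helper3.Irr
open Cfsg.Agent.Lib.helper3.Central Cfsg.Agent.Lib.helper3.LocalM Cfsg.Agent.Lib.helper3.IndFun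
open Cfsg.Agent.Lib.helper3.Lin
open scoped ComplexConjugate

universe u

variable {G : Type u} [Group G] [Fintype G] {M : Ideal AlgInt}

/-- The conjugation action of a subgroup of the normalizer of `Q` on `Q`. -/
noncomputable def conjAut (Q T : Subgroup G) (hTN : T ≤ Subgroup.normalizer (Q : Set G)) :
    ↥T →* MulAut ↥Q :=
  Q.normalizerMonoidHom.comp (Subgroup.inclusion hTN)

theorem conjAut_coe (Q T : Subgroup G) (hTN : T ≤ Subgroup.normalizer (Q : Set G)) (t : ↥T)
    (x : ↥Q) : ((conjAut Q T hTN t x : ↥Q) : G) = (t : G) * (x : G) * (t : G)⁻¹ := rfl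

theorem conjAut_ker (Q T : Subgroup G) (hTN : T ≤ Subgroup.normalizer (Q : Set G)) :
    (conjAut Q T hTN).ker = (Subgroup.centralizer (Q : Set G)).subgroupOf T := by
  ext t
  rw [MonoidHom.mem_ker, Subgroup.mem_subgroupOf, Subgroup.mem_centralizer_iff]
  constructor
  · intro h q hq
    have h1 := congrArg (fun α : MulAut ↥Q => ((α ⟨q, hq⟩ : ↥Q) : G)) h
    beta_reduce at h1
    rw [conjAut_coe] at h1
    have h2 : (t : G) * q * (t : G)⁻¹ = q := h1
    calc q * (t : G) = ((t : G) * q * (t : G)⁻¹) * (t : G) := by rw [h2]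
      _ = (t : G) * q := by group
  · intro h
    apply MulEquiv.ext
    intro x
    apply Subtype.ext
    rw [conjAut_coe]
    show _ = (x : G)
    rw [← h (x : G) x.2]
    group

/-- The automorphism group of `Q` in the fusion system of a block is the image of the
stabilizer of the pair on `Q`. -/
theorem autGroup_eq_range {p : ℕ} [hp : Fact p.Prime] (hM : IsPModular p M)
    (B : Set (IrrCharacter G)) (P : Subgroup G)
    (e : Set (IrrCharacter (Subgroup.centralizer (P : Set G))))
    (hmax : IsMaximalBrauerPair p M B P e) (F : FusionSystem P)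
    (hF : IsBlockFusionSystemOn p M B P e F) (Q : Subgroup G)
    (f : Set (IrrCharacter (Subgroup.centralizer (Q : Set G)))) (hQP : Q ≤ P)
    (hf : IsPBlock M f) (hle : SubpairLE p M Q f P e) (T : Subgroup G)
    (hT : ∀ y : G, y ∈ T ↔ y ∈ Subgroup.normalizer (Q : Set G) ∧
      StabilizesBlock (Subgroup.centralizer (Q : Set G)) f y)
    (hTN : T ≤ Subgroup.normalizer (Q : Set G)) :
    F.autGroup Q = (conjAut Q T hTN).range := by
  haveI hMp := isPrime_of_isPModular hM
  have hle' : Relation.ReflTransGen (NormalSubpairRel p M) (⟨Q, f⟩ : BrauerPairIdx G) ⟨P, e⟩ := hle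
  have hset : {α : MulAut ↥Q | Q.subtype.comp α.toMonoidHom ∈ F.Hom Q}
      = ((conjAut Q T hTN).range : Set (MulAut ↥Q)) := by
    ext α
    constructor
    · intro hα
      rw [Set.mem_setOf_eq, hF.2 Q] at hα
      obtain ⟨-, g, hg, hQg, f', hlef', hleg⟩ := hα
      have hg' : ∀ u : ↥Q, ((α u : ↥Q) : G) = g * (u : G) * g⁻¹ := hg
      have hlef'' : Relation.ReflTransGen (NormalSubpairRel p M) (⟨Q, f'⟩ : BrauerPairIdx G)
        ⟨P, e⟩ := hlef'
      have hff : (⟨Q, f'⟩ : BrauerPairIdx G) = ⟨Q, f⟩ :=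
        subpair_unique hM _ ⟨P, e⟩ rfl _ _ hlef'' hle' rfl
      have hleg' : Relation.ReflTransGen (NormalSubpairRel p M)
          (conjIdx g (⟨Q, f⟩ : BrauerPairIdx G)) ⟨P, e⟩ := by
        rw [← hff]
        exact hleg
      have hgN : g ∈ Subgroup.normalizer (Q : Set G) := by
        rw [Subgroup.mem_normalizer_iff]
        intro h
        constructor
        · intro hh
          rw [← hg' ⟨h, hh⟩]
          exact (α ⟨h, hh⟩).2
        · intro hh
          obtain ⟨u, hu⟩ : ∃ u : ↥Q, α u = ⟨g * h * g⁻¹, hh⟩ := α.surjective _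
          have h1 := hg' u
          rw [hu] at h1
          have h2 : h = (u : G) := by
            have h3 : g * h * g⁻¹ = g * (u : G) * g⁻¹ := h1
            exact mul_left_cancel (mul_right_cancel h3)
          rw [h2]
          exact u.2
      have hfix : conjIdx g (⟨Q, f⟩ : BrauerPairIdx G) = ⟨Q, f⟩ :=
        subpair_unique hM _ ⟨P, e⟩ rfl _ _ hleg' hle' (map_conj_eq_of_mem_normalizer Q g hgN)
      obtain ⟨-, hgst⟩ := stabilizesBlock_of_conjIdx_eq Q f g hfix
      have hgT : g ∈ T := (hT g).mpr ⟨hgN, hgst⟩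
      refine ⟨⟨g, hgT⟩, ?_⟩
      apply MulEquiv.ext
      intro u
      apply Subtype.ext
      rw [conjAut_coe]
      exact (hg' u).symm
    · rintro ⟨t, rfl⟩
      rw [Set.mem_setOf_eq, hF.2 Q]
      obtain ⟨htN, htst⟩ := (hT t).mp t.2
      have hfix : conjIdx (t : G) (⟨Q, f⟩ : BrauerPairIdx G) = ⟨Q, f⟩ :=
        conjIdx_eq_of_stabilizesBlock Q f hf t htN htst
      have hle2 : Relation.ReflTransGen (NormalSubpairRel p M)
          (conjIdx (t : G) (⟨Q, f⟩ : BrauerPairIdx G)) ⟨P, e⟩ := by
        rw [hfix]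
        exact hle'
      exact ⟨hQP, t, fun u => rfl, fst_le_of_reflTransGen hle2, f, hle, hle2⟩
  unfold FusionSystem.autGroup
  rw [hset, Subgroup.closure_eq]

/-- The automorphisms of `Q` induced by `P` form the image of `N_P(Q)`. -/
theorem autInducedBy_eq_map (P Q T : Subgroup G)
    (hTN : T ≤ Subgroup.normalizer (Q : Set G))
    (hRT : P ⊓ Subgroup.normalizer (Q : Set G) ≤ T) :
    autInducedBy P Q
      = ((P ⊓ Subgroup.normalizer (Q : Set G)).subgroupOf T).map (conjAut Q T hTN) := by
  have hset : {α : MulAut ↥Q | ∃ g ∈ P, ∀ x : ↥Q, ((α x : ↥Q) : G) = g * (x : G) * g⁻¹}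
      = ((((P ⊓ Subgroup.normalizer (Q : Set G)).subgroupOf T).map (conjAut Q T hTN) :
        Subgroup (MulAut ↥Q)) : Set (MulAut ↥Q)) := by
    ext α
    constructor
    · rintro ⟨g, hgP, hg⟩
      have hgN : g ∈ Subgroup.normalizer (Q : Set G) := by
        rw [Subgroup.mem_normalizer_iff]
        intro h
        constructor
        · intro hh
          rw [← hg ⟨h, hh⟩]
          exact (α ⟨h, hh⟩).2
        · intro hh
          obtain ⟨u, hu⟩ : ∃ u : ↥Q, α u = ⟨g * h * g⁻¹, hh⟩ := α.surjective _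
          have h1 := hg u
          rw [hu] at h1
          have h2 : h = (u : G) := by
            have h3 : g * h * g⁻¹ = g * (u : G) * g⁻¹ := h1
            exact mul_left_cancel (mul_right_cancel h3)
          rw [h2]
          exact u.2
      have hgT : g ∈ T := hRT ⟨hgP, hgN⟩
      refine ⟨⟨g, hgT⟩, ?_, ?_⟩
      · show (⟨g, hgT⟩ : ↥T) ∈ (P ⊓ Subgroup.normalizer (Q : Set G)).subgroupOf T
        rw [Subgroup.mem_subgroupOf]
        exact ⟨hgP, hgN⟩
      · apply MulEquiv.ext
        intro u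
        apply Subtype.ext
        rw [conjAut_coe]
        exact (hg u).symm
    · rintro ⟨t, ht, rfl⟩
      have ht' : (t : G) ∈ P ⊓ Subgroup.normalizer (Q : Set G) := Subgroup.mem_subgroupOf.mp ht
      exact ⟨t, ht'.1, fun x => rfl⟩
  unfold autInducedBy
  rw [hset, Subgroup.closure_eq]

set_option maxHeartbeats 1600000 in
open Classical in
/-- If `N_P(Q)` is a defect group of the block of the stabilizer, `Q` is fully automized. -/
theorem isFullyAutomized_of_isDefectGroup {p : ℕ} [hp : Fact p.Prime] (hM : IsPModular p M)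
    (B : Set (IrrCharacter G)) (P : Subgroup G)
    (e : Set (IrrCharacter (Subgroup.centralizer (P : Set G))))
    (hmax : IsMaximalBrauerPair p M B P e) (F : FusionSystem P)
    (hF : IsBlockFusionSystemOn p M B P e F) (Q : Subgroup G)
    (f : Set (IrrCharacter (Subgroup.centralizer (Q : Set G)))) (hQP : Q ≤ P)
    (hf : IsPBlock M f) (hle : SubpairLE p M Q f P e) (T : Subgroup G)
    (hT : ∀ y : G, y ∈ T ↔ y ∈ Subgroup.normalizer (Q : Set G) ∧
      StabilizesBlock (Subgroup.centralizer (Q : Set G)) f y)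
    (F' : Set (IrrCharacter T)) (hF' : IsPBlock M F')
    (hF'f : ∀ t : T, blockCoeff F' t
      = subgroupBlockCoeff (Subgroup.centralizer (Q : Set G)) f (t : G))
    (hD : IsDefectGroup p M F' ((P ⊓ Subgroup.normalizer (Q : Set G)).subgroupOf T)) :
    F.IsFullyAutomized p Q := by
  haveI : Fintype ↥T := Fintype.ofFinite _
  haveI : Fintype ↥(Subgroup.centralizer (Q : Set G)) := Fintype.ofFinite _
  haveI : Fintype ↥((Subgroup.centralizer (Q : Set G)).subgroupOf T) := Fintype.ofFinite _
  haveI hMp := isPrime_of_isPModular hM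
  obtain ⟨hBe, -⟩ := id hmax
  obtain ⟨hPe, hB, -⟩ := id hBe
  have hTN : T ≤ Subgroup.normalizer (Q : Set G) := fun y hy => ((hT y).mp hy).1
  have hCT : Subgroup.centralizer (Q : Set G) ≤ T := by
    intro c hc
    rw [hT]
    exact ⟨Subgroup.centralizer_le_normalizer _ hc, stabilizesBlock_of_mem_self _ f c hc⟩
  obtain ⟨hRT, -⟩ := exists_maximal_ge_normalizerIn hM P Q e f hPe hQP hle T hT F' hF' hF'f
  refine ⟨hQP, ?_⟩
  rw [autGroup_eq_range hM B P e hmax F hF Q f hQP hf hle T hT hTN,
    autInducedBy_eq_map P Q T hTN hRT]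
  haveI hnorm : ((Subgroup.centralizer (Q : Set G)).subgroupOf T).Normal :=
    Subgroup.normal_subgroupOf_of_le_normalizer
      (hTN.trans (normalizer_le_normalizer_centralizer Q))
  have hL1 := relIndex_defectGroup_of_stable hM ((Subgroup.centralizer (Q : Set G)).subgroupOf T)
    (irrCongr (Subgroup.subgroupOfEquivOfLe hCT) '' f) (isPBlock_image_irrCongr _ f hf)
    (fun x => stabilizesBlock_subgroupOf _ T hCT f x ((hT x).mp x.2).2) F' hF'
    (fun t => by rw [hF'f, subgroupBlockCoeff_subgroupOf]) _ hD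
  have hker := conjAut_ker Q T hTN
  have hle_range : ((P ⊓ Subgroup.normalizer (Q : Set G)).subgroupOf T).map (conjAut Q T hTN)
      ≤ (conjAut Q T hTN).range := by
    rintro _ ⟨t, -, rfl⟩
    exact ⟨t, rfl⟩
  refine ⟨Sylow.ofCard ((((P ⊓ Subgroup.normalizer (Q : Set G)).subgroupOf T).map
    (conjAut Q T hTN)).subgroupOf (conjAut Q T hTN).range) ?_, Sylow.coe_ofCard _ _⟩
  rw [Nat.card_congr (Subgroup.subgroupOfEquivOfLe hle_range).toEquiv, ← Subgroup.relIndex_ker,
    ← Subgroup.index_ker, hker]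
  exact hL1

end Cfsg.Agent.Lib.helper3.Block
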