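import Mathlib
import Cfsg.Agent.Lib.helper3.SP32
import Cfsg.Agent.Lib.helper3.SP20

/-!
# The fusion system of a block: preparations for receptivity
-/

set_option autoImplicit false
set_option linter.style.haveILetI false
set_option linter.unusedSectionVars false

namespace Cfsg.Agent.Lib.helper3.Block

open Cfsg Module Cfsg.Agent.Lib.helper3.CharBasic Cfsg.Agent.Lib.helper3.Irr
open Cfsg.Agent.Lib.helper3.Central Cfsg.Agent.Lib.helper3.LocalM Cfsg.Agent.Lib.helper3.IndFun
open Cfsg.Agent.Lib.helper3.Lin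
open scoped ComplexConjugate

universe u

section GroupLemma

variable {G : Type u} [Group G]

/-- If `H` normalizes `N`, every element of `H ⊔ N` is a product. -/
theorem exists_mul_of_mem_sup_of_le_normalizer (H N : Subgroup G)
    (hHN : H ≤ Subgroup.normalizer (N : Set G)) (x : G) (hx : x ∈ H ⊔ N) :
    ∃ h ∈ H, ∃ n ∈ N, x = h * n := by
  let S : Subgroup G :=
    { carrier := {x | ∃ h ∈ H, ∃ n ∈ N, x = h * n}
      mul_mem' := by
        rintro _ _ ⟨h₁, hh₁, n₁, hn₁, rfl⟩ ⟨h₂, hh₂, n₂, hn₂, rfl⟩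
        refine ⟨h₁ * h₂, H.mul_mem hh₁ hh₂, h₂⁻¹ * n₁ * h₂ * n₂, ?_, by group⟩
        apply N.mul_mem _ hn₂
        have := (Subgroup.mem_normalizer_iff.mp (hHN (H.inv_mem hh₂)) n₁).mp hn₁
        rwa [inv_inv] at this
      one_mem' := ⟨1, H.one_mem, 1, N.one_mem, by simp⟩
      inv_mem' := by
        rintro _ ⟨h, hh, n, hn, rfl⟩
        refine ⟨h⁻¹, H.inv_mem hh, h * n⁻¹ * h⁻¹, ?_, by group⟩
        exact (Subgroup.mem_normalizer_iff.mp (hHN hh) n⁻¹).mp (N.inv_mem hn) }
  have hle : H ⊔ N ≤ S := by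
    apply sup_le
    · intro h hh
      exact ⟨h, hh, 1, N.one_mem, by simp⟩
    · intro n hn
      exact ⟨1, H.one_mem, n, hn, by simp⟩
  exact hle hx

end GroupLemma

variable {G : Type u} [Group G] [Fintype G] {M : Ideal AlgInt}

open Classical in
/-- The idempotent of `f` is a block idempotent of any subgroup between `Q C_G(Q)` and the
stabilizer of `(Q, f)`. -/
theorem exists_block_of_le_normalizer_stabilizer {p : ℕ} [hp : Fact p.Prime]
    (hM : IsPModular p M) (Q : Subgroup G) (hQ : IsPGroup p Q)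
    (f : Set (IrrCharacter (Subgroup.centralizer (Q : Set G)))) (hf : IsPBlock M f)
    (T : Subgroup G) (hTN : T ≤ Subgroup.normalizer (Q : Set G))
    (hTst : ∀ y ∈ T, StabilizesBlock (Subgroup.centralizer (Q : Set G)) f y)
    (hCT : Subgroup.centralizer (Q : Set G) ≤ T) (hQT : Q ≤ T) :
    ∃ F : Set (IrrCharacter T), IsPBlock M F ∧
      ∀ t : T, blockCoeff F t = subgroupBlockCoeff (Subgroup.centralizer (Q : Set G)) f (t : G) := by
  haveI : Fintype (Subgroup.centralizer (Q : Set G)) := Fintype.ofFinite _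
  haveI : Fintype ↥(Subgroup.normalizer (Q : Set G)) := Fintype.ofFinite _
  haveI : Fintype (Subgroup.centralizer (pInN Q : Set ↥(Subgroup.normalizer (Q : Set G)))) :=
    Fintype.ofFinite _
  haveI : Fintype T := Fintype.ofFinite _
  haveI hMp := isPrime_of_isPModular hM
  obtain ⟨e', he'def⟩ : ∃ e' : Set (IrrCharacter
      (Subgroup.centralizer (pInN Q : Set ↥(Subgroup.normalizer (Q : Set G))))),
      e' = irrCongr (cEquiv Q) '' f := ⟨_, rfl⟩
  have he' : IsPBlock M e' := by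
    rw [he'def]
    exact isPBlock_image_irrCongr (cEquiv Q) f hf
  obtain ⟨T₀, hT₀def⟩ : ∃ T₀ : Subgroup ↥(Subgroup.normalizer (Q : Set G)),
      T₀ = T.subgroupOf (Subgroup.normalizer (Q : Set G)) := ⟨_, rfl⟩
  haveI : Fintype T₀ := Fintype.ofFinite _
  have hT₀ : ∀ t ∈ T₀,
      StabilizesBlock (Subgroup.centralizer (pInN Q : Set ↥(Subgroup.normalizer (Q : Set G))))
        e' t := by
    intro t ht
    rw [hT₀def, Subgroup.mem_subgroupOf] at ht
    rw [he'def]
    exact stabilizesBlock_pInN_of Q f t (hTst _ ht)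
  have hNT₀ : Subgroup.centralizer (pInN Q : Set ↥(Subgroup.normalizer (Q : Set G))) ≤ T₀ := by
    intro c hc
    rw [hT₀def, Subgroup.mem_subgroupOf]
    exact hCT ((mem_centralizer_pInN_iff Q c).mp hc)
  have hcent : ∀ t ∈ T₀, (∀ u ∈ pInN Q, u ∈ T₀ → u * t = t * u) →
      t ∈ Subgroup.centralizer (pInN Q : Set ↥(Subgroup.normalizer (Q : Set G))) := by
    intro t _ h
    rw [Subgroup.mem_centralizer_iff]
    intro u hu
    apply h u hu
    rw [hT₀def, Subgroup.mem_subgroupOf]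
    apply hQT
    have : u ∈ Q.subgroupOf (Subgroup.normalizer (Q : Set G)) := hu
    rwa [Subgroup.mem_subgroupOf] at this
  obtain ⟨E₀, hE₀, hE₀c⟩ := exists_block_of_le_stabilizer hM (pInN Q) hQ.comap_subtype
    (Subgroup.centralizer (pInN Q : Set ↥(Subgroup.normalizer (Q : Set G)))) e' he' T₀ hT₀ hNT₀
    hcent
  obtain ⟨κ, hκ⟩ : ∃ κ : ↥T₀ ≃* ↥T, ∀ s : T₀,
      ((κ s : T) : G) = ((s : ↥(Subgroup.normalizer (Q : Set G))) : G) := by
    subst hT₀def
    exact ⟨Subgroup.subgroupOfEquivOfLe hTN, fun s => rfl⟩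
  refine ⟨irrCongr κ.symm '' E₀, isPBlock_image_irrCongr _ E₀ hE₀, ?_⟩
  intro t
  rw [blockCoeff_image_irrCongr, hE₀c, he'def, subgroupBlockCoeff_pInN, ← hκ,
    MulEquiv.apply_symm_apply]

end Cfsg.Agent.Lib.helper3.Block
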