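import Mathlib
import Cfsg.Agent.Lib.helper3.SP33
import Cfsg.Agent.S4660

/-!
# The fusion system of a block: conjugation into `N_P(Q)` by the centralizer
-/

set_option autoImplicit false
set_option linter.style.haveILetI false
set_option linter.unusedSectionVars false

namespace Cfsg.Agent.Lib.helper3.Block

open Cfsg Module Cfsg.Agent.Lib.helper3.CharBasic Cfsg.Agent.Lib.helper3.Irr
open Cfsg.Agent.Lib.helper3.Central Cfsg.Agent.Lib.helper3.LocalM Cfsg.Agent.Lib.helper3.IndFun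
open Cfsg.Agent.Lib.helper3.Lin
open scoped ComplexConjugate

universe u

variable {G : Type u} [Group G] [Fintype G] {M : Ideal AlgInt}

set_option maxHeartbeats 3200000 in
open Classical in
/-- If `N_P(Q)` is a defect group of the block of the stabilizer of `(Q, f)`, every pair above
`(Q, f)` on a subgroup of `N_P(Q) C_G(Q)` is conjugate into `(P, e)` by an element of
`C_G(Q)`. -/
theorem exists_centralizer_conj_le {p : ℕ} [hp : Fact p.Prime] (hM : IsPModular p M)
    (B : Set (IrrCharacter G)) (P : Subgroup G)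
    (e : Set (IrrCharacter (Subgroup.centralizer (P : Set G))))
    (hmax : IsMaximalBrauerPair p M B P e) (Q : Subgroup G)
    (f : Set (IrrCharacter (Subgroup.centralizer (Q : Set G)))) (hQP : Q ≤ P)
    (hf : IsPBlock M f) (hle : SubpairLE p M Q f P e) (T : Subgroup G)
    (hT : ∀ y : G, y ∈ T ↔ y ∈ Subgroup.normalizer (Q : Set G) ∧
      StabilizesBlock (Subgroup.centralizer (Q : Set G)) f y)
    (F' : Set (IrrCharacter T)) (hF' : IsPBlock M F')
    (hF'f : ∀ t : T, blockCoeff F' t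
      = subgroupBlockCoeff (Subgroup.centralizer (Q : Set G)) f (t : G))
    (hD : IsDefectGroup p M F' ((P ⊓ Subgroup.normalizer (Q : Set G)).subgroupOf T))
    (bY : BrauerPairIdx G) (hbY : IsBrauerPair p M bY.1 bY.2)
    (hqY : Relation.ReflTransGen (NormalSubpairRel p M) (⟨Q, f⟩ : BrauerPairIdx G) bY)
    (hYX : bY.1 ≤ (P ⊓ Subgroup.normalizer (Q : Set G)) ⊔ Subgroup.centralizer (Q : Set G)) :
    ∃ c ∈ Subgroup.centralizer (Q : Set G),
      Relation.ReflTransGen (NormalSubpairRel p M) (conjIdx c bY) (⟨P, e⟩ : BrauerPairIdx G) := by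
  haveI : Fintype ↥T := Fintype.ofFinite _
  haveI : Fintype ↥(Subgroup.centralizer (Q : Set G)) := Fintype.ofFinite _
  haveI hMp := isPrime_of_isPModular hM
  obtain ⟨hBe, -⟩ := id hmax
  obtain ⟨hPe, hB, -⟩ := id hBe
  have hQp : IsPGroup p Q := hPe.1.to_le hQP
  have hle' : Relation.ReflTransGen (NormalSubpairRel p M) (⟨Q, f⟩ : BrauerPairIdx G) ⟨P, e⟩ := hle
  have hTN : T ≤ Subgroup.normalizer (Q : Set G) := fun y hy => ((hT y).mp hy).1
  have hCT : Subgroup.centralizer (Q : Set G) ≤ T := by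
    intro c hc
    rw [hT]
    exact ⟨Subgroup.centralizer_le_normalizer _ hc, stabilizesBlock_of_mem_self _ f c hc⟩
  obtain ⟨hRT, -⟩ := exists_maximal_ge_normalizerIn hM P Q e f hPe hQP hle T hT F' hF' hF'f
  obtain ⟨NP, hNP⟩ : ∃ NP : Subgroup G, NP = P ⊓ Subgroup.normalizer (Q : Set G) := ⟨_, rfl⟩
  rw [← hNP] at hRT hYX hD
  obtain ⟨X, hXdef⟩ : ∃ X : Subgroup G, X = NP ⊔ Subgroup.centralizer (Q : Set G) := ⟨_, rfl⟩
  rw [← hXdef] at hYX
  have hXT : X ≤ T := by
    rw [hXdef]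
    exact sup_le hRT hCT
  have hCX : Subgroup.centralizer (Q : Set G) ≤ X := by
    rw [hXdef]
    exact le_sup_right
  have hNPX : NP ≤ X := by
    rw [hXdef]
    exact le_sup_left
  have hQNP : Q ≤ NP := by
    rw [hNP]
    exact le_inf hQP Subgroup.le_normalizer
  have hQX : Q ≤ X := hQNP.trans hNPX
  have hXN : X ≤ Subgroup.normalizer (Q : Set G) := hXT.trans hTN
  have hXst : ∀ y ∈ X, StabilizesBlock (Subgroup.centralizer (Q : Set G)) f y :=
    fun y hy => ((hT y).mp (hXT hy)).2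
  haveI : Fintype ↥X := Fintype.ofFinite _
  obtain ⟨FX, hFX, hFXf⟩ := exists_block_of_le_normalizer_stabilizer hM Q hQp f hf X hXN hXst hCX
    hQX
  have hcentX : ∀ D : Subgroup G, Q ≤ D → Subgroup.centralizer (D : Set G) ≤ X :=
    fun D hQD => (Subgroup.centralizer_le (by exact_mod_cast hQD)).trans hCX
  -- the pair on `N_P(Q)`
  obtain ⟨D₁', hD₁'⟩ : ∃ D₁' : Subgroup ↥X, D₁' = NP.subgroupOf X := ⟨_, rfl⟩
  have hD₁map : D₁'.map X.subtype = NP := by
    rw [hD₁']
    exact Subgroup.map_subgroupOf_eq_of_le hNPX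
  have hD₁P : D₁'.map X.subtype ≤ P := by
    rw [hD₁map, hNP]
    exact inf_le_left
  obtain ⟨e₁, he₁, hle₁⟩ := exists_subpair hM P e hPe _ (D₁'.map X.subtype) hD₁P rfl
  have hle₁' : Relation.ReflTransGen (NormalSubpairRel p M)
    (⟨D₁'.map X.subtype, e₁⟩ : BrauerPairIdx G) ⟨P, e⟩ := hle₁
  have hQD₁ : Q ≤ D₁'.map X.subtype := by
    rw [hD₁map]
    exact hQNP
  have hq₁ : Relation.ReflTransGen (NormalSubpairRel p M) (⟨Q, f⟩ : BrauerPairIdx G)
      ⟨D₁'.map X.subtype, e₁⟩ :=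
    le_of_le_of_le_of_fst_le hM (c := (⟨P, e⟩ : BrauerPairIdx G)) hPe hle' hle₁' hQD₁
  have ha₁ : IsBrauerPair p M (D₁'.map X.subtype) e₁ := ⟨hPe.1.to_le hD₁P, he₁⟩
  have hn₁ : IsNormalSubpair p M Q f (D₁'.map X.subtype) e₁ :=
    normalSubpairRel_of_reflTransGen hM (⟨Q, f⟩ : BrauerPairIdx G) ⟨D₁'.map X.subtype, e₁⟩ ha₁
      hq₁ (by
        show D₁'.map X.subtype ≤ _
        rw [hD₁map, hNP]
        exact inf_le_right)
  have hX₁ := hcentX _ hQD₁
  have hpair₁ := isBrauerPairOf_downT Q f X D₁' hX₁ FX hFX hFXf e₁ hn₁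
  obtain ⟨bX, hbmax, hab⟩ := exists_maximal_above (M := M) (p := p) FX _
    (downT X D₁' hX₁ e₁) rfl hpair₁
  -- the pair on `Y`
  obtain ⟨D₂', hD₂'⟩ : ∃ D₂' : Subgroup ↥X, D₂' = bY.1.subgroupOf X := ⟨_, rfl⟩
  have hD₂map : D₂'.map X.subtype = bY.1 := by
    rw [hD₂']
    exact Subgroup.map_subgroupOf_eq_of_le hYX
  obtain ⟨e₂, he₂⟩ := exists_snd_of_fst_eq bY (D₂'.map X.subtype) hD₂map.symm
  have hQD₂ : Q ≤ D₂'.map X.subtype := by
    rw [hD₂map]
    exact fst_le_of_reflTransGen hqY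
  have hX₂ := hcentX _ hQD₂
  have hn₂ : IsNormalSubpair p M Q f (D₂'.map X.subtype) e₂ := by
    have h1 := normalSubpairRel_of_reflTransGen hM (⟨Q, f⟩ : BrauerPairIdx G) bY hbY hqY
      (hYX.trans hXN)
    rw [he₂] at h1
    exact h1
  have hpair₂ := isBrauerPairOf_downT Q f X D₂' hX₂ FX hFX hFXf e₂ hn₂
  -- conjugation inside `X`
  obtain ⟨x, hx⟩ := Cfsg.Agent.S4660.result p M hM FX bX.1 (downT X D₂' hX₂ e₂).1 bX.2
    (downT X D₂' hX₂ e₂).2 hbmax hpair₂
  have hx' : Relation.ReflTransGen (NormalSubpairRel p M)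
    (conjIdx x (downT X D₂' hX₂ e₂)) bX := hx
  have hXc : Subgroup.centralizer ((((conjIdx x (downT X D₂' hX₂ e₂)).1).map X.subtype :
      Subgroup G) : Set G) ≤ X := by
    show Subgroup.centralizer ((((D₂'.map (MulAut.conj x).toMonoidHom).map X.subtype :
      Subgroup G)) : Set G) ≤ X
    rw [map_subtype_map_conj]
    exact centralizer_map_conj_le X x x.2 _ hX₂
  have h1 := reflTransGen_upT X _ bX hXc hx'
  rw [upT_conjIdx X x _ hX₂, upT_downT, ← he₂] at h1
  have h2 := reflTransGen_upT X _ bX hX₁ hab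
  rw [upT_downT] at h2
  -- identification of the maximal pair
  have hRX : (upT X bX).1 ≤ X := by
    rw [upT_fst]
    exact Subgroup.map_subtype_le _
  have hD₁R : D₁'.map X.subtype ≤ (upT X bX).1 := fst_le_of_reflTransGen h2
  have hqR : Relation.ReflTransGen (NormalSubpairRel p M) (⟨Q, f⟩ : BrauerPairIdx G)
    (upT X bX) := hq₁.trans h2
  have hbR : IsBrauerPair p M (upT X bX).1 (upT X bX).2 := isBrauerPair_of_reflTransGen h2 ha₁
  obtain ⟨D₃', hD₃'⟩ : ∃ D₃' : Subgroup ↥T, D₃' = (upT X bX).1.subgroupOf T := ⟨_, rfl⟩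
  have hD₃map : D₃'.map T.subtype = (upT X bX).1 := by
    rw [hD₃']
    exact Subgroup.map_subgroupOf_eq_of_le (hRX.trans hXT)
  obtain ⟨e₃, he₃⟩ := exists_snd_of_fst_eq (upT X bX) (D₃'.map T.subtype) hD₃map.symm
  have hQD₃ : Q ≤ D₃'.map T.subtype := by
    rw [hD₃map]
    exact fst_le_of_reflTransGen hqR
  have hX₃ : Subgroup.centralizer ((D₃'.map T.subtype : Subgroup G) : Set G) ≤ T :=
    (Subgroup.centralizer_le (by exact_mod_cast hQD₃)).trans hCT
  have hn₃ : IsNormalSubpair p M Q f (D₃'.map T.subtype) e₃ := by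
    have h3 := normalSubpairRel_of_reflTransGen hM (⟨Q, f⟩ : BrauerPairIdx G) (upT X bX) hbR hqR
      (hRX.trans hXN)
    rw [he₃] at h3
    exact h3
  have hpair₃ := isBrauerPairOf_downT Q f T D₃' hX₃ F' hF' hF'f e₃ hn₃
  obtain ⟨m, hm, hlem⟩ := exists_maximal_above (M := M) (p := p) F' _
    (downT T D₃' hX₃ e₃) rfl hpair₃
  have hmD := Cfsg.Agent.S4659.result p M hM F' m.1 m.2 hm
  have hc1 := Cfsg.Agent.S0908.result p M hM F' hF' m.1 hmD
  have hc2 := Cfsg.Agent.S0908.result p M hM F' hF' _ hD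
  have hD₃m : D₃' ≤ m.1 := fst_le_of_reflTransGen' hlem
  have hcardR : Nat.card (upT X bX).1 ≤ Nat.card NP := by
    have e1 : Nat.card (upT X bX).1 = Nat.card D₃' := by
      rw [← hD₃map, Subgroup.card_map_of_injective (Subgroup.subtype_injective T)]
    have e2 : Nat.card (NP.subgroupOf T) = Nat.card NP :=
      Nat.card_congr (Subgroup.subgroupOfEquivOfLe hRT).toEquiv
    rw [e1, ← e2, hc2, ← hc1]
    exact Subgroup.card_le_of_le hD₃m
  have hReq : D₁'.map X.subtype = (upT X bX).1 :=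
    Subgroup.eq_of_le_of_card_ge hD₁R (by rw [hD₁map]; exact hcardR)
  have heq := eq_of_reflTransGen_of_fst_eq hM h2 hReq
  rw [← heq] at h1
  -- decomposition of `x`
  have hNPC : NP ≤ Subgroup.normalizer
      ((Subgroup.centralizer (Q : Set G) : Subgroup G) : Set G) := by
    rw [hNP]
    exact inf_le_right.trans (normalizer_le_normalizer_centralizer Q)
  obtain ⟨u, hu, c, hc, hxuc⟩ := exists_mul_of_mem_sup_of_le_normalizer NP
    (Subgroup.centralizer (Q : Set G)) hNPC (x : G) (by rw [← hXdef]; exact x.2)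
  refine ⟨c, hc, ?_⟩
  rw [hxuc, ← conjIdx_mul] at h1
  have h3 := reflTransGen_conjIdx (M := M) (p := p) u⁻¹ h1
  rw [conjIdx_mul, inv_mul_cancel, conjIdx_one,
    conjIdx_eq_of_mem (D₁'.map X.subtype) e₁ he₁ u⁻¹
      (by rw [hD₁map]; exact NP.inv_mem hu)] at h3
  exact h3.trans hle₁'

end Cfsg.Agent.Lib.helper3.Block
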