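import Mathlib
import Cfsg.Agent.Lib.helper3.SP34

/-!
# The fusion system of a block: receptive subgroups and saturation
-/

set_option autoImplicit false
set_option linter.style.haveILetI false
set_option linter.unusedSectionVars false

namespace Cfsg.Agent.Lib.helper3.Block

open Cfsg Module Cfsg.Agent.Lib.helper3.CharBasic Cfsg.Agent.Lib.helper3.Irr
open Cfsg.Agent.Lib.helper3.Central Cfsg.Agent.Lib.helper3.LocalM Cfsg.Agent.Lib.helper3.IndFun
open Cfsg.Agent.Lib.helper3.Lin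
open scoped ComplexConjugate

universe u

variable {G : Type u} [Group G] [Fintype G] {M : Ideal AlgInt}

set_option maxHeartbeats 3200000 in
open Classical in
/-- If `N_P(Q)` is a defect group of the block of the stabilizer, `Q` is receptive. -/
theorem isReceptive_of_isDefectGroup {p : ℕ} [hp : Fact p.Prime] (hM : IsPModular p M)
    (B : Set (IrrCharacter G)) (P : Subgroup G)
    (e : Set (IrrCharacter (Subgroup.centralizer (P : Set G))))
    (hmax : IsMaximalBrauerPair p M B P e) (F : FusionSystem P)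
    (hF : IsBlockFusionSystemOn p M B P e F) (Q : Subgroup G)
    (f : Set (IrrCharacter (Subgroup.centralizer (Q : Set G)))) (hQP : Q ≤ P)
    (hf : IsPBlock M f) (hle : SubpairLE p M Q f P e) (T : Subgroup G)
    (hT : ∀ y : G, y ∈ T ↔ y ∈ Subgroup.normalizer (Q : Set G) ∧
      StabilizesBlock (Subgroup.centralizer (Q : Set G)) f y)
    (F' : Set (IrrCharacter T)) (hF' : IsPBlock M F')
    (hF'f : ∀ t : T, blockCoeff F' t
      = subgroupBlockCoeff (Subgroup.centralizer (Q : Set G)) f (t : G))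
    (hD : IsDefectGroup p M F' ((P ⊓ Subgroup.normalizer (Q : Set G)).subgroupOf T)) :
    F.IsReceptive Q := by
  haveI hMp := isPrime_of_isPModular hM
  obtain ⟨hBe, -⟩ := id hmax
  obtain ⟨hPe, hB, -⟩ := id hBe
  have hQp : IsPGroup p Q := hPe.1.to_le hQP
  have hle' : Relation.ReflTransGen (NormalSubpairRel p M) (⟨Q, f⟩ : BrauerPairIdx G) ⟨P, e⟩ := hle
  refine ⟨hQP, ?_⟩
  intro R φ hφ hrange
  obtain ⟨hRP, g, hg, hRg, fR, hleR, hleRg⟩ := (hF.2 R φ).mp hφ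
  have hQeq : R.map (MulAut.conj g).toMonoidHom = Q := by
    rw [← range_eq_map_conj R φ g hg, hrange]
  have hleR' : Relation.ReflTransGen (NormalSubpairRel p M) (⟨R, fR⟩ : BrauerPairIdx G)
    ⟨P, e⟩ := hleR
  have hleRg' : Relation.ReflTransGen (NormalSubpairRel p M)
    (conjIdx g (⟨R, fR⟩ : BrauerPairIdx G)) ⟨P, e⟩ := hleRg
  have hconjR : conjIdx g (⟨R, fR⟩ : BrauerPairIdx G) = ⟨Q, f⟩ :=
    subpair_unique hM _ ⟨P, e⟩ rfl _ _ hleRg' hle' hQeq
  have hmemQ : ∀ x : ↥R, g * (x : G) * g⁻¹ ∈ Q := by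
    intro x
    rw [← hQeq]
    exact ⟨x, x.2, rfl⟩
  obtain ⟨Nφ, hNφ⟩ : ∃ Nφ : Subgroup G, Nφ = FusionSystem.extender P R φ := ⟨_, rfl⟩
  rw [← hNφ]
  -- analysis of the generators
  have hgen : ∀ y : G, (y ∈ P ∧ y ∈ Subgroup.normalizer (R : Set G) ∧
      ∃ h ∈ P, ∀ (x : ↥R) (hx : y * (x : G) * y⁻¹ ∈ R),
        φ ⟨y * x * y⁻¹, hx⟩ = h * φ x * h⁻¹) →
      g * y * g⁻¹ ∈ (P ⊓ Subgroup.normalizer (Q : Set G)) ⊔ Subgroup.centralizer (Q : Set G) := by
    rintro y ⟨hyP, hyN, h, hhP, hh⟩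
    have hy'N : g * y * g⁻¹ ∈ Subgroup.normalizer (Q : Set G) := by
      rw [← hQeq, mem_normalizer_map_conj_iff]
      have e1 : g⁻¹ * (g * y * g⁻¹) * g = y := by group
      rw [e1]
      exact hyN
    have hact : ∀ q ∈ Q, (g * y * g⁻¹) * q * (g * y * g⁻¹)⁻¹ = h * q * h⁻¹ := by
      intro q hq
      rw [← hQeq] at hq
      obtain ⟨x, hx, rfl⟩ := hq
      have hx' : y * x * y⁻¹ ∈ R := (Subgroup.mem_normalizer_iff.mp hyN x).mp hx
      have h1 := hh ⟨x, hx⟩ hx'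
      rw [hg, hg] at h1
      show (g * y * g⁻¹) * (g * x * g⁻¹) * (g * y * g⁻¹)⁻¹ = h * (g * x * g⁻¹) * h⁻¹
      rw [← h1]
      group
    have hcC : h⁻¹ * (g * y * g⁻¹) ∈ Subgroup.centralizer (Q : Set G) := by
      rw [Subgroup.mem_centralizer_iff]
      intro q hq
      have h1 := hact q hq
      have h2 : (g * y * g⁻¹) * q = h * q * h⁻¹ * (g * y * g⁻¹) := by
        rw [← h1]
        group
      calc q * (h⁻¹ * (g * y * g⁻¹)) = h⁻¹ * (h * q * h⁻¹ * (g * y * g⁻¹)) := by group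
        _ = h⁻¹ * ((g * y * g⁻¹) * q) := by rw [h2]
        _ = h⁻¹ * (g * y * g⁻¹) * q := by group
    have hhN : h ∈ Subgroup.normalizer (Q : Set G) := by
      have e1 : h = (g * y * g⁻¹) * (h⁻¹ * (g * y * g⁻¹))⁻¹ := by group
      rw [e1]
      exact Subgroup.mul_mem _ hy'N
        (Subgroup.inv_mem _ (Subgroup.centralizer_le_normalizer _ hcC))
    have e2 : g * y * g⁻¹ = h * (h⁻¹ * (g * y * g⁻¹)) := by group
    rw [e2]
    exact Subgroup.mul_mem_sup ⟨hhP, hhN⟩ hcC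
  have hNφP : Nφ ≤ P := by
    rw [hNφ]
    unfold FusionSystem.extender
    rw [Subgroup.closure_le]
    intro y hy
    exact hy.1
  have hNφX : Nφ.map (MulAut.conj g).toMonoidHom
      ≤ (P ⊓ Subgroup.normalizer (Q : Set G)) ⊔ Subgroup.centralizer (Q : Set G) := by
    rw [Subgroup.map_le_iff_le_comap, hNφ]
    unfold FusionSystem.extender
    rw [Subgroup.closure_le]
    intro y hy
    rw [SetLike.mem_coe, Subgroup.mem_comap]
    exact hgen y hy
  have hRNφ : R ≤ Nφ := by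
    intro y hy
    rw [hNφ]
    unfold FusionSystem.extender
    apply Subgroup.subset_closure
    refine ⟨hRP hy, Subgroup.le_normalizer hy, φ ⟨y, hy⟩, (F.le_of_mem hφ).2 _, ?_⟩
    intro x hx
    have e1 : (⟨y * x * y⁻¹, hx⟩ : ↥R) = ⟨y, hy⟩ * x * (⟨y, hy⟩ : ↥R)⁻¹ := by
      apply Subtype.ext
      rfl
    rw [e1, map_mul, map_mul, map_inv]
  -- the pair on `Nφ`
  obtain ⟨eN, heN, hleN⟩ := exists_subpair hM P e hPe _ Nφ hNφP rfl
  have hleN' : Relation.ReflTransGen (NormalSubpairRel p M) (⟨Nφ, eN⟩ : BrauerPairIdx G)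
    ⟨P, e⟩ := hleN
  have hRN : Relation.ReflTransGen (NormalSubpairRel p M) (⟨R, fR⟩ : BrauerPairIdx G)
      ⟨Nφ, eN⟩ :=
    le_of_le_of_le_of_fst_le hM (c := (⟨P, e⟩ : BrauerPairIdx G)) hPe hleR' hleN' hRNφ
  have hqY : Relation.ReflTransGen (NormalSubpairRel p M) (⟨Q, f⟩ : BrauerPairIdx G)
      (conjIdx g (⟨Nφ, eN⟩ : BrauerPairIdx G)) := by
    have h1 := reflTransGen_conjIdx (M := M) (p := p) g hRN
    rwa [hconjR] at h1
  have hbY : IsBrauerPair p M (conjIdx g (⟨Nφ, eN⟩ : BrauerPairIdx G)).1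
      (conjIdx g (⟨Nφ, eN⟩ : BrauerPairIdx G)).2 :=
    isBrauerPair_of_reflTransGen hqY ⟨hQp, hf⟩
  obtain ⟨c, hc, hcle⟩ := exists_centralizer_conj_le hM B P e hmax Q f hQP hf hle T hT F' hF'
    hF'f hD (conjIdx g (⟨Nφ, eN⟩ : BrauerPairIdx G)) hbY hqY hNφX
  rw [conjIdx_mul] at hcle
  refine ⟨conjHom Nφ (c * g), (hF.2 Nφ _).mpr ⟨hNφP, c * g, fun u => rfl,
    fst_le_of_reflTransGen hcle, eN, hleN, hcle⟩, ?_⟩
  intro x hR hN
  show c * g * x * (c * g)⁻¹ = φ ⟨x, hR⟩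
  rw [hg]
  have h1 := (Subgroup.mem_centralizer_iff.mp hc) _ (hmemQ ⟨x, hR⟩)
  calc c * g * x * (c * g)⁻¹ = c * (g * x * g⁻¹) * c⁻¹ := by group
    _ = (g * x * g⁻¹) * c * c⁻¹ := by rw [h1]
    _ = g * x * g⁻¹ := by group

end Cfsg.Agent.Lib.helper3.Block
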