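import Mathlib
import Cfsg.Agent.Lib.helper3.SP35

/-!
# Automorphisms of cyclic `p`-groups induced by conjugation
-/

set_option autoImplicit false
set_option linter.style.haveILetI false
set_option linter.unusedSectionVars false

namespace Cfsg.Agent.Lib.helper3.Block

open Cfsg Module Cfsg.Agent.Lib.helper3.CharBasic Cfsg.Agent.Lib.helper3.Irr
open Cfsg.Agent.Lib.helper3.Central Cfsg.Agent.Lib.helper3.LocalM Cfsg.Agent.Lib.helper3.IndFun
open Cfsg.Agent.Lib.helper3.Lin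
open scoped ComplexConjugate

universe u

variable {G : Type u} [Group G]

/-- An element normalizing a finite cyclic subgroup acts on it as a power map. -/
theorem exists_pow_of_mem_normalizer_cyclic [Finite G] (P : Subgroup G) (hcyc : IsCyclic P)
    (g : G) (hg : g ∈ Subgroup.normalizer (P : Set G)) :
    ∃ k : ℕ, ∀ y ∈ P, g * y * g⁻¹ = y ^ k := by
  obtain ⟨z, hz⟩ := hcyc.exists_generator
  have hpow : ∀ y : ↥P, ∃ i : ℕ, z ^ i = y := by
    intro y
    have h1 := hz y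
    rw [← mem_powers_iff_mem_zpowers] at h1
    exact (Submonoid.mem_powers_iff _ _).mp h1
  have hgz : g * (z : G) * g⁻¹ ∈ P := (Subgroup.mem_normalizer_iff.mp hg (z : G)).mp z.2
  obtain ⟨k, hk⟩ := hpow ⟨g * (z : G) * g⁻¹, hgz⟩
  have hk' : (z : G) ^ k = g * (z : G) * g⁻¹ := by
    have := congrArg (fun y : ↥P => (y : G)) hk
    simpa using this
  refine ⟨k, ?_⟩
  intro y hy
  obtain ⟨i, hi⟩ := hpow ⟨y, hy⟩
  have hi' : (z : G) ^ i = y := by
    have := congrArg (fun y : ↥P => (y : G)) hi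
    simpa using this
  rw [← hi', ← conj_pow, ← hk', ← pow_mul, ← pow_mul, mul_comm]

/-- A `p'`-automorphism (induced by conjugation) of a cyclic `p`-group fixing a non-identity
element is trivial. -/
theorem mem_centralizer_of_fix_cyclic [Finite G] (p : ℕ) [hp : Fact p.Prime] (P : Subgroup G)
    (hP : IsPGroup p P) (hcyc : IsCyclic P) (g : G)
    (hg : g ∈ Subgroup.normalizer (P : Set G)) (m : ℕ) (hm : Nat.Coprime m p)
    (hgm : g ^ m ∈ Subgroup.centralizer (P : Set G)) (x : G) (hx : x ∈ P) (hx1 : x ≠ 1)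
    (hgx : g * x * g⁻¹ = x) : g ∈ Subgroup.centralizer (P : Set G) := by
  obtain ⟨k, hk⟩ := exists_pow_of_mem_normalizer_cyclic P hcyc g hg
  obtain ⟨n, hn⟩ := hP.exists_card_eq
  -- iterate
  have hiter : ∀ j : ℕ, ∀ y ∈ P, g ^ j * y * (g ^ j)⁻¹ = y ^ (k ^ j) := by
    intro j
    induction j with
    | zero => intro y _; simp
    | succ j ih =>
      intro y hy
      have h1 : g ^ (j + 1) * y * (g ^ (j + 1))⁻¹ = g * (g ^ j * y * (g ^ j)⁻¹) * g⁻¹ := by
        rw [pow_succ']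
        group
      rw [h1, ih y hy, hk _ (P.pow_mem hy _), ← pow_mul, ← pow_succ]
  -- `k ≡ 1 mod p`
  have hxk : x ^ k = x ^ 1 := by
    rw [pow_one, ← hk x hx, hgx]
  have hmod := pow_eq_pow_iff_modEq.mp hxk
  have hpx : p ∣ orderOf x := by
    obtain ⟨i, hi⟩ := hP ⟨x, hx⟩
    have hi' : x ^ (p ^ i) = 1 := by
      have := congrArg (fun y : ↥P => (y : G)) hi
      simpa using this
    obtain ⟨l, -, hl⟩ := (Nat.dvd_prime_pow hp.out).mp (orderOf_dvd_of_pow_eq_one hi')
    rcases Nat.eq_zero_or_pos l with h0 | hpos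
    · exfalso
      rw [h0, pow_zero, orderOf_eq_one_iff] at hl
      exact hx1 hl
    · rw [hl]
      exact dvd_pow_self p (Nat.pos_iff_ne_zero.mp hpos)
  have hk1 : k ≡ 1 [MOD p] := hmod.of_dvd hpx
  have hk1' : ((p : ℕ) : ℤ) ∣ (k : ℤ) - 1 := by
    have := (Nat.modEq_iff_dvd.mp hk1.symm)
    simpa using this
  have hdiv := dvd_sub_pow_of_dvd_sub (R := ℤ) hk1' n
  have hkp : k ^ (p ^ n) ≡ 1 [MOD p ^ n] := by
    apply Nat.ModEq.symm
    rw [Nat.modEq_iff_dvd]
    have h2 : ((p ^ n : ℕ) : ℤ) ∣ (p : ℤ) ^ (n + 1) := by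
      rw [pow_succ]
      push_cast
      exact dvd_mul_right _ _
    have h3 := h2.trans hdiv
    simpa using h3
  have hgp : g ^ (p ^ n) ∈ Subgroup.centralizer (P : Set G) := by
    rw [Subgroup.mem_centralizer_iff]
    intro y hy
    have h1 := hiter (p ^ n) y hy
    have hyord : orderOf y ∣ p ^ n := by
      have h4 : orderOf (⟨y, hy⟩ : ↥P) ∣ Nat.card ↥P := orderOf_dvd_natCard _
      rw [hn] at h4
      have h5 : orderOf (⟨y, hy⟩ : ↥P) = orderOf y := by
        rw [← Subgroup.orderOf_coe]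
      rwa [h5] at h4
    have h6 : y ^ (k ^ (p ^ n)) = y ^ 1 := pow_eq_pow_iff_modEq.mpr (hkp.of_dvd hyord)
    rw [h6, pow_one] at h1
    calc y * g ^ (p ^ n) = (g ^ (p ^ n) * y * (g ^ (p ^ n))⁻¹) * g ^ (p ^ n) := by rw [h1]
      _ = g ^ (p ^ n) * y := by group
  have hcop : Nat.Coprime (p ^ n) m := (Nat.Coprime.pow_left n hm.symm)
  obtain ⟨u, v, huv⟩ := (Nat.isCoprime_iff_coprime.mpr hcop)
  have hg' : g = (g ^ (p ^ n)) ^ u * (g ^ m) ^ v := by
    rw [← zpow_natCast g (p ^ n), ← zpow_natCast g m, ← zpow_mul, ← zpow_mul, ← zpow_add]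
    have : ((p ^ n : ℕ) : ℤ) * u + (m : ℤ) * v = 1 := by
      rw [← huv]
      ring
    rw [this, zpow_one]
  rw [hg']
  exact Subgroup.mul_mem _ (Subgroup.zpow_mem _ hgp u) (Subgroup.zpow_mem _ hgm v)

/-- A stabilizer of a set of characters in the "for all conjugates" form. -/
theorem stabilizesBlock_iff_forall (H : Subgroup G) [Fintype H] (b : Set (IrrCharacter H)) (g : G)
    (hg : g ∈ Subgroup.normalizer (H : Set G)) :
    StabilizesBlock H b g ↔ ∀ θ ∈ b, ∀ θ' : IrrCharacter H,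
      (∀ h h' : H, (h' : G) = g * h * g⁻¹ → (θ' : H → ℂ) h' = (θ : H → ℂ) h) → θ' ∈ b := by
  constructor
  · rintro ⟨-, h⟩ θ hθ θ' hconj
    obtain ⟨χ', hχ', hc'⟩ := h θ hθ
    have : θ' = χ' := by
      apply Subtype.ext
      funext k'
      have hk : g⁻¹ * (k' : G) * g ∈ H := by
        have := (Subgroup.mem_normalizer_iff.mp (Subgroup.inv_mem _ hg) (k' : G)).mp k'.2
        simpa using this
      have hkk : (k' : G) = g * ((⟨g⁻¹ * (k' : G) * g, hk⟩ : ↥H) : G) * g⁻¹ := by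
        show (k' : G) = g * (g⁻¹ * (k' : G) * g) * g⁻¹
        group
      rw [hconj _ k' hkk, hc' _ k' hkk]
    rw [this]
    exact hχ'
  · intro h
    refine ⟨hg, ?_⟩
    intro χ hχ
    have hconj : IsConjCharOf H g (χ : H → ℂ)
        (autIrr (H.normalizerMonoidHom ⟨g, hg⟩) χ : H → ℂ) := by
      intro k k' hk
      rw [autIrr_apply]
      have hkk : (H.normalizerMonoidHom ⟨g, hg⟩)⁻¹ k' = k := by
        apply Subtype.ext
        rw [← map_inv]
        simp [hk]
        group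
      rw [hkk]
    exact ⟨autIrr (H.normalizerMonoidHom ⟨g, hg⟩) χ, h χ hχ _ hconj, hconj⟩

end Cfsg.Agent.Lib.helper3.Block
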