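import Mathlib
import Cfsg.Prelude.Def_Blocks
import Cfsg.Agent.Lib.helper3.FR6
import Cfsg.Agent.Lib.helper3.ExtFirstMain2
import Cfsg.Agent.Lib.helper3.FirstMain2
import Cfsg.Agent.S0912

set_option autoImplicit false
set_option linter.style.haveILetI false
set_option linter.unusedSectionVars false

/-!
# Defect groups of blocks induced from `P C_G(P)` and the inertial index
-/

namespace Cfsg.Agent.Lib.helper3.Block

open Cfsg Module Cfsg.Agent.Lib.helper3.CharBasic Cfsg.Agent.Lib.helper3.Irr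
open Cfsg.Agent.Lib.helper3.Central Cfsg.Agent.Lib.helper3.LocalM Cfsg.Agent.Lib.helper3.IndFun
open scoped ComplexConjugate

variable {G : Type*} [Group G] [Fintype G] {M : Ideal AlgInt}

theorem lEquiv_symm_coe (P : Subgroup G) (h : ↥(P ⊔ Subgroup.centralizer (P : Set G))) :
    ((((lEquiv P).symm h : ↥(lInN P)) : ↥(Subgroup.normalizer (P : Set G))) : G) = (h : G) := by
  have := lEquiv_coe P ((lEquiv P).symm h)
  rw [MulEquiv.apply_symm_apply] at this
  exact this.symm

open Classical in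
/-- The stabilizer in `N_G(P)` of a block of `P C_G(P)`, seen inside `N_G(P)`. -/
theorem isBlockStab_subgroupOf (P : Subgroup G)
    (b : Set (IrrCharacter ↥(P ⊔ Subgroup.centralizer (P : Set G)))) (T : Subgroup G)
    (hT : ∀ g : G, g ∈ T ↔ (g ∈ Subgroup.normalizer (P : Set G) ∧ ∀ θ ∈ b,
      ∀ θ' : IrrCharacter ↥(P ⊔ Subgroup.centralizer (P : Set G)),
      (∀ h h' : ↥(P ⊔ Subgroup.centralizer (P : Set G)), (h' : G) = g * h * g⁻¹ →
        (θ' : ↥(P ⊔ Subgroup.centralizer (P : Set G)) → ℂ) h'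
          = (θ : ↥(P ⊔ Subgroup.centralizer (P : Set G)) → ℂ) h) → θ' ∈ b)) :
    IsBlockStab (lInN P) (T.subgroupOf (Subgroup.normalizer (P : Set G)))
      (irrCongr (lEquiv P) '' b) := by
  intro g
  rw [Subgroup.mem_subgroupOf]
  constructor
  · intro hg
    have hginv : (g : G)⁻¹ ∈ T := T.inv_mem hg
    rintro _ ⟨θ₀, hθ₀, rfl⟩ θ' hθ'
    refine ⟨(irrCongr (lEquiv P)).symm θ', ?_, (irrCongr (lEquiv P)).apply_symm_apply θ'⟩
    apply ((hT _).mp hginv).2 θ₀ hθ₀
    intro h h' hh'
    show (θ' : ↥(lInN P) → ℂ) ((lEquiv P).symm h') = _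
    rw [hθ' ((lEquiv P).symm h'), irrCongr_apply]
    apply congrArg
    apply Subtype.ext
    rw [lEquiv_coe]
    show (g : G) * ((((lEquiv P).symm h' : ↥(lInN P)) : ↥(Subgroup.normalizer (P : Set G))) : G)
      * (g : G)⁻¹ = (h : G)
    rw [lEquiv_symm_coe, hh']
    group
  · intro hcond
    have hginv : (g : G)⁻¹ ∈ T := by
      rw [hT]
      refine ⟨inv_mem g.2, ?_⟩
      intro θ₀ hθ₀ θ'₀ hc
      obtain ⟨θ'', hθ'', heq⟩ := hcond (irrCongr (lEquiv P) θ₀) ⟨θ₀, hθ₀, rfl⟩
        (irrCongr (lEquiv P) θ'₀) (by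
          intro n
          rw [irrCongr_apply, irrCongr_apply]
          apply hc
          rw [lEquiv_coe, lEquiv_coe]
          show ((n : ↥(Subgroup.normalizer (P : Set G))) : G) = (g : G)⁻¹
            * ((g : G) * ((n : ↥(Subgroup.normalizer (P : Set G))) : G) * (g : G)⁻¹)
            * (g : G)⁻¹⁻¹
          group)
      rw [← (irrCongr (lEquiv P)).injective heq]
      exact hθ''
    have := T.inv_mem hginv
    rwa [inv_inv] at this

open Classical in
theorem lInN_le_subgroupOf (P : Subgroup G)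
    (b : Set (IrrCharacter ↥(P ⊔ Subgroup.centralizer (P : Set G)))) (T : Subgroup G)
    (hT : ∀ g : G, g ∈ T ↔ (g ∈ Subgroup.normalizer (P : Set G) ∧ ∀ θ ∈ b,
      ∀ θ' : IrrCharacter ↥(P ⊔ Subgroup.centralizer (P : Set G)),
      (∀ h h' : ↥(P ⊔ Subgroup.centralizer (P : Set G)), (h' : G) = g * h * g⁻¹ →
        (θ' : ↥(P ⊔ Subgroup.centralizer (P : Set G)) → ℂ) h'
          = (θ : ↥(P ⊔ Subgroup.centralizer (P : Set G)) → ℂ) h) → θ' ∈ b)) :
    P ⊔ Subgroup.centralizer (P : Set G) ≤ T := by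
  intro x hx
  rw [hT]
  refine ⟨sup_centralizer_le_normalizer P hx, ?_⟩
  intro θ hθ θ' hc
  have : θ' = θ := by
    apply Subtype.ext
    funext h'
    obtain ⟨c, hcdef⟩ : ∃ c : ↥(P ⊔ Subgroup.centralizer (P : Set G)), c = ⟨x, hx⟩⁻¹ := ⟨_, rfl⟩
    have h1 := hc (c * h' * c⁻¹) h' (by
      rw [hcdef]
      simp only [Subgroup.coe_mul, Subgroup.coe_inv, inv_inv]
      group)
    rw [h1]
    exact isClassFunction_of_isCharacter (isCharacter_of_isIrrCharacter θ.2) h' c
  rw [this]
  exact hθ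

open Classical in
/-- For a block `b` of `P C_G(P)` with defect group `P`, the induced block of `G` has defect group
`P` exactly when the inertial index is prime to `p`. -/
theorem isDefectGroup_iff_relIndex {p : ℕ} [hp : Fact p.Prime] (hM : IsPModular p M)
    (P : Subgroup G) (hP : IsPGroup p P)
    (b : Set (IrrCharacter ↥(P ⊔ Subgroup.centralizer (P : Set G)))) (hb : IsPBlock M b)
    (hbP : IsDefectGroup p M b (P.subgroupOf (P ⊔ Subgroup.centralizer (P : Set G))))
    (B : Set (IrrCharacter G))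
    (hind : IsInducedBlock M (P ⊔ Subgroup.centralizer (P : Set G)) b B) (T : Subgroup G)
    (hT : ∀ g : G, g ∈ T ↔ (g ∈ Subgroup.normalizer (P : Set G) ∧ ∀ θ ∈ b,
      ∀ θ' : IrrCharacter ↥(P ⊔ Subgroup.centralizer (P : Set G)),
      (∀ h h' : ↥(P ⊔ Subgroup.centralizer (P : Set G)), (h' : G) = g * h * g⁻¹ →
        (θ' : ↥(P ⊔ Subgroup.centralizer (P : Set G)) → ℂ) h'
          = (θ : ↥(P ⊔ Subgroup.centralizer (P : Set G)) → ℂ) h) → θ' ∈ b)) :
    IsDefectGroup p M B P ↔ ¬ p ∣ (P ⊔ Subgroup.centralizer (P : Set G)).relIndex T := by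
  haveI hMp := isPrime_of_isPModular hM
  have hMtop : M ≠ ⊤ := hM.2.1.ne_top
  obtain ⟨β, h1, h2⟩ := exists_normalizer_block hM B P hP b hind
  have hb' : IsPBlock M (irrCongr (lEquiv P) '' b) := h1.1
  have hiff1 : IsDefectGroup p M B P ↔ IsDefectGroup p M β (pInN P) :=
    ⟨fun h => isDefectGroup_normalizer_of_induced hM P hP B hind.2.1 h β h2,
      fun h => isDefectGroup_of_induced_normalizer hM P hP β h2.1 h B hind.2.1 h2⟩
  have huniq : ∀ β' : Set (IrrCharacter ↥(Subgroup.normalizer (P : Set G))), IsPBlock M β' →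
      (∃ χ ∈ β', ∃ θ ∈ irrCongr (lEquiv P) '' b,
        classInner (fun n : ↥(lInN P) => (χ : ↥(Subgroup.normalizer (P : Set G)) → ℂ) n)
          (θ : ↥(lInN P) → ℂ) ≠ 0) → β' = β := by
    intro β' hβ' hcov
    have := (Cfsg.Agent.S0971.result p M hM (pInN P) hP.comap_subtype
      (irrCongr (lEquiv P) '' b) hb').2 β' hβ' hcov
    exact isInducedBlock_unique _ _ β' β this h1
  have hS := isBlockStab_subgroupOf P b T hT
  have hLT := lInN_le_subgroupOf P b T hT
  have hTN : T ≤ Subgroup.normalizer (P : Set G) := fun g hg => ((hT g).mp hg).1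
  have hLT' : lInN P ≤ T.subgroupOf (Subgroup.normalizer (P : Set G)) := by
    rw [lInN_eq]
    intro x hx
    rw [Subgroup.mem_subgroupOf] at hx ⊢
    exact hLT hx
  have hdef := blockDefect_of_unique_cover (lInN P)
    (T.subgroupOf (Subgroup.normalizer (P : Set G))) hM hb' hS hLT' β huniq
  rw [blockDefect_image_irrCongr] at hdef
  have hrel : (lInN P).relIndex (T.subgroupOf (Subgroup.normalizer (P : Set G)))
      = (P ⊔ Subgroup.centralizer (P : Set G)).relIndex T := by
    rw [lInN_eq]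
    exact Subgroup.relIndex_subgroupOf hTN
  rw [hrel] at hdef
  have c1 : Nat.card (P.subgroupOf (P ⊔ Subgroup.centralizer (P : Set G)))
      = p ^ blockDefect p b := Cfsg.Agent.S0908.result p M hM b hb _ hbP
  have c2 : Nat.card (P.subgroupOf (P ⊔ Subgroup.centralizer (P : Set G))) = Nat.card P :=
    Nat.card_congr (Subgroup.subgroupOfEquivOfLe le_sup_left).toEquiv
  have c3 : Nat.card (pInN P) = Nat.card P :=
    Nat.card_congr (Subgroup.subgroupOfEquivOfLe Subgroup.le_normalizer).toEquiv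
  have hrel0 : (P ⊔ Subgroup.centralizer (P : Set G)).relIndex T ≠ 0 := by
    show ((P ⊔ Subgroup.centralizer (P : Set G)).subgroupOf T).index ≠ 0
    exact Subgroup.index_ne_zero_of_finite
  have hfac : ¬ p ∣ (P ⊔ Subgroup.centralizer (P : Set G)).relIndex T
      ↔ ((P ⊔ Subgroup.centralizer (P : Set G)).relIndex T).factorization p = 0 := by
    rw [Nat.factorization_eq_zero_iff]
    constructor
    · intro h
      right; left
      exact h
    · rintro (h | h | h)
      · exact absurd hp.out h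
      · exact h
      · exact absurd h hrel0
  rw [hiff1, hfac]
  constructor
  · intro hβP
    have c4 : Nat.card (pInN P) = p ^ blockDefect p β :=
      Cfsg.Agent.S0908.result p M hM β h2.1 _ hβP
    have h3 : p ^ blockDefect p β = p ^ blockDefect p b := by rw [← c4, c3, ← c2, c1]
    have h4 := Nat.pow_right_injective hp.out.two_le h3
    omega
  · intro h0
    rw [h0, add_zero] at hdef
    obtain ⟨E, hE⟩ := exists_isDefectGroup hM β h2.1
    have hcore := Cfsg.Agent.S0912.result p M hM β h2.1 E hE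
    have hle : pInN P ≤ E := by
      refine le_trans ?_ hcore
      unfold pCore
      apply le_sSup
      exact ⟨inferInstance, hP.comap_subtype⟩
    have c4 : Nat.card E = p ^ blockDefect p β := Cfsg.Agent.S0908.result p M hM β h2.1 E hE
    have e : pInN P = E := Subgroup.eq_of_le_of_card_ge hle (by rw [c4, hdef, ← c1, c2, c3])
    rw [e]
    exact hE

end Cfsg.Agent.Lib.helper3.Block
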