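import Mathlib
import Cfsg.Prelude.Def_Characters
import Cfsg.Agent.Lib.helper3.SolvExt2
import Cfsg.Agent.Lib.helper3.CliffCorr
import Cfsg.Agent.Lib.helper3.Clifford
import Cfsg.Agent.Lib.helper3.Gallagher3
import Cfsg.Agent.Lib.helper3.Inflate2
import Cfsg.Agent.Lib.helper3.Ito
import Cfsg.Agent.Lib.helper3.Irr10
import Cfsg.Agent.Lib.helper3.Degrees

/-!
# Irreducible characters of degree coprime to the index of a normal Hall subgroup
-/

set_option autoImplicit false
set_option linter.style.haveILetI false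
set_option linter.unusedSectionVars false

namespace Cfsg.Agent.Lib.helper3.Pdeg

open Cfsg Module Cfsg.Agent.Lib.helper3.Irr Cfsg.Agent.Lib.helper3.CharBasic
open Cfsg.Agent.Lib.helper3.IndFun Cfsg.Agent.Lib.helper3.SolvExt
open Cfsg.Agent.Lib.helper3.Central
open scoped ComplexConjugate

universe u

variable {G : Type u} [Group G] [Fintype G]

/-- An irreducible character having the trivial character of the normal subgroup `K` as a
constituent of its restriction is constant on `K`. -/
theorem apply_eq_apply_one_of_trivial_constituent (K : Subgroup G) [hK : K.Normal] [Fintype K]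
    (β : G → ℂ) (hβ : IsIrrCharacter G β)
    (hcon : classInner (fun k : K => β k) (fun _ : K => (1 : ℂ)) ≠ 0) (k : K) :
    β k = β 1 := by
  have h := clifford K β hβ (fun _ => 1) isIrrCharacter_one hcon
  have hset : {ψ : K → ℂ | ∃ g : G, ψ = fun n : K =>
      (fun _ : K => (1 : ℂ)) ⟨g * n * g⁻¹, hK.conj_mem n n.2 g⟩} = {fun _ : K => (1 : ℂ)} := by
    ext ψ
    constructor
    · rintro ⟨g, rfl⟩
      rfl
    · intro hψ
      exact ⟨1, hψ⟩
  rw [hset, finsum_mem_singleton] at h
  have h1 := congrFun h k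
  have h2 := congrFun h 1
  simp only [Pi.smul_apply, smul_eq_mul, mul_one] at h1 h2
  rw [h1]
  exact h2.symm

/-- If the degree of `χ ∈ Irr(G)` is coprime to the index of the normal Hall subgroup `K` with
solvable quotient, the restriction of `χ` to `K` is irreducible. -/
theorem restrict_irr_of_coprime_degree (K : Subgroup G) [hK : K.Normal]
    (hcop : (Nat.card K).Coprime K.index) (hsolv : Group.IsSolvable (G ⧸ K))
    (χ : G → ℂ) (hχ : IsIrrCharacter G χ) (d : ℕ) (hd : χ 1 = d) (hdcop : d.Coprime K.index) :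
    IsIrrCharacter K (fun k : K => χ k) := by
  classical
  letI : Fintype K := Fintype.ofFinite K
  have hχc := isCharacter_of_isIrrCharacter hχ
  have hcf := isClassFunction_of_isCharacter hχc
  have hres := isCharacter_restrict hχc K
  have hres0 : (fun k : K => χ k) ≠ 0 := by
    intro h0
    have := congrFun h0 1
    exact apply_one_ne_zero hχ (by simpa using this)
  obtain ⟨θ, hθcon⟩ := exists_constituent hres hres0
  -- the inertia group is everything
  obtain ⟨T, hTdef⟩ : ∃ T : Subgroup G, T = inertia K (θ : K → ℂ) := ⟨_, rfl⟩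
  have hT : ∀ g : G, g ∈ T ↔ ∀ h : K,
      (θ : K → ℂ) ⟨g * h * g⁻¹, hK.conj_mem h h.2 g⟩ = (θ : K → ℂ) h := by
    intro g
    rw [hTdef]
    exact mem_inertia_iff K _ g
  have hKT : K ≤ T := hTdef ▸ le_inertia K _
    (isClassFunction_of_isCharacter (isCharacter_of_isIrrCharacter θ.2))
  letI : Fintype T := Fintype.ofFinite T
  obtain ⟨ψ, hψ, hind, -⟩ := clifford_corr_surjective K θ θ.2 T hT hKT χ hχ hθcon
  obtain ⟨m, hm, -, -⟩ := irr_degree_dvd_card hψ
  have hdeg : (d : ℂ) = (T.index : ℂ) * m := by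
    rw [← hd, ← hind, indFun_apply_one, hm]
  have hdeg' : d = T.index * m := by exact_mod_cast hdeg
  have hTidx : T.index = 1 := by
    have h1 : T.index ∣ K.index := Subgroup.index_dvd_of_le hKT
    have h2 : T.index ∣ d := ⟨m, hdeg'⟩
    have := Nat.dvd_gcd h2 h1
    rw [hdcop.gcd_eq_one] at this
    exact Nat.dvd_one.mp this
  have hTtop : T = ⊤ := Subgroup.index_eq_one.mp hTidx
  have hinv : ∀ (g : G) (n : K),
      (θ : K → ℂ) ⟨g * n * g⁻¹, hK.conj_mem (n : G) n.2 g⟩ = (θ : K → ℂ) n := by
    intro g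
    exact (hT g).mp (hTtop ▸ Subgroup.mem_top g)
  -- the extension
  obtain ⟨η, hη, hηres⟩ := exists_extension_of_coprime_solvable K hsolv θ θ.2 hinv hcop
  have hηc := isCharacter_of_isIrrCharacter hη
  have hprodeq : ((fun _ : K => (1 : ℂ)) * (θ : K → ℂ)) = (θ : K → ℂ) := by
    funext n
    simp
  obtain ⟨e, he, hdec, hrig⟩ := gallagher_aux K (fun _ => 1) (θ : K → ℂ)
    isIrrCharacter_one (fun _ _ => rfl) hinv (by rw [hprodeq]; exact θ.2)
    η hηc (apply_one_ne_zero hη) hηres
  rw [hprodeq] at hdec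
  have hne : classInner (indFun K (θ : K → ℂ)) χ ≠ 0 := by
    rw [frobenius_reciprocity K _ χ hcf, ← classInner_conj_symm]
    intro hz
    apply hθcon
    have := congrArg conj hz
    simpa using this
  rw [hdec, classInner_sum_left] at hne
  obtain ⟨β, -, hβ⟩ := Finset.exists_ne_zero_of_sum_ne_zero hne
  rw [classInner_smul_left] at hβ
  have heβ : e β ≠ 0 := by
    intro h0
    rw [h0, Nat.cast_zero, zero_mul] at hβ
    exact hβ rfl
  have hβη : classInner ((β : G → ℂ) * η) χ ≠ 0 := by
    intro h0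
    rw [h0, mul_zero] at hβ
    exact hβ rfl
  have hirr : IsIrrCharacter G ((β : G → ℂ) * η) :=
    isIrrCharacter_of_classInner_self_eq_one
      (isCharacter_mul (isCharacter_of_isIrrCharacter β.2) hηc) (hrig β heβ).1
  have hχeq : χ = (β : G → ℂ) * η := by
    by_contra hne'
    exact hβη (irr_classInner_eq_zero hirr hχ (fun h => hne' h.symm))
  -- `β` is trivial on `K`
  have hβcon : classInner (fun k : K => (β : G → ℂ) k) (fun _ : K => (1 : ℂ)) ≠ 0 := by
    have h1 := he β
    rw [frobenius_reciprocity K _ _ (isClassFunction_of_isCharacter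
      (isCharacter_of_isIrrCharacter β.2))] at h1
    intro hz
    have h2 : classInner (fun _ : K => (1 : ℂ)) (fun k : K => (β : G → ℂ) k) = 0 := by
      rw [← classInner_conj_symm, hz, map_zero]
    rw [h2] at h1
    apply heβ
    exact_mod_cast h1.symm
  have hβK : ∀ k : K, (β : G → ℂ) k = (β : G → ℂ) 1 :=
    apply_eq_apply_one_of_trivial_constituent K β β.2 hβcon
  have hconst : ∀ g n : G, n ∈ K → (β : G → ℂ) (g * n) = (β : G → ℂ) g := by
    intro g n hn
    exact apply_mul_of_apply_eq_one (isCharacter_of_isIrrCharacter β.2) (hβK ⟨n, hn⟩) g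
  obtain ⟨ψ', hψ', hβinf⟩ := exists_eq_inflate β.2 K hconst
  obtain ⟨b, hb, hbdvd, -⟩ := irr_degree_dvd_card hψ'
  rw [← Subgroup.index_eq_card] at hbdvd
  have hβ1 : (β : G → ℂ) 1 = b := by
    rw [hβinf, inflate_apply, QuotientGroup.mk_one, hb]
  obtain ⟨t, ht⟩ := exists_nat_apply_one hηc
  have hdbt : d = b * t := by
    have : (d : ℂ) = (b : ℂ) * t := by
      rw [← hd, hχeq, Pi.mul_apply, hβ1, ht]
    exact_mod_cast this
  have hb1 : b = 1 := by
    have h2 : b ∣ d := ⟨t, hdbt⟩
    have := Nat.dvd_gcd h2 hbdvd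
    rw [hdcop.gcd_eq_one] at this
    exact Nat.dvd_one.mp this
  have hfinal : (fun k : K => χ k) = (θ : K → ℂ) := by
    funext k
    rw [hχeq, Pi.mul_apply, hβK k, hβ1, hb1, hηres k]
    simp
  rw [hfinal]
  exact θ.2

end Cfsg.Agent.Lib.helper3.Pdeg
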