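import Mathlib
import Cfsg.Prelude.Def_Characters
import Cfsg.Prelude.Def_Blocks
import Cfsg.Agent.Lib.helper3.Pdeg1

/-!
# Counting the irreducible characters of degree coprime to the index of a normal Hall subgroup
-/

set_option autoImplicit false
set_option linter.style.haveILetI false
set_option linter.unusedSectionVars false

namespace Cfsg.Agent.Lib.helper3.Pdeg

open Cfsg Module Cfsg.Agent.Lib.helper3.Irr Cfsg.Agent.Lib.helper3.CharBasic
open Cfsg.Agent.Lib.helper3.IndFun Cfsg.Agent.Lib.helper3.SolvExt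
open Cfsg.Agent.Lib.helper3.Central
open scoped ComplexConjugate

universe u

variable {G : Type u} [Group G] [Fintype G]

theorem charDegree_eq' {X : Type*} [Group X] {χ : X → ℂ} {d : ℕ} (hd : χ 1 = d) :
    charDegree χ = d := by
  unfold charDegree
  rw [hd, Complex.natCast_re, Nat.floor_natCast]

/-- The characters of degree coprime to the index of the normal Hall subgroup `K` (with solvable
quotient) are the products of extensions of the invariant irreducible characters of `K` with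
the linear characters of the quotient. -/
theorem card_coprime_degree (K : Subgroup G) [hK : K.Normal]
    (hcop : (Nat.card K).Coprime K.index) (hsolv : Group.IsSolvable (G ⧸ K)) :
    Nat.card {χ : IrrCharacter G // (charDegree (χ : G → ℂ)).Coprime K.index}
      = Nat.card {θ : IrrCharacter K // ∀ (g : G) (n : K),
          (θ : K → ℂ) ⟨g * n * g⁻¹, hK.conj_mem n n.2 g⟩ = (θ : K → ℂ) n}
        * Nat.card {lam : IrrCharacter (G ⧸ K) // (lam : G ⧸ K → ℂ) 1 = 1} := by
  classical
  letI : Fintype K := Fintype.ofFinite K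
  rw [← Nat.card_prod]
  symm
  have hext : ∀ θ : {θ : IrrCharacter K // ∀ (g : G) (n : K),
      (θ : K → ℂ) ⟨g * n * g⁻¹, hK.conj_mem n n.2 g⟩ = (θ : K → ℂ) n},
      ∃ η : G → ℂ, IsIrrCharacter G η ∧ ∀ n : K, η n = (θ.1 : K → ℂ) n :=
    fun θ => exists_extension_of_coprime_solvable K hsolv θ.1 θ.1.2 θ.2 hcop
  choose ext hext1 hext2 using hext
  have hextK : ∀ θ, IsIrrCharacter K (fun n : K => ext θ n) := by
    intro θ
    have : (fun n : K => ext θ n) = (θ.1 : K → ℂ) := by
      funext n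
      exact hext2 θ n
    rw [this]
    exact θ.1.2
  have hgal := fun θ => gallagher_inflate K (ext θ) (isCharacter_of_isIrrCharacter (hext1 θ))
    (apply_one_ne_zero (hext1 θ)) (hextK θ)
  have hinfK : ∀ (lam : {lam : IrrCharacter (G ⧸ K) // (lam : G ⧸ K → ℂ) 1 = 1}) (k : K),
      inflate K (lam.1 : G ⧸ K → ℂ) k = 1 := by
    intro lam k
    rw [inflate_apply_of_mem K _ k.2, inflate_apply, QuotientGroup.mk_one]
    exact lam.2
  have hdeg : ∀ (θ : {θ : IrrCharacter K // ∀ (g : G) (n : K),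
      (θ : K → ℂ) ⟨g * n * g⁻¹, hK.conj_mem n n.2 g⟩ = (θ : K → ℂ) n})
      (lam : {lam : IrrCharacter (G ⧸ K) // (lam : G ⧸ K → ℂ) 1 = 1}),
      (charDegree (inflate K (lam.1 : G ⧸ K → ℂ) * ext θ)).Coprime K.index := by
    intro θ lam
    obtain ⟨t, ht, htdvd, -⟩ := irr_degree_dvd_card θ.1.2
    have h1 : (inflate K (lam.1 : G ⧸ K → ℂ) * ext θ) 1 = t := by
      have := hinfK lam 1
      have h2 := hext2 θ 1
      rw [Pi.mul_apply]
      simp only [OneMemClass.coe_one] at this h2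
      rw [this, h2, ht, one_mul]
    rw [charDegree_eq' h1]
    exact Nat.Coprime.coprime_dvd_left htdvd hcop
  apply Nat.card_eq_of_bijective (fun p : {θ : IrrCharacter K // ∀ (g : G) (n : K),
      (θ : K → ℂ) ⟨g * n * g⁻¹, hK.conj_mem n n.2 g⟩ = (θ : K → ℂ) n}
      × {lam : IrrCharacter (G ⧸ K) // (lam : G ⧸ K → ℂ) 1 = 1} =>
    (⟨⟨inflate K (p.2.1 : G ⧸ K → ℂ) * ext p.1, (hgal p.1).1 p.2.1⟩, hdeg p.1 p.2⟩ :
      {χ : IrrCharacter G // (charDegree (χ : G → ℂ)).Coprime K.index}))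
  constructor
  · rintro ⟨θ, lam⟩ ⟨θ', lam'⟩ h
    have hfun : inflate K (lam.1 : G ⧸ K → ℂ) * ext θ
        = inflate K (lam'.1 : G ⧸ K → ℂ) * ext θ' := by
      have := congrArg (fun x => ((x.1 : IrrCharacter G) : G → ℂ)) h
      exact this
    have hθ : θ = θ' := by
      apply Subtype.ext
      apply Subtype.ext
      funext k
      have h1 := congrFun hfun k
      rw [Pi.mul_apply, Pi.mul_apply, hinfK lam k, hinfK lam' k, one_mul, one_mul,
        hext2 θ k, hext2 θ' k] at h1
      exact h1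
    subst hθ
    have hlam : lam.1 = lam'.1 := (hgal θ).2 lam.1 lam'.1 hfun
    have hlam' : lam = lam' := Subtype.ext hlam
    rw [hlam']
  · rintro ⟨χ, hχdeg⟩
    have hχc := isCharacter_of_isIrrCharacter χ.2
    have hcf := isClassFunction_of_isCharacter hχc
    obtain ⟨d, hd⟩ := exists_nat_apply_one hχc
    rw [charDegree_eq' hd] at hχdeg
    have hresirr := restrict_irr_of_coprime_degree K hcop hsolv χ χ.2 d hd hχdeg
    obtain ⟨θ, hθ⟩ : ∃ θ : {θ : IrrCharacter K // ∀ (g : G) (n : K),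
        (θ : K → ℂ) ⟨g * n * g⁻¹, hK.conj_mem n n.2 g⟩ = (θ : K → ℂ) n},
        (θ.1 : K → ℂ) = fun k : K => (χ : G → ℂ) k :=
      ⟨⟨⟨fun k : K => (χ : G → ℂ) k, hresirr⟩, fun g n => hcf n g⟩, rfl⟩
    have hres : ∀ n : K, (χ : G → ℂ) n = ext θ n := by
      intro n
      rw [hext2 θ n, hθ]
    obtain ⟨β, hβc, hβ1, hβK, hχeq⟩ := exists_linear_mul_of_restrict_eq K (ext θ) χ
      (hext1 θ) χ.2 (hextK θ) hres
    have hβirr : IsIrrCharacter G β := isIrrCharacter_of_linear hβc hβ1
    have hconst : ∀ g n : G, n ∈ K → β (g * n) = β g := by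
      intro g n hn
      apply apply_mul_of_apply_eq_one hβc _ g
      rw [hβ1]
      exact hβK ⟨n, hn⟩
    obtain ⟨ψ', hψ', hβinf⟩ := exists_eq_inflate hβirr K hconst
    have hψ'1 : ψ' 1 = 1 := by
      rw [← hβ1, hβinf, inflate_apply, QuotientGroup.mk_one]
    refine ⟨(θ, ⟨⟨ψ', hψ'⟩, hψ'1⟩), ?_⟩
    apply Subtype.ext
    apply Subtype.ext
    show inflate K ψ' * ext θ = (χ : G → ℂ)
    rw [hχeq, hβinf]

end Cfsg.Agent.Lib.helper3.Pdeg
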