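import Mathlib
import Cfsg.Prelude.Def_Characters
import Cfsg.Agent.Lib.helper3.Irr14
import Cfsg.Agent.Lib.helper3.Clifford2
import Cfsg.Agent.Lib.Helper4.FS

set_option autoImplicit false
set_option linter.style.haveILetI false
set_option linter.unusedSectionVars false

/-!
# Real characters and normal subgroups of odd index, part 1

Square roots, the Frobenius--Schur sum over a normal subgroup of odd index, conjugacy of the
constituents of a restriction, and real classes.
-/

namespace Cfsg.Agent.Lib.helper3.RealOdd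

open Cfsg Module Cfsg.Agent.Lib.helper3.IndFun Cfsg.Agent.Lib.helper3.CharBasic
open Cfsg.Agent.Lib.helper3.Irr Cfsg.Agent.Lib.Helper4.FS
open scoped ComplexConjugate

variable {G : Type*} [Group G]

/-- In a normal subgroup of odd index, an element whose square lies in it lies in it. -/
theorem mem_of_sq_mem [Finite G] (N : Subgroup G) [N.Normal] (hodd : Odd N.index) {s : G}
    (h : s * s ∈ N) : s ∈ N := by
  rw [← QuotientGroup.eq_one_iff]
  have h1 : ((s : G ⧸ N)) ^ 2 = 1 := by
    rw [pow_two, ← QuotientGroup.mk_mul]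
    exact (QuotientGroup.eq_one_iff _).mpr h
  have h2 : orderOf (s : G ⧸ N) ∣ 2 := orderOf_dvd_of_pow_eq_one h1
  have h3 : orderOf (s : G ⧸ N) ∣ N.index := by
    rw [Subgroup.index_eq_card]
    exact orderOf_dvd_natCard _
  have h4 : orderOf (s : G ⧸ N) ∣ Nat.gcd 2 N.index := Nat.dvd_gcd h2 h3
  have h5 : Nat.gcd 2 N.index = 1 := Nat.coprime_two_left.mpr hodd
  rw [h5] at h4
  exact orderOf_eq_one_iff.mp (Nat.dvd_one.mp h4)

/-- Square roots of an element of a normal subgroup of odd index lie in the subgroup. -/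
theorem card_sqrt_eq [Finite G] (N : Subgroup G) [N.Normal] (hodd : Odd N.index) (n : N) :
    Nat.card {s : G // s * s = (n : G)} = Nat.card {s : N // s * s = n} := by
  apply Nat.card_congr
  refine ⟨fun s => ⟨⟨s.1, mem_of_sq_mem N hodd (by rw [s.2]; exact n.2)⟩, ?_⟩,
    fun s => ⟨(s.1 : G), ?_⟩, ?_, ?_⟩
  · apply Subtype.ext
    simp only [Subgroup.coe_mul]
    exact s.2
  · have := congrArg (Subtype.val) s.2
    simpa using this
  · intro s
    rfl
  · intro s
    rfl

/-- The Frobenius--Schur sums over `G` and over a normal subgroup of odd index agree on it. -/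
theorem sum_fsInd_eq [Fintype G] (N : Subgroup G) [N.Normal] [Fintype N] (hodd : Odd N.index)
    (n : N) :
    ∑ χ : IrrCharacter G, fsInd (χ : G → ℂ) * (χ : G → ℂ) n
      = ∑ ψ : IrrCharacter N, fsInd (ψ : N → ℂ) * (ψ : N → ℂ) n := by
  rw [← card_sqrt_eq_sum, ← card_sqrt_eq_sum, card_sqrt_eq N hodd n]

/-- The Frobenius--Schur indicator of an irreducible character of a normal subgroup of odd
index, as a sum over the irreducible characters of the group. -/
theorem sum_fsInd_mul_classInner [Fintype G] (N : Subgroup G) [N.Normal] [Fintype N]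
    (hodd : Odd N.index) (θ : IrrCharacter N) :
    ∑ χ : IrrCharacter G, fsInd (χ : G → ℂ) * classInner (fun n : N => (χ : G → ℂ) n) (θ : N → ℂ)
      = fsInd (θ : N → ℂ) := by
  classical
  have h1 : ∀ χ : IrrCharacter G,
      fsInd (χ : G → ℂ) * classInner (fun n : N => (χ : G → ℂ) n) (θ : N → ℂ)
      = (Nat.card N : ℂ)⁻¹ * ∑ n : N, (fsInd (χ : G → ℂ) * (χ : G → ℂ) n) * conj ((θ : N → ℂ) n) := by
    intro χ
    rw [classInner_apply, Finset.mul_sum, Finset.mul_sum, Finset.mul_sum]
    apply Finset.sum_congr rfl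
    intro n _
    ring
  rw [Finset.sum_congr rfl (fun χ _ => h1 χ), ← Finset.mul_sum, Finset.sum_comm]
  have h2 : ∀ n : N, ∑ χ : IrrCharacter G, (fsInd (χ : G → ℂ) * (χ : G → ℂ) n)
        * conj ((θ : N → ℂ) n)
      = ∑ ψ : IrrCharacter N, (fsInd (ψ : N → ℂ) * (ψ : N → ℂ) n) * conj ((θ : N → ℂ) n) := by
    intro n
    rw [← Finset.sum_mul, ← Finset.sum_mul, sum_fsInd_eq N hodd n]
  rw [Finset.sum_congr rfl (fun n _ => h2 n), Finset.sum_comm, Finset.mul_sum]
  have h3 : ∀ ψ : IrrCharacter N,
      (Nat.card N : ℂ)⁻¹ * ∑ n : N, (fsInd (ψ : N → ℂ) * (ψ : N → ℂ) n) * conj ((θ : N → ℂ) n)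
      = fsInd (ψ : N → ℂ) * classInner (ψ : N → ℂ) (θ : N → ℂ) := by
    intro ψ
    rw [classInner_apply, Finset.mul_sum, Finset.mul_sum, Finset.mul_sum]
    apply Finset.sum_congr rfl
    intro n _
    ring
  rw [Finset.sum_congr rfl (fun ψ _ => h3 ψ)]
  rw [Finset.sum_eq_single θ]
  · rw [irr_classInner_self θ.2, mul_one]
  · intro ψ _ hne
    rw [irr_classInner_eq_zero ψ.2 θ.2 (fun h => hne (Subtype.ext h)), mul_zero]
  · intro h
    exact absurd (Finset.mem_univ θ) h

/-- Two irreducible constituents of the restriction of an irreducible character to a normal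
subgroup are conjugate. -/
theorem exists_conj_of_constituents [Fintype G] (N : Subgroup G) [hN : N.Normal] [Fintype N]
    (χ : IrrCharacter G) (θ ψ : IrrCharacter N)
    (h1 : classInner (fun n : N => (χ : G → ℂ) n) (θ : N → ℂ) ≠ 0)
    (h2 : classInner (fun n : N => (χ : G → ℂ) n) (ψ : N → ℂ) ≠ 0) :
    ∃ g : G, (ψ : N → ℂ) = conjFun N (θ : N → ℂ) g := by
  classical
  by_contra hne
  push Not at hne
  have hcf := isClassFunction_of_isCharacter (isCharacter_of_isIrrCharacter χ.2)
  have h0 := classInner_indFun_of_not_conj N (θ : N → ℂ) (ψ : N → ℂ) θ.2 ψ.2 hne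
  have hA := isCharacter_indFun N (ψ : N → ℂ) (isCharacter_of_isIrrCharacter ψ.2)
  have hB := isCharacter_indFun N (θ : N → ℂ) (isCharacter_of_isIrrCharacter θ.2)
  have h1' : classInner (indFun N (ψ : N → ℂ)) (χ : G → ℂ) ≠ 0 := by
    rw [frobenius_reciprocity N _ _ hcf, ← classInner_conj_symm]
    intro hz
    apply h2
    have := congrArg conj hz
    simpa using this
  have h2' : classInner (indFun N (θ : N → ℂ)) (χ : G → ℂ) ≠ 0 := by
    rw [frobenius_reciprocity N _ _ hcf, ← classInner_conj_symm]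
    intro hz
    apply h1
    have := congrArg conj hz
    simpa using this
  exact classInner_ne_zero_of_common_constituent hA hB χ.2 h1' h2' h0

end Cfsg.Agent.Lib.helper3.RealOdd
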