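import Mathlib
import Cfsg.Prelude.Def_Characters
import Cfsg.Agent.Lib.helper3.RealOdd1
import Cfsg.Agent.S4866

set_option autoImplicit false
set_option linter.style.haveILetI false
set_option linter.unusedSectionVars false

/-!
# Real characters and normal subgroups of odd index, part 2

Real classes of the group against orbits on the real classes of the subgroup, and the count of
real irreducible characters.
-/

namespace Cfsg.Agent.Lib.helper3.RealOdd

open Cfsg Module Cfsg.Agent.Lib.helper3.IndFun Cfsg.Agent.Lib.helper3.CharBasic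
open Cfsg.Agent.Lib.helper3.Irr Cfsg.Agent.Lib.Helper4.FS
open scoped ComplexConjugate

variable {G : Type*} [Group G]

theorem conj_pow_odd {g c : G} (h : c * g * c⁻¹ = g⁻¹) {m : ℕ} (hm : Odd m) :
    c ^ m * g * (c ^ m)⁻¹ = g⁻¹ := by
  have h' : c * g⁻¹ * c⁻¹ = g := by
    calc c * g⁻¹ * c⁻¹ = (c * g * c⁻¹)⁻¹ := by group
      _ = g := by rw [h, inv_inv]
  obtain ⟨k, rfl⟩ := hm
  induction k with
  | zero => simpa using h
  | succ k ih =>
    have e : c ^ (2 * (k + 1) + 1) = c * c * c ^ (2 * k + 1) := by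
      rw [show 2 * (k + 1) + 1 = 2 + (2 * k + 1) by ring, pow_add, pow_two]
    rw [e]
    calc c * c * c ^ (2 * k + 1) * g * (c * c * c ^ (2 * k + 1))⁻¹
        = c * (c * (c ^ (2 * k + 1) * g * (c ^ (2 * k + 1))⁻¹) * c⁻¹) * c⁻¹ := by group
      _ = c * (c * g⁻¹ * c⁻¹) * c⁻¹ := by rw [ih]
      _ = g⁻¹ := by rw [h', h]

/-- A real element of `G` lies in a normal subgroup of odd index and is real in it. -/
theorem real_mem_of_odd_index [Finite G] (N : Subgroup G) [hN : N.Normal] (hodd : Odd N.index)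
    {g : G} (h : IsConj g g⁻¹) : ∃ hg : g ∈ N, IsConj (⟨g, hg⟩ : N) (⟨g, hg⟩ : N)⁻¹ := by
  have hq : IsConj (QuotientGroup.mk' N g) (QuotientGroup.mk' N g)⁻¹ := by
    have := (QuotientGroup.mk' N).map_isConj h
    rwa [map_inv] at this
  have hoddq : Odd (Nat.card (G ⧸ N)) := by
    rw [← Subgroup.index_eq_card]; exact hodd
  have h1 := eq_one_of_isConj_inv_of_odd hoddq hq
  have hg : g ∈ N := (QuotientGroup.eq_one_iff g).mp h1
  refine ⟨hg, ?_⟩
  obtain ⟨c, hc⟩ := isConj_iff.mp h
  -- an odd power of `c` lies in `N`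
  set m := orderOf (QuotientGroup.mk' N c) with hm
  have hmodd : Odd m := hoddq.of_dvd_nat (orderOf_dvd_natCard _)
  have hcm : c ^ m ∈ N := by
    rw [← QuotientGroup.eq_one_iff]
    have : (QuotientGroup.mk' N c) ^ m = 1 := pow_orderOf_eq_one _
    exact this
  have hconj := conj_pow_odd hc hmodd
  rw [isConj_iff]
  refine ⟨⟨c ^ m, hcm⟩, ?_⟩
  apply Subtype.ext
  simp only [Subgroup.coe_mul, Subgroup.coe_inv]
  exact hconj

/-- The map from orbits on real elements of `N` to real classes of `G`. -/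
noncomputable def toRealClass (N : Subgroup G) :
    Quot (fun x y : {x : ↥N // IsConj x x⁻¹} => ∃ g : G, (y.1 : G) = g * x.1 * g⁻¹) →
      {C : ConjClasses G // IsRealClass C} :=
  Quot.lift (fun x => ⟨ConjClasses.mk (x.1 : G), (isRealClass_mk_iff _).mpr (by
      have := N.subtype.map_isConj x.2
      rwa [map_inv] at this)⟩) (by
    rintro x y ⟨g, hg⟩
    apply Subtype.ext
    simp only
    rw [ConjClasses.mk_eq_mk_iff_isConj, isConj_iff]
    exact ⟨g, hg.symm⟩)

theorem toRealClass_bijective [Finite G] (N : Subgroup G) [hN : N.Normal] (hodd : Odd N.index) :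
    Function.Bijective (toRealClass N) := by
  constructor
  · intro a b
    induction a using Quot.ind with | _ x => ?_
    induction b using Quot.ind with | _ y => ?_
    intro h
    have h1 : ConjClasses.mk (x.1 : G) = ConjClasses.mk (y.1 : G) := congrArg Subtype.val h
    rw [ConjClasses.mk_eq_mk_iff_isConj, isConj_iff] at h1
    obtain ⟨c, hc⟩ := h1
    exact Quot.sound ⟨c, hc.symm⟩
  · rintro ⟨C, hC⟩
    obtain ⟨g, rfl⟩ := ConjClasses.exists_rep C
    have hreal : IsConj g g⁻¹ := (isRealClass_mk_iff g).mp hC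
    obtain ⟨hg, hgr⟩ := real_mem_of_odd_index N hodd hreal
    exact ⟨Quot.mk _ ⟨⟨g, hg⟩, hgr⟩, rfl⟩

theorem card_real_classes_eq [Finite G] (N : Subgroup G) [hN : N.Normal] (hodd : Odd N.index) :
    Nat.card {C : ConjClasses G // IsRealClass C}
      = Nat.card (Quot (fun x y : {x : ↥N // IsConj x x⁻¹} =>
          ∃ g : G, (y.1 : G) = g * x.1 * g⁻¹)) :=
  (Nat.card_eq_of_bijective _ (toRealClass_bijective N hodd)).symm

/-- The number of real irreducible characters of `G` is the number of `G`-orbits on the real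
irreducible characters of a normal subgroup of odd index. -/
theorem card_real_irr_eq_card_orbits [Finite G] (N : Subgroup G) [hN : N.Normal]
    (hodd : Odd N.index) :
    Nat.card {χ : IrrCharacter G // ∀ g : G, ((χ : G → ℂ) g).im = 0}
      = Nat.card (Quot (fun θ η : {θ : IrrCharacter ↥N // (∀ k : ↥N, ((θ : ↥N → ℂ) k).im = 0)} =>
          ∃ g : G, ∀ k k' : ↥N, (k' : G) = g * (k : G) * g⁻¹ →
            (η.1 : ↥N → ℂ) k' = (θ.1 : ↥N → ℂ) k)) := by
  rw [card_real_irr_eq_card_real_classes, card_real_classes_eq N hodd]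
  exact (Cfsg.Agent.S4866.result N hodd).symm

end Cfsg.Agent.Lib.helper3.RealOdd
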