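import Mathlib
import Cfsg.Prelude.Def_Characters
import Cfsg.Agent.Lib.helper3.RealOdd2

set_option autoImplicit false
set_option linter.style.haveILetI false
set_option linter.unusedSectionVars false

/-!
# Real characters and normal subgroups of odd index, part 3

Over a real irreducible character of a normal subgroup of odd index lies exactly one real
irreducible character of the group, and the Frobenius--Schur indicators agree.
-/

namespace Cfsg.Agent.Lib.helper3.RealOdd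

open Cfsg Module Cfsg.Agent.Lib.helper3.IndFun Cfsg.Agent.Lib.helper3.CharBasic
open Cfsg.Agent.Lib.helper3.Irr Cfsg.Agent.Lib.Helper4.FS
open scoped ComplexConjugate

variable {G : Type*} [Group G] [Fintype G] (N : Subgroup G) [hN : N.Normal] [Fintype N]

/-- A real irreducible character of a normal subgroup of odd index lies under an irreducible
character with nonzero Frobenius--Schur indicator. -/
theorem exists_real_over (hodd : Odd N.index) (θ : IrrCharacter N)
    (hθ : ∀ k : N, ((θ : N → ℂ) k).im = 0) :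
    ∃ χ : IrrCharacter G, fsInd (χ : G → ℂ) ≠ 0 ∧
      classInner (fun n : N => (χ : G → ℂ) n) (θ : N → ℂ) ≠ 0 := by
  classical
  have hreal : ∀ k : N, conj ((θ : N → ℂ) k) = (θ : N → ℂ) k :=
    fun k => Complex.conj_eq_iff_im.mpr (hθ k)
  have hne : fsInd (θ : N → ℂ) ≠ 0 := by
    rcases fsInd_eq_or_of_real θ.2 hreal with h | h <;> rw [h] <;> norm_num
  rw [← sum_fsInd_mul_classInner N hodd θ] at hne
  obtain ⟨χ, -, hχ⟩ := Finset.exists_ne_zero_of_sum_ne_zero hne
  exact ⟨χ, left_ne_zero_of_mul hχ, right_ne_zero_of_mul hχ⟩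

/-- The orbit relation on the real irreducible characters of `N`, as in the count. -/
def orbRel : {θ : IrrCharacter ↥N // (∀ k : ↥N, ((θ : ↥N → ℂ) k).im = 0)} →
    {θ : IrrCharacter ↥N // (∀ k : ↥N, ((θ : ↥N → ℂ) k).im = 0)} → Prop :=
  fun θ η => ∃ g : G, ∀ k k' : ↥N, (k' : G) = g * (k : G) * g⁻¹ →
    (η.1 : ↥N → ℂ) k' = (θ.1 : ↥N → ℂ) k

theorem quot_eq_of_conj (θ η : {θ : IrrCharacter ↥N // (∀ k : ↥N, ((θ : ↥N → ℂ) k).im = 0)})
    (g : G) (h : (η.1 : N → ℂ) = conjFun N (θ.1 : N → ℂ) g) :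
    Quot.mk (orbRel N) θ = Quot.mk (orbRel N) η := by
  apply Quot.sound
  refine ⟨g⁻¹, ?_⟩
  intro k k' hk
  rw [h]
  unfold conjFun
  apply congrArg (θ.1 : N → ℂ)
  apply Subtype.ext
  simp only
  rw [hk]
  group

/-- Over a real irreducible character of a normal subgroup of odd index lies at most one real
irreducible character. -/
theorem real_over_unique (hodd : Odd N.index) (φ : IrrCharacter N)
    (hφ : ∀ k : N, ((φ : N → ℂ) k).im = 0) (χ χ' : IrrCharacter G)
    (hχ : ∀ g : G, ((χ : G → ℂ) g).im = 0) (hχ' : ∀ g : G, ((χ' : G → ℂ) g).im = 0)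
    (h : classInner (fun n : N => (χ : G → ℂ) n) (φ : N → ℂ) ≠ 0)
    (h' : classInner (fun n : N => (χ' : G → ℂ) n) (φ : N → ℂ) ≠ 0) : χ = χ' := by
  classical
  have hex : ∀ q : Quot (orbRel N),
      ∃ ψ : {χ : IrrCharacter G // ∀ g : G, ((χ : G → ℂ) g).im = 0},
        classInner (fun n : N => (ψ.1 : G → ℂ) n) ((q.out.1 : IrrCharacter N) : N → ℂ) ≠ 0 := by
    intro q
    obtain ⟨ψ, hψ1, hψ2⟩ := exists_real_over N hodd q.out.1 q.out.2
    have hr := real_of_fsInd_ne_zero ψ.2 hψ1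
    exact ⟨⟨ψ, fun g => Complex.conj_eq_iff_im.mp (hr g)⟩, hψ2⟩
  choose F hF using hex
  have hinj : Function.Injective F := by
    intro q q' hqq
    have h1 := hF q
    have h2 := hF q'
    rw [hqq] at h1
    obtain ⟨g, hg⟩ := exists_conj_of_constituents N (F q').1 q.out.1 q'.out.1 h1 h2
    have := quot_eq_of_conj N q.out q'.out g hg
    rw [Quot.out_eq, Quot.out_eq] at this
    exact this
  have hcard : Nat.card {χ : IrrCharacter G // ∀ g : G, ((χ : G → ℂ) g).im = 0}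
      = Nat.card (Quot (orbRel N)) := card_real_irr_eq_card_orbits N hodd
  have hbij : Function.Bijective F :=
    hinj.bijective_of_nat_card_le hcard.le
  have hkey : ∀ (ψ : IrrCharacter G) (hψ : ∀ g : G, ((ψ : G → ℂ) g).im = 0),
      classInner (fun n : N => (ψ : G → ℂ) n) (φ : N → ℂ) ≠ 0 →
      F (Quot.mk (orbRel N) ⟨φ, hφ⟩) = ⟨ψ, hψ⟩ := by
    intro ψ hψ hov
    obtain ⟨q, hq⟩ := hbij.2 ⟨ψ, hψ⟩
    have h1 := hF q
    rw [hq] at h1
    obtain ⟨g, hg⟩ := exists_conj_of_constituents N ψ q.out.1 φ h1 hov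
    have := quot_eq_of_conj N q.out ⟨φ, hφ⟩ g hg
    rw [Quot.out_eq] at this
    rw [← this, hq]
  have e1 := hkey χ hχ h
  have e2 := hkey χ' hχ' h'
  have := e1.symm.trans e2
  exact congrArg Subtype.val this

/-- Over an irreducible character with indicator `1` of a normal subgroup of odd index lies an
irreducible character with indicator `1`. -/
theorem exists_fsInd_one_over (hodd : Odd N.index) (φ : IrrCharacter N)
    (hν : fsInd (φ : N → ℂ) = 1) :
    ∃ χ : IrrCharacter G, fsInd (χ : G → ℂ) = 1 ∧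
      classInner (fun n : N => (χ : G → ℂ) n) (φ : N → ℂ) ≠ 0 := by
  classical
  have hφr : ∀ k : N, ((φ : N → ℂ) k).im = 0 := by
    have := real_of_fsInd_ne_zero φ.2 (by rw [hν]; norm_num)
    exact fun k => Complex.conj_eq_iff_im.mp (this k)
  have hsum := sum_fsInd_mul_classInner N hodd φ
  rw [hν] at hsum
  have hne : ∑ χ : IrrCharacter G, fsInd (χ : G → ℂ) *
      classInner (fun n : N => (χ : G → ℂ) n) (φ : N → ℂ) ≠ 0 := by
    rw [hsum]; norm_num
  obtain ⟨χ₀, -, hχ₀⟩ := Finset.exists_ne_zero_of_sum_ne_zero hne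
  have hχ₀r : ∀ g : G, ((χ₀ : G → ℂ) g).im = 0 := by
    have := real_of_fsInd_ne_zero χ₀.2 (left_ne_zero_of_mul hχ₀)
    exact fun g => Complex.conj_eq_iff_im.mp (this g)
  have hsingle : ∑ χ : IrrCharacter G, fsInd (χ : G → ℂ) *
      classInner (fun n : N => (χ : G → ℂ) n) (φ : N → ℂ)
      = fsInd (χ₀ : G → ℂ) * classInner (fun n : N => (χ₀ : G → ℂ) n) (φ : N → ℂ) := by
    apply Finset.sum_eq_single χ₀
    · intro χ _ hχne
      by_contra hne'
      apply hχne
      have hχr : ∀ g : G, ((χ : G → ℂ) g).im = 0 := by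
        have := real_of_fsInd_ne_zero χ.2 (left_ne_zero_of_mul hne')
        exact fun g => Complex.conj_eq_iff_im.mp (this g)
      exact real_over_unique N hodd φ hφr χ χ₀ hχr hχ₀r (right_ne_zero_of_mul hne')
        (right_ne_zero_of_mul hχ₀)
    · intro h
      exact absurd (Finset.mem_univ χ₀) h
  rw [hsingle] at hsum
  refine ⟨χ₀, ?_, right_ne_zero_of_mul hχ₀⟩
  have hres := isCharacter_restrict (isCharacter_of_isIrrCharacter χ₀.2) N
  obtain ⟨n, hn⟩ := exists_nat_classInner_of_isCharacter hres φ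
  have hreal : ∀ g : G, conj ((χ₀ : G → ℂ) g) = (χ₀ : G → ℂ) g :=
    fun g => Complex.conj_eq_iff_im.mpr (hχ₀r g)
  rcases fsInd_eq_or_of_real χ₀.2 hreal with h1 | h1
  · exact h1
  · exfalso
    rw [h1, hn] at hsum
    have h2 : ((n + 1 : ℕ) : ℂ) = 0 := by
      push_cast
      linear_combination -hsum
    have : n + 1 = 0 := by exact_mod_cast h2
    omega

/-- The statement with finite sums written as `finsum`. -/
theorem fsInd_one_unique_over {G : Type*} [Group G] [Finite G] (N : Subgroup G) [N.Normal]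
    (hodd : Odd N.index) (φ : IrrCharacter ↥N)
    (hφ : (Nat.card ↥N : ℂ)⁻¹ * ∑ᶠ g : ↥N, (φ : ↥N → ℂ) (g * g) = 1) :
    ∃! χ : IrrCharacter G, (Nat.card G : ℂ)⁻¹ * ∑ᶠ g : G, (χ : G → ℂ) (g * g) = 1 ∧
      (∑ᶠ n : ↥N, (χ : G → ℂ) n * (starRingEnd ℂ) ((φ : ↥N → ℂ) n)) ≠ 0 := by
  classical
  letI : Fintype G := Fintype.ofFinite G
  letI : Fintype N := Fintype.ofFinite N
  have hfs : ∀ χ : IrrCharacter G,
      (Nat.card G : ℂ)⁻¹ * ∑ᶠ g : G, (χ : G → ℂ) (g * g) = fsInd (χ : G → ℂ) := by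
    intro χ
    rw [finsum_eq_sum_of_fintype]
    rfl
  have hfsN : (Nat.card ↥N : ℂ)⁻¹ * ∑ᶠ g : ↥N, (φ : ↥N → ℂ) (g * g) = fsInd (φ : N → ℂ) := by
    rw [finsum_eq_sum_of_fintype]
    rfl
  have hcN : (Nat.card N : ℂ) ≠ 0 := card_ne_zero_complex N
  have hin : ∀ χ : IrrCharacter G,
      (∑ᶠ n : ↥N, (χ : G → ℂ) n * (starRingEnd ℂ) ((φ : ↥N → ℂ) n)) ≠ 0 ↔
        classInner (fun n : N => (χ : G → ℂ) n) (φ : N → ℂ) ≠ 0 := by
    intro χ
    rw [finsum_eq_sum_of_fintype, classInner_apply]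
    constructor
    · intro h
      exact mul_ne_zero (inv_ne_zero hcN) h
    · intro h
      exact right_ne_zero_of_mul h
  rw [hfsN] at hφ
  obtain ⟨χ₀, h1, h2⟩ := exists_fsInd_one_over N hodd φ hφ
  have hφr : ∀ k : N, ((φ : N → ℂ) k).im = 0 := by
    have := real_of_fsInd_ne_zero φ.2 (by rw [hφ]; norm_num)
    exact fun k => Complex.conj_eq_iff_im.mp (this k)
  have hr : ∀ χ : IrrCharacter G, fsInd (χ : G → ℂ) = 1 → ∀ g : G, ((χ : G → ℂ) g).im = 0 := by
    intro χ hχ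
    have := real_of_fsInd_ne_zero χ.2 (by rw [hχ]; norm_num)
    exact fun g => Complex.conj_eq_iff_im.mp (this g)
  refine ⟨χ₀, ⟨by rw [hfs]; exact h1, (hin χ₀).mpr h2⟩, ?_⟩
  rintro χ ⟨hχ1, hχ2⟩
  rw [hfs] at hχ1
  exact real_over_unique N hodd φ hφr χ χ₀ (hr χ hχ1) (hr χ₀ h1) ((hin χ).mp hχ2) h2

end Cfsg.Agent.Lib.helper3.RealOdd
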