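import Mathlib
import Cfsg.Prelude.Def_Characters
import Cfsg.Prelude.Def_Blocks
import Cfsg.Agent.Lib.helper3.Irr12
import Cfsg.Agent.Lib.helper3.Inflate
import Cfsg.Agent.Lib.helper3.Inflate2

set_option autoImplicit false
set_option linter.style.haveILetI false
set_option linter.unusedSectionVars false
set_option linter.unusedVariables false

/-!
# Real characters of odd degree and Sylow normalizers (S4581), part 1

An abstract fibrewise counting lemma, and the bijection between the irreducible characters of the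
image of a surjective homomorphism and the irreducible characters trivial on its kernel.
-/

namespace Cfsg.Agent.Lib.helper3.RealOddI

open Cfsg Cfsg.Agent.Lib.helper3.Irr Cfsg.Agent.Lib.helper3.CharBasic
open scoped ComplexConjugate

universe u

theorem card_eq_finsum_fibers {Z M : Type*} [Finite Z] [Finite M]
    (R : M → M → Prop) (r : M → Z → Prop) (g1 : ∀ x, ∃ μ, r μ x)
    (g2 : ∀ x μ μ', r μ x → r μ' x → R μ μ') (g3 : ∀ x μ μ', R μ μ' → (r μ x ↔ r μ' x)) :
    Nat.card Z = ∑ᶠ o : Quot R, Nat.card {x // r (Quot.out o) x} := by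
  classical
  let c : Z → Quot R := fun x => Quot.mk R (Classical.choose (g1 x))
  have key : ∀ x μ, c x = Quot.mk R μ ↔ r μ x := by
    intro x μ
    constructor
    · intro h
      have h5 : Relation.EqvGen R (Classical.choose (g1 x)) μ := Quot.eqvGen_exact h
      have h6 : ∀ a b, Relation.EqvGen R a b → (r a x ↔ r b x) := by
        intro a b hab
        induction hab with
        | rel a b hab => exact g3 x a b hab
        | refl a => exact Iff.rfl
        | symm a b _ ih => exact ih.symm
        | trans a b c _ _ ih1 ih2 => exact ih1.trans ih2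
      exact (h6 _ _ h5).mp (Classical.choose_spec (g1 x))
    · intro h
      exact Quot.sound (g2 x _ _ (Classical.choose_spec (g1 x)) h)
  letI : Fintype (Quot R) := Fintype.ofFinite _
  rw [finsum_eq_sum_of_fintype, Nat.card_congr (Equiv.sigmaFiberEquiv c).symm, Nat.card_sigma]
  apply Finset.sum_congr rfl
  intro o _
  apply Nat.card_congr
  apply Equiv.subtypeEquivRight
  intro x
  rw [← key x (Quot.out o), Quot.out_eq]

/-- Fibrewise counting over the classes of a relation. -/
theorem card_eq_of_fiberwise {X X' M : Type*} [Finite X] [Finite X'] [Finite M]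
    (R : M → M → Prop) (rel : M → X → Prop) (rel' : M → X' → Prop)
    (h1 : ∀ x, ∃ μ, rel μ x) (h2 : ∀ x μ μ', rel μ x → rel μ' x → R μ μ')
    (h3 : ∀ x μ μ', R μ μ' → (rel μ x ↔ rel μ' x))
    (h1' : ∀ x, ∃ μ, rel' μ x) (h2' : ∀ x μ μ', rel' μ x → rel' μ' x → R μ μ')
    (h3' : ∀ x μ μ', R μ μ' → (rel' μ x ↔ rel' μ' x))
    (h4 : ∀ μ, Nat.card {x // rel μ x} = Nat.card {x // rel' μ x}) :
    Nat.card X = Nat.card X' := by
  rw [card_eq_finsum_fibers R rel h1 h2 h3, card_eq_finsum_fibers R rel' h1' h2' h3']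
  apply finsum_congr
  intro o
  exact h4 _

section surj

variable {X Y : Type u} [Group X] [Group Y]

theorem isIrrCharacter_comp_surjective [Finite X] (f : X →* Y) (hf : Function.Surjective f)
    {ψ : Y → ℂ} (hψ : IsIrrCharacter Y ψ) : IsIrrCharacter X (fun x => ψ (f x)) := by
  let e0 : X ⧸ f.ker ≃* Y := QuotientGroup.quotientKerEquivOfSurjective f hf
  haveI : Finite Y := Finite.of_surjective f hf
  have h1 : IsIrrCharacter (X ⧸ f.ker) (fun q => ψ (e0 q)) := isIrrCharacter_comp_mulEquiv e0 hψ
  have h2 := isIrrCharacter_inflate f.ker h1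
  have h3 : inflate f.ker (fun q => ψ (e0 q)) = fun x => ψ (f x) := by
    funext x
    rw [inflate_apply]
    rfl
  rwa [h3] at h2

/-- The irreducible characters of the image of a surjective homomorphism are the irreducible
characters trivial on the kernel. -/
theorem exists_irr_equiv_of_surjective [Finite X] (f : X →* Y) (hf : Function.Surjective f) :
    ∃ e : IrrCharacter Y ≃ {χ : IrrCharacter X // ∀ k ∈ f.ker, (χ : X → ℂ) k = (χ : X → ℂ) 1},
      ∀ (ψ : IrrCharacter Y) (x : X), ((e ψ : IrrCharacter X) : X → ℂ) x = (ψ : Y → ℂ) (f x) := by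
  classical
  haveI : Finite Y := Finite.of_surjective f hf
  let F : IrrCharacter Y → {χ : IrrCharacter X // ∀ k ∈ f.ker, (χ : X → ℂ) k = (χ : X → ℂ) 1} :=
    fun ψ => ⟨⟨fun x => (ψ : Y → ℂ) (f x), isIrrCharacter_comp_surjective f hf ψ.2⟩, by
      intro k hk
      show (ψ : Y → ℂ) (f k) = (ψ : Y → ℂ) (f 1)
      rw [MonoidHom.mem_ker.mp hk, map_one]⟩
  have hF : Function.Bijective F := by
    constructor
    · intro ψ ψ' h
      apply Subtype.ext
      funext y
      obtain ⟨x, rfl⟩ := hf y
      have := congrArg (fun χ : {χ : IrrCharacter X // ∀ k ∈ f.ker, (χ : X → ℂ) k = (χ : X → ℂ) 1}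
        => ((χ : IrrCharacter X) : X → ℂ) x) h
      exact this
    · rintro ⟨χ, hχ⟩
      have hconst : ∀ g n : X, n ∈ f.ker → (χ : X → ℂ) (g * n) = (χ : X → ℂ) g := by
        intro g n hn
        exact apply_mul_of_apply_eq_one (isCharacter_of_isIrrCharacter χ.2) (hχ n hn) g
      obtain ⟨ψ0, hψ0, hχψ⟩ := exists_eq_inflate χ.2 f.ker hconst
      let e0 : X ⧸ f.ker ≃* Y := QuotientGroup.quotientKerEquivOfSurjective f hf
      haveI : Finite (X ⧸ f.ker) := inferInstance
      have hψ : IsIrrCharacter Y (fun y => ψ0 (e0.symm y)) := isIrrCharacter_comp_mulEquiv e0.symm hψ0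
      refine ⟨⟨_, hψ⟩, ?_⟩
      apply Subtype.ext
      apply Subtype.ext
      show (fun x => ψ0 (e0.symm (f x))) = (χ : X → ℂ)
      rw [hχψ]
      funext x
      rw [inflate_apply]
      congr 1
      rw [MulEquiv.symm_apply_eq]
      rfl
  exact ⟨Equiv.ofBijective F hF, fun ψ x => rfl⟩

end surj

end Cfsg.Agent.Lib.helper3.RealOddI
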