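import Mathlib
import Cfsg.Prelude.Def_Characters
import Cfsg.Prelude.Def_Blocks
import Cfsg.Agent.Lib.helper3.FR1
import Cfsg.Agent.Lib.helper3.Irr9
import Cfsg.Agent.Lib.helper3.Irr10
import Cfsg.Agent.Lib.helper3.Irr15
import Cfsg.Agent.Lib.helper3.DefectOrder
import Cfsg.Agent.Lib.helper3.RealOddI1

set_option autoImplicit false
set_option linter.style.haveILetI false
set_option linter.unusedSectionVars false
set_option linter.unusedVariables false

/-!
# Real characters of odd degree and Sylow normalizers (S4581), part 2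

The Clifford correspondence as an equivalence, with degrees and reality.
-/

namespace Cfsg.Agent.Lib.helper3.RealOddI

open Cfsg Cfsg.Agent.Lib.helper3.Irr Cfsg.Agent.Lib.helper3.CharBasic
open Cfsg.Agent.Lib.helper3.IndFun
open scoped ComplexConjugate

universe u

variable {G : Type u} [Group G] [Fintype G]

theorem classInner_ind_sub_ne_zero' (N T : Subgroup G) [Fintype N] [Fintype T] (hNT : N ≤ T)
    (θ : N → ℂ) (ψ : T → ℂ) (hψ : IsIrrCharacter T ψ)
    (h : classInner (fun n : N => ψ ⟨(n : G), hNT n.2⟩) θ ≠ 0) :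
    classInner (indFun (N.subgroupOf T) (subFun N T θ)) ψ ≠ 0 := by
  classical
  letI : Fintype (N.subgroupOf T) := Fintype.ofFinite _
  have hcfψ := isClassFunction_of_isCharacter (isCharacter_of_isIrrCharacter hψ)
  rw [frobenius_reciprocity (N.subgroupOf T) _ _ hcfψ]
  have h2 : (fun x : N.subgroupOf T => ψ (x : T))
      = subFun N T (fun n : N => ψ ⟨(n : G), hNT n.2⟩) := rfl
  rw [h2, classInner_subFun hNT, ← classInner_conj_symm]
  intro h0
  apply h
  have := congrArg conj h0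
  simpa using this

/-- The induced character lies over the same character. -/
theorem over_ind_of_over' (A T : Subgroup G) [hA : A.Normal] [Fintype A] [Fintype T]
    (θ : A → ℂ) (hθ : IsIrrCharacter A θ)
    (hT : ∀ g : G, (∀ h : A, θ ⟨g * h * g⁻¹, hA.conj_mem h h.2 g⟩ = θ h) → g ∈ T)
    (hAT : A ≤ T) (ψ : IrrCharacter T)
    (h : classInner (fun n : A => (ψ : T → ℂ) ⟨(n : G), hAT n.2⟩) θ ≠ 0) :
    classInner (fun n : A => indFun T (ψ : T → ℂ) n) θ ≠ 0 := by
  classical
  obtain ⟨f, hf, hirr, horth, hind⟩ := clifford_corr_aux' A T θ hθ hT hAT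
  have hc := classInner_ind_sub_ne_zero' A T hAT θ (ψ : T → ℂ) ψ.2 h
  have hfψ : f ψ ≠ 0 := by
    intro h0
    apply hc
    rw [hf]
    have := classInner_decomposition_left (fun χ : IrrCharacter T => (f χ : ℂ)) ψ
    beta_reduce at this
    rw [this, h0, Nat.cast_zero]
  have hχ := hirr ψ hfψ
  have hcf := isClassFunction_of_isCharacter (isCharacter_of_isIrrCharacter hχ)
  have hmult : classInner (indFun A θ) (indFun T (ψ : T → ℂ)) = (f ψ : ℂ) := by
    rw [hind, classInner_sum_left, Finset.sum_eq_single ψ]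
    · rw [classInner_smul_left, irr_classInner_self hχ, mul_one]
    · intro ψ' _ hne'
      rw [classInner_smul_left]
      by_cases hfψ' : f ψ' = 0
      · rw [hfψ', Nat.cast_zero, zero_mul]
      · rw [horth ψ' ψ hfψ' hfψ hne', mul_zero]
    · intro h; exact absurd (Finset.mem_univ _) h
  rw [frobenius_reciprocity A θ _ hcf] at hmult
  intro h0
  have h1 : classInner θ (fun n : A => indFun T (ψ : T → ℂ) n) = 0 := by
    rw [← classInner_conj_symm, h0, map_zero]
  rw [h1] at hmult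
  exact hfψ (by exact_mod_cast hmult.symm)

/-- The Clifford correspondence as an equivalence. -/
theorem exists_clifford_equiv (A T : Subgroup G) [hA : A.Normal] [Fintype A] [Fintype T]
    (θ : A → ℂ) (hθ : IsIrrCharacter A θ)
    (hT : ∀ g : G, (∀ h : A, θ ⟨g * h * g⁻¹, hA.conj_mem h h.2 g⟩ = θ h) → g ∈ T)
    (hAT : A ≤ T) :
    ∃ e : {ψ : IrrCharacter T //
          classInner (fun n : A => (ψ : T → ℂ) ⟨(n : G), hAT n.2⟩) θ ≠ 0} ≃
        {χ : IrrCharacter G // classInner (fun n : A => (χ : G → ℂ) n) θ ≠ 0},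
      ∀ ψ, ((e ψ : IrrCharacter G) : G → ℂ) = indFun T ((ψ : IrrCharacter T) : T → ℂ) := by
  classical
  have hirr : ∀ ψ : {ψ : IrrCharacter T //
      classInner (fun n : A => (ψ : T → ℂ) ⟨(n : G), hAT n.2⟩) θ ≠ 0},
      IsIrrCharacter G (indFun T ((ψ : IrrCharacter T) : T → ℂ)) := by
    intro ψ
    have hc := classInner_ind_sub_ne_zero' A T hAT θ (ψ.1 : T → ℂ) ψ.1.2 ψ.2
    exact (clifford_corr_injective' A T θ hθ hT hAT _ _ ψ.1.2 ψ.1.2 hc hc).1
  let F : {ψ : IrrCharacter T //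
      classInner (fun n : A => (ψ : T → ℂ) ⟨(n : G), hAT n.2⟩) θ ≠ 0} →
      {χ : IrrCharacter G // classInner (fun n : A => (χ : G → ℂ) n) θ ≠ 0} :=
    fun ψ => ⟨⟨indFun T ((ψ : IrrCharacter T) : T → ℂ), hirr ψ⟩,
      over_ind_of_over' A T θ hθ hT hAT ψ.1 ψ.2⟩
  have hF : Function.Bijective F := by
    constructor
    · intro ψ ψ' h
      have h1 : indFun T ((ψ : IrrCharacter T) : T → ℂ) = indFun T ((ψ' : IrrCharacter T) : T → ℂ) := by
        have := congrArg (fun χ : {χ : IrrCharacter G //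
          classInner (fun n : A => (χ : G → ℂ) n) θ ≠ 0} => ((χ : IrrCharacter G) : G → ℂ)) h
        exact this
      have hc := classInner_ind_sub_ne_zero' A T hAT θ (ψ.1 : T → ℂ) ψ.1.2 ψ.2
      have hc' := classInner_ind_sub_ne_zero' A T hAT θ (ψ'.1 : T → ℂ) ψ'.1.2 ψ'.2
      apply Subtype.ext
      apply Subtype.ext
      exact (clifford_corr_injective' A T θ hθ hT hAT _ _ ψ.1.2 ψ'.1.2 hc hc').2 h1
    · rintro ⟨χ, hχ⟩
      obtain ⟨ψ, hψ, hind, hc⟩ := clifford_corr_surjective' A θ hθ T hT hAT (χ : G → ℂ) χ.2 hχ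
      refine ⟨⟨⟨ψ, hψ⟩, by rw [hc]; exact hχ⟩, ?_⟩
      apply Subtype.ext
      apply Subtype.ext
      exact hind
  exact ⟨Equiv.ofBijective F hF, fun ψ => rfl⟩

theorem charDegree_indFun_irr (T : Subgroup G) [Fintype T] (ψ : IrrCharacter T) :
    charDegree (indFun T (ψ : T → ℂ)) = T.index * charDegree (ψ : T → ℂ) := by
  obtain ⟨d, _, hd⟩ := exists_pos_nat_apply_one ψ.2
  have h1 : indFun T (ψ : T → ℂ) 1 = ((T.index * d : ℕ) : ℂ) := by
    rw [indFun_apply_one, hd]
    push_cast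
    ring
  rw [Cfsg.Agent.Lib.helper3.Block.charDegree_eq h1, Cfsg.Agent.Lib.helper3.Block.charDegree_eq hd]

/-- Counting real characters of odd degree through the Clifford correspondence. -/
theorem card_real_odd_over_eq (A T : Subgroup G) [hA : A.Normal] [Fintype A] [Fintype T]
    (θ : A → ℂ) (hθ : IsIrrCharacter A θ) (hθr : ∀ a : A, (θ a).im = 0)
    (hT : ∀ g : G, (∀ h : A, θ ⟨g * h * g⁻¹, hA.conj_mem h h.2 g⟩ = θ h) → g ∈ T)
    (hAT : A ≤ T) (hodd : Odd T.index) :
    Nat.card {χ : IrrCharacter G // (∀ g : G, ((χ : G → ℂ) g).im = 0) ∧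
        Odd (charDegree (χ : G → ℂ)) ∧ classInner (fun n : A => (χ : G → ℂ) n) θ ≠ 0} =
      Nat.card {ψ : IrrCharacter T // (∀ t : T, ((ψ : T → ℂ) t).im = 0) ∧
        Odd (charDegree (ψ : T → ℂ)) ∧
        classInner (fun n : A => (ψ : T → ℂ) ⟨(n : G), hAT n.2⟩) θ ≠ 0} := by
  classical
  obtain ⟨e, he⟩ := exists_clifford_equiv A T θ hθ hT hAT
  symm
  -- restrict the equivalence
  have hθc : (fun a : A => conj (θ a)) = θ := by
    funext a
    exact Complex.conj_eq_iff_im.mpr (hθr a)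
  have hreal : ∀ ψ : {ψ : IrrCharacter T //
      classInner (fun n : A => (ψ : T → ℂ) ⟨(n : G), hAT n.2⟩) θ ≠ 0},
      (∀ t : T, (((ψ : IrrCharacter T) : T → ℂ) t).im = 0) ↔
        (∀ g : G, (((e ψ : IrrCharacter G) : G → ℂ) g).im = 0) := by
    intro ψ
    constructor
    · intro h g
      rw [he ψ]
      apply Complex.conj_eq_iff_im.mp
      rw [← indFun_conj]
      congr 1
      funext t
      exact Complex.conj_eq_iff_im.mpr (h t)
    · intro h
      -- the conjugate of ψ
      have hψc : IsIrrCharacter T (fun t => conj (((ψ : IrrCharacter T) : T → ℂ) t)) :=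
        isIrrCharacter_conj ψ.1.2
      have hover : classInner (fun n : A =>
          (fun t => conj (((ψ : IrrCharacter T) : T → ℂ) t)) ⟨(n : G), hAT n.2⟩) θ ≠ 0 := by
        have h1 := classInner_conj_conj
          (fun n : A => ((ψ : IrrCharacter T) : T → ℂ) ⟨(n : G), hAT n.2⟩) θ
        rw [hθc] at h1
        show classInner (fun n : A => conj (((ψ : IrrCharacter T) : T → ℂ) ⟨(n : G), hAT n.2⟩)) θ ≠ 0
        rw [h1]
        intro h0
        apply ψ.2
        have := congrArg conj h0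
        simpa using this
      set ψ' : {ψ : IrrCharacter T //
        classInner (fun n : A => (ψ : T → ℂ) ⟨(n : G), hAT n.2⟩) θ ≠ 0} :=
        ⟨⟨_, hψc⟩, hover⟩ with hψ'
      have heq : e ψ' = e ψ := by
        apply Subtype.ext
        apply Subtype.ext
        rw [he ψ', he ψ]
        funext g
        show indFun T (fun t => conj (((ψ : IrrCharacter T) : T → ℂ) t)) g = _
        rw [indFun_conj, ← he ψ]
        exact Complex.conj_eq_iff_im.mpr (h g)
      have h2 := e.injective heq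
      intro t
      apply Complex.conj_eq_iff_im.mp
      have h3 := congrArg (fun ψ : {ψ : IrrCharacter T //
        classInner (fun n : A => (ψ : T → ℂ) ⟨(n : G), hAT n.2⟩) θ ≠ 0} =>
        ((ψ : IrrCharacter T) : T → ℂ) t) h2
      exact h3
  have hdeg : ∀ ψ : {ψ : IrrCharacter T //
      classInner (fun n : A => (ψ : T → ℂ) ⟨(n : G), hAT n.2⟩) θ ≠ 0},
      Odd (charDegree ((ψ : IrrCharacter T) : T → ℂ)) ↔
        Odd (charDegree ((e ψ : IrrCharacter G) : G → ℂ)) := by
    intro ψ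
    rw [he ψ, charDegree_indFun_irr, Nat.odd_mul]
    exact ⟨fun h => ⟨hodd, h⟩, fun h => h.2⟩
  apply Nat.card_congr
  refine
    { toFun := fun ψ => ⟨(e ⟨ψ.1, ψ.2.2.2⟩ : IrrCharacter G),
        (hreal ⟨ψ.1, ψ.2.2.2⟩).mp ψ.2.1, (hdeg ⟨ψ.1, ψ.2.2.2⟩).mp ψ.2.2.1, (e ⟨ψ.1, ψ.2.2.2⟩).2⟩
      invFun := fun χ => ⟨(e.symm ⟨χ.1, χ.2.2.2⟩ : IrrCharacter T), ?_, ?_,
        (e.symm ⟨χ.1, χ.2.2.2⟩).2⟩
      left_inv := ?_
      right_inv := ?_ }
  · apply (hreal _).mpr
    rw [Equiv.apply_symm_apply]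
    exact χ.2.1
  · apply (hdeg _).mpr
    rw [Equiv.apply_symm_apply]
    exact χ.2.2.1
  · intro ψ
    apply Subtype.ext
    simp
  · intro χ
    apply Subtype.ext
    simp

end Cfsg.Agent.Lib.helper3.RealOddI
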