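import Mathlib
import Cfsg.Prelude.Def_Characters
import Cfsg.Agent.Lib.helper3.Cyclo

set_option autoImplicit false
set_option linter.style.haveILetI false
set_option linter.unusedSectionVars false

/-!
# Rationality of `p`-rational characters on `p`-groups
-/

namespace Cfsg.Agent.Lib.helper3.SchurBound

open Cfsg Module Cfsg.Agent.Lib.helper3.CharBasic Cfsg.Agent.Lib.helper3.Cyclo
open scoped ComplexConjugate

/-- An automorphism fixing `b` fixes the field generated by `b`. -/
theorem aut_fixes_adjoin {K : Type*} [Field K] [Algebra ℚ K] (σ : K ≃ₐ[ℚ] K) (b : K)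
    (hb : σ b = b) (c : K) (hc : c ∈ IntermediateField.adjoin ℚ ({b} : Set K)) : σ c = c := by
  induction hc using IntermediateField.adjoin_induction with
  | mem x hx =>
    rw [Set.mem_singleton_iff] at hx
    rw [hx, hb]
  | algebraMap x => exact σ.commutes x
  | add x y _ _ hx hy => rw [map_add, hx, hy]
  | inv x _ hx => rw [map_inv₀, hx]
  | mul x y _ _ hx hy => rw [map_mul, hx, hy]

variable {P : Type*} [Group P] [Finite P]
variable {V : Type*} [AddCommGroup V] [Module ℂ V] [FiniteDimensional ℂ V]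

/-- A `p`-rational character of a group of exponent dividing `p ^ a` is invariant under
prime-to-`p` powers and takes integer values. -/
theorem character_rational_of_pRational (p a r : ℕ) (hp : p.Prime) (hr : 0 < r) (hpr : ¬ p ∣ r)
    (hexp : ∀ g : P, g ^ p ^ a = 1) (ρ : Representation ℂ P V)
    (hrat : ∀ g : P, ρ.character g ∈ IntermediateField.adjoin ℚ
      ({Complex.exp (2 * Real.pi * Complex.I / r)} : Set ℂ)) (x : P) :
    (∀ j : ℕ, j.Coprime p → ρ.character (x ^ j) = ρ.character x) ∧
      ∃ z : ℤ, ρ.character x = z := by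
  obtain ⟨N, hNdef⟩ : ∃ N : ℕ, N = p ^ a * r := ⟨_, rfl⟩
  have hNpos : 0 < N := by rw [hNdef]; exact Nat.mul_pos (pow_pos hp.pos a) hr
  haveI : NeZero N := ⟨hNpos.ne'⟩
  have hN : ∀ g : P, g ^ N = 1 := by
    intro g
    rw [hNdef, pow_mul, hexp g, one_pow]
  obtain ⟨ax, hint, hemb, hgal⟩ := exists_cyclo_lift N hN ρ x
  have hζ : IsPrimitiveRoot (zetaK N) N := zetaK_spec N
  have hζ' : IsPrimitiveRoot (emb N (zetaK N)) N := emb_zetaK_spec N
  have hω : IsPrimitiveRoot (Complex.exp (2 * Real.pi * Complex.I / r)) r :=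
    Complex.isPrimitiveRoot_exp r hr.ne'
  have hη : IsPrimitiveRoot (emb N (zetaK N) ^ p ^ a) r := hζ'.pow hNpos hNdef
  haveI : NeZero r := ⟨hr.ne'⟩
  obtain ⟨s, -, hs⟩ := hη.eq_pow_of_pow_eq_one hω.pow_eq_one
  obtain ⟨b, hbdef⟩ : ∃ b : CyclotomicField N ℚ, b = zetaK N ^ (p ^ a * s) := ⟨_, rfl⟩
  have hbω : emb N b = Complex.exp (2 * Real.pi * Complex.I / r) := by
    rw [hbdef, map_pow, pow_mul, hs]
  have hlift : ∃ c ∈ IntermediateField.adjoin ℚ ({b} : Set (CyclotomicField N ℚ)),
      emb N c = ρ.character x := by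
    have h1 := hrat x
    rw [← hbω, ← Set.image_singleton, ← IntermediateField.adjoin_map] at h1
    exact (IntermediateField.mem_map _).1 h1
  obtain ⟨c, hc, hcx⟩ := hlift
  have hcax : c = ax := emb_injective N (hcx.trans hemb.symm)
  -- automorphisms congruent to one modulo r fix the value
  have key : ∀ t : ℕ, t.Coprime N → t ≡ 1 [MOD r] → ρ.character (x ^ t) = ρ.character x := by
    intro t ht htr
    obtain ⟨σ, hσ⟩ := exists_aut N t ht
    have hσb : σ b = b := by
      rw [hbdef, map_pow, hσ, ← pow_mul]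
      have h1 : p ^ a * t ≡ p ^ a * 1 [MOD p ^ a * r] := Nat.ModEq.mul_left' _ htr
      have h2 := h1.mul_right s
      rw [mul_one] at h2
      have h3 : t * (p ^ a * s) ≡ p ^ a * s [MOD N] := by
        rw [hNdef]
        calc t * (p ^ a * s) = p ^ a * t * s := by ring
          _ ≡ p ^ a * s [MOD p ^ a * r] := h2
      rw [← pow_mod_orderOf (zetaK N) (t * (p ^ a * s)), ← pow_mod_orderOf (zetaK N) (p ^ a * s),
        ← hζ.eq_orderOf]
      rw [h3]
    have h3 := aut_fixes_adjoin σ b hσb c hc
    rw [hcax] at h3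
    rw [← hgal σ t hσ, h3, hemb]
  have hA : ∀ j : ℕ, j.Coprime p → ρ.character (x ^ j) = ρ.character x := by
    intro j hj
    have hcop : (p ^ a).Coprime r := Nat.Coprime.pow_left a ((Nat.Prime.coprime_iff_not_dvd hp).2 hpr)
    obtain ⟨k, hk1, hk2⟩ := Nat.chineseRemainder hcop j 1
    have hkN : k.Coprime N := by
      rw [hNdef]
      apply Nat.Coprime.mul_right
      · have := hk1.gcd_eq
        unfold Nat.Coprime
        rw [this]
        exact Nat.Coprime.pow_right a hj
      · have := hk2.gcd_eq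
        unfold Nat.Coprime
        rw [this]
        exact Nat.gcd_one_left r
    have hxk : x ^ k = x ^ j := by
      rw [pow_eq_pow_iff_modEq]
      exact hk1.of_dvd (orderOf_dvd_of_pow_eq_one (hexp x))
    rw [← hxk]
    exact key k hkN hk2
  refine ⟨hA, ?_⟩
  -- every automorphism fixes the lift
  have hfix : ∀ σ : CyclotomicField N ℚ ≃ₐ[ℚ] CyclotomicField N ℚ, σ ax = ax := by
    intro σ
    obtain ⟨t, ht, hσt⟩ := aut_zeta N σ
    apply emb_injective N
    rw [hgal σ t hσt, hemb]
    rcases Nat.eq_zero_or_pos a with ha | ha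
    · have hx1 : x = 1 := by
        have := hexp x
        rwa [ha, pow_zero, pow_one] at this
      rw [hx1, one_pow]
    · apply hA
      have hpN : p ∣ N := by
        rw [hNdef]
        exact Dvd.dvd.mul_right (dvd_pow_self p ha.ne') r
      exact Nat.Coprime.coprime_dvd_right hpN ht
  obtain ⟨q, hq⟩ := exists_rat_of_fixed N ax hfix
  rw [hq] at hint
  have hq' : IsIntegral ℤ q :=
    (isIntegral_algebraMap_iff (algebraMap ℚ (CyclotomicField N ℚ)).injective).1 hint
  obtain ⟨z, hz⟩ := IsIntegrallyClosed.isIntegral_iff.mp hq'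
  refine ⟨z, ?_⟩
  rw [← hemb, hq, ← hz]
  simp
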