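import Mathlib
import Cfsg.Prelude.Def_Characters
import Cfsg.Prelude.Def_Blocks
import Cfsg.Agent.Lib.helper3.BrauerChar
import Cfsg.Agent.Lib.helper3.LocalM2
import Cfsg.Agent.Lib.helper3.LocalM3

set_option autoImplicit false
set_option linter.style.haveILetI false
set_option linter.unusedSectionVars false

/-!
# Schur's bound on the order of a `p`-group with a faithful rational character
-/

namespace Cfsg.Agent.Lib.helper3.SchurBound

open Cfsg Module Cfsg.Agent.Lib.helper3.CharBasic Cfsg.Agent.Lib.helper3.Irr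
open Cfsg.Agent.Lib.helper3.IndFun Cfsg.Agent.Lib.helper3.BrauerInd Cfsg.Agent.Lib.helper3.LocalM
open scoped ComplexConjugate

section genchars

variable {G : Type*} [Group G]

theorem genChars_of_isCharacter {f : G → ℂ} (hf : IsCharacter G f) : f ∈ genChars G :=
  ⟨f, 0, hf, isCharacter_zero, (sub_zero f).symm⟩

theorem genChars_mul {f g : G → ℂ} (hf : f ∈ genChars G) (hg : g ∈ genChars G) :
    f * g ∈ genChars G := by
  obtain ⟨a, b, ha, hb, rfl⟩ := hf
  obtain ⟨c, d, hc, hd, rfl⟩ := hg
  exact ⟨a * c + b * d, a * d + b * c,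
    isCharacter_add (isCharacter_mul ha hc) (isCharacter_mul hb hd),
    isCharacter_add (isCharacter_mul ha hd) (isCharacter_mul hb hc), by ring⟩

theorem genChars_intConst (z : ℤ) : (fun _ : G => (z : ℂ)) ∈ genChars G := by
  have h1 : (fun _ : G => (1 : ℂ)) ∈ genChars G := genChars_of_isCharacter isCharacter_one
  have h2 := (genChars G).zsmul_mem h1 z
  have h3 : z • (fun _ : G => (1 : ℂ)) = fun _ : G => (z : ℂ) := by
    funext x
    simp
  rwa [h3] at h2

theorem genChars_prod {ι : Type*} (s : Finset ι) (f : ι → G → ℂ)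
    (h : ∀ i ∈ s, f i ∈ genChars G) : ∏ i ∈ s, f i ∈ genChars G := by
  apply Finset.prod_induction f (fun g => g ∈ genChars G)
  · intro a b ha hb
    exact genChars_mul ha hb
  · exact genChars_of_isCharacter isCharacter_one
  · exact h

theorem exists_int_classInner_one [Fintype G] {f : G → ℂ} (hf : f ∈ genChars G) :
    ∃ z : ℤ, classInner f (fun _ => 1) = z := by
  obtain ⟨a, b, ha, hb, rfl⟩ := hf
  obtain ⟨m, hm⟩ := exists_nat_classInner_of_isCharacter_of_isCharacter ha
    (isCharacter_one (G := G))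
  obtain ⟨m', hm'⟩ := exists_nat_classInner_of_isCharacter_of_isCharacter hb
    (isCharacter_one (G := G))
  refine ⟨(m : ℤ) - m', ?_⟩
  rw [classInner_sub_left, hm, hm']
  push_cast
  rfl

end genchars

/-- Sum of a two-valued function over an initial segment of length a multiple of `p`. -/
theorem sum_ite_dvd (p : ℕ) (hp : 0 < p) (A B : ℤ) (M : ℕ) :
    ∑ j ∈ Finset.range (p * M), (if p ∣ j then A else B) = M * (A + (p - 1) * B) := by
  induction M with
  | zero => simp
  | succ M ih =>
    rw [Nat.mul_succ, Finset.sum_range_add, ih]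
    have h1 : ∀ s ∈ Finset.range p, (if p ∣ p * M + s then A else B)
        = if s = 0 then A else B := by
      intro s hs
      have hs' : s < p := Finset.mem_range.1 hs
      have : p ∣ p * M + s ↔ s = 0 := by
        rw [Nat.dvd_add_right (Dvd.intro M rfl)]
        constructor
        · intro h
          exact Nat.eq_zero_of_dvd_of_lt h hs'
        · intro h
          rw [h]
          exact dvd_zero p
      simp only [this]
    rw [Finset.sum_congr rfl h1]
    have h2 : ∑ s ∈ Finset.range p, (if s = 0 then A else B) = A + (p - 1) * B := by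
      obtain ⟨q, rfl⟩ : ∃ q, p = q + 1 := ⟨p - 1, (Nat.sub_add_cancel hp).symm⟩
      rw [Finset.sum_range_succ']
      simp
      ring
    rw [h2]
    push_cast
    ring

variable {P : Type*} [Group P] [Finite P]

/-- The values of a rational faithful character of a `p`-group at non-identity elements. -/
theorem value_of_rational (p : ℕ) (hp : p.Prime) (hP : IsPGroup p P)
    (ψ : P → ℂ) (hψ : IsCharacter P ψ) (hfaith : ∀ g : P, ψ g = ψ 1 → g = 1) (n : ℕ)
    (hn : ψ 1 = n) (hA : ∀ (x : P) (j : ℕ), j.Coprime p → ψ (x ^ j) = ψ x)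
    (hB : ∀ x : P, ∃ z : ℤ, ψ x = z) (x : P) (hx : x ≠ 1) :
    ∃ t : ℕ, 1 ≤ t ∧ t ≤ n / (p - 1) ∧ ψ x = (n : ℂ) - (p : ℂ) * t := by
  classical
  obtain ⟨z, hz⟩ := hB x
  obtain ⟨m₀, ρ, hρ⟩ := hψ
  have hψ' : IsCharacter P ψ := ⟨m₀, ρ, hρ⟩
  have hm₀ : (m₀ : ℂ) = n := by
    rw [← hn, ← hρ, Representation.char_one]
    simp
  have hm₀' : m₀ = n := by exact_mod_cast hm₀
  -- bound
  have hnorm : ∀ y : P, ∀ w : ℤ, ψ y = w → w ≤ n := by
    intro y w hw
    have h1 := norm_character_le ρ y
    rw [hρ, hw] at h1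
    have h2 : finrank ℂ (Fin m₀ → ℂ) = n := by
      rw [Module.finrank_fin_fun, hm₀']
    rw [h2] at h1
    have h3 : ‖((w : ℤ) : ℂ)‖ = |(w : ℝ)| := by
      rw [← Complex.ofReal_intCast, Complex.norm_real, Real.norm_eq_abs]
    rw [h3] at h1
    have h4 : (w : ℝ) ≤ n := le_trans (le_abs_self _) h1
    exact_mod_cast h4
  have hzn : z < n := by
    apply lt_of_le_of_ne (hnorm x z hz)
    intro h
    apply hx
    apply hfaith
    rw [hz, hn, h]
    simp
  -- divisibility
  have hdvd : (p : ℤ) ∣ z - n := by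
    obtain ⟨M, hM⟩ := exists_isPModular p hp
    obtain ⟨k, hk⟩ := hP x
    obtain ⟨w, hwM, hw⟩ := exists_mem_sub_eq hψ' hM x 1 k hk (by simp)
    rw [mul_one, hz, hn] at hw
    have hw' : w = ((z - n : ℤ) : AlgInt) := by
      apply Subtype.ext
      rw [hw]
      push_cast
      rfl
    rw [hw'] at hwM
    have hprime := isPrime_of_isPModular hM
    rcases Int.natAbs_eq (z - n) with h | h
    · rw [h] at hwM
      have h5 : ((z - n).natAbs : AlgInt) ∈ M := by simpa using hwM
      rw [natCast_mem_iff hM] at h5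
      rw [← Int.natCast_dvd] at h5
      exact h5
    · rw [h] at hwM
      have h5 : ((z - n).natAbs : AlgInt) ∈ M := by
        have := M.neg_mem hwM
        simpa using this
      rw [natCast_mem_iff hM] at h5
      rw [← Int.natCast_dvd] at h5
      exact h5
  -- lower bound from the cyclic sum
  have hlow : 0 ≤ (n : ℤ) + (p - 1) * z := by
    obtain ⟨k, hk⟩ := hP x
    obtain ⟨k', -, hk'⟩ := (Nat.dvd_prime_pow hp).1 (orderOf_dvd_of_pow_eq_one hk)
    have hk'0 : k' ≠ 0 := by
      intro h
      rw [h, pow_zero, orderOf_eq_one_iff] at hk'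
      exact hx hk'
    obtain ⟨k'', rfl⟩ : ∃ k'', k' = k'' + 1 := ⟨k' - 1, (Nat.sub_add_cancel (Nat.pos_of_ne_zero hk'0)).symm⟩
    obtain ⟨I, _, v, μ, hf, hμ⟩ := exists_eigenbasis ρ x
    choose Z hZ using hB
    -- the sum over the cyclic group
    have hsum : ∑ j ∈ Finset.range (orderOf x), ψ (x ^ j)
        = (orderOf x : ℂ) * ((Finset.univ.filter (fun i => μ i = 1)).card : ℂ) := by
      have h1 : ∀ j, ψ (x ^ j) = ∑ i, μ i ^ j := by
        intro j
        rw [← hρ]
        exact character_eq_sum_of_eigenbasis ρ (x ^ j) v (fun i => μ i ^ j)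
          (fun i => rho_pow_apply_eigen ρ x v μ hf j i)
      simp only [h1]
      rw [Finset.sum_comm]
      have h2 : ∀ i, ∑ j ∈ Finset.range (orderOf x), μ i ^ j
          = if μ i = 1 then (orderOf x : ℂ) else 0 := by
        intro i
        split_ifs with h
        · rw [h]
          simp
        · rw [geom_sum_eq h, hμ i, sub_self, zero_div]
      simp only [h2]
      rw [Finset.sum_ite, Finset.sum_const_zero, add_zero, Finset.sum_const, nsmul_eq_mul,
        mul_comm]
    have hsumZ : ∑ j ∈ Finset.range (orderOf x), Z (x ^ j)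
        = (orderOf x : ℤ) * ((Finset.univ.filter (fun i => μ i = 1)).card : ℤ) := by
      have : ((∑ j ∈ Finset.range (orderOf x), Z (x ^ j) : ℤ) : ℂ)
          = (((orderOf x : ℤ) * ((Finset.univ.filter (fun i => μ i = 1)).card : ℤ) : ℤ) : ℂ) := by
        push_cast
        rw [← hsum]
        apply Finset.sum_congr rfl
        intro j _
        rw [hZ]
      exact_mod_cast this
    have hnonneg : 0 ≤ ∑ j ∈ Finset.range (orderOf x), Z (x ^ j) := by
      rw [hsumZ]
      positivity
    have hle : ∑ j ∈ Finset.range (orderOf x), Z (x ^ j)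
        ≤ ∑ j ∈ Finset.range (orderOf x), (if p ∣ j then (n : ℤ) else z) := by
      apply Finset.sum_le_sum
      intro j _
      split_ifs with h
      · exact hnorm _ _ (hZ _)
      · have hj : j.Coprime p := ((Nat.Prime.coprime_iff_not_dvd hp).2 h).symm
        have h3 := hA x j hj
        rw [hZ, hz] at h3
        have : Z (x ^ j) = z := by exact_mod_cast h3
        rw [this]
    rw [hk', pow_succ', sum_ite_dvd p hp.pos] at hle
    have h6 : (0 : ℤ) ≤ ((p ^ k'' : ℕ) : ℤ) * ((n : ℤ) + ((p : ℤ) - 1) * z) := by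
      rw [hk', pow_succ'] at hnonneg
      exact le_trans hnonneg hle
    have hpos : (0 : ℤ) < ((p ^ k'' : ℕ) : ℤ) := by
      exact_mod_cast pow_pos hp.pos k''
    exact nonneg_of_mul_nonneg_right h6 hpos
  -- conclusion
  obtain ⟨t', ht'⟩ := hdvd
  have hp0 : (0 : ℤ) < p := by exact_mod_cast hp.pos
  have ht'neg : t' < 0 := by
    by_contra h
    push Not at h
    have : 0 ≤ (p : ℤ) * t' := mul_nonneg hp0.le h
    omega
  refine ⟨(-t').toNat, ?_, ?_, ?_⟩
  · omega
  · have hp1 : 0 < p - 1 := by have := hp.two_le; omega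
    rw [Nat.le_div_iff_mul_le hp1]
    have h7 : ((-t').toNat : ℤ) = -t' := Int.toNat_of_nonneg (by omega)
    have h8 : ((p - 1 : ℕ) : ℤ) = (p : ℤ) - 1 := by
      have := hp.one_le
      push_cast [Nat.cast_sub this]
      ring
    have : (((-t').toNat * (p - 1) : ℕ) : ℤ) ≤ (n : ℤ) := by
      push_cast
      rw [h7, h8]
      nlinarith
    exact_mod_cast this
  · rw [hz]
    have h7 : ((-t').toNat : ℤ) = -t' := Int.toNat_of_nonneg (by omega)
    have h9 : (((-t').toNat : ℕ) : ℂ) = ((-t' : ℤ) : ℂ) := by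
      have h10 := congrArg (Int.cast : ℤ → ℂ) h7
      rw [Int.cast_natCast] at h10
      exact h10
    rw [h9]
    have : (z : ℂ) = ((n + p * t' : ℤ) : ℂ) := by
      congr 1
      omega
    rw [this]
    push_cast
    ring

end Cfsg.Agent.Lib.helper3.SchurBound
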