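import Mathlib
import Cfsg.Prelude.Def_Characters
import Cfsg.Prelude.Def_Blocks
import Cfsg.Agent.Lib.helper3.SchurBound1
import Cfsg.Agent.Lib.helper3.SchurBound2

set_option autoImplicit false
set_option linter.style.haveILetI false
set_option linter.unusedSectionVars false

/-!
# Schur's bound: the order of a Sylow `p`-subgroup of a `p`-rational linear group
-/

namespace Cfsg.Agent.Lib.helper3.SchurBound

open Cfsg Module Cfsg.Agent.Lib.helper3.CharBasic Cfsg.Agent.Lib.helper3.Irr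
open Cfsg.Agent.Lib.helper3.IndFun Cfsg.Agent.Lib.helper3.BrauerInd Cfsg.Agent.Lib.helper3.LocalM
open scoped ComplexConjugate Nat

/-- The order of a `p`-group with a faithful rational character of degree `n` divides
`p ^ T * T!` with `T = n / (p - 1)`. -/
theorem card_dvd_of_rational {P : Type*} [Group P] [Fintype P] (p : ℕ) (hp : p.Prime)
    (hP : IsPGroup p P)
    (ψ : P → ℂ) (hψ : IsCharacter P ψ) (hfaith : ∀ g : P, ψ g = ψ 1 → g = 1) (n : ℕ)
    (hn : ψ 1 = n) (hA : ∀ (x : P) (j : ℕ), j.Coprime p → ψ (x ^ j) = ψ x)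
    (hB : ∀ x : P, ∃ z : ℤ, ψ x = z) :
    Nat.card P ∣ p ^ (n / (p - 1)) * (n / (p - 1))! := by
  classical
  obtain ⟨T, hT⟩ : ∃ T : ℕ, T = n / (p - 1) := ⟨_, rfl⟩
  rw [← hT]
  obtain ⟨f, hfdef⟩ : ∃ f : P → ℂ, f = ∏ t ∈ Finset.range T,
      (ψ - fun _ : P => (((n : ℤ) - p * (t + 1) : ℤ) : ℂ)) := ⟨_, rfl⟩
  have hfmem : f ∈ genChars P := by
    rw [hfdef]
    apply genChars_prod
    intro t _
    exact (genChars P).sub_mem (genChars_of_isCharacter hψ) (genChars_intConst _)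
  have hf0 : ∀ x : P, x ≠ 1 → f x = 0 := by
    intro x hx
    obtain ⟨t, ht1, htT, hψx⟩ := value_of_rational p hp hP ψ hψ hfaith n hn hA hB x hx
    rw [hfdef, Finset.prod_apply]
    obtain ⟨t, rfl⟩ : ∃ t', t = t' + 1 := ⟨t - 1, (Nat.sub_add_cancel ht1).symm⟩
    apply Finset.prod_eq_zero (i := t) (Finset.mem_range.2 (by rw [hT]; omega))
    rw [Pi.sub_apply, hψx]
    push_cast
    ring
  have hf1 : f 1 = ((p ^ T * T ! : ℕ) : ℂ) := by
    rw [hfdef, Finset.prod_apply]
    have h1 : ∀ t ∈ Finset.range T, (ψ - fun _ : P => (((n : ℤ) - p * (t + 1) : ℤ) : ℂ)) 1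
        = (p : ℂ) * ((t + 1 : ℕ) : ℂ) := by
      intro t _
      rw [Pi.sub_apply, hn]
      push_cast
      ring
    rw [Finset.prod_congr rfl h1, Finset.prod_mul_distrib, Finset.prod_const, Finset.card_range,
      ← Nat.cast_prod, Finset.prod_range_add_one_eq_factorial]
    push_cast
    rfl
  obtain ⟨z, hz⟩ := exists_int_classInner_one hfmem
  rw [classInner_apply] at hz
  have hsum : ∑ g : P, f g * conj ((fun _ : P => (1 : ℂ)) g) = f 1 := by
    rw [Finset.sum_eq_single (1 : P)]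
    · simp
    · intro g _ hg
      rw [hf0 g hg, zero_mul]
    · intro h
      exact absurd (Finset.mem_univ _) h
  rw [hsum, hf1] at hz
  have hcard : (Nat.card P : ℂ) ≠ 0 := by
    have : 0 < Nat.card P := Nat.card_pos
    exact_mod_cast this.ne'
  have h2 : ((p ^ T * T ! : ℕ) : ℂ) = (Nat.card P : ℂ) * z := by
    rw [← hz, ← mul_assoc, mul_inv_cancel₀ hcard, one_mul]
  have h3 : ((p ^ T * T ! : ℕ) : ℤ) = (Nat.card P : ℤ) * z := by exact_mod_cast h2
  have h4 : (Nat.card P : ℤ) ∣ ((p ^ T * T ! : ℕ) : ℤ) := ⟨z, h3⟩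
  exact Int.natCast_dvd_natCast.1 h4

/-- Schur's bound. -/
theorem schur_bound {G : Type*} [Group G] [Finite G] (p : ℕ) (hp : p.Prime) (χ : G → ℂ)
    (hχ : IsCharacter G χ) (hfaith : ∀ g : G, χ g = χ 1 → g = 1)
    (hrat : ∃ r : ℕ, 0 < r ∧ ¬ p ∣ r ∧ ∀ g : G, χ g ∈ IntermediateField.adjoin ℚ
      ({Complex.exp (2 * Real.pi * Complex.I / r)} : Set ℂ)) (n : ℕ) (hn : χ 1 = n) :
    (Nat.card G).factorization p ≤ ∑ i ∈ Finset.range (n + 1), n / ((p - 1) * p ^ i) := by
  classical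
  haveI : Fact p.Prime := ⟨hp⟩
  obtain ⟨r, hr, hpr, hrat⟩ := hrat
  obtain ⟨P⟩ : Nonempty (Sylow p G) := inferInstance
  letI : Fintype P := Fintype.ofFinite P
  obtain ⟨a, ha⟩ : ∃ a : ℕ, a = (Nat.card G).factorization p := ⟨_, rfl⟩
  have hcardP : Nat.card P = p ^ a := by rw [ha]; exact P.card_eq_multiplicity
  have hexp : ∀ g : P, g ^ p ^ a = 1 := by
    intro g
    rw [← hcardP]
    exact pow_card_eq_one'
  have hψ : IsCharacter P (fun x : P => χ x) := isCharacter_restrict hχ P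
  obtain ⟨m, ρ, hρ⟩ := hψ
  have hψ : IsCharacter P (fun x : P => χ x) := ⟨m, ρ, hρ⟩
  have hratρ : ∀ g : P, ρ.character g ∈ IntermediateField.adjoin ℚ
      ({Complex.exp (2 * Real.pi * Complex.I / r)} : Set ℂ) := by
    intro g
    rw [hρ]
    exact hrat g
  have hAB := character_rational_of_pRational p a r hp hr hpr hexp ρ hratρ
  rw [hρ] at hAB
  have hdvd := card_dvd_of_rational p hp P.isPGroup' (fun x : P => χ x) hψ
    (by
      intro g hg
      have := hfaith g hg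
      exact Subtype.ext this) n hn (fun x j hj => (hAB x).1 j hj) (fun x => (hAB x).2)
  rw [hcardP] at hdvd
  obtain ⟨T, hT⟩ : ∃ T : ℕ, T = n / (p - 1) := ⟨_, rfl⟩
  rw [← hT] at hdvd
  have hne : p ^ T * T ! ≠ 0 := Nat.mul_ne_zero (pow_ne_zero _ hp.ne_zero) (Nat.factorial_ne_zero _)
  have h1 := (Nat.Prime.pow_dvd_iff_le_factorization hp hne).1 hdvd
  rw [Nat.factorization_mul (pow_ne_zero _ hp.ne_zero) (Nat.factorial_ne_zero _),
    Finsupp.add_apply, Nat.Prime.factorization_pow hp, Finsupp.single_eq_same] at h1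
  have hlog : Nat.log p T < n + 1 := by
    have h2 : Nat.log p T ≤ T := Nat.log_le_self p T
    have h3 : T ≤ n := by rw [hT]; exact Nat.div_le_self n (p - 1)
    omega
  rw [Nat.factorization_factorial hp hlog] at h1
  rw [← ha]
  refine le_trans h1 (le_of_eq ?_)
  have h4 : ∀ i ∈ Finset.range (n + 1), n / ((p - 1) * p ^ i) = T / p ^ i := by
    intro i _
    rw [hT, Nat.div_div_eq_div_mul]
  rw [Finset.sum_congr rfl h4, Finset.range_eq_Ico,
    Finset.sum_eq_sum_Ico_succ_bot (Nat.succ_pos n)]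
  simp

end Cfsg.Agent.Lib.helper3.SchurBound
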