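import Mathlib
import Cfsg.Agent.H2.CosetFixedPoint
import Cfsg.Agent.Lib.helper3.Irr13

set_option autoImplicit false
set_option linter.style.haveILetI false
set_option linter.unusedSectionVars false

/-!
# Invariant classes under a `p`-group of operators on a `p'`-group
-/

namespace Cfsg.Agent.Lib.helper3.RealInv

variable {G : Type*} [Group G]

/-- A `p`-subgroup acting by conjugation on a stable finite set of size prime to `p` fixes a
point. -/
theorem exists_fixed_of_pgroup (p : ℕ) [Fact p.Prime] (P : Subgroup G) (hP : IsPGroup p P)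
    (S : Set G) [Finite S] (hS : ∀ x ∈ P, ∀ s ∈ S, x * s * x⁻¹ ∈ S) (hcard : ¬ p ∣ Nat.card S) :
    ∃ s ∈ S, ∀ x ∈ P, x * s * x⁻¹ = s := by
  letI : MulAction P S :=
    { smul := fun x s => ⟨(x : G) * s * (x : G)⁻¹, hS x x.2 s s.2⟩
      one_smul := fun s => by
        apply Subtype.ext
        show ((1 : P) : G) * s * ((1 : P) : G)⁻¹ = s
        simp
      mul_smul := fun x y s => by
        apply Subtype.ext
        show ((x * y : P) : G) * s * ((x * y : P) : G)⁻¹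
          = (x : G) * ((y : G) * s * (y : G)⁻¹) * (x : G)⁻¹
        push_cast
        group }
  obtain ⟨s, hs⟩ := hP.nonempty_fixed_point_of_prime_not_dvd_card S hcard
  refine ⟨s, s.2, ?_⟩
  intro x hx
  have := hs ⟨x, hx⟩
  exact congrArg Subtype.val this

/-- The size of a conjugacy class divides the group order. -/
theorem card_isConj_dvd [Finite G] (k : G) : Nat.card {k' : G // IsConj k k'} ∣ Nat.card G := by
  have h1 : Nat.card {k' : G // IsConj k k'} = Nat.card (MulAction.orbit (ConjAct G) k) := by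
    apply Nat.card_congr
    apply Equiv.subtypeEquivRight
    intro k'
    rw [ConjAct.mem_orbit_conjAct]
    exact isConj_comm
  rw [h1, _root_.Nat.card_coe_set_eq, ← MulAction.index_stabilizer]
  have := Subgroup.index_dvd_card (MulAction.stabilizer (ConjAct G) k)
  exact this


theorem conj_mem_of_normalizer (P K : Subgroup G) (hPK : P ≤ Subgroup.normalizer (K : Set G))
    {x g : G} (hx : x ∈ P) (hg : g ∈ K) : x * g * x⁻¹ ∈ K :=
  (Subgroup.mem_normalizer_iff.mp (hPK hx) g).mp hg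

/-- An invariant class of `K` contains a fixed element. -/
theorem exists_fixed_in_class [Finite G] (p : ℕ) [Fact p.Prime] (P K : Subgroup G)
    (hP : IsPGroup p P) (hK : ¬ p ∣ Nat.card K)
    (hPK : P ≤ Subgroup.normalizer (K : Set G)) (k : K)
    (hinv : ∀ x ∈ P, ∀ k' : K, (k' : G) = x * (k : G) * x⁻¹ → IsConj k k') :
    ∃ k₀ : K, IsConj k k₀ ∧ ∀ x ∈ P, x * (k₀ : G) * x⁻¹ = (k₀ : G) := by
  obtain ⟨S, hSdef⟩ : ∃ S : Set G, S = {g | ∃ k' : K, IsConj k k' ∧ (k' : G) = g} := ⟨_, rfl⟩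
  have hcard : Nat.card S = Nat.card {k' : K // IsConj k k'} := by
    symm
    apply Nat.card_eq_of_bijective
      (fun k' : {k' : K // IsConj k k'} => (⟨(k'.1 : G), by rw [hSdef]; exact ⟨k'.1, k'.2, rfl⟩⟩ : S))
    constructor
    · intro a b hab
      have := congrArg Subtype.val hab
      exact Subtype.ext (Subtype.ext this)
    · rintro ⟨g, hg⟩
      have hg' := hg
      rw [hSdef] at hg'
      obtain ⟨k', hk', rfl⟩ := hg'
      exact ⟨⟨k', hk'⟩, rfl⟩
  have hnd : ¬ p ∣ Nat.card S := by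
    rw [hcard]
    intro h
    exact hK (h.trans (card_isConj_dvd k))
  have hS : ∀ x ∈ P, ∀ s ∈ S, x * s * x⁻¹ ∈ S := by
    intro x hx s hs
    rw [hSdef] at hs ⊢
    obtain ⟨k', hk', rfl⟩ := hs
    obtain ⟨a, ha⟩ := isConj_iff.mp hk'
    refine ⟨⟨x * (k' : G) * x⁻¹, conj_mem_of_normalizer P K hPK hx k'.2⟩, ?_, rfl⟩
    have h1 : IsConj k (⟨x * (k : G) * x⁻¹, conj_mem_of_normalizer P K hPK hx k.2⟩ : K) :=
      hinv x hx _ rfl
    refine h1.trans ?_
    rw [isConj_iff]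
    refine ⟨⟨x * (a : G) * x⁻¹, conj_mem_of_normalizer P K hPK hx a.2⟩, ?_⟩
    apply Subtype.ext
    have ha' : (a : G) * (k : G) * (a : G)⁻¹ = (k' : G) := by
      have := congrArg Subtype.val ha
      simpa using this
    show (x * (a : G) * x⁻¹) * (x * (k : G) * x⁻¹) * (x * (a : G) * x⁻¹)⁻¹ = x * (k' : G) * x⁻¹
    rw [← ha']
    group
  haveI : Finite S := Subtype.finite
  obtain ⟨s, hs, hfix⟩ := exists_fixed_of_pgroup p P hP S hS hnd
  rw [hSdef] at hs
  obtain ⟨k₀, hk₀, rfl⟩ := hs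
  exact ⟨k₀, hk₀, hfix⟩

/-- Fixed elements conjugate in `K` are conjugate by a fixed element. -/
theorem conj_of_fixed [Finite G] (p : ℕ) [Fact p.Prime] (P K : Subgroup G)
    (hP : IsPGroup p P) (hK : ¬ p ∣ Nat.card K)
    (hPK : P ≤ Subgroup.normalizer (K : Set G)) (k₁ k₂ : K)
    (h1 : ∀ x ∈ P, x * (k₁ : G) * x⁻¹ = (k₁ : G)) (h2 : ∀ x ∈ P, x * (k₂ : G) * x⁻¹ = (k₂ : G))
    (hc : IsConj k₁ k₂) :
    ∃ y : K, (∀ x ∈ P, x * (y : G) * x⁻¹ = (y : G)) ∧ y * k₁ * y⁻¹ = k₂ := by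
  obtain ⟨a, ha⟩ := isConj_iff.mp hc
  have ha' : (a : G) * (k₁ : G) * (a : G)⁻¹ = (k₂ : G) := by
    have := congrArg Subtype.val ha
    simpa using this
  obtain ⟨M, hMdef⟩ : ∃ M : Subgroup G, M = K ⊓ Subgroup.centralizer {(k₁ : G)} := ⟨_, rfl⟩
  have hMK : M ≤ K := hMdef ▸ inf_le_left
  have hM : ¬ p ∣ Nat.card M := fun h => hK (h.trans (Subgroup.card_dvd_of_le hMK))
  have hmemM : ∀ g : G, g ∈ M ↔ g ∈ K ∧ g * (k₁ : G) = (k₁ : G) * g := by
    intro g
    rw [hMdef, Subgroup.mem_inf, Subgroup.mem_centralizer_singleton_iff]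
  have hconjM : ∀ x ∈ P, ∀ g ∈ M, x * g * x⁻¹ ∈ M := by
    intro x hx g hg
    rw [hmemM] at hg ⊢
    refine ⟨conj_mem_of_normalizer P K hPK hx hg.1, ?_⟩
    have hx1 := h1 x hx
    have hx1' : x * (k₁ : G) = (k₁ : G) * x := by
      rw [mul_inv_eq_iff_eq_mul] at hx1
      exact hx1
    have hx1'' : x⁻¹ * (k₁ : G) = (k₁ : G) * x⁻¹ := by
      rw [inv_mul_eq_iff_eq_mul, ← mul_assoc, hx1', mul_assoc, mul_inv_cancel, mul_one]
    calc x * g * x⁻¹ * (k₁ : G) = x * g * ((k₁ : G) * x⁻¹) := by rw [mul_assoc, hx1'']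
      _ = x * (g * (k₁ : G)) * x⁻¹ := by group
      _ = x * ((k₁ : G) * g) * x⁻¹ := by rw [hg.2]
      _ = (x * (k₁ : G)) * g * x⁻¹ := by group
      _ = (k₁ : G) * (x * g * x⁻¹) := by rw [hx1']; group
  have hBy : P ≤ Cfsg.Agent.H2.cosetStab M (a : G) := by
    intro x hx
    refine ⟨?_, ?_⟩
    · rw [Subgroup.mem_normalizer_iff]
      intro g
      constructor
      · intro hg
        exact hconjM x hx g hg
      · intro hg
        have := hconjM x⁻¹ (P.inv_mem hx) _ hg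
        have e : x⁻¹ * (x * g * x⁻¹) * x⁻¹⁻¹ = g := by group
        rwa [e] at this
    · rw [hmemM]
      refine ⟨?_, ?_⟩
      · have : (a : G)⁻¹ * x * (a : G) * x⁻¹ = (a : G)⁻¹ * (x * (a : G) * x⁻¹) := by group
        rw [this]
        exact K.mul_mem (K.inv_mem a.2) (conj_mem_of_normalizer P K hPK hx a.2)
      · have hx1 := h1 x hx
        have hx2 := h2 x hx
        have hx1' : x⁻¹ * (k₁ : G) * x = (k₁ : G) := by
          nth_rewrite 1 [← hx1]
          group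
        have e1 : (a : G)⁻¹ * x * (a : G) * x⁻¹ * (k₁ : G)
            = (a : G)⁻¹ * x * ((a : G) * (x⁻¹ * (k₁ : G) * x) * (a : G)⁻¹) * (a : G) * x⁻¹ := by
          group
        rw [e1, hx1', ha']
        have e2 : (a : G)⁻¹ * x * (k₂ : G) * (a : G) * x⁻¹
            = (a : G)⁻¹ * (x * (k₂ : G) * x⁻¹) * x * (a : G) * x⁻¹ := by group
        rw [e2, hx2, ← ha']
        group
  haveI : Finite M := Subtype.finite
  obtain ⟨m, hm, hfix⟩ := Cfsg.Agent.H2.exists_mem_coset_fixed P M hP hM (a : G) hBy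
  have hm' := (hmemM m).mp hm
  refine ⟨⟨(a : G) * m, K.mul_mem a.2 hm'.1⟩, hfix, ?_⟩
  apply Subtype.ext
  show (a : G) * m * (k₁ : G) * ((a : G) * m)⁻¹ = (k₂ : G)
  rw [← ha']
  calc (a : G) * m * (k₁ : G) * ((a : G) * m)⁻¹ = (a : G) * (m * (k₁ : G)) * m⁻¹ * (a : G)⁻¹ := by
        group
    _ = (a : G) * ((k₁ : G) * m) * m⁻¹ * (a : G)⁻¹ := by rw [hm'.2]
    _ = (a : G) * (k₁ : G) * (a : G)⁻¹ := by group

end Cfsg.Agent.Lib.helper3.RealInv
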