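import Mathlib
import Cfsg.Agent.Lib.helper3.RealInv1

set_option autoImplicit false
set_option linter.style.haveILetI false
set_option linter.unusedSectionVars false

/-!
# Invariant real classes correspond to the real classes of the fixed-point subgroup
-/

namespace Cfsg.Agent.Lib.helper3.RealInv

open Cfsg.Agent.Lib.helper3.Irr

variable {G : Type*} [Group G]

theorem mem_fix_iff (P K C : Subgroup G) (hC : C = K ⊓ Subgroup.centralizer (P : Set G)) (g : G) :
    g ∈ C ↔ g ∈ K ∧ ∀ x ∈ P, x * g * x⁻¹ = g := by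
  rw [hC, Subgroup.mem_inf, Subgroup.mem_centralizer_iff]
  constructor
  · rintro ⟨h1, h2⟩
    refine ⟨h1, fun x hx => ?_⟩
    rw [h2 x hx]
    group
  · rintro ⟨h1, h2⟩
    refine ⟨h1, fun x hx => ?_⟩
    have := h2 x hx
    rw [mul_inv_eq_iff_eq_mul] at this
    exact this

/-- The real classes of the fixed-point subgroup correspond to the invariant real classes. -/
theorem card_real_classes [Finite G] (p : ℕ) [Fact p.Prime] (P K : Subgroup G)
    (hP : IsPGroup p P) (hK : ¬ p ∣ Nat.card K) (hPK : P ≤ Subgroup.normalizer (K : Set G))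
    (C : Subgroup G) (hC : C = K ⊓ Subgroup.centralizer (P : Set G)) :
    Nat.card {c : ConjClasses C // IsRealClass c}
      = Nat.card {c : ConjClasses K // (∀ k : K, ConjClasses.mk k = c → IsConj k k⁻¹) ∧
          ∀ k : K, ConjClasses.mk k = c → ∀ x ∈ P, ∀ k' : K, (k' : G) = x * (k : G) * x⁻¹ →
            ConjClasses.mk k' = c} := by
  have hCK : C ≤ K := hC ▸ inf_le_left
  have hmem := mem_fix_iff P K C hC
  obtain ⟨ι, hι⟩ : ∃ ι : C →* K, ι = Subgroup.inclusion hCK := ⟨_, rfl⟩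
  have hιv : ∀ k : C, ((ι k : K) : G) = (k : G) := by
    intro k
    rw [hι]
    rfl
  have hmap : ∀ k : C, ConjClasses.map ι (ConjClasses.mk k) = ConjClasses.mk (ι k) :=
    fun k => rfl
  have hwd : ∀ c : ConjClasses C, IsRealClass c →
      (∀ k : K, ConjClasses.mk k = ConjClasses.map ι c → IsConj k k⁻¹) ∧
      (∀ k : K, ConjClasses.mk k = ConjClasses.map ι c → ∀ x ∈ P, ∀ k' : K,
        (k' : G) = x * (k : G) * x⁻¹ → ConjClasses.mk k' = ConjClasses.map ι c) := by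
    intro c hc
    obtain ⟨k₀, rfl⟩ := ConjClasses.mk_surjective c
    rw [hmap]
    have hreal : IsConj (ι k₀) (ι k₀)⁻¹ := by
      have := hc k₀ rfl
      have h2 := ι.map_isConj this
      rwa [map_inv] at h2
    constructor
    · exact (isRealClass_mk_iff (ι k₀)).mpr hreal
    · intro k hk x hx k' hk'
      rw [ConjClasses.mk_eq_mk_iff_isConj] at hk ⊢
      obtain ⟨a, ha⟩ := isConj_iff.mp hk.symm
      rw [isConj_comm, isConj_iff]
      refine ⟨⟨x * (a : G) * x⁻¹, conj_mem_of_normalizer P K hPK hx a.2⟩, ?_⟩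
      apply Subtype.ext
      show (x * (a : G) * x⁻¹) * ((ι k₀ : K) : G) * (x * (a : G) * x⁻¹)⁻¹ = (k' : G)
      rw [hk', hιv]
      have hfix := ((hmem k₀).mp k₀.2).2 x⁻¹ (P.inv_mem hx)
      rw [inv_inv] at hfix
      have ha' : (a : G) * (k₀ : G) * (a : G)⁻¹ = (k : G) := by
        have := congrArg Subtype.val ha
        rw [← hιv k₀]
        simpa using this
      rw [← ha']
      calc x * (a : G) * x⁻¹ * (k₀ : G) * (x * (a : G) * x⁻¹)⁻¹
          = x * (a : G) * (x⁻¹ * (k₀ : G) * x) * (a : G)⁻¹ * x⁻¹ := by group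
        _ = x * ((a : G) * (k₀ : G) * (a : G)⁻¹) * x⁻¹ := by rw [hfix]; group
  apply Nat.card_eq_of_bijective
    (fun c : {c : ConjClasses C // IsRealClass c} =>
      (⟨ConjClasses.map ι c.1, hwd c.1 c.2⟩ : {c : ConjClasses K //
        (∀ k : K, ConjClasses.mk k = c → IsConj k k⁻¹) ∧
          ∀ k : K, ConjClasses.mk k = c → ∀ x ∈ P, ∀ k' : K, (k' : G) = x * (k : G) * x⁻¹ →
            ConjClasses.mk k' = c}))
  constructor
  · rintro ⟨c₁, hc₁⟩ ⟨c₂, hc₂⟩ h
    have h' := congrArg Subtype.val h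
    simp only at h'
    apply Subtype.ext
    show c₁ = c₂
    obtain ⟨k₁, rfl⟩ := ConjClasses.mk_surjective c₁
    obtain ⟨k₂, rfl⟩ := ConjClasses.mk_surjective c₂
    rw [hmap, hmap, ConjClasses.mk_eq_mk_iff_isConj] at h'
    have hf1 : ∀ x ∈ P, x * ((ι k₁ : K) : G) * x⁻¹ = ((ι k₁ : K) : G) := by
      intro x hx
      rw [hιv]
      exact ((hmem k₁).mp k₁.2).2 x hx
    have hf2 : ∀ x ∈ P, x * ((ι k₂ : K) : G) * x⁻¹ = ((ι k₂ : K) : G) := by
      intro x hx
      rw [hιv]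
      exact ((hmem k₂).mp k₂.2).2 x hx
    obtain ⟨y, hy, hyk⟩ := conj_of_fixed p P K hP hK hPK (ι k₁) (ι k₂) hf1 hf2 h'
    rw [ConjClasses.mk_eq_mk_iff_isConj, isConj_iff]
    refine ⟨⟨(y : G), (hmem _).mpr ⟨y.2, hy⟩⟩, ?_⟩
    apply Subtype.ext
    have := congrArg Subtype.val hyk
    rw [hιv] at this
    rw [← this]
    show (y : G) * (k₁ : G) * (y : G)⁻¹ = ((y * ι k₁ * y⁻¹ : K) : G)
    push_cast
    rw [hιv]
  · rintro ⟨c, hreal, hinv⟩
    obtain ⟨k, rfl⟩ := ConjClasses.mk_surjective c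
    have hinv' : ∀ x ∈ P, ∀ k' : K, (k' : G) = x * (k : G) * x⁻¹ → IsConj k k' := by
      intro x hx k' hk'
      have := hinv k rfl x hx k' hk'
      rw [ConjClasses.mk_eq_mk_iff_isConj] at this
      exact this.symm
    obtain ⟨k₀, hk₀, hfix⟩ := exists_fixed_in_class p P K hP hK hPK k hinv'
    have hk₀C : (k₀ : G) ∈ C := (hmem _).mpr ⟨k₀.2, hfix⟩
    have hιk₀ : ι ⟨(k₀ : G), hk₀C⟩ = k₀ := by
      apply Subtype.ext
      rw [hιv]
    have hrealC : IsRealClass (ConjClasses.mk (⟨(k₀ : G), hk₀C⟩ : C)) := by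
      rw [isRealClass_mk_iff]
      have h1 : IsConj k₀ k₀⁻¹ :=
        hreal k₀ (ConjClasses.mk_eq_mk_iff_isConj.mpr hk₀.symm)
      have hfix' : ∀ x ∈ P, x * ((k₀⁻¹ : K) : G) * x⁻¹ = ((k₀⁻¹ : K) : G) := by
        intro x hx
        have := hfix x hx
        push_cast
        nth_rewrite 2 [← this]
        group
      obtain ⟨y, hy, hyk⟩ := conj_of_fixed p P K hP hK hPK k₀ k₀⁻¹ hfix hfix' h1
      rw [isConj_iff]
      refine ⟨⟨(y : G), (hmem _).mpr ⟨y.2, hy⟩⟩, ?_⟩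
      apply Subtype.ext
      have := congrArg Subtype.val hyk
      push_cast at this ⊢
      exact this
    refine ⟨⟨ConjClasses.mk (⟨(k₀ : G), hk₀C⟩ : C), hrealC⟩, ?_⟩
    apply Subtype.ext
    show ConjClasses.map ι (ConjClasses.mk (⟨(k₀ : G), hk₀C⟩ : C)) = ConjClasses.mk k
    rw [hmap, hιk₀, ConjClasses.mk_eq_mk_iff_isConj]
    exact hk₀.symm

end Cfsg.Agent.Lib.helper3.RealInv
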