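import Mathlib
import Cfsg.Agent.S4444
import Cfsg.Agent.Lib.helper3.RealInv2

set_option autoImplicit false
set_option linter.style.haveILetI false
set_option linter.unusedSectionVars false

/-!
# Invariant real characters correspond to the real characters of the fixed-point subgroup
-/

namespace Cfsg.Agent.Lib.helper3.RealInv

open Cfsg Cfsg.Agent.Lib.helper3.Irr
open scoped ComplexConjugate

variable {G : Type*} [Group G]

theorem card_real_invariant_irr [Finite G] (p : ℕ) [Fact p.Prime] (P K : Subgroup G)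
    (hP : IsPGroup p P) (hK : ¬ p ∣ Nat.card K) (hPK : P ≤ Subgroup.normalizer (K : Set G))
    (C : Subgroup G) (hC : C = K ⊓ Subgroup.centralizer (P : Set G)) :
    Nat.card {θ : IrrCharacter K // (∀ k : K, ((θ : K → ℂ) k).im = 0) ∧
        (∀ x ∈ P, ∀ k k' : K, (k' : G) = x * (k : G) * x⁻¹ → (θ : K → ℂ) k' = (θ : K → ℂ) k)}
      = Nat.card {β : IrrCharacter C // ∀ g : C, ((β : C → ℂ) g).im = 0} := by
  classical
  letI : Fintype G := Fintype.ofFinite G
  letI : Fintype K := Fintype.ofFinite K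
  letI : Fintype C := Fintype.ofFinite C
  have hp : p.Prime := Fact.out
  have hCK : C ≤ K := hC ▸ inf_le_left
  have hcop : (Nat.card K).Coprime (Nat.card P) := by
    obtain ⟨n, hn⟩ := hP.exists_card_eq
    rw [hn]
    exact Nat.Coprime.pow_right n ((Nat.Prime.coprime_iff_not_dvd hp).mpr hK).symm
  obtain ⟨h1, -, h3, h4⟩ := Cfsg.Agent.S4444.result K P
    (fun s hs g hg => conj_mem_of_normalizer P K hPK hs hg) hcop p hp hP C hC hCK
  -- conjugation of inner products against a real function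
  have hinner : ∀ (φ ψ : C → ℂ), (∀ c, conj (φ c) = φ c) →
      classInner φ (fun g => conj (ψ g)) = conj (classInner φ ψ) := by
    intro φ ψ hφ
    rw [← classInner_conj_conj]
    congr 1
    funext c
    exact (hφ c).symm
  have hinner' : ∀ (φ ψ : C → ℂ), (∀ c, conj (ψ c) = ψ c) →
      classInner (fun g => conj (φ g)) ψ = conj (classInner φ ψ) := by
    intro φ ψ hψ
    rw [← classInner_conj_conj]
    congr 1
    funext c
    exact (hψ c).symm
  have hex : ∀ θ : {θ : IrrCharacter K // (∀ k : K, ((θ : K → ℂ) k).im = 0) ∧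
        (∀ x ∈ P, ∀ k k' : K, (k' : G) = x * (k : G) * x⁻¹ → (θ : K → ℂ) k' = (θ : K → ℂ) k)},
      ∃ β : {β : IrrCharacter C // ∀ g : C, ((β : C → ℂ) g).im = 0}, ∃ m : ℕ,
        classInner (fun c : C => (θ.1 : K → ℂ) ⟨c, hCK c.2⟩) (β.1 : C → ℂ) = (m : ℂ) ∧ ¬ p ∣ m := by
    rintro ⟨θ, hreal, hinv⟩
    obtain ⟨β, ⟨m, hm, hpm⟩, huniq⟩ := h1 θ hinv
    have hβ' : ∃ m : ℕ, classInner (fun c : C => (θ : K → ℂ) ⟨c, hCK c.2⟩)
        ((⟨fun g => conj ((β : C → ℂ) g), isIrrCharacter_conj β.2⟩ : IrrCharacter C) : C → ℂ)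
          = (m : ℂ) ∧ ¬ p ∣ m := by
      refine ⟨m, ?_, hpm⟩
      show classInner (fun c : C => (θ : K → ℂ) ⟨c, hCK c.2⟩) (fun g => conj ((β : C → ℂ) g)) = _
      rw [hinner _ _ (fun c => Complex.conj_eq_iff_im.mpr (hreal _)), hm, Complex.conj_natCast]
    have heq := huniq _ hβ'
    refine ⟨⟨β, ?_⟩, m, hm, hpm⟩
    intro g
    have := congrArg (fun b : IrrCharacter C => (b : C → ℂ) g) heq
    simp only at this
    exact Complex.conj_eq_iff_im.mp this
  apply Nat.card_eq_of_bijective (fun θ => (hex θ).choose)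
  constructor
  · intro θ θ' h
    obtain ⟨m, hm, hpm⟩ := (hex θ).choose_spec
    obtain ⟨m', hm', hpm'⟩ := (hex θ').choose_spec
    simp only at h
    rw [← h] at hm'
    apply Subtype.ext
    exact h3 θ.1 θ'.1 θ.2.2 θ'.2.2 _ m m' hm hpm hm' hpm'
  · rintro ⟨β, hβ⟩
    obtain ⟨χ, hinv, m, hm, hpm⟩ := h4 β
    -- the conjugate character
    have hinv' : ∀ s ∈ P, ∀ g g' : K, (g' : G) = s * (g : G) * s⁻¹ →
        ((⟨fun g => conj ((χ : K → ℂ) g), isIrrCharacter_conj χ.2⟩ : IrrCharacter K) : K → ℂ) g'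
          = ((⟨fun g => conj ((χ : K → ℂ) g), isIrrCharacter_conj χ.2⟩ : IrrCharacter K) : K → ℂ) g := by
      intro s hs g g' hg
      show conj ((χ : K → ℂ) g') = conj ((χ : K → ℂ) g)
      rw [hinv s hs g g' hg]
    have hm2 : classInner (fun c : C =>
        ((⟨fun g => conj ((χ : K → ℂ) g), isIrrCharacter_conj χ.2⟩ : IrrCharacter K) : K → ℂ)
          ⟨c, hCK c.2⟩) (β : C → ℂ) = (m : ℂ) := by
      show classInner (fun c : C => conj ((χ : K → ℂ) ⟨c, hCK c.2⟩)) (β : C → ℂ) = (m : ℂ)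
      rw [hinner' (fun c : C => (χ : K → ℂ) ⟨c, hCK c.2⟩) _
        (fun c => Complex.conj_eq_iff_im.mpr (hβ _)), hm, Complex.conj_natCast]
    have hχeq := h3 χ _ hinv hinv' β m m hm hpm hm2 hpm
    have hχreal : ∀ k : K, ((χ : K → ℂ) k).im = 0 := by
      intro k
      have := congrArg (fun b : IrrCharacter K => (b : K → ℂ) k) hχeq
      simp only at this
      exact Complex.conj_eq_iff_im.mp this.symm
    refine ⟨⟨χ, hχreal, hinv⟩, ?_⟩
    obtain ⟨m', hm', hpm'⟩ := (hex ⟨χ, hχreal, hinv⟩).choose_spec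
    apply Subtype.ext
    exact (h1 χ hinv).unique ⟨m', hm', hpm'⟩ ⟨m, hm, hpm⟩

end Cfsg.Agent.Lib.helper3.RealInv
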