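import Cfsg.Agent.H1.RecGL23Defs

/-!
# S3304, piece (P-R)(A1): standard generators of a quaternion group of order 8
-/

set_option autoImplicit false

namespace Cfsg.Agent.H1.RecGL23

theorem q8_facts_aux : ∀ x y : QuaternionGroup 2, x ^ 2 ≠ 1 → y ≠ 1 → y ≠ x → y ≠ x ^ 2 →
    y ≠ x ^ 3 → x ^ 4 = 1 ∧ y ^ 2 = x ^ 2 ∧ y * x * y⁻¹ = x⁻¹ ∧
      ∀ q : QuaternionGroup 2, ∃ a : Fin 4, ∃ b : Fin 2, q = x ^ (a : ℕ) * y ^ (b : ℕ) := by
  decide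

theorem q8_ex_aux : ∃ x : QuaternionGroup 2, x ^ 2 ≠ 1 := by decide

variable {X : Type*} [Group X]

/-- (A1a) there is an element of `Q` whose square is not `1`. -/
theorem exists_sq_ne_one (Q : Subgroup X) (e : ↥Q ≃* QuaternionGroup 2) : ∃ x ∈ Q, x ^ 2 ≠ 1 := by
  obtain ⟨x', hx'⟩ := q8_ex_aux
  refine ⟨(e.symm x' : X), (e.symm x').2, ?_⟩
  intro h
  apply hx'
  have h1 : (e.symm x') ^ 2 = 1 := Subtype.ext (by simpa using h)
  have h2 : e ((e.symm x') ^ 2) = 1 := by rw [h1, map_one]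
  rwa [map_pow, e.apply_symm_apply] at h2

/-- (A1b) any `x ∈ Q` with `x² ≠ 1` and any `y ∈ Q ∖ ⟨x⟩` are standard generators. -/
theorem q8_pair (Q : Subgroup X) (e : ↥Q ≃* QuaternionGroup 2) (x y : X) (hx : x ∈ Q) (hy : y ∈ Q)
    (hx2 : x ^ 2 ≠ 1) (h0 : y ≠ 1) (h1 : y ≠ x) (h2 : y ≠ x ^ 2) (h3 : y ≠ x ^ 3) : Q8F Q x y := by
  set x' : QuaternionGroup 2 := e ⟨x, hx⟩ with hx'
  set y' : QuaternionGroup 2 := e ⟨y, hy⟩ with hy'
  -- transfer of equalities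
  have hinj : ∀ a b : ↥Q, e a = e b → (a : X) = (b : X) := fun a b h =>
    congrArg Subtype.val (e.injective h)
  have k2 : x' ^ 2 ≠ 1 := by
    intro h
    apply hx2
    have := hinj (⟨x, hx⟩ ^ 2) 1 (by rw [map_pow, map_one]; exact h)
    simpa using this
  have k0 : y' ≠ 1 := by
    intro h
    apply h0
    have := hinj ⟨y, hy⟩ 1 (by rw [map_one]; exact h)
    simpa using this
  have k1 : y' ≠ x' := by
    intro h
    apply h1
    have := hinj ⟨y, hy⟩ ⟨x, hx⟩ h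
    simpa using this
  have k2' : y' ≠ x' ^ 2 := by
    intro h
    apply h2
    have := hinj ⟨y, hy⟩ (⟨x, hx⟩ ^ 2) (by rw [map_pow]; exact h)
    simpa using this
  have k3 : y' ≠ x' ^ 3 := by
    intro h
    apply h3
    have := hinj ⟨y, hy⟩ (⟨x, hx⟩ ^ 3) (by rw [map_pow]; exact h)
    simpa using this
  obtain ⟨f4, fj2, fji, fspan⟩ := q8_facts_aux x' y' k2 k0 k1 k2' k3
  refine ⟨hx, hy, ?_, hx2, ?_, ?_, ?_⟩
  · have := hinj (⟨x, hx⟩ ^ 4) 1 (by rw [map_pow, map_one]; exact f4)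
    simpa using this
  · have := hinj (⟨y, hy⟩ ^ 2) (⟨x, hx⟩ ^ 2) (by rw [map_pow, map_pow]; exact fj2)
    simpa using this
  · have := hinj (⟨y, hy⟩ * ⟨x, hx⟩ * ⟨y, hy⟩⁻¹) (⟨x, hx⟩⁻¹)
      (by rw [map_mul, map_mul, map_inv, map_inv]; exact fji)
    simpa using this
  · intro q hq
    obtain ⟨a, b, hab⟩ := fspan (e ⟨q, hq⟩)
    refine ⟨a, b, ?_⟩
    have := hinj ⟨q, hq⟩ (⟨x, hx⟩ ^ (a : ℕ) * ⟨y, hy⟩ ^ (b : ℕ))
      (by rw [map_mul, map_pow, map_pow]; exact hab)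
    simpa using this

end Cfsg.Agent.H1.RecGL23
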