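import Mathlib

/-!
# A Frobenius action of a cyclic quotient on a section: group theory and coset sums
-/

set_option autoImplicit false
set_option linter.style.haveILetI false
set_option linter.unusedSectionVars false

namespace Cfsg.Agent.Lib.helper3.Fr

variable {Γ : Type*} [Group Γ]

/-- The commutator map with an element outside `G` is onto `G/N`. -/
theorem exists_comm_mem [Finite Γ] (G N : Subgroup Γ) [hG : G.Normal] [hN : N.Normal]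
    (hfrob : ∀ x : Γ, x ∉ G → ∀ g : Γ, g ∈ G → x * g * x⁻¹ * g⁻¹ ∈ N → g ∈ N)
    (y : Γ) (hy : y ∉ G) (g : Γ) (hg : g ∈ G) :
    ∃ a ∈ G, a * y * a⁻¹ * y⁻¹ * g⁻¹ ∈ N := by
  classical
  obtain ⟨Gb, hGb⟩ : ∃ Gb : Subgroup (Γ ⧸ N), Gb = G.map (QuotientGroup.mk' N) := ⟨_, rfl⟩
  haveI hGbn : Gb.Normal := by
    rw [hGb]
    exact Subgroup.Normal.map hG _ (QuotientGroup.mk'_surjective N)
  obtain ⟨yb, hyb⟩ : ∃ yb : Γ ⧸ N, yb = QuotientGroup.mk' N y := ⟨_, rfl⟩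
  have hmaps : ∀ a : Gb, (a : Γ ⧸ N) * yb * (a : Γ ⧸ N)⁻¹ * yb⁻¹ ∈ Gb := by
    intro a
    have h1 : yb * (a : Γ ⧸ N)⁻¹ * yb⁻¹ ∈ Gb := hGbn.conj_mem _ (Gb.inv_mem a.2) yb
    have h2 := Gb.mul_mem a.2 h1
    have h3 : (a : Γ ⧸ N) * (yb * (a : Γ ⧸ N)⁻¹ * yb⁻¹)
        = (a : Γ ⧸ N) * yb * (a : Γ ⧸ N)⁻¹ * yb⁻¹ := by group
    rwa [h3] at h2
  have hinj : Function.Injective (fun a : Gb =>
      (⟨(a : Γ ⧸ N) * yb * (a : Γ ⧸ N)⁻¹ * yb⁻¹, hmaps a⟩ : Gb)) := by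
    intro a b hab
    have h1 : (a : Γ ⧸ N) * yb * (a : Γ ⧸ N)⁻¹ * yb⁻¹
        = (b : Γ ⧸ N) * yb * (b : Γ ⧸ N)⁻¹ * yb⁻¹ := congrArg Subtype.val hab
    -- `c = b⁻¹ a` commutes with `yb`
    have hc : ((b : Γ ⧸ N)⁻¹ * a) * yb = yb * ((b : Γ ⧸ N)⁻¹ * a) := by
      have h2 : (a : Γ ⧸ N) * yb * (a : Γ ⧸ N)⁻¹ = (b : Γ ⧸ N) * yb * (b : Γ ⧸ N)⁻¹ :=
        mul_right_cancel h1
      calc ((b : Γ ⧸ N)⁻¹ * a) * yb
          = (b : Γ ⧸ N)⁻¹ * ((a : Γ ⧸ N) * yb * (a : Γ ⧸ N)⁻¹) * a := by group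
        _ = (b : Γ ⧸ N)⁻¹ * ((b : Γ ⧸ N) * yb * (b : Γ ⧸ N)⁻¹) * a := by rw [h2]
        _ = yb * ((b : Γ ⧸ N)⁻¹ * a) := by group
    have hcmem : (b : Γ ⧸ N)⁻¹ * a ∈ Gb := Gb.mul_mem (Gb.inv_mem b.2) a.2
    obtain ⟨c, hcG, hcc⟩ := hGb.le hcmem
    have hcN : c ∈ N := by
      apply hfrob y hy c hcG
      rw [← QuotientGroup.eq_one_iff]
      have : ((y * c * y⁻¹ * c⁻¹ : Γ) : Γ ⧸ N)
          = yb * (QuotientGroup.mk' N c) * yb⁻¹ * (QuotientGroup.mk' N c)⁻¹ := by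
        rw [hyb]
        simp
      rw [this, hcc, ← hc]
      group
    have hc1 : (b : Γ ⧸ N)⁻¹ * a = 1 := by
      rw [← hcc]
      exact (QuotientGroup.eq_one_iff c).mpr hcN
    apply Subtype.ext
    have : (a : Γ ⧸ N) = (b : Γ ⧸ N) * ((b : Γ ⧸ N)⁻¹ * a) := by group
    rw [this, hc1, mul_one]
  have hsurj := Finite.injective_iff_surjective.mp hinj
  have hgb : QuotientGroup.mk' N g ∈ Gb := by
    rw [hGb]
    exact ⟨g, hg, rfl⟩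
  obtain ⟨a, ha⟩ := hsurj ⟨_, hgb⟩
  have ha' : (a : Γ ⧸ N) * yb * (a : Γ ⧸ N)⁻¹ * yb⁻¹ = QuotientGroup.mk' N g :=
    congrArg Subtype.val ha
  obtain ⟨a₀, ha₀G, ha₀⟩ := hGb.le a.2
  refine ⟨a₀, ha₀G, ?_⟩
  rw [← QuotientGroup.eq_one_iff]
  have : ((a₀ * y * a₀⁻¹ * y⁻¹ * g⁻¹ : Γ) : Γ ⧸ N)
      = (QuotientGroup.mk' N a₀) * yb * (QuotientGroup.mk' N a₀)⁻¹ * yb⁻¹
        * (QuotientGroup.mk' N g)⁻¹ := by
    rw [hyb]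
    simp
  rw [this, ha₀, ha']
  group

/-- Sums of a class function over the `N`-cosets inside a coset `G y` all agree. -/
theorem sum_coset_eq [Fintype Γ] (G N : Subgroup Γ) [hG : G.Normal] [hN : N.Normal] [Fintype N]
    (hfrob : ∀ x : Γ, x ∉ G → ∀ g : Γ, g ∈ G → x * g * x⁻¹ * g⁻¹ ∈ N → g ∈ N)
    (F : Γ → ℂ) (hF : ∀ x a : Γ, F (a * x * a⁻¹) = F x)
    (y : Γ) (hy : y ∉ G) (g : Γ) (hg : g ∈ G) :
    ∑ n : N, F ((n : Γ) * g * y) = ∑ n : N, F ((n : Γ) * y) := by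
  obtain ⟨a, haG, han⟩ := exists_comm_mem G N hfrob y hy g hg
  -- `g y = n₁⁻¹ a y a⁻¹` with `n₁ = a y a⁻¹ y⁻¹ g⁻¹`
  have hgy : g * y = (a * y * a⁻¹ * y⁻¹ * g⁻¹)⁻¹ * (a * y * a⁻¹) := by group
  let e : N ≃ N :=
    { toFun := fun n => ⟨a⁻¹ * ((n : Γ) * (a * y * a⁻¹ * y⁻¹ * g⁻¹)⁻¹) * a, by
        have h1 : (n : Γ) * (a * y * a⁻¹ * y⁻¹ * g⁻¹)⁻¹ ∈ N := N.mul_mem n.2 (N.inv_mem han)
        have := hN.conj_mem _ h1 a⁻¹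
        simpa using this⟩
      invFun := fun n => ⟨a * (n : Γ) * a⁻¹ * (a * y * a⁻¹ * y⁻¹ * g⁻¹), by
        exact N.mul_mem (hN.conj_mem _ n.2 a) han⟩
      left_inv := fun n => by
        apply Subtype.ext
        simp only
        group
      right_inv := fun n => by
        apply Subtype.ext
        simp only
        group }
  rw [← Equiv.sum_comp e (fun n : N => F ((n : Γ) * y))]
  apply Finset.sum_congr rfl
  intro n _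
  show F ((n : Γ) * g * y) = F (a⁻¹ * ((n : Γ) * (a * y * a⁻¹ * y⁻¹ * g⁻¹)⁻¹) * a * y)
  rw [← hF (a⁻¹ * ((n : Γ) * (a * y * a⁻¹ * y⁻¹ * g⁻¹)⁻¹) * a * y) a]
  congr 1
  rw [mul_assoc (n : Γ) g y, hgy]
  group

/-- The sum of a class function over a coset `G y` outside `G` in terms of the coset `N y`. -/
theorem sum_G_eq [Fintype Γ] (G N : Subgroup Γ) [hG : G.Normal] [hN : N.Normal] [Fintype N]
    [Fintype G] (hNG : N ≤ G)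
    (hfrob : ∀ x : Γ, x ∉ G → ∀ g : Γ, g ∈ G → x * g * x⁻¹ * g⁻¹ ∈ N → g ∈ N)
    (F : Γ → ℂ) (hF : ∀ x a : Γ, F (a * x * a⁻¹) = F x) (y : Γ) (hy : y ∉ G) :
    (Nat.card N : ℂ) * ∑ g : G, F ((g : Γ) * y) = (Nat.card G : ℂ) * ∑ n : N, F ((n : Γ) * y) := by
  have h1 : ∀ n : N, ∑ g : G, F ((g : Γ) * y) = ∑ g : G, F ((n : Γ) * g * y) := by
    intro n
    exact (Equiv.sum_comp (Equiv.mulLeft (⟨n, hNG n.2⟩ : G)) (fun g : G => F ((g : Γ) * y))).symm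
  have h2 : (Nat.card N : ℂ) * ∑ g : G, F ((g : Γ) * y)
      = ∑ n : N, ∑ g : G, F ((n : Γ) * g * y) := by
    rw [← Finset.sum_congr rfl (fun n _ => h1 n), Finset.sum_const, Finset.card_univ,
      nsmul_eq_mul, Nat.card_eq_fintype_card]
  have h3 : ∀ g : G, ∑ n : N, F ((n : Γ) * (g : Γ) * y) = ∑ n : N, F ((n : Γ) * y) :=
    fun g => sum_coset_eq G N hfrob F hF y hy (g : Γ) g.2
  rw [h2, Finset.sum_comm, Finset.sum_congr rfl (fun g _ => h3 g),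
    Finset.sum_const, Finset.card_univ, nsmul_eq_mul, Nat.card_eq_fintype_card]

/-- A generator of the cyclic quotient. -/
theorem exists_gen (G : Subgroup Γ) [hG : G.Normal] (hcyc : IsCyclic (Γ ⧸ G)) :
    ∃ x₀ : Γ, ∀ y : Γ, ∃ k : ℤ, y * (x₀ ^ k)⁻¹ ∈ G := by
  obtain ⟨q, hq⟩ := hcyc.exists_generator
  obtain ⟨x₀, rfl⟩ := QuotientGroup.mk_surjective q
  refine ⟨x₀, ?_⟩
  intro y
  obtain ⟨k, hk⟩ := Subgroup.mem_zpowers_iff.mp (hq (QuotientGroup.mk y))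
  refine ⟨k, ?_⟩
  rw [← QuotientGroup.eq_one_iff]
  have : ((y * (x₀ ^ k)⁻¹ : Γ) : Γ ⧸ G) = (y : Γ ⧸ G) * ((x₀ : Γ ⧸ G) ^ k)⁻¹ := by simp
  rw [this, hk]
  group

section setup

variable (G N : Subgroup Γ) [hG : G.Normal] [hN : N.Normal] (x₀ : Γ)

/-- The subgroup generated by `N` and `x₀`. -/
abbrev HH : Subgroup Γ := N ⊔ Subgroup.zpowers x₀

theorem mem_HH_iff (h : Γ) : h ∈ HH N x₀ ↔ ∃ n ∈ N, ∃ k : ℤ, h = n * x₀ ^ k := by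
  constructor
  · intro hh
    have : h ∈ ((N ⊔ Subgroup.zpowers x₀ : Subgroup Γ) : Set Γ) := hh
    rw [Subgroup.normal_mul] at this
    obtain ⟨n, hn, z, hz, rfl⟩ := Set.mem_mul.mp this
    obtain ⟨k, rfl⟩ := Subgroup.mem_zpowers_iff.mp hz
    exact ⟨n, hn, k, rfl⟩
  · rintro ⟨n, hn, k, rfl⟩
    exact Subgroup.mul_mem_sup hn (Subgroup.zpow_mem_zpowers x₀ k)

variable (hNG : N ≤ G)
  (hfrob : ∀ x : Γ, x ∉ G → ∀ g : Γ, g ∈ G → x * g * x⁻¹ * g⁻¹ ∈ N → g ∈ N)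
  (hx₀ : x₀ ∉ G) (hgen : ∀ y : Γ, ∃ k : ℤ, y * (x₀ ^ k)⁻¹ ∈ G)

include hfrob hx₀ in
theorem zpow_mem_N (k : ℤ) (hk : x₀ ^ k ∈ G) : x₀ ^ k ∈ N := by
  apply hfrob x₀ hx₀ _ hk
  have hc : Commute x₀ (x₀ ^ k) := (Commute.refl x₀).zpow_right k
  have : x₀ * x₀ ^ k * x₀⁻¹ * (x₀ ^ k)⁻¹ = 1 := by
    rw [hc.eq]
    group
  rw [this]
  exact N.one_mem

include hNG hfrob hx₀ in
theorem HH_inf_G : HH N x₀ ⊓ G = N := by
  apply le_antisymm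
  · rintro h ⟨hH, hGm⟩
    obtain ⟨n, hn, k, rfl⟩ := (mem_HH_iff N x₀ h).mp hH
    have h1 : x₀ ^ k ∈ G := by
      have := G.mul_mem (G.inv_mem (hNG hn)) hGm
      rwa [inv_mul_cancel_left] at this
    exact N.mul_mem hn (zpow_mem_N G N x₀ hfrob hx₀ k h1)
  · exact le_inf le_sup_left hNG

include hgen in
theorem HH_sup_G : HH N x₀ ⊔ G = ⊤ := by
  rw [eq_top_iff]
  intro y _
  obtain ⟨k, hk⟩ := hgen y
  have : y = (y * (x₀ ^ k)⁻¹) * x₀ ^ k := by group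
  rw [this, sup_comm]
  exact Subgroup.mul_mem_sup hk
    ((le_sup_right : Subgroup.zpowers x₀ ≤ HH N x₀) (Subgroup.zpow_mem_zpowers x₀ k))

include hNG hfrob hx₀ hgen in
theorem relIndex_HH : N.relIndex (HH N x₀) = G.index := by
  have h1 : G.relIndex (HH N x₀ ⊔ G) = G.relIndex (HH N x₀) := Subgroup.relIndex_sup_right _ G
  rw [HH_sup_G G N x₀ hgen, Subgroup.relIndex_top_right] at h1
  rw [h1]
  have h2 : (HH N x₀ ⊓ G).relIndex (HH N x₀) = G.relIndex (HH N x₀) :=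
    Subgroup.inf_relIndex_left _ _
  rw [← h2, HH_inf_G G N x₀ hNG hfrob hx₀]

include hNG hfrob hx₀ in
theorem not_mem_G_of_not_mem_N (h : Γ) (hH : h ∈ HH N x₀) (hN' : h ∉ N) : h ∉ G := by
  intro hGm
  apply hN'
  have : h ∈ HH N x₀ ⊓ G := ⟨hH, hGm⟩
  rwa [HH_inf_G G N x₀ hNG hfrob hx₀] at this

theorem isCyclic_quot : IsCyclic (HH N x₀ ⧸ N.subgroupOf (HH N x₀)) := by
  refine ⟨⟨QuotientGroup.mk ⟨x₀, (le_sup_right : Subgroup.zpowers x₀ ≤ HH N x₀)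
    (Subgroup.mem_zpowers x₀)⟩, ?_⟩⟩
  intro q
  obtain ⟨h, rfl⟩ := QuotientGroup.mk_surjective q
  obtain ⟨n, hn, k, hk⟩ := (mem_HH_iff N x₀ (h : Γ)).mp h.2
  refine ⟨k, ?_⟩
  show (QuotientGroup.mk _ : HH N x₀ ⧸ N.subgroupOf (HH N x₀)) ^ k = QuotientGroup.mk h
  rw [← QuotientGroup.mk_zpow, QuotientGroup.eq]
  rw [Subgroup.mem_subgroupOf]
  push_cast
  rw [hk]
  have : (x₀ ^ k)⁻¹ * (n * x₀ ^ k) = (x₀ ^ k)⁻¹ * n * (x₀ ^ k)⁻¹⁻¹ := by group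
  rw [this]
  exact hN.conj_mem n hn _

end setup

end Cfsg.Agent.Lib.helper3.Fr
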