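import Mathlib

/-!
# Replacing a power map given on `p`-elements and `p'`-elements by a coprime power map
-/

set_option autoImplicit false
set_option linter.style.haveILetI false
set_option linter.unusedSectionVars false

namespace Cfsg.Agent.Lib.helper3.GalFix

variable {G : Type*} [Group G] [Finite G]

/-- Every element is the product of two commuting powers of itself, one of `p`-power order and one
of order prime to `p`. -/
theorem exists_pow_decomposition (p : ℕ) (hp : p.Prime) (g : G) :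
    ∃ r r' : ℕ, g ^ r * g ^ r' = g ∧ (∃ j : ℕ, orderOf (g ^ r) = p ^ j) ∧
      Nat.Coprime (orderOf (g ^ r')) p ∧ orderOf (g ^ r') ∣ ordCompl[p] (orderOf g) := by
  obtain ⟨o, ho⟩ : ∃ o : ℕ, o = orderOf g := ⟨_, rfl⟩
  have ho0 : o ≠ 0 := by rw [ho]; exact (orderOf_pos g).ne'
  obtain ⟨b, hb⟩ : ∃ b : ℕ, b = o.factorization p := ⟨_, rfl⟩
  obtain ⟨c, hc⟩ : ∃ c : ℕ, c = ordCompl[p] o := ⟨_, rfl⟩
  have hfac : p ^ b * c = o := by
    rw [hb, hc]
    exact Nat.ordProj_mul_ordCompl_eq_self o p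
  have hpc : ¬ p ∣ c := by
    rw [hc]
    exact Nat.not_dvd_ordCompl hp ho0
  have hcop : Nat.Coprime (p ^ b) c :=
    Nat.Coprime.pow_left b ((Nat.Prime.coprime_iff_not_dvd hp).2 hpc)
  obtain ⟨r, hr1, hr2⟩ := Nat.chineseRemainder hcop 1 0
  obtain ⟨r', hr'1, hr'2⟩ := Nat.chineseRemainder hcop 0 1
  refine ⟨r, r', ?_, ?_, ?_, ?_⟩
  · rw [← pow_add]
    have h1 : r + r' ≡ 1 [MOD p ^ b] := by
      have := hr1.add hr'1
      simpa using this
    have h2 : r + r' ≡ 1 [MOD c] := by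
      have := hr2.add hr'2
      simpa using this
    have h3 : r + r' ≡ 1 [MOD p ^ b * c] :=
      (Nat.modEq_and_modEq_iff_modEq_mul hcop).1 ⟨h1, h2⟩
    rw [hfac, ho] at h3
    have := (pow_eq_pow_iff_modEq (x := g)).2 h3
    rw [this, pow_one]
  · have h1 : (g ^ r) ^ (p ^ b) = 1 := by
      rw [← pow_mul]
      apply orderOf_dvd_iff_pow_eq_one.mp
      rw [← ho, ← hfac, mul_comm r]
      exact Nat.mul_dvd_mul_left _ ((Nat.modEq_zero_iff_dvd).1 hr2)
    have h2 := orderOf_dvd_of_pow_eq_one h1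
    obtain ⟨j, _, hj⟩ := (Nat.dvd_prime_pow hp).1 h2
    exact ⟨j, hj⟩
  · have h1 : (g ^ r') ^ c = 1 := by
      rw [← pow_mul]
      apply orderOf_dvd_iff_pow_eq_one.mp
      rw [← ho, ← hfac]
      exact Nat.mul_dvd_mul_right ((Nat.modEq_zero_iff_dvd).1 hr'1) _
    have h2 := orderOf_dvd_of_pow_eq_one h1
    exact Nat.Coprime.coprime_dvd_left h2 ((Nat.Prime.coprime_iff_not_dvd hp).2 hpc).symm
  · have h1 : (g ^ r') ^ c = 1 := by
      rw [← pow_mul]
      apply orderOf_dvd_iff_pow_eq_one.mp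
      rw [← ho, ← hfac]
      exact Nat.mul_dvd_mul_right ((Nat.modEq_zero_iff_dvd).1 hr'1) _
    rw [← ho, ← hc]
    exact orderOf_dvd_of_pow_eq_one h1

/-- A power map prescribed on `p`-elements (as the `e`-th power, `e` prime to `p`) and on
`p'`-elements (as the identity) agrees with a power map of exponent prime to `|G|`. -/
theorem exists_coprime_pow_eq (p : ℕ) (hp : p.Prime) (k e : ℕ) (he : Nat.Coprime e p)
    (h₁ : ∀ g : G, (∃ j : ℕ, orderOf g = p ^ j) → g ^ k = g ^ e)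
    (h₂ : ∀ g : G, Nat.Coprime (orderOf g) p → g ^ k = g) :
    ∃ k' : ℕ, k'.Coprime (Nat.card G) ∧ (∀ g : G, g ^ k = g ^ k') ∧
      k' ≡ e [MOD p ^ (Nat.card G).factorization p] ∧ k' ≡ 1 [MOD ordCompl[p] (Nat.card G)] := by
  obtain ⟨n, hn⟩ : ∃ n : ℕ, n = Nat.card G := ⟨_, rfl⟩
  have hn0 : n ≠ 0 := by rw [hn]; exact Nat.card_pos.ne'
  obtain ⟨m, hm⟩ : ∃ m : ℕ, m = ordCompl[p] n := ⟨_, rfl⟩
  rw [← hn, ← hm]
  obtain ⟨a, ha⟩ : ∃ a : ℕ, a = n.factorization p := ⟨_, rfl⟩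
  rw [← ha]
  rw [← ha] at hm
  have hfac : p ^ a * m = n := by
    rw [hm, ha]
    exact Nat.ordProj_mul_ordCompl_eq_self n p
  have hpm : ¬ p ∣ m := by
    rw [hm, ha]
    exact Nat.not_dvd_ordCompl hp hn0
  have hcop : Nat.Coprime (p ^ a) m :=
    Nat.Coprime.pow_left a ((Nat.Prime.coprime_iff_not_dvd hp).2 hpm)
  obtain ⟨k', hk'1, hk'2⟩ := Nat.chineseRemainder hcop e 1
  refine ⟨k', ?_, ?_, hk'1, hk'2⟩
  · rw [← hfac]
    apply Nat.Coprime.mul_right
    · unfold Nat.Coprime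
      rw [hk'1.gcd_eq]
      exact Nat.Coprime.pow_right a he
    · unfold Nat.Coprime
      rw [hk'2.gcd_eq]
      exact Nat.gcd_one_left m
  · intro g
    obtain ⟨r, r', hdec, ⟨j, hj⟩, hcopB, hBdvd⟩ := exists_pow_decomposition p hp g
    have hcomm : Commute (g ^ r) (g ^ r') := (Commute.refl g).pow_pow r r'
    have hog : orderOf g ∣ n := by rw [hn]; exact orderOf_dvd_natCard g
    have hA : (g ^ r) ^ k' = (g ^ r) ^ e := by
      apply (pow_eq_pow_iff_modEq (x := g ^ r)).2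
      apply hk'1.of_dvd
      rw [hj]
      have h1 : p ^ j ∣ n := by
        rw [← hj]
        exact dvd_trans (orderOf_dvd_natCard (g ^ r)) (by rw [hn])
      have h2 := (hp.pow_dvd_iff_le_factorization hn0).1 h1
      rw [ha]
      exact pow_dvd_pow p h2
    have hB : (g ^ r') ^ k' = (g ^ r') ^ 1 := by
      apply (pow_eq_pow_iff_modEq (x := g ^ r')).2
      apply hk'2.of_dvd
      refine dvd_trans hBdvd ?_
      rw [hm, ha]
      exact Nat.ordCompl_dvd_ordCompl_of_dvd hog p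
    conv_lhs => rw [← hdec]
    conv_rhs => rw [← hdec]
    rw [hcomm.mul_pow, hcomm.mul_pow, hA, hB, pow_one, h₁ _ ⟨j, hj⟩, h₂ _ hcopB]

end Cfsg.Agent.Lib.helper3.GalFix
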