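import Mathlib
import Cfsg.Agent.Lib.helper3.GalFix1
import Cfsg.Agent.Lib.helper3.Inflate2
import Cfsg.Agent.Lib.helper3.Irr10

/-!
# The power map `g ↦ g ^ k` inverting odd-order elements: basic facts
-/

set_option autoImplicit false
set_option linter.style.haveILetI false
set_option linter.unusedSectionVars false

namespace Cfsg.Agent.Lib.helper3.Sig

open Cfsg Module Cfsg.Agent.Lib.helper3.CharBasic
open Cfsg.Agent.Lib.helper3.Irr Cfsg.Agent.Lib.helper3.IndFun
open scoped ComplexConjugate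

variable {G : Type*} [Group G] [Finite G]

/-- For `k` coprime to the group order, `g ^ k ∈ H ↔ g ∈ H`. -/
theorem pow_mem_iff (k : ℕ) (hk : k.Coprime (Nat.card G)) (H : Subgroup G) (g : G) :
    g ^ k ∈ H ↔ g ∈ H := by
  constructor
  · intro h
    have hk' : k.Coprime (orderOf g) := hk.coprime_dvd_right (orderOf_dvd_natCard g)
    obtain ⟨j, hj⟩ := exists_pow_eq_self_of_coprime hk'
    rw [← hj]
    exact H.pow_mem h j
  · intro h
    exact H.pow_mem h k

/-- Under a normal subgroup of odd index, `g ^ (k + 1)` lies in the subgroup. -/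
theorem pow_succ_mem (N : Subgroup G) [hN : N.Normal] (hidx : Odd N.index) (k : ℕ)
    (hk₂ : ∀ g : G, Odd (orderOf g) → g ^ k = g⁻¹) (g : G) : g ^ (k + 1) ∈ N := by
  obtain ⟨r, r', hrr', ⟨j, hj⟩, hcop, -⟩ :=
    Cfsg.Agent.Lib.helper3.GalFix.exists_pow_decomposition 2 Nat.prime_two g
  have ha : g ^ r ∈ N := by
    rw [← QuotientGroup.eq_one_iff]
    have h1 : ((g ^ r : G) : G ⧸ N) ^ (2 ^ j) = 1 := by
      rw [← QuotientGroup.mk_pow, ← hj, pow_orderOf_eq_one, QuotientGroup.mk_one]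
    have h2 : ((g ^ r : G) : G ⧸ N) ^ N.index = 1 := by
      rw [Subgroup.index_eq_card]
      exact pow_card_eq_one'
    have h3 : orderOf ((g ^ r : G) : G ⧸ N) ∣ Nat.gcd (2 ^ j) N.index :=
      Nat.dvd_gcd (orderOf_dvd_of_pow_eq_one h1) (orderOf_dvd_of_pow_eq_one h2)
    have h4 : Nat.gcd (2 ^ j) N.index = 1 := by
      apply Nat.Coprime.pow_left
      exact Nat.coprime_two_left.mpr hidx
    rw [h4, Nat.dvd_one, orderOf_eq_one_iff] at h3
    exact h3
  have hb : Odd (orderOf (g ^ r')) := by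
    exact Nat.coprime_two_right.mp hcop
  have hbk : (g ^ r') ^ (k + 1) = 1 := by
    rw [pow_succ, hk₂ _ hb, inv_mul_cancel]
  have hcomm : Commute (g ^ r) (g ^ r') := (Commute.refl g).pow_pow r r'
  have : g ^ (k + 1) = (g ^ r) ^ (k + 1) := by
    conv_lhs => rw [← hrr']
    rw [hcomm.mul_pow, hbk, mul_one]
  rw [this]
  exact N.pow_mem ha _

/-- A character trivial on a normal subgroup of odd index is conjugated by the power map. -/
theorem apply_pow_eq_conj (N : Subgroup G) [hN : N.Normal] (hidx : Odd N.index) (k : ℕ)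
    (hk₂ : ∀ g : G, Odd (orderOf g) → g ^ k = g⁻¹) {β : G → ℂ} (hβ : IsCharacter G β)
    (hβN : ∀ g n : G, n ∈ N → β (g * n) = β g) (g : G) : β (g ^ k) = conj (β g) := by
  have h1 : g ^ k = g⁻¹ * g ^ (k + 1) := by
    rw [pow_succ', inv_mul_cancel_left]
  rw [h1, hβN _ _ (pow_succ_mem N hidx k hk₂ g)]
  obtain ⟨n, ρ, rfl⟩ := hβ
  exact character_inv ρ g

end Cfsg.Agent.Lib.helper3.Sig
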