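import Mathlib
import Cfsg.Agent.Lib.helper3.Sig1
import Cfsg.Agent.Lib.helper3.CExt5
import Cfsg.Agent.Lib.helper3.GalPow
import Cfsg.Agent.Lib.helper3.Irr14
import Cfsg.Agent.Lib.helper3.TransferChar
import Cfsg.Agent.Lib.helper3.AbelianInertia
import Cfsg.Agent.Lib.helper3.Gallagher2

/-!
# The unique fixed extension, given that an extension exists
-/

set_option autoImplicit false
set_option linter.style.haveILetI false
set_option linter.unusedSectionVars false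

namespace Cfsg.Agent.Lib.helper3.Sig

open Cfsg Module Cfsg.Agent.Lib.helper3.CharBasic
open Cfsg.Agent.Lib.helper3.Irr Cfsg.Agent.Lib.helper3.IndFun Cfsg.Agent.Lib.helper3.Lin
open Cfsg.Agent.Lib.helper3.CExt Cfsg.Agent.Lib.helper3.GalPow
open scoped ComplexConjugate

/-- If the fixed character `θ` of the normal subgroup `N` of odd index extends to `G`, it has a
fixed extension, which is the only fixed irreducible character over `θ`. -/
theorem exists_unique_fixed_of_extension {G : Type*} [Group G] [Fintype G] (N : Subgroup G)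
    [hN : N.Normal] [Fintype N] (hidx : Odd N.index) (k : ℕ) (hk : k.Coprime (Nat.card G))
    (hk₂ : ∀ g : G, Odd (orderOf g) → g ^ k = g⁻¹)
    (θ : N → ℂ) (hθ : IsIrrCharacter N θ) (hθσ : ∀ n : N, θ (n ^ k) = θ n)
    (χ₀ : G → ℂ) (hχ₀ : IsIrrCharacter G χ₀) (hext : ∀ n : N, χ₀ n = θ n) :
    ∃ χ₁ : G → ℂ, IsIrrCharacter G χ₁ ∧ (∀ n : N, χ₁ n = θ n) ∧ (∀ g, χ₁ (g ^ k) = χ₁ g) ∧
      ∀ χ' : G → ℂ, IsIrrCharacter G χ' → classInner (fun n : N => χ' n) θ ≠ 0 →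
        (∀ g, χ' (g ^ k) = χ' g) → χ' = χ₁ := by
  classical
  have hχ₀c := isCharacter_of_isIrrCharacter hχ₀
  have hχ₀N : IsIrrCharacter N (fun n : N => χ₀ n) := by
    rw [funext hext]; exact hθ
  have hσirr : IsIrrCharacter G (fun g => χ₀ (g ^ k)) := isIrrCharacter_pow hχ₀ k hk
  have hres : ∀ n : N, (fun g => χ₀ (g ^ k)) (n : G) = χ₀ n := by
    intro n
    show χ₀ ((n : G) ^ k) = χ₀ n
    have h1 : ((n : G) ^ k) = ((n ^ k : N) : G) := rfl
    rw [h1, hext, hθσ, hext]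
  obtain ⟨lam, hlamc, hlam1, hlamN, hlameq⟩ :=
    exists_linear_mul_of_restrict_eq N χ₀ _ hχ₀ hσirr hχ₀N hres
  obtain ⟨μ, hμ⟩ : ∃ μ : G →* ℂˣ, ∀ g, ((μ g : ℂˣ) : ℂ) = lam g :=
    ⟨toUnitsHom hlamc hlam1, toUnitsHom_apply hlamc hlam1⟩
  have hidx' : Odd N.index := hidx
  obtain ⟨t, ht⟩ : ∃ t, N.index = 2 * t + 1 := hidx'
  obtain ⟨γ, hγ⟩ : ∃ γ : G → ℂ, γ = fun g => (((μ ^ (t + 1)) g : ℂˣ) : ℂ) := ⟨_, rfl⟩
  have hγc : IsCharacter G γ := by rw [hγ]; exact isCharacter_of_hom (μ ^ (t + 1))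
  have hγapp : ∀ g, γ g = lam g ^ (t + 1) := by
    intro g
    rw [hγ]
    simp only [MonoidHom.pow_apply, Units.val_pow_eq_pow_val, hμ]
  have hγ1 : γ 1 = 1 := by rw [hγapp, hlam1, one_pow]
  have hlammul : ∀ a b : G, lam (a * b) = lam a * lam b :=
    map_mul_of_apply_one_eq_one hlamc hlam1
  have hlampow : ∀ (g : G) (j : ℕ), lam (g ^ j) = lam g ^ j := by
    intro g j
    rw [← hμ, ← hμ, map_pow, Units.val_pow_eq_pow_val]
  have hγN : ∀ g n : G, n ∈ N → γ (g * n) = γ g := by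
    intro g n hn
    rw [hγapp, hγapp, hlammul, hlamN ⟨n, hn⟩, mul_one]
  have hγsq : ∀ g, γ g ^ 2 = lam g := by
    intro g
    rw [hγapp, ← pow_mul]
    have h1 : (t + 1) * 2 = N.index + 1 := by rw [ht]; ring
    rw [h1, pow_succ, ← hlampow]
    have h2 : g ^ N.index ∈ N := Subgroup.pow_index_mem N g
    rw [hlamN ⟨_, h2⟩, one_mul]
  have hγnorm : ∀ g, conj (γ g) * γ g = 1 := by
    intro g
    have h1 : γ g ^ (Nat.card G) = 1 := by
      rw [hγapp, ← pow_mul, mul_comm, pow_mul, ← hlampow, pow_card_eq_one', hlam1, one_pow]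
    have h2 : ‖γ g‖ = 1 := Complex.norm_eq_one_of_pow_eq_one h1 Nat.card_pos.ne'
    rw [mul_comm, Complex.mul_conj, Complex.normSq_eq_norm_sq, h2]
    simp
  have hγσ : ∀ g, γ (g ^ k) = conj (γ g) := apply_pow_eq_conj N hidx k hk₂ hγc hγN
  have hχ₁ : IsIrrCharacter G (γ * χ₀) := isIrrCharacter_linear_mul hγc hγ1 hχ₀
  have hγn : ∀ n : N, γ n = 1 := by
    intro n
    have := hγN 1 n n.2
    rwa [one_mul, hγ1] at this
  have hχ₁N : ∀ n : N, (γ * χ₀) n = θ n := by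
    intro n
    rw [Pi.mul_apply, hγn, one_mul, hext]
  have hχ₁σ : ∀ g, (γ * χ₀) (g ^ k) = (γ * χ₀) g := by
    intro g
    have h1 := congrFun hlameq g
    simp only [Pi.mul_apply] at h1 ⊢
    rw [h1, hγσ, ← hγsq]
    calc conj (γ g) * (γ g ^ 2 * χ₀ g) = (conj (γ g) * γ g) * (γ g * χ₀ g) := by ring
      _ = γ g * χ₀ g := by rw [hγnorm, one_mul]
  refine ⟨γ * χ₀, hχ₁, hχ₁N, hχ₁σ, ?_⟩
  intro χ' hχ' hover hχ'σ
  have hχ₁c := isCharacter_of_isIrrCharacter hχ₁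
  have hχ₁N' : IsIrrCharacter N (fun n : N => (γ * χ₀) n) := by
    rw [funext hχ₁N]; exact hθ
  have hover' : classInner (fun n : N => (γ * χ₀) n) (fun n : N => χ' n) ≠ 0 := by
    rw [funext hχ₁N]
    intro h0
    apply hover
    rw [← classInner_conj_symm, h0, map_zero]
  obtain ⟨β, hβ, hβN, hχ'β⟩ := exists_mul_of_over_extension N (γ * χ₀) χ' hχ₁ hχ' hχ₁N' hover'
  have hβc := isCharacter_of_isIrrCharacter hβ
  have hβconst : ∀ g n : G, n ∈ N → β (g * n) = β g :=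
    fun g n hn => apply_mul_of_apply_eq_one hβc (hβN ⟨n, hn⟩) g
  have hβσ : ∀ g, β (g ^ k) = conj (β g) := apply_pow_eq_conj N hidx k hk₂ hβc hβconst
  obtain ⟨β', hβ', hββ'⟩ := exists_eq_inflate hβ N hβconst
  have hβ'conj : IsIrrCharacter (G ⧸ N) (fun q => conj (β' q)) := isIrrCharacter_conj hβ'
  have heq : inflate N (fun q => conj (β' q)) * (γ * χ₀) = inflate N β' * (γ * χ₀) := by
    funext g
    have h1 := congrFun hχ'β (g ^ k)
    have h2 := congrFun hχ'β g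
    have h4 : (γ * χ₀) (g ^ k) = (γ * χ₀) g := hχ₁σ g
    simp only [Pi.mul_apply] at h1 h2 h4 ⊢
    rw [h4, hβσ, hχ'σ g, h2] at h1
    rw [inflate_apply, inflate_apply]
    have h3 : β g = β' (g : G ⧸ N) := by rw [hββ', inflate_apply]
    rw [← h3]
    exact h1.symm
  have hinj := (gallagher_inflate N (γ * χ₀) hχ₁c (apply_one_ne_zero hχ₁) hχ₁N').2
    ⟨fun q => conj (β' q), hβ'conj⟩ ⟨β', hβ'⟩ heq
  have hreal : ∀ q : G ⧸ N, (β' q).im = 0 := by
    intro q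
    have h1 := congrFun (congrArg Subtype.val hinj) q
    simp only at h1
    exact Complex.conj_eq_iff_im.mp h1
  have hodd : Odd (Nat.card (G ⧸ N)) := by
    rw [← Subgroup.index_eq_card, ht]
    exact ⟨t, rfl⟩
  have hβ'one := eq_one_of_real_of_odd hodd ⟨β', hβ'⟩ hreal
  simp only at hβ'one
  rw [hχ'β, hββ', hβ'one]
  funext g
  simp [inflate_apply]

end Cfsg.Agent.Lib.helper3.Sig
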