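import Mathlib
import Cfsg.Agent.Lib.helper3.Sig2
import Cfsg.Agent.Lib.helper3.CExt9
import Cfsg.Agent.Lib.helper3.Fr1
import Cfsg.Agent.Lib.helper3.CycExt2
import Cfsg.Agent.Lib.helper3.CliffCorr
import Cfsg.Agent.Lib.helper3.Irr12

/-!
# Fixed invariant characters extend over a quotient of odd order
-/

set_option autoImplicit false
set_option linter.style.haveILetI false
set_option linter.unusedSectionVars false

namespace Cfsg.Agent.Lib.helper3.Sig

open Cfsg Module Cfsg.Agent.Lib.helper3.CharBasic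
open Cfsg.Agent.Lib.helper3.Irr Cfsg.Agent.Lib.helper3.IndFun Cfsg.Agent.Lib.helper3.Lin
open Cfsg.Agent.Lib.helper3.CExt Cfsg.Agent.Lib.helper3.GalPow
open scoped ComplexConjugate

universe u

theorem coprime_card_subgroup {G : Type*} [Group G] [Finite G] (P : Subgroup G) (k : ℕ)
    (hk : k.Coprime (Nat.card G)) : k.Coprime (Nat.card P) :=
  hk.coprime_dvd_right (Subgroup.card_subgroup_dvd_card P)

theorem inv_of_odd_subgroup {G : Type*} [Group G] (P : Subgroup G) (k : ℕ)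
    (hk₂ : ∀ g : G, Odd (orderOf g) → g ^ k = g⁻¹) :
    ∀ g : P, Odd (orderOf g) → g ^ k = g⁻¹ := by
  intro g hg
  apply Subtype.ext
  rw [Subgroup.coe_pow, Subgroup.coe_inv]
  apply hk₂
  rwa [Subgroup.orderOf_coe]

/-- The subgroup generated by a normal subgroup and a preimage of a central element of the
quotient is normal. -/
theorem normal_HH {G : Type*} [Group G] (N : Subgroup G) [hN : N.Normal] (x₀ : G)
    (hc : (x₀ : G ⧸ N) ∈ Subgroup.center (G ⧸ N)) : (Fr.HH N x₀).Normal := by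
  constructor
  intro h hh g
  obtain ⟨n, hn, j, rfl⟩ := (Fr.mem_HH_iff N x₀ h).mp hh
  rw [Fr.mem_HH_iff]
  refine ⟨g * n * g⁻¹ * (g * x₀ ^ j * g⁻¹ * (x₀ ^ j)⁻¹), ?_, j, by group⟩
  apply N.mul_mem (hN.conj_mem n hn g)
  rw [← QuotientGroup.eq_one_iff]
  have hcj : ((x₀ : G ⧸ N)) ^ j ∈ Subgroup.center (G ⧸ N) := Subgroup.zpow_mem _ hc j
  have h1 := Subgroup.mem_center_iff.mp hcj (g : G ⧸ N)
  simp only [QuotientGroup.mk_mul, QuotientGroup.mk_inv, QuotientGroup.mk_zpow]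
  rw [h1]
  group

/-- The `p`-group step: passing to a larger normal subgroup with cyclic quotient. -/
theorem exists_larger_invariant {G : Type u} [Group G] [Fintype G] (N : Subgroup G)
    [hN : N.Normal] [Fintype N] (hidx : Odd N.index) (k : ℕ) (hk : k.Coprime (Nat.card G))
    (hk₂ : ∀ g : G, Odd (orderOf g) → g ^ k = g⁻¹)
    (θ : N → ℂ) (hθ : IsIrrCharacter N θ) (hθσ : ∀ n : N, θ (n ^ k) = θ n)
    (hinv : ∀ (g : G) (n : N), θ ⟨g * n * g⁻¹, hN.conj_mem (n : G) n.2 g⟩ = θ n)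
    (Z : Subgroup G) [hZ : Z.Normal] (hNZ : N ≤ Z)
    (hcyc : IsCyclic (Z ⧸ N.subgroupOf Z)) :
    ∃ θZ : Z → ℂ, IsIrrCharacter Z θZ ∧ (∀ z : Z, θZ (z ^ k) = θZ z) ∧
      (∀ (g : G) (z : Z), θZ ⟨g * z * g⁻¹, hZ.conj_mem (z : G) z.2 g⟩ = θZ z) ∧
      ∀ n : N, θZ ⟨(n : G), hNZ n.2⟩ = θ n := by
  classical
  letI : Fintype (N.subgroupOf Z) := Fintype.ofFinite _
  obtain ⟨θ', hθ'def⟩ : ∃ θ', θ' = subFun N Z θ := ⟨_, rfl⟩
  have hθ' : IsIrrCharacter (N.subgroupOf Z) θ' := by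
    rw [hθ'def]; exact isIrrCharacter_subFun hNZ hθ
  have hθ'app : ∀ x : N.subgroupOf Z, θ' x = θ ⟨((x : Z) : G), Subgroup.mem_subgroupOf.mp x.2⟩ := by
    intro x; rw [hθ'def]; rfl
  have hinv' : ∀ (g : Z) (x : N.subgroupOf Z),
      θ' ⟨g * x * g⁻¹, (inferInstance : (N.subgroupOf Z).Normal).conj_mem (x : Z) x.2 g⟩
        = θ' x := by
    intro g x
    rw [hθ'app, hθ'app]
    exact hinv (g : G) ⟨((x : Z) : G), Subgroup.mem_subgroupOf.mp x.2⟩
  obtain ⟨χ₀, hχ₀, hχ₀ext⟩ :=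
    Cfsg.Agent.Lib.helper3.CycExt.exists_extension_of_cyclic (N.subgroupOf Z) hcyc θ' hθ' hinv'
  have hidxZ : Odd (N.subgroupOf Z).index := by
    have h1 : (N.subgroupOf Z).index ∣ N.index := Subgroup.relIndex_dvd_index_of_le hNZ
    exact Odd.of_dvd_nat hidx h1
  have hθ'σ : ∀ x : N.subgroupOf Z, θ' (x ^ k) = θ' x := by
    intro x
    rw [hθ'app, hθ'app]
    exact hθσ ⟨((x : Z) : G), Subgroup.mem_subgroupOf.mp x.2⟩
  obtain ⟨θZ, hθZ, hθZext, hθZσ, hθZuniq⟩ :=
    exists_unique_fixed_of_extension (N.subgroupOf Z) hidxZ k (coprime_card_subgroup Z k hk)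
      (inv_of_odd_subgroup Z k hk₂) θ' hθ' hθ'σ χ₀ hχ₀ hχ₀ext
  refine ⟨θZ, hθZ, hθZσ, ?_, ?_⟩
  · intro g z
    have hconj : IsIrrCharacter Z (conjFun Z θZ g) := isIrrCharacter_conjFun Z hθZ g
    have hres : (fun x : N.subgroupOf Z => conjFun Z θZ g (x : Z)) = θ' := by
      funext x
      show θZ ⟨g * ((x : Z) : G) * g⁻¹, _⟩ = θ' x
      have hmem : g * ((x : Z) : G) * g⁻¹ ∈ N :=
        hN.conj_mem _ (Subgroup.mem_subgroupOf.mp x.2) g
      have h1 := hθZext ⟨⟨g * ((x : Z) : G) * g⁻¹, hZ.conj_mem _ (x : Z).2 g⟩,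
        Subgroup.mem_subgroupOf.mpr hmem⟩
      rw [hθ'app] at h1
      rw [hθ'app, ← hinv g ⟨((x : Z) : G), Subgroup.mem_subgroupOf.mp x.2⟩]
      exact h1
    have hover : classInner (fun x : N.subgroupOf Z => conjFun Z θZ g (x : Z)) θ' ≠ 0 := by
      rw [hres, irr_classInner_self hθ']
      exact one_ne_zero
    have hfix : ∀ z : Z, conjFun Z θZ g (z ^ k) = conjFun Z θZ g z := by
      intro z
      show θZ ⟨g * ((z ^ k : Z) : G) * g⁻¹, _⟩ = θZ ⟨g * (z : G) * g⁻¹, _⟩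
      have h1 := hθZσ ⟨g * (z : G) * g⁻¹, hZ.conj_mem _ z.2 g⟩
      rw [← h1]
      apply congrArg θZ
      apply Subtype.ext
      show g * ((z : G) ^ k) * g⁻¹ = (g * (z : G) * g⁻¹) ^ k
      rw [conj_pow]
    have := hθZuniq _ hconj hover hfix
    exact congrFun this z
  · intro n
    have h1 := hθZext ⟨⟨(n : G), hNZ n.2⟩, Subgroup.mem_subgroupOf.mpr n.2⟩
    rw [hθ'app] at h1
    exact h1

theorem exists_extension_of_invariant_aux : ∀ (m : ℕ) (G : Type u) [Group G] [Fintype G]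
    (N : Subgroup G) [hN : N.Normal] [Fintype N], N.index = m → Odd N.index →
    ∀ (k : ℕ), k.Coprime (Nat.card G) → (∀ g : G, Odd (orderOf g) → g ^ k = g⁻¹) →
    ∀ (θ : N → ℂ), IsIrrCharacter N θ → (∀ n : N, θ (n ^ k) = θ n) →
    (∀ (g : G) (n : N), θ ⟨g * n * g⁻¹, hN.conj_mem (n : G) n.2 g⟩ = θ n) →
    ∃ χ : G → ℂ, IsIrrCharacter G χ ∧ ∀ n : N, χ n = θ n := by
  intro m
  induction m using Nat.strong_induction_on with
  | _ m ih =>
  intro G _ _ N hN _ hm hidx k hk hk₂ θ hθ hθσ hinv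
  classical
  by_cases hcyc : IsCyclic (G ⧸ N)
  · exact Cfsg.Agent.Lib.helper3.CycExt.exists_extension_of_cyclic N hcyc θ hθ hinv
  by_cases hp : ∃ p : ℕ, p.Prime ∧ IsPGroup p (G ⧸ N)
  · obtain ⟨p, hpp, hpG⟩ := hp
    haveI : Fact p.Prime := ⟨hpp⟩
    haveI : Nontrivial (G ⧸ N) := by
      by_contra h
      rw [not_nontrivial_iff_subsingleton] at h
      exact hcyc isCyclic_of_subsingleton
    haveI := hpG.center_nontrivial
    obtain ⟨⟨c, hc⟩, hc1⟩ := exists_ne (1 : Subgroup.center (G ⧸ N))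
    obtain ⟨x₀, rfl⟩ := QuotientGroup.mk_surjective c
    have hx₀N : x₀ ∉ N := by
      intro h
      apply hc1
      apply Subtype.ext
      exact (QuotientGroup.eq_one_iff x₀).mpr h
    haveI hZ : (Fr.HH N x₀).Normal := normal_HH N x₀ hc
    have hNZ : N ≤ Fr.HH N x₀ := le_sup_left
    letI : Fintype (Fr.HH N x₀) := Fintype.ofFinite _
    obtain ⟨θZ, hθZ, hθZσ, hθZinv, hθZext⟩ :=
      exists_larger_invariant N hidx k hk hk₂ θ hθ hθσ hinv (Fr.HH N x₀) hNZ
        (Fr.isCyclic_quot N x₀)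
    have hlt : (Fr.HH N x₀).index < m := by
      rw [← hm]
      apply Subgroup.index_strictAnti
      refine lt_of_le_of_ne hNZ ?_
      intro h
      apply hx₀N
      rw [h]
      exact (le_sup_right : Subgroup.zpowers x₀ ≤ Fr.HH N x₀) (Subgroup.mem_zpowers x₀)
    have hoddZ : Odd (Fr.HH N x₀).index := Odd.of_dvd_nat hidx (Subgroup.index_dvd_of_le hNZ)
    obtain ⟨χ, hχ, hχext⟩ :=
      ih _ hlt G (Fr.HH N x₀) rfl hoddZ k hk hk₂ θZ hθZ hθZσ hθZinv
    refine ⟨χ, hχ, fun n => ?_⟩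
    rw [← hθZext n]
    exact hχext ⟨(n : G), hNZ n.2⟩
  · apply extends_of_local N θ hθ hinv
    intro p hpp
    haveI : Fact p.Prime := ⟨hpp⟩
    obtain ⟨S⟩ : Nonempty (Sylow p (G ⧸ N)) := inferInstance
    obtain ⟨P, hPdef⟩ :
      ∃ P : Subgroup G, P = (S : Subgroup (G ⧸ N)).comap (QuotientGroup.mk' N) := ⟨_, rfl⟩
    have hNP : N ≤ P := by
      rw [hPdef]
      intro n hn
      rw [Subgroup.mem_comap]
      have : QuotientGroup.mk' N n = 1 := (QuotientGroup.eq_one_iff n).mpr hn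
      rw [this]; exact Subgroup.one_mem _
    have hPidx : P.index = (S : Subgroup (G ⧸ N)).index := by
      rw [hPdef]; exact Subgroup.index_comap_of_surjective _ (QuotientGroup.mk'_surjective N)
    have hcop : Nat.Coprime P.index p := by
      rw [hPidx]
      exact ((Nat.Prime.coprime_iff_not_dvd hpp).mpr S.not_dvd_index).symm
    have hPtop : P ≠ ⊤ := by
      intro h
      apply hp
      refine ⟨p, hpp, ?_⟩
      have h1 : (S : Subgroup (G ⧸ N)).index = 1 := by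
        rw [← hPidx]; exact Subgroup.index_eq_one.mpr h
      have h2 : (S : Subgroup (G ⧸ N)) = ⊤ := Subgroup.index_eq_one.mp h1
      intro q
      have hq : q ∈ (S : Subgroup (G ⧸ N)) := by rw [h2]; exact Subgroup.mem_top q
      obtain ⟨j, hj⟩ := S.2 ⟨q, hq⟩
      refine ⟨j, ?_⟩
      have := congrArg Subtype.val hj
      simpa using this
    letI : Fintype P := Fintype.ofFinite _
    letI : Fintype (N.subgroupOf P) := Fintype.ofFinite _
    have hrel : (N.subgroupOf P).index * P.index = N.index := Subgroup.relIndex_mul_index hNP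
    have hPidx1 : 1 < P.index := by
      have h0 : P.index ≠ 0 := Subgroup.index_ne_zero_of_finite
      have h1 : P.index ≠ 1 := fun h => hPtop (Subgroup.index_eq_one.mp h)
      omega
    have hlt : (N.subgroupOf P).index < m := by
      rw [← hm, ← hrel]
      have h0 : (N.subgroupOf P).index ≠ 0 := Subgroup.index_ne_zero_of_finite
      have h0' : 0 < (N.subgroupOf P).index := Nat.pos_of_ne_zero h0
      calc (N.subgroupOf P).index = (N.subgroupOf P).index * 1 := (mul_one _).symm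
        _ < (N.subgroupOf P).index * P.index := Nat.mul_lt_mul_of_pos_left hPidx1 h0' 
    have hoddP : Odd (N.subgroupOf P).index :=
      Odd.of_dvd_nat hidx (Dvd.intro _ hrel)
    have hθ' : IsIrrCharacter (N.subgroupOf P) (subFun N P θ) := isIrrCharacter_subFun hNP hθ
    have hθ'σ : ∀ x : N.subgroupOf P, subFun N P θ (x ^ k) = subFun N P θ x := by
      intro x
      exact hθσ ⟨((x : P) : G), Subgroup.mem_subgroupOf.mp x.2⟩
    have hinv' : ∀ (g : P) (x : N.subgroupOf P),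
        subFun N P θ ⟨g * x * g⁻¹,
          (inferInstance : (N.subgroupOf P).Normal).conj_mem (x : P) x.2 g⟩
          = subFun N P θ x := by
      intro g x
      exact hinv (g : G) ⟨((x : P) : G), Subgroup.mem_subgroupOf.mp x.2⟩
    obtain ⟨η, hη, hηext⟩ := ih _ hlt P (N.subgroupOf P) rfl hoddP k
      (coprime_card_subgroup P k hk) (inv_of_odd_subgroup P k hk₂) (subFun N P θ) hθ' hθ'σ hinv'
    refine ⟨P, hNP, η, hcop, hη, fun n => ?_⟩
    exact hηext ⟨⟨(n : G), hNP n.2⟩, Subgroup.mem_subgroupOf.mpr n.2⟩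

/-- A fixed invariant irreducible character of a normal subgroup of odd index extends. -/
theorem exists_extension_of_invariant {G : Type u} [Group G] [Fintype G]
    (N : Subgroup G) [hN : N.Normal] [Fintype N] (hidx : Odd N.index)
    (k : ℕ) (hk : k.Coprime (Nat.card G)) (hk₂ : ∀ g : G, Odd (orderOf g) → g ^ k = g⁻¹)
    (θ : N → ℂ) (hθ : IsIrrCharacter N θ) (hθσ : ∀ n : N, θ (n ^ k) = θ n)
    (hinv : ∀ (g : G) (n : N), θ ⟨g * n * g⁻¹, hN.conj_mem (n : G) n.2 g⟩ = θ n) :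
    ∃ χ : G → ℂ, IsIrrCharacter G χ ∧ ∀ n : N, χ n = θ n :=
  exists_extension_of_invariant_aux _ G N rfl hidx k hk hk₂ θ hθ hθσ hinv

end Cfsg.Agent.Lib.helper3.Sig
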