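import Mathlib
import Cfsg.Agent.Lib.helper3.Sig3
import Cfsg.Agent.Lib.helper3.Ito

/-!
# The unique fixed character over a fixed character of a normal subgroup of odd index
-/

set_option autoImplicit false
set_option linter.style.haveILetI false
set_option linter.unusedSectionVars false

namespace Cfsg.Agent.Lib.helper3.Sig

open Cfsg Module Cfsg.Agent.Lib.helper3.CharBasic
open Cfsg.Agent.Lib.helper3.Irr Cfsg.Agent.Lib.helper3.IndFun Cfsg.Agent.Lib.helper3.Lin
open Cfsg.Agent.Lib.helper3.CExt Cfsg.Agent.Lib.helper3.GalPow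
open scoped ComplexConjugate

universe u

/-- Transitivity of "being a constituent of the restriction". -/
theorem classInner_restrict_ne_zero_of_constituent {T : Type*} [Group T] [Fintype T]
    (M : Subgroup T) [Fintype M] {A ψ : T → ℂ} (hA : IsCharacter T A)
    (hψ : IsIrrCharacter T ψ) (h1 : classInner A ψ ≠ 0) {θ : M → ℂ} (hθ : IsIrrCharacter M θ)
    (h2 : classInner (fun m : M => ψ m) θ ≠ 0) : classInner (fun m : M => A m) θ ≠ 0 := by
  classical
  obtain ⟨m, rfl⟩ := exists_decomposition_of_isCharacter hA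
  have e1 := classInner_decomposition_left (fun χ => (m χ : ℂ)) ⟨ψ, hψ⟩
  simp only at e1
  rw [e1] at h1
  have hm : m ⟨ψ, hψ⟩ ≠ 0 := by
    intro h; apply h1; rw [h]; simp
  have hn : ∀ φ : IrrCharacter T, ∃ n : ℕ,
      classInner (fun x : M => (φ : T → ℂ) x) θ = n := fun φ =>
    exists_nat_classInner_of_isCharacter_of_isCharacter
      (isCharacter_restrict (isCharacter_of_isIrrCharacter φ.2) M)
      (isCharacter_of_isIrrCharacter hθ)
  choose n hn using hn
  have hres : (fun x : M => (∑ φ : IrrCharacter T, (m φ : ℂ) • (φ : T → ℂ)) x)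
      = ∑ φ : IrrCharacter T, (m φ : ℂ) • (fun x : M => (φ : T → ℂ) x) := by
    funext x
    simp [Finset.sum_apply]
  rw [hres, classInner_sum_left]
  simp_rw [classInner_smul_left, hn]
  have hcast : ∑ φ : IrrCharacter T, (m φ : ℂ) * (n φ : ℂ)
      = ((∑ φ : IrrCharacter T, m φ * n φ : ℕ) : ℂ) := by push_cast; rfl
  rw [hcast]
  have hnψ : n ⟨ψ, hψ⟩ ≠ 0 := by
    intro h
    apply h2
    have := hn ⟨ψ, hψ⟩
    rw [h, Nat.cast_zero] at this
    exact this
  have hpos : 0 < ∑ φ : IrrCharacter T, m φ * n φ := by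
    apply Finset.sum_pos'
    · intro i _; exact Nat.zero_le _
    · exact ⟨⟨ψ, hψ⟩, Finset.mem_univ _,
        Nat.mul_pos (Nat.pos_of_ne_zero hm) (Nat.pos_of_ne_zero hnψ)⟩
  exact_mod_cast hpos.ne'

/-- Induction commutes with the power map. -/
theorem indFun_pow {G : Type*} [Group G] [Fintype G] (T : Subgroup G) (k : ℕ)
    (hk : k.Coprime (Nat.card G)) (ψ : T → ℂ) (g : G) :
    indFun T (fun t => ψ (t ^ k)) g = indFun T ψ (g ^ k) := by
  rw [indFun_apply, indFun_apply]
  congr 1
  apply Finset.sum_congr rfl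
  intro x _
  have h1 : x⁻¹ * g ^ k * x = (x⁻¹ * g * x) ^ k := by
    have := conj_pow (a := x⁻¹) (b := g) (i := k)
    rw [inv_inv] at this
    exact this.symm
  rw [h1]
  by_cases hy : x⁻¹ * g * x ∈ T
  · rw [extendByZero_mem T _ hy, extendByZero_mem T _ (T.pow_mem hy k)]
    rfl
  · have hy' : (x⁻¹ * g * x) ^ k ∉ T := fun h => hy ((pow_mem_iff k hk T _).mp h)
    rw [extendByZero_not_mem T _ hy, extendByZero_not_mem T _ hy']

/-- The inner product is invariant under the power map. -/
theorem classInner_pow {N : Type*} [Group N] [Fintype N] (k : ℕ) (hk : k.Coprime (Nat.card N))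
    (a b : N → ℂ) : classInner (fun n => a (n ^ k)) (fun n => b (n ^ k)) = classInner a b := by
  rw [classInner_apply, classInner_apply]
  congr 1
  exact Fintype.sum_equiv (powCoprime hk.symm) _ _ (fun n => rfl)

/-- The invariant case. -/
theorem exists_unique_fixed_of_invariant {G : Type u} [Group G] [Fintype G] (N : Subgroup G)
    [hN : N.Normal] [Fintype N] (hidx : Odd N.index) (k : ℕ) (hk : k.Coprime (Nat.card G))
    (hk₂ : ∀ g : G, Odd (orderOf g) → g ^ k = g⁻¹)
    (θ : N → ℂ) (hθ : IsIrrCharacter N θ) (hθσ : ∀ n : N, θ (n ^ k) = θ n)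
    (hinv : ∀ (g : G) (n : N), θ ⟨g * n * g⁻¹, hN.conj_mem (n : G) n.2 g⟩ = θ n) :
    ∃ χ₁ : G → ℂ, IsIrrCharacter G χ₁ ∧ (∀ n : N, χ₁ n = θ n) ∧ (∀ g, χ₁ (g ^ k) = χ₁ g) ∧
      ∀ χ' : G → ℂ, IsIrrCharacter G χ' → classInner (fun n : N => χ' n) θ ≠ 0 →
        (∀ g, χ' (g ^ k) = χ' g) → χ' = χ₁ := by
  obtain ⟨χ₀, hχ₀, hext⟩ := exists_extension_of_invariant N hidx k hk hk₂ θ hθ hθσ hinv
  exact exists_unique_fixed_of_extension N hidx k hk hk₂ θ hθ hθσ χ₀ hχ₀ hext

/-- The general case, through the Clifford correspondence. -/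
theorem exists_unique_fixed {G : Type u} [Group G] [Fintype G] (N : Subgroup G)
    [hN : N.Normal] [Fintype N] (hidx : Odd N.index) (k : ℕ) (hk : k.Coprime (Nat.card G))
    (hk₂ : ∀ g : G, Odd (orderOf g) → g ^ k = g⁻¹)
    (θ : N → ℂ) (hθ : IsIrrCharacter N θ) (hθσ : ∀ n : N, θ (n ^ k) = θ n) :
    ∃ χ : G → ℂ, IsIrrCharacter G χ ∧ classInner (fun n : N => χ n) θ ≠ 0 ∧
      (∀ g, χ (g ^ k) = χ g) ∧
      ∀ χ' : G → ℂ, IsIrrCharacter G χ' → classInner (fun n : N => χ' n) θ ≠ 0 →
        (∀ g, χ' (g ^ k) = χ' g) → χ' = χ := by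
  classical
  obtain ⟨T, hTdef⟩ : ∃ T, T = inertia N θ := ⟨_, rfl⟩
  have hT : ∀ g : G, g ∈ T ↔ ∀ h : N, θ ⟨g * h * g⁻¹, hN.conj_mem h h.2 g⟩ = θ h := by
    intro g; rw [hTdef]; exact mem_inertia_iff N θ g
  have hNT : N ≤ T := by
    rw [hTdef]
    exact le_inertia N θ (isClassFunction_of_isCharacter (isCharacter_of_isIrrCharacter hθ))
  letI : Fintype T := Fintype.ofFinite _
  letI : Fintype (N.subgroupOf T) := Fintype.ofFinite _
  have hθ' : IsIrrCharacter (N.subgroupOf T) (subFun N T θ) := isIrrCharacter_subFun hNT hθ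
  have hidxT : Odd (N.subgroupOf T).index :=
    Odd.of_dvd_nat hidx (Subgroup.relIndex_dvd_index_of_le hNT)
  have hθ'σ : ∀ x : N.subgroupOf T, subFun N T θ (x ^ k) = subFun N T θ x :=
    fun x => hθσ ⟨((x : T) : G), Subgroup.mem_subgroupOf.mp x.2⟩
  have hinv' : ∀ (g : T) (x : N.subgroupOf T),
      subFun N T θ ⟨g * x * g⁻¹,
        (inferInstance : (N.subgroupOf T).Normal).conj_mem (x : T) x.2 g⟩
        = subFun N T θ x := by
    intro g x
    exact (hT (g : G)).mp g.2 ⟨((x : T) : G), Subgroup.mem_subgroupOf.mp x.2⟩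
  obtain ⟨ψ, hψ, hψext, hψσ, hψuniq⟩ :=
    exists_unique_fixed_of_invariant (N.subgroupOf T) hidxT k (coprime_card_subgroup T k hk)
      (inv_of_odd_subgroup T k hk₂) (subFun N T θ) hθ' hθ'σ hinv'
  have hfrobne : ∀ φ : T → ℂ, IsIrrCharacter T φ →
      classInner (fun x : N.subgroupOf T => φ x) (subFun N T θ) ≠ 0 →
      classInner (indFun (N.subgroupOf T) (subFun N T θ)) φ ≠ 0 := by
    intro φ hφ hne
    rw [frobenius_reciprocity _ _ _
      (isClassFunction_of_isCharacter (isCharacter_of_isIrrCharacter hφ)),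
      ← classInner_conj_symm]
    intro h
    apply hne
    have := congrArg conj h
    simpa using this
  have hψover : classInner (fun x : N.subgroupOf T => ψ x) (subFun N T θ) ≠ 0 := by
    rw [funext hψext, irr_classInner_self hθ']; exact one_ne_zero
  have hc := hfrobne ψ hψ hψover
  obtain ⟨hχirr, -⟩ := clifford_corr_injective N T θ hθ hT hNT ψ ψ hψ hψ hc hc
  refine ⟨indFun T ψ, hχirr, ?_, ?_, ?_⟩
  · have hχc := isCharacter_of_isIrrCharacter hχirr
    have h1 : classInner (fun t : T => indFun T ψ t) ψ ≠ 0 := by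
      rw [← classInner_conj_symm,
        ← frobenius_reciprocity T ψ _ (isClassFunction_of_isCharacter hχc),
        irr_classInner_self hχirr]
      simp
    have h2 := classInner_restrict_ne_zero_of_constituent (N.subgroupOf T)
      (isCharacter_restrict hχc T) hψ h1 hθ' hψover
    have h3 : (fun x : N.subgroupOf T => (fun t : T => indFun T ψ t) x)
        = subFun N T (fun n : N => indFun T ψ n) := rfl
    rw [h3, classInner_subFun hNT] at h2
    exact h2
  · intro g
    rw [← indFun_pow T k hk ψ g]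
    have : (fun t : T => ψ (t ^ k)) = ψ := funext hψσ
    rw [this]
  · intro χ' hχ' hover hfix
    obtain ⟨ψ', hψ', hind, hov⟩ := clifford_corr_surjective N θ hθ T hT hNT χ' hχ' hover
    have hψ'over : classInner (fun x : N.subgroupOf T => ψ' x) (subFun N T θ) ≠ 0 := by
      have h3 : (fun x : N.subgroupOf T => ψ' x)
          = subFun N T (fun n : N => ψ' ⟨(n : G), hNT n.2⟩) := rfl
      rw [h3, classInner_subFun hNT, hov]
      exact hover
    have hσirr : IsIrrCharacter T (fun t => ψ' (t ^ k)) :=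
      isIrrCharacter_pow hψ' k (coprime_card_subgroup T k hk)
    have hσover : classInner (fun x : N.subgroupOf T => (fun t : T => ψ' (t ^ k)) x)
        (subFun N T θ) ≠ 0 := by
      have h4 : subFun N T θ = fun x => subFun N T θ (x ^ k) := (funext hθ'σ).symm
      rw [h4]
      have h5 := classInner_pow k (coprime_card_subgroup (N.subgroupOf T) k
        (coprime_card_subgroup T k hk)) (fun x : N.subgroupOf T => ψ' x) (subFun N T θ)
      have h6 : (fun x : N.subgroupOf T => (fun t : T => ψ' (t ^ k)) x)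
          = fun x : N.subgroupOf T => (fun y : N.subgroupOf T => ψ' y) (x ^ k) := rfl
      rw [h6, h5]
      exact hψ'over
    have hindeq : indFun T (fun t => ψ' (t ^ k)) = indFun T ψ' := by
      funext g
      rw [indFun_pow T k hk ψ' g, hind, hfix]
    obtain ⟨-, hinj⟩ := clifford_corr_injective N T θ hθ hT hNT _ ψ' hσirr hψ'
      (hfrobne _ hσirr hσover) (hfrobne ψ' hψ' hψ'over)
    have hfixψ' : ∀ t : T, ψ' (t ^ k) = ψ' t := fun t => congrFun (hinj hindeq) t
    have := hψuniq ψ' hψ' hψ'over hfixψ'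
    rw [← hind, this]

end Cfsg.Agent.Lib.helper3.Sig
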