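import Mathlib
import Cfsg.Prelude.Def_Characters
import Cfsg.Agent.Lib.helper3.Sig4
import Cfsg.Agent.Lib.helper3.FullyRam

set_option autoImplicit false
set_option linter.style.haveILetI false
set_option linter.unusedSectionVars false

/-!
# Character-theoretic lemmas for the induced-from-maximal theorem
-/

namespace Cfsg.Agent.Lib.helper3.Berger

open Cfsg Module Cfsg.Agent.Lib.helper3.IndFun Cfsg.Agent.Lib.helper3.CharBasic
open Cfsg.Agent.Lib.helper3.Irr
open scoped ComplexConjugate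

/-- Constituents pull back along homomorphisms through an irreducible pull-back. -/
theorem classInner_comp_ne_zero_of_constituent {T : Type*} [Group T] [Fintype T]
    {M : Type*} [Group M] [Fintype M] (f : M →* T) {A ψ : T → ℂ} (hA : IsCharacter T A)
    (hψ : IsIrrCharacter T ψ) (h1 : classInner A ψ ≠ 0) {θ : M → ℂ} (hθ : IsIrrCharacter M θ)
    (h2 : classInner (fun m : M => ψ (f m)) θ ≠ 0) :
    classInner (fun m : M => A (f m)) θ ≠ 0 := by
  classical
  obtain ⟨m, rfl⟩ := exists_decomposition_of_isCharacter hA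
  have e1 := classInner_decomposition_left (fun χ => (m χ : ℂ)) ⟨ψ, hψ⟩
  simp only at e1
  rw [e1] at h1
  have hm : m ⟨ψ, hψ⟩ ≠ 0 := by
    intro h; apply h1; rw [h]; simp
  have hn : ∀ φ : IrrCharacter T, ∃ n : ℕ,
      classInner (fun x : M => (φ : T → ℂ) (f x)) θ = n := fun φ =>
    exists_nat_classInner_of_isCharacter_of_isCharacter
      (isCharacter_comp (isCharacter_of_isIrrCharacter φ.2) f)
      (isCharacter_of_isIrrCharacter hθ)
  choose n hn using hn
  have hres : (fun x : M => (∑ φ : IrrCharacter T, (m φ : ℂ) • (φ : T → ℂ)) (f x))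
      = ∑ φ : IrrCharacter T, (m φ : ℂ) • (fun x : M => (φ : T → ℂ) (f x)) := by
    funext x
    simp [Finset.sum_apply]
  rw [hres, classInner_sum_left]
  simp_rw [classInner_smul_left, hn]
  have hcast : ∑ φ : IrrCharacter T, (m φ : ℂ) * (n φ : ℂ)
      = ((∑ φ : IrrCharacter T, m φ * n φ : ℕ) : ℂ) := by push_cast; rfl
  rw [hcast]
  have hnψ : n ⟨ψ, hψ⟩ ≠ 0 := by
    intro h
    apply h2
    have := hn ⟨ψ, hψ⟩
    rw [h, Nat.cast_zero] at this
    exact this
  have hpos : 0 < ∑ φ : IrrCharacter T, m φ * n φ := by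
    apply Finset.sum_pos'
    · intro i _; exact Nat.zero_le _
    · exact ⟨⟨ψ, hψ⟩, Finset.mem_univ _,
        Nat.mul_pos (Nat.pos_of_ne_zero hm) (Nat.pos_of_ne_zero hnψ)⟩
  exact_mod_cast hpos.ne'

/-- A character with multiplicity `a` of `η` and degree `a η(1)` is `a η`. -/
theorem eq_smul_of_classInner_of_degree {K : Type*} [Group K] [Fintype K] {Ξ η : K → ℂ}
    (hΞ : IsCharacter K Ξ) (hη : IsIrrCharacter K η) (a : ℕ)
    (h1 : classInner Ξ η = a) (h2 : Ξ 1 = (a : ℂ) * η 1) : Ξ = (a : ℂ) • η := by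
  classical
  obtain ⟨m, rfl⟩ := exists_decomposition_of_isCharacter hΞ
  have e1 := classInner_decomposition_left (fun χ => (m χ : ℂ)) ⟨η, hη⟩
  simp only at e1
  rw [e1] at h1
  have hma : m ⟨η, hη⟩ = a := by exact_mod_cast h1
  have hd : ∀ ψ : IrrCharacter K, ∃ n : ℕ, 0 < n ∧ (ψ : K → ℂ) 1 = n := fun ψ =>
    exists_pos_nat_apply_one ψ.2
  choose d hdpos hd using hd
  have h3 : (∑ ψ : IrrCharacter K, (m ψ : ℂ) • (ψ : K → ℂ)) 1
      = ((∑ ψ : IrrCharacter K, m ψ * d ψ : ℕ) : ℂ) := by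
    rw [Finset.sum_apply]
    push_cast
    apply Finset.sum_congr rfl
    intro ψ _
    rw [Pi.smul_apply, smul_eq_mul, hd]
  rw [h3] at h2
  have h4 : η 1 = (d ⟨η, hη⟩ : ℂ) := hd ⟨η, hη⟩
  rw [h4] at h2
  have h5 : ∑ ψ : IrrCharacter K, m ψ * d ψ = a * d ⟨η, hη⟩ := by exact_mod_cast h2
  have h6 : ∀ ψ : IrrCharacter K, ψ ≠ ⟨η, hη⟩ → m ψ = 0 := by
    intro ψ hψ
    by_contra hne
    have h7 : m ⟨η, hη⟩ * d ⟨η, hη⟩ + m ψ * d ψ ≤ ∑ ψ : IrrCharacter K, m ψ * d ψ := by
      have hsub : ({⟨η, hη⟩, ψ} : Finset (IrrCharacter K)) ⊆ Finset.univ := Finset.subset_univ _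
      have := Finset.sum_le_sum_of_subset (f := fun ψ => m ψ * d ψ) hsub
      rw [Finset.sum_pair (Ne.symm hψ)] at this
      exact this
    rw [h5, hma] at h7
    have h8 : 0 < m ψ * d ψ := Nat.mul_pos (Nat.pos_of_ne_zero hne) (hdpos ψ)
    omega
  have h9 : ∑ ψ : IrrCharacter K, (m ψ : ℂ) • (ψ : K → ℂ) = (m ⟨η, hη⟩ : ℂ) • η := by
    rw [Finset.sum_eq_single ⟨η, hη⟩]
    · intro ψ _ hψ
      rw [h6 ψ hψ]
      simp
    · intro h
      exact absurd (Finset.mem_univ _) h
  rw [h9, hma]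

/-- An irreducible character whose restriction to `K` has norm `|X : K|` vanishes off `K`. -/
theorem vanish_off_of_norm {X : Type*} [Group X] [Fintype X] (K : Subgroup X) [Fintype K]
    (ξ : X → ℂ) (hξ : IsIrrCharacter X ξ) (a : ℕ)
    (h1 : classInner (fun k : K => ξ k) (fun k : K => ξ k) = (a : ℂ) ^ 2)
    (h2 : a ^ 2 = K.index) : ∀ g : X, g ∉ K → ξ g = 0 := by
  classical
  have hsplit := norm_split K ξ hξ
  have hcard : (Nat.card X : ℂ) = (Nat.card K : ℂ) * (K.index : ℂ) := by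
    rw [← Nat.cast_mul, Subgroup.card_mul_index]
  rw [h1, hcard, ← h2] at hsplit
  have h : (∑ g ∈ Finset.univ.filter (fun g : X => g ∉ K), ξ g * conj (ξ g)) = 0 := by
    push_cast at hsplit
    linear_combination -hsplit
  intro g hg
  have h3 : ∑ g ∈ Finset.univ.filter (fun g : X => g ∉ K), Complex.normSq (ξ g) = 0 := by
    have : ((∑ g ∈ Finset.univ.filter (fun g : X => g ∉ K), Complex.normSq (ξ g) : ℝ) : ℂ)
        = 0 := by
      rw [← h]
      push_cast
      apply Finset.sum_congr rfl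
      intro g _
      rw [Complex.mul_conj]
    exact_mod_cast this
  have h5 := (Finset.sum_eq_zero_iff_of_nonneg
    (fun g _ => Complex.normSq_nonneg (ξ g))).mp h3 g
    (Finset.mem_filter.mpr ⟨Finset.mem_univ _, hg⟩)
  exact Complex.normSq_eq_zero.mp h5

/-- The vanishing argument: `ξ_K = a η` with `a² = |X : K|`, `K` far from normal over `C`,
and `η_C` irreducible force `K = C`. -/
theorem le_of_vanishing {X : Type*} [Group X] [Fintype X] (K C : Subgroup X) (hCK : C ≤ K)
    (ξ : X → ℂ) (hξ : IsIrrCharacter X ξ) (η : K → ℂ) (hη : IsIrrCharacter K η) (a : ℕ)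
    (ha : a ≠ 0) (h1 : (fun k : K => ξ k) = (a : ℂ) • η) (h2 : a ^ 2 = K.index)
    (h3 : ∀ y ∈ K, y ∉ C → ∃ t : X, t * y * t⁻¹ ∉ K)
    (h4 : IsIrrCharacter C (fun c : C => η ⟨c, hCK c.2⟩)) : K ≤ C := by
  classical
  letI : Fintype K := Fintype.ofFinite K
  letI : Fintype C := Fintype.ofFinite C
  have hcf := isClassFunction_of_isCharacter (isCharacter_of_isIrrCharacter hξ)
  have hnorm : classInner (fun k : K => ξ k) (fun k : K => ξ k) = (a : ℂ) ^ 2 := by
    rw [h1, classInner_smul_left, classInner_smul_right, irr_classInner_self hη,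
      Complex.conj_natCast]
    ring
  have hvan := vanish_off_of_norm K ξ hξ a hnorm h2
  have hη0 : ∀ k : K, (k : X) ∉ C → η k = 0 := by
    intro k hk
    obtain ⟨t, ht⟩ := h3 k k.2 hk
    have e1 : ξ (k : X) = 0 := by
      rw [← hcf (k : X) t]
      exact hvan _ ht
    have e2 := congrFun h1 k
    simp only [Pi.smul_apply, smul_eq_mul] at e2
    rw [e1] at e2
    have ha' : (a : ℂ) ≠ 0 := by exact_mod_cast ha
    rcases mul_eq_zero.mp e2.symm with h | h
    · exact absurd h ha'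
    · exact h
  have hK1 := irr_classInner_self hη
  have hC1 := irr_classInner_self h4
  rw [classInner_apply] at hK1 hC1
  have hKc : (Nat.card K : ℂ) ≠ 0 := card_ne_zero_complex K
  have hCc : (Nat.card C : ℂ) ≠ 0 := card_ne_zero_complex C
  have hsum : ∑ k : K, η k * conj (η k) = ∑ c : C, η ⟨c, hCK c.2⟩ * conj (η ⟨c, hCK c.2⟩) := by
    have hinj : Function.Injective (fun c : C => (⟨c, hCK c.2⟩ : K)) := by
      intro c c' h
      apply Subtype.ext
      exact congrArg (fun k : K => (k : X)) h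
    rw [← Finset.sum_image (f := fun k : K => η k * conj (η k))
      (s := Finset.univ) (g := fun c : C => (⟨c, hCK c.2⟩ : K)) (fun x _ y _ h => hinj h)]
    symm
    apply Finset.sum_subset (Finset.subset_univ _)
    intro k _ hk
    have hkC : (k : X) ∉ C := by
      intro h
      apply hk
      rw [Finset.mem_image]
      exact ⟨⟨k, h⟩, Finset.mem_univ _, rfl⟩
    rw [hη0 k hkC, zero_mul]
  have hcards : (Nat.card K : ℂ) = (Nat.card C : ℂ) := by
    have e1 : ∑ k : K, η k * conj (η k) = (Nat.card K : ℂ) := by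
      field_simp at hK1
      exact hK1
    have e2 : ∑ c : C, η ⟨c, hCK c.2⟩ * conj (η ⟨c, hCK c.2⟩) = (Nat.card C : ℂ) := by
      field_simp at hC1
      exact hC1
    rw [← e1, ← e2, hsum]
  have hcards' : Nat.card K = Nat.card C := by exact_mod_cast hcards
  have := Subgroup.eq_of_le_of_card_ge hCK (le_of_eq hcards')
  rw [this]

end Cfsg.Agent.Lib.helper3.Berger
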