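import Mathlib
import Cfsg.Prelude.Def_Characters
import Cfsg.Agent.Lib.helper3.FullyRam
import Cfsg.Agent.Lib.helper3.CycExt2
import Cfsg.Agent.Lib.helper3.Gallagher2
import Cfsg.Agent.Lib.helper3.Berger2
import Cfsg.Agent.Lib.helper3.IndLin
import Cfsg.Agent.Lib.helper3.Irr7
import Cfsg.Agent.Lib.helper3.Irr10
import Cfsg.Agent.Lib.helper3.Irr12

set_option autoImplicit false
set_option linter.style.haveILetI false
set_option linter.unusedSectionVars false

/-!
# Fully ramified sections have no self-centralizing cyclic subgroups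
-/

namespace Cfsg.Agent.Lib.helper3.CentType

open Cfsg Module Cfsg.Agent.Lib.helper3.IndFun Cfsg.Agent.Lib.helper3.CharBasic
open Cfsg.Agent.Lib.helper3.Irr
open scoped ComplexConjugate

open Classical in
/-- Column orthogonality in a commutative group. -/
theorem column_orthogonality_comm {Q : Type*} [Group Q] [Fintype Q]
    (hcomm : ∀ a b : Q, a * b = b * a) (a b : Q) :
    ∑ β : IrrCharacter Q, (β : Q → ℂ) a * conj ((β : Q → ℂ) b)
      = if a = b then (Nat.card Q : ℂ) else 0 := by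
  by_cases hab : a = b
  · rw [if_pos hab]
    subst hab
    rw [(column_orthogonality a a).1 (IsConj.refl a)]
    have : Subgroup.centralizer ({a} : Set Q) = ⊤ := by
      rw [eq_top_iff]
      intro x _
      rw [Subgroup.mem_centralizer_iff]
      intro y hy
      exact hcomm y x
    rw [this, Nat.card_congr (Subgroup.topEquiv (G := Q)).toEquiv]
  · rw [if_neg hab]
    apply (column_orthogonality a b).2
    intro hc
    obtain ⟨c, hc⟩ := isConj_iff.mp hc
    apply hab
    rw [← hc, hcomm c a, mul_inv_cancel_right]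

/-- A character whose only irreducible constituent is `χ` is a multiple of `χ`. -/
theorem eq_smul_of_only_constituent {H : Type*} [Group H] [Fintype H] {Φ χ : H → ℂ}
    (hΦ : IsCharacter H Φ) (hχ : IsIrrCharacter H χ)
    (h : ∀ χ' : H → ℂ, IsIrrCharacter H χ' → classInner Φ χ' ≠ 0 → χ' = χ) :
    Φ = classInner Φ χ • χ := by
  classical
  conv_lhs => rw [isCharacter_eq_sum_classInner hΦ]
  rw [Finset.sum_eq_single (⟨χ, hχ⟩ : IrrCharacter H)]
  · intro β _ hβ
    by_cases h0 : classInner Φ (β : H → ℂ) = 0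
    · rw [h0, zero_smul]
    · exfalso
      apply hβ
      exact Subtype.ext (h _ β.2 h0)
  · intro h'
    exact absurd (Finset.mem_univ _) h'


section main

variable {H : Type*} [Group H] [Fintype H]

/-- Evaluating an induced class function supported on a "self-centralizing" coset. -/
theorem indFun_apply_of_selfcent (C : Subgroup H) (F : C → ℂ) (hF : IsClassFunction C F) (u : C)
    (hsc : ∀ x : H, ∀ h : x⁻¹ * (u : H) * x ∈ C, F ⟨x⁻¹ * (u : H) * x, h⟩ ≠ 0 → x ∈ C) :
    indFun C F (u : H) = F u := by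
  classical
  rw [indFun_apply]
  have h1 : ∀ x : H, extendByZero C F (x⁻¹ * (u : H) * x) = if x ∈ C then F u else 0 := by
    intro x
    by_cases hx : x ∈ C
    · rw [if_pos hx]
      have e : x⁻¹ * (u : H) * x = (((⟨x, hx⟩ : C)⁻¹ * u * (⟨x, hx⟩ : C)⁻¹⁻¹ : C) : H) := by
        simp
      rw [e, extendByZero_coe, hF]
    · rw [if_neg hx]
      by_cases hm : x⁻¹ * (u : H) * x ∈ C
      · rw [extendByZero_mem C F hm]
        by_contra hne
        exact hx (hsc x hm hne)
      · exact extendByZero_not_mem C F hm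
  simp_rw [h1]
  rw [Finset.sum_ite, Finset.sum_const_zero, add_zero, Finset.sum_const, nsmul_eq_mul]
  have hcard : (Finset.univ.filter (fun x : H => x ∈ C)).card = Nat.card C := by
    rw [Nat.card_eq_fintype_card, Fintype.card_subtype]
  rw [hcard]
  have hC : (Nat.card C : ℂ) ≠ 0 := card_ne_zero_complex C
  field_simp


open Classical in
/-- The twisted sums over the dual of the commutative quotient. -/
theorem sum_twist_eq (Z C : Subgroup H) [hZ : Z.Normal]
    (hcomm : ∀ a b : C ⧸ Z.subgroupOf C, a * b = b * a) (ψ : C → ℂ) (u : C) :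
    ∑ β : IrrCharacter (C ⧸ Z.subgroupOf C),
        conj ((β : C ⧸ Z.subgroupOf C → ℂ) (u : C ⧸ Z.subgroupOf C))
          • (inflate (Z.subgroupOf C) (β : C ⧸ Z.subgroupOf C → ℂ) * ψ)
      = (Nat.card (C ⧸ Z.subgroupOf C) : ℂ) •
          (fun v : C => if (v : C ⧸ Z.subgroupOf C) = (u : C ⧸ Z.subgroupOf C) then ψ v else 0) := by
  classical
  letI : Fintype (C ⧸ Z.subgroupOf C) := Fintype.ofFinite _
  funext v
  rw [Finset.sum_apply]
  simp only [Pi.smul_apply, Pi.mul_apply, inflate_apply, smul_eq_mul]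
  have h1 := column_orthogonality_comm hcomm (v : C ⧸ Z.subgroupOf C) (u : C ⧸ Z.subgroupOf C)
  have h2 : ∑ β : IrrCharacter (C ⧸ Z.subgroupOf C),
        conj ((β : C ⧸ Z.subgroupOf C → ℂ) (u : C ⧸ Z.subgroupOf C))
          * ((β : C ⧸ Z.subgroupOf C → ℂ) (v : C ⧸ Z.subgroupOf C) * ψ v)
      = (∑ β : IrrCharacter (C ⧸ Z.subgroupOf C),
          (β : C ⧸ Z.subgroupOf C → ℂ) (v : C ⧸ Z.subgroupOf C)
            * conj ((β : C ⧸ Z.subgroupOf C → ℂ) (u : C ⧸ Z.subgroupOf C))) * ψ v := by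
    rw [Finset.sum_mul]
    apply Finset.sum_congr rfl
    intro β _
    ring
  rw [h2, h1]
  split_ifs with h
  · rfl
  · simp

open Classical in
/-- The class function `ψ` cut down to a nontrivial coset induces to zero. -/
theorem indFun_coset_eq_zero (Z C : Subgroup H) [hZ : Z.Normal] (hZC : Z ≤ C)
    (hcomm : ∀ a b : C ⧸ Z.subgroupOf C, a * b = b * a)
    (χ : H → ℂ) (hχ : IsIrrCharacter H χ) (θ : Z → ℂ) (hθ : IsIrrCharacter Z θ)
    (huniq : ∀ χ' : H → ℂ, IsIrrCharacter H χ' → classInner (indFun Z θ) χ' ≠ 0 → χ' = χ)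
    (ψ : C → ℂ) (hψ : IsIrrCharacter C ψ) (hψθ : ∀ z : Z, ψ ⟨z, hZC z.2⟩ = θ z)
    (u : C) (hu : (u : C ⧸ Z.subgroupOf C) ≠ 1) :
    indFun C (fun v : C =>
      if (v : C ⧸ Z.subgroupOf C) = (u : C ⧸ Z.subgroupOf C) then ψ v else 0) = 0 := by
  classical
  letI : Fintype (C ⧸ Z.subgroupOf C) := Fintype.ofFinite _
  have hψc := isCharacter_of_isIrrCharacter hψ
  have hψ1 : ψ 1 ≠ 0 := apply_one_ne_zero hψ
  have hχ1 : χ 1 ≠ 0 := apply_one_ne_zero hχ
  -- the restriction of `ψ` to `Z` inside `C` is irreducible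
  have hψZ : IsIrrCharacter (Z.subgroupOf C) (fun n : Z.subgroupOf C => ψ n) := by
    have := isIrrCharacter_comp_mulEquiv (Subgroup.subgroupOfEquivOfLe hZC) hθ
    convert this using 1
    funext n
    rw [← hψθ]
    rfl
  obtain ⟨hirr, -⟩ := gallagher_inflate (Z.subgroupOf C) ψ hψc hψ1 hψZ
  -- each twisted character induces to a multiple of `χ`
  have hmult : ∀ β : IrrCharacter (C ⧸ Z.subgroupOf C),
      indFun C (inflate (Z.subgroupOf C) (β : C ⧸ Z.subgroupOf C → ℂ) * ψ)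
        = ((C.index : ℂ) * (β : C ⧸ Z.subgroupOf C → ℂ) 1 * ψ 1 / χ 1) • χ := by
    intro β
    obtain ⟨ψβ, hψβ⟩ : ∃ ψβ : C → ℂ,
      ψβ = inflate (Z.subgroupOf C) (β : C ⧸ Z.subgroupOf C → ℂ) * ψ := ⟨_, rfl⟩
    rw [← hψβ]
    have hψβi : IsIrrCharacter C ψβ := by rw [hψβ]; exact hirr β
    have hΦ : IsCharacter H (indFun C ψβ) :=
      isCharacter_indFun C ψβ (isCharacter_of_isIrrCharacter hψβi)
    have honly : ∀ χ' : H → ℂ, IsIrrCharacter H χ' → classInner (indFun C ψβ) χ' ≠ 0 → χ' = χ := by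
      intro χ' hχ' hne
      have hχ'c := isCharacter_of_isIrrCharacter hχ'
      have hcf := isClassFunction_of_isCharacter hχ'c
      rw [frobenius_reciprocity C ψβ χ' hcf] at hne
      have h2 : classInner (fun v : C => χ' v) ψβ ≠ 0 := by
        rw [← classInner_conj_symm]
        intro h
        apply hne
        have := congrArg conj h
        simpa using this
      have h3 : classInner (fun m : Z => ψβ (Subgroup.inclusion hZC m)) θ ≠ 0 := by
        have e : (fun m : Z => ψβ (Subgroup.inclusion hZC m))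
            = ((β : C ⧸ Z.subgroupOf C → ℂ) 1) • θ := by
          funext m
          rw [hψβ, Pi.mul_apply, Pi.smul_apply, smul_eq_mul]
          have hm : (Subgroup.inclusion hZC m) ∈ Z.subgroupOf C := by
            rw [Subgroup.mem_subgroupOf]
            exact m.2
          rw [inflate_apply_of_mem _ _ hm]
          congr 1
          exact hψθ m
        rw [e, classInner_smul_left, irr_classInner_self hθ, mul_one]
        exact apply_one_ne_zero β.2
      have h4 := Cfsg.Agent.Lib.helper3.Berger.classInner_comp_ne_zero_of_constituent (Subgroup.inclusion hZC)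
        (isCharacter_restrict hχ'c C) hψβi h2 hθ h3
      apply huniq χ' hχ'
      rw [frobenius_reciprocity Z θ χ' hcf, ← classInner_conj_symm]
      intro h
      apply h4
      have := congrArg conj h
      simpa using this
    have h5 := eq_smul_of_only_constituent hΦ hχ honly
    have h6 := congrFun h5 1
    rw [indFun_apply_one, Pi.smul_apply, smul_eq_mul] at h6
    have h7 : classInner (indFun C ψβ) χ
        = (C.index : ℂ) * (β : C ⧸ Z.subgroupOf C → ℂ) 1 * ψ 1 / χ 1 := by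
      rw [eq_div_iff hχ1, ← h6, hψβ, Pi.mul_apply, inflate_apply]
      rw [show ((1 : C) : C ⧸ Z.subgroupOf C) = 1 from rfl]
      ring
    rw [← h7]
    exact h5
  have hsum := sum_twist_eq Z C hcomm ψ u
  have h8 := congrArg (indFun C) hsum
  rw [indFun_sum, indFun_smul] at h8
  have h9 : ∑ β : IrrCharacter (C ⧸ Z.subgroupOf C),
      indFun C (conj ((β : C ⧸ Z.subgroupOf C → ℂ) (u : C ⧸ Z.subgroupOf C))
          • (inflate (Z.subgroupOf C) (β : C ⧸ Z.subgroupOf C → ℂ) * ψ)) = 0 := by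
    simp_rw [indFun_smul, hmult, smul_smul]
    rw [← Finset.sum_smul]
    have h10 : ∑ β : IrrCharacter (C ⧸ Z.subgroupOf C),
        conj ((β : C ⧸ Z.subgroupOf C → ℂ) (u : C ⧸ Z.subgroupOf C))
          * ((C.index : ℂ) * (β : C ⧸ Z.subgroupOf C → ℂ) 1 * ψ 1 / χ 1)
        = ((C.index : ℂ) * ψ 1 / χ 1) * ∑ β : IrrCharacter (C ⧸ Z.subgroupOf C),
          (β : C ⧸ Z.subgroupOf C → ℂ) 1
            * conj ((β : C ⧸ Z.subgroupOf C → ℂ) (u : C ⧸ Z.subgroupOf C)) := by
      rw [Finset.mul_sum]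
      apply Finset.sum_congr rfl
      intro β _
      ring
    rw [h10, column_orthogonality_comm hcomm 1 (u : C ⧸ Z.subgroupOf C), if_neg (Ne.symm hu),
      mul_zero, zero_smul]
  rw [h9] at h8
  have hQ : (Nat.card (C ⧸ Z.subgroupOf C) : ℂ) ≠ 0 := card_ne_zero_complex _
  rcases smul_eq_zero.mp h8.symm with h | h
  · exact absurd h hQ
  · exact h


/-- An extension of an irreducible character of `Z` to `C` with `C/Z` commutative does not
vanish identically on any coset of `Z`. -/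
theorem exists_ne_zero_on_coset (Z C : Subgroup H) [hZ : Z.Normal]
    (hcomm : ∀ a b : C ⧸ Z.subgroupOf C, a * b = b * a)
    (ψ : C → ℂ) (hψ : IsIrrCharacter C ψ)
    (hψZ : IsIrrCharacter (Z.subgroupOf C) (fun n : Z.subgroupOf C => ψ n)) (u : C) :
    ∃ v : C, (v : C ⧸ Z.subgroupOf C) = (u : C ⧸ Z.subgroupOf C) ∧ ψ v ≠ 0 := by
  classical
  letI : Fintype (C ⧸ Z.subgroupOf C) := Fintype.ofFinite _
  by_contra hall
  push Not at hall
  have hψc := isCharacter_of_isIrrCharacter hψ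
  have hψ1 : ψ 1 ≠ 0 := apply_one_ne_zero hψ
  obtain ⟨hirr, hinj⟩ := gallagher_inflate (Z.subgroupOf C) ψ hψc hψ1 hψZ
  obtain ⟨β₀, hβ₀⟩ : ∃ β₀ : IrrCharacter (C ⧸ Z.subgroupOf C),
      β₀ = ⟨fun _ => 1, isIrrCharacter_one⟩ := ⟨_, rfl⟩
  have hβ₀ψ : inflate (Z.subgroupOf C) (β₀ : C ⧸ Z.subgroupOf C → ℂ) * ψ = ψ := by
    funext v
    rw [hβ₀, Pi.mul_apply, inflate_apply, one_mul]
  have hS1 : ∑ β : IrrCharacter (C ⧸ Z.subgroupOf C),
      conj ((β : C ⧸ Z.subgroupOf C → ℂ) (u : C ⧸ Z.subgroupOf C))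
        * classInner (inflate (Z.subgroupOf C) (β : C ⧸ Z.subgroupOf C → ℂ) * ψ) ψ = 1 := by
    rw [Finset.sum_eq_single β₀]
    · rw [hβ₀ψ, irr_classInner_self hψ, mul_one, hβ₀]
      simp
    · intro β _ hβ
      rw [irr_classInner_eq_zero (hirr β) hψ, mul_zero]
      intro h
      apply hβ
      apply hinj
      rw [h, hβ₀ψ]
    · intro h
      exact absurd (Finset.mem_univ _) h
  have hS2 : ∑ β : IrrCharacter (C ⧸ Z.subgroupOf C),
      conj ((β : C ⧸ Z.subgroupOf C → ℂ) (u : C ⧸ Z.subgroupOf C))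
        * classInner (inflate (Z.subgroupOf C) (β : C ⧸ Z.subgroupOf C → ℂ) * ψ) ψ = 0 := by
    simp_rw [← classInner_smul_left]
    rw [← classInner_sum_left, sum_twist_eq Z C hcomm ψ u, classInner_smul_left, classInner_apply]
    have : ∀ v : C, (if (v : C ⧸ Z.subgroupOf C) = (u : C ⧸ Z.subgroupOf C) then ψ v else 0)
        * conj (ψ v) = 0 := by
      intro v
      split_ifs with h
      · rw [hall v h, zero_mul]
      · rw [zero_mul]
    simp_rw [this]
    simp
  rw [hS1] at hS2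
  exact one_ne_zero hS2

end main

/-- A fully ramified section `H/Z` has no self-centralizing cyclic subgroup. -/
theorem centralizer_ne_of_isCyclic {H : Type*} [Group H] [Finite H] (Z : Subgroup H)
    [hZn : Z.Normal] (χ : H → ℂ) (hχ : IsIrrCharacter H χ) (θ : Z → ℂ) (hθ : IsIrrCharacter Z θ)
    (e : ℕ) (he : e ^ 2 = Z.index) (hres : ∀ z : Z, χ z = (e : ℂ) * θ z) (hZ : Z ≠ ⊤)
    (C : Subgroup (H ⧸ Z)) (hC : IsCyclic C) :
    Subgroup.centralizer (C : Set (H ⧸ Z)) ≠ C := by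
  classical
  letI : Fintype H := Fintype.ofFinite H
  intro hcent
  obtain ⟨⟨g₀, hg₀⟩, hgen⟩ := hC.exists_generator
  obtain ⟨u₀, rfl⟩ := QuotientGroup.mk_surjective g₀
  have hpow : ∀ y ∈ C, ∃ k : ℤ, y = (u₀ : H ⧸ Z) ^ k := by
    intro y hy
    obtain ⟨k, hk⟩ := Subgroup.mem_zpowers_iff.mp (hgen ⟨y, hy⟩)
    refine ⟨k, ?_⟩
    have := congrArg Subtype.val hk
    simpa using this.symm
  obtain ⟨C', hC'⟩ : ∃ C' : Subgroup H, C' = C.comap (QuotientGroup.mk' Z) := ⟨_, rfl⟩
  have hmemC' : ∀ x : H, x ∈ C' ↔ (x : H ⧸ Z) ∈ C := by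
    intro x
    rw [hC']
    rfl
  have hZC : Z ≤ C' := by
    intro z hz
    rw [hmemC', (QuotientGroup.eq_one_iff z).mpr hz]
    exact C.one_mem
  have hu₀C : u₀ ∈ C' := (hmemC' u₀).mpr hg₀
  have hF1 : ∀ x : H, (x : H ⧸ Z) * (u₀ : H ⧸ Z) = (u₀ : H ⧸ Z) * (x : H ⧸ Z) → x ∈ C' := by
    intro x hx
    rw [hmemC']
    have : (x : H ⧸ Z) ∈ Subgroup.centralizer (C : Set (H ⧸ Z)) := by
      rw [Subgroup.mem_centralizer_iff]
      intro y hy
      obtain ⟨k, rfl⟩ := hpow y hy
      have hc : Commute (u₀ : H ⧸ Z) (x : H ⧸ Z) := hx.symm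
      exact (hc.zpow_left k).eq
    rw [hcent] at this
    exact this
  have he0 : e ≠ 0 := by
    intro h
    rw [h] at he
    have : Z.index ≠ 0 := Subgroup.index_ne_zero_of_finite
    exact this (by rw [← he]; norm_num)
  have hresf : (fun n : Z => χ n) = (e : ℂ) • θ := by
    funext n
    rw [hres n]
    rfl
  have hcon : classInner (fun n : Z => χ n) θ ≠ 0 := by
    rw [hresf, classInner_smul_left, irr_classInner_self hθ, mul_one]
    exact_mod_cast he0
  obtain ⟨iff1, iff2⟩ := Cfsg.Agent.Lib.helper3.Irr.fully_ramified_iff Z χ hχ θ hθ hcon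
  have hex : ∃ e : ℕ, (fun n : Z => χ n) = (e : ℂ) • θ ∧ e ^ 2 = Z.index := ⟨e, hresf, he⟩
  obtain ⟨-, hinv⟩ := iff1.mp hex
  have huniq : ∀ χ' : H → ℂ, IsIrrCharacter H χ' → classInner (indFun Z θ) χ' ≠ 0 → χ' = χ :=
    ((iff2.mp hex) 1 1).2
  by_cases hu₀Z : u₀ ∈ Z
  · -- the cyclic subgroup is trivial
    apply hZ
    rw [eq_top_iff]
    intro h _
    have hu1 : (u₀ : H ⧸ Z) = 1 := (QuotientGroup.eq_one_iff u₀).mpr hu₀Z
    have hh : h ∈ C' := by
      apply hF1
      rw [hu1, mul_one, one_mul]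
    obtain ⟨k, hk⟩ := hpow _ ((hmemC' h).mp hh)
    rw [hu1, one_zpow] at hk
    exact (QuotientGroup.eq_one_iff h).mp hk
  · -- translation between the two quotients
    have htrans : ∀ v w : C', ((v : C' ⧸ Z.subgroupOf C') = (w : C' ⧸ Z.subgroupOf C'))
        ↔ (((v : H) : H ⧸ Z) = ((w : H) : H ⧸ Z)) := by
      intro v w
      rw [QuotientGroup.eq, QuotientGroup.eq, Subgroup.mem_subgroupOf]
      simp
    have hcomm : ∀ a b : C' ⧸ Z.subgroupOf C', a * b = b * a := by
      intro a b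
      obtain ⟨v, rfl⟩ := QuotientGroup.mk_surjective a
      obtain ⟨w, rfl⟩ := QuotientGroup.mk_surjective b
      rw [← QuotientGroup.mk_mul, ← QuotientGroup.mk_mul, htrans]
      obtain ⟨k, hk⟩ := hpow _ ((hmemC' v).mp v.2)
      obtain ⟨l, hl⟩ := hpow _ ((hmemC' w).mp w.2)
      simp only [Subgroup.coe_mul, QuotientGroup.mk_mul]
      rw [hk, hl]
      exact zpow_mul_comm _ _ _
    have hcyc : IsCyclic (C' ⧸ Z.subgroupOf C') := by
      refine ⟨⟨((⟨u₀, hu₀C⟩ : C') : C' ⧸ Z.subgroupOf C'), ?_⟩⟩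
      intro q
      obtain ⟨v, rfl⟩ := QuotientGroup.mk_surjective q
      obtain ⟨k, hk⟩ := hpow _ ((hmemC' v).mp v.2)
      refine ⟨k, ?_⟩
      show ((⟨u₀, hu₀C⟩ : C') : C' ⧸ Z.subgroupOf C') ^ k = _
      rw [← QuotientGroup.mk_zpow, htrans]
      simp only [Subgroup.coe_zpow, QuotientGroup.mk_zpow]
      exact hk.symm
    letI : Fintype Z := Fintype.ofFinite Z
    obtain ⟨θ', hθ'⟩ : ∃ θ' : Z.subgroupOf C' → ℂ,
        θ' = fun n => θ (Subgroup.subgroupOfEquivOfLe hZC n) := ⟨_, rfl⟩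
    have hθ'i : IsIrrCharacter (Z.subgroupOf C') θ' := by
      rw [hθ']
      exact isIrrCharacter_comp_mulEquiv (Subgroup.subgroupOfEquivOfLe hZC) hθ
    have hinv' : ∀ (g : C') (n : Z.subgroupOf C'),
        θ' ⟨g * n * g⁻¹, (inferInstance : (Z.subgroupOf C').Normal).conj_mem (n : C') n.2 g⟩
          = θ' n := by
      intro g n
      rw [hθ']
      exact hinv (g : H) (Subgroup.subgroupOfEquivOfLe hZC n)
    obtain ⟨ψ, hψ, hψθ'⟩ := Cfsg.Agent.Lib.helper3.CycExt.exists_extension_of_cyclic (Z.subgroupOf C') hcyc θ' hθ'i hinv'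
    have hψθ : ∀ z : Z, ψ ⟨z, hZC z.2⟩ = θ z := by
      intro z
      have h1 := hψθ' ((Subgroup.subgroupOfEquivOfLe hZC).symm z)
      rw [hθ'] at h1
      simp only [MulEquiv.apply_symm_apply] at h1
      rw [← h1]
      rfl
    have hψZ : IsIrrCharacter (Z.subgroupOf C') (fun n : Z.subgroupOf C' => ψ n) := by
      have : (fun n : Z.subgroupOf C' => ψ n) = θ' := funext hψθ'
      rw [this]
      exact hθ'i
    obtain ⟨v, hv, hψv⟩ := exists_ne_zero_on_coset Z C' hcomm ψ hψ hψZ ⟨u₀, hu₀C⟩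
    have hvH : ((v : H) : H ⧸ Z) = (u₀ : H ⧸ Z) := (htrans v ⟨u₀, hu₀C⟩).mp hv
    have hv1 : (v : C' ⧸ Z.subgroupOf C') ≠ 1 := by
      intro h
      rw [show (1 : C' ⧸ Z.subgroupOf C') = ((1 : C') : C' ⧸ Z.subgroupOf C') from rfl,
        htrans, hvH] at h
      apply hu₀Z
      have : (u₀ : H ⧸ Z) = 1 := by simpa using h
      exact (QuotientGroup.eq_one_iff u₀).mp this
    have h0 := indFun_coset_eq_zero Z C' hZC hcomm χ hχ θ hθ huniq ψ hψ hψθ v hv1
    have hψcf := isClassFunction_of_isCharacter (isCharacter_of_isIrrCharacter hψ)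
    have h1 := indFun_apply_of_selfcent C'
      (fun w : C' => if (w : C' ⧸ Z.subgroupOf C') = (v : C' ⧸ Z.subgroupOf C') then ψ w else 0)
      (by
        intro w h
        show (if ((h * w * h⁻¹ : C') : C' ⧸ Z.subgroupOf C') = _ then ψ (h * w * h⁻¹) else 0)
          = if (w : C' ⧸ Z.subgroupOf C') = _ then ψ w else 0
        have e1 : ((h * w * h⁻¹ : C') : C' ⧸ Z.subgroupOf C') = (w : C' ⧸ Z.subgroupOf C') := by
          rw [QuotientGroup.mk_mul, QuotientGroup.mk_mul, hcomm, QuotientGroup.mk_inv,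
            inv_mul_cancel_left]
        rw [e1, hψcf])
      v
      (by
        intro x hx hne
        have hcos : ((⟨x⁻¹ * (v : H) * x, hx⟩ : C') : C' ⧸ Z.subgroupOf C')
            = (v : C' ⧸ Z.subgroupOf C') := by
          by_contra hcos
          apply hne
          show (if _ then _ else _) = _
          rw [if_neg hcos]
        rw [htrans] at hcos
        apply hF1
        simp only [QuotientGroup.mk_mul, QuotientGroup.mk_inv] at hcos
        rw [hvH] at hcos
        calc (x : H ⧸ Z) * (u₀ : H ⧸ Z)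
            = (x : H ⧸ Z) * ((x : H ⧸ Z)⁻¹ * (u₀ : H ⧸ Z) * (x : H ⧸ Z)) := by rw [hcos]
          _ = (u₀ : H ⧸ Z) * (x : H ⧸ Z) := by group)
    rw [h0] at h1
    apply hψv
    have h2 : (if (v : C' ⧸ Z.subgroupOf C') = (v : C' ⧸ Z.subgroupOf C') then ψ v else 0)
        = ψ v := if_pos rfl
    rw [← h2]
    exact h1.symm

end Cfsg.Agent.Lib.helper3.CentType
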