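import Mathlib
import Cfsg.Prelude.Def_Characters
import Cfsg.Agent.Lib.helper3.Ito
import Cfsg.Agent.Lib.helper3.Lin
import Cfsg.Agent.Lib.helper3.Irr15
import Cfsg.Agent.Lib.helper3.CentType1

set_option autoImplicit false
set_option linter.style.haveILetI false
set_option linter.unusedSectionVars false

/-!
# Groups with two character degrees: linear characters of a normal subgroup
-/

namespace Cfsg.Agent.Lib.helper3.TwoDeg

open Cfsg Module Cfsg.Agent.Lib.helper3.IndFun Cfsg.Agent.Lib.helper3.CharBasic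
open Cfsg.Agent.Lib.helper3.Irr Cfsg.Agent.Lib.helper3.Lin
open scoped ComplexConjugate

/-- `c` is a linear character of `X`. -/
def IsLin (X : Type*) [Group X] (c : X → ℂ) : Prop := IsCharacter X c ∧ c 1 = 1

section lin

variable {X : Type*} [Group X]

theorem IsLin.map_mul {c : X → ℂ} (hc : IsLin X c) (a b : X) : c (a * b) = c a * c b :=
  map_mul_of_apply_one_eq_one hc.1 hc.2 a b

theorem IsLin.pow_card [Finite X] {c : X → ℂ} (hc : IsLin X c) (a : X) :
    c a ^ Nat.card X = 1 :=
  pow_eq_one_of_linear hc.1 hc.2 a (Nat.card X) pow_card_eq_one'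

theorem IsLin.ne_zero [Finite X] {c : X → ℂ} (hc : IsLin X c) (a : X) : c a ≠ 0 := by
  intro h
  have := hc.pow_card a
  rw [h, zero_pow Nat.card_pos.ne'] at this
  exact zero_ne_one this

theorem IsLin.mul_conj [Finite X] {c : X → ℂ} (hc : IsLin X c) (a : X) :
    c a * conj (c a) = 1 := by
  rw [← inv_eq_conj_of_pow_eq_one Nat.card_pos (hc.pow_card a)]
  exact mul_inv_cancel₀ (hc.ne_zero a)

theorem IsLin.conj_eq_inv [Finite X] {c : X → ℂ} (hc : IsLin X c) (a : X) :
    conj (c a) = (c a)⁻¹ :=
  (inv_eq_conj_of_pow_eq_one Nat.card_pos (hc.pow_card a)).symm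

theorem IsLin.mul {c d : X → ℂ} (hc : IsLin X c) (hd : IsLin X d) : IsLin X (c * d) :=
  ⟨isCharacter_mul hc.1 hd.1, by rw [Pi.mul_apply, hc.2, hd.2, one_mul]⟩

theorem IsLin.conj [Finite X] {c : X → ℂ} (hc : IsLin X c) : IsLin X (fun x => conj (c x)) :=
  ⟨isCharacter_conj hc.1, by simp [hc.2]⟩

theorem IsLin.comp {Y : Type*} [Group Y] {c : X → ℂ} (hc : IsLin X c) (f : Y →* X) :
    IsLin Y (fun y => c (f y)) :=
  ⟨isCharacter_comp hc.1 f, by simp [hc.2]⟩

theorem IsLin.isIrr [Finite X] {c : X → ℂ} (hc : IsLin X c) : IsIrrCharacter X c :=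
  isIrrCharacter_of_linear hc.1 hc.2

/-- A root of unity of two coprime orders is trivial. -/
theorem eq_one_of_pow_coprime {z : ℂ} {k n : ℕ} (hk : z ^ k = 1) (hn : z ^ n = 1)
    (hcop : Nat.Coprime k n) : z = 1 := by
  have := pow_gcd_eq_one.mpr ⟨hk, hn⟩
  rwa [hcop.gcd_eq_one, pow_one] at this

open Classical in
/-- Linear characters of a commutative group separate points. -/
theorem exists_lin_apply_ne_one [Finite X] (hcomm : ∀ a b : X, a * b = b * a) (x : X)
    (hx : x ≠ 1) : ∃ c : X → ℂ, IsLin X c ∧ c x ≠ 1 := by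
  letI : Fintype X := Fintype.ofFinite X
  by_contra hall
  push Not at hall
  have hlin : ∀ β : IrrCharacter X, (β : X → ℂ) 1 = 1 := by
    intro β
    obtain ⟨n, hn, h1⟩ := exists_pos_nat_apply_one β.2
    have hle := degree_le_index_of_abelian β.2 (⊤ : Subgroup X) (fun a _ b _ => hcomm a b)
    rw [Subgroup.index_top, h1] at hle
    have : n ≤ 1 := by
      have : (n : ℝ) ≤ 1 := by simpa using hle
      exact_mod_cast this
    have : n = 1 := le_antisymm this hn
    rw [h1, this, Nat.cast_one]
  have h1 := Cfsg.Agent.Lib.helper3.CentType.column_orthogonality_comm hcomm x 1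
  rw [if_neg hx] at h1
  have h2 : ∀ β : IrrCharacter X, (β : X → ℂ) x * conj ((β : X → ℂ) 1) = 1 := by
    intro β
    rw [hlin β, hall _ ⟨isCharacter_of_isIrrCharacter β.2, hlin β⟩]
    simp
  simp_rw [h2] at h1
  rw [Finset.sum_const, Finset.card_univ, nsmul_eq_mul, mul_one] at h1
  have : (Fintype.card (IrrCharacter X) : ℂ) ≠ 0 := by
    have hne : Nonempty (IrrCharacter X) := ⟨⟨fun _ => 1, isIrrCharacter_one⟩⟩
    exact_mod_cast Fintype.card_ne_zero
  exact this h1

end lin

section norm

variable {G : Type*} [Group G] (N : Subgroup G) [hN : N.Normal]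

theorem IsLin.conjFun {c : N → ℂ} (hc : IsLin N c) (g : G) : IsLin N (conjFun N c g) := by
  rw [conjFun_eq_comp]
  exact hc.comp (MulAut.conjNormal g : N ≃* N).toMonoidHom

theorem conjFun_mul_fun (c d : N → ℂ) (g : G) :
    conjFun N (c * d) g = conjFun N c g * conjFun N d g := rfl

/-- The norm operator attached to the conjugation by `s`. -/
noncomputable def normOp (s : G) (k : ℕ) (c : N → ℂ) : N → ℂ :=
  fun n => ∏ i ∈ Finset.range k, conjFun N c (s ^ i) n

theorem normOp_mul (s : G) (k : ℕ) (c d : N → ℂ) :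
    normOp N s k (c * d) = normOp N s k c * normOp N s k d := by
  funext n
  unfold normOp
  rw [Pi.mul_apply, ← Finset.prod_mul_distrib]
  rfl

theorem normOp_of_fixed (s : G) (k : ℕ) (c : N → ℂ) (h : conjFun N c s = c) :
    normOp N s k c = c ^ k := by
  funext n
  unfold normOp
  simp_rw [conjFun_pow_of_fixed N c s h]
  rw [Finset.prod_const, Finset.card_range, Pi.pow_apply]

theorem prod_range_div_field (f : ℕ → ℂ) (hf : ∀ i, f i ≠ 0) (k : ℕ) :
    ∏ i ∈ Finset.range k, f (i + 1) / f i = f k / f 0 := by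
  induction k with
  | zero => simp [div_self (hf 0)]
  | succ k ih =>
    rw [Finset.prod_range_succ, ih]
    have := hf k
    field_simp

/-- The norm of `c^s / c` is trivial. -/
theorem normOp_div [Finite G] (s : G) (k : ℕ) (hk : s ^ k = 1) {c : N → ℂ} (hc : IsLin N c) :
    normOp N s k (conjFun N c s * fun n => conj (c n)) = fun _ => 1 := by
  funext n
  unfold normOp
  have h1 : ∀ i ∈ Finset.range k,
      conjFun N (conjFun N c s * fun n => conj (c n)) (s ^ i) n
        = conjFun N c (s ^ (i + 1)) n / conjFun N c (s ^ i) n := by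
    intro i _
    rw [conjFun_mul_fun, Pi.mul_apply, conjFun_mul, conjFun_conj, ← pow_succ']
    show conjFun N c (s ^ (i + 1)) n * conj (conjFun N c (s ^ i) n) = _
    rw [(hc.conjFun N (s ^ i)).conj_eq_inv, div_eq_mul_inv]
  rw [Finset.prod_congr rfl h1, prod_range_div_field (fun i => conjFun N c (s ^ i) n)
    (fun i => (hc.conjFun N (s ^ i)).ne_zero n), hk, pow_zero, conjFun_one]
  exact div_self (hc.ne_zero n)

/-- Conjugation by `s ^ i` commutes with conjugation by `h` on `N`. -/
theorem conj_pow_comm (s h : G)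
    (hs : ∀ n : G, n ∈ N → h * (s * n * s⁻¹) * h⁻¹ = s * (h * n * h⁻¹) * s⁻¹) (i : ℕ) :
    ∀ n : G, n ∈ N → h * (s ^ i * n * (s ^ i)⁻¹) * h⁻¹ = s ^ i * (h * n * h⁻¹) * (s ^ i)⁻¹ := by
  induction i with
  | zero => intro n _; simp
  | succ i ih =>
    intro n hn
    have e1 : s ^ (i + 1) * n * (s ^ (i + 1))⁻¹ = s * (s ^ i * n * (s ^ i)⁻¹) * s⁻¹ := by
      rw [pow_succ']; group
    have e2 : s ^ (i + 1) * (h * n * h⁻¹) * (s ^ (i + 1))⁻¹
        = s * (s ^ i * (h * n * h⁻¹) * (s ^ i)⁻¹) * s⁻¹ := by
      rw [pow_succ']; group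
    rw [e1, e2, hs _ (hN.conj_mem n hn (s ^ i)), ih n hn]

theorem normOp_conjFun (s h : G)
    (hs : ∀ n : G, n ∈ N → h * (s * n * s⁻¹) * h⁻¹ = s * (h * n * h⁻¹) * s⁻¹) (k : ℕ)
    (c : N → ℂ) : normOp N s k (conjFun N c h) = conjFun N (normOp N s k c) h := by
  funext n
  unfold normOp
  show _ = ∏ i ∈ Finset.range k, conjFun N c (s ^ i) ⟨h * n * h⁻¹, hN.conj_mem n n.2 h⟩
  apply Finset.prod_congr rfl
  intro i _
  unfold Cfsg.Agent.Lib.helper3.Irr.conjFun
  congr 1
  apply Subtype.ext
  simp only
  rw [← conj_pow_comm N s h hs i n n.2]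


/-- The key lemma: an element of order coprime to `|N|` whose conjugation action on `N` commutes
with all conjugations and which moves some linear character of `N` fixes only the invariant
linear characters, provided all nontrivial orbits of linear characters have the same size. -/
theorem inertia_eq_top_of_central_coprime [Finite G] (m : ℕ)
    (horb : ∀ c : N → ℂ, IsLin N c → inertia N c ≠ ⊤ → (inertia N c).index = m)
    (s : G) (hcop : Nat.Coprime (orderOf s) (Nat.card N))
    (hs : ∀ (h : G) (n : G), n ∈ N → h * (s * n * s⁻¹) * h⁻¹ = s * (h * n * h⁻¹) * s⁻¹)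
    (c : N → ℂ) (hc : IsLin N c) (hsc : s ∉ inertia N c)
    (lam : N → ℂ) (hlam : IsLin N lam) (hsl : s ∈ inertia N lam) : inertia N lam = ⊤ := by
  classical
  obtain ⟨k, hkdef⟩ : ∃ k : ℕ, k = orderOf s := ⟨_, rfl⟩
  have hk : s ^ k = 1 := by rw [hkdef]; exact pow_orderOf_eq_one s
  rw [← hkdef] at hcop
  obtain ⟨b, hbdef⟩ : ∃ b : N → ℂ, b = conjFun N c s * fun n => conj (c n) := ⟨_, rfl⟩
  have hb : IsLin N b := by rw [hbdef]; exact (hc.conjFun N s).mul hc.conj
  have hνb : normOp N s k b = fun _ => 1 := by rw [hbdef]; exact normOp_div N s k hk hc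
  have hsl' : conjFun N lam s = lam := hsl
  have hνlam : normOp N s k lam = lam ^ k := normOp_of_fixed N s k lam hsl'
  -- the stabilizer of `lam * b` is contained in that of `lam`
  have hle : inertia N (lam * b) ≤ inertia N lam := by
    intro h hh
    have hh' : conjFun N (lam * b) h = lam * b := hh
    have e1 := normOp_conjFun N s h (hs h) k (lam * b)
    rw [hh', normOp_mul, hνlam, hνb] at e1
    show conjFun N lam h = lam
    funext n
    have e2 := congrFun e1 n
    have e3 : lam n ^ k = (conjFun N lam h n) ^ k := by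
      have e2' : (lam ^ k * fun _ : N => (1 : ℂ)) n
          = (lam ^ k * fun _ : N => (1 : ℂ)) ⟨h * n * h⁻¹, hN.conj_mem n n.2 h⟩ := e2
      simp only [Pi.mul_apply, Pi.pow_apply, mul_one] at e2'
      exact e2'
    have hz : conjFun N lam h n * conj (lam n) = 1 := by
      apply eq_one_of_pow_coprime (k := k) (n := Nat.card N) _ _ hcop
      · rw [mul_pow, ← e3, ← mul_pow, hlam.mul_conj, one_pow]
      · rw [mul_pow, (hlam.conjFun N h).pow_card n, ← map_pow, hlam.pow_card n]
        simp
    calc conjFun N lam h n = conjFun N lam h n * (conj (lam n) * lam n) := by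
          rw [mul_comm (conj (lam n)), hlam.mul_conj, mul_one]
      _ = lam n := by rw [← mul_assoc, hz, one_mul]
  -- `s` moves `lam * b`
  have hsb : s ∉ inertia N (lam * b) := by
    intro hs2
    have hs2' : conjFun N (lam * b) s = lam * b := hs2
    rw [conjFun_mul_fun, hsl'] at hs2'
    have hbs : conjFun N b s = b := by
      funext n
      have := congrFun hs2' n
      rw [Pi.mul_apply, Pi.mul_apply] at this
      exact mul_left_cancel₀ (hlam.ne_zero n) this
    have h1 := normOp_of_fixed N s k b hbs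
    rw [hνb] at h1
    apply hsc
    show conjFun N c s = c
    funext n
    have hbn : b n = 1 := by
      apply eq_one_of_pow_coprime (k := k) (n := Nat.card N) _ (hb.pow_card n) hcop
      have := congrFun h1 n
      rw [Pi.pow_apply] at this
      exact this.symm
    rw [hbdef, Pi.mul_apply] at hbn
    calc conjFun N c s n = conjFun N c s n * (conj (c n) * c n) := by
          rw [mul_comm (conj (c n)), hc.mul_conj, mul_one]
      _ = c n := by rw [← mul_assoc, hbn, one_mul]
  by_contra hT
  have h1 := horb lam hlam hT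
  have hne : inertia N (lam * b) ≠ ⊤ := by
    intro h
    apply hsb
    rw [h]
    exact Subgroup.mem_top s
  have h2 := horb (lam * b) (hlam.mul hb) hne
  have hlt : inertia N (lam * b) < inertia N lam := by
    refine lt_of_le_of_ne hle ?_
    intro h
    apply hsb
    rw [h]
    exact hsl
  have := Subgroup.index_strictAnti hlt
  omega

end norm

end Cfsg.Agent.Lib.helper3.TwoDeg
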