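import Mathlib
import Cfsg.Prelude.Def_Characters
import Cfsg.Agent.Lib.helper3.TwoDeg1
import Cfsg.Agent.Lib.helper3.CliffCorr
import Cfsg.Agent.Lib.helper3.AbelianInertia
import Cfsg.Agent.Lib.helper3.ClassBound
import Cfsg.Agent.S0865

set_option autoImplicit false
set_option linter.style.haveILetI false
set_option linter.unusedSectionVars false

/-!
# Groups with two character degrees: orbits of linear characters of a normal Hall subgroup
-/

namespace Cfsg.Agent.Lib.helper3.TwoDeg

open Cfsg Module Cfsg.Agent.Lib.helper3.IndFun Cfsg.Agent.Lib.helper3.CharBasic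
open Cfsg.Agent.Lib.helper3.Irr Cfsg.Agent.Lib.helper3.Lin
open scoped ComplexConjugate

variable {G : Type*} [Group G]

/-- If the degrees of `G` are `1` and `m`, `N` is a normal Hall subgroup and `lam` is a
non-invariant linear character of `N` then its stabilizer has index `m` and is abelian
modulo `N`. -/
theorem orbit_property [Finite G] (m : ℕ)
    (hcd : ∀ χ : IrrCharacter G, (χ : G → ℂ) 1 = 1 ∨ (χ : G → ℂ) 1 = m)
    (N : Subgroup G) [hN : N.Normal] (hcop : Nat.Coprime (Nat.card N) N.index)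
    (lam : N → ℂ) (hlam : IsLin N lam) (hT : inertia N lam ≠ ⊤) :
    (inertia N lam).index = m ∧
      ∀ x ∈ inertia N lam, ∀ y ∈ inertia N lam, x * y * x⁻¹ * y⁻¹ ∈ N := by
  classical
  letI : Fintype G := Fintype.ofFinite G
  obtain ⟨T, hTdef⟩ : ∃ T : Subgroup G, T = inertia N lam := ⟨_, rfl⟩
  rw [← hTdef] at hT ⊢
  letI : Fintype T := Fintype.ofFinite T
  letI : Fintype N := Fintype.ofFinite N
  have hlamirr : IsIrrCharacter N lam := hlam.isIrr
  have hNT : N ≤ T := by
    rw [hTdef]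
    exact le_inertia N lam (isClassFunction_of_isCharacter hlam.1)
  have hTmem : ∀ g : G, g ∈ T ↔ ∀ h : N, lam ⟨g * h * g⁻¹, hN.conj_mem h h.2 g⟩ = lam h := by
    intro g
    rw [hTdef]
    exact mem_inertia_iff N lam g
  letI : Fintype (N.subgroupOf T) := Fintype.ofFinite _
  obtain ⟨lam', hlam'def⟩ : ∃ lam' : N.subgroupOf T → ℂ, lam' = subFun N T lam := ⟨_, rfl⟩
  have hlam' : IsLin (N.subgroupOf T) lam' := by
    rw [hlam'def]
    exact hlam.comp (Subgroup.subgroupOfEquivOfLe hNT).toMonoidHom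
  have hinv' : ∀ (t : T) (n : N.subgroupOf T),
      lam' ⟨t * n * t⁻¹,
        (inferInstance : (N.subgroupOf T).Normal).conj_mem (n : T) n.2 t⟩ = lam' n := by
    intro t n
    rw [hlam'def]
    exact (hTmem t).mp t.2 ⟨((n : T) : G), Subgroup.mem_subgroupOf.mp n.2⟩
  have hord : orderOf lam' ∣ Nat.card N := by
    rw [← Nat.card_congr (Subgroup.subgroupOfEquivOfLe hNT).toEquiv]
    apply orderOf_dvd_of_pow_eq_one
    funext n
    rw [Pi.pow_apply, Pi.one_apply]
    exact hlam'.pow_card n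
  have hidx : (N.subgroupOf T).index ∣ N.index := Subgroup.relIndex_dvd_index_of_normal N T
  have hcop' : Nat.Coprime (N.subgroupOf T).index (orderOf lam') :=
    Nat.Coprime.coprime_dvd_left hidx (Nat.Coprime.coprime_dvd_right hord hcop.symm)
  obtain ⟨μ, ⟨hμ, hμ1, hμN, -⟩, -⟩ :=
    Cfsg.Agent.S0865.result (N.subgroupOf T) lam' ⟨hlam'.1, hlam'.2⟩ hinv' hcop'
  -- induction of characters of `T` over `lam`
  have hind : ∀ (ψ : T → ℂ), IsIrrCharacter T ψ → ∀ d : ℂ, d ≠ 0 →
      (fun n : N.subgroupOf T => ψ n) = d • lam' → IsIrrCharacter G (indFun T ψ) := by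
    intro ψ hψ d hd hres
    have hc : classInner (indFun (N.subgroupOf T) (subFun N T lam)) ψ ≠ 0 := by
      rw [← hlam'def, frobenius_reciprocity (N.subgroupOf T) lam' ψ
        (isClassFunction_of_isCharacter (isCharacter_of_isIrrCharacter hψ)), hres,
        classInner_smul_right, irr_classInner_self hlam'.isIrr, mul_one]
      intro h
      apply hd
      have := congrArg conj h
      simpa using this
    exact (clifford_corr_injective N T lam hlamirr hTmem hNT ψ ψ hψ hψ hc hc).1
  have hdeg : ∀ β : IrrCharacter (T ⧸ N.subgroupOf T),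
      ((T.index : ℂ) * (β : T ⧸ N.subgroupOf T → ℂ) 1 = 1) ∨
        ((T.index : ℂ) * (β : T ⧸ N.subgroupOf T → ℂ) 1 = m) := by
    intro β
    obtain ⟨ψ, hψdef⟩ : ∃ ψ : T → ℂ,
        ψ = μ * inflate (N.subgroupOf T) (β : T ⧸ N.subgroupOf T → ℂ) := ⟨_, rfl⟩
    have hψ : IsIrrCharacter T ψ := by
      rw [hψdef]
      exact isIrrCharacter_linear_mul hμ hμ1 (isIrrCharacter_inflate (N.subgroupOf T) β.2)
    have hres : (fun n : N.subgroupOf T => ψ n)
        = ((β : T ⧸ N.subgroupOf T → ℂ) 1) • lam' := by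
      funext n
      rw [hψdef, Pi.mul_apply, Pi.smul_apply, smul_eq_mul, inflate_apply_of_mem _ _ n.2, hμN n,
        mul_comm]
      rfl
    have hirr := hind ψ hψ _ (apply_one_ne_zero β.2) hres
    have h1 := hcd ⟨indFun T ψ, hirr⟩
    simp only at h1
    rw [indFun_apply_one, hψdef, Pi.mul_apply, hμ1, one_mul, inflate_apply,
      show ((1 : T) : T ⧸ N.subgroupOf T) = 1 from rfl] at h1
    exact h1
  -- the trivial character gives the index
  have hidxT : T.index = m := by
    have h1 := hdeg ⟨fun _ => 1, isIrrCharacter_one⟩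
    simp only [mul_one] at h1
    rcases h1 with h1 | h1
    · exfalso
      apply hT
      rw [← Subgroup.index_eq_one]
      exact_mod_cast h1
    · exact_mod_cast h1
  refine ⟨hidxT, ?_⟩
  have hm0 : m ≠ 0 := by
    rw [← hidxT]
    exact Subgroup.index_ne_zero_of_finite
  have hm1 : m ≠ 1 := by
    rw [← hidxT]
    intro h
    exact hT (Subgroup.index_eq_one.mp h)
  have hlinear : ∀ β : IrrCharacter (T ⧸ N.subgroupOf T), (β : T ⧸ N.subgroupOf T → ℂ) 1 = 1 := by
    intro β
    obtain ⟨d, hd, hβ1⟩ := exists_pos_nat_apply_one β.2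
    have h1 := hdeg β
    rw [hidxT, hβ1] at h1
    rw [hβ1]
    rcases h1 with h1 | h1
    · exfalso
      have h2 : m * d = 1 := by exact_mod_cast h1
      have := Nat.eq_one_of_mul_eq_one_right h2
      exact hm1 this
    · have h2 : m * d = m := by exact_mod_cast h1
      have : d = 1 := by
        have h3 : m * d = m * 1 := by rw [h2, mul_one]
        exact Nat.eq_of_mul_eq_mul_left (Nat.pos_of_ne_zero hm0) h3
      rw [this, Nat.cast_one]
  letI : Fintype (T ⧸ N.subgroupOf T) := Fintype.ofFinite _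
  have hcomm := comm_of_all_linear hlinear
  intro x hx y hy
  have h1 := hcomm ((⟨x, hx⟩ : T) : T ⧸ N.subgroupOf T) ((⟨y, hy⟩ : T) : T ⧸ N.subgroupOf T)
  have h2 : (((⟨x, hx⟩ : T) * ⟨y, hy⟩ * (⟨x, hx⟩ : T)⁻¹ * (⟨y, hy⟩ : T)⁻¹ : T) :
      T ⧸ N.subgroupOf T) = 1 := by
    rw [QuotientGroup.mk_mul, QuotientGroup.mk_mul, QuotientGroup.mk_mul, h1,
      QuotientGroup.mk_inv, QuotientGroup.mk_inv]
    group
  have h3 := (QuotientGroup.eq_one_iff _).mp h2
  rw [Subgroup.mem_subgroupOf] at h3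
  exact h3

end Cfsg.Agent.Lib.helper3.TwoDeg
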