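import Mathlib
import Cfsg.Prelude.Def_Characters
import Cfsg.Agent.Lib.helper3.TwoDeg2
import Cfsg.Agent.Lib.helper3.Clifford2
import Cfsg.Agent.Lib.helper3.Degrees
import Cfsg.Agent.Lib.helper3.Irr10

set_option autoImplicit false
set_option linter.style.haveILetI false
set_option linter.unusedSectionVars false

/-!
# Groups with two character degrees: the abelian normal subgroup of index `m`
-/

namespace Cfsg.Agent.Lib.helper3.TwoDeg

open Cfsg Module Cfsg.Agent.Lib.helper3.IndFun Cfsg.Agent.Lib.helper3.CharBasic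
open Cfsg.Agent.Lib.helper3.Irr Cfsg.Agent.Lib.helper3.Lin
open scoped ComplexConjugate

variable {G : Type*} [Group G]

/-- The bilinearity trick: a group which is abelian modulo a central subgroup of coprime
order and index is abelian. -/
theorem comm_of_central_coprime (A N : Subgroup G) [Finite N]
    (hNZ : ∀ n ∈ N, ∀ a ∈ A, n * a = a * n)
    (hcomm : ∀ x ∈ A, ∀ y ∈ A, x * y * x⁻¹ * y⁻¹ ∈ N) (k : ℕ) (hk : ∀ x ∈ A, x ^ k ∈ N)
    (hcop : Nat.Coprime k (Nat.card N)) : ∀ x ∈ A, ∀ y ∈ A, x * y = y * x := by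
  intro x hx y hy
  obtain ⟨c, hcdef⟩ : ∃ c : G, c = x * y * x⁻¹ * y⁻¹ := ⟨_, rfl⟩
  have hcN : c ∈ N := by rw [hcdef]; exact hcomm x hx y hy
  have hpow : ∀ j : ℕ, x ^ j * y * (x ^ j)⁻¹ * y⁻¹ = c ^ j := by
    intro j
    induction j with
    | zero => simp
    | succ j ih =>
      have e1 : x ^ (j + 1) * y * (x ^ (j + 1))⁻¹ * y⁻¹
          = x * (x ^ j * y * (x ^ j)⁻¹ * y⁻¹) * y * x⁻¹ * y⁻¹ := by
        rw [pow_succ']; group
      rw [e1, ih]
      have e2 : x * c ^ j = c ^ j * x := (hNZ (c ^ j) (N.pow_mem hcN j) x hx).symm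
      rw [e2, pow_succ, hcdef]
      group
  have h1 : c ^ k = 1 := by
    rw [← hpow k]
    have e3 : x ^ k * y = y * x ^ k := hNZ (x ^ k) (hk x hx) y hy
    rw [e3]
    group
  have h2 : c ^ Nat.card N = 1 := by
    have e4 : (⟨c, hcN⟩ : N) ^ Nat.card N = 1 := pow_card_eq_one'
    have e5 := congrArg (Subtype.val : N → G) e4
    rw [Subgroup.coe_pow, Subgroup.coe_one] at e5
    exact e5
  have h3 : c = 1 := by
    have := pow_gcd_eq_one.mpr ⟨h1, h2⟩
    rwa [hcop.gcd_eq_one, pow_one] at this
  rw [hcdef] at h3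
  calc x * y = (x * y * x⁻¹ * y⁻¹) * (y * x) := by group
    _ = y * x := by rw [h3, one_mul]

/-- A normal subgroup of order coprime to the nonlinear degree is abelian. -/
theorem comm_of_coprime_degree [Finite G] (m : ℕ)
    (hcd : ∀ χ : IrrCharacter G, (χ : G → ℂ) 1 = 1 ∨ (χ : G → ℂ) 1 = m)
    (N : Subgroup G) [hN : N.Normal] (hNm : Nat.Coprime (Nat.card N) m) :
    ∀ a b : N, a * b = b * a := by
  classical
  letI : Fintype G := Fintype.ofFinite G
  letI : Fintype N := Fintype.ofFinite N
  apply comm_of_all_linear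
  intro θ
  obtain ⟨d, hd1, hdvd, hdpos⟩ := Cfsg.Agent.Lib.helper3.Central.irr_degree_dvd_card θ.2
  obtain ⟨χ, hχ⟩ := exists_irr_over N (θ : N → ℂ) θ.2
  have hdm : d ∣ m := by
    rcases hcd χ with h | h
    · have := constituent_degree_dvd N (χ : G → ℂ) χ.2 (θ : N → ℂ) θ.2 hχ 1 d
        (by rw [h, Nat.cast_one]) hd1
      exact dvd_trans this (one_dvd m)
    · exact constituent_degree_dvd N (χ : G → ℂ) χ.2 (θ : N → ℂ) θ.2 hχ m d h hd1
  have : d = 1 := Nat.eq_one_of_dvd_coprimes hNm hdvd hdm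
  rw [hd1, this, Nat.cast_one]


section centralizer

variable (N : Subgroup G) [hN : N.Normal]

theorem mem_centralizer_iff_conj (g : G) :
    g ∈ Subgroup.centralizer (N : Set G) ↔ ∀ n ∈ N, g * n * g⁻¹ = n := by
  rw [Subgroup.mem_centralizer_iff]
  constructor
  · intro h n hn
    rw [← h n hn]
    group
  · intro h n hn
    have := h n hn
    calc n * g = (g * n * g⁻¹) * g := by rw [this]
      _ = g * n := by group

theorem centralizer_le_inertia (c : N → ℂ) :
    Subgroup.centralizer (N : Set G) ≤ inertia N c := by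
  intro g hg
  rw [mem_centralizer_iff_conj] at hg
  rw [mem_inertia_iff]
  intro n
  congr 1
  exact Subtype.ext (hg n n.2)

theorem exists_lin_not_mem_inertia [Finite G] (hNab : ∀ a b : N, a * b = b * a) (g : G)
    (hg : g ∉ Subgroup.centralizer (N : Set G)) : ∃ c : N → ℂ, IsLin N c ∧ g ∉ inertia N c := by
  rw [mem_centralizer_iff_conj] at hg
  push Not at hg
  obtain ⟨n, hn, hne⟩ := hg
  obtain ⟨x, hxdef⟩ : ∃ x : N, x = ⟨g * n * g⁻¹, hN.conj_mem n hn g⟩ * (⟨n, hn⟩ : N)⁻¹ := ⟨_, rfl⟩
  have hx1 : x ≠ 1 := by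
    intro h
    rw [hxdef, mul_inv_eq_one] at h
    exact hne (congrArg Subtype.val h)
  obtain ⟨c, hc, hcx⟩ := exists_lin_apply_ne_one hNab x hx1
  refine ⟨c, hc, ?_⟩
  intro hmem
  rw [mem_inertia_iff] at hmem
  apply hcx
  have h1 := hmem ⟨n, hn⟩
  have h2 : c (⟨n, hn⟩ * (⟨n, hn⟩ : N)⁻¹) = 1 := by rw [mul_inv_cancel, hc.2]
  rw [hc.map_mul] at h2
  rw [hxdef, hc.map_mul, h1, h2]

theorem conj_comm_of_commutator_mem (g h : G)
    (ha : h * g * h⁻¹ * g⁻¹ ∈ Subgroup.centralizer (N : Set G)) :
    ∀ n : G, n ∈ N → h * (g * n * g⁻¹) * h⁻¹ = g * (h * n * h⁻¹) * g⁻¹ := by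
  intro n hn
  rw [mem_centralizer_iff_conj] at ha
  have h1 := ha (g * (h * n * h⁻¹) * g⁻¹) (hN.conj_mem _ (hN.conj_mem n hn h) g)
  rw [← h1]
  group

theorem pow_card_not_mem [Finite G] (A : Subgroup G) (hNA : N ≤ A)
    (hcop : Nat.Coprime (Nat.card N) N.index) (g : G) (hg : g ∉ A) : g ^ Nat.card N ∉ A := by
  intro h
  apply hg
  have hb := Int.gcd_eq_gcd_ab (Nat.card N) N.index
  have hgcd : Int.gcd (Nat.card N : ℤ) (N.index : ℤ) = 1 := by
    rw [Int.gcd_natCast_natCast]
    exact hcop
  rw [hgcd] at hb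
  have e1 : g = (g ^ Nat.card N) ^ (Int.gcdA (Nat.card N) N.index)
      * (g ^ N.index) ^ (Int.gcdB (Nat.card N) N.index) := by
    rw [← zpow_natCast g (Nat.card N), ← zpow_natCast g N.index, ← zpow_mul, ← zpow_mul,
      ← zpow_add, ← hb]
    simp
  rw [e1]
  exact A.mul_mem (A.zpow_mem h _) (A.zpow_mem (hNA (N.pow_index_mem g)) _)

theorem orderOf_pow_card_coprime [Finite G] (hcop : Nat.Coprime (Nat.card N) N.index) (g : G) :
    Nat.Coprime (orderOf (g ^ Nat.card N)) (Nat.card N) := by
  have h1 : (g ^ Nat.card N) ^ N.index = 1 := by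
    rw [← pow_mul, mul_comm, pow_mul]
    have e4 : (⟨g ^ N.index, N.pow_index_mem g⟩ : N) ^ Nat.card N = 1 := pow_card_eq_one'
    have e5 := congrArg (Subtype.val : N → G) e4
    rw [Subgroup.coe_pow, Subgroup.coe_one] at e5
    exact e5
  have h2 : orderOf (g ^ Nat.card N) ∣ N.index := orderOf_dvd_of_pow_eq_one h1
  exact Nat.Coprime.coprime_dvd_left h2 hcop.symm

end centralizer


/-- The core of the two-degree theorem: with a normal abelian Hall subgroup `N` such that `G/N`
is abelian or a `p`-group, either `C_G(N)` is abelian of index `m` or `N` is central. -/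
theorem abelian_index_or_central [Finite G] (m : ℕ)
    (hcd : ∀ χ : IrrCharacter G, (χ : G → ℂ) 1 = 1 ∨ (χ : G → ℂ) 1 = m)
    (N : Subgroup G) [hN : N.Normal] (hcop : Nat.Coprime (Nat.card N) N.index)
    (hNm : Nat.Coprime (Nat.card N) m)
    (hQ : (∀ x y : G, x * y * x⁻¹ * y⁻¹ ∈ N) ∨ ∃ p k : ℕ, p.Prime ∧ N.index = p ^ k) :
    (∃ A : Subgroup G, A.Normal ∧ (∀ a ∈ A, ∀ b ∈ A, a * b = b * a) ∧ A.index = m) ∨
      N ≤ Subgroup.center G := by
  classical
  letI : Fintype G := Fintype.ofFinite G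
  have hNab := comm_of_coprime_degree m hcd N hNm
  obtain ⟨A, hAdef⟩ : ∃ A : Subgroup G, A = Subgroup.centralizer (N : Set G) := ⟨_, rfl⟩
  haveI hAn : A.Normal := by rw [hAdef]; infer_instance
  have hNA : N ≤ A := by
    intro n hn
    rw [hAdef, mem_centralizer_iff_conj]
    intro n' hn'
    have := hNab ⟨n, hn⟩ ⟨n', hn'⟩
    have h1 : n * n' = n' * n := congrArg Subtype.val this
    rw [h1]
    group
  by_cases hcen : N ≤ Subgroup.center G
  · exact Or.inr hcen
  left
  -- a non-invariant linear character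
  have hAtop : A ≠ ⊤ := by
    intro h
    apply hcen
    intro n hn
    rw [Subgroup.mem_center_iff]
    intro g
    have hg : g ∈ A := by rw [h]; exact Subgroup.mem_top g
    rw [hAdef, Subgroup.mem_centralizer_iff] at hg
    exact (hg n hn).symm
  obtain ⟨g₀, hg₀⟩ : ∃ g₀ : G, g₀ ∉ A := by
    by_contra h
    push Not at h
    exact hAtop (eq_top_iff.mpr fun g _ => h g)
  obtain ⟨c₀, hc₀, hg₀c⟩ := exists_lin_not_mem_inertia N hNab g₀ (hAdef ▸ hg₀)
  have hT₀ : inertia N c₀ ≠ ⊤ := by
    intro h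
    apply hg₀c
    rw [h]
    exact Subgroup.mem_top g₀
  have horb : ∀ c : N → ℂ, IsLin N c → inertia N c ≠ ⊤ → (inertia N c).index = m :=
    fun c hc hT => (orbit_property m hcd N hcop c hc hT).1
  have hm1 : m ≠ 1 := by
    rw [← horb c₀ hc₀ hT₀]
    intro h
    exact hT₀ (Subgroup.index_eq_one.mp h)
  -- the key consequence of the lemma on central coprime elements
  have hkey : ∀ g : G, g ∉ A → (∀ h : G, h * g * h⁻¹ * g⁻¹ ∈ A) →
      ∀ c : N → ℂ, IsLin N c → inertia N c ≠ ⊤ → g ∉ inertia N c := by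
    intro g hg hgc c hc hT hgT
    obtain ⟨s, hsdef⟩ : ∃ s : G, s = g ^ Nat.card N := ⟨_, rfl⟩
    have hsA : s ∉ A := by rw [hsdef]; exact pow_card_not_mem N A hNA hcop g hg
    have hsT : s ∈ inertia N c := by rw [hsdef]; exact (inertia N c).pow_mem hgT _
    have hscop : Nat.Coprime (orderOf s) (Nat.card N) := by
      rw [hsdef]; exact orderOf_pow_card_coprime N hcop g
    have hs : ∀ (h : G) (n : G), n ∈ N → h * (s * n * s⁻¹) * h⁻¹ = s * (h * n * h⁻¹) * s⁻¹ := by
      intro h
      rw [hsdef]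
      exact conj_pow_comm N g h
        (conj_comm_of_commutator_mem N g h (hAdef ▸ hgc h)) (Nat.card N)
    obtain ⟨c', hc', hsc'⟩ := exists_lin_not_mem_inertia N hNab s (hAdef ▸ hsA)
    exact hT (inertia_eq_top_of_central_coprime N m horb s hscop hs c' hc' hsc' c hc hsT)
  -- `G / A` is abelian
  have hGA : ∀ g h : G, h * g * h⁻¹ * g⁻¹ ∈ A := by
    rcases hQ with hQ | ⟨p, k, hp, hk⟩
    · intro g h
      exact hNA (hQ h g)
    · by_contra hnot
      haveI : Fact p.Prime := ⟨hp⟩
      letI : Fintype (G ⧸ A) := Fintype.ofFinite _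
      -- a nonlinear character of the quotient
      have hex : ∃ χ : IrrCharacter (G ⧸ A), (χ : G ⧸ A → ℂ) 1 ≠ 1 := by
        by_contra hall
        push Not at hall
        apply hnot
        intro g h
        have h1 := comm_of_all_linear hall (h : G ⧸ A) (g : G ⧸ A)
        rw [← QuotientGroup.eq_one_iff]
        rw [QuotientGroup.mk_mul, QuotientGroup.mk_mul, QuotientGroup.mk_mul, h1,
          QuotientGroup.mk_inv, QuotientGroup.mk_inv]
        group
      obtain ⟨χ, hχ1⟩ := hex
      have hχm : (χ : G ⧸ A → ℂ) 1 = m := by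
        have hirr := isIrrCharacter_inflate A χ.2
        rcases hcd ⟨inflate A (χ : G ⧸ A → ℂ), hirr⟩ with h | h
        · exact absurd h hχ1
        · exact h
      -- a central element of the quotient
      have hQp : IsPGroup p (G ⧸ A) := by
        apply IsPGroup.of_card_dvd_pow (n := k)
        rw [← hk, ← Subgroup.index_eq_card]
        exact Subgroup.index_dvd_of_le hNA
      haveI : Nontrivial (G ⧸ A) := by
        rw [← Finite.one_lt_card_iff_nontrivial, ← Subgroup.index_eq_card]
        have h0 : A.index ≠ 0 := Subgroup.index_ne_zero_of_finite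
        have h1 : A.index ≠ 1 := fun h => hAtop (Subgroup.index_eq_one.mp h)
        omega
      haveI : Nontrivial (Subgroup.center (G ⧸ A)) := hQp.center_nontrivial
      obtain ⟨⟨z', hz'⟩, hz'1⟩ := exists_ne (1 : Subgroup.center (G ⧸ A))
      obtain ⟨z, rfl⟩ := QuotientGroup.mk_surjective z'
      have hzA : z ∉ A := by
        intro h
        apply hz'1
        apply Subtype.ext
        exact (QuotientGroup.eq_one_iff z).mpr h
      have hzc : ∀ h : G, h * z * h⁻¹ * z⁻¹ ∈ A := by
        intro h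
        rw [← QuotientGroup.eq_one_iff]
        rw [Subgroup.mem_center_iff] at hz'
        rw [QuotientGroup.mk_mul, QuotientGroup.mk_mul, QuotientGroup.mk_mul, hz' (h : G ⧸ A),
          QuotientGroup.mk_inv, QuotientGroup.mk_inv]
        group
      have hzT : z ∉ inertia N c₀ := hkey z hzA hzc c₀ hc₀ hT₀
      obtain ⟨hidx, hTcomm⟩ := orbit_property m hcd N hcop c₀ hc₀ hT₀
      have hAT : A ≤ inertia N c₀ := hAdef ▸ centralizer_le_inertia N c₀
      -- the abelian subgroup of the quotient
      obtain ⟨T', hT'def⟩ : ∃ T' : Subgroup (G ⧸ A),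
          T' = (inertia N c₀).map (QuotientGroup.mk' A) := ⟨_, rfl⟩
      have hT'idx : T'.index = m := by
        rw [hT'def, Subgroup.index_map_eq _ (QuotientGroup.mk'_surjective A)
          (by rw [QuotientGroup.ker_mk']; exact hAT), hidx]
      have hzT' : (z : G ⧸ A) ∉ T' := by
        rw [hT'def]
        rintro ⟨t, ht, hteq⟩
        apply hzT
        have h1 : t⁻¹ * z ∈ A := by
          rw [← QuotientGroup.eq]
          exact hteq
        have : z = t * (t⁻¹ * z) := by group
        rw [this]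
        exact (inertia N c₀).mul_mem ht (hAT h1)
      obtain ⟨B, hBdef⟩ : ∃ B : Subgroup (G ⧸ A),
          B = T' ⊔ Subgroup.zpowers (z : G ⧸ A) := ⟨_, rfl⟩
      have hT'comm : ∀ a ∈ T', ∀ b ∈ T', a * b = b * a := by
        rw [hT'def]
        rintro a ⟨x, hx, rfl⟩ b ⟨y, hy, rfl⟩
        have h1 := hNA (hTcomm x hx y hy)
        rw [← QuotientGroup.eq_one_iff] at h1
        simp only [QuotientGroup.mk'_apply]
        rw [QuotientGroup.mk_mul, QuotientGroup.mk_mul, QuotientGroup.mk_mul,
          QuotientGroup.mk_inv, QuotientGroup.mk_inv] at h1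
        calc (x : G ⧸ A) * (y : G ⧸ A)
            = ((x : G ⧸ A) * (y : G ⧸ A) * (x : G ⧸ A)⁻¹ * (y : G ⧸ A)⁻¹)
                * ((y : G ⧸ A) * (x : G ⧸ A)) := by group
          _ = (y : G ⧸ A) * (x : G ⧸ A) := by rw [h1, one_mul]
      have hzcen : ∀ a : G ⧸ A, a * (z : G ⧸ A) = (z : G ⧸ A) * a := by
        intro a
        rw [Subgroup.mem_center_iff] at hz'
        exact hz' a
      have hBcomm : ∀ a ∈ B, ∀ b ∈ B, a * b = b * a := by
        have hstep : ∀ a : G ⧸ A, (∀ t ∈ T', t * a = a * t) → ∀ b ∈ B, b * a = a * b := by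
          intro a ha b hb
          have hle : B ≤ Subgroup.centralizer ({a} : Set (G ⧸ A)) := by
            rw [hBdef]
            apply sup_le
            · intro t ht
              rw [Subgroup.mem_centralizer_iff]
              intro x hx
              rw [Set.mem_singleton_iff] at hx
              rw [hx]
              exact (ha t ht).symm
            · rw [Subgroup.zpowers_le]
              rw [Subgroup.mem_centralizer_iff]
              intro x hx
              rw [Set.mem_singleton_iff] at hx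
              rw [hx]
              exact hzcen a
          have := hle hb
          rw [Subgroup.mem_centralizer_iff] at this
          exact (this a rfl).symm
        intro a ha b hb
        have ha' : ∀ t ∈ T', t * a = a * t := by
          intro t ht
          exact hstep t (fun t' ht' => hT'comm t' ht' t ht) a ha |>.symm ▸ rfl
        exact (hstep a ha' b hb).symm
      have hTB : T' < B := by
        refine lt_of_le_of_ne (hBdef ▸ le_sup_left) ?_
        intro h
        apply hzT'
        rw [h, hBdef]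
        exact Subgroup.mem_sup_right (Subgroup.mem_zpowers _)
      have hBidx : B.index < m := by
        rw [← hT'idx]
        exact Subgroup.index_strictAnti hTB
      have hle := degree_le_index_of_abelian χ.2 B hBcomm
      rw [hχm] at hle
      have : (m : ℝ) ≤ (B.index : ℝ) := by simpa using hle
      have : m ≤ B.index := by exact_mod_cast this
      omega
  -- now the stabilizer of `c₀` is `A`
  have hTA : inertia N c₀ = A := by
    apply le_antisymm
    · intro g hg
      by_contra hgA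
      exact hkey g hgA (fun h => hGA g h) c₀ hc₀ hT₀ hg
    · exact hAdef ▸ centralizer_le_inertia N c₀
  obtain ⟨hidx, hTcomm⟩ := orbit_property m hcd N hcop c₀ hc₀ hT₀
  rw [hTA] at hidx hTcomm
  refine ⟨A, hAn, ?_, hidx⟩
  apply comm_of_central_coprime A N _ hTcomm N.index (fun x _ => N.pow_index_mem x) hcop.symm
  intro n hn a ha
  rw [hAdef, Subgroup.mem_centralizer_iff] at ha
  exact ha n hn

end Cfsg.Agent.Lib.helper3.TwoDeg
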