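import Mathlib
import Cfsg.Prelude.Def_Characters
import Cfsg.Prelude.Def_CharExt
import Cfsg.Prelude.Def_Transfer
import Cfsg.Agent.Lib.helper3.PRes1
import Cfsg.Agent.Lib.helper3.SolvExt2
import Cfsg.Agent.Lib.helper3.Clifford
import Cfsg.Agent.Lib.helper3.Gallagher
import Cfsg.Agent.Lib.helper3.Inflate2

set_option autoImplicit false
set_option linter.style.haveILetI false
set_option linter.unusedSectionVars false

/-!
# Characters of `p'`-degree and normal subgroups of `p`-power index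
-/

namespace Cfsg.Agent.Lib.helper3.PRes

open Cfsg Module Cfsg.Agent.Lib.helper3.Irr Cfsg.Agent.Lib.helper3.CharBasic
open Cfsg.Agent.Lib.helper3.Lin Cfsg.Agent.Lib.helper3.Det Cfsg.Agent.Lib.helper3.SolvExt
open Cfsg.Agent.Lib.helper3.IndFun
open scoped ComplexConjugate

universe u

variable {G : Type u} [Group G]

/-- The order of a linear character divides the index of the commutator subgroup. -/
theorem orderOf_linear_dvd [Finite G] {lam : G → ℂ} (hc : IsCharacter G lam) (h1 : lam 1 = 1) :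
    orderOf lam ∣ (commutator G).index := by
  apply orderOf_dvd_of_pow_eq_one
  funext g
  rw [Pi.pow_apply, Pi.one_apply]
  set φ : G →* ℂˣ := toUnitsHom hc h1 with hφ
  have hφv : ∀ x : G, ((φ x : ℂˣ) : ℂ) = lam x := toUnitsHom_apply hc h1
  have hmem : g ^ (commutator G).index ∈ commutator G := Subgroup.pow_index_mem _ g
  have hker : g ^ (commutator G).index ∈ φ.ker := Abelianization.commutator_subset_ker φ hmem
  rw [MonoidHom.mem_ker, map_pow] at hker
  rw [← hφv, ← Units.val_pow_eq_pow_val, hker]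
  rfl

/-- A character of `p'`-degree has an invariant irreducible constituent of `p'`-degree on a normal
subgroup of `p`-power index. -/
theorem exists_invariant_constituent [Finite G] (N : Subgroup G) [hN : N.Normal] [Fintype N]
    (p k : ℕ)
    (hp : p.Prime) (hidx : N.index = p ^ k) (χ : G → ℂ) (hχ : IsCharacter G χ) (dχ : ℕ)
    (hdχ : χ 1 = dχ) (hpd : ¬ p ∣ dχ) :
    ∃ ψ : IrrCharacter N, classInner (fun n : N => χ n) (ψ : N → ℂ) ≠ 0 ∧
      (∀ (g : G) (n : N), (ψ : N → ℂ) ⟨g * n * g⁻¹, hN.conj_mem (n : G) n.2 g⟩ = (ψ : N → ℂ) n) ∧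
      ∃ d : ℕ, (ψ : N → ℂ) 1 = d ∧ ¬ p ∣ d := by
  classical
  letI : Fintype G := Fintype.ofFinite G
  letI := conjAction N
  have hres : IsCharacter N (fun n : N => χ n) := isCharacter_restrict hχ N
  have hcf := isClassFunction_of_isCharacter hχ
  choose m hm using fun φ : IrrCharacter N => exists_nat_classInner_of_isCharacter hres φ
  choose deg hdeg using fun φ : IrrCharacter N =>
    Cfsg.Agent.Lib.helper3.Central.irr_degree_dvd_card φ.2
  by_contra hcon
  push Not at hcon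
  have hsum : ((∑ φ : IrrCharacter N, ((m φ : ℤ) * (deg φ : ℤ)) : ℤ) : ℂ) = (dχ : ℂ) := by
    have h1 := congrFun (isCharacter_eq_sum_classInner hres) 1
    simp only [Finset.sum_apply, Pi.smul_apply, smul_eq_mul] at h1
    rw [← hdχ]
    push_cast
    rw [show χ 1 = χ ((1 : N) : G) from rfl, h1]
    apply Finset.sum_congr rfl
    intro φ _
    rw [hm φ, (hdeg φ).1]
  have hdvd : (p : ℤ) ∣ ∑ φ : IrrCharacter N, ((m φ : ℤ) * (deg φ : ℤ)) := by
    apply dvd_sum_of_orbits (Γ := G) p (fun φ : IrrCharacter N => (m φ : ℤ) * (deg φ : ℤ))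
    · intro g φ
      have e1 : m (g • φ) = m φ := by
        have h1 : ((m (g • φ) : ℕ) : ℂ) = (m φ : ℂ) := by
          rw [← hm, ← hm]
          have h2 : ((g • φ : IrrCharacter N) : N → ℂ) = conjFun N (φ : N → ℂ) g⁻¹ := by
            rw [conjFun_eq_comp]
            rfl
          rw [h2]
          exact classInner_restrict_conjFun N χ hcf (φ : N → ℂ) g⁻¹
        exact_mod_cast h1
      have e2 : deg (g • φ) = deg φ := by
        have h1 : ((deg (g • φ) : ℕ) : ℂ) = (deg φ : ℂ) := by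
          rw [← (hdeg _).1, ← (hdeg _).1]
          exact conjAction_apply_one N g φ
        exact_mod_cast h1
      simp only [e1, e2]
    · intro φ
      exact conjAction_card_orbit_pow N p k hp hidx φ
    · intro φ hφ
      by_cases h0 : m φ = 0
      · rw [h0]
        simp
      · have hne : classInner (fun n : N => χ n) (φ : N → ℂ) ≠ 0 := by
          rw [hm φ]
          exact_mod_cast h0
        have h2 := hcon φ hne ((conjAction_fixed_iff N φ).mp hφ) (deg φ) (hdeg φ).1
        apply Dvd.dvd.mul_left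
        exact_mod_cast h2
  apply hpd
  have h3 : (∑ φ : IrrCharacter N, ((m φ : ℤ) * (deg φ : ℤ)) : ℤ) = (dχ : ℤ) := by
    exact_mod_cast hsum
  rw [h3] at hdvd
  exact_mod_cast hdvd

section pres

/-- Index and abelianization of `O^p(G)`. -/
theorem pResidual_facts [Finite G] (p : ℕ) (hp : p.Prime) (H : Subgroup G)
    (hH : H = Cfsg.pResidual p G) :
    (∃ k : ℕ, H.index = p ^ k) ∧ ¬ p ∣ (commutator H).index := by
  subst hH
  haveI : Fact p.Prime := ⟨hp⟩
  refine ⟨?_, not_dvd_index_commutator_pResidual p hp⟩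
  obtain ⟨k, hk⟩ := IsPGroup.iff_card.mp (Cfsg.Agent.H1.isPGroup_quotient_pResidual (G := G) p)
  refine ⟨k, ?_⟩
  rw [Subgroup.index_eq_card]
  exact hk

theorem isSolvable_quotient_of_index_pow [Finite G] (p k : ℕ) (hp : p.Prime) (H : Subgroup G)
    [H.Normal] (hidx : H.index = p ^ k) : Group.IsSolvable (G ⧸ H) := by
  haveI : Fact p.Prime := ⟨hp⟩
  have hpg : IsPGroup p (G ⧸ H) := by
    rw [IsPGroup.iff_card]
    exact ⟨k, by rw [← Subgroup.index_eq_card]; exact hidx⟩
  haveI : Group.IsNilpotent (G ⧸ H) := hpg.isNilpotent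
  infer_instance

/-- Unique extension with determinantal order prime to `p`, from `O^p(G)` to `G`. -/
theorem existsUnique_extension_pResidual [Finite G] (p : ℕ) (hp : p.Prime)
    (H : Subgroup G) [hHn : H.Normal] (hH : H = Cfsg.pResidual p G)
    (ψ : H → ℂ) (hψ : IsIrrCharacter H ψ)
    (hinv : ∀ (g : G) (n : H), ψ ⟨g * n * g⁻¹, hHn.conj_mem (n : G) n.2 g⟩ = ψ n)
    (d : ℕ) (hd : ψ 1 = d) (hpd : ¬ p ∣ d) :
    ∃ χ : G → ℂ, (IsIrrCharacter G χ ∧ (∀ n : H, χ n = ψ n) ∧ ¬ p ∣ Cfsg.detOrder χ) ∧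
      ∀ χ' : G → ℂ, IsIrrCharacter G χ' → (∀ n : H, χ' n = ψ n) →
        ¬ p ∣ Cfsg.detOrder χ' → χ' = χ := by
  classical
  obtain ⟨⟨k, hidx⟩, hcomm⟩ := pResidual_facts p hp H hH
  have hψc := isCharacter_of_isIrrCharacter hψ
  obtain ⟨hc, h1⟩ := isCharacter_detChar hψc
  have hord : ¬ p ∣ orderOf (detChar ψ) := fun h =>
    hcomm (dvd_trans h (orderOf_linear_dvd hc h1))
  have hcop1 : Nat.Coprime H.index (orderOf (detChar ψ)) := by
    rw [hidx]
    exact Nat.Coprime.pow_left k ((Nat.Prime.coprime_iff_not_dvd hp).mpr hord)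
  have hcopd : Nat.Coprime H.index d := by
    rw [hidx]
    exact Nat.Coprime.pow_left k ((Nat.Prime.coprime_iff_not_dvd hp).mpr hpd)
  obtain ⟨μ, ⟨hμ, hμ1, hμH, hμord⟩, hμuniq⟩ := Cfsg.Agent.S0865.result H (detChar ψ) ⟨hc, h1⟩
    (detChar_invariant H ψ hψc hinv) hcop1
  have hsolv : Group.IsSolvable (G ⧸ H) := isSolvable_quotient_of_index_pow p k hp H hidx
  obtain ⟨η, hη, hηH⟩ := exists_extension_aux H.index G H rfl hsolv ψ hψ hinv d hd hcopd μ hμ hμ1 hμH
  obtain ⟨χ, ⟨hχ, hχH, hχdet⟩, hχuniq⟩ := Cfsg.Agent.S0862.result H ψ hψ d hd hcopd ⟨η, hη, hηH⟩ μ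
    ⟨hμ, hμ1⟩ hμH
  refine ⟨χ, ⟨hχ, hχH, ?_⟩, ?_⟩
  · unfold Cfsg.detOrder
    rw [hχdet, hμord]
    exact hord
  · intro χ' hχ' hχ'H hχ'ord
    have hχ'c := isCharacter_of_isIrrCharacter hχ'
    obtain ⟨hc', h1'⟩ := isCharacter_detChar hχ'c
    have hres : ∀ n : H, detChar χ' n = detChar ψ n := by
      intro n
      have hψeq : ψ = fun x : H => χ' x := funext (fun x => (hχ'H x).symm)
      rw [hψeq, detChar_restrict H hχ'c n]
    have hcop' : Nat.Coprime H.index (orderOf (detChar χ')) := by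
      rw [hidx]
      exact Nat.Coprime.pow_left k ((Nat.Prime.coprime_iff_not_dvd hp).mpr hχ'ord)
    have hdet' : detChar χ' = μ := hμuniq (detChar χ') ⟨hc', h1'⟩ hres hcop'
    exact hχuniq χ' ⟨hχ', hχ'H, hdet'⟩

end pres

end Cfsg.Agent.Lib.helper3.PRes
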