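import Mathlib
import Cfsg.Prelude.Def_Characters
import Cfsg.Agent.Lib.helper3.TwoDeg3
import Cfsg.Agent.Lib.helper3.Pdeg2
import Cfsg.Agent.S4456

set_option autoImplicit false
set_option linter.style.haveILetI false
set_option linter.unusedSectionVars false

/-!
# Groups with two character degrees (Isaacs 12.5)
-/

namespace Cfsg.Agent.Lib.helper3.TwoDeg

open Cfsg Module Cfsg.Agent.Lib.helper3.IndFun Cfsg.Agent.Lib.helper3.CharBasic
open Cfsg.Agent.Lib.helper3.Irr Cfsg.Agent.Lib.helper3.Lin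
open scoped ComplexConjugate

variable {G : Type*} [Group G]

/-- In a commutative finite group all irreducible characters are linear. -/
theorem apply_one_eq_one_of_comm [Finite G] (hcomm : ∀ a b : G, a * b = b * a)
    (β : IrrCharacter G) : (β : G → ℂ) 1 = 1 := by
  classical
  letI : Fintype G := Fintype.ofFinite G
  obtain ⟨n, hn, h1⟩ := exists_pos_nat_apply_one β.2
  have hle := degree_le_index_of_abelian β.2 (⊤ : Subgroup G) (fun a _ b _ => hcomm a b)
  rw [Subgroup.index_top, h1] at hle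
  have : n ≤ 1 := by
    have : (n : ℝ) ≤ 1 := by simpa using hle
    exact_mod_cast this
  have : n = 1 := le_antisymm this hn
  rw [h1, this, Nat.cast_one]

/-- The normal complements from Thompson's theorem. -/
theorem exists_normal_complement [Finite G] (m : ℕ)
    (hcd : ∀ χ : IrrCharacter G, (χ : G → ℂ) 1 = 1 ∨ (χ : G → ℂ) 1 = m) (q : ℕ) (hq : q.Prime)
    (hqm : q ∣ m) :
    ∃ N : Subgroup G, N.Normal ∧ (Nat.card N).Coprime q ∧ ∃ k : ℕ, N.index = q ^ k := by
  apply Cfsg.Agent.S4456.result q hq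
  intro χ hne
  rcases hcd χ with h | h
  · exfalso
    apply hne
    exact Cfsg.Agent.Lib.helper3.Pdeg.charDegree_eq' (d := 1) (by rw [h, Nat.cast_one])
  · rw [Cfsg.Agent.Lib.helper3.Pdeg.charDegree_eq' h]
    exact hqm

/-- A nonabelian quotient of prime power order forces `m` to be a power of that prime. -/
theorem eq_prime_pow_of_nonabelian_quotient [Finite G] (m : ℕ)
    (hcd : ∀ χ : IrrCharacter G, (χ : G → ℂ) 1 = 1 ∨ (χ : G → ℂ) 1 = m)
    (N : Subgroup G) [hN : N.Normal] (p k : ℕ) (hp : p.Prime) (hk : N.index = p ^ k)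
    (hnab : ¬ ∀ x y : G, x * y * x⁻¹ * y⁻¹ ∈ N) : ∃ e : ℕ, m = p ^ e := by
  classical
  letI : Fintype G := Fintype.ofFinite G
  letI : Fintype (G ⧸ N) := Fintype.ofFinite _
  have hex : ∃ χ : IrrCharacter (G ⧸ N), (χ : G ⧸ N → ℂ) 1 ≠ 1 := by
    by_contra hall
    push Not at hall
    apply hnab
    intro x y
    have h1 := comm_of_all_linear hall (x : G ⧸ N) (y : G ⧸ N)
    rw [← QuotientGroup.eq_one_iff]
    rw [QuotientGroup.mk_mul, QuotientGroup.mk_mul, QuotientGroup.mk_mul, h1,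
      QuotientGroup.mk_inv, QuotientGroup.mk_inv]
    group
  obtain ⟨χ, hχ1⟩ := hex
  obtain ⟨d, hd1, hdvd, -⟩ := Cfsg.Agent.Lib.helper3.Central.irr_degree_dvd_card χ.2
  rw [← Subgroup.index_eq_card, hk] at hdvd
  obtain ⟨e, -, he⟩ := (Nat.dvd_prime_pow hp).mp hdvd
  refine ⟨e, ?_⟩
  have hirr := isIrrCharacter_inflate N χ.2
  rcases hcd ⟨inflate N (χ : G ⧸ N → ℂ), hirr⟩ with h | h
  · exact absurd h hχ1
  · have h2 : (χ : G ⧸ N → ℂ) 1 = m := h
    rw [hd1, he] at h2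
    exact_mod_cast h2.symm


/-- A central normal `p`-complement gives a direct decomposition. -/
theorem direct_of_central_complement [Finite G] (N : Subgroup G) [hN : N.Normal] (p k : ℕ)
    [hp : Fact p.Prime] (hk : N.index = p ^ k) (hNp : (Nat.card N).Coprime p)
    (hcen : N ≤ Subgroup.center G) :
    ∃ P : Subgroup G, P.Normal ∧ IsPGroup p P ∧ P ⊓ N = ⊥ ∧ P ⊔ N = ⊤ := by
  obtain ⟨P⟩ : Nonempty (Sylow p G) := inferInstance
  have hsup : (P : Subgroup G) ⊔ N = ⊤ := by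
    rw [← Subgroup.index_eq_one]
    have h1 : ((P : Subgroup G) ⊔ N).index ∣ (P : Subgroup G).index :=
      Subgroup.index_dvd_of_le le_sup_left
    have h2 : ((P : Subgroup G) ⊔ N).index ∣ p ^ k := by
      rw [← hk]
      exact Subgroup.index_dvd_of_le le_sup_right
    have h3 : Nat.Coprime (P : Subgroup G).index (p ^ k) := by
      apply Nat.Coprime.pow_right
      rw [Nat.coprime_comm, Nat.Prime.coprime_iff_not_dvd hp.out]
      exact P.not_dvd_index
    exact Nat.eq_one_of_dvd_coprimes h3 h1 h2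
  refine ⟨P, ?_, P.isPGroup', ?_, hsup⟩
  · rw [← Subgroup.normalizer_eq_top_iff, eq_top_iff, ← hsup]
    apply sup_le
    · exact Subgroup.le_normalizer
    · exact hcen.trans (Subgroup.center_le_normalizer _)
  · apply Subgroup.inf_eq_bot_of_coprime
    obtain ⟨j, hj⟩ := (IsPGroup.iff_card (p := p)).mp P.isPGroup'
    rw [hj]
    exact (Nat.Coprime.pow_right j hNp).symm

/-- The intersection of normal complements for the primes dividing `m`. -/
theorem exists_hall_of_abelian_quotients [Finite G] (m : ℕ) (hm0 : m ≠ 0)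
    (hN : ∀ q : ℕ, q.Prime → q ∣ m → ∃ N : Subgroup G, N.Normal ∧ (Nat.card N).Coprime q ∧
      (∃ k : ℕ, N.index = q ^ k) ∧ ∀ x y : G, x * y * x⁻¹ * y⁻¹ ∈ N) :
    ∃ N : Subgroup G, N.Normal ∧ (Nat.card N).Coprime m ∧ (Nat.card N).Coprime N.index ∧
      ∀ x y : G, x * y * x⁻¹ * y⁻¹ ∈ N := by
  classical
  choose f hfn hfc hfk hfa using hN
  obtain ⟨N, hNdef⟩ : ∃ N : Subgroup G,
      N = ⨅ q : {q : ℕ // q.Prime ∧ q ∣ m}, f q.1 q.2.1 q.2.2 := ⟨_, rfl⟩
  have hle : ∀ (q : ℕ) (hq : q.Prime) (hqm : q ∣ m), N ≤ f q hq hqm := by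
    intro q hq hqm
    rw [hNdef]
    exact iInf_le (fun q : {q : ℕ // q.Prime ∧ q ∣ m} => f q.1 q.2.1 q.2.2) ⟨q, hq, hqm⟩
  have hnd : ∀ q : ℕ, q.Prime → q ∣ m → ¬ q ∣ Nat.card N := by
    intro q hq hqm hdvd
    have h1 := dvd_trans hdvd (Subgroup.card_dvd_of_le (hle q hq hqm))
    have h2 := hfc q hq hqm
    rw [Nat.coprime_comm, Nat.Prime.coprime_iff_not_dvd hq] at h2
    exact h2 h1
  have hNn : N.Normal := by
    rw [hNdef]
    exact Subgroup.normal_iInf_normal (fun q => hfn q.1 q.2.1 q.2.2)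
  have hcm : (Nat.card N).Coprime m := by
    apply Nat.coprime_of_dvd
    intro r hr hrN hrm
    exact hnd r hr hrm hrN
  refine ⟨N, hNn, hcm, ?_, ?_⟩
  · apply Nat.Coprime.symm
    apply Nat.coprime_of_dvd
    intro r hr hridx hrN
    haveI : Fact r.Prime := ⟨hr⟩
    -- an element of order `r` in the quotient
    rw [Subgroup.index_eq_card] at hridx
    obtain ⟨g', hg'⟩ := exists_prime_orderOf_dvd_card' r hridx
    obtain ⟨g, rfl⟩ := QuotientGroup.mk_surjective g'
    have hgr : g ^ r ∈ N := by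
      rw [← QuotientGroup.eq_one_iff, QuotientGroup.mk_pow, ← hg']
      exact pow_orderOf_eq_one _
    have hgN : g ∉ N := by
      intro h
      have h1 : (g : G ⧸ N) = 1 := (QuotientGroup.eq_one_iff g).mpr h
      rw [h1, orderOf_one] at hg'
      exact hr.one_lt.ne hg'
    have hex : ∃ q : {q : ℕ // q.Prime ∧ q ∣ m}, g ∉ f q.1 q.2.1 q.2.2 := by
      by_contra hall
      push Not at hall
      apply hgN
      rw [hNdef, Subgroup.mem_iInf]
      exact hall
    obtain ⟨⟨q, hq, hqm⟩, hgq⟩ := hex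
    simp only at hgq
    haveI := hfn q hq hqm
    obtain ⟨k, hk⟩ := hfk q hq hqm
    have h1 : orderOf ((g : G ⧸ f q hq hqm)) ∣ q ^ k := by
      rw [← hk, Subgroup.index_eq_card]
      exact orderOf_dvd_natCard _
    have h2 : orderOf ((g : G ⧸ f q hq hqm)) ∣ r := by
      apply orderOf_dvd_of_pow_eq_one
      rw [← QuotientGroup.mk_pow]
      exact (QuotientGroup.eq_one_iff _).mpr (hle q hq hqm hgr)
    have hrq : r = q := by
      by_contra hne
      have hcop : Nat.Coprime r (q ^ k) :=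
        Nat.Coprime.pow_right k ((Nat.coprime_primes hr hq).mpr hne)
      have h3 := Nat.eq_one_of_dvd_coprimes hcop h2 h1
      rw [orderOf_eq_one_iff, QuotientGroup.eq_one_iff] at h3
      exact hgq h3
    rw [hrq] at hrN
    exact hnd q hq hqm hrN
  · intro x y
    rw [hNdef, Subgroup.mem_iInf]
    intro q
    exact hfa q.1 q.2.1 q.2.2 x y

/-- Groups with exactly two character degrees `1` and `m` (Isaacs 12.5). -/
theorem two_degrees_structure [Finite G] (m : ℕ)
    (hcd : ∀ χ : IrrCharacter G, (χ : G → ℂ) 1 = 1 ∨ (χ : G → ℂ) 1 = m)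
    (hm : ∃ χ : IrrCharacter G, (χ : G → ℂ) 1 = m) (hm1 : m ≠ 1) :
    (∃ A : Subgroup G, A.Normal ∧ (∀ a ∈ A, ∀ b ∈ A, a * b = b * a) ∧ A.index = m) ∨
      ∃ p e : ℕ, p.Prime ∧ m = p ^ e ∧ ∃ P A : Subgroup G, P.Normal ∧ A.Normal ∧ IsPGroup p P ∧
        (∀ a ∈ A, ∀ b ∈ A, a * b = b * a) ∧ P ⊓ A = ⊥ ∧ P ⊔ A = ⊤ := by
  classical
  have hm0 : m ≠ 0 := by
    obtain ⟨χ, hχ⟩ := hm
    intro h
    rw [h, Nat.cast_zero] at hχ
    exact apply_one_ne_zero χ.2 hχ
  by_cases hII : ∃ (p : ℕ) (N : Subgroup G), p.Prime ∧ p ∣ m ∧ N.Normal ∧ (Nat.card N).Coprime p ∧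
      (∃ k : ℕ, N.index = p ^ k) ∧ ¬ ∀ x y : G, x * y * x⁻¹ * y⁻¹ ∈ N
  · obtain ⟨p, N, hp, -, hNn, hNp, ⟨k, hk⟩, hnab⟩ := hII
    haveI := hNn
    haveI : Fact p.Prime := ⟨hp⟩
    obtain ⟨e, he⟩ := eq_prime_pow_of_nonabelian_quotient m hcd N p k hp hk hnab
    have hcop : (Nat.card N).Coprime N.index := by rw [hk]; exact Nat.Coprime.pow_right k hNp
    have hNm : (Nat.card N).Coprime m := by rw [he]; exact Nat.Coprime.pow_right e hNp
    rcases abelian_index_or_central m hcd N hcop hNm (Or.inr ⟨p, k, hp, hk⟩) with h | h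
    · exact Or.inl h
    · right
      obtain ⟨P, hPn, hPp, hinf, hsup⟩ := direct_of_central_complement N p k hk hNp h
      refine ⟨p, e, hp, he, P, N, hPn, hNn, hPp, ?_, hinf, hsup⟩
      intro a ha b hb
      have := comm_of_coprime_degree m hcd N hNm ⟨a, ha⟩ ⟨b, hb⟩
      exact congrArg Subtype.val this
  · push Not at hII
    have hN : ∀ q : ℕ, q.Prime → q ∣ m → ∃ N : Subgroup G, N.Normal ∧ (Nat.card N).Coprime q ∧
        (∃ k : ℕ, N.index = q ^ k) ∧ ∀ x y : G, x * y * x⁻¹ * y⁻¹ ∈ N := by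
      intro q hq hqm
      obtain ⟨N, hNn, hNq, hk⟩ := exists_normal_complement m hcd q hq hqm
      exact ⟨N, hNn, hNq, hk, hII q N hq hqm hNn hNq hk⟩
    obtain ⟨N, hNn, hNm, hcop, hab⟩ := exists_hall_of_abelian_quotients m hm0 hN
    haveI := hNn
    rcases abelian_index_or_central m hcd N hcop hNm (Or.inl hab) with h | h
    · exact Or.inl h
    · exfalso
      have hcomm : ∀ x ∈ (⊤ : Subgroup G), ∀ y ∈ (⊤ : Subgroup G), x * y = y * x := by
        apply comm_of_central_coprime ⊤ N _ (fun x _ y _ => hab x y) N.index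
          (fun x _ => N.pow_index_mem x) hcop.symm
        intro n hn a _
        have := h hn
        rw [Subgroup.mem_center_iff] at this
        exact (this a).symm
      obtain ⟨χ, hχ⟩ := hm
      have h1 := apply_one_eq_one_of_comm
        (fun a b => hcomm a (Subgroup.mem_top a) b (Subgroup.mem_top b)) χ
      rw [hχ] at h1
      apply hm1
      exact_mod_cast h1


theorem apply_one_eq_charDegree' {X : Type*} [Group X] (ψ : IrrCharacter X) :
    (ψ : X → ℂ) 1 = ((charDegree (ψ : X → ℂ) : ℕ) : ℂ) := by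
  obtain ⟨d, _, hd1⟩ := exists_pos_nat_apply_one ψ.2
  rw [Cfsg.Agent.Lib.helper3.Pdeg.charDegree_eq' hd1, hd1]

/-- Translating the degree hypotheses. -/
theorem degree_hyps {X : Type*} [Group X] (m : ℕ)
    (hcd : ∀ χ : IrrCharacter X, charDegree (χ : X → ℂ) = 1 ∨ charDegree (χ : X → ℂ) = m) :
    ∀ χ : IrrCharacter X, (χ : X → ℂ) 1 = 1 ∨ (χ : X → ℂ) 1 = m := by
  intro χ
  rw [apply_one_eq_charDegree' χ]
  rcases hcd χ with h | h
  · left; rw [h, Nat.cast_one]
  · right; rw [h]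

/-- Isaacs 12.5 in terms of `charDegree`. -/
theorem two_degrees_structure' [Finite G] (m : ℕ)
    (hcd : ∀ χ : IrrCharacter G, charDegree (χ : G → ℂ) = 1 ∨ charDegree (χ : G → ℂ) = m)
    (hm : ∃ χ : IrrCharacter G, charDegree (χ : G → ℂ) = m) (hm1 : m ≠ 1) :
    (∃ A : Subgroup G, A.Normal ∧ (∀ a ∈ A, ∀ b ∈ A, a * b = b * a) ∧ A.index = m) ∨
      ∃ p e : ℕ, p.Prime ∧ m = p ^ e ∧ ∃ P A : Subgroup G, P.Normal ∧ A.Normal ∧ IsPGroup p P ∧
        (∀ a ∈ A, ∀ b ∈ A, a * b = b * a) ∧ P ⊓ A = ⊥ ∧ P ⊔ A = ⊤ := by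
  apply two_degrees_structure m (degree_hyps m hcd) _ hm1
  obtain ⟨χ, hχ⟩ := hm
  exact ⟨χ, by rw [apply_one_eq_charDegree' χ, hχ]⟩

end Cfsg.Agent.Lib.helper3.TwoDeg
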