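import Mathlib
import Cfsg.Prelude.Def_Characters
import Cfsg.Agent.Lib.helper3.Extraspecial
import Cfsg.Agent.Lib.helper3.TwoDeg4
import Cfsg.Agent.Lib.helper3.ClassBound
import Cfsg.Agent.Lib.helper3.Inflate2

set_option autoImplicit false
set_option linter.style.haveILetI false
set_option linter.unusedSectionVars false

/-!
# `p`-groups all of whose nonlinear irreducible characters are faithful
-/

namespace Cfsg.Agent.Lib.helper3.PDeg

open Cfsg Module Cfsg.Agent.Lib.helper3.IndFun Cfsg.Agent.Lib.helper3.CharBasic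
open Cfsg.Agent.Lib.helper3.Irr Cfsg.Agent.Lib.helper3.Central
open scoped ComplexConjugate

universe u

/-- A `p`-group whose nonlinear irreducible characters are all faithful and which has an
irreducible character of degree `p`. -/
theorem faithful_class_two {Q : Type u} [Group Q] [Finite Q] (p : ℕ) [hp : Fact p.Prime]
    (hQ : IsPGroup p Q) (ϑ : Q → ℂ) (hϑ : IsIrrCharacter Q ϑ) (hϑ1 : ϑ 1 = p)
    (hfaith : ∀ ψ : IrrCharacter Q, (ψ : Q → ℂ) 1 ≠ 1 →
      ∀ x : Q, (ψ : Q → ℂ) x = (ψ : Q → ℂ) 1 → x = 1) :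
    (∀ x : Q, x ∉ Subgroup.center Q → ϑ x = 0) ∧ (Subgroup.center Q).index = p ^ 2 ∧
      (∀ x : Q, x ^ p ∈ Subgroup.center Q) ∧
      ∀ z ∈ Subgroup.center Q, ϑ z * conj (ϑ z) = (p : ℂ) ^ 2 := by
  classical
  letI : Fintype Q := Fintype.ofFinite Q
  have hp1 : (p : ℂ) ≠ 1 := by exact_mod_cast hp.out.one_lt.ne'
  have hnonab : ¬ ∀ a b : Q, a * b = b * a := by
    intro h
    have := Cfsg.Agent.Lib.helper3.TwoDeg.apply_one_eq_one_of_comm h ⟨ϑ, hϑ⟩
    simp only at this
    rw [hϑ1] at this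
    exact hp1 this
  haveI : Nontrivial Q := by
    by_contra hnt
    rw [not_nontrivial_iff_subsingleton] at hnt
    exact hnonab (fun a b => Subsingleton.elim _ _)
  have hcnt : Nontrivial (Subgroup.center Q) := hQ.center_nontrivial
  obtain ⟨c0, hc0⟩ := exists_ne (1 : Subgroup.center Q)
  -- the quotient by the centre is abelian
  have hlin : ∀ ψ : IrrCharacter (Q ⧸ Subgroup.center Q),
      (ψ : Q ⧸ Subgroup.center Q → ℂ) 1 = 1 := by
    intro ψ
    by_contra hne
    have hinf := isIrrCharacter_inflate (Subgroup.center Q) ψ.2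
    have h1 : inflate (Subgroup.center Q) (ψ : Q ⧸ Subgroup.center Q → ℂ) 1 ≠ 1 := by
      rw [inflate_apply, QuotientGroup.mk_one]; exact hne
    have := hfaith ⟨_, hinf⟩ h1 (c0 : Q) (inflate_apply_of_mem _ _ c0.2)
    exact hc0 (Subtype.ext this)
  letI : Fintype (Q ⧸ Subgroup.center Q) := Fintype.ofFinite _
  have hQab := comm_of_all_linear hlin
  have hcommem : ∀ a b : Q, a * b * a⁻¹ * b⁻¹ ∈ Subgroup.center Q := by
    intro a b
    apply (QuotientGroup.eq_one_iff _).mp
    rw [QuotientGroup.mk_mul, QuotientGroup.mk_mul, QuotientGroup.mk_mul, QuotientGroup.mk_inv,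
      QuotientGroup.mk_inv, hQab (a : Q ⧸ Subgroup.center Q) b]
    group
  -- a representation
  obtain ⟨d, ρ, hirr, hρ⟩ := id hϑ
  haveI := hirr
  obtain ⟨lam, hlam⟩ := exists_central_hom ρ
  have hmulc : ∀ (g : Q) (z : Subgroup.center Q), ϑ (g * z) = lam z * ϑ g := by
    intro g z
    rw [← hρ]
    exact character_mul_central ρ lam hlam g z
  have hlam_ne : ∀ z : Subgroup.center Q, z ≠ 1 → lam z ≠ 1 := by
    intro z hz h
    have := hmulc 1 z
    rw [one_mul, h, one_mul] at this
    have h2 := hfaith ⟨ϑ, hϑ⟩ (by simp only; rw [hϑ1]; exact hp1) (z : Q) this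
    exact hz (Subtype.ext h2)
  have hvan : ∀ x : Q, x ∉ Subgroup.center Q → ϑ x = 0 := by
    intro x hx
    rw [Subgroup.mem_center_iff] at hx
    push Not at hx
    obtain ⟨y, hy⟩ := hx
    have hcm : x⁻¹ * y * x * y⁻¹ ∈ Subgroup.center Q := by
      have := hcommem x⁻¹ y
      rw [inv_inv] at this
      exact this
    have hc1 : (⟨x⁻¹ * y * x * y⁻¹, hcm⟩ : Subgroup.center Q) ≠ 1 := by
      intro h
      have h1 : x⁻¹ * y * x * y⁻¹ = 1 := congrArg Subtype.val h
      apply hy
      calc y * x = x * (x⁻¹ * y * x * y⁻¹) * y := by group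
        _ = x * y := by rw [h1, mul_one]
    have hconj : ϑ (y * x * y⁻¹) = ϑ x :=
      isClassFunction_of_isCharacter (isCharacter_of_isIrrCharacter hϑ) x y
    have heq : y * x * y⁻¹ = x * ((⟨x⁻¹ * y * x * y⁻¹, hcm⟩ : Subgroup.center Q) : Q) := by
      show y * x * y⁻¹ = x * (x⁻¹ * y * x * y⁻¹)
      group
    rw [heq, hmulc] at hconj
    have h2 : (lam ⟨x⁻¹ * y * x * y⁻¹, hcm⟩ - 1) * ϑ x = 0 := by linear_combination hconj
    rcases mul_eq_zero.mp h2 with h | h
    · exact absurd (sub_eq_zero.mp h) (hlam_ne _ hc1)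
    · exact h
  -- the index of the centre
  have hfin : finrank ℂ (Fin d → ℂ) = p := by
    have h1 : ρ.character 1 = (finrank ℂ (Fin d → ℂ) : ℂ) := Representation.char_one ρ
    rw [hρ, hϑ1] at h1
    exact_mod_cast h1.symm
  have hcard := card_eq_card_center_mul_sq ρ (by
    intro x hx
    rw [hρ]
    exact hvan x hx)
  rw [hfin] at hcard
  have hidx : (Subgroup.center Q).index = p ^ 2 := by
    have := Subgroup.index_mul_card (Subgroup.center Q)
    rw [hcard, mul_comm (Nat.card _)] at this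
    exact Nat.eq_of_mul_eq_mul_right Nat.card_pos this
  refine ⟨hvan, hidx, ?_, ?_⟩
  · -- the exponent
    have hcardQ : Nat.card (Q ⧸ Subgroup.center Q) = p ^ 2 := by
      rw [← Subgroup.index_eq_card, hidx]
    have hncyc : ¬ IsCyclic (Q ⧸ Subgroup.center Q) := by
      intro hcyc
      apply hnonab
      have := MonoidHom.isMulCommutative_of_isCyclic_of_ker_le_center
        (QuotientGroup.mk' (Subgroup.center Q)) (by rw [QuotientGroup.ker_mk'])
      exact fun a b => this.is_comm.comm a b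
    intro x
    apply (QuotientGroup.eq_one_iff _).mp
    rw [QuotientGroup.mk_pow]
    have hdvd : orderOf (x : Q ⧸ Subgroup.center Q) ∣ p ^ 2 := by
      rw [← hcardQ]; exact orderOf_dvd_natCard _
    obtain ⟨k, hk, hok⟩ := (Nat.dvd_prime_pow hp.out).mp hdvd
    have hk2 : k ≠ 2 := by
      intro h
      apply hncyc
      apply isCyclic_of_orderOf_eq_card (x : Q ⧸ Subgroup.center Q)
      rw [hok, h, hcardQ]
    have hk1 : k ≤ 1 := by omega
    apply orderOf_dvd_iff_pow_eq_one.mp
    rw [hok]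
    have := pow_dvd_pow p hk1
    rw [pow_one] at this
    exact this
  · intro z hz
    have hnorm : ‖ρ.character z‖ = (finrank ℂ (Fin d → ℂ) : ℝ) := by
      rw [norm_character_eq_finrank_iff]
      exact ⟨lam ⟨z, hz⟩, hlam ⟨z, hz⟩⟩
    rw [hρ, hfin] at hnorm
    rw [Complex.mul_conj, Complex.normSq_eq_norm_sq, hnorm]
    push_cast
    rfl

end Cfsg.Agent.Lib.helper3.PDeg
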