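import Mathlib
import Cfsg.Prelude.Def_Characters
import Cfsg.Agent.Lib.helper3.PDeg4
import Cfsg.Agent.Lib.helper3.Clifford2
import Cfsg.Agent.Lib.helper3.FullyRam

set_option autoImplicit false
set_option linter.style.haveILetI false
set_option linter.unusedSectionVars false

/-!
# A fully ramified section in a `p`-group with degrees `1` and `p`
-/

namespace Cfsg.Agent.Lib.helper3.PDeg

open Cfsg Module Cfsg.Agent.Lib.helper3.IndFun Cfsg.Agent.Lib.helper3.CharBasic
open Cfsg.Agent.Lib.helper3.Irr Cfsg.Agent.Lib.helper3.Central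
open scoped ComplexConjugate

universe u

/-- The kernel of a character. -/
def kerSub {G : Type u} [Group G] [Finite G] {χ : G → ℂ} (hχ : IsCharacter G χ) : Subgroup G where
  carrier := {g | χ g = χ 1}
  one_mem' := rfl
  mul_mem' := fun {a b} ha hb => by
    show χ (a * b) = χ 1
    rw [apply_mul_of_apply_eq_one hχ hb a]; exact ha
  inv_mem' := fun {a} ha => by
    show χ a⁻¹ = χ 1
    have := apply_mul_of_apply_eq_one hχ ha a⁻¹
    rw [inv_mul_cancel] at this
    exact this.symm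

theorem mem_kerSub {G : Type u} [Group G] [Finite G] {χ : G → ℂ} (hχ : IsCharacter G χ) (g : G) :
    g ∈ kerSub hχ ↔ χ g = χ 1 := Iff.rfl

instance kerSub_normal {G : Type u} [Group G] [Finite G] {χ : G → ℂ} (hχ : IsCharacter G χ) :
    (kerSub hχ).Normal :=
  ⟨fun n hn g => by
    show χ (g * n * g⁻¹) = χ 1
    rw [isClassFunction_of_isCharacter hχ n g]; exact hn⟩

/-- A character of degree zero vanishes. -/
theorem eq_zero_of_apply_one_eq_zero {G : Type u} [Group G] [Finite G] {φ : G → ℂ}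
    (hφ : IsCharacter G φ) (h : φ 1 = 0) : φ = 0 := by
  obtain ⟨n, ρ, rfl⟩ := hφ
  funext g
  have h1 := norm_character_le ρ g
  have h2 : ρ.character 1 = (finrank ℂ (Fin n → ℂ) : ℂ) := Representation.char_one ρ
  rw [h] at h2
  have h3 : finrank ℂ (Fin n → ℂ) = 0 := by exact_mod_cast h2.symm
  rw [h3, Nat.cast_zero] at h1
  exact norm_le_zero_iff.mp h1

/-- The fully ramified section. -/
theorem exists_fully_ramified {P : Type u} [Group P] [Finite P] (p : ℕ) [hp : Fact p.Prime]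
    (hP : IsPGroup p P)
    (hcd : ∀ χ : IrrCharacter P, (χ : P → ℂ) 1 = 1 ∨ (χ : P → ℂ) 1 = p)
    (hnl : ∃ χ : IrrCharacter P, (χ : P → ℂ) 1 = p) :
    ∃ (Z : Subgroup P) (χ₀ : P → ℂ), Z.Normal ∧ IsIrrCharacter P χ₀ ∧ Z.index = p ^ 2 ∧
      (∀ g : P, g ^ p ∈ Z) ∧ (∀ g : P, g ∉ Z → χ₀ g = 0) ∧
      ∀ z ∈ Z, χ₀ z * conj (χ₀ z) = (p : ℂ) ^ 2 := by
  classical
  have hp1 : (p : ℂ) ≠ 1 := by exact_mod_cast hp.out.one_lt.ne'
  have hne : (Finset.univ.filter (fun χ : IrrCharacter P => (χ : P → ℂ) 1 = p)).Nonempty := by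
    obtain ⟨χ, hχ⟩ := hnl
    exact ⟨χ, Finset.mem_filter.mpr ⟨Finset.mem_univ χ, hχ⟩⟩
  obtain ⟨χ₀, hχ₀mem, hmax⟩ := Finset.exists_max_image _
    (fun χ : IrrCharacter P => Nat.card (kerSub (isCharacter_of_isIrrCharacter χ.2))) hne
  rw [Finset.mem_filter] at hχ₀mem
  have hχ₀1 : (χ₀ : P → ℂ) 1 = p := hχ₀mem.2
  have hχ₀c := isCharacter_of_isIrrCharacter χ₀.2
  obtain ⟨K, hK⟩ : ∃ K : Subgroup P, K = kerSub hχ₀c := ⟨_, rfl⟩
  have hcardK : Nat.card K = Nat.card (kerSub hχ₀c) := by rw [hK]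
  haveI hKn : K.Normal := by rw [hK]; infer_instance
  obtain ⟨ϑ, hϑ, hinfl⟩ := exists_eq_inflate χ₀.2 K (by
    intro g n hn
    rw [hK] at hn
    exact apply_mul_of_apply_eq_one hχ₀c hn g)
  have hϑ1 : ϑ 1 = p := by
    rw [← hχ₀1, hinfl, inflate_apply, QuotientGroup.mk_one]
  have hfaith : ∀ ψ : IrrCharacter (P ⧸ K), (ψ : P ⧸ K → ℂ) 1 ≠ 1 →
      ∀ x : P ⧸ K, (ψ : P ⧸ K → ℂ) x = (ψ : P ⧸ K → ℂ) 1 → x = 1 := by
    intro ψ hψ1 x hx
    obtain ⟨g, rfl⟩ := QuotientGroup.mk_surjective x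
    have hφ := isIrrCharacter_inflate K ψ.2
    have hφ1 : inflate K (ψ : P ⧸ K → ℂ) 1 = p := by
      rcases hcd ⟨_, hφ⟩ with h | h
      · exfalso
        apply hψ1
        simp only at h
        rw [inflate_apply, QuotientGroup.mk_one] at h
        exact h
      · exact h
    have hle := hmax ⟨_, hφ⟩ (Finset.mem_filter.mpr ⟨Finset.mem_univ _, hφ1⟩)
    simp only at hle
    have hKle : K ≤ kerSub (isCharacter_of_isIrrCharacter hφ) := by
      intro n hn
      rw [mem_kerSub]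
      exact inflate_apply_of_mem K _ hn
    have heq : K = kerSub (isCharacter_of_isIrrCharacter hφ) := by
      apply Subgroup.eq_of_le_of_card_ge hKle
      rw [hcardK]
      exact hle
    have hg : g ∈ kerSub (isCharacter_of_isIrrCharacter hφ) := by
      rw [mem_kerSub, inflate_apply, inflate_apply, QuotientGroup.mk_one]
      exact hx
    rw [← heq] at hg
    exact (QuotientGroup.eq_one_iff _).mpr hg
  obtain ⟨hvan, hidx, hexp, hnorm⟩ :=
    faithful_class_two p (hP.to_quotient K) ϑ hϑ hϑ1 hfaith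
  refine ⟨(Subgroup.center (P ⧸ K)).comap (QuotientGroup.mk' K), χ₀, inferInstance, χ₀.2, ?_, ?_,
    ?_, ?_⟩
  · rw [Subgroup.index_comap_of_surjective _ (QuotientGroup.mk'_surjective K), hidx]
  · intro g
    rw [Subgroup.mem_comap, map_pow]
    exact hexp _
  · intro g hg
    rw [Subgroup.mem_comap] at hg
    rw [hinfl, inflate_apply]
    exact hvan _ hg
  · intro z hz
    rw [Subgroup.mem_comap] at hz
    rw [hinfl, inflate_apply]
    exact hnorm _ hz

/-- The subgroup in a fully ramified section is abelian. -/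
theorem abelian_of_fully_ramified {P : Type u} [Group P] [Finite P] (p : ℕ) [hp : Fact p.Prime]
    (hcd : ∀ χ : IrrCharacter P, (χ : P → ℂ) 1 = 1 ∨ (χ : P → ℂ) 1 = p)
    (Z : Subgroup P) [hZn : Z.Normal] (χ₀ : P → ℂ) (hχ₀ : IsIrrCharacter P χ₀)
    (hidx : Z.index = p ^ 2) (hvan : ∀ g : P, g ∉ Z → χ₀ g = 0)
    (hnorm : ∀ z ∈ Z, χ₀ z * conj (χ₀ z) = (p : ℂ) ^ 2) :
    ∀ a ∈ Z, ∀ b ∈ Z, a * b = b * a := by
  classical
  letI : Fintype P := Fintype.ofFinite P
  letI : Fintype Z := Fintype.ofFinite Z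
  have hp0 : (p : ℂ) ≠ 0 := by exact_mod_cast hp.out.ne_zero
  have hχ₀c := isCharacter_of_isIrrCharacter hχ₀
  -- the degree of `χ₀`
  have hχ₀1 : χ₀ 1 = p := by
    obtain ⟨d, hd, hd1⟩ := exists_pos_nat_apply_one hχ₀
    have := hnorm 1 Z.one_mem
    rw [hd1, Complex.conj_natCast] at this
    have h2 : d * d = p ^ 2 := by exact_mod_cast this
    rw [← pow_two] at h2
    have : d = p := Nat.pow_left_injective (by norm_num : 2 ≠ 0) h2
    rw [hd1, this]
  -- the norm of the product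
  have hprod : ∀ χ : P → ℂ, classInner (χ * χ₀) (χ * χ₀)
      = classInner (fun z : Z => χ z) (fun z : Z => χ z) := by
    intro χ
    rw [classInner_apply, classInner_apply]
    have hcard : (Nat.card P : ℂ) = (p : ℂ) ^ 2 * (Nat.card Z : ℂ) := by
      rw [← Subgroup.index_mul_card Z, hidx]; push_cast; ring
    have hZ0 : (Nat.card Z : ℂ) ≠ 0 := card_ne_zero_complex Z
    have hsum : ∑ g : P, (χ * χ₀) g * conj ((χ * χ₀) g)
        = (p : ℂ) ^ 2 * ∑ z : Z, χ z * conj (χ z) := by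
      rw [← Finset.sum_filter_add_sum_filter_not Finset.univ (fun g : P => g ∈ Z)]
      have h2 : ∑ g ∈ Finset.univ.filter (fun g : P => ¬ g ∈ Z),
          (χ * χ₀) g * conj ((χ * χ₀) g) = 0 := by
        apply Finset.sum_eq_zero
        intro g hg
        rw [Pi.mul_apply, hvan g (Finset.mem_filter.mp hg).2]
        simp
      rw [h2, add_zero, Finset.sum_subtype (p := fun g : P => g ∈ Z) _ (by simp), Finset.mul_sum]
      apply Finset.sum_congr rfl
      intro z _
      rw [Pi.mul_apply, map_mul]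
      have := hnorm z z.2
      calc χ z * χ₀ z * (conj (χ z) * conj (χ₀ z))
          = (χ₀ z * conj (χ₀ z)) * (χ z * conj (χ z)) := by ring
        _ = (p : ℂ) ^ 2 * (χ z * conj (χ z)) := by rw [this]
    rw [hsum, hcard]
    field_simp
  -- restrictions of nonlinear characters are reducible
  have hred : ∀ χ : IrrCharacter P, (χ : P → ℂ) 1 = p →
      classInner (fun z : Z => (χ : P → ℂ) z) (fun z : Z => (χ : P → ℂ) z) ≠ 1 := by
    intro χ hχ1 h1
    rw [← hprod] at h1
    have hirr := isIrrCharacter_of_classInner_self_eq_one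
      (isCharacter_mul (isCharacter_of_isIrrCharacter χ.2) hχ₀c) h1
    have hdeg : ((χ : P → ℂ) * χ₀) 1 = (p : ℂ) ^ 2 := by
      rw [Pi.mul_apply, hχ1, hχ₀1]; ring
    rcases hcd ⟨_, hirr⟩ with h | h
    · simp only at h
      rw [hdeg] at h
      have : p ^ 2 = 1 := by exact_mod_cast h
      have h2 : 1 < p ^ 2 := Nat.one_lt_pow (by norm_num) hp.out.one_lt
      omega
    · simp only at h
      rw [hdeg] at h
      have : p ^ 2 = p := by exact_mod_cast h
      have h2 : p < p ^ 2 := by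
        calc p = p ^ 1 := (pow_one p).symm
          _ < p ^ 2 := Nat.pow_lt_pow_right hp.out.one_lt (by norm_num)
      omega
  -- all irreducible characters of `Z` are linear
  have hlin : ∀ ψ : IrrCharacter Z, (ψ : Z → ℂ) 1 = 1 := by
    intro ψ
    obtain ⟨χ, hχψ⟩ := exists_irr_over Z (ψ : Z → ℂ) ψ.2
    obtain ⟨dψ, hdψ, hψ1⟩ := exists_pos_nat_apply_one ψ.2
    rcases hcd χ with h | h
    · have := constituent_degree_dvd Z χ χ.2 ψ ψ.2 hχψ 1 dψ (by rw [h, Nat.cast_one]) hψ1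
      rw [hψ1, Nat.dvd_one.mp this, Nat.cast_one]
    · have hdvd := constituent_degree_dvd Z χ χ.2 ψ ψ.2 hχψ p dψ h hψ1
      rcases (Nat.dvd_prime hp.out).mp hdvd with h1 | h1
      · rw [hψ1, h1, Nat.cast_one]
      · exfalso
        apply hred χ h
        have hR := isCharacter_restrict (isCharacter_of_isIrrCharacter χ.2) Z
        have hsub := isCharacter_sub_of_classInner_ne_zero hR ψ hχψ
        have hzero := eq_zero_of_apply_one_eq_zero hsub (by
          rw [Pi.sub_apply, hψ1, h1]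
          show (χ : P → ℂ) ((1 : Z) : P) - p = 0
          rw [Subgroup.coe_one, h, sub_self])
        have heq : (fun z : Z => (χ : P → ℂ) z) = (ψ : Z → ℂ) := sub_eq_zero.mp hzero
        rw [heq]
        exact irr_classInner_self ψ.2
  have hcomm := comm_of_all_linear hlin
  intro a ha b hb
  exact congrArg Subtype.val (hcomm ⟨a, ha⟩ ⟨b, hb⟩)

end Cfsg.Agent.Lib.helper3.PDeg
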