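import Mathlib
import Cfsg.Prelude.Def_Blocks
import Cfsg.Agent.Lib.helper3.PrincIdem3
import Cfsg.Agent.Lib.helper3.SecMain11
import Cfsg.Agent.Lib.helper3.BrauerMap3
import Cfsg.Agent.Lib.helper3.NormalInv
import Cfsg.Agent.Lib.helper3.NormalSupp
import Cfsg.Agent.Lib.helper3.SecMain13

/-!
# The principal block and `p`-sections

For a `p`-element `u` with centralizer `C`, the second and third main theorems show that the
values `χ (u y)` on the `p`-regular elements `y` of `C` only involve the principal block of `C`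
when `χ` lies in the principal block of `G`, and do not involve it at all otherwise.
-/

set_option autoImplicit false
set_option linter.style.haveILetI false
set_option linter.unusedSectionVars false

namespace Cfsg.Agent.Lib.helper3.Block

open Cfsg Module Cfsg.Agent.Lib.helper3.CharBasic Cfsg.Agent.Lib.helper3.Irr
open Cfsg.Agent.Lib.helper3.Central Cfsg.Agent.Lib.helper3.LocalM Cfsg.Agent.Lib.helper3.IndFun
open Cfsg.Agent.Lib.helper3.Lin Cfsg.Agent.Lib.helper3.HallNilp
open scoped ComplexConjugate

universe u

variable {G : Type u} [Group G] [Fintype G] {M : Ideal AlgInt}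

open Classical in
/-- Summation over the irreducible characters, block by block. -/
theorem sum_eq_sum_blocks [hMp : M.IsPrime] (f : IrrCharacter G → ℂ) :
    ∑ χ : IrrCharacter G, f χ
      = ∑ B ∈ blocksFinset M G, ∑ χ : IrrCharacter G, (if χ ∈ B then (1 : ℂ) else 0) * f χ := by
  have hMtop : M ≠ ⊤ := hMp.ne_top
  rw [Finset.sum_comm]
  apply Finset.sum_congr rfl
  intro χ _
  rw [← Finset.sum_mul]
  have : ∑ B ∈ blocksFinset M G, (if χ ∈ B then (1 : ℂ) else 0) = 1 := by
    rw [Finset.sum_eq_single (blockOf M (χ : G → ℂ))]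
    · rw [if_pos]
      exact sameBlock_refl hMtop _
    · intro B hB hne
      rw [if_neg]
      intro hχ
      apply hne
      exact block_eq_of_mem ((mem_blocksFinset B).mp hB) ⟨χ, rfl⟩ χ hχ (sameBlock_refl hMtop _)
    · intro h
      exact absurd ((mem_blocksFinset _).mpr ⟨χ, rfl⟩) h
  rw [this, one_mul]

/-- A normal subgroup of order prime to `p` lies in the kernel of every character of the
principal block. -/
theorem apply_eq_of_mem_normal_coprime {p : ℕ} (hM : IsPModular p M) (N : Subgroup G)
    [hN : N.Normal] (hNp : (Nat.card N).Coprime p) (χ : IrrCharacter G)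
    (hχ : χ ∈ principalBlock M G) (n : G) (hn : n ∈ N) :
    (χ : G → ℂ) n = (χ : G → ℂ) 1 := by
  classical
  haveI hMp := isPrime_of_isPModular hM
  have hMtop : M ≠ ⊤ := hM.2.1.ne_top
  haveI : Fintype N := Fintype.ofFinite _
  obtain ⟨d, ρ, hirr, hρ, hker⟩ := exists_rep_ker_iff χ.2
  haveI := hirr
  rw [hker]
  rcases normal_trivial_or_sum_eq_zero ρ N with h | h
  · exact h n hn
  · exfalso
    have hN0 : Nat.card N ≠ 0 := Nat.card_pos.ne'
    have hNC : (Nat.card N : ℂ) ≠ 0 := by exact_mod_cast hN0
    obtain ⟨a, ha⟩ : ∃ a : G → ℂ, a = fun g => if g ∈ N then (1 : ℂ) / (Nat.card N : ℂ) else 0 :=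
      ⟨_, rfl⟩
    have haloc : ∀ g, MemLocalRing M (a g) := by
      intro g
      rw [ha]
      beta_reduce
      split_ifs
      · have := memLocalRing_natCast_div hM 1 (Nat.card N) one_ne_zero hN0 (by
          rw [Nat.factorization_eq_zero_of_not_dvd]
          · exact Nat.zero_le _
          · intro hdvd
            have := Nat.Coprime.eq_one_of_dvd hNp.symm hdvd
            exact hM.1.one_lt.ne' this)
        simpa using this
      · exact memLocalRing_of_integral isIntegral_zero
    have hac : ∀ g x : G, a (x * g * x⁻¹) = a g := by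
      intro g x
      rw [ha]
      beta_reduce
      have : x * g * x⁻¹ ∈ N ↔ g ∈ N := by
        constructor
        · intro h1
          have := hN.conj_mem _ h1 x⁻¹
          rwa [show x⁻¹ * (x * g * x⁻¹) * x⁻¹⁻¹ = g by group] at this
        · intro h1
          exact hN.conj_mem _ h1 x
      by_cases hg : g ∈ N
      · rw [if_pos hg, if_pos (this.mpr hg)]
      · rw [if_neg hg, if_neg (fun h => hg (this.mp h))]
    have hcong := memLocalIdeal_sum_mul_div_sub a haloc hac χ
      (Cfsg.Agent.Lib.helper3.PrincOnly.one G) (sameBlock_symm hχ)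
    have hsumN : ∀ f : G → ℂ, ∑ g : G, a g * f g
        = (1 : ℂ) / (Nat.card N : ℂ) * ∑ n : N, f (n : G) := by
      intro f
      rw [ha, Finset.mul_sum]
      rw [← Finset.sum_subtype (Finset.univ.filter (fun g : G => g ∈ N)) (by intro g; simp)
        (fun g => (1 : ℂ) / (Nat.card N : ℂ) * f g)]
      rw [Finset.sum_filter]
      apply Finset.sum_congr rfl
      intro g _
      beta_reduce
      by_cases hg : g ∈ N
      · rw [if_pos hg, if_pos hg]
      · rw [if_neg hg, if_neg hg, zero_mul]
    have h1 : ∑ g : G, a g * ((χ : G → ℂ) g / (χ : G → ℂ) 1) = 0 := by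
      rw [hsumN (fun g => (χ : G → ℂ) g / (χ : G → ℂ) 1), ← Finset.sum_div]
      have : ∑ n : N, (χ : G → ℂ) (n : G) = 0 := by
        rw [hρ]
        exact h
      rw [this, zero_div, mul_zero]
    have h2 : ∑ g : G, a g * (((Cfsg.Agent.Lib.helper3.PrincOnly.one G : IrrCharacter G) : G → ℂ) g
        / ((Cfsg.Agent.Lib.helper3.PrincOnly.one G : IrrCharacter G) : G → ℂ) 1) = 1 := by
      rw [hsumN]
      have : ∀ n : N, ((Cfsg.Agent.Lib.helper3.PrincOnly.one G : IrrCharacter G) : G → ℂ) (n : G)
        / ((Cfsg.Agent.Lib.helper3.PrincOnly.one G : IrrCharacter G) : G → ℂ) 1 = 1 := by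
        intro n
        show (1 : ℂ) / 1 = 1
        norm_num
      simp_rw [this]
      rw [Finset.sum_const, Finset.card_univ, nsmul_eq_mul, mul_one, ← Nat.card_eq_fintype_card]
      field_simp
    rw [h1, h2, zero_sub] at hcong
    have := memLocalIdeal_neg hcong
    rw [neg_neg] at this
    exact not_memLocalIdeal_one this

open Classical in
/-- The values of `χ` on the `p`-section of the `p`-element `x`, in terms of the principal block
of the centralizer of `x`. -/
theorem principal_section {p : ℕ} [hpf : Fact p.Prime] (hM : IsPModular p M) (x : G) (k : ℕ)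
    (hx : orderOf x = p ^ k) (χ : IrrCharacter G)
    [Fintype (Subgroup.centralizer ({x} : Set G))]
    (y : Subgroup.centralizer ({x} : Set G)) (hy : ¬ p ∣ orderOf y) :
    ∑ ψ : IrrCharacter (Subgroup.centralizer ({x} : Set G)),
      (if ψ ∈ principalBlock M (Subgroup.centralizer ({x} : Set G)) then (1 : ℂ) else 0)
      * (classInner (fun c : Subgroup.centralizer ({x} : Set G) => (χ : G → ℂ) (x * (c : G)))
          (ψ : Subgroup.centralizer ({x} : Set G) → ℂ)
        * (ψ : Subgroup.centralizer ({x} : Set G) → ℂ) y)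
      = if χ ∈ principalBlock M G then (χ : G → ℂ) (x * (y : G)) else 0 := by
  haveI hMp := isPrime_of_isPModular hM
  have hMtop : M ≠ ⊤ := hM.2.1.ne_top
  have hBG : IsPBlock M (principalBlock M G) := ⟨Cfsg.Agent.Lib.helper3.PrincOnly.one G, rfl⟩
  have hBC : IsPBlock M (principalBlock M (Subgroup.centralizer ({x} : Set G))) :=
    ⟨Cfsg.Agent.Lib.helper3.PrincOnly.one _, rfl⟩
  have hχcf := isClassFunction_of_isCharacter (isCharacter_of_isIrrCharacter χ.2)
  have hcomm : ∀ c : Subgroup.centralizer ({x} : Set G), x * (c : G) = (c : G) * x :=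
    fun c => (Subgroup.mem_centralizer_singleton_iff.mp c.2).symm
  obtain ⟨ϑ, hϑ⟩ : ∃ ϑ : Subgroup.centralizer ({x} : Set G) → ℂ,
      ϑ = fun c : Subgroup.centralizer ({x} : Set G) => (χ : G → ℂ) (x * (c : G)) := ⟨_, rfl⟩
  have hϑcf : IsClassFunction (Subgroup.centralizer ({x} : Set G)) ϑ := by
    intro c t
    rw [hϑ]
    show (χ : G → ℂ) (x * ((t * c * t⁻¹ : Subgroup.centralizer ({x} : Set G)) : G))
      = (χ : G → ℂ) (x * (c : G))
    have e1 : x * ((t * c * t⁻¹ : Subgroup.centralizer ({x} : Set G)) : G)
        = (t : G) * (x * (c : G)) * (t : G)⁻¹ := by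
      push_cast
      rw [← mul_assoc, ← mul_assoc, hcomm t]
      group
    rw [e1, hχcf]
  rw [← hϑ]
  by_cases hχ : χ ∈ principalBlock M G
  · rw [if_pos hχ]
    have hexp : ϑ y = ∑ ψ : IrrCharacter (Subgroup.centralizer ({x} : Set G)),
        classInner ϑ (ψ : Subgroup.centralizer ({x} : Set G) → ℂ)
          * (ψ : Subgroup.centralizer ({x} : Set G) → ℂ) y := by
      have h1 := classFunction_eq_sum ϑ hϑcf
      conv_lhs => rw [h1]
      simp only [Finset.sum_apply, Pi.smul_apply, smul_eq_mul]
    have hϑy : ϑ y = (χ : G → ℂ) (x * (y : G)) := by rw [hϑ]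
    rw [← hϑy, hexp]
    symm
    rw [sum_eq_sum_blocks (M := M) (fun ψ : IrrCharacter (Subgroup.centralizer ({x} : Set G)) =>
      classInner ϑ (ψ : Subgroup.centralizer ({x} : Set G) → ℂ)
          * (ψ : Subgroup.centralizer ({x} : Set G) → ℂ) y)]
    apply Finset.sum_eq_single (principalBlock M (Subgroup.centralizer ({x} : Set G)))
    · intro b hb hne
      have hb' := (mem_blocksFinset b).mp hb
      have hnot : ¬ IsInducedBlock M (Subgroup.centralizer ({x} : Set G)) b
          (principalBlock M G) := by
        intro hind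
        exact hne ((third_main hM _ b _ hind).mp rfl)
      have := second_main_char hM x k hx (principalBlock M G) hBG χ hχ b hb' hnot y hy
      rw [← hϑ] at this
      exact this
    · intro h
      exact absurd ((mem_blocksFinset _).mpr hBC) h
  · rw [if_neg hχ]
    have hnot : ¬ IsInducedBlock M (Subgroup.centralizer ({x} : Set G))
        (principalBlock M (Subgroup.centralizer ({x} : Set G))) (blockOf M (χ : G → ℂ)) := by
      intro hind
      apply hχ
      have := (third_main hM _ _ _ hind).mpr rfl
      rw [← this]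
      exact sameBlock_refl hMtop _
    have := second_main_char hM x k hx (blockOf M (χ : G → ℂ)) ⟨χ, rfl⟩ χ
      (sameBlock_refl hMtop _) _ hBC hnot y hy
    rw [← hϑ] at this
    exact this

end Cfsg.Agent.Lib.helper3.Block
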