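import Mathlib
import Cfsg.Prelude.Def_Blocks
import Cfsg.Agent.Lib.helper3.PrincSection
import Cfsg.Agent.Lib.helper3.ProjVanish6
import Cfsg.Agent.Lib.helper3.Irr7
import Cfsg.Agent.Lib.helper3.RegPairInd

/-!
# Sums of squares over the principal block on a `p`-section
-/

set_option autoImplicit false
set_option linter.style.haveILetI false
set_option linter.unusedSectionVars false

namespace Cfsg.Agent.Lib.helper3.Block

open Cfsg Module Cfsg.Agent.Lib.helper3.CharBasic Cfsg.Agent.Lib.helper3.Irr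
open Cfsg.Agent.Lib.helper3.Central Cfsg.Agent.Lib.helper3.LocalM Cfsg.Agent.Lib.helper3.IndFun
open Cfsg.Agent.Lib.helper3.Lin Cfsg.Agent.Lib.helper3.HallNilp
open scoped ComplexConjugate

universe u

variable {G : Type u} [Group G] [Fintype G] {M : Ideal AlgInt}

/-- A `p`-element `z` is a power of `z * c` for `c` a `p`-regular element commuting with `z`,
with an exponent depending only on a multiple `n'` of the order of `c`. -/
theorem exists_zpow_eq_of_commute {p : ℕ} (hp : p.Prime) (z : G) (k : ℕ) (hz : orderOf z = p ^ k)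
    (n' : ℕ) (hn' : ¬ p ∣ n') :
    ∃ m : ℤ, ∀ c : G, Commute z c → c ^ n' = 1 → (z * c) ^ m = z := by
  have hcop : IsCoprime ((p ^ k : ℕ) : ℤ) (n' : ℤ) :=
    Nat.isCoprime_iff_coprime.mpr
      (Nat.Coprime.pow_left k ((Nat.Prime.coprime_iff_not_dvd hp).mpr hn'))
  obtain ⟨u, v, huv⟩ := hcop
  refine ⟨v * (n' : ℤ), ?_⟩
  intro c hc hcn
  rw [hc.mul_zpow]
  have h1 : c ^ (v * (n' : ℤ)) = 1 := by
    rw [mul_comm, zpow_mul, zpow_natCast, hcn, one_zpow]
  have h2 : z ^ (v * (n' : ℤ)) = z := by
    have : z ^ (u * ((p ^ k : ℕ) : ℤ) + v * (n' : ℤ)) = z := by rw [huv, zpow_one]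
    rw [zpow_add, mul_comm u, zpow_mul, zpow_natCast, ← hz, pow_orderOf_eq_one, one_zpow,
      one_mul] at this
    exact this
  rw [h1, h2, mul_one]

/-- Conjugacy inside the `p`-section of `z` is controlled by the centralizer of `z`. -/
theorem card_conj_section {p : ℕ} (hp : p.Prime) (z : G) (k : ℕ) (hz : orderOf z = p ^ k)
    (c y : Subgroup.centralizer ({z} : Set G)) (hc : ¬ p ∣ orderOf c) (hy : ¬ p ∣ orderOf y) :
    Nat.card {t : G // t * (z * (y : G)) * t⁻¹ = z * (c : G)}
      = Nat.card {s : Subgroup.centralizer ({z} : Set G) // s * y * s⁻¹ = c} := by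
  have hcomm : ∀ d : Subgroup.centralizer ({z} : Set G), Commute z (d : G) :=
    fun d => (Subgroup.mem_centralizer_singleton_iff.mp d.2).symm
  obtain ⟨n', hn'def⟩ : ∃ n' : ℕ, n' = orderOf (y : G) * orderOf (c : G) := ⟨_, rfl⟩
  have hn' : ¬ p ∣ n' := by
    rw [hn'def]
    intro h
    rcases (Nat.Prime.dvd_mul hp).mp h with h1 | h1
    · exact hy (by rwa [Subgroup.orderOf_coe] at h1)
    · exact hc (by rwa [Subgroup.orderOf_coe] at h1)
  obtain ⟨m, hm⟩ := exists_zpow_eq_of_commute hp z k hz n' hn'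
  have hyn : (y : G) ^ n' = 1 := by
    rw [hn'def, pow_mul, pow_orderOf_eq_one, one_pow]
  have hcn : (c : G) ^ n' = 1 := by
    rw [hn'def, mul_comm, pow_mul, pow_orderOf_eq_one, one_pow]
  have hzy := hm (y : G) (hcomm y) hyn
  have hzc := hm (c : G) (hcomm c) hcn
  symm
  apply Nat.card_congr
  refine ⟨fun s => ⟨(s.1 : G), ?_⟩, fun t => ⟨⟨t.1, ?_⟩, ?_⟩, ?_, ?_⟩
  · have h1 := congrArg Subtype.val s.2
    push_cast at h1
    rw [← h1]
    have h2 : (s.1 : G) * z * (s.1 : G)⁻¹ = z := by
      rw [← (hcomm s.1).eq, mul_assoc, mul_inv_cancel, mul_one]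
    calc (s.1 : G) * (z * (y : G)) * (s.1 : G)⁻¹
        = ((s.1 : G) * z * (s.1 : G)⁻¹) * ((s.1 : G) * (y : G) * (s.1 : G)⁻¹) := by group
      _ = z * ((s.1 : G) * (y : G) * (s.1 : G)⁻¹) := by rw [h2]
  · have h1 : t.1 * (z * (y : G)) ^ m * t.1⁻¹ = (z * (c : G)) ^ m := by
      have h0 := congrArg (fun w : G => w ^ m) t.2
      beta_reduce at h0
      rw [← h0, conj_zpow]
    rw [hzy, hzc] at h1
    rw [Subgroup.mem_centralizer_singleton_iff]
    have : t.1 * z = z * t.1 := by
      calc t.1 * z = (t.1 * z * t.1⁻¹) * t.1 := by group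
        _ = z * t.1 := by rw [h1]
    exact this
  · apply Subtype.ext
    push_cast
    have h1 : t.1 * (z * (y : G)) ^ m * t.1⁻¹ = (z * (c : G)) ^ m := by
      have h0 := congrArg (fun w : G => w ^ m) t.2
      beta_reduce at h0
      rw [← h0, conj_zpow]
    rw [hzy, hzc] at h1
    have h2 := t.2
    have h3 : t.1 * (z * (y : G)) * t.1⁻¹ = (t.1 * z * t.1⁻¹) * (t.1 * (y : G) * t.1⁻¹) := by
      group
    rw [h3, h1] at h2
    exact mul_left_cancel h2
  · intro s
    rfl
  · intro t
    rfl

open Classical in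
/-- **Sums of squares on a `p`-section**: the sum over the principal block of `G` of
`|ζ (z y)|²` equals the sum over the principal block of `C_G(z)` of `|ψ y|²`. -/
theorem sum_principal_section_sq {p : ℕ} [hpf : Fact p.Prime] (hM : IsPModular p M) (z : G)
    (k : ℕ) (hz : orderOf z = p ^ k) [Fintype (Subgroup.centralizer ({z} : Set G))]
    (y : Subgroup.centralizer ({z} : Set G)) (hy : ¬ p ∣ orderOf y) :
    ∑ ζ : IrrCharacter G, (if ζ ∈ principalBlock M G then (1 : ℂ) else 0)
        * ((ζ : G → ℂ) (z * (y : G)) * conj ((ζ : G → ℂ) (z * (y : G))))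
      = ∑ ψ : IrrCharacter (Subgroup.centralizer ({z} : Set G)),
          (if ψ ∈ principalBlock M (Subgroup.centralizer ({z} : Set G)) then (1 : ℂ) else 0)
          * ((ψ : Subgroup.centralizer ({z} : Set G) → ℂ) y
            * conj ((ψ : Subgroup.centralizer ({z} : Set G) → ℂ) y)) := by
  haveI hMp := isPrime_of_isPModular hM
  have hMtop : M ≠ ⊤ := hM.2.1.ne_top
  have hp : p.Prime := hpf.out
  have hHC : (Nat.card (Subgroup.centralizer ({z} : Set G)) : ℂ) ≠ 0 :=
    card_ne_zero_complex _
  obtain ⟨Q, hQ⟩ : ∃ Q : IrrCharacter (Subgroup.centralizer ({z} : Set G)) → ℂ,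
      Q = fun ψ : IrrCharacter (Subgroup.centralizer ({z} : Set G)) =>
        if ψ ∈ principalBlock M (Subgroup.centralizer ({z} : Set G))
        then (1 : ℂ) else 0 := ⟨_, rfl⟩
  have hQapp : ∀ ψ, Q ψ = if ψ ∈ principalBlock M (Subgroup.centralizer ({z} : Set G))
        then (1 : ℂ) else 0 := fun ψ => by rw [hQ]
  simp_rw [← hQapp]
  obtain ⟨a, ha⟩ : ∃ a : IrrCharacter G → IrrCharacter (Subgroup.centralizer ({z} : Set G)) → ℂ,
      a = fun (ζ : IrrCharacter G) (ψ : IrrCharacter (Subgroup.centralizer ({z} : Set G))) =>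
        classInner (fun c : Subgroup.centralizer ({z} : Set G) =>
        (ζ : G → ℂ) (z * (c : G))) (ψ : Subgroup.centralizer ({z} : Set G) → ℂ) := ⟨_, rfl⟩
  have haapp : ∀ ζ ψ, a ζ ψ = (Nat.card (Subgroup.centralizer ({z} : Set G)) : ℂ)⁻¹
      * ∑ c : Subgroup.centralizer ({z} : Set G), (ζ : G → ℂ) (z * (c : G))
        * conj ((ψ : Subgroup.centralizer ({z} : Set G) → ℂ) c) := by
    intro ζ ψ
    rw [ha]
    beta_reduce
    rw [classInner_apply]
  have hps : ∀ ζ : IrrCharacter G,
      ∑ ψ : IrrCharacter (Subgroup.centralizer ({z} : Set G)),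
        Q ψ * (a ζ ψ * (ψ : Subgroup.centralizer ({z} : Set G) → ℂ) y)
      = if ζ ∈ principalBlock M G then (ζ : G → ℂ) (z * (y : G)) else 0 := by
    intro ζ
    have := principal_section hM z k hz ζ y hy
    rw [← this, ha]
    apply Finset.sum_congr rfl
    intro ψ _
    rw [hQapp]
  -- the numbers of conjugating elements
  obtain ⟨NG, hNG⟩ : ∃ NG : Subgroup.centralizer ({z} : Set G) → ℂ,
      NG = fun c : Subgroup.centralizer ({z} : Set G) =>
        (Nat.card {t : G // t * (z * (y : G)) * t⁻¹ = z * (c : G)} : ℂ) := ⟨_, rfl⟩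
  obtain ⟨W, hW⟩ : ∃ W : Subgroup.centralizer ({z} : Set G) → ℂ,
      W = fun c : Subgroup.centralizer ({z} : Set G) =>
        ∑ ψ : IrrCharacter (Subgroup.centralizer ({z} : Set G)),
        Q ψ * ((ψ : Subgroup.centralizer ({z} : Set G) → ℂ) y
          * conj ((ψ : Subgroup.centralizer ({z} : Set G) → ℂ) c)) := ⟨_, rfl⟩
  have hWapp : ∀ c, W c = ∑ ψ : IrrCharacter (Subgroup.centralizer ({z} : Set G)),
        Q ψ * ((ψ : Subgroup.centralizer ({z} : Set G) → ℂ) y
          * conj ((ψ : Subgroup.centralizer ({z} : Set G) → ℂ) c)) := fun c => by rw [hW]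
  have hclosed : ∀ θ ∈ principalBlock M (Subgroup.centralizer ({z} : Set G)),
      blockOf M (θ : Subgroup.centralizer ({z} : Set G) → ℂ)
        ⊆ principalBlock M (Subgroup.centralizer ({z} : Set G)) := by
    intro θ hθ φ hφ
    exact sameBlock_trans hθ hφ
  have hWsing : ∀ c : Subgroup.centralizer ({z} : Set G), p ∣ orderOf c → W c = 0 := by
    intro c hc
    rw [hWapp]
    have := weak_block_orthogonality hM
      (principalBlock M (Subgroup.centralizer ({z} : Set G))) hclosed y c hy hc
    rw [← this]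
    apply Finset.sum_congr rfl
    intro ψ _
    rw [hQapp]
  -- step 1
  have hstep1 : ∑ ζ : IrrCharacter G, (if ζ ∈ principalBlock M G then (1 : ℂ) else 0)
        * ((ζ : G → ℂ) (z * (y : G)) * conj ((ζ : G → ℂ) (z * (y : G))))
      = (Nat.card (Subgroup.centralizer ({z} : Set G)) : ℂ)⁻¹
        * ∑ c : Subgroup.centralizer ({z} : Set G), NG c * W c := by
    have e1 : ∀ ζ : IrrCharacter G, (if ζ ∈ principalBlock M G then (1 : ℂ) else 0)
        * ((ζ : G → ℂ) (z * (y : G)) * conj ((ζ : G → ℂ) (z * (y : G))))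
        = ∑ ψ : IrrCharacter (Subgroup.centralizer ({z} : Set G)),
          Q ψ * (a ζ ψ * (ψ : Subgroup.centralizer ({z} : Set G) → ℂ) y)
            * conj ((ζ : G → ℂ) (z * (y : G))) := by
      intro ζ
      rw [← Finset.sum_mul, hps ζ]
      split_ifs <;> ring
    rw [Finset.sum_congr rfl (fun ζ _ => e1 ζ), Finset.sum_comm]
    have e2 : ∀ ψ : IrrCharacter (Subgroup.centralizer ({z} : Set G)),
        ∑ ζ : IrrCharacter G, Q ψ * (a ζ ψ * (ψ : Subgroup.centralizer ({z} : Set G) → ℂ) y)
            * conj ((ζ : G → ℂ) (z * (y : G)))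
        = (Nat.card (Subgroup.centralizer ({z} : Set G)) : ℂ)⁻¹
          * ∑ c : Subgroup.centralizer ({z} : Set G), NG c
            * (Q ψ * ((ψ : Subgroup.centralizer ({z} : Set G) → ℂ) y
              * conj ((ψ : Subgroup.centralizer ({z} : Set G) → ℂ) c))) := by
      intro ψ
      have e3 : ∀ ζ : IrrCharacter G,
          Q ψ * (a ζ ψ * (ψ : Subgroup.centralizer ({z} : Set G) → ℂ) y)
            * conj ((ζ : G → ℂ) (z * (y : G)))
          = (Nat.card (Subgroup.centralizer ({z} : Set G)) : ℂ)⁻¹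
            * ∑ c : Subgroup.centralizer ({z} : Set G),
              (Q ψ * ((ψ : Subgroup.centralizer ({z} : Set G) → ℂ) y
                * conj ((ψ : Subgroup.centralizer ({z} : Set G) → ℂ) c)))
              * ((ζ : G → ℂ) (z * (c : G)) * conj ((ζ : G → ℂ) (z * (y : G)))) := by
        intro ζ
        rw [haapp]
        have e7 : Q ψ * ((Nat.card (Subgroup.centralizer ({z} : Set G)) : ℂ)⁻¹
            * (∑ c : Subgroup.centralizer ({z} : Set G), (ζ : G → ℂ) (z * (c : G))
              * conj ((ψ : Subgroup.centralizer ({z} : Set G) → ℂ) c))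
              * (ψ : Subgroup.centralizer ({z} : Set G) → ℂ) y)
            * conj ((ζ : G → ℂ) (z * (y : G)))
            = ∑ c : Subgroup.centralizer ({z} : Set G),
              (Q ψ * (Nat.card (Subgroup.centralizer ({z} : Set G)) : ℂ)⁻¹
                * (ψ : Subgroup.centralizer ({z} : Set G) → ℂ) y
                * conj ((ζ : G → ℂ) (z * (y : G))))
              * ((ζ : G → ℂ) (z * (c : G))
                * conj ((ψ : Subgroup.centralizer ({z} : Set G) → ℂ) c)) := by
          rw [← Finset.mul_sum]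
          ring
        rw [e7, Finset.mul_sum]
        apply Finset.sum_congr rfl
        intro c _
        ring
      rw [Finset.sum_congr rfl (fun ζ _ => e3 ζ), ← Finset.mul_sum, Finset.sum_comm]
      congr 1
      apply Finset.sum_congr rfl
      intro c _
      rw [← Finset.mul_sum, sum_irr_mul_conj, hNG]
      ring
    rw [Finset.sum_congr rfl (fun ψ _ => e2 ψ), ← Finset.mul_sum, Finset.sum_comm]
    congr 1
    apply Finset.sum_congr rfl
    intro c _
    rw [hWapp, Finset.mul_sum]
  -- step 2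
  have hstep2 : ∀ c : Subgroup.centralizer ({z} : Set G), NG c * W c
      = (∑ ψ' : IrrCharacter (Subgroup.centralizer ({z} : Set G)),
          (ψ' : Subgroup.centralizer ({z} : Set G) → ℂ) c
            * conj ((ψ' : Subgroup.centralizer ({z} : Set G) → ℂ) y)) * W c := by
    intro c
    by_cases hc : p ∣ orderOf c
    · rw [hWsing c hc, mul_zero, mul_zero]
    · rw [sum_irr_mul_conj, hNG]
      beta_reduce
      rw [card_conj_section hp z k hz c y hc hy]
  rw [hstep1, Finset.sum_congr rfl (fun c _ => hstep2 c)]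
  -- step 3
  have e4 : ∀ c : Subgroup.centralizer ({z} : Set G),
      (∑ ψ' : IrrCharacter (Subgroup.centralizer ({z} : Set G)),
          (ψ' : Subgroup.centralizer ({z} : Set G) → ℂ) c
            * conj ((ψ' : Subgroup.centralizer ({z} : Set G) → ℂ) y)) * W c
      = ∑ ψ' : IrrCharacter (Subgroup.centralizer ({z} : Set G)),
        ∑ ψ : IrrCharacter (Subgroup.centralizer ({z} : Set G)),
          (Q ψ * conj ((ψ' : Subgroup.centralizer ({z} : Set G) → ℂ) y)
            * (ψ : Subgroup.centralizer ({z} : Set G) → ℂ) y)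
          * ((ψ' : Subgroup.centralizer ({z} : Set G) → ℂ) c
            * conj ((ψ : Subgroup.centralizer ({z} : Set G) → ℂ) c)) := by
    intro c
    rw [hWapp, Finset.sum_mul]
    apply Finset.sum_congr rfl
    intro ψ' _
    rw [Finset.mul_sum]
    apply Finset.sum_congr rfl
    intro ψ _
    ring
  rw [Finset.sum_congr rfl (fun c _ => e4 c), Finset.sum_comm]
  rw [Finset.mul_sum]
  have e5 : ∀ ψ' : IrrCharacter (Subgroup.centralizer ({z} : Set G)),
      (Nat.card (Subgroup.centralizer ({z} : Set G)) : ℂ)⁻¹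
        * ∑ c : Subgroup.centralizer ({z} : Set G),
          ∑ ψ : IrrCharacter (Subgroup.centralizer ({z} : Set G)),
          (Q ψ * conj ((ψ' : Subgroup.centralizer ({z} : Set G) → ℂ) y)
            * (ψ : Subgroup.centralizer ({z} : Set G) → ℂ) y)
          * ((ψ' : Subgroup.centralizer ({z} : Set G) → ℂ) c
            * conj ((ψ : Subgroup.centralizer ({z} : Set G) → ℂ) c))
      = Q ψ' * ((ψ' : Subgroup.centralizer ({z} : Set G) → ℂ) y
            * conj ((ψ' : Subgroup.centralizer ({z} : Set G) → ℂ) y)) := by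
    intro ψ'
    rw [Finset.sum_comm]
    have e6 : ∀ ψ : IrrCharacter (Subgroup.centralizer ({z} : Set G)),
        ∑ c : Subgroup.centralizer ({z} : Set G),
          (Q ψ * conj ((ψ' : Subgroup.centralizer ({z} : Set G) → ℂ) y)
            * (ψ : Subgroup.centralizer ({z} : Set G) → ℂ) y)
          * ((ψ' : Subgroup.centralizer ({z} : Set G) → ℂ) c
            * conj ((ψ : Subgroup.centralizer ({z} : Set G) → ℂ) c))
        = (Q ψ * conj ((ψ' : Subgroup.centralizer ({z} : Set G) → ℂ) y)
            * (ψ : Subgroup.centralizer ({z} : Set G) → ℂ) y)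
          * (if ψ' = ψ then (Nat.card (Subgroup.centralizer ({z} : Set G)) : ℂ) else 0) := by
      intro ψ
      rw [← Finset.mul_sum, sum_irr_mul_conj_eq]
    rw [Finset.sum_congr rfl (fun ψ _ => e6 ψ)]
    rw [Finset.sum_eq_single ψ']
    · rw [if_pos rfl]
      field_simp
    · intro ψ _ hne
      rw [if_neg (fun h => hne h.symm), mul_zero]
    · intro h
      exact absurd (Finset.mem_univ _) h
  rw [Finset.sum_congr rfl (fun ψ' _ => e5 ψ')]

open Classical in
/-- If `G` has the normal `p`-complement `K`, the sum of `|ψ y|²` over the principal block, for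
`y` a `p`-regular element, is the index of `K`. -/
theorem sum_principal_sq_of_normal_pcomplement {p : ℕ} [hpf : Fact p.Prime] (hM : IsPModular p M)
    (K : Subgroup G) [hK : K.Normal] (hKp : (Nat.card K).Coprime p) (k : ℕ)
    (hidx : K.index = p ^ k) (y : G) (hy : ¬ p ∣ orderOf y) :
    ∑ ψ : IrrCharacter G, (if ψ ∈ principalBlock M G then (1 : ℂ) else 0)
        * ((ψ : G → ℂ) y * conj ((ψ : G → ℂ) y)) = (K.index : ℂ) := by
  haveI hMp := isPrime_of_isPModular hM
  have hMtop : M ≠ ⊤ := hM.2.1.ne_top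
  have hp : p.Prime := hpf.out
  haveI : Fintype K := Fintype.ofFinite _
  have hK0 : Nat.card K ≠ 0 := Nat.card_pos.ne'
  have hKC : (Nat.card K : ℂ) ≠ 0 := by exact_mod_cast hK0
  have hpK : ¬ p ∣ Nat.card K := by
    intro h
    exact hp.one_lt.ne' (Nat.Coprime.eq_one_of_dvd hKp.symm h)
  -- the `p`-regular elements are the elements of `K`
  have hreg : ∀ g : G, ¬ p ∣ orderOf g ↔ g ∈ K := by
    intro g
    constructor
    · intro hg
      have h1 : g ^ (p ^ k) ∈ K := by
        rw [← hidx, ← QuotientGroup.eq_one_iff, QuotientGroup.mk_pow]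
        have : Nat.card (G ⧸ K) = K.index := rfl
        rw [← this]
        exact pow_card_eq_one'
      have hcop : IsCoprime ((p ^ k : ℕ) : ℤ) (orderOf g : ℤ) :=
        Nat.isCoprime_iff_coprime.mpr
          (Nat.Coprime.pow_left k ((Nat.Prime.coprime_iff_not_dvd hp).mpr hg))
      obtain ⟨u, v, huv⟩ := hcop
      have h2 : g = (g ^ (p ^ k)) ^ u := by
        have : g ^ (u * ((p ^ k : ℕ) : ℤ) + v * (orderOf g : ℤ)) = g := by rw [huv, zpow_one]
        rw [zpow_add, mul_comm u, zpow_mul, zpow_natCast, mul_comm v, zpow_mul, zpow_natCast,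
          pow_orderOf_eq_one, one_zpow, mul_one] at this
        exact this.symm
      rw [h2]
      exact K.zpow_mem h1 u
    · intro hg h
      exact hpK (dvd_trans h (Subgroup.orderOf_dvd_natCard K hg))
  -- the principal block consists of the characters with `K` in the kernel
  have hkey : ∀ ψ : IrrCharacter G,
      (if ψ ∈ principalBlock M G then (1 : ℂ) else 0) * (ψ : G → ℂ) 1
        = (Nat.card K : ℂ)⁻¹ * ∑ h : K, (ψ : G → ℂ) (h : G) := by
    intro ψ
    obtain ⟨d, ρ, hirr, hρ, hker⟩ := exists_rep_ker_iff ψ.2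
    haveI := hirr
    have hψ1 := apply_one_ne_zero ψ.2
    rcases normal_trivial_or_sum_eq_zero ρ K with h | h
    · have hval : ∀ g ∈ K, (ψ : G → ℂ) g = (ψ : G → ℂ) 1 := fun g hg => (hker g).mpr (h g hg)
      have hmem : ψ ∈ principalBlock M G := by
        apply mem_principalBlock_of_regOmega (p := p) hM ψ
        have hro : regOmega p (ψ : G → ℂ) = (Nat.card K : ℂ) := by
          unfold regOmega
          have e1 : ∀ g : G, (if p ∣ orderOf g then (0 : ℂ) else 1)
              * ((ψ : G → ℂ) g / (ψ : G → ℂ) 1) = if g ∈ K then 1 else 0 := by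
            intro g
            by_cases hg : g ∈ K
            · rw [if_neg ((hreg g).mpr hg), if_pos hg, hval g hg, div_self hψ1, one_mul]
            · rw [if_pos (by
                by_contra hcon
                exact hg ((hreg g).mp hcon)), if_neg hg, zero_mul]
          rw [Finset.sum_congr rfl (fun g _ => e1 g), Finset.sum_boole]
          congr 1
          rw [Nat.card_eq_fintype_card]
          exact (Fintype.card_of_subtype _ (by intro x; simp)).symm
        rw [hro]
        have := not_memLocalIdeal_intCast hM ((Nat.card K : ℕ) : ℤ) (by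
          intro hd
          exact hpK (Int.natCast_dvd_natCast.mp hd))
        simpa using this
      rw [if_pos hmem, one_mul]
      have : ∑ h : K, (ψ : G → ℂ) (h : G) = (Nat.card K : ℂ) * (ψ : G → ℂ) 1 := by
        rw [Finset.sum_congr rfl (fun (h : K) _ => hval (h : G) h.2), Finset.sum_const,
          Finset.card_univ, nsmul_eq_mul, Nat.card_eq_fintype_card]
      rw [this]
      field_simp
    · have hsum : ∑ h : K, (ψ : G → ℂ) (h : G) = 0 := by
        rw [hρ]
        exact h
      have hnot : ψ ∉ principalBlock M G := by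
        intro hmem
        have hval : ∀ g ∈ K, (ψ : G → ℂ) g = (ψ : G → ℂ) 1 :=
          fun g hg => apply_eq_of_mem_normal_coprime hM K hKp ψ hmem g hg
        rw [Finset.sum_congr rfl (fun (h : K) _ => hval (h : G) h.2), Finset.sum_const,
          Finset.card_univ, nsmul_eq_mul, ← Nat.card_eq_fintype_card] at hsum
        rcases mul_eq_zero.mp hsum with h1 | h1
        · exact hKC h1
        · exact hψ1 h1
      rw [if_neg hnot, zero_mul, hsum, mul_zero]
  have hyK : y ∈ K := (hreg y).mp hy
  have e2 : ∀ ψ : IrrCharacter G, (if ψ ∈ principalBlock M G then (1 : ℂ) else 0)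
        * ((ψ : G → ℂ) y * conj ((ψ : G → ℂ) y))
      = ((Nat.card K : ℂ)⁻¹ * ∑ h : K, (ψ : G → ℂ) (h : G)) * conj ((ψ : G → ℂ) 1) := by
    intro ψ
    rw [← hkey ψ]
    by_cases hmem : ψ ∈ principalBlock M G
    · rw [if_pos hmem, apply_eq_of_mem_normal_coprime hM K hKp ψ hmem y hyK]
      ring
    · rw [if_neg hmem, zero_mul, zero_mul, zero_mul]
  rw [Finset.sum_congr rfl (fun ψ _ => e2 ψ)]
  have e3 : ∑ ψ : IrrCharacter G, ((Nat.card K : ℂ)⁻¹ * ∑ h : K, (ψ : G → ℂ) (h : G))
        * conj ((ψ : G → ℂ) 1)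
      = (Nat.card K : ℂ)⁻¹ * ∑ h : K, ∑ ψ : IrrCharacter G,
          (ψ : G → ℂ) (h : G) * conj ((ψ : G → ℂ) 1) := by
    rw [Finset.sum_comm, Finset.mul_sum]
    apply Finset.sum_congr rfl
    intro ψ _
    rw [mul_assoc, Finset.sum_mul]
  rw [e3]
  have e4 : ∀ h : K, ∑ ψ : IrrCharacter G, (ψ : G → ℂ) (h : G) * conj ((ψ : G → ℂ) 1)
      = if h = 1 then (Nat.card G : ℂ) else 0 := by
    intro h
    rw [sum_irr_mul_conj]
    by_cases hh : h = 1
    · rw [if_pos hh, hh]
      congr 1
      apply Nat.card_congr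
      exact ⟨fun t => t.1, fun t => ⟨t, by simp⟩, fun t => rfl, fun t => rfl⟩
    · rw [if_neg hh]
      have : IsEmpty {t : G // t * 1 * t⁻¹ = (h : G)} := by
        constructor
        rintro ⟨t, ht⟩
        apply hh
        apply Subtype.ext
        rw [← ht]
        simp
      rw [Nat.card_of_isEmpty, Nat.cast_zero]
  rw [Finset.sum_congr rfl (fun h _ => e4 h), Finset.sum_ite_eq' Finset.univ (1 : K),
    if_pos (Finset.mem_univ _)]
  have hmul : Nat.card G = Nat.card K * K.index := (Subgroup.card_mul_index K).symm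
  rw [hmul]
  push_cast
  field_simp

open Classical in
/-- A finite sum of squared norms over a set, as a complex number. -/
theorem ofReal_finsum_mem_norm_sq {α : Type*} [Fintype α] (B : Set α) (f : α → ℂ) :
    (((∑ᶠ a ∈ B, ‖f a‖ ^ 2 : ℝ)) : ℂ)
      = ∑ a : α, (if a ∈ B then (1 : ℂ) else 0) * (f a * conj (f a)) := by
  rw [finsum_mem_def, finsum_eq_sum_of_fintype, Complex.ofReal_sum]
  apply Finset.sum_congr rfl
  intro a _
  by_cases h : a ∈ B
  · rw [Set.indicator_of_mem h, if_pos h, one_mul, Complex.mul_conj, Complex.normSq_eq_norm_sq]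
  · rw [Set.indicator_of_notMem h, if_neg h, zero_mul, Complex.ofReal_zero]

end Cfsg.Agent.Lib.helper3.Block
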