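import Mathlib
import Cfsg.Prelude.Def_Blocks
import Cfsg.Agent.Lib.helper3.PrincSection2
import Cfsg.Agent.Lib.helper3.ExtFirstMain1

/-!
# Sums of squares over a block on a `p`-section
-/

set_option autoImplicit false
set_option linter.style.haveILetI false
set_option linter.unusedSectionVars false

namespace Cfsg.Agent.Lib.helper3.Block

open Cfsg Module Cfsg.Agent.Lib.helper3.CharBasic Cfsg.Agent.Lib.helper3.Irr
open Cfsg.Agent.Lib.helper3.Central Cfsg.Agent.Lib.helper3.LocalM Cfsg.Agent.Lib.helper3.IndFun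
open Cfsg.Agent.Lib.helper3.Lin Cfsg.Agent.Lib.helper3.HallNilp
open scoped ComplexConjugate

universe u

variable {G : Type u} [Group G] [Fintype G] {M : Ideal AlgInt}

/-- The irreducible characters of the centralizer of `z` whose block induces `B`. -/
def secSet (M : Ideal AlgInt) (z : G) (B : Set (IrrCharacter G)) :
    Set (IrrCharacter (Subgroup.centralizer ({z} : Set G))) :=
  {ψ | IsInducedBlock M (Subgroup.centralizer ({z} : Set G))
    (blockOf M (ψ : Subgroup.centralizer ({z} : Set G) → ℂ)) B}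

theorem blockOf_eq_of_mem [hMp : M.IsPrime] {H : Type*} [Group H] [Fintype H]
    (θ φ : IrrCharacter H) (h : φ ∈ blockOf M (θ : H → ℂ)) :
    blockOf M (φ : H → ℂ) = blockOf M (θ : H → ℂ) := by
  have hMtop : M ≠ ⊤ := hMp.ne_top
  exact isPBlock_eq_of_mem ⟨φ, rfl⟩ ⟨θ, rfl⟩ φ (sameBlock_refl hMtop _) h

theorem secSet_closed [hMp : M.IsPrime] (z : G) (B : Set (IrrCharacter G))
    [Fintype (Subgroup.centralizer ({z} : Set G))]
    (θ : IrrCharacter (Subgroup.centralizer ({z} : Set G))) (hθ : θ ∈ secSet M z B) :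
    blockOf M (θ : Subgroup.centralizer ({z} : Set G) → ℂ) ⊆ secSet M z B := by
  intro φ hφ
  show IsInducedBlock M _ (blockOf M (φ : Subgroup.centralizer ({z} : Set G) → ℂ)) B
  rw [blockOf_eq_of_mem θ φ hφ]
  exact hθ

open Classical in
/-- The values of `χ` on the `p`-section of the `p`-element `x`, in terms of the blocks of the
centralizer of `x` inducing a given block `B`. -/
theorem block_section {p : ℕ} [hpf : Fact p.Prime] (hM : IsPModular p M) (x : G) (k : ℕ)
    (hx : orderOf x = p ^ k) (B : Set (IrrCharacter G)) (hB : IsPBlock M B) (χ : IrrCharacter G)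
    [Fintype (Subgroup.centralizer ({x} : Set G))]
    (y : Subgroup.centralizer ({x} : Set G)) (hy : ¬ p ∣ orderOf y) :
    ∑ ψ : IrrCharacter (Subgroup.centralizer ({x} : Set G)),
      (if ψ ∈ secSet M x B then (1 : ℂ) else 0)
      * (classInner (fun c : Subgroup.centralizer ({x} : Set G) => (χ : G → ℂ) (x * (c : G)))
          (ψ : Subgroup.centralizer ({x} : Set G) → ℂ)
        * (ψ : Subgroup.centralizer ({x} : Set G) → ℂ) y)
      = if χ ∈ B then (χ : G → ℂ) (x * (y : G)) else 0 := by
  haveI hMp := isPrime_of_isPModular hM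
  have hMtop : M ≠ ⊤ := hM.2.1.ne_top
  have hχcf := isClassFunction_of_isCharacter (isCharacter_of_isIrrCharacter χ.2)
  have hcomm : ∀ c : Subgroup.centralizer ({x} : Set G), x * (c : G) = (c : G) * x :=
    fun c => (Subgroup.mem_centralizer_singleton_iff.mp c.2).symm
  obtain ⟨ϑ, hϑ⟩ : ∃ ϑ : Subgroup.centralizer ({x} : Set G) → ℂ,
      ϑ = fun c : Subgroup.centralizer ({x} : Set G) => (χ : G → ℂ) (x * (c : G)) := ⟨_, rfl⟩
  have hϑcf : IsClassFunction (Subgroup.centralizer ({x} : Set G)) ϑ := by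
    intro c t
    rw [hϑ]
    show (χ : G → ℂ) (x * ((t * c * t⁻¹ : Subgroup.centralizer ({x} : Set G)) : G))
      = (χ : G → ℂ) (x * (c : G))
    have e1 : x * ((t * c * t⁻¹ : Subgroup.centralizer ({x} : Set G)) : G)
        = (t : G) * (x * (c : G)) * (t : G)⁻¹ := by
      push_cast
      rw [← mul_assoc, ← mul_assoc, hcomm t]
      group
    rw [e1, hχcf]
  rw [← hϑ]
  obtain ⟨f, hf⟩ : ∃ f : IrrCharacter (Subgroup.centralizer ({x} : Set G)) → ℂ,
      f = fun ψ : IrrCharacter (Subgroup.centralizer ({x} : Set G)) =>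
        classInner ϑ (ψ : Subgroup.centralizer ({x} : Set G) → ℂ)
          * (ψ : Subgroup.centralizer ({x} : Set G) → ℂ) y := ⟨_, rfl⟩
  have hfapp : ∀ ψ : IrrCharacter (Subgroup.centralizer ({x} : Set G)), classInner ϑ (ψ : Subgroup.centralizer ({x} : Set G) → ℂ)
          * (ψ : Subgroup.centralizer ({x} : Set G) → ℂ) y = f ψ := fun ψ => by rw [hf]
  simp_rw [hfapp]
  have hexp : ϑ y = ∑ ψ : IrrCharacter (Subgroup.centralizer ({x} : Set G)), f ψ := by
    have h1 := classFunction_eq_sum ϑ hϑcf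
    conv_lhs => rw [h1]
    simp only [Finset.sum_apply, Pi.smul_apply, smul_eq_mul]
    apply Finset.sum_congr rfl
    intro ψ _
    rw [hfapp]
  have hϑy : ϑ y = (χ : G → ℂ) (x * (y : G)) := by rw [hϑ]
  -- the block sums
  have hT0 : ∀ b ∈ blocksFinset M (Subgroup.centralizer ({x} : Set G)),
      ¬ IsInducedBlock M (Subgroup.centralizer ({x} : Set G)) b (blockOf M (χ : G → ℂ)) →
      ∑ ψ : IrrCharacter (Subgroup.centralizer ({x} : Set G)),
        (if ψ ∈ b then (1 : ℂ) else 0) * f ψ = 0 := by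
    intro b hb hnot
    have hb' := (mem_blocksFinset b).mp hb
    have := second_main_char hM x k hx (blockOf M (χ : G → ℂ)) ⟨χ, rfl⟩ χ
      (sameBlock_refl hMtop _) b hb' hnot y hy
    rw [← hϑ] at this
    simp_rw [hfapp] at this
    exact this
  have hsec : ∀ b ∈ blocksFinset M (Subgroup.centralizer ({x} : Set G)),
      ∀ ψ : IrrCharacter (Subgroup.centralizer ({x} : Set G)), ψ ∈ b →
      (ψ ∈ secSet M x B ↔ IsInducedBlock M (Subgroup.centralizer ({x} : Set G)) b B) := by
    intro b hb ψ hψ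
    have hb' := (mem_blocksFinset b).mp hb
    have : blockOf M (ψ : Subgroup.centralizer ({x} : Set G) → ℂ) = b :=
      isPBlock_eq_of_mem ⟨ψ, rfl⟩ hb' ψ (sameBlock_refl hMtop _) hψ
    show IsInducedBlock M _ (blockOf M (ψ : Subgroup.centralizer ({x} : Set G) → ℂ)) B ↔ _
    rw [this]
  rw [sum_eq_sum_blocks (M := M) (fun ψ : IrrCharacter (Subgroup.centralizer ({x} : Set G)) =>
    (if ψ ∈ secSet M x B then (1 : ℂ) else 0) * f ψ)]
  by_cases hχ : χ ∈ B
  · rw [if_pos hχ, ← hϑy, hexp, sum_eq_sum_blocks (M := M) f]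
    have hBeq : B = blockOf M (χ : G → ℂ) :=
      isPBlock_eq_of_mem hB ⟨χ, rfl⟩ χ hχ (sameBlock_refl hMtop _)
    apply Finset.sum_congr rfl
    intro b hb
    by_cases hind : IsInducedBlock M (Subgroup.centralizer ({x} : Set G)) b B
    · apply Finset.sum_congr rfl
      intro ψ _
      by_cases hψ : ψ ∈ b
      · rw [if_pos ((hsec b hb ψ hψ).mpr hind), one_mul]
      · rw [if_neg hψ, zero_mul, zero_mul]
    · rw [hT0 b hb (by rw [← hBeq]; exact hind)]
      apply Finset.sum_eq_zero
      intro ψ _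
      by_cases hψ : ψ ∈ b
      · rw [if_neg (fun h => hind ((hsec b hb ψ hψ).mp h)), zero_mul, mul_zero]
      · rw [if_neg hψ, zero_mul]
  · rw [if_neg hχ]
    apply Finset.sum_eq_zero
    intro b hb
    by_cases hind : IsInducedBlock M (Subgroup.centralizer ({x} : Set G)) b B
    · have hnot : ¬ IsInducedBlock M (Subgroup.centralizer ({x} : Set G)) b
          (blockOf M (χ : G → ℂ)) := by
        intro h'
        apply hχ
        rw [isInducedBlock_unique _ b B _ hind h']
        exact sameBlock_refl hMtop _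
      refine Eq.trans ?_ (hT0 b hb hnot)
      apply Finset.sum_congr rfl
      intro ψ _
      by_cases hψ : ψ ∈ b
      · rw [if_pos ((hsec b hb ψ hψ).mpr hind), one_mul]
      · rw [if_neg hψ, zero_mul, zero_mul]
    · apply Finset.sum_eq_zero
      intro ψ _
      by_cases hψ : ψ ∈ b
      · rw [if_neg (fun h => hind ((hsec b hb ψ hψ).mp h)), zero_mul, mul_zero]
      · rw [if_neg hψ, zero_mul]


open Classical in
/-- **Sums of squares on a `p`-section**: the sum over the block `B` of `G` of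
`|ζ (z y)|²` equals the sum over the blocks of `C_G(z)` inducing `B` of `|ψ y|²`. -/
theorem sum_block_section_sq {p : ℕ} [hpf : Fact p.Prime] (hM : IsPModular p M) (z : G)
    (k : ℕ) (hz : orderOf z = p ^ k) (B : Set (IrrCharacter G)) (hB : IsPBlock M B)
    [Fintype (Subgroup.centralizer ({z} : Set G))]
    (y : Subgroup.centralizer ({z} : Set G)) (hy : ¬ p ∣ orderOf y) :
    ∑ ζ : IrrCharacter G, (if ζ ∈ B then (1 : ℂ) else 0)
        * ((ζ : G → ℂ) (z * (y : G)) * conj ((ζ : G → ℂ) (z * (y : G))))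
      = ∑ ψ : IrrCharacter (Subgroup.centralizer ({z} : Set G)),
          (if ψ ∈ secSet M z B then (1 : ℂ) else 0)
          * ((ψ : Subgroup.centralizer ({z} : Set G) → ℂ) y
            * conj ((ψ : Subgroup.centralizer ({z} : Set G) → ℂ) y)) := by
  haveI hMp := isPrime_of_isPModular hM
  have hMtop : M ≠ ⊤ := hM.2.1.ne_top
  have hp : p.Prime := hpf.out
  have hHC : (Nat.card (Subgroup.centralizer ({z} : Set G)) : ℂ) ≠ 0 :=
    card_ne_zero_complex _
  obtain ⟨Q, hQ⟩ : ∃ Q : IrrCharacter (Subgroup.centralizer ({z} : Set G)) → ℂ,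
      Q = fun ψ : IrrCharacter (Subgroup.centralizer ({z} : Set G)) =>
        if ψ ∈ secSet M z B
        then (1 : ℂ) else 0 := ⟨_, rfl⟩
  have hQapp : ∀ ψ, Q ψ = if ψ ∈ secSet M z B
        then (1 : ℂ) else 0 := fun ψ => by rw [hQ]
  simp_rw [← hQapp]
  obtain ⟨a, ha⟩ : ∃ a : IrrCharacter G → IrrCharacter (Subgroup.centralizer ({z} : Set G)) → ℂ,
      a = fun (ζ : IrrCharacter G) (ψ : IrrCharacter (Subgroup.centralizer ({z} : Set G))) =>
        classInner (fun c : Subgroup.centralizer ({z} : Set G) =>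
        (ζ : G → ℂ) (z * (c : G))) (ψ : Subgroup.centralizer ({z} : Set G) → ℂ) := ⟨_, rfl⟩
  have haapp : ∀ ζ ψ, a ζ ψ = (Nat.card (Subgroup.centralizer ({z} : Set G)) : ℂ)⁻¹
      * ∑ c : Subgroup.centralizer ({z} : Set G), (ζ : G → ℂ) (z * (c : G))
        * conj ((ψ : Subgroup.centralizer ({z} : Set G) → ℂ) c) := by
    intro ζ ψ
    rw [ha]
    beta_reduce
    rw [classInner_apply]
  have hps : ∀ ζ : IrrCharacter G,
      ∑ ψ : IrrCharacter (Subgroup.centralizer ({z} : Set G)),
        Q ψ * (a ζ ψ * (ψ : Subgroup.centralizer ({z} : Set G) → ℂ) y)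
      = if ζ ∈ B then (ζ : G → ℂ) (z * (y : G)) else 0 := by
    intro ζ
    have := block_section hM z k hz B hB ζ y hy
    rw [← this, ha]
    apply Finset.sum_congr rfl
    intro ψ _
    rw [hQapp]
  -- the numbers of conjugating elements
  obtain ⟨NG, hNG⟩ : ∃ NG : Subgroup.centralizer ({z} : Set G) → ℂ,
      NG = fun c : Subgroup.centralizer ({z} : Set G) =>
        (Nat.card {t : G // t * (z * (y : G)) * t⁻¹ = z * (c : G)} : ℂ) := ⟨_, rfl⟩
  obtain ⟨W, hW⟩ : ∃ W : Subgroup.centralizer ({z} : Set G) → ℂ,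
      W = fun c : Subgroup.centralizer ({z} : Set G) =>
        ∑ ψ : IrrCharacter (Subgroup.centralizer ({z} : Set G)),
        Q ψ * ((ψ : Subgroup.centralizer ({z} : Set G) → ℂ) y
          * conj ((ψ : Subgroup.centralizer ({z} : Set G) → ℂ) c)) := ⟨_, rfl⟩
  have hWapp : ∀ c, W c = ∑ ψ : IrrCharacter (Subgroup.centralizer ({z} : Set G)),
        Q ψ * ((ψ : Subgroup.centralizer ({z} : Set G) → ℂ) y
          * conj ((ψ : Subgroup.centralizer ({z} : Set G) → ℂ) c)) := fun c => by rw [hW]
  have hclosed : ∀ θ ∈ secSet M z B,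
      blockOf M (θ : Subgroup.centralizer ({z} : Set G) → ℂ)
        ⊆ secSet M z B := by
    intro θ hθ φ hφ
    exact secSet_closed z B θ hθ hφ
  have hWsing : ∀ c : Subgroup.centralizer ({z} : Set G), p ∣ orderOf c → W c = 0 := by
    intro c hc
    rw [hWapp]
    have := weak_block_orthogonality hM
      (secSet M z B) hclosed y c hy hc
    rw [← this]
    apply Finset.sum_congr rfl
    intro ψ _
    rw [hQapp]
  -- step 1
  have hstep1 : ∑ ζ : IrrCharacter G, (if ζ ∈ B then (1 : ℂ) else 0)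
        * ((ζ : G → ℂ) (z * (y : G)) * conj ((ζ : G → ℂ) (z * (y : G))))
      = (Nat.card (Subgroup.centralizer ({z} : Set G)) : ℂ)⁻¹
        * ∑ c : Subgroup.centralizer ({z} : Set G), NG c * W c := by
    have e1 : ∀ ζ : IrrCharacter G, (if ζ ∈ B then (1 : ℂ) else 0)
        * ((ζ : G → ℂ) (z * (y : G)) * conj ((ζ : G → ℂ) (z * (y : G))))
        = ∑ ψ : IrrCharacter (Subgroup.centralizer ({z} : Set G)),
          Q ψ * (a ζ ψ * (ψ : Subgroup.centralizer ({z} : Set G) → ℂ) y)
            * conj ((ζ : G → ℂ) (z * (y : G))) := by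
      intro ζ
      rw [← Finset.sum_mul, hps ζ]
      split_ifs <;> ring
    rw [Finset.sum_congr rfl (fun ζ _ => e1 ζ), Finset.sum_comm]
    have e2 : ∀ ψ : IrrCharacter (Subgroup.centralizer ({z} : Set G)),
        ∑ ζ : IrrCharacter G, Q ψ * (a ζ ψ * (ψ : Subgroup.centralizer ({z} : Set G) → ℂ) y)
            * conj ((ζ : G → ℂ) (z * (y : G)))
        = (Nat.card (Subgroup.centralizer ({z} : Set G)) : ℂ)⁻¹
          * ∑ c : Subgroup.centralizer ({z} : Set G), NG c
            * (Q ψ * ((ψ : Subgroup.centralizer ({z} : Set G) → ℂ) y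
              * conj ((ψ : Subgroup.centralizer ({z} : Set G) → ℂ) c))) := by
      intro ψ
      have e3 : ∀ ζ : IrrCharacter G,
          Q ψ * (a ζ ψ * (ψ : Subgroup.centralizer ({z} : Set G) → ℂ) y)
            * conj ((ζ : G → ℂ) (z * (y : G)))
          = (Nat.card (Subgroup.centralizer ({z} : Set G)) : ℂ)⁻¹
            * ∑ c : Subgroup.centralizer ({z} : Set G),
              (Q ψ * ((ψ : Subgroup.centralizer ({z} : Set G) → ℂ) y
                * conj ((ψ : Subgroup.centralizer ({z} : Set G) → ℂ) c)))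
              * ((ζ : G → ℂ) (z * (c : G)) * conj ((ζ : G → ℂ) (z * (y : G)))) := by
        intro ζ
        rw [haapp]
        have e7 : Q ψ * ((Nat.card (Subgroup.centralizer ({z} : Set G)) : ℂ)⁻¹
            * (∑ c : Subgroup.centralizer ({z} : Set G), (ζ : G → ℂ) (z * (c : G))
              * conj ((ψ : Subgroup.centralizer ({z} : Set G) → ℂ) c))
              * (ψ : Subgroup.centralizer ({z} : Set G) → ℂ) y)
            * conj ((ζ : G → ℂ) (z * (y : G)))
            = ∑ c : Subgroup.centralizer ({z} : Set G),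
              (Q ψ * (Nat.card (Subgroup.centralizer ({z} : Set G)) : ℂ)⁻¹
                * (ψ : Subgroup.centralizer ({z} : Set G) → ℂ) y
                * conj ((ζ : G → ℂ) (z * (y : G))))
              * ((ζ : G → ℂ) (z * (c : G))
                * conj ((ψ : Subgroup.centralizer ({z} : Set G) → ℂ) c)) := by
          rw [← Finset.mul_sum]
          ring
        rw [e7, Finset.mul_sum]
        apply Finset.sum_congr rfl
        intro c _
        ring
      rw [Finset.sum_congr rfl (fun ζ _ => e3 ζ), ← Finset.mul_sum, Finset.sum_comm]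
      congr 1
      apply Finset.sum_congr rfl
      intro c _
      rw [← Finset.mul_sum, sum_irr_mul_conj, hNG]
      ring
    rw [Finset.sum_congr rfl (fun ψ _ => e2 ψ), ← Finset.mul_sum, Finset.sum_comm]
    congr 1
    apply Finset.sum_congr rfl
    intro c _
    rw [hWapp, Finset.mul_sum]
  -- step 2
  have hstep2 : ∀ c : Subgroup.centralizer ({z} : Set G), NG c * W c
      = (∑ ψ' : IrrCharacter (Subgroup.centralizer ({z} : Set G)),
          (ψ' : Subgroup.centralizer ({z} : Set G) → ℂ) c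
            * conj ((ψ' : Subgroup.centralizer ({z} : Set G) → ℂ) y)) * W c := by
    intro c
    by_cases hc : p ∣ orderOf c
    · rw [hWsing c hc, mul_zero, mul_zero]
    · rw [sum_irr_mul_conj, hNG]
      beta_reduce
      rw [card_conj_section hp z k hz c y hc hy]
  rw [hstep1, Finset.sum_congr rfl (fun c _ => hstep2 c)]
  -- step 3
  have e4 : ∀ c : Subgroup.centralizer ({z} : Set G),
      (∑ ψ' : IrrCharacter (Subgroup.centralizer ({z} : Set G)),
          (ψ' : Subgroup.centralizer ({z} : Set G) → ℂ) c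
            * conj ((ψ' : Subgroup.centralizer ({z} : Set G) → ℂ) y)) * W c
      = ∑ ψ' : IrrCharacter (Subgroup.centralizer ({z} : Set G)),
        ∑ ψ : IrrCharacter (Subgroup.centralizer ({z} : Set G)),
          (Q ψ * conj ((ψ' : Subgroup.centralizer ({z} : Set G) → ℂ) y)
            * (ψ : Subgroup.centralizer ({z} : Set G) → ℂ) y)
          * ((ψ' : Subgroup.centralizer ({z} : Set G) → ℂ) c
            * conj ((ψ : Subgroup.centralizer ({z} : Set G) → ℂ) c)) := by
    intro c
    rw [hWapp, Finset.sum_mul]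
    apply Finset.sum_congr rfl
    intro ψ' _
    rw [Finset.mul_sum]
    apply Finset.sum_congr rfl
    intro ψ _
    ring
  rw [Finset.sum_congr rfl (fun c _ => e4 c), Finset.sum_comm]
  rw [Finset.mul_sum]
  have e5 : ∀ ψ' : IrrCharacter (Subgroup.centralizer ({z} : Set G)),
      (Nat.card (Subgroup.centralizer ({z} : Set G)) : ℂ)⁻¹
        * ∑ c : Subgroup.centralizer ({z} : Set G),
          ∑ ψ : IrrCharacter (Subgroup.centralizer ({z} : Set G)),
          (Q ψ * conj ((ψ' : Subgroup.centralizer ({z} : Set G) → ℂ) y)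
            * (ψ : Subgroup.centralizer ({z} : Set G) → ℂ) y)
          * ((ψ' : Subgroup.centralizer ({z} : Set G) → ℂ) c
            * conj ((ψ : Subgroup.centralizer ({z} : Set G) → ℂ) c))
      = Q ψ' * ((ψ' : Subgroup.centralizer ({z} : Set G) → ℂ) y
            * conj ((ψ' : Subgroup.centralizer ({z} : Set G) → ℂ) y)) := by
    intro ψ'
    rw [Finset.sum_comm]
    have e6 : ∀ ψ : IrrCharacter (Subgroup.centralizer ({z} : Set G)),
        ∑ c : Subgroup.centralizer ({z} : Set G),
          (Q ψ * conj ((ψ' : Subgroup.centralizer ({z} : Set G) → ℂ) y)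
            * (ψ : Subgroup.centralizer ({z} : Set G) → ℂ) y)
          * ((ψ' : Subgroup.centralizer ({z} : Set G) → ℂ) c
            * conj ((ψ : Subgroup.centralizer ({z} : Set G) → ℂ) c))
        = (Q ψ * conj ((ψ' : Subgroup.centralizer ({z} : Set G) → ℂ) y)
            * (ψ : Subgroup.centralizer ({z} : Set G) → ℂ) y)
          * (if ψ' = ψ then (Nat.card (Subgroup.centralizer ({z} : Set G)) : ℂ) else 0) := by
      intro ψ
      rw [← Finset.mul_sum, sum_irr_mul_conj_eq]
    rw [Finset.sum_congr rfl (fun ψ _ => e6 ψ)]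
    rw [Finset.sum_eq_single ψ']
    · rw [if_pos rfl]
      field_simp
    · intro ψ _ hne
      rw [if_neg (fun h => hne h.symm), mul_zero]
    · intro h
      exact absurd (Finset.mem_univ _) h
  rw [Finset.sum_congr rfl (fun ψ' _ => e5 ψ')]

end Cfsg.Agent.Lib.helper3.Block
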