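import Mathlib
import Cfsg.Prelude.Def_Blocks
import Cfsg.Prelude.Def_BlockRank
import Cfsg.Agent.Lib.helper3.ProjVanish7
import Cfsg.Agent.Lib.helper3.Irr6
import Cfsg.Agent.Lib.helper3.HallNilp

/-!
# The `p`-regular rank of a block as a trace
-/

set_option autoImplicit false
set_option linter.style.haveILetI false
set_option linter.unusedSectionVars false

namespace Cfsg.Agent.Lib.helper3.Block

open Cfsg Cfsg.Agent.Lib.helper3.LocalM Cfsg.Agent.Lib.helper3.CharBasic
open Cfsg.Agent.Lib.helper3.Irr Cfsg.Agent.Lib.helper3.GalPow Cfsg.Agent.Lib.helper3.IndFun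
open Cfsg.Agent.Lib.helper3.HallNilp
open scoped ComplexConjugate

variable {G : Type*} [Group G] [Fintype G] {M : Ideal AlgInt}

open Classical in
/-- Truncation of a function to the `p`-regular elements, as a linear map. -/
noncomputable def truncReg (p : ℕ) : (G → ℂ) →ₗ[ℂ] (G → ℂ) where
  toFun f := fun g => (if p ∣ orderOf g then (0 : ℂ) else 1) * f g
  map_add' f₁ f₂ := by
    funext g
    simp only [Pi.add_apply]
    ring
  map_smul' c f := by
    funext g
    simp only [Pi.smul_apply, smul_eq_mul, RingHom.id_apply]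
    ring

open Classical in
theorem truncReg_apply (p : ℕ) (f : G → ℂ) (g : G) :
    truncReg p f g = (if p ∣ orderOf g then (0 : ℂ) else 1) * f g := rfl

theorem truncReg_truncReg (p : ℕ) (f : G → ℂ) : truncReg p (truncReg p f) = truncReg p f := by
  classical
  funext g
  rw [truncReg_apply, truncReg_apply]
  split_ifs
  · rw [zero_mul, zero_mul]
  · rw [one_mul]

theorem pRegularPart_eq_truncReg (p : ℕ) (f : G → ℂ) : pRegularPart p f = truncReg p f := by
  classical
  funext g
  rw [truncReg_apply]
  unfold pRegularPart IsPRegular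
  by_cases h : p ∣ orderOf g
  · rw [if_pos h, zero_mul]
    simp [h]
  · rw [if_neg h, one_mul]
    simp [h]

theorem isClassFunction_truncReg (p : ℕ) {f : G → ℂ} (hf : IsClassFunction G f) :
    IsClassFunction G (truncReg p f) := by
  classical
  intro g h
  rw [truncReg_apply, truncReg_apply, orderOf_conj', hf g h]

/-- The inner product with a fixed function, as a linear form. -/
noncomputable def innerL (χ : G → ℂ) : (G → ℂ) →ₗ[ℂ] ℂ where
  toFun f := classInner f χ
  map_add' f₁ f₂ := classInner_add_left f₁ f₂ χ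
  map_smul' c f := by
    rw [classInner_smul_left]
    rfl

theorem innerL_apply (χ f : G → ℂ) : innerL χ f = classInner f χ := rfl

open Classical in
/-- Projection to the block followed by truncation to the `p`-regular elements. -/
noncomputable def blockT (p : ℕ) (B : Set (IrrCharacter G)) : (G → ℂ) →ₗ[ℂ] (G → ℂ) :=
  ∑ χ : IrrCharacter G, (if χ ∈ B then (1 : ℂ) else 0)
    • (innerL (χ : G → ℂ)).smulRight (truncReg p (χ : G → ℂ))

open Classical in
theorem blockT_apply (p : ℕ) (B : Set (IrrCharacter G)) (f : G → ℂ) :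
    blockT p B f = ∑ χ : IrrCharacter G, (if χ ∈ B then (1 : ℂ) else 0)
      • (classInner f (χ : G → ℂ) • truncReg p (χ : G → ℂ)) := by
  unfold blockT
  rw [LinearMap.sum_apply]
  apply Finset.sum_congr rfl
  intro χ _
  rw [LinearMap.smul_apply, LinearMap.smulRight_apply, innerL_apply]

theorem blockT_truncReg {p : ℕ} (hM : IsPModular p M) (B : Set (IrrCharacter G))
    (hB : ∀ θ ∈ B, blockOf M (θ : G → ℂ) ⊆ B) (ψ : IrrCharacter G) (hψ : ψ ∈ B) :
    blockT p B (truncReg p (ψ : G → ℂ)) = truncReg p (ψ : G → ℂ) := by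
  classical
  have hcf : IsClassFunction G (truncReg p (ψ : G → ℂ)) :=
    isClassFunction_truncReg p (isClassFunction_of_isCharacter (isCharacter_of_isIrrCharacter ψ.2))
  have h1 := classFunction_eq_sum _ hcf
  have h2 := congrArg (truncReg p) h1
  rw [truncReg_truncReg, map_sum] at h2
  rw [blockT_apply]
  conv_rhs => rw [h2]
  apply Finset.sum_congr rfl
  intro χ _
  rw [map_smul]
  by_cases hχ : χ ∈ B
  · rw [if_pos hχ, one_smul]
  · rw [if_neg hχ, zero_smul]
    have hne : ¬ SameBlock M (ψ : G → ℂ) (χ : G → ℂ) := by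
      intro h
      exact hχ (hB ψ hψ h)
    have h3 := regular_orthogonality hM ψ χ hne
    have h4 : classInner (truncReg p (ψ : G → ℂ)) (χ : G → ℂ) = 0 := by
      rw [classInner_apply]
      have h5 : ∀ g : G, truncReg p (ψ : G → ℂ) g * conj ((χ : G → ℂ) g)
          = (if p ∣ orderOf g then (0 : ℂ) else 1) * ((ψ : G → ℂ) g * conj ((χ : G → ℂ) g)) := by
        intro g
        rw [truncReg_apply, mul_assoc]
      rw [Finset.sum_congr rfl (fun g _ => h5 g), h3, mul_zero]
    rw [h4, zero_smul]

theorem isProj_blockT {p : ℕ} (hM : IsPModular p M) (B : Set (IrrCharacter G))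
    (hB : ∀ θ ∈ B, blockOf M (θ : G → ℂ) ⊆ B) :
    LinearMap.IsProj (Submodule.span ℂ
      ((fun χ : IrrCharacter G => pRegularPart p (χ : G → ℂ)) '' B)) (blockT p B) := by
  classical
  constructor
  · intro f
    rw [blockT_apply]
    apply Submodule.sum_mem
    intro χ _
    by_cases hχ : χ ∈ B
    · rw [if_pos hχ, one_smul]
      apply Submodule.smul_mem
      apply Submodule.subset_span
      exact ⟨χ, hχ, pRegularPart_eq_truncReg p _⟩
    · rw [if_neg hχ, zero_smul]
      exact Submodule.zero_mem _
  · intro w hw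
    induction hw using Submodule.span_induction with
    | mem w hw =>
      obtain ⟨χ, hχ, rfl⟩ := hw
      beta_reduce
      rw [pRegularPart_eq_truncReg]
      exact blockT_truncReg hM B hB χ hχ
    | zero => exact map_zero _
    | add x y _ _ hx hy => rw [map_add, hx, hy]
    | smul c x _ hx => rw [map_smul, hx]

open Classical in
/-- The `p`-regular rank of a block is the trace of the truncated block projection. -/
theorem blockRank_eq_sum {p : ℕ} (hM : IsPModular p M) (B : Set (IrrCharacter G))
    (hB : ∀ θ ∈ B, blockOf M (θ : G → ℂ) ⊆ B) :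
    (blockRank p B : ℂ) = ∑ χ : IrrCharacter G, (if χ ∈ B then (1 : ℂ) else 0)
      * classInner (truncReg p (χ : G → ℂ)) (χ : G → ℂ) := by
  have h1 := (isProj_blockT hM B hB).trace
  unfold blockRank
  rw [← h1]
  unfold blockT
  rw [map_sum]
  apply Finset.sum_congr rfl
  intro χ _
  rw [map_smul, LinearMap.trace_smulRight, innerL_apply, smul_eq_mul]

end Cfsg.Agent.Lib.helper3.Block
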