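import Mathlib
import Cfsg.Prelude.Def_Blocks
import Cfsg.Agent.Lib.helper3.SecMain5
import Cfsg.Agent.Lib.helper3.Central
import Cfsg.Agent.Lib.helper3.HallNilp

/-!
# Summation over a finite group, section by section

Every element has a unique `p`-part; grouping the elements according to the conjugacy class of
their `p`-part expresses the sum of a class function as a sum over representatives `x` of the
classes of `p`-elements of sums over the `p`-regular elements of the centralizer of `x`.
-/

set_option autoImplicit false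
set_option linter.style.haveILetI false
set_option linter.unusedSectionVars false

namespace Cfsg.Agent.Lib.helper3.Block

open Cfsg Cfsg.Agent.Lib.helper3.Central Cfsg.Agent.Lib.helper3.HallNilp

variable {G : Type*} [Group G]

/-- The `p`-part of an element is unique. -/
theorem isPPart_unique [Finite G] {p : ℕ} (hp : p.Prime) {g u u' : G} (h : IsPPart p g u)
    (h' : IsPPart p g u') : u = u' := by
  obtain ⟨v, hg, hc, ⟨k, hk⟩, hv⟩ := h
  obtain ⟨v', hg', hc', ⟨k', hk'⟩, hv'⟩ := h'
  obtain ⟨n', hn'def⟩ : ∃ n' : ℕ, n' = orderOf v * orderOf v' := ⟨_, rfl⟩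
  have hn' : ¬ p ∣ n' := by
    rw [hn'def]
    intro h
    rcases (Nat.Prime.dvd_mul hp).mp h with h1 | h1
    · exact hv h1
    · exact hv' h1
  have hcop : IsCoprime ((p ^ (k + k') : ℕ) : ℤ) (n' : ℤ) :=
    Nat.isCoprime_iff_coprime.mpr
      (Nat.Coprime.pow_left _ ((Nat.Prime.coprime_iff_not_dvd hp).mpr hn'))
  obtain ⟨a, b, hab⟩ := hcop
  have hvn : v ^ n' = 1 := by rw [hn'def, pow_mul, pow_orderOf_eq_one, one_pow]
  have hv'n : v' ^ n' = 1 := by
    rw [hn'def, mul_comm, pow_mul, pow_orderOf_eq_one, one_pow]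
  have hup : u ^ (p ^ (k + k')) = 1 := by
    rw [pow_add, pow_mul, ← hk, pow_orderOf_eq_one, one_pow]
  have hu'p : u' ^ (p ^ (k + k')) = 1 := by
    rw [pow_add, mul_comm, pow_mul, ← hk', pow_orderOf_eq_one, one_pow]
  have key : ∀ (w z : G), Commute w z → w ^ (p ^ (k + k')) = 1 → z ^ n' = 1 →
      (w * z) ^ (b * (n' : ℤ)) = w := by
    intro w z hwz hw hz
    rw [hwz.mul_zpow]
    have h1 : z ^ (b * (n' : ℤ)) = 1 := by
      rw [mul_comm, zpow_mul, zpow_natCast, hz, one_zpow]
    have h2 : w ^ (b * (n' : ℤ)) = w := by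
      have : w ^ (a * ((p ^ (k + k') : ℕ) : ℤ) + b * (n' : ℤ)) = w := by rw [hab, zpow_one]
      rw [zpow_add, mul_comm a, zpow_mul, zpow_natCast, hw, one_zpow, one_mul] at this
      exact this
    rw [h1, h2, mul_one]
  have e1 := key u v hc hup hvn
  have e2 := key u' v' hc' hu'p hv'n
  rw [hg] at e1
  rw [hg'] at e2
  rw [← e1, ← e2]

/-- The `p`-part is compatible with conjugation. -/
theorem isPPart_conj {p : ℕ} {g u : G} (h : IsPPart p g u) (t : G) :
    IsPPart p (t * g * t⁻¹) (t * u * t⁻¹) := by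
  obtain ⟨v, hg, hc, ⟨k, hk⟩, hv⟩ := h
  refine ⟨t * v * t⁻¹, ?_, ?_, ⟨k, ?_⟩, ?_⟩
  · rw [← hg]
    group
  · have := hc.eq
    show t * u * t⁻¹ * (t * v * t⁻¹) = t * v * t⁻¹ * (t * u * t⁻¹)
    calc t * u * t⁻¹ * (t * v * t⁻¹) = t * (u * v) * t⁻¹ := by group
      _ = t * (v * u) * t⁻¹ := by rw [this]
      _ = t * v * t⁻¹ * (t * u * t⁻¹) := by group
  · rw [← hk]
    exact orderOf_conj' t u
  · rw [show orderOf (t * v * t⁻¹) = orderOf v from orderOf_conj' t v]
    exact hv

theorem isPPart_conj_iff {p : ℕ} (g u t : G) :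
    IsPPart p (t * g * t⁻¹) (t * u * t⁻¹) ↔ IsPPart p g u := by
  constructor
  · intro h
    have := isPPart_conj h t⁻¹
    rwa [show t⁻¹ * (t * g * t⁻¹) * t⁻¹⁻¹ = g by group,
      show t⁻¹ * (t * u * t⁻¹) * t⁻¹⁻¹ = u by group] at this
  · intro h
    exact isPPart_conj h t


open Classical in
/-- The sum of a class function over the elements with `p`-part `x`, as a sum over the
`p`-regular elements of the centralizer of `x`. -/
theorem sum_isPPart_eq [Fintype G] {p : ℕ} (x : G) (hx : ∃ k : ℕ, orderOf x = p ^ k)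
    (F : G → ℂ) :
    ∑ g : G, (if IsPPart p g x then F g else 0)
      = ∑ y : Subgroup.centralizer ({x} : Set G), if p ∣ orderOf y then 0 else F (x * (y : G)) := by
  have hinj : Function.Injective (fun y : Subgroup.centralizer ({x} : Set G) => x * (y : G)) := by
    intro y y' h
    exact Subtype.ext (mul_left_cancel h)
  have h1 : ∑ y : Subgroup.centralizer ({x} : Set G),
      (if p ∣ orderOf y then 0 else F (x * (y : G)))
      = ∑ y : Subgroup.centralizer ({x} : Set G),
        (fun g : G => if IsPPart p g x then F g else 0) (x * (y : G)) := by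
    apply Finset.sum_congr rfl
    intro y _
    beta_reduce
    have hiff : IsPPart p (x * (y : G)) x ↔ ¬ p ∣ orderOf y := by
      constructor
      · rintro ⟨v, hv, -, -, hpv⟩
        have : v = (y : G) := mul_left_cancel hv
        rw [this, Subgroup.orderOf_coe] at hpv
        exact hpv
      · intro hy
        refine ⟨(y : G), rfl, ?_, hx, ?_⟩
        · exact (Subgroup.mem_centralizer_singleton_iff.mp y.2).symm
        · rw [Subgroup.orderOf_coe]
          exact hy
    by_cases hy : p ∣ orderOf y
    · rw [if_pos hy, if_neg (fun h => (hiff.mp h) hy)]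
    · rw [if_neg hy, if_pos (hiff.mpr hy)]
  rw [h1, ← Finset.sum_image (f := fun g : G => if IsPPart p g x then F g else 0)
    (s := (Finset.univ : Finset (Subgroup.centralizer ({x} : Set G))))
    (g := fun y : Subgroup.centralizer ({x} : Set G) => x * (y : G))
    (fun a _ b _ h => hinj h)]
  symm
  apply Finset.sum_subset (Finset.subset_univ _)
  intro g _ hg
  rw [if_neg]
  rintro ⟨v, hv, hc, -, -⟩
  apply hg
  rw [Finset.mem_image]
  refine ⟨⟨v, ?_⟩, Finset.mem_univ _, hv⟩
  rw [Subgroup.mem_centralizer_singleton_iff]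
  exact hc.eq.symm

open Classical in
/-- **Summation by sections.** -/
theorem sum_eq_sum_sections [Fintype G] {p : ℕ} (hp : p.Prime) (X : Finset G)
    (hX : ∀ x ∈ X, ∃ k : ℕ, orderOf x = p ^ k)
    (hXrep : ∀ g : G, (∃ k : ℕ, orderOf g = p ^ k) → ∃! x, x ∈ X ∧ IsConj g x)
    (F : G → ℂ) (hF : ∀ g t : G, F (t * g * t⁻¹) = F g) :
    ∑ g : G, F g = ∑ x ∈ X, ((Subgroup.centralizer ({x} : Set G)).index : ℂ)
      * ∑ y : Subgroup.centralizer ({x} : Set G), if p ∣ orderOf y then 0 else F (x * (y : G)) := by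
  obtain ⟨S, hS⟩ : ∃ S : G → ℂ, S = fun u => ∑ g : G, (if IsPPart p g u then F g else 0) :=
    ⟨_, rfl⟩
  have hSapp : ∀ u, S u = ∑ g : G, (if IsPPart p g u then F g else 0) := fun u => by rw [hS]
  have hSconj : ∀ u t : G, S (t * u * t⁻¹) = S u := by
    intro u t
    rw [hSapp, hSapp]
    rw [← Equiv.sum_comp (MulAut.conj t).toEquiv]
    apply Finset.sum_congr rfl
    intro g _
    show (if IsPPart p (t * g * t⁻¹) (t * u * t⁻¹) then F (t * g * t⁻¹) else 0) = _
    rw [hF]
    by_cases h : IsPPart p g u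
    · rw [if_pos h, if_pos ((isPPart_conj_iff g u t).mpr h)]
    · rw [if_neg h, if_neg (fun h' => h ((isPPart_conj_iff g u t).mp h'))]
  have hone : ∀ g : G, ∑ x ∈ X, ∑ u : G,
      (if IsConj x u ∧ IsPPart p g u then (1 : ℂ) else 0) = 1 := by
    intro g
    obtain ⟨u₀, hu₀⟩ := exists_isPPart p hp g
    have hu₀p : ∃ k : ℕ, orderOf u₀ = p ^ k := hu₀.choose_spec.2.2.1
    obtain ⟨x₀, ⟨hx₀X, hx₀c⟩, hx₀u⟩ := hXrep u₀ hu₀p
    rw [Finset.sum_eq_single x₀]
    · rw [Finset.sum_eq_single u₀]
      · rw [if_pos ⟨hx₀c.symm, hu₀⟩]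
      · intro u _ hne
        rw [if_neg]
        rintro ⟨-, h⟩
        exact hne (isPPart_unique hp h hu₀)
      · intro h
        exact absurd (Finset.mem_univ _) h
    · intro x hxX hne
      apply Finset.sum_eq_zero
      intro u _
      rw [if_neg]
      rintro ⟨hc, h⟩
      have : u = u₀ := isPPart_unique hp h hu₀
      subst this
      exact hne (hx₀u x ⟨hxX, hc.symm⟩)
    · intro h
      exact absurd hx₀X h
  calc ∑ g : G, F g = ∑ g : G, F g * ∑ x ∈ X, ∑ u : G,
        (if IsConj x u ∧ IsPPart p g u then (1 : ℂ) else 0) := by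
        apply Finset.sum_congr rfl
        intro g _
        rw [hone g, mul_one]
    _ = ∑ x ∈ X, ∑ u : G, (if IsConj x u then S u else 0) := by
        simp_rw [Finset.mul_sum]
        rw [Finset.sum_comm]
        apply Finset.sum_congr rfl
        intro x _
        rw [Finset.sum_comm]
        apply Finset.sum_congr rfl
        intro u _
        by_cases hc : IsConj x u
        · rw [if_pos hc, hSapp]
          apply Finset.sum_congr rfl
          intro g _
          by_cases h : IsPPart p g u
          · rw [if_pos ⟨hc, h⟩, if_pos h, mul_one]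
          · rw [if_neg (fun h' => h h'.2), if_neg h, mul_zero]
        · rw [if_neg hc]
          apply Finset.sum_eq_zero
          intro g _
          rw [if_neg (fun h' => hc h'.1), mul_zero]
    _ = ∑ x ∈ X, ((Subgroup.centralizer ({x} : Set G)).index : ℂ) * S x := by
        apply Finset.sum_congr rfl
        intro x _
        have h1 : ∀ u : G, (if IsConj x u then S u else 0) = (if IsConj x u then S x else 0) := by
          intro u
          by_cases hc : IsConj x u
          · rw [if_pos hc, if_pos hc]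
            obtain ⟨t, ht⟩ := isConj_iff.mp hc
            rw [← ht, hSconj]
          · rw [if_neg hc, if_neg hc]
        rw [Finset.sum_congr rfl (fun u _ => h1 u), ← Finset.sum_filter, Finset.sum_const,
          card_class_eq_index, nsmul_eq_mul]
    _ = _ := by
        apply Finset.sum_congr rfl
        intro x hxX
        rw [hSapp, sum_isPPart_eq x (hX x hxX) F]

end Cfsg.Agent.Lib.helper3.Block
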