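import Mathlib
import Cfsg.Prelude.Def_Blocks
import Cfsg.Prelude.Def_BlockRank
import Cfsg.Agent.Lib.helper3.BlockSection
import Cfsg.Agent.Lib.helper3.SectionSum
import Cfsg.Agent.Lib.helper3.ProjVanish8
import Cfsg.Agent.Lib.helper3.Irr13
import Cfsg.Agent.S4667

/-!
# Brauer's count of the characters of a block by subsections
-/

set_option autoImplicit false
set_option linter.style.haveILetI false
set_option linter.unusedSectionVars false

namespace Cfsg.Agent.Lib.helper3.Block

open Cfsg Module Cfsg.Agent.Lib.helper3.CharBasic Cfsg.Agent.Lib.helper3.Irr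
open Cfsg.Agent.Lib.helper3.Central Cfsg.Agent.Lib.helper3.LocalM Cfsg.Agent.Lib.helper3.IndFun
open Cfsg.Agent.Lib.helper3.Lin Cfsg.Agent.Lib.helper3.HallNilp
open scoped ComplexConjugate

universe u

variable {G : Type u} [Group G] [Fintype G] {M : Ideal AlgInt}

open Classical in
/-- The sum over the `p`-regular elements of the centralizer of the `p`-element `x` of the sums of
squares over the blocks inducing `B`. -/
theorem sum_secSet_sq {p : ℕ} [hpf : Fact p.Prime] (hM : IsPModular p M) (x : G)
    (B : Set (IrrCharacter G)) [Fintype (Subgroup.centralizer ({x} : Set G))] :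
    ∑ y : Subgroup.centralizer ({x} : Set G), (if p ∣ orderOf y then (0 : ℂ) else
      ∑ ψ : IrrCharacter (Subgroup.centralizer ({x} : Set G)),
        (if ψ ∈ secSet M x B then (1 : ℂ) else 0)
          * ((ψ : Subgroup.centralizer ({x} : Set G) → ℂ) y
            * conj ((ψ : Subgroup.centralizer ({x} : Set G) → ℂ) y)))
      = (Nat.card (Subgroup.centralizer ({x} : Set G)) : ℂ)
        * ∑ᶠ b ∈ {b : Set (IrrCharacter (Subgroup.centralizer ({x} : Set G))) |
            IsInducedBlock M (Subgroup.centralizer ({x} : Set G)) b B}, (blockRank p b : ℂ) := by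
  haveI hMp := isPrime_of_isPModular hM
  have hMtop : M ≠ ⊤ := hM.2.1.ne_top
  have hset : {b : Set (IrrCharacter (Subgroup.centralizer ({x} : Set G))) |
      IsInducedBlock M (Subgroup.centralizer ({x} : Set G)) b B}
      = ↑((blocksFinset M (Subgroup.centralizer ({x} : Set G))).filter
        (fun b => IsInducedBlock M (Subgroup.centralizer ({x} : Set G)) b B)) := by
    ext b
    rw [Finset.coe_filter, Set.mem_setOf_eq, Set.mem_setOf_eq, mem_blocksFinset]
    exact ⟨fun h => ⟨h.1, h⟩, fun h => h.2⟩
  rw [hset, finsum_mem_coe_finset, Finset.mul_sum]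
  -- each block
  have hblock : ∀ b ∈ (blocksFinset M (Subgroup.centralizer ({x} : Set G))).filter
      (fun b => IsInducedBlock M (Subgroup.centralizer ({x} : Set G)) b B),
      (Nat.card (Subgroup.centralizer ({x} : Set G)) : ℂ) * (blockRank p b : ℂ)
      = ∑ y : Subgroup.centralizer ({x} : Set G), (if p ∣ orderOf y then (0 : ℂ) else
        ∑ ψ : IrrCharacter (Subgroup.centralizer ({x} : Set G)),
          (if ψ ∈ b then (1 : ℂ) else 0)
            * ((ψ : Subgroup.centralizer ({x} : Set G) → ℂ) y
              * conj ((ψ : Subgroup.centralizer ({x} : Set G) → ℂ) y))) := by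
    intro b hb
    rw [Finset.mem_filter, mem_blocksFinset] at hb
    rw [Cfsg.Agent.S4667.result p M hM b hb.1]
    apply Finset.sum_congr rfl
    intro y _
    rw [finsum_mem_set_eq_sum_ite]
    by_cases hy : p ∣ orderOf y
    · rw [if_pos hy]
      apply Finset.sum_eq_zero
      intro ψ _
      rw [pRegularPart_eq_truncReg, truncReg_apply, if_pos hy, zero_mul, zero_mul, mul_zero]
    · rw [if_neg hy]
      apply Finset.sum_congr rfl
      intro ψ _
      rw [pRegularPart_eq_truncReg, truncReg_apply, if_neg hy, one_mul,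
        isCharacter_apply_inv (isCharacter_of_isIrrCharacter ψ.2)]
  rw [Finset.sum_congr rfl hblock, Finset.sum_comm]
  apply Finset.sum_congr rfl
  intro y _
  by_cases hy : p ∣ orderOf y
  · simp_rw [if_pos hy]
    rw [Finset.sum_const_zero]
  · simp_rw [if_neg hy]
    rw [Finset.sum_comm]
    apply Finset.sum_congr rfl
    intro ψ _
    rw [← Finset.sum_mul]
    congr 1
    -- the indicator of the section set is the sum of the indicators of the blocks
    by_cases hψ : ψ ∈ secSet M x B
    · rw [if_pos hψ]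
      rw [Finset.sum_eq_single (blockOf M (ψ : Subgroup.centralizer ({x} : Set G) → ℂ))]
      · rw [if_pos]
        exact sameBlock_refl hMtop _
      · intro b hb hne
        rw [Finset.mem_filter, mem_blocksFinset] at hb
        rw [if_neg]
        intro hψb
        apply hne
        exact isPBlock_eq_of_mem hb.1 ⟨ψ, rfl⟩ ψ hψb (sameBlock_refl hMtop _)
      · intro h
        exfalso
        apply h
        rw [Finset.mem_filter, mem_blocksFinset]
        exact ⟨⟨ψ, rfl⟩, hψ⟩
    · rw [if_neg hψ]
      symm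
      apply Finset.sum_eq_zero
      intro b hb
      rw [Finset.mem_filter, mem_blocksFinset] at hb
      rw [if_neg]
      intro hψb
      apply hψ
      have : blockOf M (ψ : Subgroup.centralizer ({x} : Set G) → ℂ) = b :=
        isPBlock_eq_of_mem ⟨ψ, rfl⟩ hb.1 ψ (sameBlock_refl hMtop _) hψb
      show IsInducedBlock M _ (blockOf M (ψ : Subgroup.centralizer ({x} : Set G) → ℂ)) B
      rw [this]
      exact hb.2

open Classical in
/-- **Brauer's count of the irreducible characters of a block by subsections.** -/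
theorem card_block_eq_sum_blockRank {p : ℕ} [hpf : Fact p.Prime] (hM : IsPModular p M)
    (B : Set (IrrCharacter G)) (hB : IsPBlock M B) (X : Finset G)
    (hX : ∀ x ∈ X, ∃ k : ℕ, orderOf x = p ^ k)
    (hXrep : ∀ g : G, (∃ k : ℕ, orderOf g = p ^ k) → ∃! x, x ∈ X ∧ IsConj g x) :
    (Nat.card B : ℂ) = ∑ x ∈ X, ∑ᶠ b ∈ {b : Set (IrrCharacter (Subgroup.centralizer ({x} : Set G))) |
        IsInducedBlock M (Subgroup.centralizer ({x} : Set G)) b B}, (blockRank p b : ℂ) := by
  haveI hMp := isPrime_of_isPModular hM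
  have hMtop : M ≠ ⊤ := hM.2.1.ne_top
  have hG0 : (Nat.card G : ℂ) ≠ 0 := card_ne_zero_complex G
  obtain ⟨F, hF⟩ : ∃ F : G → ℂ, F = fun g => ∑ ζ : IrrCharacter G,
      (if ζ ∈ B then (1 : ℂ) else 0) * ((ζ : G → ℂ) g * conj ((ζ : G → ℂ) g)) := ⟨_, rfl⟩
  have hFapp : ∀ g, F g = ∑ ζ : IrrCharacter G,
      (if ζ ∈ B then (1 : ℂ) else 0) * ((ζ : G → ℂ) g * conj ((ζ : G → ℂ) g)) :=
    fun g => by rw [hF]
  have hFcl : ∀ g t : G, F (t * g * t⁻¹) = F g := by
    intro g t
    rw [hFapp, hFapp]
    apply Finset.sum_congr rfl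
    intro ζ _
    rw [isClassFunction_of_isCharacter (isCharacter_of_isIrrCharacter ζ.2) g t]
  have hsumF : ∑ g : G, F g = (Nat.card G : ℂ) * (Nat.card B : ℂ) := by
    simp_rw [hFapp]
    rw [Finset.sum_comm]
    have h1 : ∀ ζ : IrrCharacter G, ∑ g : G, (if ζ ∈ B then (1 : ℂ) else 0)
        * ((ζ : G → ℂ) g * conj ((ζ : G → ℂ) g))
        = (if ζ ∈ B then (1 : ℂ) else 0) * (Nat.card G : ℂ) := by
      intro ζ
      rw [← Finset.mul_sum, sum_irr_mul_conj_eq, if_pos rfl]
    rw [Finset.sum_congr rfl (fun ζ _ => h1 ζ), ← Finset.sum_mul, mul_comm]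
    congr 1
    rw [Finset.sum_ite, Finset.sum_const_zero, add_zero, Finset.sum_const, nsmul_eq_mul, mul_one,
      Nat.card_eq_fintype_card, Fintype.card_subtype]
  have hsec := sum_eq_sum_sections hpf.out X hX hXrep F hFcl
  rw [hsumF] at hsec
  have hx : ∀ x ∈ X, ((Subgroup.centralizer ({x} : Set G)).index : ℂ)
      * ∑ y : Subgroup.centralizer ({x} : Set G), (if p ∣ orderOf y then 0 else F (x * (y : G)))
      = (Nat.card G : ℂ) * ∑ᶠ b ∈ {b : Set (IrrCharacter (Subgroup.centralizer ({x} : Set G))) |
        IsInducedBlock M (Subgroup.centralizer ({x} : Set G)) b B}, (blockRank p b : ℂ) := by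
    intro x hxX
    obtain ⟨k, hk⟩ := hX x hxX
    have h1 : ∑ y : Subgroup.centralizer ({x} : Set G),
        (if p ∣ orderOf y then 0 else F (x * (y : G)))
        = ∑ y : Subgroup.centralizer ({x} : Set G), (if p ∣ orderOf y then (0 : ℂ) else
          ∑ ψ : IrrCharacter (Subgroup.centralizer ({x} : Set G)),
            (if ψ ∈ secSet M x B then (1 : ℂ) else 0)
              * ((ψ : Subgroup.centralizer ({x} : Set G) → ℂ) y
                * conj ((ψ : Subgroup.centralizer ({x} : Set G) → ℂ) y))) := by
      apply Finset.sum_congr rfl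
      intro y _
      by_cases hy : p ∣ orderOf y
      · rw [if_pos hy, if_pos hy]
      · rw [if_neg hy, if_neg hy, hFapp]
        exact sum_block_section_sq hM x k hk B hB y hy
    rw [h1, sum_secSet_sq hM x B, ← mul_assoc]
    congr 1
    have := Subgroup.card_mul_index (Subgroup.centralizer ({x} : Set G))
    rw [mul_comm]
    exact_mod_cast this
  rw [Finset.sum_congr rfl hx, ← Finset.mul_sum] at hsec
  exact mul_left_cancel₀ hG0 hsec

end Cfsg.Agent.Lib.helper3.Block
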