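import Mathlib
import Cfsg.Prelude.Def_Blocks
import Cfsg.Prelude.Def_BlockRank
import Cfsg.Prelude.Def_Transfer
import Cfsg.Agent.Lib.helper3.PrincSection
import Cfsg.Agent.Lib.helper3.ProjVanish6
import Cfsg.Agent.Lib.helper3.SecMain5
import Cfsg.Agent.Lib.Lead.NormalPComplement

/-!
# The principal block has `p`-regular rank one exactly when there is a normal `p`-complement
-/

set_option autoImplicit false
set_option linter.style.haveILetI false
set_option linter.unusedSectionVars false

namespace Cfsg.Agent.Lib.helper3.Block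

open Cfsg Module Cfsg.Agent.Lib.helper3.CharBasic Cfsg.Agent.Lib.helper3.Irr
open Cfsg.Agent.Lib.helper3.Central Cfsg.Agent.Lib.helper3.LocalM Cfsg.Agent.Lib.helper3.IndFun
open Cfsg.Agent.Lib.helper3.Lin Cfsg.Agent.Lib.helper3.HallNilp
open scoped ComplexConjugate

universe u

variable {G : Type u} [Group G] [Fintype G] {M : Ideal AlgInt}

theorem pRegularPart_of_reg {p : ℕ} (χ : G → ℂ) {g : G} (hg : ¬ p ∣ orderOf g) :
    pRegularPart p χ g = χ g := by
  unfold pRegularPart
  exact if_pos hg

theorem pRegularPart_of_sing {p : ℕ} (χ : G → ℂ) {g : G} (hg : p ∣ orderOf g) :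
    pRegularPart p χ g = 0 := by
  unfold pRegularPart
  exact if_neg (fun h => h hg)

/-- The rank of the principal block is one iff its characters are constant on the `p`-regular
elements. -/
theorem blockRank_principal_eq_one_iff_const {p : ℕ} [hpf : Fact p.Prime] (hM : IsPModular p M) :
    blockRank p (principalBlock M G) = 1 ↔
      ∀ χ ∈ principalBlock M G, ∀ g : G, ¬ p ∣ orderOf g → (χ : G → ℂ) g = (χ : G → ℂ) 1 := by
  have hMtop : M ≠ ⊤ := hM.2.1.ne_top
  have hp : p.Prime := hpf.out
  obtain ⟨v₀, hv₀⟩ : ∃ v₀ : G → ℂ, v₀ = pRegularPart p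
      ((Cfsg.Agent.Lib.helper3.PrincOnly.one G : IrrCharacter G) : G → ℂ) := ⟨_, rfl⟩
  have hone : Cfsg.Agent.Lib.helper3.PrincOnly.one G ∈ principalBlock M G :=
    sameBlock_refl hMtop _
  have hv₀mem : v₀ ∈ (fun χ : IrrCharacter G => pRegularPart p (χ : G → ℂ))
      '' principalBlock M G := ⟨_, hone, hv₀.symm⟩
  have hv₀1 : v₀ 1 = 1 := by
    rw [hv₀, pRegularPart_of_reg _ (by rw [orderOf_one]; exact hp.not_dvd_one)]
    rfl
  have hv₀reg : ∀ g : G, ¬ p ∣ orderOf g → v₀ g = 1 := by
    intro g hg
    rw [hv₀, pRegularPart_of_reg _ hg]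
    rfl
  have hv₀ne : v₀ ≠ 0 := by
    intro h
    rw [h] at hv₀1
    exact zero_ne_one hv₀1
  unfold blockRank
  constructor
  · intro hrank χ hχ g hg
    have hχmem : pRegularPart p (χ : G → ℂ) ∈ Submodule.span ℂ
        ((fun χ : IrrCharacter G => pRegularPart p (χ : G → ℂ)) '' principalBlock M G) :=
      Submodule.subset_span ⟨χ, hχ, rfl⟩
    have h1 := (finrank_eq_one_iff_of_nonzero'
      (⟨v₀, Submodule.subset_span hv₀mem⟩ : ↥(Submodule.span ℂ
        ((fun χ : IrrCharacter G => pRegularPart p (χ : G → ℂ)) '' principalBlock M G)))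
      (by
        intro h
        exact hv₀ne (congrArg Subtype.val h))).mp hrank ⟨_, hχmem⟩
    obtain ⟨c, hc⟩ := h1
    have hc' : c • v₀ = pRegularPart p (χ : G → ℂ) := congrArg Subtype.val hc
    have e1 := congrFun hc' 1
    have e2 := congrFun hc' g
    rw [Pi.smul_apply, smul_eq_mul, hv₀1, mul_one,
      pRegularPart_of_reg _ (by rw [orderOf_one]; exact hp.not_dvd_one)] at e1
    rw [Pi.smul_apply, smul_eq_mul, hv₀reg g hg, mul_one, pRegularPart_of_reg _ hg] at e2
    rw [← e2, e1]
  · intro hconst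
    have hspan : Submodule.span ℂ
        ((fun χ : IrrCharacter G => pRegularPart p (χ : G → ℂ)) '' principalBlock M G)
        = Submodule.span ℂ {v₀} := by
      apply le_antisymm
      · rw [Submodule.span_le]
        rintro _ ⟨χ, hχ, rfl⟩
        rw [SetLike.mem_coe, Submodule.mem_span_singleton]
        refine ⟨(χ : G → ℂ) 1, ?_⟩
        funext g
        rw [Pi.smul_apply, smul_eq_mul]
        beta_reduce
        by_cases hg : p ∣ orderOf g
        · rw [pRegularPart_of_sing _ hg, hv₀, pRegularPart_of_sing _ hg, mul_zero]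
        · rw [pRegularPart_of_reg _ hg, hv₀reg g hg, mul_one, hconst χ hχ g hg]
      · apply Submodule.span_mono
        rw [Set.singleton_subset_iff]
        exact hv₀mem
    rw [hspan]
    exact finrank_span_singleton hv₀ne

open Classical in
/-- **The rank of the principal block is one iff `G` has a normal `p`-complement.** -/
theorem blockRank_principal_eq_one_iff {p : ℕ} [hpf : Fact p.Prime] (hM : IsPModular p M) :
    blockRank p (principalBlock M G) = 1 ↔ HasNormalPComplement p G := by
  haveI hMp := isPrime_of_isPModular hM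
  have hMtop : M ≠ ⊤ := hM.2.1.ne_top
  have hp : p.Prime := hpf.out
  rw [blockRank_principal_eq_one_iff_const hM]
  constructor
  · intro hconst
    -- the kernel of the principal block
    have hrep : ∀ χ : IrrCharacter G, ∃ (n : ℕ) (ρ : Representation ℂ G (Fin n → ℂ)),
        ∀ g : G, (χ : G → ℂ) g = (χ : G → ℂ) 1 ↔ ρ g = LinearMap.id := by
      intro χ
      obtain ⟨n, ρ, -, -, h⟩ := exists_rep_ker_iff χ.2
      exact ⟨n, ρ, h⟩
    choose n ρ hρ using hrep
    obtain ⟨N, hNdef⟩ : ∃ N : Subgroup G, N = ⨅ χ : {χ : IrrCharacter G // χ ∈ principalBlock M G},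
        (ρ χ.1 : G →* ((Fin (n χ.1) → ℂ) →ₗ[ℂ] (Fin (n χ.1) → ℂ))).ker := ⟨_, rfl⟩
    have hNmem : ∀ g : G, g ∈ N ↔ ∀ χ ∈ principalBlock M G,
        (χ : G → ℂ) g = (χ : G → ℂ) 1 := by
      intro g
      rw [hNdef, Subgroup.mem_iInf]
      constructor
      · intro h χ hχ
        have := h ⟨χ, hχ⟩
        rw [MonoidHom.mem_ker] at this
        exact (hρ χ g).mpr this
      · intro h χ
        rw [MonoidHom.mem_ker]
        exact (hρ χ.1 g).mp (h χ.1 χ.2)
    haveI hNn : N.Normal := by
      rw [hNdef]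
      exact Subgroup.normal_iInf_normal (fun χ => MonoidHom.normal_ker _)
    have hregN : ∀ g : G, ¬ p ∣ orderOf g → g ∈ N := by
      intro g hg
      rw [hNmem]
      intro χ hχ
      exact hconst χ hχ g hg
    -- `N` has no `p`-singular elements
    have hclosed : ∀ θ ∈ principalBlock M G, blockOf M (θ : G → ℂ) ⊆ principalBlock M G := by
      intro θ hθ φ hφ
      exact sameBlock_trans hθ hφ
    have hNreg : ∀ g ∈ N, ¬ p ∣ orderOf g := by
      intro g hg hsing
      have h1 := weak_block_orthogonality hM (principalBlock M G) hclosed 1 g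
        (by rw [orderOf_one]; exact hp.not_dvd_one) hsing
      have h2 : ∀ χ : IrrCharacter G, (if χ ∈ principalBlock M G then (1 : ℂ) else 0)
          * ((χ : G → ℂ) 1 * conj ((χ : G → ℂ) g))
          = (((if χ ∈ principalBlock M G then (1 : ℝ) else 0)
            * ((charDegree (χ : G → ℂ) : ℕ) : ℝ) ^ 2 : ℝ) : ℂ) := by
        intro χ
        by_cases hχ : χ ∈ principalBlock M G
        · rw [if_pos hχ, if_pos hχ, (hNmem g).mp hg χ hχ, apply_one_eq_charDegree]
          rw [Complex.conj_natCast]
          push_cast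
          ring
        · rw [if_neg hχ, if_neg hχ]
          simp
      rw [Finset.sum_congr rfl (fun χ _ => h2 χ), ← Complex.ofReal_sum] at h1
      have h3 : ∑ χ : IrrCharacter G, (if χ ∈ principalBlock M G then (1 : ℝ) else 0)
          * ((charDegree (χ : G → ℂ) : ℕ) : ℝ) ^ 2 = 0 := by exact_mod_cast h1
      have h4 : 0 < ∑ χ : IrrCharacter G, (if χ ∈ principalBlock M G then (1 : ℝ) else 0)
          * ((charDegree (χ : G → ℂ) : ℕ) : ℝ) ^ 2 := by
        apply Finset.sum_pos'
        · intro χ _
          split_ifs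
          · positivity
          · simp
        · refine ⟨Cfsg.Agent.Lib.helper3.PrincOnly.one G, Finset.mem_univ _, ?_⟩
          have hmem1 : Cfsg.Agent.Lib.helper3.PrincOnly.one G ∈ principalBlock M G :=
            sameBlock_refl hMtop _
          rw [if_pos hmem1, one_mul]
          have : (charDegree ((Cfsg.Agent.Lib.helper3.PrincOnly.one G : IrrCharacter G) : G → ℂ) : ℝ)
              ≠ 0 := by
            exact_mod_cast charDegree_ne_zero _
          positivity
      rw [h3] at h4
      exact lt_irrefl _ h4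
    have hNcop : (Nat.card N).Coprime p := by
      rw [Nat.coprime_comm, Nat.Prime.coprime_iff_not_dvd hp]
      intro hdvd
      obtain ⟨x, hx⟩ := exists_prime_orderOf_dvd_card' p hdvd
      have : orderOf (x : G) = p := by rw [Subgroup.orderOf_coe, hx]
      exact hNreg (x : G) x.2 (by rw [this])
    -- the quotient is a `p`-group
    have hq : IsPGroup p (G ⧸ N) := by
      intro xbar
      obtain ⟨g, rfl⟩ := QuotientGroup.mk_surjective xbar
      obtain ⟨x, y, hxy, hcomm, ⟨k, hk⟩, hyreg⟩ := exists_isPPart p hp g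
      refine ⟨k, ?_⟩
      rw [← QuotientGroup.mk_pow, QuotientGroup.eq_one_iff, ← hxy]
      have hyN : y ∈ N := hregN y hyreg
      rw [hcomm.mul_pow, ← hk, pow_orderOf_eq_one, one_mul]
      exact N.pow_mem hyN _
    obtain ⟨k, hk⟩ := IsPGroup.iff_card.mp hq
    exact Cfsg.Agent.Lib.Lead.PComplement.hasNormalPComplement_of_normal N hNcop
      (n := k) (by rw [← hk]; rfl)
  · intro h χ hχ g hg
    obtain ⟨N, hN, hc, k, hk⟩ :=
      Cfsg.Agent.Lib.Lead.NormalPComplement.exists_normal_of_hasNormalPComplement h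
    haveI := hN
    have hgN : g ∈ N := by
      have h1 : g ^ (p ^ k) ∈ N := by
        rw [← hk, ← QuotientGroup.eq_one_iff, QuotientGroup.mk_pow]
        have : Nat.card (G ⧸ N) = N.index := rfl
        rw [← this]
        exact pow_card_eq_one'
      have hcop : IsCoprime ((p ^ k : ℕ) : ℤ) (orderOf g : ℤ) :=
        Nat.isCoprime_iff_coprime.mpr
          (Nat.Coprime.pow_left k ((Nat.Prime.coprime_iff_not_dvd hp).mpr hg))
      obtain ⟨u, v, huv⟩ := hcop
      have h2 : g = (g ^ (p ^ k)) ^ u := by
        have : g ^ (u * ((p ^ k : ℕ) : ℤ) + v * (orderOf g : ℤ)) = g := by rw [huv, zpow_one]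
        rw [zpow_add, mul_comm u, zpow_mul, zpow_natCast, mul_comm v, zpow_mul, zpow_natCast,
          pow_orderOf_eq_one, one_zpow, mul_one] at this
        exact this.symm
      rw [h2]
      exact N.zpow_mem h1 u
    exact apply_eq_of_mem_normal_coprime hM N hc χ hχ g hgN

end Cfsg.Agent.Lib.helper3.Block
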