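import Mathlib
import Cfsg.Prelude.Def_Blocks
import Cfsg.Prelude.Def_BlockRank
import Cfsg.Agent.Lib.helper3.BlockSection2
import Cfsg.Agent.Lib.helper3.IrrCongr
import Cfsg.Agent.Lib.helper3.PrincRank
import Cfsg.Agent.Lib.helper3.PrincIdem3
import Cfsg.Agent.Lib.helper3.SecMain11

/-!
# The number of characters of the principal block by subsections, and transport of its rank
-/

set_option autoImplicit false
set_option linter.style.haveILetI false
set_option linter.unusedSectionVars false

namespace Cfsg.Agent.Lib.helper3.Block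

open Cfsg Module Cfsg.Agent.Lib.helper3.CharBasic Cfsg.Agent.Lib.helper3.Irr
open Cfsg.Agent.Lib.helper3.Central Cfsg.Agent.Lib.helper3.LocalM Cfsg.Agent.Lib.helper3.IndFun
open Cfsg.Agent.Lib.helper3.Lin Cfsg.Agent.Lib.helper3.HallNilp
open scoped ComplexConjugate

universe u

section count

variable {G : Type u} [Group G] [Fintype G] {M : Ideal AlgInt}

open Classical in
/-- The blocks of the centralizer of a `p`-element inducing the principal block. -/
theorem setOf_isInducedBlock_principal {p : ℕ} [hpf : Fact p.Prime] (hM : IsPModular p M) (x : G)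
    (k : ℕ) (hx : orderOf x = p ^ k) :
    {b : Set (IrrCharacter (Subgroup.centralizer ({x} : Set G))) |
        IsInducedBlock M (Subgroup.centralizer ({x} : Set G)) b (principalBlock M G)}
      = {principalBlock M (Subgroup.centralizer ({x} : Set G))} := by
  have hBC : IsPBlock M (principalBlock M (Subgroup.centralizer ({x} : Set G))) :=
    ⟨Cfsg.Agent.Lib.helper3.PrincOnly.one _, rfl⟩
  ext b
  rw [Set.mem_setOf_eq, Set.mem_singleton_iff]
  constructor
  · intro hind
    exact (third_main hM _ b _ hind).mp rfl
  · rintro rfl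
    obtain ⟨B, hB⟩ := inducedBlockDefined_centralizer hM x k hx _ hBC
    have hBeq : B = principalBlock M G := (third_main hM _ _ B hB).mpr rfl
    rw [← hBeq]
    exact hB

open Classical in
/-- **The number of characters of the principal block** is the sum of the ranks of the principal
blocks of the centralizers of representatives of the classes of `p`-elements. -/
theorem card_principalBlock_eq_sum {p : ℕ} [hpf : Fact p.Prime] (hM : IsPModular p M)
    (X : Finset G) (hX : ∀ x ∈ X, ∃ k : ℕ, orderOf x = p ^ k)
    (hXrep : ∀ g : G, (∃ k : ℕ, orderOf g = p ^ k) → ∃! x, x ∈ X ∧ IsConj g x) :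
    Nat.card (principalBlock M G)
      = ∑ x ∈ X, blockRank p (principalBlock M (Subgroup.centralizer ({x} : Set G))) := by
  have hBG : IsPBlock M (principalBlock M G) := ⟨Cfsg.Agent.Lib.helper3.PrincOnly.one G, rfl⟩
  have h := card_block_eq_sum_blockRank hM (principalBlock M G) hBG X hX hXrep
  have h2 : (Nat.card (principalBlock M G) : ℂ)
      = ((∑ x ∈ X, blockRank p (principalBlock M (Subgroup.centralizer ({x} : Set G))) : ℕ) : ℂ) := by
    rw [h, Nat.cast_sum]
    apply Finset.sum_congr rfl
    intro x hx
    obtain ⟨k, hk⟩ := hX x hx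
    rw [setOf_isInducedBlock_principal hM x k hk, finsum_mem_singleton]
  exact_mod_cast h2

end count

section transport

variable {H H' : Type*} [Group H] [Group H'] [Fintype H] [Fintype H'] {M : Ideal AlgInt}

theorem image_irrCongr_principalBlock (ι : H' ≃* H) :
    irrCongr ι '' principalBlock M H = principalBlock M H' := by
  have h := image_irrCongr_blockOf (M := M) ι (Cfsg.Agent.Lib.helper3.PrincOnly.one H)
  exact h

theorem pRegularPart_comp_mulEquiv (p : ℕ) (ι : H' ≃* H) (χ : H → ℂ) :
    pRegularPart p (fun h' => χ (ι h')) = fun h' => pRegularPart p χ (ι h') := by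
  funext h'
  unfold pRegularPart IsPRegular
  rw [MulEquiv.orderOf_eq]

/-- The rank of the principal block is invariant under isomorphism. -/
theorem blockRank_principal_congr (p : ℕ) (ι : H' ≃* H) :
    blockRank p (principalBlock M H') = blockRank p (principalBlock M H) := by
  unfold blockRank
  rw [← image_irrCongr_principalBlock (M := M) ι, Set.image_image]
  have himg : (fun χ : IrrCharacter H => pRegularPart p ((irrCongr ι χ : IrrCharacter H') : H' → ℂ))
      '' principalBlock M H
      = (LinearEquiv.funCongrLeft ℂ ℂ ι.toEquiv) ''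
        ((fun χ : IrrCharacter H => pRegularPart p (χ : H → ℂ)) '' principalBlock M H) := by
    rw [Set.image_image]
    apply Set.image_congr
    intro χ _
    have : ((irrCongr ι χ : IrrCharacter H') : H' → ℂ) = fun h' => (χ : H → ℂ) (ι h') := rfl
    rw [this, pRegularPart_comp_mulEquiv]
    rfl
  rw [himg]
  have hspan := Submodule.map_span (LinearEquiv.funCongrLeft ℂ ℂ ι.toEquiv : (H → ℂ) →ₗ[ℂ] (H' → ℂ))
    ((fun χ : IrrCharacter H => pRegularPart p (χ : H → ℂ)) '' principalBlock M H)
  have hspan' : Submodule.span ℂ ((LinearEquiv.funCongrLeft ℂ ℂ ι.toEquiv) ''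
        ((fun χ : IrrCharacter H => pRegularPart p (χ : H → ℂ)) '' principalBlock M H))
      = Submodule.map (LinearEquiv.funCongrLeft ℂ ℂ ι.toEquiv : (H → ℂ) →ₗ[ℂ] (H' → ℂ))
        (Submodule.span ℂ
          ((fun χ : IrrCharacter H => pRegularPart p (χ : H → ℂ)) '' principalBlock M H)) := by
    rw [hspan]
    rfl
  rw [hspan']
  exact LinearEquiv.finrank_map_eq (LinearEquiv.funCongrLeft ℂ ℂ ι.toEquiv) _

end transport

end Cfsg.Agent.Lib.helper3.Block
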