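import Mathlib
import Cfsg.Prelude.Def_Blocks
import Cfsg.Agent.Lib.helper3.ADB0
import Cfsg.Agent.Lib.helper3.Irr12
import Cfsg.Agent.Lib.Helper4.AD3
import Cfsg.Agent.Lib.Helper8.AD2

/-!
# Alperin–Dade (S4551), Step B: construction of the function `θ̂` (pieces K, B1, B3)
-/

set_option autoImplicit false
set_option linter.style.haveILetI false
set_option linter.unusedSectionVars false
set_option linter.unusedVariables false
set_option maxHeartbeats 1000000

namespace Cfsg.Agent.Lib.helper3.ADB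

open Cfsg Cfsg.Agent.Lib.helper3.Irr

universe u

variable {X : Type u} [Group X] [Finite X] {p : ℕ} [hp : Fact p.Prime] {M : Ideal AlgInt}

/-- cyclic-over-`N` subgroups have solvable quotient. -/
theorem isSolvable_quot_zpowers (N : Subgroup X) [N.Normal] (g : X) :
    Group.IsSolvable (↥(N ⊔ Subgroup.zpowers g) ⧸ N.subgroupOf (N ⊔ Subgroup.zpowers g)) := by
  haveI : Group.IsSolvable ↥(Subgroup.zpowers g) :=
    Group.isSolvable_of_comm (fun a b => by
      obtain ⟨i, hi⟩ := Subgroup.mem_zpowers_iff.mp a.2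
      obtain ⟨j, hj⟩ := Subgroup.mem_zpowers_iff.mp b.2
      apply Subtype.ext
      show (a : X) * (b : X) = (b : X) * (a : X)
      rw [← hi, ← hj, ← zpow_add, ← zpow_add, add_comm])
  exact Cfsg.Agent.Lib.Helper8.AD.isSolvable_quot_sup N (Subgroup.zpowers g)

/-- **K**: the function `θ̂`. -/
theorem exists_key (hM : IsPModular p M) (N : Subgroup X) [N.Normal] (hidx : ¬ p ∣ N.index)
    (Q : Sylow p X) (hsup : N ⊔ Subgroup.centralizer ((Q : Subgroup X) : Set X) = ⊤)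
    (hext : ∀ (H : Subgroup X) (hNH : N ≤ H), Group.IsSolvable (↥H ⧸ N.subgroupOf H) →
      ExtU M N H hNH)
    (θ : IrrCharacter ↥N) (hθ : θ ∈ principalBlock M ↥N) :
    ∃ f : X → ℂ, Key M N θ f := by
  classical
  have hex : ∀ g : X, ∃ ψ : IrrCharacter ↥(N ⊔ Subgroup.zpowers g),
      ψ ∈ principalBlock M ↥(N ⊔ Subgroup.zpowers g) ∧
        ∀ n : N, (ψ : ↥(N ⊔ Subgroup.zpowers g) → ℂ) ⟨n, le_sup_left (a := N) n.2⟩
          = (θ : ↥N → ℂ) n := fun g =>
    (hext (N ⊔ Subgroup.zpowers g) le_sup_left (isSolvable_quot_zpowers N g) θ hθ).exists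
  choose ψg hψg using hex
  refine ⟨fun g => (ψg g : ↥(N ⊔ Subgroup.zpowers g) → ℂ)
    ⟨g, le_sup_right (a := N) (Subgroup.mem_zpowers g)⟩, ?_⟩
  intro H hNH hsolv ψ hψ hres h
  have h12 : N ⊔ Subgroup.zpowers (h : X) ≤ H := by
    refine sup_le hNH ?_
    rw [Subgroup.zpowers_le]
    exact h.2
  have hψN : IsIrrCharacter ↥N (fun n : N =>
      (ψg (h : X) : ↥(N ⊔ Subgroup.zpowers (h : X)) → ℂ) ⟨n, le_sup_left (a := N) n.2⟩) := by
    have : (fun n : N =>
        (ψg (h : X) : ↥(N ⊔ Subgroup.zpowers (h : X)) → ℂ) ⟨n, le_sup_left (a := N) n.2⟩)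
        = (θ : ↥N → ℂ) := funext (fun n => (hψg (h : X)).2 n)
    rw [this]
    exact θ.2
  have hR := Cfsg.Agent.Lib.Helper4.AD.lemma_R hM N hidx Q hsup (N ⊔ Subgroup.zpowers (h : X)) H
    le_sup_left h12 ψ hψ (ψg (h : X)) (hψg (h : X)).1 hψN
    (fun n => by rw [(hψg (h : X)).2 n]; exact hres n)
  have := hR ⟨(h : X), le_sup_right (a := N) (Subgroup.mem_zpowers (h : X))⟩
  show (ψg (h : X) : ↥(N ⊔ Subgroup.zpowers (h : X)) → ℂ) ⟨(h : X), _⟩ = _
  rw [← this]

/-- **B1**: `θ̂` restricts to `θ` on `N`. -/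
theorem key_restrict (N : Subgroup X) [N.Normal]
    (hext : ∀ (H : Subgroup X) (hNH : N ≤ H), Group.IsSolvable (↥H ⧸ N.subgroupOf H) →
      ExtU M N H hNH)
    (θ : IrrCharacter ↥N) (hθ : θ ∈ principalBlock M ↥N) (f : X → ℂ) (hf : Key M N θ f)
    (n : N) : f n = (θ : ↥N → ℂ) n := by
  obtain ⟨ψ, ⟨hψ, hres⟩, -⟩ :=
    hext (N ⊔ Subgroup.zpowers (n : X)) le_sup_left (isSolvable_quot_zpowers N (n : X)) θ hθ
  have := hf (N ⊔ Subgroup.zpowers (n : X)) le_sup_left (isSolvable_quot_zpowers N (n : X)) ψ hψ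
    hres ⟨(n : X), le_sup_left (a := N) n.2⟩
  rw [this]
  exact hres n

/-- **B3**: `θ̂` restricts to a character on every solvable subgroup. -/
theorem key_isCharacter (N : Subgroup X) [N.Normal]
    (hext : ∀ (H : Subgroup X) (hNH : N ≤ H), Group.IsSolvable (↥H ⧸ N.subgroupOf H) →
      ExtU M N H hNH)
    (θ : IrrCharacter ↥N) (hθ : θ ∈ principalBlock M ↥N) (f : X → ℂ) (hf : Key M N θ f)
    (E : Subgroup X) [Group.IsSolvable E] : IsCharacter ↥E (fun e : E => f e) := by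
  have hs := Cfsg.Agent.Lib.Helper8.AD.isSolvable_quot_sup N E
  obtain ⟨ψ, ⟨hψ, hres⟩, -⟩ := hext (N ⊔ E) le_sup_left hs θ hθ
  have hk := hf (N ⊔ E) le_sup_left hs ψ hψ hres
  have : (fun e : E => f e) = fun e : E =>
      (ψ : ↥(N ⊔ E) → ℂ) (Subgroup.inclusion (le_sup_right (a := N)) e) := by
    funext e
    exact hk ⟨(e : X), le_sup_right (a := N) e.2⟩
  rw [this]
  exact isCharacter_comp (isCharacter_of_isIrrCharacter ψ.2) (Subgroup.inclusion le_sup_right)

end Cfsg.Agent.Lib.helper3.ADB
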