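import Mathlib
import Cfsg.Prelude.Def_Blocks
import Cfsg.Agent.Lib.helper3.ADB0
import Cfsg.Agent.Lib.helper3.ADB1
import Cfsg.Agent.Lib.helper3.ADB2
import Cfsg.Agent.Lib.helper3.Irr8
import Cfsg.Agent.Lib.Helper8.AD6
import Cfsg.Agent.Lib.Helper4.AD4
import Cfsg.Agent.H2.AD3

/-!
# Alperin–Dade (S4551), Step B: glue (modulo Brauer's characterization, passed as `hB4`)
-/

set_option autoImplicit false
set_option linter.style.haveILetI false
set_option linter.unusedSectionVars false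
set_option linter.unusedVariables false
set_option maxHeartbeats 1000000

namespace Cfsg.Agent.Lib.helper3.ADB

open Cfsg Cfsg.Agent.Lib.helper3.Irr

universe u

variable {X : Type u} [Group X] [Finite X] {p : ℕ} [hp : Fact p.Prime] {M : Ideal AlgInt}

/-- Step B, with Brauer's characterization of characters (B4) and the solvability of
elementary groups as hypotheses. -/
theorem stepB_of (hM : IsPModular p M) (N : Subgroup X) [hN : N.Normal]
    (hidx : ¬ p ∣ N.index) (Q : Sylow p X)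
    (hsup : N ⊔ Subgroup.centralizer ((Q : Subgroup X) : Set X) = ⊤)
    (hB4 : ∀ f : X → ℂ, (∀ y g : X, f (y * g * y⁻¹) = f g) →
      (∀ (q : ℕ) (E : Subgroup X), q.Prime → IsElementary q ↥E →
        IsCharacter ↥E (fun e : E => f e)) →
      (∑ᶠ g : X, f g * (starRingEnd ℂ) (f g) = (Nat.card X : ℂ)) →
      (∃ d : ℕ, 0 < d ∧ f 1 = d) → ∃ χ : IrrCharacter X, ∀ g, (χ : X → ℂ) g = f g)
    (hsolvE : ∀ (q : ℕ) (E : Subgroup X), q.Prime → IsElementary q ↥E → Group.IsSolvable ↥E)
    (hind : ∀ H : Subgroup X, N ≤ H → Group.IsSolvable (↥H ⧸ N.subgroupOf H) →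
      Cfsg.Agent.Lib.Helper8.AD.Stmt M ↥H (N.subgroupOf H)) :
    Cfsg.Agent.Lib.Helper8.AD.Stmt M X N := by
  have hext : ∀ (H : Subgroup X) (hNH : N ≤ H), Group.IsSolvable (↥H ⧸ N.subgroupOf H) →
      ExtU M N H hNH := fun H hNH hs =>
    Cfsg.Agent.Lib.Helper8.AD.extU_of_stmt N H hNH (hind H hNH hs)
  apply stmt_of_exists_ext hM N hidx Q hsup
  intro θ hθ
  obtain ⟨f, hf⟩ := exists_key hM N hidx Q hsup hext θ hθ
  have hinv := Cfsg.Agent.H2.AD.invariant_of_hyp hM N hidx Q hsup θ hθ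
  have hconj := Cfsg.Agent.Lib.Helper4.AD.key_conj N hext θ hθ f hf hinv
  have hnorm := Cfsg.Agent.Lib.Helper8.AD.key_norm N hext θ hθ f hf
  have hsame := Cfsg.Agent.Lib.Helper8.AD.key_sameBlock hM N hidx hext θ hθ f hf
  have helem : ∀ (q : ℕ) (E : Subgroup X), q.Prime → IsElementary q ↥E →
      IsCharacter ↥E (fun e : E => f e) := by
    intro q E hq hE
    haveI := hsolvE q E hq hE
    exact key_isCharacter N hext θ hθ f hf E
  have hres := key_restrict N hext θ hθ f hf
  have h1 : ∃ d : ℕ, 0 < d ∧ f 1 = d := by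
    obtain ⟨d, hd⟩ := exists_nat_apply_one (isCharacter_of_isIrrCharacter θ.2)
    have hf1 : f 1 = d := by
      have := hres 1
      rw [← hd]
      exact this
    refine ⟨d, ?_, hf1⟩
    rcases Nat.eq_zero_or_pos d with h0 | h0
    · exfalso
      apply apply_one_ne_zero θ.2
      rw [hd, h0, Nat.cast_zero]
    · exact h0
  obtain ⟨χ, hχ⟩ := hB4 f hconj helem hnorm h1
  refine ⟨χ, ?_, ?_⟩
  · have e : (χ : X → ℂ) = f := funext hχ
    show SameBlock M (fun _ : X => (1 : ℂ)) (χ : X → ℂ)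
    rw [e]
    exact hsame
  · intro n
    rw [hχ]
    exact hres n

end Cfsg.Agent.Lib.helper3.ADB
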