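import Mathlib
import Cfsg.Agent.Lib.helper3.BG14B
import Cfsg.Agent.S1404

/-!
# B&G Section 14, part C (helper3): the subgroup `R(x)` (S1374)

`M` controls `G`-fusion of elements of `M_σ`; hence `C_G(x)` is transitive on the conjugates of `M`
containing `x ∈ M_σ^#`, and `R(x)` (`= C_{N_σ}(x)` or `1`) is sharply transitive on them.
-/

set_option autoImplicit false
set_option linter.unusedSectionVars false
set_option linter.unusedVariables false
set_option linter.style.haveILetI false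
set_option maxHeartbeats 1000000
open Cfsg
open scoped commutatorElement Pointwise

namespace Cfsg.Agent.Lib.helper3.BG14

open Cfsg.Agent.Lib.Helper7 (IsSylowIn exists_isSylowIn_ge card_subgroupOf_of_le)
open Cfsg.Agent.Lib.Helper8.BGTen Cfsg.Agent.Lib.Helper4.BGTrans
open Cfsg.Agent.Lib.helper3.BG11 Cfsg.Agent.Lib.helper3.BG12 Cfsg.Agent.Lib.helper3.BG13

universe u

variable {G : Type u} [Group G] [Finite G]

/-- `M` controls `G`-fusion of the elements of `M_σ` -/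
theorem fusion_sigmaCore (hG : Cfsg.IsMinSimpleOddOrder G) {M : Subgroup G} (hM : IsCoatom M)
    {x : G} (hx : x ∈ Cfsg.sigmaCore M) (hx1 : x ≠ 1) {g : G} (hy : g⁻¹ * x * g ∈ M) :
    ∃ m ∈ M, g⁻¹ * x * g = m * x * m⁻¹ := by
  have hxM : x ∈ M := sigmaCore_le M hx
  -- a prime dividing the order of `x`
  have hord : orderOf x ≠ 1 := fun h => hx1 (orderOf_eq_one_iff.mp h)
  obtain ⟨p, hp, hpd⟩ := Nat.exists_prime_and_dvd hord
  haveI : Fact p.Prime := ⟨hp⟩
  obtain ⟨k, hk⟩ := hpd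
  have hxfin : 0 < orderOf x := orderOf_pos x
  have hk0 : 0 < k := by
    rcases Nat.eq_zero_or_pos k with h | h
    · rw [h, mul_zero] at hk; omega
    · exact h
  obtain ⟨z, hzdef⟩ : ∃ z : G, z = x ^ k := ⟨_, rfl⟩
  have hzord : orderOf z = p := by
    rw [hzdef, orderOf_pow' x hk0.ne', hk, Nat.gcd_eq_right (Dvd.intro_left p rfl),
      Nat.mul_div_cancel _ hk0]
  have hz1 : z ≠ 1 := by
    intro h
    rw [h, orderOf_one] at hzord
    exact hp.one_lt.ne hzord
  have hzσ : z ∈ Cfsg.sigmaCore M := hzdef ▸ Subgroup.pow_mem _ hx k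
  have hzM : z ∈ M := sigmaCore_le M hzσ
  have hZM : Subgroup.zpowers z ≤ M := (Subgroup.zpowers_le).mpr hzM
  have hZcard : Nat.card ↥(Subgroup.zpowers z) = p := by rw [Nat.card_zpowers, hzord]
  have hZp : IsPGroup p ↥(Subgroup.zpowers z) := IsPGroup.of_card (n := 1) (by rw [hZcard, pow_one])
  have hZ1 : Subgroup.zpowers z ≠ ⊥ := by
    intro h
    rw [h, Subgroup.card_bot] at hZcard
    exact hp.one_lt.ne hZcard
  have hpσ : p ∈ Cfsg.sigma M := by
    apply mem_sigma_of_dvd_sigmaCore hG hM hp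
    have h1 : Subgroup.zpowers z ≤ Cfsg.sigmaCore M := (Subgroup.zpowers_le).mpr hzσ
    have := Subgroup.card_dvd_of_le h1
    rwa [hZcard] at this
  have hxz : Commute x z := by rw [hzdef]; exact Commute.pow_right (Commute.refl x) k
  have hxCz : x ∈ Subgroup.centralizer ({z} : Set G) := by
    rw [Subgroup.mem_centralizer_iff]
    intro h hh
    rw [Set.mem_singleton_iff] at hh
    rw [hh]
    exact hxz.eq.symm
  -- S1404
  have h1404 := (Cfsg.Agent.S1404.result hG M hM p hpσ (Subgroup.zpowers z) hZp hZ1 hZM).1 g⁻¹ (by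
    rintro w ⟨v, hv, rfl⟩
    obtain ⟨i, rfl⟩ := hv
    change g⁻¹ * (z ^ i) * (g⁻¹)⁻¹ ∈ M
    have h2 : g⁻¹ * (z ^ i) * (g⁻¹)⁻¹ = ((g⁻¹ * x * g) ^ k) ^ i := by
      rw [hzdef, inv_inv]
      have : g⁻¹ * x * g = g⁻¹ * x * (g⁻¹)⁻¹ := by rw [inv_inv]
      rw [this, conj_pow, conj_zpow, inv_inv]
    rw [h2]
    exact Subgroup.zpow_mem _ (Subgroup.pow_mem _ hy k) i)
  obtain ⟨m, hmM, c, hc, hgmc⟩ := h1404
  have hcz : c ∈ Subgroup.centralizer ({z} : Set G) := by
    rw [← centralizer_zpowers_eq]; exact hc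
  have hg : g = c⁻¹ * m⁻¹ := by
    have : g = (g⁻¹)⁻¹ := (inv_inv g).symm
    rw [this, hgmc, mul_inv_rev]
  have hyeq : g⁻¹ * x * g = m * (c * x * c⁻¹) * m⁻¹ := by
    rw [hg]; group
  have hx'M : c * x * c⁻¹ ∈ M := by
    have : c * x * c⁻¹ = m⁻¹ * (g⁻¹ * x * g) * m := by rw [hyeq]; group
    rw [this]
    exact M.mul_mem (M.mul_mem (M.inv_mem hmM) hy) hmM
  by_cases hCM : Subgroup.centralizer ({z} : Set G) ≤ M
  · refine ⟨m * c, M.mul_mem hmM (hCM hcz), ?_⟩
    rw [hyeq]; group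
  · obtain ⟨N, ⟨hN, hCN⟩, -, -, -, hcompl, hMN, -⟩ := s1375 hG M hM z hzσ hz1 hCM
    obtain ⟨a, ha, b, hb, hcab⟩ := hcompl.2.2.2 c hcz
    have haM : a ∈ M := (Subgroup.mem_inf.mp ha).1
    have hbσ : b ∈ Cfsg.sigmaCore N := (Subgroup.mem_inf.mp hb).1
    have hbC : b ∈ Subgroup.centralizer ({z} : Set G) := (Subgroup.mem_inf.mp hb).2
    have hbN : b ∈ N := sigmaCore_le N hbσ
    have hxN : x ∈ N := hCN hxCz
    have hx''M : b * x * b⁻¹ ∈ M := by
      have : b * x * b⁻¹ = a⁻¹ * (c * x * c⁻¹) * a := by rw [hcab]; group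
      rw [this]
      exact M.mul_mem (M.mul_mem (M.inv_mem haM) hx'M) haM
    have hx''N : b * x * b⁻¹ ∈ N := N.mul_mem (N.mul_mem hbN hxN) (N.inv_mem hbN)
    have hmem1 : x⁻¹ * (b * x * b⁻¹) ∈ M ⊓ N :=
      Subgroup.mem_inf.mpr ⟨M.mul_mem (M.inv_mem hxM) hx''M, N.mul_mem (N.inv_mem hxN) hx''N⟩
    have hmem2 : x⁻¹ * (b * x * b⁻¹) ∈ Cfsg.sigmaCore N := by
      have h3 : x⁻¹ * b * (x⁻¹)⁻¹ ∈ Cfsg.sigmaCore N :=
        (Subgroup.mem_normalizer_iff.mp (le_normalizer_sigmaCore N (N.inv_mem hxN)) b).mp hbσ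
      have : x⁻¹ * (b * x * b⁻¹) = (x⁻¹ * b * (x⁻¹)⁻¹) * b⁻¹ := by group
      rw [this]
      exact Subgroup.mul_mem _ h3 (Subgroup.inv_mem _ hbσ)
    have hbot : x⁻¹ * (b * x * b⁻¹) ∈ (M ⊓ N) ⊓ Cfsg.sigmaCore N := Subgroup.mem_inf.mpr ⟨hmem1, hmem2⟩
    rw [hMN.2.2.1, Subgroup.mem_bot] at hbot
    have hx'' : b * x * b⁻¹ = x := by
      have : b * x * b⁻¹ = x * (x⁻¹ * (b * x * b⁻¹)) := by group
      rw [this, hbot, mul_one]
    refine ⟨m * a, M.mul_mem hmM haM, ?_⟩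
    rw [hyeq, hcab]
    have : m * (a * b * x * (a * b)⁻¹) * m⁻¹ = m * a * (b * x * b⁻¹) * (m * a)⁻¹ := by group
    rw [this, hx'']

omit [Finite G] in
theorem relIndex_mul_card' {H K : Subgroup G} (h : H ≤ K) :
    H.relIndex K * Nat.card ↥H = Nat.card ↥K := by
  have := Subgroup.relIndex_mul_relIndex ⊥ H K bot_le h
  rw [Subgroup.relIndex_bot_left, Subgroup.relIndex_bot_left] at this
  rw [mul_comm]; exact this

/-- `C_G(x)` is transitive on the conjugates of `M` containing `x ∈ M_σ^#` -/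
theorem exists_centralizer_cj (hG : Cfsg.IsMinSimpleOddOrder G) {M : Subgroup G} (hM : IsCoatom M)
    {x : G} (hx : x ∈ Cfsg.sigmaCore M) (hx1 : x ≠ 1) {g : G} (hxg : x ∈ cj g M) :
    ∃ c ∈ Subgroup.centralizer ({x} : Set G), cj c M = cj g M := by
  have hy : g⁻¹ * x * g ∈ M := mem_cj.mp hxg
  obtain ⟨m, hmM, hm⟩ := fusion_sigmaCore hG hM hx hx1 hy
  refine ⟨g * m, ?_, ?_⟩
  · rw [Subgroup.mem_centralizer_iff]
    intro h hh
    rw [Set.mem_singleton_iff] at hh
    rw [hh]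
    have h1 : x = g * (g⁻¹ * x * g) * g⁻¹ := by group
    have h2 : x * (g * m) = g * (g⁻¹ * x * g) * m := by group
    rw [h2, hm]; group
  · rw [cj_mul, cj_eq_of_mem hmM]

/-- B&G: the subgroup `R(x)`: a normal complement of `C_M(x)` in `C_G(x)`, sharply transitive on the
conjugates of `M` containing `x` (S1374) -/
theorem s1374 (hG : Cfsg.IsMinSimpleOddOrder G)
    (M : Subgroup G) (hM : IsCoatom M) (x : G) (hx : x ∈ Cfsg.sigmaCore M) (hx1 : x ≠ 1) :
    (Nat.card ↥(M ⊓ Subgroup.centralizer ({x} : Set G))).Coprime ((M ⊓ Subgroup.centralizer ({x} : Set G)).relIndex (Subgroup.centralizer ({x} : Set G))) ∧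
      ∃ R : Subgroup G, Subgroup.centralizer ({x} : Set G) ≤ Subgroup.normalizer (R : Set G) ∧ Cfsg.IsComplIn (M ⊓ Subgroup.centralizer ({x} : Set G)) R (Subgroup.centralizer ({x} : Set G)) ∧
        ∀ g : G, x ∈ M.map (MulAut.conj g).toMonoidHom → ∃! r : G, r ∈ R ∧ M.map (MulAut.conj r).toMonoidHom = M.map (MulAut.conj g).toMonoidHom := by
  have hM1 : M ≠ ⊥ := by
    intro h
    have := sigmaCore_le M hx
    rw [h, Subgroup.mem_bot] at this
    exact hx1 this
  by_cases hCM : Subgroup.centralizer ({x} : Set G) ≤ M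
  · refine ⟨?_, ⊥, ?_, ?_, ?_⟩
    · have : (M ⊓ Subgroup.centralizer ({x} : Set G)).relIndex (Subgroup.centralizer ({x} : Set G)) = 1 :=
        Subgroup.relIndex_eq_one.mpr (le_inf hCM le_rfl)
      rw [this]
      exact Nat.coprime_one_right _
    · intro c _
      apply Cfsg.Agent.H1.mem_normalizer_of_conj_mem
      intro b hb
      rw [Subgroup.mem_bot] at hb ⊢
      rw [hb]; group
    · refine ⟨inf_le_right, bot_le, inf_bot_eq _, ?_⟩
      intro m hm
      exact ⟨m, Subgroup.mem_inf.mpr ⟨hCM hm, hm⟩, 1, Subgroup.one_mem _, (mul_one m).symm⟩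
    · intro g hg
      obtain ⟨c, hc, hcg⟩ := exists_centralizer_cj hG hM hx hx1 hg
      refine ⟨1, ⟨Subgroup.one_mem _, ?_⟩, ?_⟩
      · change cj 1 M = cj g M
        rw [cj_one, ← hcg, cj_eq_of_mem (hCM hc)]
      · rintro r ⟨hr, -⟩
        exact Subgroup.mem_bot.mp hr
  · obtain ⟨N, ⟨hN, hCN⟩, -, -, hnorm, hcompl, hMN, -⟩ := s1375 hG M hM x hx hx1 hCM
    refine ⟨?_, Cfsg.sigmaCore N ⊓ Subgroup.centralizer ({x} : Set G), hnorm, hcompl, ?_⟩
    · -- coprimality
      have hcard := Cfsg.Agent.Lib.BG127H7.card_of_isComplIn hcompl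
      have hcardN := Cfsg.Agent.Lib.BG127H7.card_of_isComplIn hMN
      have hrel : (M ⊓ Subgroup.centralizer ({x} : Set G)).relIndex (Subgroup.centralizer ({x} : Set G)) =
          Nat.card ↥(Cfsg.sigmaCore N ⊓ Subgroup.centralizer ({x} : Set G)) := by
        have h1 := relIndex_mul_card' (H := M ⊓ Subgroup.centralizer ({x} : Set G))
          (K := Subgroup.centralizer ({x} : Set G)) inf_le_right
        rw [hcard, mul_comm] at h1
        exact Nat.eq_of_mul_eq_mul_left Nat.card_pos h1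
      rw [hrel]
      have hd1 : Nat.card ↥(M ⊓ Subgroup.centralizer ({x} : Set G)) ∣ Nat.card ↥(M ⊓ N) :=
        Subgroup.card_dvd_of_le (inf_le_inf_left M hCN)
      have hd2 : Nat.card ↥(Cfsg.sigmaCore N ⊓ Subgroup.centralizer ({x} : Set G)) ∣
          Nat.card ↥(Cfsg.sigmaCore N) := Subgroup.card_dvd_of_le inf_le_left
      apply Nat.Coprime.coprime_dvd_left hd1
      apply Nat.Coprime.coprime_dvd_right hd2
      apply Nat.coprime_of_dvd
      intro k hk hk1 hk2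
      have hkσ : k ∈ Cfsg.sigma N := mem_sigma_of_dvd_sigmaCore hG hN hk hk2
      have hhall := (Cfsg.Agent.S1350.result hG N hN).1.2.2 k hk hkσ
      apply hhall
      have h2 := relIndex_mul_card' (H := Cfsg.sigmaCore N) (K := N) (sigmaCore_le N)
      rw [hcardN] at h2
      have h3 : (Cfsg.sigmaCore N).relIndex N = Nat.card ↥(M ⊓ N) :=
        Nat.eq_of_mul_eq_mul_right Nat.card_pos h2
      rw [h3]
      exact hk1
    · -- sharp transitivity
      intro g hg
      obtain ⟨c, hc, hcg⟩ := exists_centralizer_cj hG hM hx hx1 hg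
      obtain ⟨a, ha, b, hb, hcab⟩ := hcompl.2.2.2 c hc
      have haM : a ∈ M := (Subgroup.mem_inf.mp ha).1
      have haC : a ∈ Subgroup.centralizer ({x} : Set G) := (Subgroup.mem_inf.mp ha).2
      -- rewrite `c = a b = b' a` with `b' = a b a⁻¹ ∈ R`
      have hb' : a * b * a⁻¹ ∈ Cfsg.sigmaCore N ⊓ Subgroup.centralizer ({x} : Set G) :=
        (Subgroup.mem_normalizer_iff.mp (hnorm haC) b).mp hb
      refine ⟨a * b * a⁻¹, ⟨hb', ?_⟩, ?_⟩
      · change cj (a * b * a⁻¹) M = cj g M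
        rw [← hcg, hcab]
        have : a * b = (a * b * a⁻¹) * a := by group
        rw [this, cj_mul (a * b * a⁻¹) a, cj_eq_of_mem haM]
        congr 1
        group
      · rintro r ⟨hr, hrg⟩
        change cj r M = cj g M at hrg
        have h1 : cj (a * b * a⁻¹) M = cj g M := by
          rw [← hcg, hcab]
          have : a * b = (a * b * a⁻¹) * a := by group
          rw [this, cj_mul (a * b * a⁻¹) a, cj_eq_of_mem haM]
          congr 1
          group
        have h2 : cj ((a * b * a⁻¹)⁻¹ * r) M = M := by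
          rw [cj_mul, hrg, ← h1, cj_inv_cj]
        have h3 : (a * b * a⁻¹)⁻¹ * r ∈ M := by
          have := mem_normalizer_of_cj_eq h2
          rwa [normalizer_coatom hG hM hM1] at this
        have h4 : (a * b * a⁻¹)⁻¹ * r ∈ Cfsg.sigmaCore N ⊓ Subgroup.centralizer ({x} : Set G) :=
          Subgroup.mul_mem _ (Subgroup.inv_mem _ hb') hr
        have h5 : (a * b * a⁻¹)⁻¹ * r ∈ (M ⊓ Subgroup.centralizer ({x} : Set G)) ⊓
            (Cfsg.sigmaCore N ⊓ Subgroup.centralizer ({x} : Set G)) :=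
          Subgroup.mem_inf.mpr ⟨Subgroup.mem_inf.mpr ⟨h3, (Subgroup.mem_inf.mp h4).2⟩, h4⟩
        rw [hcompl.2.2.1, Subgroup.mem_bot] at h5
        have : r = (a * b * a⁻¹) * ((a * b * a⁻¹)⁻¹ * r) := by group
        rw [this, h5, mul_one]

end Cfsg.Agent.Lib.helper3.BG14
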