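import Mathlib
import Cfsg.Agent.Lib.helper3.BG14C

/-!
# B&G Section 14, part D (helper3): conjugacy of the supporting subgroups `N(x)` under `M` (S1436 (b))
-/

set_option autoImplicit false
set_option linter.unusedSectionVars false
set_option linter.unusedVariables false
set_option linter.style.haveILetI false
set_option maxHeartbeats 1000000
open Cfsg
open scoped commutatorElement Pointwise

namespace Cfsg.Agent.Lib.helper3.BG14

open Cfsg.Agent.Lib.Helper7 (IsSylowIn exists_isSylowIn_ge card_subgroupOf_of_le)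
open Cfsg.Agent.Lib.Helper8.BGTen Cfsg.Agent.Lib.Helper4.BGTrans
open Cfsg.Agent.Lib.helper3.BG11 Cfsg.Agent.Lib.helper3.BG12 Cfsg.Agent.Lib.helper3.BG13

universe u

variable {G : Type u} [Group G] [Finite G]

omit [Finite G] in
/-- complements are transported by conjugation -/
theorem isComplIn_cj {A B M : Subgroup G} (h : Cfsg.IsComplIn A B M) (g : G) :
    Cfsg.IsComplIn (cj g A) (cj g B) (cj g M) := by
  obtain ⟨hA, hB, hAB, hprod⟩ := h
  refine ⟨cj_mono g hA, cj_mono g hB, ?_, ?_⟩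
  · rw [eq_bot_iff]
    intro z hz
    obtain ⟨hz1, hz2⟩ := Subgroup.mem_inf.mp hz
    have h1 : g⁻¹ * z * g ∈ A ⊓ B := Subgroup.mem_inf.mpr ⟨mem_cj.mp hz1, mem_cj.mp hz2⟩
    rw [hAB, Subgroup.mem_bot] at h1
    rw [Subgroup.mem_bot]
    have : z = g * (g⁻¹ * z * g) * g⁻¹ := by group
    rw [this, h1]; group
  · intro m hm
    obtain ⟨a, ha, b, hb, hab⟩ := hprod _ (mem_cj.mp hm)
    refine ⟨g * a * g⁻¹, conj_mem_cj ha, g * b * g⁻¹, conj_mem_cj hb, ?_⟩
    have : m = g * (g⁻¹ * m * g) * g⁻¹ := by group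
    rw [this, hab]; group

/-- a complement of `N_σ` in `N` is a Hall `σ(N)'`-subgroup of `N` -/
theorem isPiHallOf_compl (hG : Cfsg.IsMinSimpleOddOrder G) {N : Subgroup G} (hN : IsCoatom N)
    {E : Subgroup G} (hE : Cfsg.IsComplIn E (Cfsg.sigmaCore N) N) :
    Cfsg.IsPiHallOf (Cfsg.sigma N)ᶜ E N := by
  have hcard := Cfsg.Agent.Lib.BG127H7.card_of_isComplIn hE
  have h1 : (Cfsg.sigmaCore N).relIndex N = Nat.card ↥E := by
    have h2 := relIndex_mul_card' (H := Cfsg.sigmaCore N) (K := N) (sigmaCore_le N)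
    rw [hcard] at h2
    exact Nat.eq_of_mul_eq_mul_right Nat.card_pos h2
  have h3 : E.relIndex N = Nat.card ↥(Cfsg.sigmaCore N) := by
    have h2 := relIndex_mul_card' (H := E) (K := N) hE.1
    rw [hcard, mul_comm] at h2
    exact Nat.eq_of_mul_eq_mul_left Nat.card_pos h2
  refine ⟨hE.1, ?_, ?_⟩
  · intro p hp hpd hpσ
    exact (Cfsg.Agent.S1350.result hG N hN).1.2.2 p hp hpσ (h1 ▸ hpd)
  · intro p hp hpσ hpd
    rw [h3] at hpd
    exact hpσ (mem_sigma_of_dvd_sigmaCore hG hN hp hpd)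

/-- B&G 14.? (S1436 (b)): if `N(y)` is `G`-conjugate to `N(x)`, `x, y ∈ M_σ^#`, then it is
`M`-conjugate to it -/
theorem s1436_b (hG : Cfsg.IsMinSimpleOddOrder G)
    (M : Subgroup G) (hM : IsCoatom M) (x : G) (hx : x ∈ Cfsg.sigmaCore M) (hx1 : x ≠ 1)
    (hxM : ¬ Subgroup.centralizer ({x} : Set G) ≤ M)
    (N : Subgroup G) (hN : IsCoatom N) (hxN : Subgroup.centralizer ({x} : Set G) ≤ N)
    (y : G) (N' : Subgroup G) (g : G) (hy : y ∈ Cfsg.sigmaCore M) (hy1 : y ≠ 1)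
    (hyM : ¬ Subgroup.centralizer ({y} : Set G) ≤ M) (hN' : IsCoatom N')
    (hyN' : Subgroup.centralizer ({y} : Set G) ≤ N')
    (hg : N'.map (MulAut.conj g).toMonoidHom = N) :
    ∃ m ∈ M, N'.map (MulAut.conj m).toMonoidHom = N := by
  change cj g N' = N at hg
  have hM1 : M ≠ ⊥ := by
    intro h
    have := sigmaCore_le M hx
    rw [h, Subgroup.mem_bot] at this
    exact hx1 this
  obtain ⟨N0, -, huniq, -, -, -, hMN0, -⟩ := s1375 hG M hM x hx hx1 hxM
  have hN0 : N = N0 := huniq N hN hxN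
  rw [← hN0] at hMN0
  obtain ⟨N1, -, huniq', -, -, -, hMN1, -⟩ := s1375 hG M hM y hy hy1 hyM
  have hN1 : N' = N1 := huniq' N' hN' hyN'
  rw [← hN1] at hMN1
  -- transport
  have hMN' := isComplIn_cj hMN1 g
  have hσ : cj g (Cfsg.sigmaCore N') = Cfsg.sigmaCore N := by
    rw [← Cfsg.Agent.H2.BG11.sigmaCore_cj hG hN' g, hg]
  rw [hσ, hg] at hMN'
  have hH1 := isPiHallOf_compl hG hN hMN0
  have hH2 := isPiHallOf_compl hG hN hMN'
  have hsolv : Group.IsSolvable ↥N := solvable_of_ne_top hG hN.1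
  obtain ⟨n, hn, hconj⟩ := Cfsg.Agent.H1.isPiHallOf_conj _ _ _ N hsolv hH2 hH1
  change M ⊓ N = cj n (cj g (M ⊓ N')) at hconj
  have hxMN : x ∈ M ⊓ N :=
    Subgroup.mem_inf.mpr ⟨sigmaCore_le M hx, hxN (mem_centralizer_self x)⟩
  have hxg : x ∈ cj (n * g) M := by
    rw [hconj, ← cj_mul] at hxMN
    exact cj_mono (n * g) inf_le_left hxMN
  obtain ⟨c, hc, hcg⟩ := exists_centralizer_cj hG hM hx hx1 hxg
  have hcN : c ∈ N := hxN hc
  refine ⟨c⁻¹ * (n * g), ?_, ?_⟩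
  · have h2 : cj (c⁻¹ * (n * g)) M = M := by
      rw [cj_mul, ← hcg, cj_inv_cj]
    have := mem_normalizer_of_cj_eq h2
    rwa [normalizer_coatom hG hM hM1] at this
  · change cj (c⁻¹ * (n * g)) N' = N
    rw [cj_mul, cj_mul, hg, cj_eq_of_mem hn, cj_eq_of_mem (N.inv_mem hcN)]

end Cfsg.Agent.Lib.helper3.BG14
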