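import Mathlib
import Cfsg.Agent.Lib.helper3.BG14D
import Cfsg.Agent.Lib.Helper5.BG14Z2
import Cfsg.Agent.Lib.Helper5.BG13S5
import Cfsg.Agent.Lib.Helper4.BG14I
import Cfsg.Agent.Lib.Helper7.BG13H
import Cfsg.Agent.H1.BG14B
import Cfsg.Agent.S1430
import Cfsg.Agent.S1431

/-!
# B&G Section 14, part E (helper3): the LOCAL STRUCTURE LEMMA for B&G 14.7 (blueprint Part 17, 17.1)

`M` a maximal subgroup, `K ≠ 1` a Hall `κ(M)`-subgroup, `K* = C_{M_σ}(K)`, `X ≤ K` of prime order `p`,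
`L` a maximal subgroup containing `N_G(X)`.
-/

set_option autoImplicit false
set_option linter.unusedSectionVars false
set_option linter.unusedVariables false
set_option linter.style.haveILetI false
set_option maxHeartbeats 1000000
open Cfsg
open scoped commutatorElement Pointwise

namespace Cfsg.Agent.Lib.helper3.BG14

open Cfsg.Agent.Lib.Helper7 (IsSylowIn exists_isSylowIn_ge card_subgroupOf_of_le)
open Cfsg.Agent.Lib.Helper8.BGTen Cfsg.Agent.Lib.Helper4.BGTrans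
open Cfsg.Agent.Lib.helper3.BG11 Cfsg.Agent.Lib.helper3.BG12 Cfsg.Agent.Lib.helper3.BG13

universe u

variable {G : Type u} [Group G] [Finite G]

/-- `K* = C_{M_σ}(K)` -/
abbrev Kst (M K : Subgroup G) : Subgroup G :=
  Cfsg.sigmaCore M ⊓ Subgroup.centralizer (K : Set G)

/-- non-conjugate maximal subgroups have `σ`-cores of coprime orders -/
theorem coprime_sigmaCore_of_not_conj (hG : Cfsg.IsMinSimpleOddOrder G) {M L : Subgroup G}
    (hM : IsCoatom M) (hL : IsCoatom L) (hnc : ∀ g : G, L ≠ cj g M) :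
    (Nat.card ↥(Cfsg.sigmaCore M)).Coprime (Nat.card ↥(Cfsg.sigmaCore L)) := by
  apply Nat.coprime_of_dvd
  intro k hk hk1 hk2
  have h1 := mem_sigma_of_dvd_sigmaCore hG hM hk hk1
  have h2 := mem_sigma_of_dvd_sigmaCore hG hL hk hk2
  obtain ⟨g, hg⟩ := (Cfsg.Agent.S1378.result hG).2 M L hM hL ⟨k, h1, h2⟩
  exact hnc g hg

theorem sigmaCore_inf_sigmaCore_of_not_conj (hG : Cfsg.IsMinSimpleOddOrder G) {M L : Subgroup G}
    (hM : IsCoatom M) (hL : IsCoatom L) (hnc : ∀ g : G, L ≠ cj g M) :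
    Cfsg.sigmaCore M ⊓ Cfsg.sigmaCore L = ⊥ :=
  (Subgroup.disjoint_of_coprime_natCard (coprime_sigmaCore_of_not_conj hG hM hL hnc)).eq_bot

section partner

variable {M K X L : Subgroup G}

/-- 17.1 (a1): `X ≤ L_σ` -/
theorem partner_le_sigmaCore (hG : Cfsg.IsMinSimpleOddOrder G) (hM : IsCoatom M)
    (hK : Cfsg.IsPiHallOf (Cfsg.kappa M) K M) (hK1 : K ≠ ⊥) (hXK : X ≤ K)
    (hXp : (Nat.card ↥X).Prime) (hL : IsCoatom L) (hNL : Subgroup.normalizer (X : Set G) ≤ L) :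
    X ≤ Cfsg.sigmaCore L :=
  ((Cfsg.Agent.S1430.result hG M hM K hK hK1).2.2 X hXK hXp).2.2 L hL hNL

theorem partner_ne_bot (hXp : (Nat.card ↥X).Prime) : X ≠ ⊥ := by
  intro h
  rw [h, Subgroup.card_bot] at hXp
  exact Nat.not_prime_one hXp

/-- 17.1 (a2): `p ∈ σ(L)` -/
theorem partner_mem_sigma (hG : Cfsg.IsMinSimpleOddOrder G) (hM : IsCoatom M)
    (hK : Cfsg.IsPiHallOf (Cfsg.kappa M) K M) (hK1 : K ≠ ⊥) (hXK : X ≤ K)
    (hXp : (Nat.card ↥X).Prime) (hL : IsCoatom L) (hNL : Subgroup.normalizer (X : Set G) ≤ L) :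
    Nat.card ↥X ∈ Cfsg.sigma L :=
  mem_sigma_of_dvd_sigmaCore hG hL hXp
    (Subgroup.card_dvd_of_le (partner_le_sigmaCore hG hM hK hK1 hXK hXp hL hNL))

/-- `p ∈ κ(M)` -/
theorem partner_mem_kappa (hK : Cfsg.IsPiHallOf (Cfsg.kappa M) K M) (hXK : X ≤ K)
    (hXp : (Nat.card ↥X).Prime) : Nat.card ↥X ∈ Cfsg.kappa M :=
  hK.2.1 _ hXp (Subgroup.card_dvd_of_le hXK)

/-- 17.1 (a3): `L` is not conjugate to `M` -/
theorem partner_not_conj (hG : Cfsg.IsMinSimpleOddOrder G) (hM : IsCoatom M)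
    (hK : Cfsg.IsPiHallOf (Cfsg.kappa M) K M) (hK1 : K ≠ ⊥) (hXK : X ≤ K)
    (hXp : (Nat.card ↥X).Prime) (hL : IsCoatom L) (hNL : Subgroup.normalizer (X : Set G) ≤ L) :
    ∀ g : G, L ≠ cj g M := by
  intro g hg
  have h1 := partner_mem_sigma hG hM hK hK1 hXK hXp hL hNL
  rw [hg, Cfsg.Agent.H2.BG11.sigma_cj] at h1
  exact (partner_mem_kappa hK hXK hXp).2.2.1 h1

theorem partner_ne (hG : Cfsg.IsMinSimpleOddOrder G) (hM : IsCoatom M)
    (hK : Cfsg.IsPiHallOf (Cfsg.kappa M) K M) (hK1 : K ≠ ⊥) (hXK : X ≤ K)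
    (hXp : (Nat.card ↥X).Prime) (hL : IsCoatom L) (hNL : Subgroup.normalizer (X : Set G) ≤ L) :
    L ≠ M := by
  intro h
  apply partner_not_conj hG hM hK hK1 hXK hXp hL hNL 1
  rw [cj_one, h]

/-- `K* ≤ L` -/
theorem Kst_le_partner (hXK : X ≤ K) (hNL : Subgroup.normalizer (X : Set G) ≤ L) :
    Kst M K ≤ L :=
  ((inf_le_right.trans (Subgroup.centralizer_le hXK)).trans
    (Subgroup.centralizer_le_normalizer _)).trans hNL

/-- 17.1 (b): `M_σ ∩ L = K*` -/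
theorem sigmaCore_inf_partner (hG : Cfsg.IsMinSimpleOddOrder G) (hM : IsCoatom M)
    (hK : Cfsg.IsPiHallOf (Cfsg.kappa M) K M) (hK1 : K ≠ ⊥) (hXK : X ≤ K)
    (hXp : (Nat.card ↥X).Prime) (hL : IsCoatom L) (hNL : Subgroup.normalizer (X : Set G) ≤ L) :
    Cfsg.sigmaCore M ⊓ L = Kst M K := by
  apply le_antisymm
  · have hbot := sigmaCore_inf_sigmaCore_of_not_conj hG hM hL
      (partner_not_conj hG hM hK hK1 hXK hXp hL hNL)
    have hXσ := partner_le_sigmaCore hG hM hK hK1 hXK hXp hL hNL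
    obtain ⟨x, hx, hx1⟩ := Cfsg.Agent.Lib.Helper4.BG14.exists_ne_one_of_ne_bot (partner_ne_bot hXp)
    change Cfsg.sigmaCore M ⊓ L ≤ Cfsg.sigmaCore M ⊓ Subgroup.centralizer (K : Set G)
    rw [← (Cfsg.Agent.S1430.result hG M hM K hK hK1).1 x (hXK hx) hx1]
    intro t ht
    obtain ⟨ht1, ht2⟩ := Subgroup.mem_inf.mp ht
    refine Subgroup.mem_inf.mpr ⟨ht1, ?_⟩
    have hxM : x ∈ M := hK.1 (hXK hx)
    -- the commutator `t x t⁻¹ x⁻¹` lies in `M_σ ∩ L_σ`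
    have h1 : t * x * t⁻¹ * x⁻¹ ∈ Cfsg.sigmaCore L := by
      have h2 : t * x * t⁻¹ ∈ Cfsg.sigmaCore L :=
        (Subgroup.mem_normalizer_iff.mp (le_normalizer_sigmaCore L ht2) x).mp (hXσ hx)
      exact Subgroup.mul_mem _ h2 (Subgroup.inv_mem _ (hXσ hx))
    have h3 : t * x * t⁻¹ * x⁻¹ ∈ Cfsg.sigmaCore M := by
      have h4 : x * t⁻¹ * x⁻¹ ∈ Cfsg.sigmaCore M :=
        (Subgroup.mem_normalizer_iff.mp (le_normalizer_sigmaCore M hxM) t⁻¹).mp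
          (Subgroup.inv_mem _ ht1)
      have : t * x * t⁻¹ * x⁻¹ = t * (x * t⁻¹ * x⁻¹) := by group
      rw [this]
      exact Subgroup.mul_mem _ ht1 h4
    have h5 : t * x * t⁻¹ * x⁻¹ ∈ Cfsg.sigmaCore M ⊓ Cfsg.sigmaCore L :=
      Subgroup.mem_inf.mpr ⟨h3, h1⟩
    rw [hbot, Subgroup.mem_bot] at h5
    rw [Subgroup.mem_centralizer_iff]
    intro h hh
    rw [Set.mem_singleton_iff] at hh
    rw [hh]
    have : t * x = (t * x * t⁻¹ * x⁻¹) * (x * t) := by group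
    rw [this, h5, one_mul]
  · exact le_inf inf_le_left (Kst_le_partner hXK hNL)

end partner

/-- 17.1 (c): `M` is the unique maximal subgroup over `C_G(Y)` for `Y ≤ K*` of prime order -/
theorem uniq_of_le_Kst (hG : Cfsg.IsMinSimpleOddOrder G) {M K Y : Subgroup G} (hM : IsCoatom M)
    (hK : Cfsg.IsPiHallOf (Cfsg.kappa M) K M) (hK1 : K ≠ ⊥) (hY : Y ≤ Kst M K)
    (hYp : (Nat.card ↥Y).Prime) :
    Nat.card ↥Y ∈ Cfsg.sigma M ∧ Subgroup.centralizer (Y : Set G) ≤ M ∧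
      ∀ L : Subgroup G, IsCoatom L → Subgroup.centralizer (Y : Set G) ≤ L → L = M := by
  obtain ⟨E, U, hd⟩ := Cfsg.Agent.Lib.Helper4.BG14.exists_kdata' hG hM hK hK1
  obtain ⟨p, hp, P, hPK, hPc⟩ := hd.tau1
  haveI : Fact (Nat.card ↥Y).Prime := ⟨hYp⟩
  have h := Cfsg.Agent.Lib.Helper4.BG13.alpha_uniq hG hM hp (hPK.trans hK.1) hPc
    (X := Y) (q := Nat.card ↥Y)
    (hY.trans (inf_le_inf_left _ (Subgroup.centralizer_le hPK))) rfl
  exact ⟨h.1, h.2.1.1, h.2.1.2⟩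

theorem normalizer_le_of_le_Kst (hG : Cfsg.IsMinSimpleOddOrder G) {M K Y : Subgroup G}
    (hM : IsCoatom M) (hK : Cfsg.IsPiHallOf (Cfsg.kappa M) K M) (hK1 : K ≠ ⊥) (hY : Y ≤ Kst M K)
    (hYp : (Nat.card ↥Y).Prime) : Subgroup.normalizer (Y : Set G) ≤ M :=
  Cfsg.Agent.Lib.Helper5.BG13S.normalizer_le_of_uniq hG hM (partner_ne_bot hYp)
    (hY.trans (inf_le_left.trans (sigmaCore_le M))) (uniq_of_le_Kst hG hM hK hK1 hY hYp).2.2

section partnerD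

variable {M K X L : Subgroup G}

/-- `X` centralizes `K*` -/
theorem partner_le_centralizer_Kst (hXK : X ≤ K) :
    X ≤ Subgroup.centralizer ((Kst M K : Subgroup G) : Set G) := by
  intro x hx
  rw [Subgroup.mem_centralizer_iff]
  intro t ht
  have h1 := (Subgroup.mem_inf.mp ht).2
  exact (Subgroup.mem_centralizer_iff.mp h1 x (hXK hx)).symm

/-- 17.1 (d): `π(K*) ⊆ κ(L)` -/
theorem Kst_kappa (hG : Cfsg.IsMinSimpleOddOrder G) (hM : IsCoatom M)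
    (hK : Cfsg.IsPiHallOf (Cfsg.kappa M) K M) (hK1 : K ≠ ⊥) (hXK : X ≤ K)
    (hXp : (Nat.card ↥X).Prime) (hL : IsCoatom L) (hNL : Subgroup.normalizer (X : Set G) ≤ L)
    {q : ℕ} (hq : q.Prime) (hqd : q ∣ Nat.card ↥(Kst M K)) : q ∈ Cfsg.kappa L := by
  haveI : Fact q.Prime := ⟨hq⟩
  obtain ⟨y, hy⟩ := exists_prime_orderOf_dvd_card' q hqd
  have hyo : orderOf (y : G) = q := by rw [Subgroup.orderOf_coe, hy]
  have hYc : Nat.card ↥(Subgroup.zpowers (y : G)) = q := by rw [Nat.card_zpowers, hyo]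
  have hYle : Subgroup.zpowers (y : G) ≤ Kst M K := by
    rw [Subgroup.zpowers_le]; exact y.2
  have hYp : (Nat.card ↥(Subgroup.zpowers (y : G))).Prime := hYc ▸ hq
  obtain ⟨hqσM, hCM, huniqM⟩ := uniq_of_le_Kst hG hM hK hK1 hYle hYp
  rw [hYc] at hqσM
  have hnc := partner_not_conj hG hM hK hK1 hXK hXp hL hNL
  have hqσL : q ∉ Cfsg.sigma L := by
    intro h
    obtain ⟨g, hg⟩ := (Cfsg.Agent.S1378.result hG).2 M L hM hL ⟨q, hqσM, h⟩
    exact hnc g hg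
  have hYL : Subgroup.zpowers (y : G) ≤ L := hYle.trans (Kst_le_partner hXK hNL)
  have hXσ := partner_le_sigmaCore hG hM hK hK1 hXK hXp hL hNL
  have hXC : X ≤ Subgroup.centralizer ((Subgroup.zpowers (y : G) : Subgroup G) : Set G) :=
    (partner_le_centralizer_Kst hXK).trans (Subgroup.centralizer_le hYle)
  obtain ⟨x, hx, hx1⟩ := Cfsg.Agent.Lib.Helper4.BG14.exists_ne_one_of_ne_bot (partner_ne_bot hXp)
  by_cases hrk : Cfsg.PRankLE q 1 ↥L
  · refine Cfsg.Agent.Lib.Helper4.BG14.mem_kappa_of_fixed hG hqσL hrk hYL hYc ?_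
    intro hbot
    have : x ∈ Cfsg.sigmaCore L ⊓
        Subgroup.centralizer ((Subgroup.zpowers (y : G) : Subgroup G) : Set G) :=
      Subgroup.mem_inf.mpr ⟨hXσ hx, hXC hx⟩
    rw [hbot, Subgroup.mem_bot] at this
    exact hx1 this
  · exfalso
    have h2 : Cfsg.PRankLE q 2 ↥L := by
      by_contra h2
      exact hqσL (alpha_subset_sigma hG (uT hG) hL ⟨hq, h2⟩)
    have hτ : q ∈ Cfsg.tau2 L := ⟨hq, hqσL, h2, hrk⟩
    obtain ⟨E, hE⟩ := Cfsg.Agent.Lib.helper3.BG12.exists_compl hG hL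
    have hyL : (y : G) ∈ L := hYL (Subgroup.mem_zpowers _)
    have hy1 : (y : G) ≠ 1 := by
      intro h
      rw [h, orderOf_one] at hyo
      exact hq.one_lt.ne hyo
    have hhat : (y : G) ∈ Cfsg.sigmaHat L := by
      refine ⟨hyL, x, hXσ hx, hx1, ?_⟩
      exact Subgroup.mem_centralizer_iff.mp (hXC hx) (y : G) (Subgroup.mem_zpowers _)
    obtain ⟨-, huniq⟩ := (Cfsg.Agent.S1420.result hG L hL E hE).2.2.2 (y : G) hyL hy1
      (fun p hp hpd => by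
        rw [hyo] at hpd
        rw [(Nat.prime_dvd_prime_iff_eq hp hq).mp hpd]; exact hτ) hhat
    have hML : M = L := huniq M hM (by rw [← centralizer_zpowers_eq]; exact hCM)
    exact partner_ne hG hM hK hK1 hXK hXp hL hNL hML.symm

end partnerD

/-- a `π`-subgroup of `M` normalized by a Hall `π`-subgroup `K` of `M` lies in `K` -/
theorem le_hall_of_normalizes {π : Set ℕ} {K M A : Subgroup G} (hK : Cfsg.IsPiHallOf π K M)
    (hAM : A ≤ M) (hA : ∀ p : ℕ, p.Prime → p ∣ Nat.card ↥A → p ∈ π)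
    (hn : K ≤ Subgroup.normalizer (A : Set G)) : A ≤ K := by
  have h1 := Cfsg.Agent.H1.card_sup_mul_card_inf K A hn
  have hKA : K ⊔ A ≤ M := sup_le hK.1 hAM
  have h2 := Subgroup.relIndex_mul_relIndex K (K ⊔ A) M le_sup_left hKA
  have h3 := relIndex_mul_card' (le_sup_left : K ≤ K ⊔ A)
  have h4 : K.relIndex (K ⊔ A) = 1 := by
    by_contra hne
    obtain ⟨p, hp, hpd⟩ := Nat.exists_prime_and_dvd hne
    have hpπ : p ∈ π := by
      have h5 : p ∣ Nat.card ↥K * Nat.card ↥A := by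
        rw [← h1]
        exact (hpd.trans (Dvd.intro _ h3)).mul_right _
      rcases (Nat.Prime.dvd_mul hp).mp h5 with h | h
      · exact hK.2.1 p hp h
      · exact hA p hp h
    exact hK.2.2 p hp hpπ (h2 ▸ hpd.mul_right _)
  exact le_sup_right.trans (Subgroup.relIndex_eq_one.mp h4)

/-- `K* ≠ 1` -/
theorem Kst_ne_bot (hG : Cfsg.IsMinSimpleOddOrder G) {M K : Subgroup G} (hM : IsCoatom M)
    (hK : Cfsg.IsPiHallOf (Cfsg.kappa M) K M) (hK1 : K ≠ ⊥) : Kst M K ≠ ⊥ := by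
  obtain ⟨E, U, hd⟩ := Cfsg.Agent.Lib.Helper4.BG14.exists_kdata' hG hM hK hK1
  exact hd.kstar_ne_bot hG hK hK1

/-- `K ∩ K* = 1` -/
theorem inf_Kst_eq_bot (hG : Cfsg.IsMinSimpleOddOrder G) {M K : Subgroup G} (hM : IsCoatom M)
    (hK : Cfsg.IsPiHallOf (Cfsg.kappa M) K M) : K ⊓ Kst M K = ⊥ := by
  apply (Subgroup.disjoint_of_coprime_natCard _).eq_bot
  apply Nat.coprime_of_dvd
  intro k hk hk1 hk2
  have h1 := hK.2.1 k hk hk1
  have h2 := mem_sigma_of_dvd_sigmaCore hG hM hk (hk2.trans (Subgroup.card_dvd_of_le inf_le_left))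
  exact h1.2.2.1 h2

/-- 17.1 (e): a Hall `κ(L)`-subgroup of `L` containing `K*` -/
theorem exists_partner_hall (hG : Cfsg.IsMinSimpleOddOrder G) {M K X L : Subgroup G}
    (hM : IsCoatom M) (hK : Cfsg.IsPiHallOf (Cfsg.kappa M) K M) (hK1 : K ≠ ⊥) (hXK : X ≤ K)
    (hXp : (Nat.card ↥X).Prime) (hL : IsCoatom L) (hNL : Subgroup.normalizer (X : Set G) ≤ L) :
    ∃ K1 : Subgroup G, Cfsg.IsPiHallOf (Cfsg.kappa L) K1 L ∧ Kst M K ≤ K1 := by
  have hs : Group.IsSolvable ↥L := solvable_of_ne_top hG hL.1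
  obtain ⟨H0, hH0⟩ := Cfsg.Agent.H1.exists_isPiHallOf (Cfsg.kappa L) L hs
  obtain ⟨g, hg, hle⟩ := Cfsg.Agent.H1.isPiHallOf_dominance (Cfsg.kappa L) H0 L (Kst M K) hs hH0
    (Kst_le_partner hXK hNL) (fun q hq hqd => Kst_kappa hG hM hK hK1 hXK hXp hL hNL hq hqd)
  exact ⟨_, Cfsg.Agent.H1.isPiHallOf_map_conj (Cfsg.kappa L) H0 L hH0 g
    (Subgroup.le_normalizer hg), hle⟩

/-- the partner configuration of 17.1: `X ≤ K` of prime order, `L ⊇ N_G(X)` maximal, `K1 ⊇ K*` a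
Hall `κ(L)`-subgroup of `L` -/
structure Partner (M K X L K1 : Subgroup G) : Prop where
  hM : IsCoatom M
  hK : Cfsg.IsPiHallOf (Cfsg.kappa M) K M
  hK1 : K ≠ ⊥
  hXK : X ≤ K
  hXp : (Nat.card ↥X).Prime
  hL : IsCoatom L
  hNL : Subgroup.normalizer (X : Set G) ≤ L
  hK1L : Cfsg.IsPiHallOf (Cfsg.kappa L) K1 L
  hKK1 : Kst M K ≤ K1

theorem exists_partner (hG : Cfsg.IsMinSimpleOddOrder G) {M K X L : Subgroup G}
    (hM : IsCoatom M) (hK : Cfsg.IsPiHallOf (Cfsg.kappa M) K M) (hK1 : K ≠ ⊥) (hXK : X ≤ K)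
    (hXp : (Nat.card ↥X).Prime) (hL : IsCoatom L) (hNL : Subgroup.normalizer (X : Set G) ≤ L) :
    ∃ K1 : Subgroup G, Partner M K X L K1 := by
  obtain ⟨K1, h1, h2⟩ := exists_partner_hall hG hM hK hK1 hXK hXp hL hNL
  exact ⟨K1, hM, hK, hK1, hXK, hXp, hL, hNL, h1, h2⟩

namespace Partner

variable {M K X L K1 : Subgroup G}

theorem K1_ne_bot (hG : Cfsg.IsMinSimpleOddOrder G) (h : Partner M K X L K1) : K1 ≠ ⊥ := by
  intro h0
  apply Kst_ne_bot hG h.hM h.hK h.hK1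
  have := h.hKK1
  rw [h0] at this
  exact le_bot_iff.mp this

/-- 17.1 (e2): `X ≤ K1* = C_{L_σ}(K1)` -/
theorem X_le_Kst (hG : Cfsg.IsMinSimpleOddOrder G) (h : Partner M K X L K1) :
    X ≤ Kst L K1 := by
  obtain ⟨y, hy, hy1⟩ := Cfsg.Agent.Lib.Helper4.BG14.exists_ne_one_of_ne_bot
    (Kst_ne_bot hG h.hM h.hK h.hK1)
  change X ≤ Cfsg.sigmaCore L ⊓ Subgroup.centralizer (K1 : Set G)
  rw [← (Cfsg.Agent.S1430.result hG L h.hL K1 h.hK1L (h.K1_ne_bot hG)).1 y (h.hKK1 hy) hy1]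
  refine le_inf (partner_le_sigmaCore hG h.hM h.hK h.hK1 h.hXK h.hXp h.hL h.hNL) ?_
  exact (partner_le_centralizer_Kst h.hXK).trans
    (Subgroup.centralizer_le (Set.singleton_subset_iff.mpr hy))

/-- 17.1 (f): `L` is the unique maximal subgroup over `C_G(X)`, hence over `N_G(X)` -/
theorem unique_over_centralizer (hG : Cfsg.IsMinSimpleOddOrder G) (h : Partner M K X L K1)
    {L' : Subgroup G} (hL' : IsCoatom L') (hCL' : Subgroup.centralizer (X : Set G) ≤ L') :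
    L' = L :=
  (uniq_of_le_Kst hG h.hL h.hK1L (h.K1_ne_bot hG) (h.X_le_Kst hG) h.hXp).2.2 L' hL' hCL'

theorem unique_partner (hG : Cfsg.IsMinSimpleOddOrder G) (h : Partner M K X L K1)
    {L' : Subgroup G} (hL' : IsCoatom L') (hNL' : Subgroup.normalizer (X : Set G) ≤ L') :
    L' = L :=
  h.unique_over_centralizer hG hL' ((Subgroup.centralizer_le_normalizer _).trans hNL')

/-- a subgroup `Y ≤ K*` of prime order -/
theorem exists_Y (hG : Cfsg.IsMinSimpleOddOrder G) (h : Partner M K X L K1) :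
    ∃ Y : Subgroup G, Y ≤ Kst M K ∧ (Nat.card ↥Y).Prime ∧
      Subgroup.normalizer (Y : Set G) ≤ M := by
  obtain ⟨q, hq, Y, hY, hYc⟩ := Cfsg.Agent.Lib.Helper4.BG13.exists_prime_card_le
    (Kst_ne_bot hG h.hM h.hK h.hK1)
  have hYp : (Nat.card ↥Y).Prime := hYc ▸ hq.out
  exact ⟨Y, hY, hYp, normalizer_le_of_le_Kst hG h.hM h.hK h.hK1 hY hYp⟩

/-- 17.1 (g): `L_σ ∩ M = K1*` -/
theorem sigmaCore_inf (hG : Cfsg.IsMinSimpleOddOrder G) (h : Partner M K X L K1) :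
    Cfsg.sigmaCore L ⊓ M = Kst L K1 := by
  obtain ⟨Y, hY, hYp, hNY⟩ := h.exists_Y hG
  exact sigmaCore_inf_partner hG h.hL h.hK1L (h.K1_ne_bot hG) (hY.trans h.hKK1) hYp h.hM hNY

/-- 17.1 (h0): `π(K1*) ⊆ κ(M)` -/
theorem Kst_kappa' (hG : Cfsg.IsMinSimpleOddOrder G) (h : Partner M K X L K1)
    {q : ℕ} (hq : q.Prime) (hqd : q ∣ Nat.card ↥(Kst L K1)) : q ∈ Cfsg.kappa M := by
  obtain ⟨Y, hY, hYp, hNY⟩ := h.exists_Y hG
  exact Kst_kappa hG h.hL h.hK1L (h.K1_ne_bot hG) (hY.trans h.hKK1) hYp h.hM hNY hq hqd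

/-- `K ≤ L` -/
theorem K_le (hG : Cfsg.IsMinSimpleOddOrder G) (h : Partner M K X L K1) : K ≤ L := by
  obtain ⟨E, U, hd⟩ := Cfsg.Agent.Lib.Helper4.BG14.exists_kdata' hG h.hM h.hK h.hK1
  exact (hd.Knorm X h.hXK h.hXp).trans h.hNL

/-- 17.1 (h1): `K1* ≤ K` -/
theorem Kst_le (hG : Cfsg.IsMinSimpleOddOrder G) (h : Partner M K X L K1) :
    Kst L K1 ≤ K := by
  apply le_hall_of_normalizes h.hK
  · rw [← h.sigmaCore_inf hG]; exact inf_le_right
  · exact fun q hq hqd => h.Kst_kappa' hG hq hqd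
  · rw [← h.sigmaCore_inf hG]
    intro k hk
    have h1 : k ∈ Subgroup.normalizer ((Cfsg.sigmaCore L : Subgroup G) : Set G) :=
      le_normalizer_sigmaCore L (h.K_le hG hk)
    have h2 : k ∈ Subgroup.normalizer ((M : Subgroup G) : Set G) :=
      Subgroup.le_normalizer (h.hK.1 hk)
    rw [Subgroup.mem_normalizer_iff] at h1 h2 ⊢
    intro t
    rw [Subgroup.mem_inf, Subgroup.mem_inf, ← h1 t, ← h2 t]

/-- `K1* = K ∩ L_σ` -/
theorem Kst_eq (hG : Cfsg.IsMinSimpleOddOrder G) (h : Partner M K X L K1) :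
    Kst L K1 = K ⊓ Cfsg.sigmaCore L := by
  apply le_antisymm
  · exact le_inf (h.Kst_le hG) inf_le_left
  · rw [← h.sigmaCore_inf hG, inf_comm]
    exact inf_le_inf_left _ h.hK.1

/-- 17.1 (h2): `M ∩ L = K K*` -/
theorem inf_eq (hG : Cfsg.IsMinSimpleOddOrder G) (h : Partner M K X L K1) :
    M ⊓ L = K ⊔ Kst M K := by
  apply le_antisymm
  · intro f hf
    obtain ⟨hfM, hfL⟩ := Subgroup.mem_inf.mp hf
    obtain ⟨E, U, hd⟩ := Cfsg.Agent.Lib.Helper4.BG14.exists_kdata' hG h.hM h.hK h.hK1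
    obtain ⟨x, hx, hx1⟩ := Cfsg.Agent.Lib.Helper4.BG14.exists_ne_one_of_ne_bot
      (partner_ne_bot h.hXp)
    refine hd.mem_sup hfM (h.hXK hx) hx1 ?_
    apply h.Kst_le hG
    rw [← h.sigmaCore_inf hG]
    refine Subgroup.mem_inf.mpr ⟨?_, ?_⟩
    · exact (Subgroup.mem_normalizer_iff.mp (le_normalizer_sigmaCore L hfL) x).mp
        (partner_le_sigmaCore hG h.hM h.hK h.hK1 h.hXK h.hXp h.hL h.hNL hx)
    · exact M.mul_mem (M.mul_mem hfM (h.hK.1 (h.hXK hx))) (M.inv_mem hfM)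
  · exact sup_le (le_inf h.hK.1 (h.K_le hG))
      (le_inf (inf_le_left.trans (sigmaCore_le M)) (Kst_le_partner h.hXK h.hNL))

/-- the configuration is symmetric -/
theorem symm (hG : Cfsg.IsMinSimpleOddOrder G) (h : Partner M K X L K1) :
    ∃ Y : Subgroup G, Partner L K1 Y M K := by
  obtain ⟨Y, hY, hYp, hNY⟩ := h.exists_Y hG
  exact ⟨Y, h.hL, h.hK1L, h.K1_ne_bot hG, hY.trans h.hKK1, hYp, h.hM, hNY, h.hK, h.Kst_le hG⟩

/-- 17.1 (i1): `M ∩ L = K1 K1*` -/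
theorem inf_eq' (hG : Cfsg.IsMinSimpleOddOrder G) (h : Partner M K X L K1) :
    M ⊓ L = K1 ⊔ Kst L K1 := by
  obtain ⟨Y, h'⟩ := h.symm hG
  rw [inf_comm]
  exact h'.inf_eq hG

/-- 17.1 (j): for `X' ≤ K` of prime order with partner `L'`: `L' = L ↔ X' ≤ L_σ` -/
theorem eq_iff (hG : Cfsg.IsMinSimpleOddOrder G) (h : Partner M K X L K1) {X' L' : Subgroup G}
    (hX'K : X' ≤ K) (hX'p : (Nat.card ↥X').Prime) (hL' : IsCoatom L')
    (hNL' : Subgroup.normalizer (X' : Set G) ≤ L') : L' = L ↔ X' ≤ Cfsg.sigmaCore L := by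
  constructor
  · intro he
    rw [← he]
    exact partner_le_sigmaCore hG h.hM h.hK h.hK1 hX'K hX'p hL' hNL'
  · intro hle
    have h1 : X' ≤ Kst L K1 := by
      rw [h.Kst_eq hG]
      exact le_inf hX'K hle
    exact (uniq_of_le_Kst hG h.hL h.hK1L (h.K1_ne_bot hG) h1 hX'p).2.2 L' hL'
      ((Subgroup.centralizer_le_normalizer _).trans hNL')

end Partner

/-- elements of `K K*` -/
theorem mem_sup_Kst {M K : Subgroup G} {z : G} (hz : z ∈ K ⊔ Kst M K) :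
    ∃ k ∈ K, ∃ t ∈ Kst M K, z = k * t ∧ k * t = t * k := by
  have hC : K ≤ Subgroup.centralizer ((Kst M K : Subgroup G) : Set G) :=
    partner_le_centralizer_Kst le_rfl
  have hLE : K ≤ Subgroup.normalizer ((Kst M K : Subgroup G) : Set G) :=
    hC.trans (Subgroup.centralizer_le_normalizer _)
  have h1 := Subgroup.coe_mul_of_left_le_normalizer_right K (Kst M K) hLE
  have hz' : z ∈ ((K ⊔ Kst M K : Subgroup G) : Set G) := hz
  rw [h1] at hz'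
  obtain ⟨k, hk, t, ht, rfl⟩ := hz'
  exact ⟨k, hk, t, ht, rfl, (Subgroup.mem_centralizer_iff.mp (hC hk) t ht).symm⟩

namespace Partner

variable {M K X L K1 : Subgroup G}

theorem K1_le (hG : Cfsg.IsMinSimpleOddOrder G) (h : Partner M K X L K1) : K1 ≤ M := by
  obtain ⟨Y, h'⟩ := h.symm hG
  exact h'.K_le hG

/-- 17.1 (i2): `K1 = K* × (K1 ∩ K)` -/
theorem K1_eq (hG : Cfsg.IsMinSimpleOddOrder G) (h : Partner M K X L K1) :
    K1 = Kst M K ⊔ (K1 ⊓ K) := by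
  apply le_antisymm
  · intro z hz
    have hzZ : z ∈ K ⊔ Kst M K := by
      rw [← h.inf_eq hG]
      exact Subgroup.mem_inf.mpr ⟨h.K1_le hG hz, h.hK1L.1 hz⟩
    obtain ⟨k, hk, t, ht, rfl, hc⟩ := mem_sup_Kst hzZ
    have hkK1 : k ∈ K1 := by
      have h1 := K1.mul_mem hz (K1.inv_mem (h.hKK1 ht))
      simpa using h1
    rw [hc]
    exact Subgroup.mul_mem_sup ht (Subgroup.mem_inf.mpr ⟨hkK1, hk⟩)
  · exact sup_le h.hKK1 inf_le_left

/-- 17.1 (i3): `K = K1* × (K1 ∩ K)` -/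
theorem K_eq (hG : Cfsg.IsMinSimpleOddOrder G) (h : Partner M K X L K1) :
    K = Kst L K1 ⊔ (K1 ⊓ K) := by
  obtain ⟨Y, h'⟩ := h.symm hG
  have h1 := h'.K1_eq hG
  rwa [inf_comm] at h1

/-- 17.1 (a4): `σ(M) ∩ σ(L) = ∅` -/
theorem sigma_disjoint (hG : Cfsg.IsMinSimpleOddOrder G) (h : Partner M K X L K1) {q : ℕ}
    (hqM : q ∈ Cfsg.sigma M) : q ∉ Cfsg.sigma L := by
  intro hqL
  obtain ⟨g, hg⟩ := (Cfsg.Agent.S1378.result hG).2 M L h.hM h.hL ⟨q, hqM, hqL⟩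
  exact partner_not_conj hG h.hM h.hK h.hK1 h.hXK h.hXp h.hL h.hNL g hg

end Partner

/-- the summary (F1) of 17.1 (a), (e), (h), (i) -/
theorem partner_F1 (hG : Cfsg.IsMinSimpleOddOrder G) {M K X L : Subgroup G}
    (hM : IsCoatom M) (hK : Cfsg.IsPiHallOf (Cfsg.kappa M) K M) (hK1 : K ≠ ⊥) (hXK : X ≤ K)
    (hXp : (Nat.card ↥X).Prime) (hL : IsCoatom L) (hNL : Subgroup.normalizer (X : Set G) ≤ L) :
    ∃ K1 : Subgroup G, Cfsg.IsPiHallOf (Cfsg.kappa L) K1 L ∧ K1 ≠ ⊥ ∧ Kst M K ≤ K1 ∧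
      Kst L K1 ≤ K ∧ K1 ⊔ Kst L K1 = K ⊔ Kst M K ∧ X ≤ Cfsg.sigmaCore L ∧
      M ⊓ L = K ⊔ Kst M K ∧ (∀ g : G, cj g L ≠ M) ∧ (∀ g : G, L ≠ cj g M) := by
  obtain ⟨K1, h⟩ := exists_partner hG hM hK hK1 hXK hXp hL hNL
  have hnc := partner_not_conj hG hM hK hK1 hXK hXp hL hNL
  refine ⟨K1, h.hK1L, h.K1_ne_bot hG, h.hKK1, h.Kst_le hG, ?_,
    partner_le_sigmaCore hG hM hK hK1 hXK hXp hL hNL, h.inf_eq hG, ?_, hnc⟩
  · rw [← h.inf_eq' hG, h.inf_eq hG]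
  · intro g hg
    apply hnc g⁻¹
    rw [← hg, cj_inv_cj]

end Cfsg.Agent.Lib.helper3.BG14
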