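import Mathlib
import Cfsg.Prelude.Def_Characters
import Cfsg.Agent.Lib.helper3.BurnsideZero
import Cfsg.Agent.Lib.helper3.Central
import Cfsg.Agent.Lib.helper3.CharBasic2
import Cfsg.Agent.Lib.helper3.Irr17
import Cfsg.Agent.Lib.helper3.IndFunTrans

set_option autoImplicit false
set_option linter.style.haveILetI false
set_option linter.unusedSectionVars false

/-!
# A degree bound from a central section
-/

namespace Cfsg.Agent.Lib.helper3.Central

open Cfsg Module Cfsg.Agent.Lib.helper3.IndFun Cfsg.Agent.Lib.helper3.CharBasic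
open Cfsg.Agent.Lib.helper3.Irr Cfsg.Agent.Lib.helper3.Cyclo
open scoped ComplexConjugate

/-- If `z + w = a + b` with `‖z‖ ≤ a` and `‖w‖ ≤ b` then `z = a`. -/
theorem eq_of_add_eq_add_of_norm_le {z w : ℂ} {a b : ℝ} (hz : ‖z‖ ≤ a) (hw : ‖w‖ ≤ b)
    (h : z + w = (a : ℂ) + (b : ℂ)) : z = a := by
  have hre : z.re + w.re = a + b := by
    have := congrArg Complex.re h
    simpa using this
  have h1 : z.re ≤ ‖z‖ := Complex.re_le_norm z
  have h2 : w.re ≤ ‖w‖ := Complex.re_le_norm w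
  have hzre : z.re = a := by linarith
  have hznorm : ‖z‖ = a := by linarith
  have him : z.im = 0 := by
    have h3 : ‖z‖ ^ 2 = z.re ^ 2 + z.im ^ 2 := by
      rw [← Complex.normSq_eq_norm_sq, Complex.normSq_apply]; ring
    rw [hznorm, hzre] at h3
    have : z.im ^ 2 = 0 := by linarith
    exact pow_eq_zero_iff (by norm_num) |>.mp this
  apply Complex.ext
  · simpa using hzre
  · simpa using him

variable {G : Type*} [Group G]

theorem degree_bound_central_section [Fintype G] (ψ : G → ℂ) (hψ : IsIrrCharacter G ψ)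
    (B C D : Subgroup G) (hBD : B ≤ D) (hDC : D ≤ C)
    (hcent : ∀ d ∈ D, ∀ c ∈ C, d * c * d⁻¹ * c⁻¹ ∈ B) (hker : ∀ b ∈ B, ψ b = ψ 1) :
    ‖ψ 1‖ ^ 2 * (Nat.card C : ℝ) * (Nat.card D : ℝ) ≤ (Nat.card G : ℝ) ^ 2 := by
  classical
  letI : Fintype C := Fintype.ofFinite C
  have hψc := isCharacter_of_isIrrCharacter hψ
  have hres := isCharacter_restrict hψc C
  obtain ⟨dψ, hdψpos, hψ1⟩ := exists_pos_nat_apply_one hψ
  have hne0 : (fun c : C => ψ c) ≠ 0 := by
    intro h0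
    have := congrFun h0 1
    simp only [Pi.zero_apply] at this
    rw [show ((1 : C) : G) = 1 from rfl, hψ1] at this
    have : dψ = 0 := by exact_mod_cast this
    omega
  obtain ⟨φ, hφ⟩ := exists_constituent hres hne0
  have hφc := isCharacter_of_isIrrCharacter φ.2
  -- (1) degree comparison
  have hcf := isClassFunction_of_isCharacter hψc
  have hfrob : classInner (indFun C (φ : C → ℂ)) ψ ≠ 0 := by
    rw [frobenius_reciprocity C _ ψ hcf, ← classInner_conj_symm]
    intro h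
    apply hφ
    have := congrArg conj h
    simpa using this
  have hindc := isCharacter_indFun C (φ : C → ℂ) hφc
  have hsub := isCharacter_sub_of_classInner_ne_zero hindc ⟨ψ, hψ⟩ hfrob
  obtain ⟨m, hm, -⟩ := exists_nat_bound hsub
  obtain ⟨dφ, hdφpos, hφ1⟩ := exists_pos_nat_apply_one φ.2
  have hdeg : dψ + m = C.index * dφ := by
    have h1 : (indFun C (φ : C → ℂ) - ψ) 1 = (m : ℂ) := hm
    rw [Pi.sub_apply, indFun_apply_one, hφ1, hψ1] at h1
    have : ((dψ + m : ℕ) : ℂ) = ((C.index * dφ : ℕ) : ℂ) := by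
      push_cast
      linear_combination -h1
    exact_mod_cast this
  -- (2) `B` is in the kernel of `φ`
  have hθ := isCharacter_sub_of_classInner_ne_zero hres φ hφ
  obtain ⟨e, σ, hσirr, hσφ⟩ := φ.2
  haveI := hσirr
  have hBker : ∀ b : C, (b : G) ∈ B → σ b = LinearMap.id := by
    intro b hb
    rw [← character_eq_finrank_iff, hσφ]
    obtain ⟨n1, hn1, hb1⟩ := exists_nat_bound hφc
    obtain ⟨n2, hn2, hb2⟩ := exists_nat_bound hθ
    have hfr : (finrank ℂ (Fin e → ℂ) : ℂ) = (n1 : ℂ) := by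
      rw [← hn1, ← hσφ, Representation.char_one]
    rw [hfr]
    have hsum : (φ : C → ℂ) b + ((fun c : C => ψ c) - (φ : C → ℂ)) b
        = ((n1 : ℝ) : ℂ) + ((n2 : ℝ) : ℂ) := by
      have h1 : (φ : C → ℂ) b + ((fun c : C => ψ c) - (φ : C → ℂ)) b = ψ b := by
        simp
      have h2 : ((n1 : ℝ) : ℂ) + ((n2 : ℝ) : ℂ) = ψ 1 := by
        have h3 : ((fun c : C => ψ c) - (φ : C → ℂ)) 1 = (n2 : ℂ) := hn2
        simp only [Pi.sub_apply] at h3
        rw [show ((1 : C) : G) = 1 from rfl, hn1] at h3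
        push_cast
        linear_combination -h3
      rw [h1, h2]
      exact hker b hb
    have := eq_of_add_eq_add_of_norm_le (hb1 b) (hb2 b) hsum
    rw [this]
    simp
  -- (3) elements of `D` act as scalars
  have hDscal : ∀ d : C, (d : G) ∈ D → ‖(φ : C → ℂ) d‖ = (dφ : ℝ) := by
    intro d hd
    have hfr : (finrank ℂ (Fin e → ℂ) : ℝ) = (dφ : ℝ) := by
      have : (finrank ℂ (Fin e → ℂ) : ℂ) = (dφ : ℂ) := by
        rw [← hφ1, ← hσφ, Representation.char_one]
      exact_mod_cast this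
    rw [← hσφ, ← hfr, norm_character_eq_finrank_iff]
    apply exists_eq_smul_id σ (σ d)
    intro c v
    have hcomm : σ d * σ c = σ c * σ d := by
      have hmem : (d * c * d⁻¹ * c⁻¹ : C) ∈ B.subgroupOf C := by
        rw [Subgroup.mem_subgroupOf]
        exact hcent d hd c c.2
      have h1 := hBker (d * c * d⁻¹ * c⁻¹) hmem
      rw [← map_mul, ← map_mul]
      have h2 : d * c = (d * c * d⁻¹ * c⁻¹) * (c * d) := by group
      rw [h2, map_mul, h1]
      rfl
    have := congrArg (fun T : (Fin e → ℂ) →ₗ[ℂ] (Fin e → ℂ) => T v) hcomm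
    simpa using this
  -- (4) the norm of `φ`
  have hnorm := sum_norm_sq_of_irr φ.2
  have hDle : (Nat.card D : ℝ) * (dφ : ℝ) ^ 2 ≤ (Nat.card C : ℝ) := by
    rw [← hnorm]
    have hsubset : ∑ c ∈ Finset.univ.filter (fun c : C => (c : G) ∈ D), ‖(φ : C → ℂ) c‖ ^ 2
        ≤ ∑ c : C, ‖(φ : C → ℂ) c‖ ^ 2 :=
      Finset.sum_le_sum_of_subset_of_nonneg (Finset.filter_subset _ _)
        (fun _ _ _ => by positivity)
    refine le_trans (le_of_eq ?_) hsubset
    rw [Finset.sum_congr rfl (fun c hc => by rw [hDscal c (Finset.mem_filter.mp hc).2])]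
    rw [Finset.sum_const, nsmul_eq_mul]
    congr 1
    have : (Finset.univ.filter (fun c : C => (c : G) ∈ D)).card = Nat.card (D.subgroupOf C) := by
      rw [Nat.card_eq_fintype_card, Fintype.card_subtype]
      congr 1
    rw [this, Cfsg.Agent.Lib.helper3.IndFunTrans.card_subgroupOf_of_le hDC]
  -- conclusion
  have hψnorm : ‖ψ 1‖ = (dψ : ℝ) := by rw [hψ1]; simp
  rw [hψnorm]
  have h1 : (dψ : ℝ) ≤ (C.index : ℝ) * (dφ : ℝ) := by
    have : dψ ≤ C.index * dφ := by omega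
    exact_mod_cast this
  have hG : (Nat.card G : ℝ) = (Nat.card C : ℝ) * (C.index : ℝ) := by
    rw [← Nat.cast_mul, Subgroup.card_mul_index]
  have hCpos : (0 : ℝ) ≤ (Nat.card C : ℝ) := Nat.cast_nonneg _
  have hDpos : (0 : ℝ) ≤ (Nat.card D : ℝ) := Nat.cast_nonneg _
  have hdψ0 : (0 : ℝ) ≤ (dψ : ℝ) := Nat.cast_nonneg _
  have hidx0 : (0 : ℝ) ≤ (C.index : ℝ) := Nat.cast_nonneg _
  have hdφ0 : (0 : ℝ) ≤ (dφ : ℝ) := Nat.cast_nonneg _
  have h2 : (dψ : ℝ) ^ 2 ≤ ((C.index : ℝ) * (dφ : ℝ)) ^ 2 := by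
    apply pow_le_pow_left₀ hdψ0 h1
  calc (dψ : ℝ) ^ 2 * (Nat.card C : ℝ) * (Nat.card D : ℝ)
      ≤ ((C.index : ℝ) * (dφ : ℝ)) ^ 2 * (Nat.card C : ℝ) * (Nat.card D : ℝ) := by
        apply mul_le_mul_of_nonneg_right _ hDpos
        exact mul_le_mul_of_nonneg_right h2 hCpos
    _ = (C.index : ℝ) ^ 2 * (Nat.card C : ℝ) * ((Nat.card D : ℝ) * (dφ : ℝ) ^ 2) := by ring
    _ ≤ (C.index : ℝ) ^ 2 * (Nat.card C : ℝ) * (Nat.card C : ℝ) := by
        apply mul_le_mul_of_nonneg_left hDle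
        positivity
    _ = (Nat.card G : ℝ) ^ 2 := by rw [hG]; ring

end Cfsg.Agent.Lib.helper3.Central
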