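import Mathlib
import Cfsg.Prelude.Def_Blocks
import Cfsg.Agent.Lib.helper3.NormalInv
import Cfsg.Agent.Lib.helper3.Central
import Cfsg.Agent.Lib.helper3.Irr7

set_option autoImplicit false
set_option linter.style.haveILetI false
set_option linter.unusedSectionVars false

/-!
# Averaging an irreducible character over the cosets of a normal subgroup
-/

namespace Cfsg.Agent.Lib.helper3.Irr

open Cfsg Module Cfsg.Agent.Lib.helper3.IndFun Cfsg.Agent.Lib.helper3.CharBasic
open Cfsg.Agent.Lib.helper3.Central
open Representation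
open scoped ComplexConjugate

variable {G : Type*} [Group G]
variable {V : Type*} [AddCommGroup V] [Module ℂ V] [FiniteDimensional ℂ V]

/-- The sum of the operators of a normal subgroup is a scalar, so summing a character over a
coset factors. -/
theorem sum_character_mul_normal [Fintype G] (ρ : Representation ℂ G V) [hirr : ρ.IsIrreducible]
    (Q : Subgroup G) [hQ : Q.Normal] [Fintype Q] (x : G) :
    ∑ u : Q, ρ.character (x * (u : G))
      = ρ.character x / (finrank ℂ V : ℂ) * ∑ u : Q, ρ.character (u : G) := by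
  classical
  obtain ⟨T, hT⟩ : ∃ T : V →ₗ[ℂ] V, T = ∑ u : Q, ρ (u : G) := ⟨_, rfl⟩
  have hcomm : ∀ g v, T (ρ g v) = ρ g (T v) := by
    intro g v
    rw [hT]
    simp only [LinearMap.sum_apply, map_sum]
    rw [← Equiv.sum_comp (MulAut.conjNormal (H := Q) g).toEquiv]
    apply Finset.sum_congr rfl
    intro u _
    have h1 : (((MulAut.conjNormal (H := Q) g).toEquiv u : Q) : G) = g * (u : G) * g⁻¹ :=
      MulAut.conjNormal_apply g u
    rw [h1, ← Module.End.mul_apply, ← map_mul, ← Module.End.mul_apply, ← map_mul]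
    congr 2
    group
  obtain ⟨c, hc⟩ := exists_eq_smul_id ρ T hcomm
  have htr : ∑ u : Q, ρ.character (u : G) = c * (finrank ℂ V : ℂ) := by
    have h1 : LinearMap.trace ℂ V T = ∑ u : Q, ρ.character (u : G) := by
      rw [hT, map_sum]
      rfl
    rw [← h1, hc, map_smul, LinearMap.trace_id, smul_eq_mul]
  have hx : ∑ u : Q, ρ.character (x * (u : G)) = c * ρ.character x := by
    have h1 : ∑ u : Q, ρ.character (x * (u : G)) = LinearMap.trace ℂ V (ρ x * T) := by
      rw [hT, Finset.mul_sum, map_sum]
      apply Finset.sum_congr rfl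
      intro u _
      rw [← map_mul]
      rfl
    rw [h1, hc, mul_smul_comm, map_smul, smul_eq_mul]
    congr 1
  have hn0 := finrank_ne_zero_of_irreducible ρ
  rw [hx, htr]
  field_simp

/-- Averaging an irreducible character over a coset of a normal subgroup: the value if the
subgroup is in the kernel, zero otherwise. -/
theorem sum_apply_mul_normal [Fintype G] (χ : IrrCharacter G) (Q : Subgroup G) [hQ : Q.Normal]
    [Fintype Q] [Decidable (∀ u ∈ Q, (χ : G → ℂ) u = (χ : G → ℂ) 1)] (x : G) :
    ∑ u : Q, (χ : G → ℂ) (x * (u : G))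
      = if (∀ u ∈ Q, (χ : G → ℂ) u = (χ : G → ℂ) 1) then (Nat.card Q : ℂ) * (χ : G → ℂ) x
        else 0 := by
  classical
  obtain ⟨n, ρ, hirr, hρ⟩ := χ.2
  haveI := hirr
  have hρ' : ∀ g, (χ : G → ℂ) g = ρ.character g := fun g => by rw [hρ]
  rcases normal_trivial_or_sum_eq_zero ρ Q with h | h
  · have hker : ∀ u ∈ Q, (χ : G → ℂ) u = (χ : G → ℂ) 1 := by
      intro u hu
      rw [hρ', hρ']
      unfold Representation.character
      rw [h u hu, map_one]
      rfl
    rw [if_pos hker]
    have h1 : ∀ u : Q, (χ : G → ℂ) (x * (u : G)) = (χ : G → ℂ) x := by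
      intro u
      rw [hρ', hρ']
      unfold Representation.character
      rw [map_mul, h u u.2]
      rfl
    rw [Finset.sum_congr rfl (fun u _ => h1 u), Finset.sum_const, Finset.card_univ,
      nsmul_eq_mul, Nat.card_eq_fintype_card]
  · have hnk : ¬ (∀ u ∈ Q, (χ : G → ℂ) u = (χ : G → ℂ) 1) := by
      intro hker
      have h1 : ∑ u : Q, ρ.character (u : G) = (Nat.card Q : ℂ) * (χ : G → ℂ) 1 := by
        rw [Finset.sum_congr rfl (fun u _ => by rw [← hρ', hker u u.2]), Finset.sum_const,
          Finset.card_univ, nsmul_eq_mul, Nat.card_eq_fintype_card]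
      rw [h] at h1
      have hQ0 : (Nat.card Q : ℂ) ≠ 0 := by
        exact_mod_cast Nat.card_pos.ne'
      rcases mul_eq_zero.1 h1.symm with h2 | h2
      · exact hQ0 h2
      · rw [hρ', Representation.char_one] at h2
        exact finrank_ne_zero_of_irreducible ρ h2
    rw [if_neg hnk]
    have h3 : ∑ u : Q, (χ : G → ℂ) (x * (u : G)) = ∑ u : Q, ρ.character (x * (u : G)) :=
      Finset.sum_congr rfl (fun u _ => hρ' (x * (u : G)))
    rw [h3, sum_character_mul_normal ρ Q x, h, mul_zero]

end Cfsg.Agent.Lib.helper3.Irr
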