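import Mathlib
import Cfsg.Prelude.Def_Characters
import Cfsg.Agent.Lib.helper3.Central
import Cfsg.Agent.Lib.helper3.Irr3

set_option autoImplicit false
set_option linter.style.haveILetI false
set_option linter.unusedSectionVars false

/-!
# The Frobenius–Schur indicator, in matrix form
-/

namespace Cfsg.Agent.Lib.helper3.FS

open Cfsg Module Matrix
open scoped ComplexConjugate

variable {G : Type*} [Group G] {n : ℕ}

/-- The matrix of a representation on a coordinate space. -/
noncomputable def R (ρ : Representation ℂ G (Fin n → ℂ)) (g : G) : Matrix (Fin n) (Fin n) ℂ :=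
  LinearMap.toMatrix' (ρ g)

variable (ρ : Representation ℂ G (Fin n → ℂ))

theorem R_one : R ρ 1 = 1 := by
  unfold R
  rw [map_one]
  exact LinearMap.toMatrix'_one

theorem R_mul (g h : G) : R ρ (g * h) = R ρ g * R ρ h := by
  unfold R
  rw [map_mul]
  exact LinearMap.toMatrix'_mul _ _

theorem R_mul_inv (g : G) : R ρ g * R ρ g⁻¹ = 1 := by
  rw [← R_mul, mul_inv_cancel, R_one]

theorem R_inv_mul (g : G) : R ρ g⁻¹ * R ρ g = 1 := by
  rw [← R_mul, inv_mul_cancel, R_one]

theorem trace_R (g : G) : (R ρ g).trace = ρ.character g := by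
  unfold R Representation.character
  rw [LinearMap.trace_eq_matrix_trace ℂ (Pi.basisFun ℂ (Fin n)), LinearMap.toMatrix_eq_toMatrix']

theorem toLin'_R (g : G) : Matrix.toLin' (R ρ g) = ρ g := by
  unfold R
  exact Matrix.toLin'_toMatrix' _

/-- Invariant bilinear forms, as matrices. -/
def Inv (B : Matrix (Fin n) (Fin n) ℂ) : Prop := ∀ h : G, (R ρ h)ᵀ * B * R ρ h = B

/-- Averaging a matrix to an invariant form. -/
noncomputable def avg [Fintype G] (X : Matrix (Fin n) (Fin n) ℂ) : Matrix (Fin n) (Fin n) ℂ :=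
  ∑ g : G, (R ρ g)ᵀ * X * R ρ g

theorem inv_avg [Fintype G] (X : Matrix (Fin n) (Fin n) ℂ) : Inv ρ (avg ρ X) := by
  intro h
  unfold avg
  rw [Finset.mul_sum, Finset.sum_mul]
  apply Fintype.sum_equiv (Equiv.mulRight h)
  intro g
  simp only [Equiv.coe_mulRight, R_mul, Matrix.transpose_mul, Matrix.mul_assoc]

theorem inv_transpose {B : Matrix (Fin n) (Fin n) ℂ} (hB : Inv ρ B) : Inv ρ Bᵀ := by
  intro h
  have := congrArg Matrix.transpose (hB h)
  simpa [Matrix.transpose_mul, Matrix.mul_assoc] using this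

theorem single_sandwich (M N : Matrix (Fin n) (Fin n) ℂ) (i j k l : Fin n) :
    (Mᵀ * Matrix.single i j (1 : ℂ) * N) k l = M i k * N j l := by
  rw [Matrix.mul_apply, Finset.sum_eq_single j]
  · rw [Matrix.mul_apply, Finset.sum_eq_single i]
    · simp [Matrix.single_apply]
    · intro y _ hy
      simp [Matrix.single_apply, Ne.symm hy]
    · simp
  · intro x _ hx
    rw [Matrix.mul_apply]
    have : ∀ y, Matrix.single i j (1 : ℂ) y x = 0 := by
      intro y
      simp [Matrix.single_apply, Ne.symm hx]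
    simp [this]
  · simp

theorem avg_single_apply [Fintype G] (i j k l : Fin n) :
    avg ρ (Matrix.single i j (1 : ℂ)) k l = ∑ g : G, R ρ g i k * R ρ g j l := by
  unfold avg
  rw [Matrix.sum_apply]
  apply Finset.sum_congr rfl
  intro g _
  exact single_sandwich _ _ i j k l

/-- `∑_g tr(R(g)^2)` in terms of averaged matrix units. -/
theorem sum_trace_sq [Fintype G] :
    ∑ g : G, (R ρ g * R ρ g).trace
      = ∑ i : Fin n, ∑ j : Fin n, avg ρ (Matrix.single i j (1 : ℂ)) j i := by
  simp only [avg_single_apply]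
  calc ∑ g : G, (R ρ g * R ρ g).trace
      = ∑ g : G, ∑ i : Fin n, ∑ j : Fin n, R ρ g i j * R ρ g j i := by
        apply Finset.sum_congr rfl
        intro g _
        simp only [Matrix.trace, Matrix.diag_apply, Matrix.mul_apply]
    _ = ∑ i : Fin n, ∑ g : G, ∑ j : Fin n, R ρ g i j * R ρ g j i := Finset.sum_comm
    _ = ∑ i : Fin n, ∑ j : Fin n, ∑ g : G, R ρ g i j * R ρ g j i := by
        apply Finset.sum_congr rfl
        intro i _
        exact Finset.sum_comm

theorem inv_comm {B : Matrix (Fin n) (Fin n) ℂ} (hB : Inv ρ B) (g : G) :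
    B * R ρ g = (R ρ g⁻¹)ᵀ * B := by
  have h1 : (R ρ g⁻¹)ᵀ * (R ρ g)ᵀ = 1 := by
    rw [← Matrix.transpose_mul, R_mul_inv, Matrix.transpose_one]
  calc B * R ρ g = ((R ρ g⁻¹)ᵀ * (R ρ g)ᵀ) * B * R ρ g := by rw [h1, Matrix.one_mul]
    _ = (R ρ g⁻¹)ᵀ * ((R ρ g)ᵀ * B * R ρ g) := by simp only [Matrix.mul_assoc]
    _ = (R ρ g⁻¹)ᵀ * B := by rw [hB g]

/-- The contragredient representation in matrix form. -/
noncomputable def dualRep : Representation ℂ G (Fin n → ℂ) where
  toFun g := Matrix.toLin' (R ρ g⁻¹)ᵀ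
  map_one' := by
    rw [inv_one, R_one, Matrix.transpose_one, Matrix.toLin'_one]
    rfl
  map_mul' g h := by
    rw [_root_.mul_inv_rev, R_mul, Matrix.transpose_mul, Matrix.toLin'_mul]
    rfl

theorem dualRep_apply (g : G) : dualRep ρ g = Matrix.toLin' (R ρ g⁻¹)ᵀ := rfl

/-- Schur: a nonzero invariant form is invertible. -/
theorem isUnit_of_inv [ρ.IsIrreducible] {B : Matrix (Fin n) (Fin n) ℂ} (hB : Inv ρ B)
    (h0 : B ≠ 0) : IsUnit B := by
  have hint : ∀ (g : G) (v : Fin n → ℂ),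
      Matrix.toLin' B (ρ g v) = dualRep ρ g (Matrix.toLin' B v) := by
    intro g v
    rw [dualRep_apply, ← toLin'_R ρ g]
    simp only [Matrix.toLin'_apply, Matrix.mulVec_mulVec]
    rw [inv_comm ρ hB g]
  set f : Representation.IntertwiningMap ρ (dualRep ρ) :=
    LinearMap.intertwiningMap_of_isIntertwiningMap ρ (dualRep ρ) (Matrix.toLin' B) hint with hf
  have hfl : f.toLinearMap = Matrix.toLin' B := rfl
  rcases Representation.IsIrreducible.injective_or_eq_zero f with h | h
  · rw [← Matrix.mulVec_injective_iff_isUnit]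
    intro v w hvw
    apply h
    show f.toLinearMap v = f.toLinearMap w
    rw [hfl, Matrix.toLin'_apply, Matrix.toLin'_apply]
    exact hvw
  · exfalso
    apply h0
    have h1 : Matrix.toLin' B = 0 := by
      rw [← hfl, h]
      rfl
    exact Matrix.toLin'.injective (by rw [h1, map_zero])

/-- Schur: the invariant forms make up a line. -/
theorem exists_smul_of_inv [Fintype G] [ρ.IsIrreducible] {B B' : Matrix (Fin n) (Fin n) ℂ}
    (hB : Inv ρ B) (hu : IsUnit B) (hB' : Inv ρ B') : ∃ c : ℂ, B' = c • B := by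
  have hdet : IsUnit B.det := (Matrix.isUnit_iff_isUnit_det B).mp hu
  have h1 : B⁻¹ * B = 1 := Matrix.nonsing_inv_mul B hdet
  have h2 : B * B⁻¹ = 1 := Matrix.mul_nonsing_inv B hdet
  have h3 : ∀ g, R ρ g * B⁻¹ = B⁻¹ * (R ρ g⁻¹)ᵀ := by
    intro g
    calc R ρ g * B⁻¹ = B⁻¹ * (B * R ρ g) * B⁻¹ := by
          rw [← Matrix.mul_assoc, h1, Matrix.one_mul]
      _ = B⁻¹ * ((R ρ g⁻¹)ᵀ * B) * B⁻¹ := by rw [inv_comm ρ hB g]
      _ = B⁻¹ * (R ρ g⁻¹)ᵀ := by
          rw [Matrix.mul_assoc, Matrix.mul_assoc, h2, Matrix.mul_one]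
  set C := B⁻¹ * B' with hC
  have hcomm : ∀ g, C * R ρ g = R ρ g * C := by
    intro g
    rw [hC, Matrix.mul_assoc, inv_comm ρ hB' g, ← Matrix.mul_assoc, ← h3 g, Matrix.mul_assoc]
  obtain ⟨c, hc⟩ := Cfsg.Agent.Lib.helper3.Central.exists_eq_smul_id ρ (Matrix.toLin' C) (by
    intro g v
    rw [← toLin'_R ρ g]
    simp only [Matrix.toLin'_apply, Matrix.mulVec_mulVec]
    rw [hcomm g])
  refine ⟨c, ?_⟩
  have hC1 : C = c • (1 : Matrix (Fin n) (Fin n) ℂ) := by
    apply Matrix.toLin'.injective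
    rw [hc, map_smul, Matrix.toLin'_one]
  calc B' = B * C := by rw [hC, ← Matrix.mul_assoc, h2, Matrix.one_mul]
    _ = c • B := by rw [hC1, Matrix.mul_smul, Matrix.mul_one]

theorem trace_mul_single (M : Matrix (Fin n) (Fin n) ℂ) (i j : Fin n) :
    (M * Matrix.single i j (1 : ℂ)).trace = M j i := by
  simp only [Matrix.trace, Matrix.diag_apply, Matrix.mul_apply]
  rw [Finset.sum_eq_single j]
  · rw [Finset.sum_eq_single i]
    · simp
    · intro y _ hy
      simp [Ne.symm hy]
    · simp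
  · intro x _ hx
    apply Finset.sum_eq_zero
    intro y _
    simp [Ne.symm hx]
  · simp

theorem R_mul_inv_form {B : Matrix (Fin n) (Fin n) ℂ} (hB : Inv ρ B) (hu : IsUnit B) (g : G) :
    R ρ g * B⁻¹ = B⁻¹ * (R ρ g⁻¹)ᵀ := by
  have hdet : IsUnit B.det := (Matrix.isUnit_iff_isUnit_det B).mp hu
  have h1 : B⁻¹ * B = 1 := Matrix.nonsing_inv_mul B hdet
  have h2 : B * B⁻¹ = 1 := Matrix.mul_nonsing_inv B hdet
  calc R ρ g * B⁻¹ = B⁻¹ * (B * R ρ g) * B⁻¹ := by
        rw [← Matrix.mul_assoc, h1, Matrix.one_mul]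
    _ = B⁻¹ * ((R ρ g⁻¹)ᵀ * B) * B⁻¹ := by rw [inv_comm ρ hB g]
    _ = B⁻¹ * (R ρ g⁻¹)ᵀ := by
        rw [Matrix.mul_assoc, Matrix.mul_assoc, h2, Matrix.mul_one]

/-- The averaging map in terms of a nonzero invariant form. -/
theorem avg_eq [Fintype G] [ρ.IsIrreducible] {B : Matrix (Fin n) (Fin n) ℂ} (hB : Inv ρ B)
    (hu : IsUnit B) (X : Matrix (Fin n) (Fin n) ℂ) :
    (n : ℂ) • avg ρ X = ((Nat.card G : ℂ) * (B⁻¹ * X).trace) • B := by
  obtain ⟨t, ht⟩ := exists_smul_of_inv ρ hB hu (inv_avg ρ X)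
  have hdet : IsUnit B.det := (Matrix.isUnit_iff_isUnit_det B).mp hu
  have h1 : B⁻¹ * B = 1 := Matrix.nonsing_inv_mul B hdet
  have htr1 : (B⁻¹ * avg ρ X).trace = t * n := by
    rw [ht, Matrix.mul_smul, h1, Matrix.trace_smul, Matrix.trace_one]
    simp
  have h4 : ∀ g, R ρ g * B⁻¹ * (R ρ g)ᵀ = B⁻¹ := by
    intro g
    rw [R_mul_inv_form ρ hB hu g, Matrix.mul_assoc, ← Matrix.transpose_mul, R_mul_inv,
      Matrix.transpose_one, Matrix.mul_one]
  have htr2 : (B⁻¹ * avg ρ X).trace = (Nat.card G : ℂ) * (B⁻¹ * X).trace := by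
    unfold avg
    rw [Finset.mul_sum, Matrix.trace_sum]
    have : ∀ g : G, (B⁻¹ * ((R ρ g)ᵀ * X * R ρ g)).trace = (B⁻¹ * X).trace := by
      intro g
      rw [← Matrix.mul_assoc, ← Matrix.mul_assoc, Matrix.trace_mul_comm, ← Matrix.mul_assoc,
        ← Matrix.mul_assoc, h4 g]
    simp only [this, Finset.sum_const, Finset.card_univ, nsmul_eq_mul, Nat.card_eq_fintype_card]
  rw [ht, smul_smul]
  congr 1
  rw [mul_comm, ← htr1, htr2]

/-- Case A: there is a nonzero invariant form. -/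
theorem fs_caseA [Fintype G] [ρ.IsIrreducible] {B : Matrix (Fin n) (Fin n) ℂ} (hB : Inv ρ B)
    (hu : IsUnit B) (hn : (n : ℂ) ≠ 0) :
    ∃ c : ℂ, (c = 1 ∨ c = -1) ∧ Bᵀ = c • B ∧
      ∑ g : G, (R ρ g * R ρ g).trace = c * (Nat.card G : ℂ) := by
  have hn0 : n ≠ 0 := by
    intro h
    apply hn
    rw [h]
    simp
  haveI : Nonempty (Fin n) := ⟨⟨0, Nat.pos_of_ne_zero hn0⟩⟩
  have hB0 : B ≠ 0 := hu.ne_zero
  have hdet : IsUnit B.det := (Matrix.isUnit_iff_isUnit_det B).mp hu
  have h1 : B⁻¹ * B = 1 := Matrix.nonsing_inv_mul B hdet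
  obtain ⟨c, hc⟩ := exists_smul_of_inv ρ hB hu (inv_transpose ρ hB)
  have hc2 : c * c = 1 := by
    have h2 : B = (c * c) • B := by
      conv_lhs => rw [← Matrix.transpose_transpose B, hc, Matrix.transpose_smul, hc, smul_smul]
    have h3 : (1 - c * c) • B = 0 := by
      rw [sub_smul, one_smul, ← h2, sub_self]
    rcases smul_eq_zero.mp h3 with h | h
    · exact (sub_eq_zero.mp h).symm
    · exact absurd h hB0
  have hc1 : c = 1 ∨ c = -1 := by
    have : (c - 1) * (c + 1) = 0 := by ring_nf; rw [sq, hc2]; ring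
    rcases mul_eq_zero.mp this with h | h
    · left; exact sub_eq_zero.mp h
    · right; exact eq_neg_of_add_eq_zero_left h
  refine ⟨c, hc1, hc, ?_⟩
  apply mul_left_cancel₀ hn
  rw [sum_trace_sq, Finset.mul_sum]
  have h5 : ∀ i j : Fin n, (n : ℂ) * avg ρ (Matrix.single i j (1 : ℂ)) j i
      = (Nat.card G : ℂ) * (B⁻¹ j i * Bᵀ i j) := by
    intro i j
    have := congrFun (congrFun (avg_eq ρ hB hu (Matrix.single i j (1 : ℂ))) j) i
    simp only [Matrix.smul_apply, smul_eq_mul] at this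
    rw [this, trace_mul_single, Matrix.transpose_apply]
    ring
  calc ∑ i : Fin n, (n : ℂ) * ∑ j : Fin n, avg ρ (Matrix.single i j (1 : ℂ)) j i
      = ∑ i : Fin n, ∑ j : Fin n, (Nat.card G : ℂ) * (B⁻¹ j i * Bᵀ i j) := by
        apply Finset.sum_congr rfl
        intro i _
        rw [Finset.mul_sum]
        apply Finset.sum_congr rfl
        intro j _
        exact h5 i j
    _ = (Nat.card G : ℂ) * ∑ j : Fin n, ∑ i : Fin n, B⁻¹ j i * Bᵀ i j := by
        rw [Finset.sum_comm, Finset.mul_sum]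
        apply Finset.sum_congr rfl
        intro j _
        rw [Finset.mul_sum]
    _ = (Nat.card G : ℂ) * (B⁻¹ * Bᵀ).trace := by
        simp only [Matrix.trace, Matrix.diag_apply, Matrix.mul_apply]
    _ = (n : ℂ) * (c * (Nat.card G : ℂ)) := by
        rw [hc, Matrix.mul_smul, h1, Matrix.trace_smul, Matrix.trace_one]
        simp
        ring

/-- Case B: there is no nonzero invariant form. -/
theorem fs_caseB [Fintype G] (hno : ∀ B : Matrix (Fin n) (Fin n) ℂ, Inv ρ B → B = 0) :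
    ∑ g : G, (R ρ g * R ρ g).trace = 0 ∧ ∑ g : G, ρ.character g * ρ.character g = 0 := by
  have h0 : ∀ X, avg ρ X = 0 := fun X => hno _ (inv_avg ρ X)
  constructor
  · rw [sum_trace_sq]
    simp [h0]
  · have h1 : ∀ g : G, ρ.character g * ρ.character g
        = ∑ i : Fin n, ∑ j : Fin n, R ρ g i i * R ρ g j j := by
      intro g
      rw [← trace_R, Matrix.trace, Finset.sum_mul_sum]
      rfl
    simp only [h1]
    rw [Finset.sum_comm]
    apply Finset.sum_eq_zero
    intro i _
    rw [Finset.sum_comm]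
    apply Finset.sum_eq_zero
    intro j _
    rw [← avg_single_apply ρ i j i j, h0]
    rfl

/-- In case A the character is real-valued. -/
theorem real_of_caseA [Fintype G] {B : Matrix (Fin n) (Fin n) ℂ} (hB : Inv ρ B)
    (hu : IsUnit B) (g : G) : (ρ.character g).im = 0 := by
  have hdet : IsUnit B.det := (Matrix.isUnit_iff_isUnit_det B).mp hu
  have h1 : B⁻¹ * B = 1 := Matrix.nonsing_inv_mul B hdet
  have h2 : ρ.character g = ρ.character g⁻¹ := by
    rw [← trace_R, ← trace_R]
    have h3 : R ρ g = B⁻¹ * (R ρ g⁻¹)ᵀ * B := by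
      rw [Matrix.mul_assoc, ← inv_comm ρ hB g, ← Matrix.mul_assoc, h1, Matrix.one_mul]
    conv_lhs => rw [h3]
    rw [Matrix.trace_mul_comm, ← Matrix.mul_assoc, Matrix.mul_nonsing_inv B hdet, Matrix.one_mul,
      Matrix.trace_transpose]
  rw [Cfsg.Agent.Lib.helper3.CharBasic.character_inv ρ g] at h2
  have h4 := congrArg Complex.im h2
  rw [Complex.conj_im] at h4
  linarith

open Cfsg.Agent.Lib.helper3.Irr Cfsg.Agent.Lib.helper3.IndFun in
/-- The Frobenius–Schur theorem in matrix form. -/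
theorem fs_main [Fintype G] [ρ.IsIrreducible] :
    ∃ c : ℂ, (c = 0 ∨ c = 1 ∨ c = -1) ∧
      (Nat.card G : ℂ)⁻¹ * ∑ s : G, ρ.character (s * s) = c ∧
      (c = 0 ↔ ∃ s : G, (ρ.character s).im ≠ 0) ∧ (c = -1 → Even n) := by
  classical
  have hn : (n : ℂ) ≠ 0 := by
    have := Cfsg.Agent.Lib.helper3.Central.finrank_ne_zero_of_irreducible ρ
    simpa using this
  have hG : (Nat.card G : ℂ) ≠ 0 := card_ne_zero_complex G
  have hsum : ∀ s : G, ρ.character (s * s) = (R ρ s * R ρ s).trace := by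
    intro s
    rw [← trace_R, R_mul]
  by_cases hex : ∃ B : Matrix (Fin n) (Fin n) ℂ, Inv ρ B ∧ B ≠ 0
  · obtain ⟨B, hB, hB0⟩ := hex
    have hu := isUnit_of_inv ρ hB hB0
    obtain ⟨c, hc1, hcT, hcs⟩ := fs_caseA ρ hB hu hn
    refine ⟨c, Or.inr hc1, ?_, ?_, ?_⟩
    · simp only [hsum]
      rw [hcs]
      field_simp
    · constructor
      · intro h0
        exfalso
        rcases hc1 with h | h <;> rw [h] at h0 <;> norm_num at h0
      · rintro ⟨s, hs⟩
        exact absurd (real_of_caseA ρ hB hu s) hs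
    · intro hcm
      have hdet : IsUnit B.det := (Matrix.isUnit_iff_isUnit_det B).mp hu
      have h1 : B.det = (-1) ^ n * B.det := by
        conv_lhs => rw [← Matrix.det_transpose, hcT, hcm, neg_one_smul, Matrix.det_neg]
        simp
      have h2 : ((-1 : ℂ)) ^ n = 1 := by
        have h3 := hdet.ne_zero
        have h4 : ((-1 : ℂ) ^ n - 1) * B.det = 0 := by
          rw [sub_mul, one_mul, ← h1, sub_self]
        rcases mul_eq_zero.mp h4 with h | h
        · exact sub_eq_zero.mp h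
        · exact absurd h h3
      exact (neg_one_pow_eq_one_iff_even (by norm_num)).mp h2
  · push Not at hex
    have hno : ∀ B : Matrix (Fin n) (Fin n) ℂ, Inv ρ B → B = 0 := by
      intro B hB
      exact hex B hB
    obtain ⟨h1, h2⟩ := fs_caseB ρ hno
    refine ⟨0, Or.inl rfl, ?_, ?_, ?_⟩
    · simp only [hsum]
      rw [h1, mul_zero]
    · constructor
      · intro _
        by_contra hne
        push Not at hne
        have hirr := irr_classInner_self (isIrrCharacter_of_rep ρ)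
        rw [classInner_apply] at hirr
        have : ∑ g : G, ρ.character g * conj (ρ.character g) = 0 := by
          rw [← h2]
          apply Finset.sum_congr rfl
          intro g _
          congr 1
          exact Complex.conj_eq_iff_im.mpr (hne g)
        rw [this, mul_zero] at hirr
        exact zero_ne_one hirr
      · intro _
        rfl
    · intro h
      exfalso
      norm_num at h

end Cfsg.Agent.Lib.helper3.FS
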