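import Mathlib
import Cfsg.Prelude.Def_Characters
import Cfsg.Prelude.Def_OddOrderLocal
import Cfsg.Agent.Lib.helper3.IndFunTI

set_option autoImplicit false
set_option linter.style.haveILetI false
set_option linter.unusedSectionVars false

/-!
# Self-normalizing cyclic subgroups `W = W₁ × W₂`: the TI property
-/

namespace Cfsg.Agent.Lib.helper3.CycTI

open Cfsg Cfsg.Agent.Lib.helper3.IndFun
open scoped ComplexConjugate

/-- In a finite cyclic group, elements of the same order generate the same subgroup. -/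
theorem mem_zpowers_of_orderOf_eq {C : Type*} [Group C] [Finite C] [IsCyclic C] {a b : C}
    (h : orderOf b = orderOf a) : b ∈ Subgroup.zpowers a := by
  classical
  letI : Fintype C := Fintype.ofFinite C
  have hd : 0 < orderOf a := orderOf_pos a
  have hS := IsCyclic.card_pow_eq_one_le (α := C) hd
  have hsub : Finset.univ.filter (fun x : C => x ∈ Subgroup.zpowers a)
      ⊆ Finset.univ.filter (fun x : C => x ^ orderOf a = 1) := by
    intro x hx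
    rw [Finset.mem_filter] at hx ⊢
    refine ⟨Finset.mem_univ x, ?_⟩
    obtain ⟨k, rfl⟩ := Subgroup.mem_zpowers_iff.mp hx.2
    rw [← zpow_natCast, ← zpow_mul, mul_comm, zpow_mul, zpow_natCast, pow_orderOf_eq_one, one_zpow]
  have hcard : (Finset.univ.filter (fun x : C => x ∈ Subgroup.zpowers a)).card = orderOf a := by
    rw [← Fintype.card_subtype, ← Nat.card_eq_fintype_card]
    exact Nat.card_zpowers a
  have heq := Finset.eq_of_subset_of_card_le hsub (by rw [hcard]; exact hS)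
  have hb : b ∈ Finset.univ.filter (fun x : C => x ^ orderOf a = 1) := by
    rw [Finset.mem_filter]
    exact ⟨Finset.mem_univ b, by rw [← h, pow_orderOf_eq_one]⟩
  rw [← heq, Finset.mem_filter] at hb
  exact hb.2

variable {G : Type*} [Group G]

/-- The same statement inside a cyclic subgroup. -/
theorem mem_zpowers_of_orderOf_eq_of_mem [Finite G] (W : Subgroup G) [hW : IsCyclic W] {a b : G}
    (ha : a ∈ W) (hb : b ∈ W) (h : orderOf b = orderOf a) : b ∈ Subgroup.zpowers a := by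
  have h' : orderOf (⟨b, hb⟩ : W) = orderOf (⟨a, ha⟩ : W) := by
    rw [← Subgroup.orderOf_coe, ← Subgroup.orderOf_coe]
    exact h
  have := mem_zpowers_of_orderOf_eq h'
  obtain ⟨k, hk⟩ := Subgroup.mem_zpowers_iff.mp this
  rw [Subgroup.mem_zpowers_iff]
  refine ⟨k, ?_⟩
  have := congrArg Subtype.val hk
  simpa using this

/-- The set `W \ (W₁ ∪ W₂)`. -/
def vset (W₁ W₂ : Subgroup G) : Set G := (↑(W₁ ⊔ W₂) : Set G) \ (↑W₁ ∪ ↑W₂)

theorem vset_nonempty (W₁ W₂ : Subgroup G) (hW : IsSelfNormalizingCyclic W₁ W₂) :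
    (vset W₁ W₂).Nonempty := by
  obtain ⟨hW1, hW2, hinf, hcomm, hcyc, hnorm⟩ := hW
  obtain ⟨a, ha1⟩ := (Subgroup.ne_bot_iff_exists_ne_one).mp hW1
  obtain ⟨b, hb1⟩ := (Subgroup.ne_bot_iff_exists_ne_one).mp hW2
  refine ⟨(a : G) * (b : G), ?_, ?_⟩
  · exact (W₁ ⊔ W₂).mul_mem (Subgroup.mem_sup_left a.2) (Subgroup.mem_sup_right b.2)
  · rintro (h | h)
    · have hbW : (b : G) ∈ W₁ := by
        have : (b : G) = (a : G)⁻¹ * ((a : G) * b) := by group
        rw [this]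
        exact W₁.mul_mem (W₁.inv_mem a.2) h
      have : (b : G) ∈ W₁ ⊓ W₂ := ⟨hbW, b.2⟩
      rw [hinf, Subgroup.mem_bot] at this
      exact hb1 (Subtype.ext this)
    · have haW : (a : G) ∈ W₂ := by
        have : (a : G) = ((a : G) * b) * (b : G)⁻¹ := by group
        rw [this]
        exact W₂.mul_mem h (W₂.inv_mem b.2)
      have : (a : G) ∈ W₁ ⊓ W₂ := ⟨a.2, haW⟩
      rw [hinf, Subgroup.mem_bot] at this
      exact ha1 (Subtype.ext this)

theorem normalizer_vset (W₁ W₂ : Subgroup G) (hW : IsSelfNormalizingCyclic W₁ W₂) :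
    Subgroup.normalizer (vset W₁ W₂) = W₁ ⊔ W₂ :=
  hW.2.2.2.2.2 _ (fun _ h => h) (vset_nonempty W₁ W₂ hW)

/-- The TI property. -/
theorem mem_of_conj_mem_vset [Finite G] (W₁ W₂ : Subgroup G) (hW : IsSelfNormalizingCyclic W₁ W₂)
    (g t : G) (ht : t ∈ vset W₁ W₂) (hs : g * t * g⁻¹ ∈ vset W₁ W₂) : g ∈ W₁ ⊔ W₂ := by
  obtain ⟨hW1, hW2, hinf, hcomm, hcyc, hnorm⟩ := hW
  haveI := hcyc
  obtain ⟨s, hsdef⟩ : ∃ s : G, s = g * t * g⁻¹ := ⟨_, rfl⟩
  rw [← hsdef] at hs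
  have hord : orderOf s = orderOf t := by
    rw [hsdef]
    exact (MulAut.conj g).orderOf_eq t
  have hconjpow : ∀ k : ℤ, g * t ^ k * g⁻¹ = s ^ k := by
    intro k
    rw [hsdef]
    exact ((MulAut.conj g).toMonoidHom.map_zpow t k)
  have hst : s ∈ Subgroup.zpowers t := mem_zpowers_of_orderOf_eq_of_mem (W₁ ⊔ W₂) ht.1 hs.1 hord
  have hts : t ∈ Subgroup.zpowers s :=
    mem_zpowers_of_orderOf_eq_of_mem (W₁ ⊔ W₂) hs.1 ht.1 hord.symm
  have hC1 : ∀ c ∈ Subgroup.zpowers t, g * c * g⁻¹ ∈ Subgroup.zpowers t := by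
    intro c hc
    obtain ⟨k, rfl⟩ := Subgroup.mem_zpowers_iff.mp hc
    rw [hconjpow]
    exact (Subgroup.zpowers t).zpow_mem hst k
  have hC2 : ∀ c ∈ Subgroup.zpowers t, g⁻¹ * c * g ∈ Subgroup.zpowers t := by
    intro c hc
    obtain ⟨k, rfl⟩ := Subgroup.mem_zpowers_iff.mp hc
    obtain ⟨j, hj⟩ := Subgroup.mem_zpowers_iff.mp hts
    have h1 : g⁻¹ * t * g = t ^ j := by
      calc g⁻¹ * t * g = g⁻¹ * (g * t ^ j * g⁻¹) * g := by rw [hconjpow, hj]
        _ = t ^ j := by group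
    have h2 : g⁻¹ * t ^ k * g = (g⁻¹ * t * g) ^ k := by
      have := (MulAut.conj g⁻¹).toMonoidHom.map_zpow t k
      simpa using this
    rw [h2, h1]
    exact (Subgroup.zpowers t).zpow_mem ((Subgroup.zpowers t).zpow_mem (Subgroup.mem_zpowers t) j) k
  obtain ⟨X, hX⟩ : ∃ X : Set G, X = {c | c ∈ Subgroup.zpowers t ∧ orderOf c = orderOf t} :=
    ⟨_, rfl⟩
  have hzle : Subgroup.zpowers t ≤ W₁ ⊔ W₂ := (Subgroup.zpowers_le).mpr ht.1
  have hXV : X ⊆ (↑(W₁ ⊔ W₂) : Set G) \ (↑W₁ ∪ ↑W₂) := by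
    intro c hc
    rw [hX] at hc
    refine ⟨hzle hc.1, ?_⟩
    have htc : t ∈ Subgroup.zpowers c :=
      mem_zpowers_of_orderOf_eq_of_mem (W₁ ⊔ W₂) (hzle hc.1) ht.1 hc.2.symm
    rintro (h | h)
    · exact ht.2 (Or.inl ((Subgroup.zpowers_le).mpr h htc))
    · exact ht.2 (Or.inr ((Subgroup.zpowers_le).mpr h htc))
  have hXne : X.Nonempty := ⟨t, by rw [hX]; exact ⟨Subgroup.mem_zpowers t, rfl⟩⟩
  rw [← hnorm X hXV hXne, Subgroup.mem_set_normalizer_iff]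
  intro n
  rw [hX]
  constructor
  · rintro ⟨h1, h2⟩
    exact ⟨hC1 n h1, by rw [← h2]; exact (MulAut.conj g).orderOf_eq n⟩
  · rintro ⟨h1, h2⟩
    refine ⟨?_, by rw [← h2]; exact ((MulAut.conj g).orderOf_eq n).symm⟩
    have := hC2 _ h1
    have e : g⁻¹ * (g * n * g⁻¹) * g = n := by group
    rw [e] at this
    exact this

/-- Homomorphisms on `W₁ ⊔ W₂` are determined by their values on `W₁` and `W₂`. -/
theorem hom_ext_sup (W₁ W₂ : Subgroup G) (ω ω' : ↥(W₁ ⊔ W₂) →* ℂˣ)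
    (h₁ : ∀ w : ↥(W₁ ⊔ W₂), (w : G) ∈ W₁ → ω w = ω' w)
    (h₂ : ∀ w : ↥(W₁ ⊔ W₂), (w : G) ∈ W₂ → ω w = ω' w) : ω = ω' := by
  apply MonoidHom.ext
  rintro ⟨x, hx⟩
  have hx' : x ∈ Subgroup.closure ((W₁ : Set G) ∪ W₂) := by
    rw [← Subgroup.sup_eq_closure]; exact hx
  have hcl : ∀ y, y ∈ Subgroup.closure ((W₁ : Set G) ∪ W₂) → y ∈ W₁ ⊔ W₂ := by
    intro y hy
    rw [Subgroup.sup_eq_closure]; exact hy
  suffices h : ∀ (hx : x ∈ W₁ ⊔ W₂), ω ⟨x, hx⟩ = ω' ⟨x, hx⟩ from h hx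
  refine Subgroup.closure_induction
    (p := fun y _ => ∀ (hy : y ∈ W₁ ⊔ W₂), ω ⟨y, hy⟩ = ω' ⟨y, hy⟩) ?_ ?_ ?_ ?_ hx'
  · intro y hy hyW
    rcases hy with hy | hy
    · exact h₁ ⟨y, hyW⟩ hy
    · exact h₂ ⟨y, hyW⟩ hy
  · intro h1
    exact (map_one ω).trans (map_one ω').symm
  · intro a b ha hb iha ihb hab
    have haW := hcl a ha
    have hbW := hcl b hb
    have : (⟨a * b, hab⟩ : ↥(W₁ ⊔ W₂)) = ⟨a, haW⟩ * ⟨b, hbW⟩ := rfl
    rw [this, map_mul, map_mul, iha haW, ihb hbW]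
  · intro a ha iha hinv
    have haW := hcl a ha
    have : (⟨a⁻¹, hinv⟩ : ↥(W₁ ⊔ W₂)) = ⟨a, haW⟩⁻¹ := rfl
    rw [this, map_inv, map_inv, iha haW]

/-- The TI isometry for a subgroup which is the normalizer of the TI-set. -/
theorem classInner_indFun_of_normalizer_eq [Fintype G] (T : Set G) (H : Subgroup G)
    (hH : Subgroup.normalizer T = H) [Fintype H]
    (hTI : ∀ g : G, g ∉ H → ∀ t ∈ T, g * t * g⁻¹ ∈ T → t = 1)
    (ψ θ : H → ℂ) (hθ : IsClassFunction H θ)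
    (hψT : ∀ x : H, (x : G) ∉ T → ψ x = 0) (hθT : ∀ x : H, (x : G) ∉ T → θ x = 0)
    (hψ1 : ψ 1 = 0) :
    classInner (indFun H ψ) (indFun H θ) = classInner ψ θ := by
  subst hH
  exact Cfsg.Agent.Lib.helper3.IndFunTI.classInner_indFun_TI T hTI ψ θ hθ hψT hθT hψ1

end Cfsg.Agent.Lib.helper3.CycTI
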