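import Mathlib
import Cfsg.Prelude.Def_Characters
import Cfsg.Prelude.Def_OddOrderLocal
import Cfsg.Agent.Lib.helper3.CycTI1
import Cfsg.Agent.Lib.helper3.TwoDeg1
import Cfsg.Agent.Lib.helper3.TransferChar

set_option autoImplicit false
set_option linter.style.haveILetI false
set_option linter.unusedSectionVars false

/-!
# Induced functions from a self-normalizing cyclic subgroup `W = W₁ × W₂`
-/

namespace Cfsg.Agent.Lib.helper3.CycTI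

open Cfsg Cfsg.Agent.Lib.helper3.IndFun Cfsg.Agent.Lib.helper3.Irr Cfsg.Agent.Lib.helper3.TwoDeg
open Cfsg.Agent.Lib.helper3.Lin
open scoped ComplexConjugate

variable {G : Type*} [Group G]

/-- A linear character of a group as a complex function. -/
def linFun {X : Type*} [Group X] (ω : X →* ℂˣ) : X → ℂ := fun w => ((ω w : ℂˣ) : ℂ)

theorem linFun_injective {X : Type*} [Group X] : Function.Injective (linFun (X := X)) := by
  intro ω ω' h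
  apply MonoidHom.ext
  intro w
  exact Units.ext (congrFun h w)

open Classical in
theorem classInner_linFun {X : Type*} [Group X] [Fintype X] (ω ω' : X →* ℂˣ) :
    classInner (linFun ω) (linFun ω') = if ω = ω' then 1 else 0 := by
  have h1 : IsIrrCharacter X (linFun ω) := IsLin.isIrr ⟨isCharacter_of_hom ω, by simp [linFun]⟩
  have h2 : IsIrrCharacter X (linFun ω') := IsLin.isIrr ⟨isCharacter_of_hom ω', by simp [linFun]⟩
  split_ifs with h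
  · rw [h]
    exact irr_classInner_self h2
  · exact irr_classInner_eq_zero h1 h2 (fun e => h (linFun_injective e))

/-- The function `(1 - φ)(1 - ψ)`. -/
def alphaFun {X : Type*} [Group X] (φ ψ : X →* ℂˣ) : X → ℂ :=
  fun w => 1 - (φ w : ℂ) - (ψ w : ℂ) + (φ w : ℂ) * (ψ w : ℂ)

theorem alphaFun_eq {X : Type*} [Group X] (φ ψ : X →* ℂˣ) :
    alphaFun φ ψ = linFun 1 - linFun φ - linFun ψ + linFun (φ * ψ) := by
  funext w
  simp [alphaFun, linFun]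

section

variable (W₁ W₂ : Subgroup G)

theorem ne_one_mul (φ ψ : ↥(W₁ ⊔ W₂) →* ℂˣ) (hφ : φ ≠ 1)
    (hφ₂ : ∀ w : ↥(W₁ ⊔ W₂), (w : G) ∈ W₂ → φ w = 1)
    (hψ₁ : ∀ w : ↥(W₁ ⊔ W₂), (w : G) ∈ W₁ → ψ w = 1) (η : ↥(W₁ ⊔ W₂) →* ℂˣ)
    (hη : ∀ w : ↥(W₁ ⊔ W₂), (w : G) ∈ W₁ → η w = 1) : φ * ψ ≠ η := by
  intro h
  apply hφ
  apply hom_ext_sup W₁ W₂
  · intro w hw
    have := congrArg (fun f : ↥(W₁ ⊔ W₂) →* ℂˣ => f w) h
    simp only [MonoidHom.mul_apply] at this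
    rw [hψ₁ w hw, hη w hw, mul_one] at this
    rw [this, MonoidHom.one_apply]
  · intro w hw
    rw [hφ₂ w hw, MonoidHom.one_apply]

theorem mul_ne_one' (φ ψ : ↥(W₁ ⊔ W₂) →* ℂˣ) (hψ : ψ ≠ 1)
    (hφ₂ : ∀ w : ↥(W₁ ⊔ W₂), (w : G) ∈ W₂ → φ w = 1)
    (hψ₁ : ∀ w : ↥(W₁ ⊔ W₂), (w : G) ∈ W₁ → ψ w = 1) (η : ↥(W₁ ⊔ W₂) →* ℂˣ)
    (hη : ∀ w : ↥(W₁ ⊔ W₂), (w : G) ∈ W₂ → η w = 1) : φ * ψ ≠ η := by
  intro h
  apply hψ
  apply hom_ext_sup W₁ W₂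
  · intro w hw
    rw [hψ₁ w hw, MonoidHom.one_apply]
  · intro w hw
    have := congrArg (fun f : ↥(W₁ ⊔ W₂) →* ℂˣ => f w) h
    simp only [MonoidHom.mul_apply] at this
    rw [hφ₂ w hw, hη w hw, one_mul] at this
    rw [this, MonoidHom.one_apply]

theorem ne_of_trivial (φ ψ : ↥(W₁ ⊔ W₂) →* ℂˣ) (hφ : φ ≠ 1)
    (hφ₂ : ∀ w : ↥(W₁ ⊔ W₂), (w : G) ∈ W₂ → φ w = 1)
    (hψ₁ : ∀ w : ↥(W₁ ⊔ W₂), (w : G) ∈ W₁ → ψ w = 1) : φ ≠ ψ := by
  intro h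
  apply hφ
  apply hom_ext_sup W₁ W₂
  · intro w hw
    rw [h, hψ₁ w hw, MonoidHom.one_apply]
  · intro w hw
    rw [hφ₂ w hw, MonoidHom.one_apply]

theorem mul_eq_mul_iff (φ φ' ψ ψ' : ↥(W₁ ⊔ W₂) →* ℂˣ)
    (hφ₂ : ∀ w : ↥(W₁ ⊔ W₂), (w : G) ∈ W₂ → φ w = 1 ∧ φ' w = 1)
    (hψ₁ : ∀ w : ↥(W₁ ⊔ W₂), (w : G) ∈ W₁ → ψ w = 1 ∧ ψ' w = 1) :
    φ * ψ = φ' * ψ' ↔ (φ = φ' ∧ ψ = ψ') := by
  constructor
  · intro h
    have hw : ∀ w : ↥(W₁ ⊔ W₂), φ w * ψ w = φ' w * ψ' w := by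
      intro w
      have := congrArg (fun f : ↥(W₁ ⊔ W₂) →* ℂˣ => f w) h
      simpa only [MonoidHom.mul_apply] using this
    constructor
    · apply hom_ext_sup W₁ W₂
      · intro w hw1
        have := hw w
        rw [(hψ₁ w hw1).1, (hψ₁ w hw1).2, mul_one, mul_one] at this
        exact this
      · intro w hw2
        rw [(hφ₂ w hw2).1, (hφ₂ w hw2).2]
    · apply hom_ext_sup W₁ W₂
      · intro w hw1
        rw [(hψ₁ w hw1).1, (hψ₁ w hw1).2]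
      · intro w hw2
        have := hw w
        rw [(hφ₂ w hw2).1, (hφ₂ w hw2).2, one_mul, one_mul] at this
        exact this
  · rintro ⟨rfl, rfl⟩
    rfl

end

end Cfsg.Agent.Lib.helper3.CycTI
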