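import Mathlib
import Cfsg.Prelude.Def_Characters
import Cfsg.Agent.Lib.helper3.Irr12
import Cfsg.Agent.Lib.helper3.CycTI2
import Cfsg.Agent.Lib.helper3.NormTwo
import Cfsg.Agent.Lib.helper3.Irr9

/-!
# Brauer–Suzuki for quaternion Sylow subgroups: abstract character lemmas
-/

set_option autoImplicit false
set_option linter.style.haveILetI false
set_option linter.unusedSectionVars false

namespace Cfsg.Agent.Lib.helper3.BSQ

open Cfsg Cfsg.Agent.Lib.helper3.Irr Cfsg.Agent.Lib.helper3.CharBasic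
open Cfsg.Agent.Lib.helper3.IndFun Cfsg.Agent.Lib.helper3.CycTI
open Cfsg.Agent.Lib.helper3.Lin
open scoped ComplexConjugate

section indexTwo

variable {Γ : Type*} [Group Γ] [Fintype Γ] (H : Subgroup Γ) [hH : H.Normal] [Fintype H]

/-- Splitting a sum over a group along a subgroup of index two. -/
theorem sum_eq_of_index_two (hidx : H.index = 2) (b : Γ) (hb : b ∉ H) (F : Γ → ℂ) :
    ∑ x : Γ, F x = ∑ c : H, F c + ∑ c : H, F ((c : Γ) * b) := by
  classical
  rw [← Finset.sum_filter_add_sum_filter_not Finset.univ (fun x : Γ => x ∈ H)]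
  congr 1
  · rw [← Finset.sum_subtype (Finset.univ.filter (fun g : Γ => g ∈ H))
      (fun g => by simp) F]
  · symm
    apply Finset.sum_bij (fun (c : H) _ => (c : Γ) * b)
    · intro c _
      rw [Finset.mem_filter]
      refine ⟨Finset.mem_univ _, ?_⟩
      intro h
      apply hb
      have : b = (c : Γ)⁻¹ * ((c : Γ) * b) := by group
      rw [this]
      exact H.mul_mem (H.inv_mem c.2) h
    · intro c _ d _ hcd
      exact Subtype.ext (mul_right_cancel hcd)
    · intro x hx
      rw [Finset.mem_filter] at hx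
      have hb' : b⁻¹ ∉ H := fun h => hb (by simpa using H.inv_mem h)
      have hmem : x * b⁻¹ ∈ H := by
        rw [Subgroup.mul_mem_iff_of_index_two hidx]
        exact ⟨fun h => absurd h hx.2, fun h => absurd h hb'⟩
      exact ⟨⟨x * b⁻¹, hmem⟩, Finset.mem_univ _, by simp⟩
    · intro c _
      rfl

/-- The function induced from a class function on a normal subgroup of index two. -/
theorem indFun_apply_of_index_two (hidx : H.index = 2) (b : Γ) (hb : b ∉ H) (θ : H → ℂ)
    (hθ : IsClassFunction H θ) (h : H) :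
    indFun H θ h = θ h + θ ⟨b * h * b⁻¹, hH.conj_mem h h.2 b⟩ := by
  rw [indFun_normal_apply, sum_eq_of_index_two H hidx b hb]
  have h1 : ∀ c : H, conjFun H θ (c : Γ) h = θ h := by
    intro c
    unfold conjFun
    have := hθ h c
    rw [← this]
    congr 1
  have h2 : ∀ c : H, conjFun H θ ((c : Γ) * b) h = θ ⟨b * h * b⁻¹, hH.conj_mem h h.2 b⟩ := by
    intro c
    unfold conjFun
    have := hθ ⟨b * h * b⁻¹, hH.conj_mem h h.2 b⟩ c
    rw [← this]
    congr 1
    apply Subtype.ext
    simp only [Subgroup.coe_mul, Subgroup.coe_inv]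
    group
  simp_rw [h1, h2]
  simp only [Finset.sum_const, Finset.card_univ, nsmul_eq_mul]
  rw [← Nat.card_eq_fintype_card]
  have hH0 : (Nat.card H : ℂ) ≠ 0 := by exact_mod_cast Nat.card_pos.ne'
  field_simp

/-- The norm of the function induced from `1 - ν` for a linear character `ν` of a normal
subgroup of index two which is not stable. -/
theorem classInner_indFun_one_sub (hidx : H.index = 2) (b : Γ) (hb : b ∉ H) (ν : H →* ℂˣ)
    (hν1 : ν ≠ 1) (νb : H →* ℂˣ)
    (hνb : ∀ h : H, νb h = ν ⟨b * h * b⁻¹, hH.conj_mem h h.2 b⟩) (hne : νb ≠ ν) :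
    classInner (indFun H (linFun (1 : H →* ℂˣ) - linFun ν))
      (indFun H (linFun (1 : H →* ℂˣ) - linFun ν)) = 3 := by
  classical
  obtain ⟨θ, hθdef⟩ : ∃ θ : H → ℂ, θ = linFun (1 : H →* ℂˣ) - linFun ν := ⟨_, rfl⟩
  rw [← hθdef]
  have hθcf : IsClassFunction H θ := by
    intro g x
    have h1 := isClassFunction_of_isCharacter (isCharacter_of_hom (1 : H →* ℂˣ)) g x
    have h2 := isClassFunction_of_isCharacter (isCharacter_of_hom ν) g x
    rw [hθdef]
    simp only [Pi.sub_apply, linFun]
    rw [h1, h2]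
  rw [frobenius_reciprocity H θ _ (indFun_isClassFunction H θ)]
  have hres : (fun h : H => indFun H θ h) =
      (linFun (1 : H →* ℂˣ) - linFun ν) + (linFun (1 : H →* ℂˣ) - linFun νb) := by
    funext h
    rw [indFun_apply_of_index_two H hidx b hb θ hθcf h, hθdef]
    simp only [Pi.add_apply, Pi.sub_apply, linFun, MonoidHom.one_apply, hνb]
  rw [hres, hθdef, classInner_add_right, classInner_sub_left, classInner_sub_left,
    classInner_sub_right, classInner_sub_right, classInner_sub_right, classInner_sub_right,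
    classInner_linFun, classInner_linFun, classInner_linFun, classInner_linFun,
    classInner_linFun, classInner_linFun]
  have e1 : (1 : H →* ℂˣ) ≠ ν := fun h => hν1 h.symm
  have e2 : (1 : H →* ℂˣ) ≠ νb := by
    intro h
    apply hν1
    apply MonoidHom.ext
    intro x
    have hx : x = ⟨b * (⟨b⁻¹ * x * b⁻¹⁻¹, hH.conj_mem x x.2 b⁻¹⟩ : H) * b⁻¹,
        hH.conj_mem _ (hH.conj_mem x x.2 b⁻¹) b⟩ := by
      apply Subtype.ext
      simp only
      group
    rw [hx, ← hνb, ← h]
    simp
  have e3 : ν ≠ νb := fun h => hne h.symm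
  simp only [if_pos, if_neg e1, if_neg hν1, if_neg e2, if_neg e3, if_true]
  norm_num

end indexTwo

section norm

variable {G : Type*} [Group G] [Fintype G]

/-- A generalized character of norm two is a signed sum of two distinct irreducible
characters. -/
theorem exists_of_norm_two {θ : G → ℂ} (hθ : IsGeneralizedCharacter G θ)
    (hnorm : classInner θ θ = 2) :
    ∃ a b : IrrCharacter G, a ≠ b ∧ ∃ ea eb : ℤ, (ea = 1 ∨ ea = -1) ∧ (eb = 1 ∨ eb = -1) ∧
      θ = (ea : ℂ) • (a : G → ℂ) + (eb : ℂ) • (b : G → ℂ) := by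
  classical
  obtain ⟨z, rfl⟩ := exists_int_decomposition hθ
  rw [classInner_int_decomposition] at hnorm
  have hz : ∑ ψ : IrrCharacter G, z ψ ^ 2 = 2 := by
    have : ((∑ ψ : IrrCharacter G, z ψ * z ψ : ℤ) : ℂ) = ((2 : ℤ) : ℂ) := by
      rw [hnorm]; norm_num
    have h2 : ∑ ψ : IrrCharacter G, z ψ * z ψ = 2 := by exact_mod_cast this
    rw [← h2]
    apply Finset.sum_congr rfl
    intro ψ _
    ring
  obtain ⟨a, b, hab, ha, hb, hrest⟩ := int_sq_sum_two z hz
  refine ⟨a, b, hab, z a, z b, ha, hb, ?_⟩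
  rw [← Finset.add_sum_erase Finset.univ _ (Finset.mem_univ a)]
  congr 1
  rw [← Finset.add_sum_erase _ _ (Finset.mem_erase.mpr ⟨hab.symm, Finset.mem_univ b⟩)]
  rw [Finset.sum_eq_zero, add_zero]
  intro c hc
  rw [Finset.mem_erase, Finset.mem_erase] at hc
  rw [hrest c hc.2.1 hc.1, Int.cast_zero, zero_smul]

/-- A generalized character of norm three, containing the principal character once and
vanishing at the identity. -/
theorem exists_of_norm_three {α : G → ℂ} (hα : IsGeneralizedCharacter G α)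
    (hnorm : classInner α α = 3) (h1 : classInner α (fun _ => 1) = 1) (hα1 : α 1 = 0) :
    ∃ χ₁ χ₂ : G → ℂ, IsIrrCharacter G χ₁ ∧ IsIrrCharacter G χ₂ ∧ χ₁ ≠ (fun _ => 1) ∧
      χ₂ ≠ (fun _ => 1) ∧ χ₁ 1 = χ₂ 1 + 1 ∧ α = (fun _ => 1) + χ₂ - χ₁ := by
  classical
  obtain ⟨β, hβ⟩ : ∃ β : G → ℂ, β = α - (fun _ => 1) := ⟨_, rfl⟩
  have hone : IsIrrCharacter G (fun _ : G => (1 : ℂ)) := isIrrCharacter_one
  have hβgen : IsGeneralizedCharacter G β := by
    obtain ⟨u, v, hu, hv, huv⟩ := hα
    refine ⟨u, v + (fun _ => 1), hu, isCharacter_add hv (isCharacter_of_isIrrCharacter hone), ?_⟩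
    rw [hβ, huv]; abel
  have h1' : classInner (fun _ : G => (1 : ℂ)) α = 1 := by
    rw [← classInner_conj_symm, h1, map_one]
  have hβnorm : classInner β β = 2 := by
    rw [hβ, classInner_sub_left, classInner_sub_right, classInner_sub_right, hnorm, h1, h1',
      irr_classInner_self hone]
    norm_num
  have hβ1 : classInner β (fun _ => 1) = 0 := by
    rw [hβ, classInner_sub_left, h1, irr_classInner_self hone, sub_self]
  obtain ⟨a, b, hab, ea, eb, hea, heb, hdec⟩ := exists_of_norm_two hβgen hβnorm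
  have hinner : ∀ c : IrrCharacter G, classInner β (c : G → ℂ) =
      (ea : ℂ) * (if a = c then 1 else 0) + (eb : ℂ) * (if b = c then 1 else 0) := by
    intro c
    rw [hdec, classInner_add_left, classInner_smul_left, classInner_smul_left,
      irr_classInner_eq a.2 c.2, irr_classInner_eq b.2 c.2]
    have e1 : ((a : G → ℂ) = (c : G → ℂ)) ↔ a = c := Subtype.ext_iff.symm
    have e2 : ((b : G → ℂ) = (c : G → ℂ)) ↔ b = c := Subtype.ext_iff.symm
    simp only [e1, e2]
  have hea0 : (ea : ℂ) ≠ 0 := by rcases hea with h | h <;> rw [h] <;> norm_num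
  have heb0 : (eb : ℂ) ≠ 0 := by rcases heb with h | h <;> rw [h] <;> norm_num
  have ha1 : (a : G → ℂ) ≠ fun _ => 1 := by
    intro h
    have h2 := hinner ⟨fun _ => 1, hone⟩
    rw [hβ1] at h2
    have e1 : a = ⟨fun _ => 1, hone⟩ := Subtype.ext h
    have e2 : b ≠ ⟨fun _ => 1, hone⟩ := fun e => hab (e1.trans e.symm)
    rw [if_pos e1, if_neg e2] at h2
    simp at h2
    exact hea0 h2.symm
  have hb1 : (b : G → ℂ) ≠ fun _ => 1 := by
    intro h
    have h2 := hinner ⟨fun _ => 1, hone⟩
    rw [hβ1] at h2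
    have e1 : b = ⟨fun _ => 1, hone⟩ := Subtype.ext h
    have e2 : a ≠ ⟨fun _ => 1, hone⟩ := fun e => hab (e.trans e1.symm)
    rw [if_pos e1, if_neg e2] at h2
    simp at h2
    exact heb0 h2.symm
  obtain ⟨da, hda, hda'⟩ := exists_pos_nat_apply_one a.2
  obtain ⟨db, hdb, hdb'⟩ := exists_pos_nat_apply_one b.2
  have hval : (ea : ℂ) * (da : ℂ) + (eb : ℂ) * (db : ℂ) = -1 := by
    have := congrFun hdec 1
    rw [hβ] at this
    simp only [Pi.sub_apply, Pi.add_apply, Pi.smul_apply, smul_eq_mul, hα1, hda', hdb'] at this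
    rw [← this]; ring
  have hval' : ea * (da : ℤ) + eb * (db : ℤ) = -1 := by exact_mod_cast hval
  have hαeq : α = (fun _ => 1) + β := by rw [hβ]; abel
  rcases hea with hea | hea <;> rcases heb with heb | heb
  · exfalso; rw [hea, heb] at hval'; omega
  · -- `β = a - b`
    refine ⟨b, a, b.2, a.2, hb1, ha1, ?_, ?_⟩
    · rw [hda', hdb']
      rw [hea, heb] at hval'
      have : (db : ℤ) = da + 1 := by omega
      exact_mod_cast this
    · rw [hαeq, hdec, hea, heb]
      simp only [Int.cast_one, one_smul, Int.cast_neg, neg_smul]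
      abel
  · refine ⟨a, b, a.2, b.2, ha1, hb1, ?_, ?_⟩
    · rw [hda', hdb']
      rw [hea, heb] at hval'
      have : (da : ℤ) = db + 1 := by omega
      exact_mod_cast this
    · rw [hαeq, hdec, hea, heb]
      simp only [Int.cast_one, one_smul, Int.cast_neg, neg_smul]
      abel
  · exfalso; rw [hea, heb] at hval'; omega

end norm

end Cfsg.Agent.Lib.helper3.BSQ
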