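import Mathlib

/-!
# Power maps on finite nilpotent groups

In a finite nilpotent group of order dividing `m * n` with `m`, `n` coprime, the power map
`x ↦ x ^ b` with `m ∣ b` and `b ≡ 1 [MOD n]` is an endomorphism (the projection onto the Hall
subgroup for the primes dividing `n`).
-/

set_option autoImplicit false
set_option linter.style.haveILetI false
set_option linter.unusedSectionVars false

namespace Cfsg.Agent.Lib.helper3.NilpPow

theorem pow_mul_of_nilpotent {E : Type*} [Group E] [Finite E] [hE : Group.IsNilpotent E]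
    (m n b : ℕ) (hcard : Nat.card E ∣ m * n) (hmn : Nat.Coprime m n) (hbm : m ∣ b)
    (hbn : b ≡ 1 [MOD n]) (x y : E) : (x * y) ^ b = x ^ b * y ^ b := by
  obtain ⟨φ⟩ := ((Group.isNilpotent_of_finite_tfae (G := E)).out 0 4).mp hE
  have key : ∀ f g : (∀ p : (Nat.card E).primeFactors, ∀ P : Sylow p E, (↑P : Subgroup E)),
      (f * g) ^ b = f ^ b * g ^ b := by
    intro f g
    funext p P
    simp only [Pi.pow_apply, Pi.mul_apply]
    have hp : (p : ℕ).Prime := Nat.prime_of_mem_primeFactors p.2
    haveI : Fact (p : ℕ).Prime := ⟨hp⟩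
    have hpdvd : (p : ℕ) ∣ m * n := dvd_trans (Nat.dvd_of_mem_primeFactors p.2) hcard
    have hall : (∀ z : (P : Subgroup E), z ^ b = 1) ∨ (∀ z : (P : Subgroup E), z ^ b = z) := by
      rcases (Nat.Prime.dvd_mul hp).1 hpdvd with h | h
      · left
        intro z
        obtain ⟨j, hj⟩ := (IsPGroup.iff_orderOf.mp P.2) z
        have h1 : orderOf z ∣ m * n := dvd_trans (orderOf_dvd_natCard z)
          (dvd_trans (Subgroup.card_subgroup_dvd_card _) hcard)
        have hpn : Nat.Coprime (p : ℕ) n := by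
          rw [Nat.Prime.coprime_iff_not_dvd hp]
          intro hn
          exact Nat.Prime.not_dvd_one hp (hmn ▸ Nat.dvd_gcd h hn)
        have h2 : orderOf z ∣ m := by
          rw [hj] at h1 ⊢
          exact (Nat.Coprime.pow_left j hpn).dvd_of_dvd_mul_right h1
        exact orderOf_dvd_iff_pow_eq_one.mp (dvd_trans h2 hbm)
      · right
        intro z
        obtain ⟨j, hj⟩ := (IsPGroup.iff_orderOf.mp P.2) z
        have h1 : orderOf z ∣ m * n := dvd_trans (orderOf_dvd_natCard z)
          (dvd_trans (Subgroup.card_subgroup_dvd_card _) hcard)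
        have hpm : Nat.Coprime (p : ℕ) m := by
          rw [Nat.Prime.coprime_iff_not_dvd hp]
          intro hm
          exact Nat.Prime.not_dvd_one hp (hmn ▸ Nat.dvd_gcd hm h)
        have h2 : orderOf z ∣ n := by
          rw [hj] at h1 ⊢
          exact (Nat.Coprime.pow_left j hpm).dvd_of_dvd_mul_left h1
        have h3 : b ≡ 1 [MOD orderOf z] := hbn.of_dvd h2
        have := pow_eq_pow_iff_modEq.mpr h3
        rw [pow_one] at this
        exact this
    rcases hall with h | h
    · rw [h, h, h, one_mul]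
    · rw [h, h, h]
  have h1 := key (φ.symm x) (φ.symm y)
  apply φ.symm.injective
  rw [map_pow, map_mul, map_mul, map_pow, map_pow]
  exact h1

/-- The power map as an endomorphism. -/
noncomputable def powHom {E : Type*} [Group E] [Finite E] [hE : Group.IsNilpotent E]
    (m n b : ℕ) (hcard : Nat.card E ∣ m * n) (hmn : Nat.Coprime m n) (hbm : m ∣ b)
    (hbn : b ≡ 1 [MOD n]) : E →* E where
  toFun x := x ^ b
  map_one' := one_pow b
  map_mul' := pow_mul_of_nilpotent m n b hcard hmn hbm hbn

theorem powHom_apply {E : Type*} [Group E] [Finite E] [hE : Group.IsNilpotent E]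
    (m n b : ℕ) (hcard : Nat.card E ∣ m * n) (hmn : Nat.Coprime m n) (hbm : m ∣ b)
    (hbn : b ≡ 1 [MOD n]) (x : E) : powHom m n b hcard hmn hbm hbn x = x ^ b := rfl

/-- Existence of the exponent. -/
theorem exists_exponent (m n : ℕ) (hmn : Nat.Coprime m n) :
    ∃ b : ℕ, m ∣ b ∧ b ≡ 1 [MOD n] := by
  obtain ⟨k, hk1, hk2⟩ := Nat.chineseRemainder hmn 0 1
  exact ⟨k, (Nat.modEq_zero_iff_dvd).mp hk1, hk2⟩

/-- `b * b ≡ b` modulo `m * n`. -/
theorem sq_modEq (m n b : ℕ) (hmn : Nat.Coprime m n) (hbm : m ∣ b) (hbn : b ≡ 1 [MOD n]) :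
    b * b ≡ b [MOD m * n] := by
  rw [← Nat.modEq_and_modEq_iff_modEq_mul hmn]
  constructor
  · have h0 : b ≡ 0 [MOD m] := (Nat.modEq_zero_iff_dvd).mpr hbm
    have := h0.mul h0
    exact this.trans h0.symm
  · have := hbn.mul hbn
    exact this.trans hbn.symm

/-- A finite group of exponent dividing `n` and order dividing `m * n` has order dividing `n`. -/
theorem card_dvd_of_forall_pow {R : Type*} [Group R] [Finite R] (m n : ℕ)
    (hcard : Nat.card R ∣ m * n) (hmn : Nat.Coprime m n) (hexp : ∀ v : R, v ^ n = 1) :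
    Nat.card R ∣ n := by
  have hcop : Nat.Coprime (Nat.card R) m := by
    apply Nat.coprime_of_dvd
    intro p hp hpR hpm
    haveI : Fact p.Prime := ⟨hp⟩
    obtain ⟨v, hv⟩ := exists_prime_orderOf_dvd_card' p hpR
    have hpn : p ∣ n := by
      rw [← hv]
      exact orderOf_dvd_of_pow_eq_one (hexp v)
    exact Nat.Prime.not_dvd_one hp (hmn ▸ Nat.dvd_gcd hpm hpn)
  exact hcop.dvd_of_dvd_mul_left hcard

end Cfsg.Agent.Lib.helper3.NilpPow
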