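import Mathlib
import Cfsg.Agent.Lib.helper3.GlSub2
import Cfsg.Agent.Lib.helper3.CycExt2

/-!
# The norm of an extension on a coset `C x`, for an arbitrary coprime element `x`
-/

set_option autoImplicit false
set_option linter.style.haveILetI false
set_option linter.unusedSectionVars false

namespace Cfsg.Agent.Lib.helper3.GlFpf

open Cfsg Module Cfsg.Agent.Lib.helper3.Irr Cfsg.Agent.Lib.helper3.CharBasic
open Cfsg.Agent.Lib.helper3.IndFun Cfsg.Agent.Lib.helper3.GlCyc Cfsg.Agent.Lib.helper3.GlSub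
open scoped ComplexConjugate

variable {Γ : Type*} [Group Γ] [Fintype Γ]

/-- For `ξ ∈ Irr(Γ)` restricting irreducibly to the normal subgroup `G`, and `x` of order
coprime to `|G|` with `C = C_G(x)`, the function `c ↦ ξ (c x)` on `C` has norm one. -/
theorem norm_coset_eq_one (G : Subgroup Γ) [hG : G.Normal] [Fintype G] (x : Γ)
    (hcop : (Nat.card G).Coprime (orderOf x)) (C : Subgroup Γ) [Fintype C]
    (hC : C = G ⊓ Subgroup.centralizer ({x} : Set Γ)) (ξ : Γ → ℂ) (hξ : IsIrrCharacter Γ ξ)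
    (hξG : IsIrrCharacter G (fun g : G => ξ g)) :
    classInner (fun c : C => ξ ((c : Γ) * x)) (fun c : C => ξ ((c : Γ) * x)) = 1 := by
  classical
  letI : Fintype (LL G x) := Fintype.ofFinite _
  letI : Fintype (G.subgroupOf (LL G x)) := Fintype.ofFinite _
  letI : Fintype (C.subgroupOf (LL G x)) := Fintype.ofFinite _
  have hx : x ∈ Subgroup.normalizer (G : Set Γ) := by
    rw [Subgroup.normalizer_eq_top]
    exact Subgroup.mem_top x
  have h := setup_sub G x hx hcop
  have hC' := cent_sub G x C hC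
  have hCG : C ≤ G := hC ▸ inf_le_left
  have hCL : C ≤ LL G x := hCG.trans (G_le G x)
  obtain ⟨eG, heG⟩ : ∃ eG : G.subgroupOf (LL G x) ≃* G,
      ∀ y, ((eG y : G) : Γ) = ((y : LL G x) : Γ) :=
    ⟨Subgroup.subgroupOfEquivOfLe (G_le G x), fun _ => rfl⟩
  obtain ⟨eC, heC⟩ : ∃ eC : C.subgroupOf (LL G x) ≃* C,
      ∀ y, ((eC y : C) : Γ) = ((y : LL G x) : Γ) :=
    ⟨Subgroup.subgroupOfEquivOfLe hCL, fun _ => rfl⟩
  obtain ⟨ξL, hξLdef⟩ : ∃ ξL : LL G x → ℂ, ξL = fun y : LL G x => ξ (y : Γ) := ⟨_, rfl⟩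
  have hξLc : IsCharacter (LL G x) ξL := by
    rw [hξLdef]
    exact isCharacter_restrict (isCharacter_of_isIrrCharacter hξ) (LL G x)
  have hξLG : IsIrrCharacter (G.subgroupOf (LL G x))
      (fun g : G.subgroupOf (LL G x) => ξL (g : LL G x)) := by
    have : (fun g : G.subgroupOf (LL G x) => ξL (g : LL G x))
        = fun g => (fun g' : G => ξ g') (eG g) := by
      funext g
      rw [hξLdef]
      simp only
      rw [heG]
    rw [this]
    exact isIrrCharacter_comp_mulEquiv eG hξG
  have hξL : IsIrrCharacter (LL G x) ξL :=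
    Cfsg.Agent.Lib.helper3.CycExt.isIrrCharacter_of_restrict (G.subgroupOf (LL G x)) hξLc hξLG
  have hnorm := h.phi_norm _ hC' ξL hξL hξLG
  rw [← classInner_comp_mulEquiv eC]
  convert hnorm using 2
  · funext c
    rw [hξLdef]
    simp only
    congr 1
    push_cast
    rw [heC]
  · funext c
    rw [hξLdef]
    simp only
    congr 1
    push_cast
    rw [heC]

end Cfsg.Agent.Lib.helper3.GlFpf
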