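import Mathlib
import Cfsg.Agent.Lib.helper3.GlCyc5

/-!
# An integer lemma on vectors with small variance

For an integer vector `b` on `n` slots put `V b = n * ∑ b i ^ 2 - (∑ b i) ^ 2`. Then `V b = 0`
(and `b` is constant) or `V b ≥ n - 1`, and in the case of equality `b` is constant up to one
slot where it differs by a sign.
-/

set_option autoImplicit false
set_option linter.style.haveILetI false
set_option linter.unusedSectionVars false

namespace Cfsg.Agent.Lib.helper3.Lagr

open Cfsg.Agent.Lib.helper3.GlCyc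

variable {I : Type*} [Fintype I]

/-- The variance form. -/
def V (b : I → ℤ) : ℤ := (Fintype.card I : ℤ) * ∑ i, b i ^ 2 - (∑ i, b i) ^ 2

theorem V_shift (b : I → ℤ) (k : ℤ) : V (fun i => b i - k) = V b := by
  unfold V
  have h1 : ∑ i, (b i - k) ^ 2 = ∑ i, b i ^ 2 - 2 * k * ∑ i, b i + (Fintype.card I : ℤ) * k ^ 2 := by
    have : ∀ i, (b i - k) ^ 2 = b i ^ 2 - 2 * k * b i + k ^ 2 := fun i => by ring
    simp only [this]
    rw [Finset.sum_add_distrib, Finset.sum_sub_distrib, ← Finset.mul_sum]
    simp [Finset.sum_const, Finset.card_univ]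
  have h2 : ∑ i, (b i - k) = ∑ i, b i - (Fintype.card I : ℤ) * k := by
    rw [Finset.sum_sub_distrib]
    simp [Finset.sum_const, Finset.card_univ]
  rw [h1, h2]
  ring

/-- The normal form: subtract the floor of the mean. -/
theorem exists_normal_form (b : I → ℤ) (hn : 1 ≤ Fintype.card I) :
    ∃ (k r : ℤ) (c : I → ℤ), (∀ i, b i = k + c i) ∧ 0 ≤ r ∧ r < Fintype.card I ∧
      ∑ i, c i = r ∧ V b = (Fintype.card I : ℤ) * ∑ i, c i ^ 2 - r ^ 2 := by
  have hn' : (0 : ℤ) < Fintype.card I := by exact_mod_cast hn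
  refine ⟨(∑ i, b i) / (Fintype.card I : ℤ), (∑ i, b i) % (Fintype.card I : ℤ),
    fun i => b i - (∑ i, b i) / (Fintype.card I : ℤ), fun i => by ring,
    Int.emod_nonneg _ hn'.ne', Int.emod_lt_of_pos _ hn', ?_, ?_⟩
  · rw [Finset.sum_sub_distrib]
    simp only [Finset.sum_const, Finset.card_univ, nsmul_eq_mul]
    have := Int.emod_add_mul_ediv (∑ i, b i) (Fintype.card I : ℤ)
    linarith
  · rw [← V_shift b ((∑ i, b i) / (Fintype.card I : ℤ))]
    unfold V
    congr 1
    congr 1
    rw [Finset.sum_sub_distrib]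
    simp only [Finset.sum_const, Finset.card_univ, nsmul_eq_mul]
    have := Int.emod_add_mul_ediv (∑ i, b i) (Fintype.card I : ℤ)
    linarith

theorem V_eq_zero_or_ge (b : I → ℤ) (hn : 1 ≤ Fintype.card I) :
    (V b = 0 ∧ ∀ i j, b i = b j) ∨ (Fintype.card I : ℤ) - 1 ≤ V b := by
  obtain ⟨k, r, c, hb, hr0, hrn, hsum, hV⟩ := exists_normal_form b hn
  have hn' : (1 : ℤ) ≤ Fintype.card I := by exact_mod_cast hn
  have hle : ∑ i, c i ≤ ∑ i, c i ^ 2 := Finset.sum_le_sum (fun i _ => Int.le_self_sq (c i))
  have hnn : 0 ≤ ∑ i, c i ^ 2 := Finset.sum_nonneg (fun i _ => sq_nonneg _)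
  rcases eq_or_lt_of_le hr0 with h0 | hpos
  · -- `r = 0`
    rw [← h0] at hV hsum
    rcases eq_or_lt_of_le hnn with hz | hp
    · left
      have hc : ∀ i, c i = 0 := by
        intro i
        have := (Finset.sum_eq_zero_iff_of_nonneg (fun i _ => sq_nonneg (c i))).mp hz.symm i
          (Finset.mem_univ i)
        exact pow_eq_zero_iff (two_ne_zero) |>.mp this
      refine ⟨by rw [hV, ← hz]; ring, ?_⟩
      intro i j
      rw [hb i, hb j, hc i, hc j]
    · right
      rw [hV]
      nlinarith
  · right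
    rw [hV]
    rw [hsum] at hle
    nlinarith

theorem structure_of_V_eq (b : I → ℤ) (hn : 2 ≤ Fintype.card I)
    (h : V b = (Fintype.card I : ℤ) - 1) [DecidableEq I] :
    ∃ (i₀ : I) (k ε : ℤ), (ε = 1 ∨ ε = -1) ∧ ∀ i, b i = k + if i = i₀ then ε else 0 := by
  obtain ⟨k, r, c, hb, hr0, hrn, hsum, hV⟩ := exists_normal_form b (by omega)
  have hn' : (2 : ℤ) ≤ Fintype.card I := by exact_mod_cast hn
  have hle : ∑ i, c i ≤ ∑ i, c i ^ 2 := Finset.sum_le_sum (fun i _ => Int.le_self_sq (c i))
  have hnn : 0 ≤ ∑ i, c i ^ 2 := Finset.sum_nonneg (fun i _ => sq_nonneg _)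
  rw [h] at hV
  rcases eq_or_lt_of_le hr0 with h0 | hpos
  · exfalso
    rw [← h0] at hV
    rcases eq_or_lt_of_le hnn with hz | hp
    · rw [← hz] at hV
      linarith
    · nlinarith
  · rw [hsum] at hle
    have hr1 : 1 ≤ r := hpos
    have hprod : (r - 1) * ((Fintype.card I : ℤ) - r - 1) ≤ 0 := by nlinarith
    have hcases : r = 1 ∨ r = (Fintype.card I : ℤ) - 1 := by
      by_contra hcon
      push Not at hcon
      have h1 : 0 < r - 1 := by
        rcases lt_or_eq_of_le hr1 with h | h
        · linarith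
        · exact absurd h.symm hcon.1
      have h2 : 0 < (Fintype.card I : ℤ) - r - 1 := by
        have : r ≤ (Fintype.card I : ℤ) - 1 := by linarith
        rcases lt_or_eq_of_le this with h | h
        · linarith
        · exact absurd h hcon.2
      nlinarith
    rcases hcases with hr | hr
    · -- `r = 1`
      rw [hr] at hV hsum
      have hsq : ∑ i, c i ^ 2 = 1 := by nlinarith
      obtain ⟨i₀, hi₀, hothers⟩ := exists_of_sum_sq_eq_one c hsq
      have hci₀ : c i₀ = 1 := by
        have hsplit : ∑ i, c i = c i₀ + ∑ i ∈ Finset.univ.erase i₀, c i :=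
          (Finset.add_sum_erase _ c (Finset.mem_univ i₀)).symm
        have hz : ∑ i ∈ Finset.univ.erase i₀, c i = 0 := by
          apply Finset.sum_eq_zero
          intro i hi
          exact hothers i (Finset.ne_of_mem_erase hi)
        rw [hz, add_zero] at hsplit
        rw [← hsplit, hsum]
      refine ⟨i₀, k, 1, Or.inl rfl, ?_⟩
      intro i
      rw [hb i]
      by_cases hi : i = i₀
      · rw [if_pos hi, hi, hci₀]
      · rw [if_neg hi, hothers i hi]
    · -- `r = n - 1`
      rw [hr] at hV hsum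
      have hsq : ∑ i, c i ^ 2 = (Fintype.card I : ℤ) - 1 := by nlinarith
      have hterm : ∀ i, c i ^ 2 = c i := by
        have hsum0 : ∑ i, (c i ^ 2 - c i) = 0 := by
          rw [Finset.sum_sub_distrib, hsq, hsum]
          ring
        intro i
        have := (Finset.sum_eq_zero_iff_of_nonneg
          (fun i _ => sub_nonneg.mpr (Int.le_self_sq (c i)))).mp hsum0 i (Finset.mem_univ i)
        linarith
      have hd : ∑ i, (1 - c i) ^ 2 = 1 := by
        have : ∀ i, (1 - c i) ^ 2 = 1 - c i := by
          intro i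
          have := hterm i
          nlinarith
        simp only [this]
        rw [Finset.sum_sub_distrib, hsum]
        simp [Finset.sum_const, Finset.card_univ]
      obtain ⟨i₀, hi₀, hothers⟩ := exists_of_sum_sq_eq_one (fun i => 1 - c i) hd
      have hci₀ : c i₀ = 0 := by
        have h1 := hterm i₀
        rcases hi₀ with h2 | h2
        · linarith
        · have : c i₀ = 2 := by linarith
          rw [this] at h1
          norm_num at h1
      refine ⟨i₀, k + 1, -1, Or.inr rfl, ?_⟩
      intro i
      rw [hb i]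
      by_cases hi : i = i₀
      · rw [if_pos hi, hi, hci₀]
        ring
      · rw [if_neg hi]
        have := hothers i hi
        linarith

end Cfsg.Agent.Lib.helper3.Lagr
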