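import Mathlib
import Cfsg.Agent.Lib.helper3.GlFpf1
import Cfsg.Agent.Lib.helper3.Lagr
import Cfsg.Agent.Lib.helper3.Irr7
import Cfsg.Agent.Lib.helper3.Irr10

/-!
# Extensions under a cyclic operator group all of whose nontrivial elements have the same
fixed points
-/

set_option autoImplicit false
set_option linter.style.haveILetI false
set_option linter.unusedSectionVars false

namespace Cfsg.Agent.Lib.helper3.GlFpf

open Cfsg Module Cfsg.Agent.Lib.helper3.Irr Cfsg.Agent.Lib.helper3.CharBasic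
open Cfsg.Agent.Lib.helper3.IndFun Cfsg.Agent.Lib.helper3.GlCyc Cfsg.Agent.Lib.helper3.GlSub
open Cfsg.Agent.Lib.helper3.Lagr
open scoped ComplexConjugate

/-- In a finite commutative group the irreducible characters are as many as the elements. -/
theorem card_irr_of_comm {S : Type*} [Group S] [Finite S] (hcomm : ∀ a b : S, a * b = b * a) :
    Nat.card (IrrCharacter S) = Nat.card S := by
  rw [card_irr_eq_card_conjClasses]
  symm
  apply Nat.card_eq_of_bijective ConjClasses.mk
  constructor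
  · intro a b hab
    rw [ConjClasses.mk_eq_mk_iff_isConj, isConj_iff] at hab
    obtain ⟨c, hc⟩ := hab
    rw [← hc, hcomm c a]
    group
  · exact ConjClasses.mk_surjective

/-- The irreducible characters of a finite commutative group sum to zero off the identity. -/
theorem sum_irr_apply_of_comm {S : Type*} [Group S] [Fintype S]
    (hcomm : ∀ a b : S, a * b = b * a) (x : S) (hx : x ≠ 1) :
    ∑ lam : IrrCharacter S, (lam : S → ℂ) x = 0 := by
  have h := (column_orthogonality x (1 : S)).2 (by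
    intro hconj
    rw [isConj_iff] at hconj
    obtain ⟨c, hc⟩ := hconj
    apply hx
    have : x = c⁻¹ * 1 * c := by rw [← hc]; group
    rw [this]
    group)
  rw [← h]
  apply Finset.sum_congr rfl
  intro lam _
  rw [apply_one_eq_one_of_comm hcomm lam.2, map_one, mul_one]

namespace Setup'

variable {Γ : Type*} [Group Γ] [Fintype Γ] {G S : Subgroup Γ} {s₀ : Γ}
variable (C : Subgroup Γ) (hC : C = G ⊓ Subgroup.centralizer (S : Set Γ))
variable [Fintype G] [Fintype C]

include hC in
/-- The multiplicity functions: for each `γ ∈ Irr(C)` the function `x ↦ [ξ(· x), γ]` on `S` is a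
character of `S`, and these functions satisfy a Parseval identity. -/
theorem exists_mult_characters (h : Setup G S s₀) [Fintype S] (ξ : Γ → ℂ)
    (hξ : IsCharacter Γ ξ) :
    ∃ f : IrrCharacter C → S → ℂ, (∀ γ, IsCharacter S (f γ)) ∧
      (∀ (x : S) (γ : IrrCharacter C),
        classInner (fun c : C => ξ ((c : Γ) * x)) (γ : C → ℂ) = f γ x) ∧
      (∀ x : S, IsClassFunction C (fun c : C => ξ ((c : Γ) * x))) := by
  classical
  have hΘ : IsCharacter (C × S) (fun p => ξ (h.mulHom C hC p)) :=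
    isCharacter_comp hξ (h.mulHom C hC)
  obtain ⟨m, hm⟩ := exists_decomposition_of_isCharacter hΘ
  choose βθ lθ hβθ hlθ hθ using fun θ : IrrCharacter (C × S) =>
    exists_of_isIrrCharacter_prod θ.2
  have hformula : ∀ (x : S), (fun c : C => ξ ((c : Γ) * x))
      = ∑ θ : IrrCharacter (C × S), ((m θ : ℂ) * lθ θ x) • βθ θ := by
    intro x
    funext c
    have h2 : ξ ((c : Γ) * x) = (fun p => ξ (h.mulHom C hC p)) (c, x) := by
      simp only [Setup.mulHom_apply]
    rw [h2, hm]
    simp only [Finset.sum_apply, Pi.smul_apply, smul_eq_mul]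
    apply Finset.sum_congr rfl
    intro θ _
    rw [hθ θ]
    ring
  refine ⟨fun γ => ∑ θ : IrrCharacter (C × S),
      ((m θ * (if βθ θ = (γ : C → ℂ) then 1 else 0) : ℕ) : ℂ) • lθ θ, ?_, ?_, ?_⟩
  · intro γ
    apply isCharacter_sum
    intro θ _
    exact isCharacter_nsmul (isCharacter_of_isIrrCharacter (hlθ θ)) _
  · intro x γ
    rw [hformula x, classInner_sum_left]
    simp only [Finset.sum_apply, Pi.smul_apply, smul_eq_mul]
    apply Finset.sum_congr rfl
    intro θ _
    rw [classInner_smul_left, irr_classInner_eq (hβθ θ) γ.2]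
    by_cases hb : βθ θ = (γ : C → ℂ)
    · rw [if_pos hb, if_pos hb]
      push_cast
      ring
    · rw [if_neg hb, if_neg hb]
      push_cast
      ring
  · intro x
    rw [hformula x]
    intro c d
    simp only [Finset.sum_apply, Pi.smul_apply, smul_eq_mul]
    apply Finset.sum_congr rfl
    intro θ _
    rw [isClassFunction_of_isCharacter (isCharacter_of_isIrrCharacter (hβθ θ)) c d]

include hC in
/-- The structure of an extension on the cosets `C x`, when all nontrivial elements of the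
cyclic operator group have the same fixed points. -/
theorem fpf_structure (h : Setup G S s₀) (hn : 2 ≤ Nat.card S)
    (hfpf : ∀ x ∈ S, x ≠ 1 → G ⊓ Subgroup.centralizer ({x} : Set Γ) = C)
    (ξ : Γ → ℂ) (hξ : IsIrrCharacter Γ ξ) (hξG : IsIrrCharacter G (fun g : G => ξ g)) :
    ∃ (γ₀ : IrrCharacter C) (lam₀ : IrrCharacter S) (ε : ℤ) (k : IrrCharacter C → ℕ),
      (ε = 1 ∨ ε = -1) ∧
      (∀ c : C, ∀ x : S, x ≠ 1 →
        ξ ((c : Γ) * x) = (ε : ℂ) * (γ₀ : C → ℂ) c * (lam₀ : S → ℂ) x) ∧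
      (∀ γ : IrrCharacter C, classInner (fun c : C => ξ (c : Γ)) (γ : C → ℂ)
        = ((Nat.card S * k γ : ℕ) : ℂ) + if γ = γ₀ then (ε : ℂ) else 0) := by
  classical
  haveI := h.normal
  letI : Fintype S := Fintype.ofFinite S
  have hScomm : ∀ a b : S, a * b = b * a := by
    intro a b
    obtain ⟨i, hi⟩ := h.exists_pow_of_mem a.2
    obtain ⟨j, hj⟩ := h.exists_pow_of_mem b.2
    apply Subtype.ext
    push_cast
    rw [hi, hj, ← pow_add, ← pow_add, add_comm]
  have hξc := isCharacter_of_isIrrCharacter hξ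
  obtain ⟨f, hfc, hkey, hcf⟩ := exists_mult_characters C hC h ξ hξc
  choose a ha using fun γ => exists_decomposition_of_isCharacter (hfc γ)
  have hcard : Fintype.card (IrrCharacter S) = Nat.card S := by
    rw [← Nat.card_eq_fintype_card]
    exact card_irr_of_comm hScomm
  have hl1 : ∀ lam : IrrCharacter S, (lam : S → ℂ) 1 = 1 :=
    fun lam => apply_one_eq_one_of_comm hScomm lam.2
  have hf1 : ∀ γ, f γ 1 = ((∑ lam, a γ lam : ℕ) : ℂ) := by
    intro γ
    rw [ha γ]
    simp [hl1]
  have hself : ∀ γ, classInner (f γ) (f γ) = ((∑ lam, a γ lam ^ 2 : ℕ) : ℂ) := by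
    intro γ
    conv_lhs => rw [ha γ]
    exact classInner_self_decomposition (a γ)
  have hdecx : ∀ x : S, (fun c : C => ξ ((c : Γ) * x))
      = ∑ γ : IrrCharacter C, f γ x • (γ : C → ℂ) := by
    intro x
    have hdec := classFunction_eq_sum _ (hcf x)
    simp only [hkey] at hdec
    exact hdec
  have hpars : ∀ x : S, classInner (fun c : C => ξ ((c : Γ) * x)) (fun c : C => ξ ((c : Γ) * x))
      = ∑ γ : IrrCharacter C, f γ x * conj (f γ x) := by
    intro x
    rw [hdecx x]
    exact classInner_decomposition (fun γ => f γ x) (fun γ => f γ x)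
  have hone : ∀ x : S, x ≠ 1 → ∑ γ : IrrCharacter C, f γ x * conj (f γ x) = 1 := by
    intro x hx
    rw [← hpars x]
    have hxne : (x : Γ) ≠ 1 := fun h' => hx (Subtype.ext h')
    have hord : orderOf (x : Γ) ∣ Nat.card S := by
      rw [Subgroup.orderOf_coe]
      exact orderOf_dvd_natCard x
    have hcopx : (Nat.card G).Coprime (orderOf (x : Γ)) :=
      Nat.Coprime.coprime_dvd_right hord h.cop
    exact norm_coset_eq_one G (x : Γ) hcopx C (hfpf x x.2 hxne).symm ξ hξ hξG
  have hS0 : (Nat.card S : ℂ) ≠ 0 := by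
    have : 0 < Nat.card S := Nat.card_pos
    exact_mod_cast this.ne'
  have hsumC : ∑ γ : IrrCharacter C, (Nat.card S : ℂ) * classInner (f γ) (f γ)
      = ∑ γ : IrrCharacter C, f γ 1 * conj (f γ 1) + ((Nat.card S : ℂ) - 1) := by
    have h1 : ∀ γ, (Nat.card S : ℂ) * classInner (f γ) (f γ)
        = ∑ x : S, f γ x * conj (f γ x) := by
      intro γ
      unfold classInner
      rw [← mul_assoc, mul_inv_cancel₀ hS0, one_mul]
    simp only [h1]
    rw [Finset.sum_comm, ← Finset.add_sum_erase Finset.univ _ (Finset.mem_univ (1 : S))]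
    congr 1
    rw [Finset.sum_congr rfl (fun x hx => hone x (Finset.ne_of_mem_erase hx))]
    rw [Finset.sum_const, Finset.card_erase_of_mem (Finset.mem_univ _), Finset.card_univ,
      Nat.card_eq_fintype_card]
    have hpos : 1 ≤ Fintype.card S := Fintype.card_pos
    rw [nsmul_eq_mul, mul_one, Nat.cast_sub hpos]
    simp
  -- integer form
  have hV : ∑ γ : IrrCharacter C, V (fun lam => (a γ lam : ℤ)) = (Nat.card S : ℤ) - 1 := by
    unfold V
    rw [hcard]
    have hcast : ((∑ γ : IrrCharacter C, ((Nat.card S : ℤ) * ∑ lam, (a γ lam : ℤ) ^ 2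
        - (∑ lam, (a γ lam : ℤ)) ^ 2) : ℤ) : ℂ) = (((Nat.card S : ℤ) - 1 : ℤ) : ℂ) := by
      push_cast
      rw [Finset.sum_sub_distrib]
      have h2 : ∑ γ : IrrCharacter C, (Nat.card S : ℂ) * ∑ lam, (a γ lam : ℂ) ^ 2
          = ∑ γ : IrrCharacter C, (Nat.card S : ℂ) * classInner (f γ) (f γ) := by
        apply Finset.sum_congr rfl
        intro γ _
        rw [hself γ]
        push_cast
        rfl
      have h3 : ∑ γ : IrrCharacter C, (∑ lam, (a γ lam : ℂ)) ^ 2
          = ∑ γ : IrrCharacter C, f γ 1 * conj (f γ 1) := by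
        apply Finset.sum_congr rfl
        intro γ _
        rw [hf1 γ, Complex.conj_natCast]
        push_cast
        ring
      rw [h2, h3, hsumC]
      ring
    have hinj := Int.cast_injective (α := ℂ) hcast
    simp only
    exact hinj
  have hn' : (2 : ℤ) ≤ (Nat.card S : ℤ) := by exact_mod_cast hn
  have hdich := fun γ => V_eq_zero_or_ge (fun lam => (a γ lam : ℤ)) (by rw [hcard]; omega)
  simp only [hcard] at hdich
  have hVnn : ∀ γ, 0 ≤ V (fun lam => (a γ lam : ℤ)) := by
    intro γ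
    rcases hdich γ with ⟨h0, -⟩ | hge
    · rw [h0]
    · linarith
  obtain ⟨γ₀, hγ₀⟩ : ∃ γ₀, (Nat.card S : ℤ) - 1 ≤ V (fun lam => (a γ₀ lam : ℤ)) := by
    by_contra hcon
    push Not at hcon
    have hall : ∀ γ, V (fun lam => (a γ lam : ℤ)) = 0 := by
      intro γ
      rcases hdich γ with ⟨h0, -⟩ | hge
      · exact h0
      · exact absurd hge (not_le.mpr (hcon γ))
    rw [Finset.sum_congr rfl (fun γ _ => hall γ), Finset.sum_const_zero] at hV
    linarith
  have hsplit : ∑ γ : IrrCharacter C, V (fun lam => (a γ lam : ℤ))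
      = V (fun lam => (a γ₀ lam : ℤ))
        + ∑ γ ∈ Finset.univ.erase γ₀, V (fun lam => (a γ lam : ℤ)) :=
    (Finset.add_sum_erase _ _ (Finset.mem_univ γ₀)).symm
  have hrestnn : 0 ≤ ∑ γ ∈ Finset.univ.erase γ₀, V (fun lam => (a γ lam : ℤ)) :=
    Finset.sum_nonneg (fun γ _ => hVnn γ)
  have hγ₀eq : V (fun lam => (a γ₀ lam : ℤ)) = (Nat.card S : ℤ) - 1 := by linarith
  have hrest0 : ∑ γ ∈ Finset.univ.erase γ₀, V (fun lam => (a γ lam : ℤ)) = 0 := by linarith
  have hconst : ∀ γ, γ ≠ γ₀ → ∀ lam lam', a γ lam = a γ lam' := by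
    intro γ hγ lam lam'
    have h0 : V (fun lam => (a γ lam : ℤ)) = 0 :=
      (Finset.sum_eq_zero_iff_of_nonneg (fun γ _ => hVnn γ)).mp hrest0 γ
        (Finset.mem_erase.mpr ⟨hγ, Finset.mem_univ γ⟩)
    rcases hdich γ with ⟨-, hc⟩ | hge
    · exact_mod_cast hc lam lam'
    · linarith
  obtain ⟨lam₀, k₀, ε, hε, hstruct⟩ := structure_of_V_eq (fun lam => (a γ₀ lam : ℤ))
    (by rw [hcard]; exact hn) (by rw [hcard]; exact hγ₀eq)
  obtain ⟨lam₁, hlam₁⟩ : ∃ lam₁ : IrrCharacter S, lam₁ ≠ lam₀ :=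
    Fintype.exists_ne_of_one_lt_card (by rw [hcard]; omega) lam₀
  have hk₀ : k₀ = (a γ₀ lam₁ : ℤ) := by
    have := hstruct lam₁
    rw [if_neg hlam₁, add_zero] at this
    exact this.symm
  have hsum0 := fun (x : S) (hx : x ≠ 1) => sum_irr_apply_of_comm hScomm x hx
  have hfγ : ∀ γ, γ ≠ γ₀ → ∀ x : S, x ≠ 1 → f γ x = 0 := by
    intro γ hγ x hx
    rw [ha γ]
    simp only [Finset.sum_apply, Pi.smul_apply, smul_eq_mul]
    rw [Finset.sum_congr rfl (fun lam _ => by rw [hconst γ hγ lam lam₀]), ← Finset.mul_sum,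
      hsum0 x hx, mul_zero]
  have hacast : ∀ lam, ((a γ₀ lam : ℕ) : ℂ) = (k₀ : ℂ) + if lam = lam₀ then (ε : ℂ) else 0 := by
    intro lam
    have h1 := hstruct lam
    have h2 : ((a γ₀ lam : ℤ) : ℂ) = ((k₀ + if lam = lam₀ then ε else 0 : ℤ) : ℂ) := by
      rw [h1]
    push_cast at h2
    rw [h2]
  have hfγ₀ : ∀ x : S, x ≠ 1 → f γ₀ x = (ε : ℂ) * (lam₀ : S → ℂ) x := by
    intro x hx
    rw [ha γ₀]
    simp only [Finset.sum_apply, Pi.smul_apply, smul_eq_mul, hacast, add_mul,
      Finset.sum_add_distrib]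
    rw [← Finset.mul_sum, hsum0 x hx, mul_zero, zero_add]
    simp only [ite_mul, zero_mul, Finset.sum_ite_eq', Finset.mem_univ, if_true]
  refine ⟨γ₀, lam₀, ε, fun γ => if γ = γ₀ then a γ₀ lam₁ else a γ lam₀, hε, ?_, ?_⟩
  · intro c x hx
    have h1 := congrFun (hdecx x) c
    simp only [Finset.sum_apply, Pi.smul_apply, smul_eq_mul] at h1
    rw [h1, Finset.sum_eq_single γ₀]
    · rw [hfγ₀ x hx]
      ring
    · intro γ _ hγ
      rw [hfγ γ hγ x hx, zero_mul]
    · intro hno
      exact absurd (Finset.mem_univ γ₀) hno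
  · intro γ
    have h1 := hkey 1 γ
    simp only [OneMemClass.coe_one, mul_one] at h1
    rw [h1, hf1 γ]
    beta_reduce
    by_cases hγ : γ = γ₀
    · subst hγ
      rw [if_pos rfl, if_pos rfl]
      have h2 : ((∑ lam, a γ lam : ℕ) : ℤ) = (Nat.card S : ℤ) * (a γ lam₁ : ℤ) + ε := by
        push_cast
        rw [Finset.sum_congr rfl (fun lam _ => hstruct lam), Finset.sum_add_distrib,
          Finset.sum_const, Finset.card_univ, hcard, Finset.sum_ite_eq', if_pos (Finset.mem_univ _),
          nsmul_eq_mul, hk₀]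
      have h3 : (((∑ lam, a γ lam : ℕ) : ℤ) : ℂ)
          = (((Nat.card S : ℤ) * (a γ lam₁ : ℤ) + ε : ℤ) : ℂ) := by rw [h2]
      push_cast at h3
      push_cast
      rw [h3]
    · rw [if_neg hγ, if_neg hγ, add_zero]
      rw [Finset.sum_congr rfl (fun lam _ => hconst γ hγ lam lam₀), Finset.sum_const,
        Finset.card_univ, hcard]
      simp

end Setup'

end Cfsg.Agent.Lib.helper3.GlFpf
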