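import Mathlib
import Cfsg.Agent.Lib.helper3.CoprimeConj

set_option autoImplicit false
set_option linter.style.haveILetI false
set_option linter.unusedSectionVars false

/-!
# Invariant classes under a coprime automorphism contain fixed elements
-/

namespace Cfsg.Agent.Lib.helper3.CoprimeConj

variable {G : Type*} [Group G]

/-- If `x` normalises `H`, has order coprime to the order of `H` and maps the `H`-class of
`h ∈ H` to itself, then some `H`-conjugate of `h` commutes with `x`. -/
theorem exists_conj_commute [Finite G] (H : Subgroup G) (x : G)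
    (hx : x ∈ Subgroup.normalizer (H : Set G)) (hcop : Nat.Coprime (orderOf x) (Nat.card H))
    (h : G) (k : G) (hk : k ∈ H) (hxh : x * h * x⁻¹ = k * h * k⁻¹) :
    ∃ a ∈ H, x * (a * h * a⁻¹) = (a * h * a⁻¹) * x := by
  obtain ⟨a, haH, c, hcH, hcx, hac⟩ :=
    exists_conj_eq_cent_mul H x hx hcop k⁻¹ (H.inv_mem hk)
  refine ⟨a, haH, ?_⟩
  set h₂ := a * h * a⁻¹ with hh₂
  -- `k⁻¹ x` centralises `h`
  have hv : (k⁻¹ * x) * h * (k⁻¹ * x)⁻¹ = h := by
    calc (k⁻¹ * x) * h * (k⁻¹ * x)⁻¹ = k⁻¹ * (x * h * x⁻¹) * k := by group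
      _ = k⁻¹ * (k * h * k⁻¹) * k := by rw [hxh]
      _ = h := by group
  -- `c x` centralises `h₂`
  have hcxh : (c * x) * h₂ = h₂ * (c * x) := by
    rw [← hac, hh₂]
    have : a * (k⁻¹ * x) * a⁻¹ * (a * h * a⁻¹)
        = a * ((k⁻¹ * x) * h * (k⁻¹ * x)⁻¹) * (k⁻¹ * x) * a⁻¹ := by group
    rw [this, hv]
    group
  have hcomm_cx : Commute c x := hcx
  set o := orderOf x with ho
  have hpow : (c * x) ^ o = c ^ o := by
    rw [hcomm_cx.mul_pow, ho, pow_orderOf_eq_one, mul_one]
  have hco : Commute (c ^ o) h₂ := by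
    rw [← hpow]
    exact (show Commute (c * x) h₂ from hcxh).pow_left o
  -- `c` is a power of `c ^ o`
  have hordc : orderOf c ∣ Nat.card H := by
    have := orderOf_dvd_natCard (⟨c, hcH⟩ : H)
    rwa [Subgroup.orderOf_mk] at this
  have hcop' : Nat.Coprime o (orderOf c) := Nat.Coprime.coprime_dvd_right hordc hcop
  obtain ⟨m, hm⟩ := exists_pow_eq_self_of_coprime hcop'
  have hc : Commute c h₂ := by
    rw [← hm]
    exact hco.pow_left m
  have hxeq : x = c⁻¹ * (c * x) := by group
  have : Commute x h₂ := by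
    rw [hxeq]
    exact (hc.inv_left).mul_left hcxh
  exact this

end Cfsg.Agent.Lib.helper3.CoprimeConj
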