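import Mathlib
import Cfsg.Prelude.Def_Characters
import Cfsg.Agent.Lib.helper3.Brauer
import Cfsg.Agent.Lib.helper3.FixedClass
import Cfsg.Agent.Lib.helper3.CoprimeConj

/-!
# Semidirect products `K ⋊ W₁` with a common centralizer: fixed classes and fixed characters
-/

set_option autoImplicit false
set_option linter.style.haveILetI false
set_option linter.unusedSectionVars false

namespace Cfsg.Agent.Lib.helper3.Pf4

open Cfsg Cfsg.Agent.Lib.helper3.Irr
open scoped ComplexConjugate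

universe u

section classes

variable {L : Type u} [Group L] [Finite L] (K W₂ : Subgroup L) [hK : K.Normal]

theorem mem_centralizer_singleton' {x y : L} :
    y ∈ Subgroup.centralizer ({x} : Set L) ↔ x * y = y * x := by
  rw [Subgroup.mem_centralizer_iff]
  simp only [Set.mem_singleton_iff, forall_eq]

/-- Two elements of the (abelian) centralizer `W₂ = C_K(y)` that are conjugate in `K` are
equal. -/
theorem eq_of_conj (y : L) (hcop : Nat.Coprime (orderOf y) (Nat.card K))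
    (hcomm : ∀ a ∈ W₂, ∀ b ∈ W₂, a * b = b * a)
    (hC : K ⊓ Subgroup.centralizer ({y} : Set L) = W₂) {w₁ w₂ k : L} (hw₁ : w₁ ∈ W₂)
    (hw₂ : w₂ ∈ W₂) (hk : k ∈ K) (hkw : k * w₁ * k⁻¹ = w₂) : w₁ = w₂ := by
  have hmemW : ∀ {x : L}, x ∈ W₂ ↔ x ∈ K ∧ y * x = x * y := by
    intro x
    rw [← hC, Subgroup.mem_inf, mem_centralizer_singleton']
  have hy1 : y * w₁ = w₁ * y := (hmemW.mp hw₁).2
  have hy2 : y * w₂ = w₂ * y := (hmemW.mp hw₂).2
  obtain ⟨H, hH⟩ : ∃ H : Subgroup L, H = K ⊓ Subgroup.centralizer ({w₁} : Set L) := ⟨_, rfl⟩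
  have hmemH : ∀ {x : L}, x ∈ H ↔ x ∈ K ∧ w₁ * x = x * w₁ := by
    intro x
    rw [hH, Subgroup.mem_inf, mem_centralizer_singleton']
  have hyinv : y⁻¹ * w₁ = w₁ * y⁻¹ := by
    calc y⁻¹ * w₁ = y⁻¹ * (w₁ * y) * y⁻¹ := by group
      _ = y⁻¹ * (y * w₁) * y⁻¹ := by rw [hy1]
      _ = w₁ * y⁻¹ := by group
  have hynorm : y ∈ Subgroup.normalizer (H : Set L) := by
    rw [Subgroup.mem_normalizer_iff]
    intro x
    constructor
    · intro hx
      obtain ⟨hxK, hxw⟩ := hmemH.mp hx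
      refine hmemH.mpr ⟨hK.conj_mem x hxK y, ?_⟩
      calc w₁ * (y * x * y⁻¹) = (w₁ * y) * x * y⁻¹ := by group
        _ = y * (w₁ * x) * y⁻¹ := by rw [← hy1]; group
        _ = y * x * (w₁ * y⁻¹) := by rw [hxw]; group
        _ = y * x * y⁻¹ * w₁ := by rw [← hyinv]; group
    · intro hx
      obtain ⟨hxK, hxw⟩ := hmemH.mp hx
      have h1 : x = y⁻¹ * (y * x * y⁻¹) * y := by group
      have h2 : y⁻¹ * (y * x * y⁻¹) * y ∈ K := by
        have := hK.conj_mem _ hxK y⁻¹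
        simpa using this
      rw [h1]
      refine hmemH.mpr ⟨h2, ?_⟩
      calc w₁ * (y⁻¹ * (y * x * y⁻¹) * y) = (w₁ * y⁻¹) * (y * x * y⁻¹) * y := by group
        _ = y⁻¹ * (w₁ * (y * x * y⁻¹)) * y := by rw [← hyinv]; group
        _ = y⁻¹ * (y * x * y⁻¹) * (w₁ * y) := by rw [hxw]; group
        _ = y⁻¹ * (y * x * y⁻¹) * y * w₁ := by rw [← hy1]; group
  have hcopH : Nat.Coprime (orderOf y) (Nat.card H) := by
    apply Nat.Coprime.coprime_dvd_right _ hcop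
    rw [hH]
    exact Subgroup.card_dvd_of_le inf_le_left
  obtain ⟨h, hh⟩ : ∃ h : L, h = k⁻¹ * y * k * y⁻¹ := ⟨_, rfl⟩
  have hhH : h ∈ H := by
    rw [hmemH]
    constructor
    · rw [hh]
      have h1 : k⁻¹ * y * k * y⁻¹ = k⁻¹ * (y * k * y⁻¹) := by group
      rw [h1]
      exact K.mul_mem (K.inv_mem hk) (hK.conj_mem k hk y)
    · have hk1 : k * w₁ = w₂ * k := by rw [← hkw]; group
      have hk2 : k⁻¹ * w₂ = w₁ * k⁻¹ := by rw [← hkw]; group
      rw [hh]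
      calc w₁ * (k⁻¹ * y * k * y⁻¹) = (w₁ * k⁻¹) * y * k * y⁻¹ := by group
        _ = k⁻¹ * (w₂ * y) * k * y⁻¹ := by rw [← hk2]; group
        _ = k⁻¹ * y * (w₂ * k) * y⁻¹ := by rw [← hy2]; group
        _ = k⁻¹ * y * k * (w₁ * y⁻¹) := by rw [← hk1]; group
        _ = k⁻¹ * y * k * y⁻¹ * w₁ := by rw [← hyinv]; group
  obtain ⟨x, hxH, c, hcH, hcy, hxc⟩ :=
    Cfsg.Agent.Lib.helper3.CoprimeConj.exists_conj_eq_cent_mul H y hynorm hcopH h hhH
  have hhy : h * y = k⁻¹ * y * k := by rw [hh]; group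
  rw [hhy] at hxc
  -- `c = 1`
  have hcK : c ∈ K := (hmemH.mp hcH).1
  have hc1 : c = 1 := by
    have hconj : orderOf (c * y) = orderOf y := by
      rw [← hxc]
      have h1 : x * (k⁻¹ * y * k) * x⁻¹ = (x * k⁻¹) * y * (x * k⁻¹)⁻¹ := by group
      rw [h1]
      have hsc : SemiconjBy (x * k⁻¹) y ((x * k⁻¹) * y * (x * k⁻¹)⁻¹) := by
        unfold SemiconjBy; group
      exact (SemiconjBy.orderOf_eq _ hsc).symm
    have h2 : (c * y) ^ orderOf y = 1 := by
      rw [← hconj]; exact pow_orderOf_eq_one _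
    have hcomm' : Commute c y := hcy
    rw [hcomm'.mul_pow, pow_orderOf_eq_one, mul_one] at h2
    have h3 : orderOf c ∣ orderOf y := orderOf_dvd_of_pow_eq_one h2
    have h4 : orderOf c ∣ Nat.card K := by
      have : orderOf (⟨c, hcK⟩ : K) ∣ Nat.card K := orderOf_dvd_natCard _
      rwa [Subgroup.orderOf_mk] at this
    have h5 : orderOf c ∣ 1 := by
      rw [← hcop]; exact Nat.dvd_gcd h3 h4
    exact orderOf_eq_one_iff.mp (Nat.dvd_one.mp h5)
  rw [hc1, one_mul] at hxc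
  -- `k' = k x⁻¹` centralizes `y`
  obtain ⟨k', hk'⟩ : ∃ k' : L, k' = k * x⁻¹ := ⟨_, rfl⟩
  have hxK : x ∈ K := (hmemH.mp hxH).1
  have hxw : w₁ * x = x * w₁ := (hmemH.mp hxH).2
  have hk'K : k' ∈ K := by rw [hk']; exact K.mul_mem hk (K.inv_mem hxK)
  have hk'y : y * k' = k' * y := by
    have : k' * y = k' * (x * (k⁻¹ * y * k) * x⁻¹) := by rw [hxc]
    rw [this, hk']; group
  have hk'W : k' ∈ W₂ := hmemW.mpr ⟨hk'K, hk'y⟩
  have hk'w : k' * w₁ * k'⁻¹ = w₂ := by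
    rw [← hkw, hk']
    have hxinv : x⁻¹ * w₁ * x = w₁ := by
      calc x⁻¹ * w₁ * x = x⁻¹ * (w₁ * x) := by group
        _ = x⁻¹ * (x * w₁) := by rw [hxw]
        _ = w₁ := by group
    calc k * x⁻¹ * w₁ * (k * x⁻¹)⁻¹ = k * (x⁻¹ * w₁ * x) * k⁻¹ := by group
      _ = k * w₁ * k⁻¹ := by rw [hxinv]
  rw [← hk'w, hcomm k' hk'W w₁ hw₁]
  group

/-- The classes of `K` fixed by `y` are as many as the elements of `W₂ = C_K(y)`. -/
theorem card_fixed_classes (y : L) (hcop : Nat.Coprime (orderOf y) (Nat.card K))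
    (hW₂K : W₂ ≤ K) (hcomm : ∀ a ∈ W₂, ∀ b ∈ W₂, a * b = b * a)
    (hC : K ⊓ Subgroup.centralizer ({y} : Set L) = W₂) :
    Nat.card {C : ConjClasses K //
      ConjClasses.map (MulAut.conjNormal y : K ≃* K).toMonoidHom C = C} = Nat.card W₂ := by
  have hmemW : ∀ {x : L}, x ∈ W₂ ↔ x ∈ K ∧ y * x = x * y := by
    intro x
    rw [← hC, Subgroup.mem_inf, mem_centralizer_singleton']
  have hfix : ∀ w : W₂, ConjClasses.map (MulAut.conjNormal y : K ≃* K).toMonoidHom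
      (ConjClasses.mk (⟨(w : L), hW₂K w.2⟩ : K)) = ConjClasses.mk (⟨(w : L), hW₂K w.2⟩ : K) := by
    intro w
    show ConjClasses.mk ((MulAut.conjNormal y : K ≃* K).toMonoidHom ⟨(w : L), hW₂K w.2⟩) = _
    congr 1
    apply Subtype.ext
    simp only [MulEquiv.coe_toMonoidHom, MulAut.conjNormal_apply]
    rw [(hmemW.mp w.2).2]
    group
  symm
  apply Nat.card_eq_of_bijective (fun w : W₂ => (⟨ConjClasses.mk (⟨(w : L), hW₂K w.2⟩ : K),
    hfix w⟩ : {C : ConjClasses K //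
      ConjClasses.map (MulAut.conjNormal y : K ≃* K).toMonoidHom C = C}))
  constructor
  · intro w₁ w₂ h12
    have h1 := congrArg Subtype.val h12
    simp only at h1
    rw [ConjClasses.mk_eq_mk_iff_isConj, isConj_iff] at h1
    obtain ⟨k, hk⟩ := h1
    apply Subtype.ext
    apply eq_of_conj K W₂ y hcop hcomm hC w₁.2 w₂.2 k.2
    have := congrArg Subtype.val hk
    simpa using this
  · rintro ⟨C, hCfix⟩
    obtain ⟨k₀, rfl⟩ := ConjClasses.mk_surjective C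
    change ConjClasses.mk ((MulAut.conjNormal y : K ≃* K).toMonoidHom k₀) = _ at hCfix
    rw [ConjClasses.mk_eq_mk_iff_isConj, isConj_iff] at hCfix
    obtain ⟨k, hk⟩ := hCfix
    have hk' : y * (k₀ : L) * y⁻¹ = (k⁻¹ : K) * (k₀ : L) * ((k⁻¹ : K) : L)⁻¹ := by
      have h1 := congrArg Subtype.val hk
      simp only [MulEquiv.coe_toMonoidHom, Subgroup.coe_mul, MulAut.conjNormal_apply,
        Subgroup.coe_inv] at h1
      simp only [Subgroup.coe_inv, inv_inv]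
      calc y * (k₀ : L) * y⁻¹ = (k : L)⁻¹ * ((k : L) * (y * (k₀ : L) * y⁻¹) * (k : L)⁻¹) * (k : L) := by
            group
        _ = (k : L)⁻¹ * (k₀ : L) * (k : L) := by rw [h1]
    have hynorm : y ∈ Subgroup.normalizer (K : Set L) := by
      rw [Subgroup.normalizer_eq_top]; exact Subgroup.mem_top y
    obtain ⟨a, haK, hay⟩ := Cfsg.Agent.Lib.helper3.CoprimeConj.exists_conj_commute K y hynorm hcop (k₀ : L)
      ((k⁻¹ : K) : L) (k⁻¹ : K).2 hk'
    have hwK : a * (k₀ : L) * a⁻¹ ∈ K := K.mul_mem (K.mul_mem haK k₀.2) (K.inv_mem haK)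
    have hwW : a * (k₀ : L) * a⁻¹ ∈ W₂ := hmemW.mpr ⟨hwK, hay⟩
    refine ⟨⟨_, hwW⟩, ?_⟩
    apply Subtype.ext
    simp only
    rw [ConjClasses.mk_eq_mk_iff_isConj, isConj_comm, isConj_iff]
    exact ⟨⟨a, haK⟩, Subtype.ext rfl⟩

end classes

end Cfsg.Agent.Lib.helper3.Pf4
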