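import Mathlib
import Cfsg.Prelude.Def_Characters
import Cfsg.Agent.Lib.helper3.Pf4a
import Cfsg.Agent.Lib.helper3.Irr12
import Cfsg.Agent.Lib.helper3.CycExt2
import Cfsg.Agent.Lib.helper3.Gallagher2
import Cfsg.Agent.Lib.helper3.GlFpf2

/-!
# Semidirect products `K ⋊ W₁` with a common centralizer: induction from `K`
-/

set_option autoImplicit false
set_option linter.style.haveILetI false
set_option linter.unusedSectionVars false

namespace Cfsg.Agent.Lib.helper3.Pf4

open Cfsg Cfsg.Agent.Lib.helper3.Irr Cfsg.Agent.Lib.helper3.CharBasic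
open Cfsg.Agent.Lib.helper3.IndFun
open scoped ComplexConjugate

universe u

section stab

variable {L : Type u} [Group L] (K : Subgroup L) [hK : K.Normal]

/-- The stabilizer of a function on the normal subgroup `K`. -/
def stab (θ : K → ℂ) : Subgroup L where
  carrier := {g | ∀ k : K, θ ⟨g * k * g⁻¹, hK.conj_mem k k.2 g⟩ = θ k}
  one_mem' := by
    intro k
    congr 1
    apply Subtype.ext
    simp
  mul_mem' := by
    intro a b ha hb k
    have h1 := ha ⟨b * k * b⁻¹, hK.conj_mem k k.2 b⟩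
    have h2 := hb k
    rw [← h2, ← h1]
    congr 1
    apply Subtype.ext
    simp only
    group
  inv_mem' := by
    intro a ha k
    have h1 := ha ⟨a⁻¹ * k * a⁻¹⁻¹, hK.conj_mem k k.2 a⁻¹⟩
    rw [← h1]
    congr 1
    apply Subtype.ext
    simp only
    group

theorem mem_stab (θ : K → ℂ) (g : L) :
    g ∈ stab K θ ↔ ∀ k : K, θ ⟨g * k * g⁻¹, hK.conj_mem k k.2 g⟩ = θ k := Iff.rfl

theorem mem_stab_iff_conjFun (θ : K → ℂ) (g : L) :
    g ∈ stab K θ ↔ (fun k : K => θ ⟨g * k * g⁻¹, hK.conj_mem (k : L) k.2 g⟩) = θ := by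
  rw [mem_stab]
  constructor
  · intro h; funext k; exact h k
  · intro h k; exact congrFun h k

theorem le_stab [Finite L] {θ : K → ℂ} (hθ : IsIrrCharacter K θ) : K ≤ stab K θ := by
  intro g hg k
  have hcf := isClassFunction_of_isCharacter (isCharacter_of_isIrrCharacter hθ)
  have := hcf k ⟨g, hg⟩
  rw [← this]
  congr 1

end stab

section main

variable {L : Type u} [Group L] [Fintype L] (K W₁ W₂ : Subgroup L) [hK : K.Normal]

theorem isComplement' (hKW₁ : K ⊓ W₁ = ⊥) (hKW₁' : K ⊔ W₁ = ⊤) : Subgroup.IsComplement' K W₁ := by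
  apply Subgroup.isComplement'_of_disjoint_and_mul_eq_univ
  · rw [disjoint_iff]; exact hKW₁
  · rw [← Subgroup.normal_mul, hKW₁']; rfl

theorem card_eq_index (hKW₁ : K ⊓ W₁ = ⊥) (hKW₁' : K ⊔ W₁ = ⊤) : Nat.card K = W₁.index := by
  have h1 := (isComplement' K W₁ hKW₁ hKW₁').card_mul_card
  have h2 := Subgroup.card_mul_index W₁
  have h3 : 0 < Nat.card W₁ := Nat.card_pos
  have : Nat.card W₁ * Nat.card K = Nat.card W₁ * W₁.index := by
    rw [h2, ← h1, mul_comm]
  exact Nat.eq_of_mul_eq_mul_left h3 this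

theorem index_eq_card (hKW₁ : K ⊓ W₁ = ⊥) (hKW₁' : K ⊔ W₁ = ⊤) : K.index = Nat.card W₁ := by
  have h1 := (isComplement' K W₁ hKW₁ hKW₁').card_mul_card
  have h2 := Subgroup.card_mul_index K
  have h3 : 0 < Nat.card K := Nat.card_pos
  have : Nat.card K * K.index = Nat.card K * Nat.card W₁ := by
    rw [h2, ← h1]
  exact Nat.eq_of_mul_eq_mul_left h3 this

/-- The characters fixed by a non-identity element of `W₁`. -/
theorem card_fixed_irr (hKW₁ : K ⊓ W₁ = ⊥) (hKW₁' : K ⊔ W₁ = ⊤)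
    (hHall : Nat.Coprime (Nat.card W₁) W₁.index) (hW₂K : W₂ ≤ K)
    (hcomm : ∀ a ∈ W₂, ∀ b ∈ W₂, a * b = b * a) (y : L) (hy : y ∈ W₁)
    (hC : K ⊓ Subgroup.centralizer ({y} : Set L) = W₂) :
    Nat.card {θ : IrrCharacter K // y ∈ stab K (θ : K → ℂ)} = Nat.card W₂ := by
  have hcop : Nat.Coprime (orderOf y) (Nat.card K) := by
    rw [card_eq_index K W₁ hKW₁ hKW₁']
    apply Nat.Coprime.coprime_dvd_left _ hHall
    have : orderOf (⟨y, hy⟩ : W₁) ∣ Nat.card W₁ := orderOf_dvd_natCard _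
    rwa [Subgroup.orderOf_mk] at this
  rw [← card_fixed_classes K W₂ y hcop hW₂K hcomm hC,
    brauer_permutation_aut]
  apply Nat.card_congr
  apply Equiv.subtypeEquivRight
  intro θ
  rw [mem_stab_iff_conjFun]
  have hform : ((θ : K → ℂ) ∘ (MulAut.conjNormal y : K ≃* K)) =
      fun k : K => (θ : K → ℂ) ⟨y * k * y⁻¹, hK.conj_mem (k : L) k.2 y⟩ := by
    funext k
    simp only [Function.comp_apply]
    congr 1
  rw [hform]

end main

end Cfsg.Agent.Lib.helper3.Pf4
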