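import Mathlib
import Cfsg.Prelude.Def_Characters
import Cfsg.Agent.Lib.helper3.Pf4b
import Cfsg.Agent.Lib.helper3.Irr9

/-!
# Semidirect products `K ⋊ W₁` with a common centralizer: the three statements
-/

set_option autoImplicit false
set_option linter.style.haveILetI false
set_option linter.unusedSectionVars false

namespace Cfsg.Agent.Lib.helper3.Pf4

open Cfsg Cfsg.Agent.Lib.helper3.Irr Cfsg.Agent.Lib.helper3.CharBasic
open Cfsg.Agent.Lib.helper3.IndFun
open scoped ComplexConjugate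

universe u

section regular

variable {L : Type u} [Group L] [Fintype L] (K : Subgroup L) [hK : K.Normal]

/-- For an abelian quotient, the function induced from the principal character is the sum of
the inflated irreducible characters of the quotient. -/
theorem indFun_one_eq_sum (hab : ∀ a b : L ⧸ K, a * b = b * a) :
    indFun K (fun _ : K => (1 : ℂ)) = ∑ β : IrrCharacter (L ⧸ K), inflate K (β : L ⧸ K → ℂ) := by
  classical
  funext g
  rw [Finset.sum_apply]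
  simp only [inflate_apply]
  have hreg := congrFun (leftRegular_character_eq_sum (G := L ⧸ K)) (g : L ⧸ K)
  rw [leftRegular_character, Finset.sum_apply] at hreg
  have hdeg : ∀ β : IrrCharacter (L ⧸ K), (β : L ⧸ K → ℂ) 1 = 1 := fun β =>
    apply_one_eq_one_of_comm hab β.2
  simp only [Pi.smul_apply, smul_eq_mul, hdeg, one_mul] at hreg
  rw [← hreg]
  by_cases hg : g ∈ K
  · rw [if_pos ((QuotientGroup.eq_one_iff g).mpr hg)]
    have h1 := indFun_normal_apply K (fun _ : K => (1 : ℂ)) ⟨g, hg⟩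
    simp only at h1
    rw [h1]
    have h2 : ∀ x : L, conjFun K (fun _ : K => (1 : ℂ)) x ⟨g, hg⟩ = 1 := fun x => rfl
    simp only [h2, Finset.sum_const, Finset.card_univ, nsmul_eq_mul, mul_one]
    rw [← Nat.card_eq_fintype_card, ← Subgroup.card_mul_index K, ← Subgroup.index_eq_card]
    have hK0 : (Nat.card K : ℂ) ≠ 0 := by exact_mod_cast Nat.card_pos.ne'
    push_cast
    field_simp
  · rw [if_neg (fun h => hg ((QuotientGroup.eq_one_iff g).mp h))]
    exact indFun_normal_apply_of_not_mem K _ hg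

end regular

section parts

variable {L : Type u} [Group L] [Fintype L] (K W₁ W₂ : Subgroup L) [hK : K.Normal]

theorem comm_of_isCyclic (hW₂c : IsCyclic W₂) : ∀ a ∈ W₂, ∀ b ∈ W₂, a * b = b * a := by
  intro a ha b hb
  obtain ⟨g, hg⟩ := hW₂c.exists_generator
  obtain ⟨i, hi⟩ := Subgroup.mem_zpowers_iff.mp (hg ⟨a, ha⟩)
  obtain ⟨j, hj⟩ := Subgroup.mem_zpowers_iff.mp (hg ⟨b, hb⟩)
  have h1 : (⟨a, ha⟩ : W₂) * ⟨b, hb⟩ = ⟨b, hb⟩ * ⟨a, ha⟩ := by
    rw [← hi, ← hj]
    exact (Commute.zpow_zpow_self g i j).eq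
  exact congrArg Subtype.val h1

/-- An irreducible character fixed by one non-identity element of `W₁` is fixed by `W₁`. -/
theorem le_stab_of_mem (hKW₁ : K ⊓ W₁ = ⊥) (hKW₁' : K ⊔ W₁ = ⊤) (hW₁c : IsCyclic W₁)
    (hHall : Nat.Coprime (Nat.card W₁) W₁.index) (hW₂c : IsCyclic W₂) (hW₂K : W₂ ≤ K)
    (hC : ∀ x ∈ W₁, x ≠ 1 → K ⊓ Subgroup.centralizer ({x} : Set L) = W₂)
    (θ : IrrCharacter K) {y : L} (hy : y ∈ W₁) (hy1 : y ≠ 1) (hys : y ∈ stab K (θ : K → ℂ)) :
    W₁ ≤ stab K (θ : K → ℂ) := by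
  classical
  have hcomm := comm_of_isCyclic W₂ hW₂c
  obtain ⟨g₀, hg₀⟩ := hW₁c.exists_generator
  have hgen : ∀ ψ : IrrCharacter K, (g₀ : L) ∈ stab K (ψ : K → ℂ) → W₁ ≤ stab K (ψ : K → ℂ) := by
    intro ψ h x hx
    obtain ⟨i, hi⟩ := Subgroup.mem_zpowers_iff.mp (hg₀ ⟨x, hx⟩)
    have : x = (g₀ : L) ^ i := by
      have := congrArg Subtype.val hi
      simpa using this.symm
    rw [this]
    exact Subgroup.zpow_mem _ h i
  by_cases hg1 : (g₀ : L) = 1
  · intro x hx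
    obtain ⟨i, hi⟩ := Subgroup.mem_zpowers_iff.mp (hg₀ ⟨x, hx⟩)
    have : x = (g₀ : L) ^ i := by
      have := congrArg Subtype.val hi
      simpa using this.symm
    rw [this, hg1, one_zpow]
    exact Subgroup.one_mem _
  have hA := card_fixed_irr K W₁ W₂ hKW₁ hKW₁' hHall hW₂K hcomm (g₀ : L) g₀.2
    (hC _ g₀.2 hg1)
  have hB := card_fixed_irr K W₁ W₂ hKW₁ hKW₁' hHall hW₂K hcomm y hy (hC y hy hy1)
  obtain ⟨A, hAdef⟩ : ∃ A : Set (IrrCharacter K),
      A = {ψ : IrrCharacter K | (g₀ : L) ∈ stab K (ψ : K → ℂ)} := ⟨_, rfl⟩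
  obtain ⟨B, hBdef⟩ : ∃ B : Set (IrrCharacter K),
      B = {ψ : IrrCharacter K | y ∈ stab K (ψ : K → ℂ)} := ⟨_, rfl⟩
  have hAB : A ⊆ B := by
    intro ψ hψ
    rw [hAdef] at hψ
    rw [hBdef]
    exact hgen ψ hψ hy
  have hAc : A.ncard = Nat.card W₂ := by
    rw [← hA, ← _root_.Nat.card_coe_set_eq, hAdef]; rfl
  have hBc : B.ncard = Nat.card W₂ := by
    rw [← hB, ← _root_.Nat.card_coe_set_eq, hBdef]; rfl
  have hEq : A = B := Set.eq_of_subset_of_ncard_le hAB (by rw [hAc, hBc]) (Set.toFinite B)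
  have : θ ∈ A := by rw [hEq, hBdef]; exact hys
  rw [hAdef] at this
  exact hgen θ this

/-- Part (2): the invariant characters. -/
theorem card_invariant (hKW₁ : K ⊓ W₁ = ⊥) (hKW₁' : K ⊔ W₁ = ⊤) (hW₁ : W₁ ≠ ⊥)
    (hW₁c : IsCyclic W₁)
    (hHall : Nat.Coprime (Nat.card W₁) W₁.index) (hW₂c : IsCyclic W₂) (hW₂K : W₂ ≤ K)
    (hC : ∀ x ∈ W₁, x ≠ 1 → K ⊓ Subgroup.centralizer ({x} : Set L) = W₂) :
    Nat.card {θ : IrrCharacter K // ∀ x ∈ W₁,
      (fun k : K => (θ : K → ℂ) ⟨x * k * x⁻¹, hK.conj_mem (k : L) k.2 x⟩) = θ} =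
      Nat.card W₂ := by
  have hcomm := comm_of_isCyclic W₂ hW₂c
  obtain ⟨g₀, hg₀⟩ := hW₁c.exists_generator
  have hg1 : (g₀ : L) ≠ 1 := by
    intro h
    apply hW₁
    rw [eq_bot_iff]
    intro x hx
    obtain ⟨i, hi⟩ := Subgroup.mem_zpowers_iff.mp (hg₀ ⟨x, hx⟩)
    have : x = (g₀ : L) ^ i := by
      have := congrArg Subtype.val hi
      simpa using this.symm
    rw [this, h, one_zpow]
    exact Subgroup.mem_bot.mpr rfl
  rw [← card_fixed_irr K W₁ W₂ hKW₁ hKW₁' hHall hW₂K hcomm (g₀ : L) g₀.2 (hC _ g₀.2 hg1)]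
  apply Nat.card_congr
  apply Equiv.subtypeEquivRight
  intro θ
  constructor
  · intro h
    exact (mem_stab_iff_conjFun K _ _).mpr (h _ g₀.2)
  · intro h x hx
    have := le_stab_of_mem K W₁ W₂ hKW₁ hKW₁' hW₁c hHall hW₂c hW₂K hC θ g₀.2 hg1 h hx
    exact (mem_stab_iff_conjFun K _ _).mp this

/-- Part (1): a character moved by some element of `W₁` induces irreducibly. -/
theorem isIrrCharacter_indFun_of_moved (hKW₁ : K ⊓ W₁ = ⊥) (hKW₁' : K ⊔ W₁ = ⊤)
    (hW₁c : IsCyclic W₁)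
    (hHall : Nat.Coprime (Nat.card W₁) W₁.index) (hW₂c : IsCyclic W₂) (hW₂K : W₂ ≤ K)
    (hC : ∀ x ∈ W₁, x ≠ 1 → K ⊓ Subgroup.centralizer ({x} : Set L) = W₂)
    (θ : K → ℂ) (hθ : IsIrrCharacter K θ)
    (hmoved : ∃ x ∈ W₁, (fun k : K => θ ⟨x * k * x⁻¹, hK.conj_mem (k : L) k.2 x⟩) ≠ θ) :
    IsIrrCharacter L (indFun K θ) := by
  obtain ⟨x, hx, hxθ⟩ := hmoved
  have hxs : x ∉ stab K θ := fun h => hxθ ((mem_stab_iff_conjFun K θ x).mp h)
  have htriv : ∀ y ∈ W₁, y ∈ stab K θ → y = 1 := by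
    intro y hy hys
    by_contra hy1
    exact hxs (le_stab_of_mem K W₁ W₂ hKW₁ hKW₁' hW₁c hHall hW₂c hW₂K hC ⟨θ, hθ⟩ hy hy1 hys hx)
  have hstab : stab K θ = K := by
    apply le_antisymm
    · intro g hg
      have hgtop : g ∈ K ⊔ W₁ := by rw [hKW₁']; exact Subgroup.mem_top g
      rw [Subgroup.mem_sup_of_normal_left] at hgtop
      obtain ⟨k, hk, w, hw, rfl⟩ := hgtop
      have hws : w ∈ stab K θ := by
        have h1 : w = k⁻¹ * (k * w) := by group
        rw [h1]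
        exact Subgroup.mul_mem _ (Subgroup.inv_mem _ (le_stab K hθ hk)) hg
      rw [htriv w hw hws, mul_one]
      exact hk
    · exact le_stab K hθ
  have h1 := card_mul_classInner_indFun_normal K θ hθ
  have h2 : Nat.card {g : L // ∀ h : K, θ ⟨g * h * g⁻¹, hK.conj_mem h h.2 g⟩ = θ h} =
      Nat.card K := by
    calc Nat.card {g : L // ∀ h : K, θ ⟨g * h * g⁻¹, hK.conj_mem h h.2 g⟩ = θ h}
        = Nat.card (stab K θ) := rfl
      _ = Nat.card K := by rw [hstab]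
  rw [h2] at h1
  have hK0 : (Nat.card K : ℂ) ≠ 0 := by exact_mod_cast Nat.card_pos.ne'
  have h3 : classInner (indFun K θ) (indFun K θ) = 1 := by
    apply mul_left_cancel₀ hK0
    rw [h1, mul_one]
  exact isIrrCharacter_of_classInner_self_eq_one
    (isCharacter_indFun K θ (isCharacter_of_isIrrCharacter hθ)) h3

/-- Part (3): an invariant character induces to a sum of distinct irreducible characters. -/
theorem indFun_of_invariant (hKW₁ : K ⊓ W₁ = ⊥) (hKW₁' : K ⊔ W₁ = ⊤) (hW₁c : IsCyclic W₁)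
    (θ : K → ℂ) (hθ : IsIrrCharacter K θ)
    (hinvW : ∀ x ∈ W₁, (fun k : K => θ ⟨x * k * x⁻¹, hK.conj_mem (k : L) k.2 x⟩) = θ) :
    ∃ C : Finset (L → ℂ), C.card = Nat.card W₁ ∧ (∀ μ ∈ C, IsIrrCharacter L μ) ∧
      indFun K θ = ∑ μ ∈ C, μ := by
  classical
  letI : Fintype K := Fintype.ofFinite K
  have hstab : stab K θ = ⊤ := by
    rw [eq_top_iff, ← hKW₁']
    apply sup_le (le_stab K hθ)
    intro x hx
    exact (mem_stab_iff_conjFun K θ x).mpr (hinvW x hx)
  have hinv : ∀ (g : L) (n : K), θ ⟨g * n * g⁻¹, hK.conj_mem (n : L) n.2 g⟩ = θ n := by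
    intro g n
    have : g ∈ stab K θ := by rw [hstab]; exact Subgroup.mem_top g
    exact this n
  -- the quotient is cyclic
  have hsurj : Function.Surjective ((QuotientGroup.mk' K).comp W₁.subtype) := by
    intro q
    obtain ⟨g, rfl⟩ := QuotientGroup.mk_surjective q
    have hgtop : g ∈ K ⊔ W₁ := by rw [hKW₁']; exact Subgroup.mem_top g
    rw [Subgroup.mem_sup_of_normal_left] at hgtop
    obtain ⟨k, hk, w, hw, rfl⟩ := hgtop
    refine ⟨⟨w, hw⟩, ?_⟩
    simp only [MonoidHom.coe_comp, QuotientGroup.coe_mk', Subgroup.coe_subtype,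
      Function.comp_apply]
    rw [QuotientGroup.eq]
    have : w⁻¹ * (k * w) ∈ K := by
      have := hK.conj_mem k hk w⁻¹
      simpa [mul_assoc] using this
    exact this
  haveI := hW₁c
  have hcyc : IsCyclic (L ⧸ K) := isCyclic_of_surjective _ hsurj
  have hab : ∀ a b : L ⧸ K, a * b = b * a := by
    intro a b
    obtain ⟨g, hg⟩ := hcyc.exists_generator
    obtain ⟨i, rfl⟩ := Subgroup.mem_zpowers_iff.mp (hg a)
    obtain ⟨j, rfl⟩ := Subgroup.mem_zpowers_iff.mp (hg b)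
    exact (Commute.zpow_zpow_self g i j).eq
  obtain ⟨χ, hχ, hχθ⟩ := Cfsg.Agent.Lib.helper3.CycExt.exists_extension_of_cyclic K hcyc θ hθ hinv
  have hχres : (fun n : K => χ n) = θ := funext hχθ
  obtain ⟨hirr, hinj⟩ := gallagher_inflate K χ (isCharacter_of_isIrrCharacter hχ)
    (apply_one_ne_zero hχ) (by rw [hχres]; exact hθ)
  have hinj' : Function.Injective
      (fun β : IrrCharacter (L ⧸ K) => inflate K (β : L ⧸ K → ℂ) * χ) := fun β γ h => hinj β γ h
  refine ⟨Finset.univ.image (fun β : IrrCharacter (L ⧸ K) => inflate K (β : L ⧸ K → ℂ) * χ),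
    ?_, ?_, ?_⟩
  · rw [Finset.card_image_of_injective _ hinj', Finset.card_univ, ← Nat.card_eq_fintype_card,
      Cfsg.Agent.Lib.helper3.GlFpf.card_irr_of_comm hab, ← Subgroup.index_eq_card,
      index_eq_card K W₁ hKW₁ hKW₁']
  · intro μ hμ
    obtain ⟨β, -, rfl⟩ := Finset.mem_image.mp hμ
    exact hirr β
  · rw [Finset.sum_image (fun β _ γ _ h => hinj' h), ← Finset.sum_mul, ← indFun_one_eq_sum K hab,
      ← indFun_mul_restrict K _ χ (isClassFunction_of_isCharacter (isCharacter_of_isIrrCharacter hχ)),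
      hχres]
    congr 1
    funext k
    simp

end parts

end Cfsg.Agent.Lib.helper3.Pf4
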