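import Mathlib
import Cfsg.Prelude.Def_Characters
import Cfsg.Agent.Lib.helper3.Pf4c
import Cfsg.Agent.Lib.helper3.NilpPow

/-!
# Semidirect products `K ⋊ W₁` with a common centralizer: the subgroup `W = W₁ W₂`
-/

set_option autoImplicit false
set_option linter.style.haveILetI false
set_option linter.unusedSectionVars false

namespace Cfsg.Agent.Lib.helper3.Pf4

open Cfsg
open scoped ComplexConjugate

universe u

section grp

variable {L : Type u} [Group L] [Fintype L] (K W₁ W₂ : Subgroup L) [hK : K.Normal]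

theorem commute_of_mem (hW₂K : W₂ ≤ K)
    (hC : ∀ x ∈ W₁, x ≠ 1 → K ⊓ Subgroup.centralizer ({x} : Set L) = W₂) :
    ∀ a ∈ W₁, ∀ b ∈ W₂, a * b = b * a := by
  intro a ha b hb
  by_cases ha1 : a = 1
  · rw [ha1, one_mul, mul_one]
  · have := hC a ha ha1
    rw [← this] at hb
    exact mem_centralizer_singleton'.mp (Subgroup.mem_inf.mp hb).2

theorem exists_mul_of_mem_sup (hW₂K : W₂ ≤ K)
    (hC : ∀ x ∈ W₁, x ≠ 1 → K ⊓ Subgroup.centralizer ({x} : Set L) = W₂) {x : L}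
    (hx : x ∈ W₁ ⊔ W₂) : ∃ a ∈ W₁, ∃ b ∈ W₂, x = a * b := by
  have hcomm := commute_of_mem K W₁ W₂ hW₂K hC
  rw [Subgroup.sup_eq_closure] at hx
  induction hx using Subgroup.closure_induction with
  | mem y hy =>
    rcases hy with hy | hy
    · exact ⟨y, hy, 1, W₂.one_mem, (mul_one y).symm⟩
    · exact ⟨1, W₁.one_mem, y, hy, (one_mul y).symm⟩
  | one => exact ⟨1, W₁.one_mem, 1, W₂.one_mem, (mul_one 1).symm⟩
  | mul y z _ _ ihy ihz =>
    obtain ⟨a, ha, b, hb, rfl⟩ := ihy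
    obtain ⟨a', ha', b', hb', rfl⟩ := ihz
    refine ⟨a * a', W₁.mul_mem ha ha', b * b', W₂.mul_mem hb hb', ?_⟩
    calc a * b * (a' * b') = a * (b * a') * b' := by group
      _ = a * (a' * b) * b' := by rw [hcomm a' ha' b hb]
      _ = a * a' * (b * b') := by group
  | inv y _ ihy =>
    obtain ⟨a, ha, b, hb, rfl⟩ := ihy
    refine ⟨a⁻¹, W₁.inv_mem ha, b⁻¹, W₂.inv_mem hb, ?_⟩
    rw [mul_inv_rev, hcomm a⁻¹ (W₁.inv_mem ha) b⁻¹ (W₂.inv_mem hb)]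

theorem mem_of_mem_sup_of_mem (hKW₁ : K ⊓ W₁ = ⊥) (hW₂K : W₂ ≤ K)
    (hC : ∀ x ∈ W₁, x ≠ 1 → K ⊓ Subgroup.centralizer ({x} : Set L) = W₂) {x : L}
    (hx : x ∈ W₁ ⊔ W₂) (hxK : x ∈ K) : x ∈ W₂ := by
  obtain ⟨a, ha, b, hb, rfl⟩ := exists_mul_of_mem_sup K W₁ W₂ hW₂K hC hx
  have haK : a ∈ K := by
    have : a = a * b * b⁻¹ := by group
    rw [this]
    exact K.mul_mem hxK (K.inv_mem (hW₂K hb))
  have ha1 : a = 1 := by
    have : a ∈ K ⊓ W₁ := Subgroup.mem_inf.mpr ⟨haK, ha⟩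
    rw [hKW₁] at this
    exact Subgroup.mem_bot.mp this
  rw [ha1, one_mul]
  exact hb

theorem comm_W₁ (hW₁c : IsCyclic W₁) : ∀ a ∈ W₁, ∀ b ∈ W₁, a * b = b * a :=
  comm_of_isCyclic W₁ hW₁c

/-- The exponent projecting onto `W₁`. -/
theorem exists_pow_exponent (hKW₁ : K ⊓ W₁ = ⊥) (hKW₁' : K ⊔ W₁ = ⊤)
    (hHall : Nat.Coprime (Nat.card W₁) W₁.index) :
    ∃ e : ℕ, (∀ a ∈ W₁, a ^ e = a) ∧ ∀ k ∈ K, k ^ e = 1 := by
  have hcard : Nat.card K = W₁.index := card_eq_index K W₁ hKW₁ hKW₁'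
  obtain ⟨e, he1, he2⟩ := Cfsg.Agent.Lib.helper3.NilpPow.exists_exponent (Nat.card K)
    (Nat.card W₁) (by rw [hcard]; exact hHall.symm)
  refine ⟨e, ?_, ?_⟩
  · intro a ha
    have h1 : orderOf a ∣ Nat.card W₁ := by
      have : orderOf (⟨a, ha⟩ : W₁) ∣ Nat.card W₁ := orderOf_dvd_natCard _
      rwa [Subgroup.orderOf_mk] at this
    have h3 : e ≡ 1 [MOD orderOf a] := he2.of_dvd h1
    have := pow_eq_pow_iff_modEq.mpr h3
    rw [pow_one] at this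
    exact this
  · intro k hk
    have h1 : orderOf k ∣ Nat.card K := by
      have : orderOf (⟨k, hk⟩ : K) ∣ Nat.card K := orderOf_dvd_natCard _
      rwa [Subgroup.orderOf_mk] at this
    exact orderOf_dvd_iff_pow_eq_one.mp (dvd_trans h1 he1)

/-- Control of fusion: an element conjugating an element of `W` outside `W₂` into `W`
lies in `W`. -/
theorem mem_sup_of_conj_mem (hKW₁ : K ⊓ W₁ = ⊥) (hKW₁' : K ⊔ W₁ = ⊤) (hW₁c : IsCyclic W₁)
    (hHall : Nat.Coprime (Nat.card W₁) W₁.index) (hW₂K : W₂ ≤ K)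
    (hC : ∀ x ∈ W₁, x ≠ 1 → K ⊓ Subgroup.centralizer ({x} : Set L) = W₂) {x g : L}
    (hx : x ∈ W₁ ⊔ W₂) (hx2 : x ∉ W₂) (hgx : g * x * g⁻¹ ∈ W₁ ⊔ W₂) : g ∈ W₁ ⊔ W₂ := by
  have hcomm := commute_of_mem K W₁ W₂ hW₂K hC
  obtain ⟨e, he1, he2⟩ := exists_pow_exponent K W₁ hKW₁ hKW₁' hHall
  obtain ⟨a, ha, b, hb, rfl⟩ := exists_mul_of_mem_sup K W₁ W₂ hW₂K hC hx
  obtain ⟨a', ha', b', hb', hab'⟩ := exists_mul_of_mem_sup K W₁ W₂ hW₂K hC hgx
  have ha1 : a ≠ 1 := by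
    intro h
    apply hx2
    rw [h, one_mul]; exact hb
  have hpow : (a * b) ^ e = a := by
    rw [(show Commute a b from hcomm a ha b hb).mul_pow, he1 a ha, he2 b (hW₂K hb), mul_one]
  have hpow' : (a' * b') ^ e = a' := by
    rw [(show Commute a' b' from hcomm a' ha' b' hb').mul_pow, he1 a' ha', he2 b' (hW₂K hb'),
      mul_one]
  have hconj : g * a * g⁻¹ = a' := by
    rw [← hpow, ← hpow', ← hab', conj_pow]
  have hgtop : g ∈ K ⊔ W₁ := by rw [hKW₁']; exact Subgroup.mem_top g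
  rw [Subgroup.mem_sup_of_normal_left] at hgtop
  obtain ⟨k, hk, w, hw, rfl⟩ := hgtop
  have hwa : w * a * w⁻¹ = a := by
    rw [comm_W₁ W₁ hW₁c w hw a ha]; group
  have hka : k * a * k⁻¹ = a' := by
    rw [← hconj]
    calc k * a * k⁻¹ = k * (w * a * w⁻¹) * k⁻¹ := by rw [hwa]
      _ = k * w * a * (k * w)⁻¹ := by group
  have h1 : a' * a⁻¹ ∈ K := by
    have : a' * a⁻¹ = k * (a * k⁻¹ * a⁻¹) := by rw [← hka]; group
    rw [this]
    exact K.mul_mem hk (hK.conj_mem _ (K.inv_mem hk) a)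
  have h2 : a' * a⁻¹ = 1 := by
    have : a' * a⁻¹ ∈ K ⊓ W₁ := Subgroup.mem_inf.mpr ⟨h1, W₁.mul_mem ha' (W₁.inv_mem ha)⟩
    rw [hKW₁] at this
    exact Subgroup.mem_bot.mp this
  have h3 : a' = a := by
    calc a' = a' * a⁻¹ * a := by group
      _ = a := by rw [h2, one_mul]
  have hkW₂ : k ∈ W₂ := by
    rw [← hC a ha ha1]
    refine Subgroup.mem_inf.mpr ⟨hk, mem_centralizer_singleton'.mpr ?_⟩
    rw [h3] at hka
    calc a * k = (k * a * k⁻¹) * k := by rw [hka]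
      _ = k * a := by group
  exact Subgroup.mul_mem _ (Subgroup.mem_sup_right hkW₂) (Subgroup.mem_sup_left hw)

/-- The quotient by `K` is commutative. -/
theorem quotient_comm (hKW₁' : K ⊔ W₁ = ⊤) (hW₁c : IsCyclic W₁) :
    ∀ a b : L ⧸ K, a * b = b * a := by
  have hsurj : Function.Surjective ((QuotientGroup.mk' K).comp W₁.subtype) := by
    intro q
    obtain ⟨g, rfl⟩ := QuotientGroup.mk_surjective q
    have hgtop : g ∈ K ⊔ W₁ := by rw [hKW₁']; exact Subgroup.mem_top g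
    rw [Subgroup.mem_sup_of_normal_left] at hgtop
    obtain ⟨k, hk, w, hw, rfl⟩ := hgtop
    refine ⟨⟨w, hw⟩, ?_⟩
    simp only [MonoidHom.coe_comp, QuotientGroup.coe_mk', Subgroup.coe_subtype,
      Function.comp_apply]
    rw [QuotientGroup.eq]
    have : w⁻¹ * (k * w) ∈ K := by
      have := hK.conj_mem k hk w⁻¹
      simpa [mul_assoc] using this
    exact this
  haveI := hW₁c
  have hcyc : IsCyclic (L ⧸ K) := isCyclic_of_surjective _ hsurj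
  intro a b
  obtain ⟨g, hg⟩ := hcyc.exists_generator
  obtain ⟨i, rfl⟩ := Subgroup.mem_zpowers_iff.mp (hg a)
  obtain ⟨j, rfl⟩ := Subgroup.mem_zpowers_iff.mp (hg b)
  exact (Commute.zpow_zpow_self g i j).eq

/-- A linear character of `W` trivial on `W₂` and nontrivial at a given element outside `W₂`. -/
theorem exists_hom_ne_one (hKW₁ : K ⊓ W₁ = ⊥) (hKW₁' : K ⊔ W₁ = ⊤) (hW₁c : IsCyclic W₁)
    (hW₂K : W₂ ≤ K)
    (hC : ∀ x ∈ W₁, x ≠ 1 → K ⊓ Subgroup.centralizer ({x} : Set L) = W₂)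
    (x : ↥(W₁ ⊔ W₂)) (hx : (x : L) ∉ W₂) :
    ∃ β : ↥(W₁ ⊔ W₂) →* ℂˣ, (∀ w : ↥(W₁ ⊔ W₂), (w : L) ∈ W₂ → β w = 1) ∧ β x ≠ 1 := by
  have hab := quotient_comm K W₁ hKW₁' hW₁c
  letI : CommGroup (L ⧸ K) :=
    { (inferInstance : Group (L ⧸ K)) with mul_comm := hab }
  haveI : NeZero ((Monoid.exponent (L ⧸ K) : ℕ) : ℂ) := by
    constructor
    have : Monoid.exponent (L ⧸ K) ≠ 0 := Monoid.exponent_ne_zero_of_finite
    exact_mod_cast this
  have hxK : (x : L) ∉ K := fun h => hx (mem_of_mem_sup_of_mem K W₁ W₂ hKW₁ hW₂K hC x.2 h)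
  have hne : ((x : L) : L ⧸ K) ≠ 1 := fun h => hxK ((QuotientGroup.eq_one_iff _).mp h)
  obtain ⟨φ, hφ⟩ := CommGroup.exists_apply_ne_one_of_hasEnoughRootsOfUnity (L ⧸ K) ℂ hne
  refine ⟨φ.comp ((QuotientGroup.mk' K).comp (W₁ ⊔ W₂).subtype), ?_, ?_⟩
  · intro w hw
    simp only [MonoidHom.coe_comp, QuotientGroup.coe_mk', Subgroup.coe_subtype,
      Function.comp_apply]
    rw [(QuotientGroup.eq_one_iff _).mpr (hW₂K hw), map_one]
  · simpa using hφ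

end grp

end Cfsg.Agent.Lib.helper3.Pf4
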