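import Mathlib
import Cfsg.Prelude.Def_Characters
import Cfsg.Agent.Lib.helper3.NormTwo
import Cfsg.Agent.Lib.helper3.Irr11

set_option autoImplicit false
set_option linter.style.haveILetI false
set_option linter.unusedSectionVars false

/-!
# The isometry lemma behind exceptional characters
-/

namespace Cfsg.Agent.Lib.helper3.Irr

open Cfsg Module Cfsg.Agent.Lib.helper3.IndFun Cfsg.Agent.Lib.helper3.CharBasic
open scoped ComplexConjugate

variable {G : Type*} [Group G] [Fintype G]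

/-- Two differences of irreducible characters with inner product one share exactly one of their
two constituents, with the same sign. -/
theorem share_of_inner_one (a b a' b' : IrrCharacter G) (hab : a ≠ b) (hab' : a' ≠ b')
    (h : classInner ((a : G → ℂ) - (b : G → ℂ)) ((a' : G → ℂ) - (b' : G → ℂ)) = 1) :
    (a = a' ∧ b ≠ b') ∨ (b = b' ∧ a ≠ a') := by
  classical
  rw [classInner_sub_left, classInner_sub_right, classInner_sub_right,
    irr_classInner_eq a.2 a'.2, irr_classInner_eq a.2 b'.2, irr_classInner_eq b.2 a'.2,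
    irr_classInner_eq b.2 b'.2] at h
  have e1 : ((a : G → ℂ) = (a' : G → ℂ)) ↔ a = a' := Subtype.ext_iff.symm
  have e2 : ((a : G → ℂ) = (b' : G → ℂ)) ↔ a = b' := Subtype.ext_iff.symm
  have e3 : ((b : G → ℂ) = (a' : G → ℂ)) ↔ b = a' := Subtype.ext_iff.symm
  have e4 : ((b : G → ℂ) = (b' : G → ℂ)) ↔ b = b' := Subtype.ext_iff.symm
  simp only [e1, e2, e3, e4] at h
  have hp : ∀ (x y : IrrCharacter G),
      ((if x = y then (1 : ℂ) else 0) = 1 ∧ x = y) ∨ ((if x = y then (1 : ℂ) else 0) = 0 ∧ x ≠ y) := by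
    intro x y
    by_cases hxy : x = y
    · left; exact ⟨if_pos hxy, hxy⟩
    · right; exact ⟨if_neg hxy, hxy⟩
  rcases hp a a' with ⟨e1', h1⟩ | ⟨e1', h1⟩ <;> rcases hp a b' with ⟨e2', h2⟩ | ⟨e2', h2⟩ <;>
    rcases hp b a' with ⟨e3', h3⟩ | ⟨e3', h3⟩ <;> rcases hp b b' with ⟨e4', h4⟩ | ⟨e4', h4⟩ <;>
    rw [e1', e2', e3', e4'] at h
  all_goals first
    | (exfalso; norm_num at h; done)
    | (exfalso; apply hab; rw [h1, h3]; done)
    | (exfalso; apply hab'; rw [← h1, ← h2]; done)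
    | (exfalso; apply hab'; rw [← h3, ← h4]; done)
    | (exfalso; apply hab; rw [h2, h4]; done)
    | (left; exact ⟨h1, h4⟩)
    | (right; exact ⟨h4, h1⟩)

/-- The isometry lemma behind exceptional characters. -/
theorem exceptional_isometry (n : ℕ) (i₀ : Fin n) (τ : Fin n → (G → ℂ)) (h0 : τ i₀ = 0)
    (hgen : ∀ i, IsGeneralizedCharacter G (τ i)) (hone : ∀ i, τ i 1 = 0)
    (hgram : ∀ i j, i ≠ i₀ → j ≠ i₀ → classInner (τ i) (τ j) = if i = j then 2 else 1) :
    ∃ ε : ℂ, (ε = 1 ∨ ε = -1) ∧ ∃ μ : Fin n → (G → ℂ), (∀ i, IsIrrCharacter G (μ i)) ∧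
      Function.Injective μ ∧ ∀ i, τ i = ε • (μ i - μ i₀) := by
  classical
  have hdec : ∀ i, i ≠ i₀ → ∃ a b : IrrCharacter G, a ≠ b ∧
      τ i = (a : G → ℂ) - (b : G → ℂ) := fun i hi =>
    exists_sub_of_norm_two (hgen i) (by rw [hgram i i hi hi, if_pos rfl]) (hone i)
  set triv : IrrCharacter G := ⟨fun _ => 1, isIrrCharacter_one⟩ with htriv
  have hdec' : ∀ i, ∃ ab : IrrCharacter G × IrrCharacter G,
      i ≠ i₀ → ab.1 ≠ ab.2 ∧ τ i = (ab.1 : G → ℂ) - (ab.2 : G → ℂ) := by
    intro i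
    by_cases hi : i = i₀
    · exact ⟨(triv, triv), fun h => absurd hi h⟩
    · obtain ⟨a, b, hab, h⟩ := hdec i hi
      exact ⟨(a, b), fun _ => ⟨hab, h⟩⟩
  choose ab hab using hdec'
  set a : Fin n → IrrCharacter G := fun i => (ab i).1 with ha
  set b : Fin n → IrrCharacter G := fun i => (ab i).2 with hb
  have habne : ∀ i, i ≠ i₀ → a i ≠ b i := fun i hi => (hab i hi).1
  have hτ : ∀ i, i ≠ i₀ → τ i = (a i : G → ℂ) - (b i : G → ℂ) := fun i hi => (hab i hi).2
  have hpair : ∀ i j, i ≠ i₀ → j ≠ i₀ → i ≠ j →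
      (a i = a j ∧ b i ≠ b j) ∨ (b i = b j ∧ a i ≠ a j) := by
    intro i j hi hj hij
    apply share_of_inner_one _ _ _ _ (habne i hi) (habne j hj)
    rw [← hτ i hi, ← hτ j hj, hgram i j hi hj, if_neg hij]
  have hdich : (∃ β : IrrCharacter G, ∀ i, i ≠ i₀ → b i = β) ∨
      (∃ α : IrrCharacter G, ∀ i, i ≠ i₀ → a i = α) := by
    by_cases h2 : ∃ i₁ i₂, i₁ ≠ i₀ ∧ i₂ ≠ i₀ ∧ i₁ ≠ i₂
    · obtain ⟨i₁, i₂, h1, h2', h12⟩ := h2
      rcases hpair i₁ i₂ h1 h2' h12 with ⟨hA, hB⟩ | ⟨hB, hA⟩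
      · right
        refine ⟨a i₁, ?_⟩
        intro i hi
        by_cases e1 : i = i₁
        · rw [e1]
        by_cases e2 : i = i₂
        · rw [e2, hA]
        rcases hpair i i₁ hi h1 e1 with ⟨h, _⟩ | ⟨h, _⟩
        · exact h
        · rcases hpair i i₂ hi h2' e2 with ⟨h', _⟩ | ⟨h', _⟩
          · rw [h', hA]
          · exfalso
            exact hB (h.symm.trans h')
      · left
        refine ⟨b i₁, ?_⟩
        intro i hi
        by_cases e1 : i = i₁
        · rw [e1]
        by_cases e2 : i = i₂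
        · rw [e2, hB]
        rcases hpair i i₁ hi h1 e1 with ⟨h, _⟩ | ⟨h, _⟩
        · rcases hpair i i₂ hi h2' e2 with ⟨h', _⟩ | ⟨h', _⟩
          · exfalso
            exact hA (h.symm.trans h')
          · rw [h', hB]
        · exact h
    · left
      by_cases h1 : ∃ i₁, i₁ ≠ i₀
      · obtain ⟨i₁, h1⟩ := h1
        refine ⟨b i₁, fun i hi => ?_⟩
        by_contra hne
        apply h2
        exact ⟨i, i₁, hi, h1, fun e => hne (by rw [e])⟩
      · push Not at h1
        exact ⟨triv, fun i hi => absurd (h1 i) hi⟩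
  rcases hdich with ⟨β, hβ⟩ | ⟨α, hα⟩
  · set μ' : Fin n → IrrCharacter G := fun i => if i = i₀ then β else a i with hμ'
    have hμ0 : μ' i₀ = β := by simp [hμ']
    have hμi : ∀ i, i ≠ i₀ → μ' i = a i := fun i hi => by simp [hμ', hi]
    refine ⟨1, Or.inl rfl, fun i => (μ' i : G → ℂ), fun i => (μ' i).2, ?_, ?_⟩
    · intro i j hij
      have hij' : μ' i = μ' j := Subtype.ext hij
      by_contra hne
      by_cases hi : i = i₀ <;> by_cases hj : j = i₀
      · exact hne (hi.trans hj.symm)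
      · rw [hi, hμ0, hμi j hj] at hij'
        exact habne j hj (hij'.symm.trans (hβ j hj).symm)
      · rw [hj, hμ0, hμi i hi] at hij'
        exact habne i hi (hij'.trans (hβ i hi).symm)
      · rw [hμi i hi, hμi j hj] at hij'
        rcases hpair i j hi hj hne with ⟨_, hb'⟩ | ⟨_, ha'⟩
        · exact hb' ((hβ i hi).trans (hβ j hj).symm)
        · exact ha' hij'
    · intro i
      by_cases hi : i = i₀
      · rw [hi, h0]
        simp
      · simp only
        rw [one_smul, hμ0, hμi i hi, hτ i hi, hβ i hi]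
  · set μ' : Fin n → IrrCharacter G := fun i => if i = i₀ then α else b i with hμ'
    have hμ0 : μ' i₀ = α := by simp [hμ']
    have hμi : ∀ i, i ≠ i₀ → μ' i = b i := fun i hi => by simp [hμ', hi]
    refine ⟨-1, Or.inr rfl, fun i => (μ' i : G → ℂ), fun i => (μ' i).2, ?_, ?_⟩
    · intro i j hij
      have hij' : μ' i = μ' j := Subtype.ext hij
      by_contra hne
      by_cases hi : i = i₀ <;> by_cases hj : j = i₀
      · exact hne (hi.trans hj.symm)
      · rw [hi, hμ0, hμi j hj] at hij'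
        exact habne j hj ((hα j hj).trans hij')
      · rw [hj, hμ0, hμi i hi] at hij'
        exact habne i hi ((hα i hi).trans hij'.symm)
      · rw [hμi i hi, hμi j hj] at hij'
        rcases hpair i j hi hj hne with ⟨_, hb'⟩ | ⟨_, ha'⟩
        · exact hb' hij'
        · exact ha' ((hα i hi).trans (hα j hj).symm)
    · intro i
      by_cases hi : i = i₀
      · rw [hi, h0]
        simp
      · simp only
        rw [hμ0, hμi i hi, hτ i hi, hα i hi, neg_one_smul, neg_sub]

end Cfsg.Agent.Lib.helper3.Irr
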