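import Mathlib
import Cfsg.Prelude.Def_Characters
import Cfsg.Agent.Lib.helper3.Exceptional
import Cfsg.Agent.Lib.helper3.IndFunTI
import Cfsg.Agent.Lib.helper3.CycTI2
import Cfsg.Agent.Lib.helper3.Irr10

/-!
# General lemmas: induction from a subgroup controlling fusion, and linear characters
-/

set_option autoImplicit false
set_option linter.style.haveILetI false
set_option linter.unusedSectionVars false

namespace Cfsg.Agent.Lib.helper3.Pf4

open Cfsg Cfsg.Agent.Lib.helper3.Irr Cfsg.Agent.Lib.helper3.CharBasic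
open Cfsg.Agent.Lib.helper3.IndFun Cfsg.Agent.Lib.helper3.IndFunTI
open Cfsg.Agent.Lib.helper3.CycTI Cfsg.Agent.Lib.helper3.Lin Cfsg.Agent.Lib.helper3.TwoDeg
open scoped ComplexConjugate

universe u

section ti

variable {G : Type*} [Group G] [Fintype G]

/-- Induction from a subgroup `H` of a class function supported on a set `A` whose fusion is
controlled by `H`. -/
theorem indFun_apply_of_control (H : Subgroup G) (A : Set G)
    (hA : ∀ g : G, ∀ a ∈ A, g * a * g⁻¹ ∈ A → g ∈ H)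
    (ψ : H → ℂ) (hψ : IsClassFunction H ψ) (hψA : ∀ x : H, (x : G) ∉ A → ψ x = 0)
    (t : H) (ht : (t : G) ∈ A) : indFun H ψ t = ψ t := by
  apply indFun_eq_of_forall H ψ hψ t
  intro x hx
  by_cases hmem : x⁻¹ * (t : G) * x ∈ H
  · rw [extendByZero_mem _ ψ hmem]
    apply hψA
    intro hA'
    apply hx
    have := hA x⁻¹ t ht (by simpa using hA')
    simpa using H.inv_mem this
  · exact extendByZero_not_mem _ ψ hmem

/-- The isometry property. -/
theorem classInner_indFun_of_control (H : Subgroup G) [Fintype H] (A : Set G)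
    (hA : ∀ g : G, ∀ a ∈ A, g * a * g⁻¹ ∈ A → g ∈ H)
    (ψ θ : H → ℂ) (hθ : IsClassFunction H θ)
    (hψA : ∀ x : H, (x : G) ∉ A → ψ x = 0) (hθA : ∀ x : H, (x : G) ∉ A → θ x = 0) :
    classInner (indFun H ψ) (indFun H θ) = classInner ψ θ := by
  rw [frobenius_reciprocity _ ψ _ (indFun_isClassFunction _ θ)]
  rw [classInner_apply, classInner_apply]
  congr 1
  apply Finset.sum_congr rfl
  intro n _
  by_cases hnA : (n : G) ∈ A
  · rw [indFun_apply_of_control H A hA θ hθ hθA n hnA]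
  · rw [hψA n hnA, zero_mul, zero_mul]

/-- The exceptional isometry lemma for an arbitrary finite index type. -/
theorem exceptional_isometry' {ι : Type*} [Fintype ι] [DecidableEq ι] (i₀ : ι)
    (τ : ι → (G → ℂ)) (h0 : τ i₀ = 0)
    (hgen : ∀ i, IsGeneralizedCharacter G (τ i)) (hone : ∀ i, τ i 1 = 0)
    (hgram : ∀ i j, i ≠ i₀ → j ≠ i₀ → classInner (τ i) (τ j) = if i = j then 2 else 1) :
    ∃ ε : ℂ, (ε = 1 ∨ ε = -1) ∧ ∃ μ : ι → (G → ℂ), (∀ i, IsIrrCharacter G (μ i)) ∧
      Function.Injective μ ∧ ∀ i, τ i = ε • (μ i - μ i₀) := by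
  obtain ⟨e⟩ : Nonempty (ι ≃ Fin (Fintype.card ι)) := ⟨Fintype.equivFin ι⟩
  obtain ⟨ε, hε, μ, hμ, hinj, hτ⟩ := exceptional_isometry (Fintype.card ι) (e i₀)
    (fun k => τ (e.symm k)) (by simp [h0]) (fun k => hgen _) (fun k => hone _) (by
      intro i j hi hj
      have hi' : e.symm i ≠ i₀ := fun h => hi (by rw [← h]; simp)
      have hj' : e.symm j ≠ i₀ := fun h => hj (by rw [← h]; simp)
      rw [hgram _ _ hi' hj']
      by_cases hij : i = j
      · rw [if_pos hij, if_pos (by rw [hij])]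
      · rw [if_neg hij, if_neg (fun h => hij (e.symm.injective h))])
  refine ⟨ε, hε, fun i => μ (e i), fun i => hμ _, fun i j h => e.injective (hinj h), ?_⟩
  intro i
  have := hτ (e i)
  simpa using this

end ti

section lin

variable {X : Type*} [Group X] [Fintype X]

/-- A sum of linear characters with coefficients invariant under multiplication by `β`
vanishes where `β` is nontrivial. -/
theorem sum_mul_hom_eq_zero [Fintype (X →* ℂˣ)] (β : X →* ℂˣ) (x : X)
    (hβ : β x ≠ 1) (f : (X →* ℂˣ) → ℂ) (hf : ∀ ω, f (β * ω) = f ω) :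
    ∑ ω : X →* ℂˣ, f ω * ((ω x : ℂˣ) : ℂ) = 0 := by
  have h1 : ∑ ω : X →* ℂˣ, f ω * ((ω x : ℂˣ) : ℂ) =
      ∑ ω : X →* ℂˣ, f (β * ω) * (((β * ω) x : ℂˣ) : ℂ) :=
    (Fintype.sum_equiv (Equiv.mulLeft β) _ _ (fun ω => rfl)).symm
  have h2 : ∑ ω : X →* ℂˣ, f (β * ω) * (((β * ω) x : ℂˣ) : ℂ) =
      ((β x : ℂˣ) : ℂ) * ∑ ω : X →* ℂˣ, f ω * ((ω x : ℂˣ) : ℂ) := by
    rw [Finset.mul_sum]
    apply Finset.sum_congr rfl
    intro ω _
    rw [hf, MonoidHom.mul_apply, Units.val_mul]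
    ring
  rw [h2] at h1
  have hne : ((β x : ℂˣ) : ℂ) ≠ 1 := by
    intro h
    apply hβ
    exact Units.ext h
  have h3 : (1 - ((β x : ℂˣ) : ℂ)) * ∑ ω : X →* ℂˣ, f ω * ((ω x : ℂˣ) : ℂ) = 0 := by
    rw [sub_mul, one_mul, ← h1, sub_self]
  rcases mul_eq_zero.mp h3 with h | h
  · exact absurd (sub_eq_zero.mp h).symm hne
  · exact h

/-- The linear characters of a commutative group, as irreducible characters. -/
theorem exists_hom_of_irr (hcomm : ∀ a b : X, a * b = b * a) (χ : IrrCharacter X) :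
    ∃ ω : X →* ℂˣ, linFun ω = (χ : X → ℂ) := by
  have h1 := apply_one_eq_one_of_comm hcomm χ.2
  refine ⟨toUnitsHom (isCharacter_of_isIrrCharacter χ.2) h1, ?_⟩
  funext g
  exact toUnitsHom_apply _ _ g

theorem isIrrCharacter_linFun (ω : X →* ℂˣ) : IsIrrCharacter X (linFun ω) :=
  IsLin.isIrr ⟨isCharacter_of_hom ω, by simp [linFun]⟩

/-- Decomposition of a character of a commutative group into linear characters. -/
theorem isCharacter_eq_sum_hom (hcomm : ∀ a b : X, a * b = b * a) [Fintype (X →* ℂˣ)]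
    {ψ : X → ℂ} (hψ : IsCharacter X ψ) :
    ψ = ∑ ω : X →* ℂˣ, classInner ψ (linFun ω) • linFun ω := by
  classical
  have h := isCharacter_eq_sum_classInner hψ
  obtain ⟨e, he⟩ : ∃ e : (X →* ℂˣ) ≃ IrrCharacter X, ∀ ω, ((e ω : IrrCharacter X) : X → ℂ) = linFun ω := by
    refine ⟨Equiv.ofBijective (fun ω => ⟨linFun ω, isIrrCharacter_linFun ω⟩) ⟨?_, ?_⟩, fun ω => rfl⟩
    · intro ω ω' h
      exact linFun_injective (congrArg Subtype.val h)
    · intro χ
      obtain ⟨ω, hω⟩ := exists_hom_of_irr hcomm χ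
      exact ⟨ω, Subtype.ext hω⟩
  conv_lhs => rw [h]
  symm
  apply Fintype.sum_equiv e
  intro ω
  rw [he]

end lin

end Cfsg.Agent.Lib.helper3.Pf4
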