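import Mathlib
import Cfsg.Prelude.Def_Characters
import Cfsg.Agent.Lib.helper3.BSQ2
import Cfsg.Agent.H2.QuatSylow

/-!
# Brauer–Suzuki for quaternion Sylow subgroups: the two characters
-/

set_option autoImplicit false
set_option linter.style.haveILetI false
set_option linter.unusedSectionVars false

namespace Cfsg.Agent.Lib.helper3.BSQ

open Cfsg QuaternionGroup

/-- An element of a generalized quaternion Sylow subgroup inverting the given element of order at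
least eight. -/
theorem exists_inverting {G : Type*} [Group G] (S : Subgroup G) (m : ℕ) [NeZero m]
    (e : S ≃* QuaternionGroup m) (t : G) (htS : t ∈ S) (hord : orderOf t ≠ 4) :
    ∃ b ∈ S, b * t * b⁻¹ = t⁻¹ := by
  obtain ⟨bS, hbS⟩ : ∃ bS : S, bS = e.symm (xa 0) := ⟨_, rfl⟩
  have heb : e bS = xa 0 := by rw [hbS, e.apply_symm_apply]
  refine ⟨(bS : G), bS.2, ?_⟩
  have hordS : orderOf (e ⟨t, htS⟩) ≠ 4 := by
    rw [e.orderOf_eq, Subgroup.orderOf_mk]
    exact hord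
  obtain ⟨j, hj⟩ : ∃ j, e ⟨t, htS⟩ = a j := by
    cases h : e ⟨t, htS⟩ with
    | a j => exact ⟨j, rfl⟩
    | xa j =>
      exfalso
      apply hordS
      rw [h, orderOf_xa]
  have h1 : e (bS * ⟨t, htS⟩ * bS⁻¹) = e (⟨t, htS⟩⁻¹) := by
    rw [map_mul, map_mul, map_inv, map_inv, heb, hj]
    have h2 : (xa 0 : QuaternionGroup m)⁻¹ = xa (m : ZMod (2 * m)) := by
      rw [Cfsg.Agent.H2.QuatSylow.inv_xa', add_zero]
    rw [h2, xa_mul_a, xa_mul_xa, Cfsg.Agent.H2.QuatSylow.inv_a']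
    congr 1
    have := Cfsg.Agent.H2.QuatSylow.two_n' (n := m)
    rw [zero_add, this, zero_sub]
  have h2 := e.injective h1
  have := congrArg (fun x : S => (x : G)) h2
  simpa using this

/-- The existence of the two characters, with their values at the square of a generator of the
cyclic maximal subgroup. -/
theorem brauer_suzuki_char' {G : Type*} [Group G] [Fintype G] (S : Sylow 2 G) (n : ℕ)
    (e : (S : Subgroup G) ≃* QuaternionGroup (2 ^ (n + 2))) :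
    ∃ t : G, t ∈ (S : Subgroup G) ∧ orderOf t = 2 ^ (n + 3) ∧
    ∃ χ₁ χ₂ : G → ℂ, IsIrrCharacter G χ₁ ∧ IsIrrCharacter G χ₂ ∧ χ₁ ≠ (fun _ => 1) ∧
      χ₂ ≠ (fun _ => 1) ∧ χ₁ 1 = χ₂ 1 + 1 ∧ (∀ g : G, ¬ 4 ∣ orderOf g → χ₁ g - χ₂ g = 1) ∧
      1 + χ₂ (t ^ 2) - χ₁ (t ^ 2) = 4 := by
  classical
  haveI : NeZero (2 ^ (n + 2)) := ⟨pow_ne_zero _ two_ne_zero⟩
  obtain ⟨t, htS, hord, hcomm, hcent, hcard⟩ := Cfsg.Agent.H2.QuatSylow.exists_gen S n e
  have hnormS : (S : Subgroup G) ≤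
      Subgroup.normalizer ((Subgroup.zpowers (t ^ 2) : Subgroup G) : Set G) := by
    rw [← hcomm]
    exact Subgroup.le_normalizer.trans
      (Cfsg.Agent.H2.normalizer_le_normalizer_commutator (S : Subgroup G))
  obtain ⟨K, hKodd, hKC, hNK, hKS, hKt, hidx, hcyc⟩ :=
    Cfsg.Agent.H2.QuatSylow.structure_thm S t (n + 2) (by omega) hord hnormS hcent hcard
  obtain ⟨D, hDdef⟩ : ∃ D : Subgroup G, D = Subgroup.zpowers (t ^ 2) := ⟨_, rfl⟩
  rw [← hDdef] at hnormS hKC hNK hKS hKt hidx hcyc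
  obtain ⟨C, hCdef⟩ : ∃ C : Subgroup G, C = Subgroup.centralizer (D : Set G) := ⟨_, rfl⟩
  obtain ⟨N, hNdef⟩ : ∃ N : Subgroup G, N = Subgroup.normalizer (D : Set G) := ⟨_, rfl⟩
  rw [← hCdef, ← hNdef] at hidx
  rw [← hCdef] at hKC hKt hcyc
  rw [← hNdef] at hnormS hNK hKS
  have hCN : C ≤ N := by
    rw [hCdef, hNdef]
    exact Subgroup.centralizer_le_normalizer _
  have htC : t ∈ C := by
    rw [← hKt]
    exact Subgroup.mem_sup_right (Subgroup.mem_zpowers t)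
  have hDt : D ≤ Subgroup.zpowers t := by
    rw [hDdef, Subgroup.zpowers_le]
    exact Subgroup.pow_mem _ (Subgroup.mem_zpowers t) 2
  have hDC : D ≤ C := hDt.trans (by rw [Subgroup.zpowers_le]; exact htC)
  have hDcard : Nat.card D = 2 ^ (n + 2) := by
    rw [hDdef, Nat.card_zpowers, orderOf_pow_of_dvd two_ne_zero (by rw [hord]; exact Dvd.intro_left _ rfl), hord,
      pow_succ, Nat.mul_div_cancel _ (by norm_num)]
  have hD2 : IsPGroup 2 D := IsPGroup.of_card hDcard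
  haveI hnormal : (C.subgroupOf N).Normal := by
    apply Subgroup.normal_subgroupOf_of_le_normalizer
    rw [hNdef, hCdef]
    exact Cfsg.Agent.H2.QuatSylow.normalizer_le_normalizer_centralizer D
  haveI hKnormal : (K.subgroupOf C).Normal :=
    Subgroup.normal_subgroupOf_of_le_normalizer (hCN.trans hNK)
  -- the linear character
  have hsup : K.subgroupOf C ⊔ Subgroup.zpowers (⟨t, htC⟩ : C) = ⊤ := by
    apply Subgroup.map_injective C.subtype_injective
    rw [Subgroup.map_sup, Subgroup.subgroupOf_map_subtype, MonoidHom.map_zpowers,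
      inf_eq_left.mpr hKC, ← MonoidHom.range_eq_map, Subgroup.range_subtype]
    exact hKt
  have hKodd' : Odd (Nat.card (K.subgroupOf C)) := by
    rw [Cfsg.Agent.Lib.helper3.IndFunTrans.card_subgroupOf_of_le hKC]
    exact hKodd
  obtain ⟨ν, hνt, hν4, hνord⟩ := exists_nu (K.subgroupOf C) hKodd' (⟨t, htC⟩ : C) n
    (by rw [Subgroup.orderOf_mk]; exact hord) hsup
  -- the set `X`
  obtain ⟨X, hXdef⟩ : ∃ X : Set G, X = {x : G | D ≤ Subgroup.zpowers x} := ⟨_, rfl⟩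
  have hX3 : ∀ g : G, ∀ x ∈ X, g * x * g⁻¹ ∈ X → g ∈ N := by
    intro g x hx hgx
    rw [hXdef] at hx hgx
    rw [hNdef]
    exact Cfsg.Agent.H2.QuatSylow.mem_normalizer_of_le_zpowers hx hgx
  have hX2 : ∀ g ∈ N, ∀ x ∈ X, g * x * g⁻¹ ∈ X := by
    intro g hg x hx
    rw [hXdef] at hx ⊢
    intro d hd
    rw [hNdef] at hg
    have hg' : g⁻¹ ∈ Subgroup.normalizer (D : Set G) := inv_mem hg
    have h1 : g⁻¹ * d * g⁻¹⁻¹ ∈ D := (Subgroup.mem_normalizer_iff.1 hg' d).1 hd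
    have h2 := Cfsg.Agent.H2.QuatSylow.conj_mem_zpowers (g := g) (hx h1)
    have e1 : g * (g⁻¹ * d * g⁻¹⁻¹) * g⁻¹ = d := by group
    rwa [e1] at h2
  have hX4 : ∀ x ∈ X, 4 ∣ orderOf x := by
    intro x hx
    rw [hXdef] at hx
    have h1 := Subgroup.card_dvd_of_le hx
    rw [hDcard, Nat.card_zpowers] at h1
    exact (Dvd.intro_left (2 ^ n) (by rw [pow_add]; norm_num)).trans h1
  have hX1 : ∀ c : C, ν c ≠ 1 → (c : G) ∈ X := by
    intro c hc
    rw [hXdef]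
    have h1 := hνord c hc
    rw [← Subgroup.orderOf_coe] at h1
    have hcC : (c : G) ∈ Subgroup.centralizer (D : Set G) := by rw [← hCdef]; exact c.2
    have hcN : (c : G) ∈ Subgroup.normalizer (D : Set G) := by rw [← hNdef]; exact hCN c.2
    rw [hCdef] at hcyc
    exact Cfsg.Agent.H2.QuatSylow.le_zpowers_of_cycP hcyc (by rw [← hCdef]; exact hDC) hD2 hcC hcN
      (by rw [hDcard]; exact h1)
  -- the inverting element
  obtain ⟨b, hbS, hbt⟩ := exists_inverting (S : Subgroup G) (2 ^ (n + 2)) e t htS (by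
    rw [hord]
    intro h
    have : 2 ^ 3 ≤ 2 ^ (n + 3) := Nat.pow_le_pow_right (by norm_num) (by omega)
    omega)
  have hbN : b ∈ N := hnormS hbS
  have hbC : b ∉ C := by
    intro h
    rw [hCdef, Subgroup.mem_centralizer_iff] at h
    have h1 := h (t ^ 2) (by rw [hDdef]; exact Subgroup.mem_zpowers _)
    have h2 : b * t ^ 2 * b⁻¹ = (t ^ 2)⁻¹ := by
      rw [← conj_pow, hbt, inv_pow]
    have h3 : b * t ^ 2 * b⁻¹ = t ^ 2 := by
      rw [← h1]; group
    have h4 : t ^ 4 = 1 := by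
      have : t ^ 2 * t ^ 2 = 1 := by
        nth_rewrite 1 [← h3]
        rw [h2, inv_mul_cancel]
      rw [← this, ← pow_add]
    have h5 := orderOf_dvd_of_pow_eq_one h4
    rw [hord] at h5
    have h6 := Nat.le_of_dvd (by norm_num) h5
    have : 2 ^ 3 ≤ 2 ^ (n + 3) := Nat.pow_le_pow_right (by norm_num) (by omega)
    omega
  haveI : Fintype C := Fintype.ofFinite C
  haveI : Fintype N := Fintype.ofFinite N
  haveI : Fintype (C.subgroupOf N) := Fintype.ofFinite _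
  obtain ⟨χ₁, χ₂, h1, h2, h3, h4, h5, h6, h7⟩ :=
    core C N hCN hidx X hX3 hX2 hX4 ν hX1 b t hbN hbC htC hbt hνt
  refine ⟨t, htS, hord, χ₁, χ₂, h1, h2, h3, h4, h5, h6, h7 ?_ hν4⟩
  rw [hXdef, hDdef]
  exact le_refl (Subgroup.zpowers (t ^ 2))

/-- The existence of the two characters. -/
theorem brauer_suzuki_char {G : Type*} [Group G] [Fintype G] (S : Sylow 2 G) (n : ℕ)
    (e : (S : Subgroup G) ≃* QuaternionGroup (2 ^ (n + 2))) :
    ∃ χ₁ χ₂ : G → ℂ, IsIrrCharacter G χ₁ ∧ IsIrrCharacter G χ₂ ∧ χ₁ ≠ (fun _ => 1) ∧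
      χ₂ ≠ (fun _ => 1) ∧ χ₁ 1 = χ₂ 1 + 1 ∧ ∀ g : G, ¬ 4 ∣ orderOf g → χ₁ g - χ₂ g = 1 := by
  obtain ⟨t, -, -, χ₁, χ₂, h1, h2, h3, h4, h5, h6, -⟩ := brauer_suzuki_char' S n e
  exact ⟨χ₁, χ₂, h1, h2, h3, h4, h5, h6⟩

end Cfsg.Agent.Lib.helper3.BSQ
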