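import Mathlib
import Cfsg.Prelude.Def_Characters
import Cfsg.Agent.Lib.helper3.BSQ3
import Cfsg.Agent.Lib.helper3.CommCount
import Cfsg.Agent.Lib.helper3.PDeg5
import Cfsg.Agent.H2.QuatCentralizer

/-!
# Brauer–Suzuki for quaternion Sylow subgroups: the normal subgroup
-/

set_option autoImplicit false
set_option linter.style.haveILetI false
set_option linter.unusedSectionVars false

namespace Cfsg.Agent.Lib.helper3.BSQ

open Cfsg QuaternionGroup

/-- The unique involution of a generalized quaternion group. -/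
theorem quat_involution {m : ℕ} [NeZero m] (q : QuaternionGroup m) (hq : q * q = 1)
    (hq1 : q ≠ 1) : q = a (m : ZMod (2 * m)) := by
  cases q with
  | a i =>
    rw [a_mul_a, one_def] at hq
    have h := a.inj hq
    rcases Cfsg.Agent.H2.QuatCent.eq_zero_or_eq_n i h with h0 | hn
    · exfalso; apply hq1; rw [h0]; rfl
    · rw [hn]
  | xa i =>
    exfalso
    rw [xa_mul_xa, one_def] at hq
    have h := a.inj hq
    have h0 : (m : ZMod (2 * m)) = 0 := by simpa using h
    rw [ZMod.natCast_eq_zero_iff] at h0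
    have hpos := NeZero.pos m
    have := Nat.le_of_dvd hpos h0
    omega

/-- Two commuting involutions of a group with generalized quaternion Sylow subgroups coincide. -/
theorem eq_of_commute_involutions {G : Type*} [Group G] [Finite G] (S : Sylow 2 G) (m : ℕ)
    [NeZero m] (e : (S : Subgroup G) ≃* QuaternionGroup m) (x w : G) (hx : orderOf x = 2)
    (hw : orderOf w = 2) (hc : x * w = w * x) : x = w := by
  haveI : Fact (Nat.Prime 2) := ⟨Nat.prime_two⟩
  have hPx : IsPGroup 2 (Subgroup.zpowers x) :=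
    IsPGroup.of_card (n := 1) (by rw [Nat.card_zpowers, hx, pow_one])
  have hPw : IsPGroup 2 (Subgroup.zpowers w) :=
    IsPGroup.of_card (n := 1) (by rw [Nat.card_zpowers, hw, pow_one])
  have hnorm : Subgroup.zpowers x ≤ Subgroup.normalizer (Subgroup.zpowers w : Set G) := by
    rw [Subgroup.zpowers_le]
    apply Subgroup.centralizer_le_normalizer
    rw [Subgroup.mem_centralizer_iff]
    intro h hh
    obtain ⟨k, rfl⟩ := Subgroup.mem_zpowers_iff.mp hh
    exact ((show Commute w x from hc.symm).zpow_left k).eq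
  have hP := IsPGroup.to_sup_of_normal_right' hPx hPw hnorm
  obtain ⟨Q, hQ⟩ := hP.exists_le_sylow
  obtain ⟨g, hg⟩ := MulAction.exists_smul_eq G S Q
  obtain ⟨e'⟩ : Nonempty ((Q : Subgroup G) ≃* QuaternionGroup m) := by
    rw [← hg]
    exact ⟨(S.equivSMul g).symm.trans e⟩
  have hxQ : x ∈ (Q : Subgroup G) := hQ (Subgroup.mem_sup_left (Subgroup.mem_zpowers x))
  have hwQ : w ∈ (Q : Subgroup G) := hQ (Subgroup.mem_sup_right (Subgroup.mem_zpowers w))
  have key : ∀ y : (Q : Subgroup G), orderOf (y : G) = 2 → e' y = a (m : ZMod (2 * m)) := by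
    intro y hy
    apply quat_involution
    · rw [← map_mul, ← pow_two]
      have : y ^ 2 = 1 := by
        apply Subtype.ext
        rw [Subgroup.coe_pow]
        have h5 := pow_orderOf_eq_one (y : G)
        rw [hy] at h5
        rw [h5]
        rfl
      rw [this, map_one]
    · intro h
      have h1 : y = 1 := e'.injective (by rw [h, map_one])
      rw [h1] at hy
      simp at hy
  have h1 := (key ⟨x, hxQ⟩ hx).trans (key ⟨w, hwQ⟩ hw).symm
  have h2 := e'.injective h1
  exact congrArg Subtype.val h2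

/-- The product of two involutions has odd order. -/
theorem odd_orderOf_mul {G : Type*} [Group G] [Finite G] (S : Sylow 2 G) (m : ℕ)
    [NeZero m] (e : (S : Subgroup G) ≃* QuaternionGroup m) (x y : G) (hx : orderOf x = 2)
    (hy : orderOf y = 2) : Odd (orderOf (x * y)) := by
  by_contra hodd
  rw [Nat.not_odd_iff_even] at hodd
  obtain ⟨k, hk⟩ := hodd
  have hpos : 0 < orderOf (x * y) := orderOf_pos _
  obtain ⟨w, hwdef⟩ : ∃ w, w = (x * y) ^ k := ⟨_, rfl⟩
  have hw1 : w ≠ 1 := by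
    rw [hwdef]
    exact pow_ne_one_of_lt_orderOf (by omega) (by omega)
  have hw2 : w ^ 2 = 1 := by
    rw [hwdef, ← pow_mul, mul_two, ← hk, pow_orderOf_eq_one]
  have hword : orderOf w = 2 := orderOf_eq_prime hw2 hw1
  have hx2 : x * x = 1 := by rw [← pow_two, ← hx, pow_orderOf_eq_one]
  have hy2 : y * y = 1 := by rw [← pow_two, ← hy, pow_orderOf_eq_one]
  have hxinv : x⁻¹ = x := inv_eq_of_mul_eq_one_left hx2
  have hyinv : y⁻¹ = y := inv_eq_of_mul_eq_one_left hy2
  have hwinv : w⁻¹ = w := inv_eq_of_mul_eq_one_left (by rw [← pow_two]; exact hw2)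
  have hxg : x * (x * y) * x⁻¹ = (x * y)⁻¹ := by
    rw [mul_inv_rev, hxinv, hyinv, ← mul_assoc, hx2, one_mul]
  have hyg : y * (x * y) * y⁻¹ = (x * y)⁻¹ := by
    rw [mul_inv_rev, hxinv, hyinv, mul_assoc, mul_assoc, hy2, mul_one]
  have hxw : x * w = w * x := by
    have h1 : x * w * x⁻¹ = w := by
      rw [hwdef, ← conj_pow, hxg, inv_pow, ← hwdef, hwinv]
    calc x * w = x * w * x⁻¹ * x := by group
      _ = w * x := by rw [h1]
  have hyw : y * w = w * y := by
    have h1 : y * w * y⁻¹ = w := by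
      rw [hwdef, ← conj_pow, hyg, inv_pow, ← hwdef, hwinv]
    calc y * w = y * w * y⁻¹ * y := by group
      _ = w * y := by rw [h1]
  have h1 := eq_of_commute_involutions S m e x w hx hword hxw
  have h2 := eq_of_commute_involutions S m e y w hy hword hyw
  have h3 : x * y = 1 := by rw [h1, h2, ← pow_two, hw2]
  rw [h3, orderOf_one] at hk
  omega

open Cfsg.Agent.Lib.helper3.Irr Cfsg.Agent.Lib.helper3.CharBasic Cfsg.Agent.Lib.helper3.Central
open Cfsg.Agent.Lib.helper3.PDeg

/-- Involutions lie in the kernels of both characters. -/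
theorem involution_mem_ker {G : Type*} [Group G] [Fintype G] (S : Sylow 2 G) (m : ℕ) [NeZero m]
    (e : (S : Subgroup G) ≃* QuaternionGroup m) (χ₁ χ₂ : G → ℂ) (hχ₁ : IsIrrCharacter G χ₁)
    (hχ₂ : IsIrrCharacter G χ₂) (hdeg : χ₁ 1 = χ₂ 1 + 1)
    (hval : ∀ g : G, ¬ 4 ∣ orderOf g → χ₁ g - χ₂ g = 1) (z : G) (hz : orderOf z = 2) :
    χ₁ z = χ₁ 1 ∧ χ₂ z = χ₂ 1 := by
  classical
  have hzval : χ₁ z - χ₂ z = 1 := hval z (by rw [hz]; norm_num)
  have hconj : ∀ x ∈ cls z, orderOf x = 2 := by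
    intro x hx
    rw [mem_cls, isConj_iff] at hx
    obtain ⟨c, hc⟩ := hx
    rw [← hc]
    have := (MulAut.conj c).orderOf_eq z
    rw [MulAut.conj_apply] at this
    rw [this, hz]
  have hprod : ∀ x ∈ cls z, ∀ y ∈ cls z, χ₁ (x * y) - χ₂ (x * y) = 1 := by
    intro x hx y hy
    apply hval
    have hodd := odd_orderOf_mul S m e x y (hconj x hx) (hconj y hy)
    intro h4
    have : Even (orderOf (x * y)) := even_iff_two_dvd.mpr ((by norm_num : 2 ∣ 4).trans h4)
    exact (Nat.not_even_iff_odd.mpr hodd) this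
  have hS1 := sum_irr_mul hχ₁ z z
  have hS2 := sum_irr_mul hχ₂ z z
  have hsum : ∑ x ∈ cls z, ∑ y ∈ cls z, (χ₁ (x * y) - χ₂ (x * y))
      = ((cls z).card : ℂ) * ((cls z).card : ℂ) := by
    rw [Finset.sum_congr rfl (fun x hx => Finset.sum_congr rfl (fun y hy => hprod x hx y hy))]
    simp only [Finset.sum_const, nsmul_eq_mul, mul_one]
  simp only [Finset.sum_sub_distrib] at hsum
  rw [hS1, hS2] at hsum
  have hcls : ((cls z).card : ℂ) ≠ 0 := by
    have : z ∈ cls z := mem_cls.mpr (IsConj.refl z)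
    exact_mod_cast (Finset.card_pos.mpr ⟨z, this⟩).ne'
  obtain ⟨d, hd, hd'⟩ := exists_pos_nat_apply_one hχ₂
  have hd0 : (d : ℂ) ≠ 0 := by exact_mod_cast hd.ne'
  have hd1 : (d : ℂ) + 1 ≠ 0 := by exact_mod_cast (Nat.succ_ne_zero d)
  have hz1 : χ₁ z = χ₂ z + 1 := by linear_combination hzval
  rw [hdeg, hd', hz1] at hsum
  have hkey : ((d : ℂ) - χ₂ z) ^ 2 = 0 := by
    have h3 : (χ₂ z + 1) * (χ₂ z + 1) / ((d : ℂ) + 1) - χ₂ z * χ₂ z / (d : ℂ) = 1 := by
      have h4 : ((cls z).card : ℂ) * ((cls z).card : ℂ) *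
          ((χ₂ z + 1) * (χ₂ z + 1) / ((d : ℂ) + 1) - χ₂ z * χ₂ z / (d : ℂ)) =
          ((cls z).card : ℂ) * ((cls z).card : ℂ) * 1 := by
        linear_combination hsum
      exact mul_left_cancel₀ (mul_ne_zero hcls hcls) h4
    field_simp at h3
    linear_combination -h3
  have hz2 : χ₂ z = d := by
    have := pow_eq_zero_iff (two_ne_zero) |>.mp hkey
    linear_combination -this
  exact ⟨by rw [hz1, hz2, hdeg, hd'], by rw [hz2, hd']⟩

/-- The normal subgroup of even order with non-abelian quotient. -/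
theorem brauer_suzuki_normal {G : Type*} [Group G] [Finite G] (S : Sylow 2 G) (n : ℕ)
    (e : (S : Subgroup G) ≃* QuaternionGroup (2 ^ (n + 2))) :
    ∃ M : Subgroup G, M.Normal ∧ Even (Nat.card M) ∧ ¬ commutator G ≤ M := by
  classical
  haveI : Fintype G := Fintype.ofFinite G
  haveI : NeZero (2 ^ (n + 2)) := ⟨pow_ne_zero _ two_ne_zero⟩
  haveI : Fact (Nat.Prime 2) := ⟨Nat.prime_two⟩
  obtain ⟨χ₁, χ₂, hχ₁, hχ₂, -, -, hdeg, hval⟩ := brauer_suzuki_char S n e
  have h2 : 2 ∣ Nat.card G := by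
    have h1 : Nat.card (S : Subgroup G) ∣ Nat.card G := Subgroup.card_subgroup_dvd_card _
    have h3 : Nat.card (S : Subgroup G) = 4 * 2 ^ (n + 2) := by
      rw [Nat.card_congr e.toEquiv, Nat.card_eq_fintype_card, QuaternionGroup.card]
    rw [h3] at h1
    exact (Dvd.intro (2 * 2 ^ (n + 2)) (by ring)).trans h1
  obtain ⟨z, hz⟩ := exists_prime_orderOf_dvd_card' 2 h2
  have hz3 : χ₁ z = χ₁ 1 :=
    (involution_mem_ker S (2 ^ (n + 2)) e χ₁ χ₂ hχ₁ hχ₂ hdeg hval z hz).1
  obtain ⟨d, hd, hd'⟩ := exists_pos_nat_apply_one hχ₂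
  have hchar := isCharacter_of_isIrrCharacter hχ₁
  refine ⟨kerSub hchar, kerSub_normal hchar, ?_, ?_⟩
  · have hzM : z ∈ kerSub hchar := (mem_kerSub hchar z).mpr hz3
    have := Subgroup.orderOf_dvd_natCard (kerSub hchar) hzM
    rw [hz] at this
    exact even_iff_two_dvd.mpr this
  · intro hle
    have hcomm : ∀ x y : G, χ₁ (x * y * x⁻¹ * y⁻¹) = χ₁ 1 := by
      intro x y
      have h1 : x * y * x⁻¹ * y⁻¹ ∈ commutator G := by
        rw [commutator_def, ← commutatorElement_def]
        exact Subgroup.commutator_mem_commutator (Subgroup.mem_top x) (Subgroup.mem_top y)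
      exact (mem_kerSub hchar _).mp (hle h1)
    have h3 := sum_irr_commutator hχ₁
    simp only [hcomm, Finset.sum_const, Finset.card_univ, nsmul_eq_mul] at h3
    rw [← Nat.card_eq_fintype_card, hdeg, hd'] at h3
    have hG0 : (Nat.card G : ℂ) ≠ 0 := by exact_mod_cast Nat.card_pos.ne'
    field_simp at h3
    have h4 : ((d : ℂ) + 1) ^ 2 = 1 := by linear_combination h3
    have h5 : (d + 1) ^ 2 = 1 := by exact_mod_cast h4
    nlinarith

end Cfsg.Agent.Lib.helper3.BSQ
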