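import Mathlib
import Cfsg.Prelude.Def_Characters
import Cfsg.Agent.Lib.helper3.BSQ4

/-!
# Brauer–Suzuki for quaternion Sylow subgroups: the subgroup generated by the involutions
-/

set_option autoImplicit false
set_option linter.style.haveILetI false
set_option linter.unusedSectionVars false

namespace Cfsg.Agent.Lib.helper3.BSQ

open Cfsg QuaternionGroup

/-- An element of the second kind inverts an element of order different from four. -/
theorem conj_eq_inv_of_xa {G : Type*} [Group G] (S : Subgroup G) (m : ℕ) [NeZero m]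
    (e : S ≃* QuaternionGroup m) (t : G) (htS : t ∈ S) (hord : orderOf t ≠ 4)
    (w : G) (hwS : w ∈ S) (i : ZMod (2 * m)) (hw : e ⟨w, hwS⟩ = xa i) :
    w * t * w⁻¹ = t⁻¹ := by
  have hordS : orderOf (e ⟨t, htS⟩) ≠ 4 := by
    rw [e.orderOf_eq, Subgroup.orderOf_mk]
    exact hord
  obtain ⟨j, hj⟩ : ∃ j, e ⟨t, htS⟩ = a j := by
    cases h : e ⟨t, htS⟩ with
    | a j => exact ⟨j, rfl⟩
    | xa j =>
      exfalso
      apply hordS
      rw [h, orderOf_xa]
  have h1 : e ((⟨w, hwS⟩ : S) * ⟨t, htS⟩ * (⟨w, hwS⟩ : S)⁻¹) = e (⟨t, htS⟩⁻¹) := by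
    rw [map_mul, map_mul, map_inv, map_inv, hw, hj]
    rw [Cfsg.Agent.H2.QuatSylow.inv_xa', xa_mul_a, xa_mul_xa, Cfsg.Agent.H2.QuatSylow.inv_a']
    congr 1
    have := Cfsg.Agent.H2.QuatSylow.two_n' (n := m)
    linear_combination this
  have h2 := e.injective h1
  have := congrArg (fun x : S => (x : G)) h2
  simpa using this

/-- The subgroup generated by the involutions is normal. -/
theorem closure_involutions_normal {G : Type*} [Group G] :
    (Subgroup.closure {g : G | orderOf g = 2}).Normal := by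
  constructor
  intro n hn g
  have h1 : (Subgroup.closure {g : G | orderOf g = 2}) ≤
      (Subgroup.closure {g : G | orderOf g = 2}).comap (MulAut.conj g).toMonoidHom := by
    rw [Subgroup.closure_le]
    intro x hx
    apply Subgroup.subset_closure
    show orderOf (MulAut.conj g x) = 2
    rw [(MulAut.conj g).orderOf_eq]
    exact hx
  have := h1 hn
  rw [Subgroup.mem_comap] at this
  simpa using this

open Cfsg.Agent.Lib.helper3.Irr Cfsg.Agent.Lib.helper3.CharBasic Cfsg.Agent.Lib.helper3.Central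
open Cfsg.Agent.Lib.helper3.PDeg

/-- The Sylow `2`-subgroups of the subgroup generated by the involutions are cyclic. -/
theorem isCyclic_sylow_involutions {G : Type*} [Group G] [Finite G] (S : Sylow 2 G) (n : ℕ)
    (e : (S : Subgroup G) ≃* QuaternionGroup (2 ^ (n + 2)))
    (Q : Sylow 2 ↥(Subgroup.closure {g : G | orderOf g = 2})) : IsCyclic Q := by
  classical
  haveI : Fintype G := Fintype.ofFinite G
  haveI : NeZero (2 ^ (n + 2)) := ⟨pow_ne_zero _ two_ne_zero⟩
  haveI : Fact (Nat.Prime 2) := ⟨Nat.prime_two⟩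
  obtain ⟨t, htS, hord, χ₁, χ₂, hχ₁, hχ₂, -, -, hdeg, hval, ht2⟩ := brauer_suzuki_char' S n e
  obtain ⟨L, hLdef⟩ : ∃ L : Subgroup G, L = Subgroup.closure {g : G | orderOf g = 2} := ⟨_, rfl⟩
  have hLn : L.Normal := by rw [hLdef]; exact closure_involutions_normal
  have hc1 := isCharacter_of_isIrrCharacter hχ₁
  have hc2 := isCharacter_of_isIrrCharacter hχ₂
  have hLker : L ≤ kerSub hc1 ⊓ kerSub hc2 := by
    rw [hLdef, Subgroup.closure_le]
    intro z hz
    have := involution_mem_ker S (2 ^ (n + 2)) e χ₁ χ₂ hχ₁ hχ₂ hdeg hval z hz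
    exact ⟨(mem_kerSub hc1 z).mpr this.1, (mem_kerSub hc2 z).mpr this.2⟩
  have ht2L : t ^ 2 ∉ L := by
    intro h
    have h1 := hLker h
    have h2 := (mem_kerSub hc1 _).mp h1.1
    have h3 := (mem_kerSub hc2 _).mp h1.2
    rw [h2, h3, hdeg] at ht2
    have h4 : (0 : ℂ) = 4 := by linear_combination ht2
    norm_num at h4
  have hord4 : orderOf t ≠ 4 := by
    rw [hord]
    intro h
    have : 2 ^ 3 ≤ 2 ^ (n + 3) := Nat.pow_le_pow_right (by norm_num) (by omega)
    omega
  -- the image of `Q` in `G` lies in a conjugate of `S`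
  obtain ⟨Q', hQ'def⟩ : ∃ Q' : Subgroup G,
      Q' = (Q : Subgroup (Subgroup.closure {g : G | orderOf g = 2})).map
        (Subgroup.closure {g : G | orderOf g = 2}).subtype := ⟨_, rfl⟩
  have hQ'2 : IsPGroup 2 Q' := by
    rw [hQ'def]
    exact Q.isPGroup'.map _
  obtain ⟨P, hP⟩ := hQ'2.exists_le_sylow
  obtain ⟨g, hg⟩ := MulAction.exists_smul_eq G P S
  have hmemS : ∀ q : Q, g * ((q : Subgroup.closure {g : G | orderOf g = 2}) : G) * g⁻¹ ∈
      (S : Subgroup G) := by
    intro q
    have h1 : ((q : Subgroup.closure {g : G | orderOf g = 2}) : G) ∈ (P : Subgroup G) := by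
      apply hP
      rw [hQ'def]
      exact ⟨q, q.2, rfl⟩
    rw [← hg, Sylow.coe_subgroup_smul]
    exact Subgroup.smul_mem_pointwise_smul _ (MulAut.conj g) (P : Subgroup G) h1
  have hmemL : ∀ q : Q, g * ((q : Subgroup.closure {g : G | orderOf g = 2}) : G) * g⁻¹ ∈ L := by
    intro q
    apply hLn.conj_mem
    rw [hLdef]
    exact (q : Subgroup.closure {g : G | orderOf g = 2}).2
  obtain ⟨f₁, hf₁⟩ : ∃ f₁ : Q →* (S : Subgroup G), ∀ q : Q,
      ((f₁ q : (S : Subgroup G)) : G) =
        g * ((q : Subgroup.closure {g : G | orderOf g = 2}) : G) * g⁻¹ := by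
    refine ⟨MonoidHom.codRestrict ((MulAut.conj g).toMonoidHom.comp
      ((Subgroup.closure {g : G | orderOf g = 2}).subtype.comp
        (Q : Subgroup (Subgroup.closure {g : G | orderOf g = 2})).subtype)) (S : Subgroup G) ?_, ?_⟩
    · intro q
      exact hmemS q
    · intro q
      rfl
  have hf₁inj : Function.Injective f₁ := by
    intro q q' h
    have h1 := congrArg (fun x : (S : Subgroup G) => (x : G)) h
    simp only [hf₁] at h1
    have h2 : ((q : Subgroup.closure {g : G | orderOf g = 2}) : G) =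
        ((q' : Subgroup.closure {g : G | orderOf g = 2}) : G) := by
      have := congrArg (fun x => g⁻¹ * x * g) h1
      simpa [mul_assoc] using this
    exact Subtype.ext (Subtype.ext h2)
  have hrange : ∀ q : Q, e (f₁ q) ∈
      Subgroup.zpowers (a 1 : QuaternionGroup (2 ^ (n + 2))) := by
    intro q
    cases h : e (f₁ q) with
    | a j => exact Cfsg.Agent.H2.QuatSylow.a_mem_zpowers j
    | xa i =>
      exfalso
      apply ht2L
      obtain ⟨w, hwdef⟩ : ∃ w : G, w = g * ((q : Subgroup.closure {g : G | orderOf g = 2}) : G) * g⁻¹ :=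
        ⟨_, rfl⟩
      have hwS : w ∈ (S : Subgroup G) := by rw [hwdef]; exact hmemS q
      have hwL : w ∈ L := by rw [hwdef]; exact hmemL q
      have hfw : f₁ q = ⟨w, hwS⟩ := by
        apply Subtype.ext
        show ((f₁ q : (S : Subgroup G)) : G) = w
        rw [hf₁, hwdef]
      rw [hfw] at h
      have h1 := conj_eq_inv_of_xa (S : Subgroup G) (2 ^ (n + 2)) e t htS hord4 w hwS i h
      have h2 : (t ^ 2)⁻¹ = w * (t * w⁻¹ * t⁻¹) := by
        calc (t ^ 2)⁻¹ = t⁻¹ * t⁻¹ := by rw [pow_two, mul_inv_rev]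
          _ = (w * t * w⁻¹) * t⁻¹ := by rw [h1]
          _ = w * (t * w⁻¹ * t⁻¹) := by group
      have h3 : (t ^ 2)⁻¹ ∈ L := by
        rw [h2]
        exact L.mul_mem hwL (hLn.conj_mem _ (L.inv_mem hwL) t)
      simpa using L.inv_mem h3
  obtain ⟨f, hf⟩ : ∃ f : Q →* Subgroup.zpowers (a 1 : QuaternionGroup (2 ^ (n + 2))),
      Function.Injective f := by
    have hrange' : ∀ q : Q, (e.toMonoidHom.comp f₁) q ∈
        Subgroup.zpowers (a 1 : QuaternionGroup (2 ^ (n + 2))) := hrange
    refine ⟨MonoidHom.codRestrict (e.toMonoidHom.comp f₁) _ hrange', ?_⟩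
    rw [MonoidHom.injective_codRestrict]
    exact e.injective.comp hf₁inj
  exact isCyclic_of_injective f hf

end Cfsg.Agent.Lib.helper3.BSQ
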