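import Mathlib
import Cfsg.Prelude.Def_Characters
import Cfsg.Agent.Lib.helper3.BSQ5

/-!
# Brauer–Suzuki for quaternion Sylow subgroups: the centre
-/

set_option autoImplicit false
set_option linter.style.haveILetI false
set_option linter.unusedSectionVars false

namespace Cfsg.Agent.Lib.helper3.BSQ

open Cfsg QuaternionGroup

/-- The centre of a generalized quaternion group of order at least eight. -/
theorem quat_central {m : ℕ} [NeZero m] (hm : 2 ≤ m) (q : QuaternionGroup m)
    (h1 : q * xa 0 = xa 0 * q) (h2 : q * a 1 = a 1 * q) :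
    q = 1 ∨ q = a (m : ZMod (2 * m)) := by
  cases q with
  | a j =>
    rw [a_mul_xa, xa_mul_a] at h1
    have h := xa.inj h1
    have h3 : j + j = 0 := by linear_combination -h
    rcases Cfsg.Agent.H2.QuatCent.eq_zero_or_eq_n j h3 with h0 | hn
    · left; rw [h0]; rfl
    · right; rw [hn]
  | xa j =>
    exfalso
    rw [xa_mul_a, a_mul_xa] at h2
    have h := xa.inj h2
    have h3 : ((2 : ℕ) : ZMod (2 * m)) = 0 := by
      push_cast
      linear_combination h
    rw [ZMod.natCast_eq_zero_iff] at h3
    have := Nat.le_of_dvd (by norm_num) h3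
    omega

/-- Elements of a cyclic group commute. -/
theorem commute_of_isCyclic {Q : Type*} [Group Q] [hQ : IsCyclic Q] (x y : Q) : x * y = y * x := by
  obtain ⟨g, hg⟩ := hQ.exists_generator
  obtain ⟨i, rfl⟩ := Subgroup.mem_zpowers_iff.mp (hg x)
  obtain ⟨j, rfl⟩ := Subgroup.mem_zpowers_iff.mp (hg y)
  exact (Commute.zpow_zpow_self g i j).eq

/-- The centre has order two when there is no nontrivial normal subgroup of odd order. -/
theorem card_center_eq_two {G : Type*} [Group G] [Finite G] (S : Sylow 2 G) (n : ℕ)
    (e : (S : Subgroup G) ≃* QuaternionGroup (2 ^ (n + 2)))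
    (hO : ∀ N : Subgroup G, N.Normal → Odd (Nat.card N) → N = ⊥) :
    Nat.card (Subgroup.center G) = 2 := by
  classical
  haveI : NeZero (2 ^ (n + 2)) := ⟨pow_ne_zero _ two_ne_zero⟩
  haveI : Fact (Nat.Prime 2) := ⟨Nat.prime_two⟩
  have hm2 : 2 ≤ 2 ^ (n + 2) := by
    have : 2 ^ 1 ≤ 2 ^ (n + 2) := Nat.pow_le_pow_right (by norm_num) (by omega)
    omega
  -- an involution
  have h2G : 2 ∣ Nat.card G := by
    have h1 : Nat.card (S : Subgroup G) ∣ Nat.card G := Subgroup.card_subgroup_dvd_card _
    have h3 : Nat.card (S : Subgroup G) = 4 * 2 ^ (n + 2) := by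
      rw [Nat.card_congr e.toEquiv, Nat.card_eq_fintype_card, QuaternionGroup.card]
    rw [h3] at h1
    exact (Dvd.intro (2 * 2 ^ (n + 2)) (by ring)).trans h1
  obtain ⟨z, hz⟩ := exists_prime_orderOf_dvd_card' 2 h2G
  -- the subgroup generated by the involutions
  haveI hLn : (Subgroup.closure {g : G | orderOf g = 2}).Normal := closure_involutions_normal
  have hzL : z ∈ Subgroup.closure {g : G | orderOf g = 2} := Subgroup.subset_closure hz
  have h2L : 2 ∣ Nat.card (Subgroup.closure {g : G | orderOf g = 2}) := by
    have := Subgroup.orderOf_dvd_natCard _ hzL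
    rwa [hz] at this
  have hmin : (Nat.card (Subgroup.closure {g : G | orderOf g = 2})).minFac = 2 :=
    (Nat.minFac_eq_two_iff _).mpr h2L
  obtain ⟨Q⟩ : Nonempty (Sylow 2 ↥(Subgroup.closure {g : G | orderOf g = 2})) := inferInstance
  have hQc : IsCyclic Q := isCyclic_sylow_involutions S n e Q
  have hcompl := IsCyclic.isComplement' hmin hQc
  obtain ⟨K', hK'def⟩ : ∃ K' : Subgroup ↥(Subgroup.closure {g : G | orderOf g = 2}),
      K' = (MonoidHom.transferSylow Q (hQc.normalizer_le_centralizer hmin)).ker := ⟨_, rfl⟩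
  rw [← hK'def] at hcompl
  haveI hK'n : K'.Normal := by rw [hK'def]; infer_instance
  have hK'odd : ¬ 2 ∣ Nat.card K' := by
    rw [hK'def]
    exact MonoidHom.not_dvd_card_ker_transferSylow Q _
  have hidx : K'.index = Nat.card Q := by
    have h1 := hcompl.symm.index_eq_card
    exact h1
  have hcop : (Nat.card K').Coprime K'.index := by
    rw [hidx]
    obtain ⟨k, hk⟩ := Q.isPGroup'.exists_card_eq
    rw [hk]
    apply Nat.Coprime.pow_right
    rw [Nat.coprime_comm, Nat.Prime.coprime_iff_not_dvd Nat.prime_two]
    exact hK'odd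
  have hKn : (K'.map (Subgroup.closure {g : G | orderOf g = 2}).subtype).Normal :=
    Cfsg.Agent.H2.CycSyl.map_subtype_normal_of_coprime _ K' hcop
  have hKbot : K'.map (Subgroup.closure {g : G | orderOf g = 2}).subtype = ⊥ := by
    apply hO _ hKn
    rw [Subgroup.card_map_of_injective (Subgroup.subtype_injective _)]
    exact Nat.not_even_iff_odd.mp (fun h => hK'odd (even_iff_two_dvd.mp h))
  have hK'bot : K' = ⊥ := by
    rw [← Subgroup.map_eq_bot_iff_of_injective K' (Subgroup.subtype_injective _)]
    exact hKbot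
  have hQtop : (Q : Subgroup ↥(Subgroup.closure {g : G | orderOf g = 2})) = ⊤ := by
    have := hcompl.sup_eq_top
    rwa [hK'bot, bot_sup_eq] at this
  -- the involution is central
  have hzc : z ∈ Subgroup.center G := by
    rw [Subgroup.mem_center_iff]
    intro g
    have hz' : orderOf (g * z * g⁻¹) = 2 := by
      have := (MulAut.conj g).orderOf_eq z
      rw [MulAut.conj_apply] at this
      rw [this, hz]
    have hz'L : g * z * g⁻¹ ∈ Subgroup.closure {g : G | orderOf g = 2} :=
      Subgroup.subset_closure hz'
    have hcomm : z * (g * z * g⁻¹) = (g * z * g⁻¹) * z := by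
      have h1 : (⟨z, hzL⟩ : Subgroup.closure {g : G | orderOf g = 2}) ∈
          (Q : Subgroup ↥(Subgroup.closure {g : G | orderOf g = 2})) := by
        rw [hQtop]; exact Subgroup.mem_top _
      have h2 : (⟨g * z * g⁻¹, hz'L⟩ : Subgroup.closure {g : G | orderOf g = 2}) ∈
          (Q : Subgroup ↥(Subgroup.closure {g : G | orderOf g = 2})) := by
        rw [hQtop]; exact Subgroup.mem_top _
      have h3 := commute_of_isCyclic (Q := Q) ⟨_, h1⟩ ⟨_, h2⟩
      have h4 := congrArg (fun x : Q => ((x : Subgroup.closure {g : G | orderOf g = 2}) : G)) h3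
      exact h4
    have heq := eq_of_commute_involutions S (2 ^ (n + 2)) e z (g * z * g⁻¹) hz hz' hcomm
    calc g * z = (g * z * g⁻¹) * g := by group
      _ = z * g := by rw [← heq]
  -- the centre is a `2`-group
  have hprime : ∀ c ∈ Subgroup.center G, ∀ d : ℕ, d.Prime → d ∣ orderOf c → d = 2 := by
    intro c hc d hd hdvd
    by_contra hne
    obtain ⟨c', hc'def⟩ : ∃ c' : G, c' = c ^ (orderOf c / d) := ⟨_, rfl⟩
    have hc'ord : orderOf c' = d := by
      rw [hc'def]
      exact orderOf_pow_orderOf_div (orderOf_pos c).ne' hdvd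
    have hc'c : c' ∈ Subgroup.center G := by
      rw [hc'def]; exact Subgroup.pow_mem _ hc _
    have hN : (Subgroup.zpowers c').Normal := by
      constructor
      intro x hx g
      obtain ⟨k, rfl⟩ := Subgroup.mem_zpowers_iff.mp hx
      have h1 : g * c' ^ k * g⁻¹ = c' ^ k := by
        have h2 := Subgroup.mem_center_iff.mp (Subgroup.zpow_mem _ hc'c k) g
        calc g * c' ^ k * g⁻¹ = c' ^ k * g * g⁻¹ := by rw [h2]
          _ = c' ^ k := by group
      rw [h1]
      exact Subgroup.zpow_mem _ (Subgroup.mem_zpowers c') k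
    have hodd : Odd (Nat.card (Subgroup.zpowers c')) := by
      rw [Nat.card_zpowers, hc'ord]
      exact hd.odd_of_ne_two hne
    have hbot := hO _ hN hodd
    have h1 : c' = 1 := by
      have := Subgroup.mem_zpowers c'
      rw [hbot, Subgroup.mem_bot] at this
      exact this
    rw [h1, orderOf_one] at hc'ord
    exact hd.one_lt.ne hc'ord
  -- every central element lies in `S` and maps to the centre of the quaternion group
  have hmem : ∀ c ∈ Subgroup.center G, c = 1 ∨ c = z := by
    intro c hc
    have hcpow : orderOf c = 2 ^ (orderOf c).primeFactorsList.length :=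
      Nat.eq_prime_pow_of_unique_prime_dvd (orderOf_pos c).ne' (fun {d} hd hdvd => hprime c hc d hd hdvd)
    have hP : IsPGroup 2 (Subgroup.zpowers c) :=
      IsPGroup.of_card (n := (orderOf c).primeFactorsList.length) (by rw [Nat.card_zpowers]; exact hcpow)
    obtain ⟨P, hPle⟩ := hP.exists_le_sylow
    obtain ⟨g, hg⟩ := MulAction.exists_smul_eq G P S
    have hcP : c ∈ (P : Subgroup G) := hPle (Subgroup.mem_zpowers c)
    have hcS : c ∈ (S : Subgroup G) := by
      have h1 : g * c * g⁻¹ ∈ (S : Subgroup G) := by
        rw [← hg, Sylow.coe_subgroup_smul]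
        exact Subgroup.smul_mem_pointwise_smul _ (MulAut.conj g) (P : Subgroup G) hcP
      have h2 : g * c * g⁻¹ = c := by
        have h3 := Subgroup.mem_center_iff.mp hc g
        calc g * c * g⁻¹ = c * g * g⁻¹ := by rw [h3]
          _ = c := by group
      rwa [h2] at h1
    have hcomm : ∀ s : (S : Subgroup G), (⟨c, hcS⟩ : (S : Subgroup G)) * s = s * ⟨c, hcS⟩ := by
      intro s
      apply Subtype.ext
      exact (Subgroup.mem_center_iff.mp hc (s : G)).symm
    have hq := quat_central hm2 (e ⟨c, hcS⟩)
      (by
        have := congrArg e (hcomm (e.symm (xa 0)))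
        rwa [map_mul, map_mul, e.apply_symm_apply] at this)
      (by
        have := congrArg e (hcomm (e.symm (a 1)))
        rwa [map_mul, map_mul, e.apply_symm_apply] at this)
    rcases hq with hq | hq
    · left
      have : (⟨c, hcS⟩ : (S : Subgroup G)) = 1 := e.injective (by rw [hq, map_one])
      exact congrArg Subtype.val this
    · right
      -- `z` also lies in `S` and maps to the same element
      by_contra hne
      have hc1 : c ≠ 1 := by
        intro h
        subst h
        have h5 : (⟨1, hcS⟩ : (S : Subgroup G)) = 1 := rfl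
        rw [h5, map_one, one_def] at hq
        have h6 := a.inj hq
        have h7 : ((2 ^ (n + 2) : ℕ) : ZMod (2 * 2 ^ (n + 2))) = 0 := by
          rw [← h6]
        rw [ZMod.natCast_eq_zero_iff] at h7
        have := Nat.le_of_dvd (by positivity) h7
        omega
      have hc2 : c ^ 2 = 1 := by
        have h5 : e (⟨c, hcS⟩ ^ 2) = 1 := by
          rw [map_pow, hq, pow_two, a_mul_a, Cfsg.Agent.H2.QuatSylow.two_n']
          rfl
        have h6 : (⟨c, hcS⟩ : (S : Subgroup G)) ^ 2 = 1 := e.injective (by rw [h5, map_one])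
        exact congrArg Subtype.val h6
      have hcord : orderOf c = 2 := orderOf_eq_prime hc2 hc1
      have hcz : c * z = z * c := (Subgroup.mem_center_iff.mp hc z).symm
      exact hne (eq_of_commute_involutions S (2 ^ (n + 2)) e c z hcord hz hcz)
  -- count
  have hcard : Nat.card (Subgroup.center G) ≤ 2 := by
    have hsub : ((Subgroup.center G : Subgroup G) : Set G) ⊆ ({1, z} : Set G) := by
      intro c hc
      rcases hmem c hc with h | h
      · left; exact h
      · right; exact h
    have h1 : Nat.card (Subgroup.center G) = ((Subgroup.center G : Subgroup G) : Set G).ncard :=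
      (_root_.Nat.card_coe_set_eq _)
    rw [h1]
    calc ((Subgroup.center G : Subgroup G) : Set G).ncard ≤ ({1, z} : Set G).ncard :=
          Set.ncard_le_ncard hsub (Set.toFinite _)
      _ ≤ 2 := Set.ncard_insert_le _ _ |>.trans (by simp)
  have h2dvd : 2 ∣ Nat.card (Subgroup.center G) := by
    have := Subgroup.orderOf_dvd_natCard _ hzc
    rwa [hz] at this
  have := Nat.le_of_dvd Nat.card_pos h2dvd
  omega

end Cfsg.Agent.Lib.helper3.BSQ
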