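import Mathlib

/-!
# Group-theoretic tools for the "normal abelian Sylow subgroup iff `p'`-degrees" theorem

* `eq_top_of_forall_conj_mem` : a finite group is not the union of the conjugates of a proper
  subgroup;
* `commute_of_class_fixed` : a `p`-subgroup fixing every conjugacy class of a normal `p'`-subgroup
  centralizes it;
* `sylow_eq_of_normal_pgroup`, `normal_of_normal_in_normal`, `exists_normal_comap_sylow`.
-/

set_option autoImplicit false
set_option linter.style.haveILetI false

namespace Cfsg.Agent.Lib.helper3.NormalSylow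

variable {G : Type*} [Group G]

/-- A finite group is not the union of the conjugates of a proper subgroup. -/
theorem eq_top_of_forall_conj_mem [Finite G] (H : Subgroup G)
    (h : ∀ g : G, ∃ x : G, x⁻¹ * g * x ∈ H) : H = ⊤ := by
  classical
  let f : (G ⧸ H) × H → G := fun qh => qh.1.out * (qh.2 : G) * (qh.1.out)⁻¹
  have hsurj : Function.Surjective f := by
    intro g
    obtain ⟨x, hx⟩ := h g
    obtain ⟨q, hq⟩ : ∃ q : G ⧸ H, q = (x : G ⧸ H) := ⟨_, rfl⟩
    have hmem : (q.out)⁻¹ * x ∈ H := by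
      rw [← QuotientGroup.eq, ← hq]
      exact Quotient.out_eq' q
    refine ⟨(q, ⟨((q.out)⁻¹ * x) * (x⁻¹ * g * x) * ((q.out)⁻¹ * x)⁻¹,
      H.mul_mem (H.mul_mem hmem hx) (H.inv_mem hmem)⟩), ?_⟩
    show q.out * (((q.out)⁻¹ * x) * (x⁻¹ * g * x) * ((q.out)⁻¹ * x)⁻¹) * (q.out)⁻¹ = g
    group
  have hcard : Nat.card ((G ⧸ H) × H) = Nat.card G := by
    rw [Nat.card_prod]
    exact Subgroup.index_mul_card H
  have hinj : Function.Injective f :=
    ((Nat.bijective_iff_surjective_and_card f).2 ⟨hsurj, hcard⟩).1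
  have hall : ∀ q : G ⧸ H, q = ((1 : G) : G ⧸ H) := by
    intro q
    have h1 : f (q, 1) = f ((((1 : G) : G ⧸ H)), 1) := by
      simp [f]
    exact congrArg Prod.fst (hinj h1)
  rw [eq_top_iff]
  intro g _
  have h2 := hall (g : G ⧸ H)
  have h3 := QuotientGroup.eq.1 h2
  rw [mul_one] at h3
  exact (H.inv_mem_iff).1 h3

/-- The size of a conjugacy class (as an orbit) divides the group order. -/
theorem card_orbit_conjAct_dvd [Finite G] (m : G) :
    Nat.card (MulAction.orbit (ConjAct G) m) ∣ Nat.card G := by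
  have h1 : (MulAction.stabilizer (ConjAct G) m).index ∣ Nat.card (ConjAct G) :=
    Subgroup.index_dvd_card _
  rw [MulAction.index_stabilizer] at h1
  rw [Nat.card_coe_set_eq]
  have h2 : Nat.card (ConjAct G) = Nat.card G := Nat.card_congr ConjAct.ofConjAct.toEquiv
  rw [← h2]
  exact h1

/-- A `p`-subgroup `P` which maps every element of the normal `p'`-subgroup `M` to a conjugate
(in `M`) centralizes `M`. -/
theorem commute_of_class_fixed [Finite G] (p : ℕ) [hp : Fact p.Prime] (M : Subgroup G)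
    [hM : M.Normal] (hcop : (Nat.card M).Coprime p) (P : Subgroup G) (hP : IsPGroup p P)
    (hcl : ∀ x ∈ P, ∀ m : M, IsConj (MulAut.conjNormal x m) m) :
    ∀ x ∈ P, ∀ m ∈ M, x * m = m * x := by
  classical
  -- the centralizer of `P` in `M`
  let CM : Subgroup M :=
    { carrier := {m | ∀ x ∈ P, x * (m : G) = (m : G) * x}
      mul_mem' := by
        intro a b ha hb x hx
        show x * ((a : G) * (b : G)) = (a : G) * (b : G) * x
        rw [← mul_assoc, ha x hx, mul_assoc, hb x hx, mul_assoc]
      one_mem' := by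
        intro x _
        show x * ((1 : M) : G) = ((1 : M) : G) * x
        simp
      inv_mem' := by
        intro a ha x hx
        show x * ((a⁻¹ : M) : G) = ((a⁻¹ : M) : G) * x
        have := ha x hx
        rw [Subgroup.coe_inv]
        calc x * (a : G)⁻¹ = (a : G)⁻¹ * ((a : G) * x) * (a : G)⁻¹ := by group
          _ = (a : G)⁻¹ * (x * (a : G)) * (a : G)⁻¹ := by rw [this]
          _ = (a : G)⁻¹ * x := by group }
  have htop : CM = ⊤ := by
    apply eq_top_of_forall_conj_mem
    intro m
    letI : MulAction P M := MulAction.compHom M ((MulAut.conjNormal (H := M)).comp P.subtype)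
    have hsmul : ∀ (x : P) (n : M), x • n = MulAut.conjNormal (x : G) n := fun _ _ => rfl
    let S : SubMulAction P M :=
      { carrier := MulAction.orbit (ConjAct M) m
        smul_mem' := by
          intro x n hn
          rw [ConjAct.mem_orbit_conjAct] at hn ⊢
          rw [hsmul]
          exact (hcl x x.2 n).trans hn }
    have hcardS : ¬ p ∣ Nat.card S := by
      intro hdvd
      have h1 : Nat.card S ∣ Nat.card M := card_orbit_conjAct_dvd m
      have h2 : p ∣ Nat.card M := dvd_trans hdvd h1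
      have h3 : p ∣ Nat.gcd (Nat.card M) p := Nat.dvd_gcd h2 dvd_rfl
      rw [hcop] at h3
      exact hp.out.one_lt.ne' (Nat.dvd_one.1 h3)
    obtain ⟨s, hs⟩ := hP.nonempty_fixed_point_of_prime_not_dvd_card S hcardS
    have hsm : IsConj (s : M) m := ConjAct.mem_orbit_conjAct.1 s.2
    obtain ⟨c, hc⟩ := isConj_iff.1 hsm
    -- c * s * c⁻¹ = m
    refine ⟨c, ?_⟩
    have hsc : c⁻¹ * m * c = (s : M) := by
      rw [← hc]; group
    rw [hsc]
    intro x hx
    have h1 := hs ⟨x, hx⟩
    have h2 : (((⟨x, hx⟩ : P) • s : S) : M) = (s : M) := congrArg Subtype.val h1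
    rw [SubMulAction.val_smul, hsmul] at h2
    have h3 : ((MulAut.conjNormal (x : G) (s : M) : M) : G) = ((s : M) : G) := congrArg Subtype.val h2
    rw [MulAut.conjNormal_apply] at h3
    calc x * ((s : M) : G) = x * ((s : M) : G) * x⁻¹ * x := by group
      _ = ((s : M) : G) * x := by rw [h3]
  intro x hx m hm
  have : (⟨m, hm⟩ : M) ∈ CM := by rw [htop]; trivial
  exact this x hx

/-- A normal `p`-subgroup of `p'`-index is the unique Sylow `p`-subgroup. -/
theorem sylow_eq_of_normal_pgroup [Finite G] (p : ℕ) [Fact p.Prime] (N : Subgroup G) [N.Normal]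
    (hN : IsPGroup p N) (hidx : ¬ p ∣ N.index) (P : Sylow p G) : (P : Subgroup G) = N := by
  have h1 : N ≤ P := hN.le_sylow_of_normal P
  have h2 := (hN.toSylow hidx).is_maximal' P.isPGroup' (by rw [IsPGroup.toSylow_coe]; exact h1)
  rw [h2, IsPGroup.toSylow_coe]

/-- If a Sylow `p`-subgroup is normal, every `p`-subgroup lies in it. -/
theorem le_of_normal_sylow [Finite G] (p : ℕ) [Fact p.Prime] (P : Sylow p G)
    [hn : (P : Subgroup G).Normal] (K : Subgroup G) (hK : IsPGroup p K) : K ≤ P := by
  obtain ⟨Q, hQ⟩ := hK.exists_le_sylow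
  obtain ⟨g, hg⟩ := MulAction.exists_smul_eq G P Q
  rw [Sylow.smul_eq_of_normal] at hg
  rw [hg]
  exact hQ

/-- A Sylow `p`-subgroup of `G` which is normal in a normal subgroup `L` containing it is normal
in `G`. -/
theorem normal_of_normal_in_normal [Finite G] (p : ℕ) [Fact p.Prime] (P : Sylow p G)
    (L : Subgroup G) [hL : L.Normal] (hPL : (P : Subgroup G) ≤ L)
    (hn : ((P : Subgroup G).subgroupOf L).Normal) : (P : Subgroup G).Normal := by
  constructor
  intro x hx g
  let K : Subgroup G := (P : Subgroup G).map (MulAut.conj g).toMonoidHom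
  have hKp : IsPGroup p K := P.isPGroup'.map _
  have hKL : K ≤ L := by
    rintro _ ⟨y, hy, rfl⟩
    show g * y * g⁻¹ ∈ L
    exact hL.conj_mem y (hPL hy) g
  have hKLp : IsPGroup p (K.subgroupOf L) := hKp.comap_subtype
  haveI : ((P.subtype hPL : Sylow p L) : Subgroup L).Normal := by
    rw [Sylow.coe_subtype]; exact hn
  have hle := le_of_normal_sylow p (P.subtype hPL) (K.subgroupOf L) hKLp
  have hmemK : g * x * g⁻¹ ∈ K := ⟨x, hx, rfl⟩
  have h1 : (⟨g * x * g⁻¹, hKL hmemK⟩ : L) ∈ K.subgroupOf L := hmemK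
  have h2 := hle h1
  rw [Sylow.coe_subtype] at h2
  exact h2

/-- If the Sylow `p`-subgroups of `G ⧸ M` are normal, the preimage `L` of one of them is a normal
subgroup containing `M` and every `p`-subgroup, of `p'`-index, with `L / M` a `p`-group. -/
theorem exists_normal_comap_sylow [Finite G] (p : ℕ) [Fact p.Prime] (M : Subgroup G) [M.Normal]
    (hq : ∀ Q : Sylow p (G ⧸ M), (Q : Subgroup (G ⧸ M)).Normal) :
    ∃ L : Subgroup G, L.Normal ∧ M ≤ L ∧ (∀ K : Subgroup G, IsPGroup p K → K ≤ L) ∧
      ¬ p ∣ L.index ∧ (IsPGroup p M → IsPGroup p L) ∧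
      (L = ⊤ → ∃ a : ℕ, M.index = p ^ a) := by
  obtain ⟨Q⟩ : Nonempty (Sylow p (G ⧸ M)) := inferInstance
  haveI := hq Q
  refine ⟨(Q : Subgroup (G ⧸ M)).comap (QuotientGroup.mk' M), inferInstance, ?_, ?_, ?_, ?_, ?_⟩
  · intro m hm
    rw [Subgroup.mem_comap]
    have : (QuotientGroup.mk' M) m = 1 := (QuotientGroup.eq_one_iff m).2 hm
    rw [this]
    exact Subgroup.one_mem _
  · intro K hK x hx
    rw [Subgroup.mem_comap]
    have h1 : IsPGroup p (K.map (QuotientGroup.mk' M)) := hK.map _
    exact le_of_normal_sylow p Q _ h1 ⟨x, hx, rfl⟩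
  · rw [Subgroup.index_comap_of_surjective _ (QuotientGroup.mk'_surjective M)]
    exact Q.not_dvd_index
  · intro hM
    apply Q.isPGroup'.comap_of_ker_isPGroup
    rw [QuotientGroup.ker_mk']
    exact hM
  · intro htop
    have h1 : (Q : Subgroup (G ⧸ M)) = ⊤ := by
      rw [eq_top_iff]
      intro y _
      obtain ⟨x, rfl⟩ := QuotientGroup.mk'_surjective M y
      have : x ∈ (Q : Subgroup (G ⧸ M)).comap (QuotientGroup.mk' M) := by rw [htop]; trivial
      exact this
    obtain ⟨a, ha⟩ := (IsPGroup.iff_card.1 Q.isPGroup')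
    refine ⟨a, ?_⟩
    rw [Subgroup.index_eq_card, ← ha, h1]
    exact (Subgroup.card_top).symm

end Cfsg.Agent.Lib.helper3.NormalSylow
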