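import Mathlib
import Cfsg.Prelude.Def_Characters
import Cfsg.Agent.Lib.helper3.NormalSylow1
import Cfsg.Agent.Lib.helper3.Clifford2
import Cfsg.Agent.Lib.helper3.PRes2
import Cfsg.Agent.Lib.helper3.GalPow2
import Cfsg.Agent.Lib.helper3.Brauer
import Cfsg.Agent.Lib.helper3.Inflate
import Cfsg.Agent.Lib.helper3.Irr7
import Cfsg.Agent.Lib.helper3.Degrees
import Cfsg.Agent.Lib.helper3.ClassBound
import Cfsg.Agent.Lib.helper3.Ito

/-!
# Normal abelian Sylow `p`-subgroups and `p'`-degrees

`normal_sylow_aux` : in a class of finite groups closed under quotients and subgroups in which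
every nontrivial member has a nontrivial normal `p`-subgroup or `p'`-subgroup (for instance the
`p`-solvable groups, or the solvable groups), a group all of whose irreducible characters have
degree prime to `p` has a normal Sylow `p`-subgroup.
-/

set_option autoImplicit false
set_option linter.style.haveILetI false
set_option linter.unusedSectionVars false

namespace Cfsg.Agent.Lib.helper3.NormalSylow

open Cfsg Module Cfsg.Agent.Lib.helper3.Irr Cfsg.Agent.Lib.helper3.CharBasic
open Cfsg.Agent.Lib.helper3.IndFun Cfsg.Agent.Lib.helper3.PRes Cfsg.Agent.Lib.helper3.GalPow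
open scoped commutatorElement

universe u

variable {G : Type u} [Group G]

/-- All irreducible characters have degree prime to `p`. -/
def PDeg (p : ℕ) (G : Type u) [Group G] : Prop :=
  ∀ χ : IrrCharacter G, ∀ d : ℕ, (χ : G → ℂ) 1 = d → ¬ p ∣ d

theorem pdeg_quotient [Finite G] {p : ℕ} (h : PDeg p G) (N : Subgroup G) [N.Normal] :
    PDeg p (G ⧸ N) := by
  intro ψ d hd
  refine h ⟨inflate N (ψ : G ⧸ N → ℂ), isIrrCharacter_inflate N ψ.2⟩ d ?_
  show inflate N (ψ : G ⧸ N → ℂ) 1 = d
  rw [inflate_apply]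
  exact hd

theorem pdeg_normal [Finite G] {p : ℕ} (h : PDeg p G) (L : Subgroup G) [L.Normal] :
    PDeg p L := by
  classical
  letI : Fintype G := Fintype.ofFinite G
  letI : Fintype L := Fintype.ofFinite L
  intro θ d hd hpd
  obtain ⟨χ, hχ⟩ := exists_irr_over L (θ : L → ℂ) θ.2
  obtain ⟨n, hn, -, -⟩ := Cfsg.Agent.Lib.helper3.Central.irr_degree_dvd_card χ.2
  have h1 := constituent_degree_dvd L (χ : G → ℂ) χ.2 (θ : L → ℂ) θ.2 hχ n d hn hd
  exact h χ n hn (dvd_trans hpd h1)

/-- If all degrees are prime to `p` and `M` is normal of `p`-power index, every irreducible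
character of `M` is invariant in `G`. -/
theorem all_invariant [Finite G] {p : ℕ} [hp : Fact p.Prime] (h : PDeg p G) (M : Subgroup G)
    [hM : M.Normal] (a : ℕ) (hidx : M.index = p ^ a) (θ : IrrCharacter M) (g : G) (m : M) :
    (θ : M → ℂ) ⟨g * m * g⁻¹, hM.conj_mem (m : G) m.2 g⟩ = (θ : M → ℂ) m := by
  classical
  letI : Fintype G := Fintype.ofFinite G
  letI : Fintype M := Fintype.ofFinite M
  obtain ⟨χ, hχ⟩ := exists_irr_over M (θ : M → ℂ) θ.2
  obtain ⟨n, hn, -, -⟩ := Cfsg.Agent.Lib.helper3.Central.irr_degree_dvd_card χ.2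
  obtain ⟨ψ, hψ, hinv, -⟩ := exists_invariant_constituent M p a hp.out hidx (χ : G → ℂ)
    (isCharacter_of_isIrrCharacter χ.2) n hn (h χ n hn)
  obtain ⟨g₀, hg₀⟩ := exists_conj_of_constituents M (χ : G → ℂ) χ.2 ψ θ hψ hχ
  have hθψ : (θ : M → ℂ) = (ψ : M → ℂ) := by
    rw [hg₀]
    funext n
    exact hinv g₀ n
  rw [hθψ]
  exact hinv g m

/-- An element fixing all irreducible characters of a normal subgroup fixes all its classes. -/
theorem isConj_conjNormal_of_invariant [Finite G] (M : Subgroup G) [hM : M.Normal] (x : G)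
    (hinv : ∀ (θ : IrrCharacter M) (m : M),
      (θ : M → ℂ) (MulAut.conjNormal x m) = (θ : M → ℂ) m) (m : M) :
    IsConj (MulAut.conjNormal x m) m := by
  classical
  have hb := brauer_permutation_aut (G := M) (MulAut.conjNormal x)
  have h1 : Nat.card {χ : IrrCharacter M // (χ : M → ℂ) ∘ (MulAut.conjNormal x : M ≃* M) = (χ : M → ℂ)}
      = Nat.card (IrrCharacter M) := by
    apply Nat.card_congr
    apply Equiv.subtypeUnivEquiv
    intro χ
    funext m
    exact hinv χ m
  rw [h1, card_irr_eq_card_conjClasses] at hb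
  have hinj : Function.Injective (Subtype.val :
      {C : ConjClasses M // ConjClasses.map (MulAut.conjNormal x : M ≃* M).toMonoidHom C = C} →
        ConjClasses M) := Subtype.val_injective
  have hbij := (Nat.bijective_iff_injective_and_card _).2 ⟨hinj, hb⟩
  obtain ⟨⟨C, hC⟩, hCm⟩ := hbij.2 (ConjClasses.mk m)
  simp only at hCm
  rw [hCm] at hC
  exact ConjClasses.mk_eq_mk_iff_isConj.1 hC

/-- The main induction. -/
theorem normal_sylow_aux (p : ℕ) [hp : Fact p.Prime] (Q : ∀ (G : Type u) [Group G], Prop)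
    (hquot : ∀ (G : Type u) [Group G] (N : Subgroup G) [N.Normal], Q G → Q (G ⧸ N))
    (hsub : ∀ (G : Type u) [Group G] (H : Subgroup G), Q G → Q H)
    (hex : ∀ (G : Type u) [Group G] [Finite G] [Nontrivial G], Q G →
      ∃ M : Subgroup G, M.Normal ∧ M ≠ ⊥ ∧ (IsPGroup p M ∨ (Nat.card M).Coprime p)) :
    ∀ n : ℕ, ∀ (G : Type u) [Group G] [Finite G], Nat.card G = n → Q G → PDeg p G →
      ∀ P : Sylow p G, (P : Subgroup G).Normal := by
  intro n
  induction n using Nat.strong_induction_on with
  | _ n ih =>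
    intro G _ _ hn hQ hdeg P
    rcases subsingleton_or_nontrivial G with hsub1 | hnt
    · have : (P : Subgroup G) = ⊤ := Subsingleton.elim _ _
      rw [this]
      infer_instance
    obtain ⟨M, hMn, hMne, hM⟩ := hex G hQ
    haveI := hMn
    -- the quotient is smaller
    have hcardlt : Nat.card (G ⧸ M) < n := by
      rw [← hn, ← Subgroup.index_eq_card, ← Subgroup.index_mul_card M]
      have h1 : 1 < Nat.card M := by
        rw [Subgroup.one_lt_card_iff_ne_bot]
        exact hMne
      have h2 : 0 < M.index := Nat.pos_of_ne_zero Subgroup.index_ne_zero_of_finite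
      nlinarith
    have hquotS : ∀ Qs : Sylow p (G ⧸ M), (Qs : Subgroup (G ⧸ M)).Normal :=
      ih _ hcardlt (G ⧸ M) rfl (hquot G M hQ) (pdeg_quotient hdeg M)
    obtain ⟨L, hLn, hML, hLall, hLidx, hLp, hLtop⟩ := exists_normal_comap_sylow p M hquotS
    haveI := hLn
    have hPL : (P : Subgroup G) ≤ L := hLall _ P.isPGroup'
    rcases hM with hMp | hMcop
    · -- `M` is a `p`-group: `L` is a normal Sylow subgroup
      have := sylow_eq_of_normal_pgroup p L (hLp hMp) hLidx P
      rw [this]
      exact hLn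
    · by_cases hLT : L = ⊤
      · -- `G = M P`
        obtain ⟨a, ha⟩ := hLtop hLT
        have hinv := all_invariant hdeg M a ha
        have hcl : ∀ x ∈ (P : Subgroup G), ∀ m : M, IsConj (MulAut.conjNormal x m) m := by
          intro x _ m
          apply isConj_conjNormal_of_invariant M x
          intro θ m'
          exact hinv θ x m'
        have hcomm := commute_of_class_fixed p M hMcop (P : Subgroup G) P.isPGroup' hcl
        have hMle : M ≤ Subgroup.normalizer ((P : Subgroup G) : Set G) := by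
          rw [Subgroup.le_normalizer_iff]
          intro m hm x hx
          have := hcomm x hx m hm
          have e : m * x * m⁻¹ = x := by rw [← this]; group
          rw [e]; exact hx
        have hPle : (P : Subgroup G) ≤ Subgroup.normalizer ((P : Subgroup G) : Set G) := Subgroup.le_normalizer
        have hd1 : (Subgroup.normalizer ((P : Subgroup G) : Set G)).index ∣ p ^ a := by
          rw [← ha]; exact Subgroup.index_dvd_of_le hMle
        have hd2 : (Subgroup.normalizer ((P : Subgroup G) : Set G)).index ∣ (P : Subgroup G).index :=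
          Subgroup.index_dvd_of_le hPle
        obtain ⟨j, -, hj⟩ := (Nat.dvd_prime_pow hp.out).1 hd1
        have hj0 : j = 0 := by
          by_contra hj0
          have : p ∣ (P : Subgroup G).index := by
            refine dvd_trans ?_ hd2
            rw [hj]
            exact dvd_pow_self p hj0
          exact P.not_dvd_index this
        rw [hj0, pow_zero, Subgroup.index_eq_one] at hj
        exact Subgroup.normalizer_eq_top_iff.1 hj
      · -- `L` is a proper normal subgroup
        have hcardL : Nat.card L < n := by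
          rw [← hn]
          exact lt_of_le_of_ne (Subgroup.card_le_card_group L)
            (fun h => hLT (Subgroup.eq_top_of_card_eq L h))
        have hLS := ih _ hcardL L rfl (hsub G L hQ) (pdeg_normal hdeg L) (P.subtype hPL)
        rw [Sylow.coe_subtype] at hLS
        exact normal_of_normal_in_normal p P L hPL hLS

/-- Under `PDeg`, a normal Sylow `p`-subgroup is abelian. -/
theorem comm_of_pdeg [Finite G] (p : ℕ) [hp : Fact p.Prime] (hdeg : PDeg p G) (P : Sylow p G)
    [hn : (P : Subgroup G).Normal] (a b : (P : Subgroup G)) : a * b = b * a := by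
  classical
  letI : Fintype (P : Subgroup G) := Fintype.ofFinite _
  have hP := pdeg_normal hdeg (P : Subgroup G)
  apply comm_of_all_linear
  intro ψ
  obtain ⟨d, hd, hdvd, hpos⟩ := Cfsg.Agent.Lib.helper3.Central.irr_degree_dvd_card ψ.2
  obtain ⟨k, hk⟩ := (IsPGroup.iff_card.1 P.isPGroup')
  rw [hk] at hdvd
  obtain ⟨j, -, hj⟩ := (Nat.dvd_prime_pow hp.out).1 hdvd
  have hj0 : j = 0 := by
    by_contra hj0
    exact hP ψ d hd (by rw [hj]; exact dvd_pow_self p hj0)
  rw [hd, hj, hj0, pow_zero, Nat.cast_one]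

/-- Itô: with a normal abelian subgroup `P` of `p'`-index all degrees are prime to `p`. -/
theorem pdeg_of_normal_abelian [Finite G] (p : ℕ) (P : Subgroup G) [hn : P.Normal]
    (hc : ∀ a ∈ P, ∀ b ∈ P, a * b = b * a) (hidx : ¬ p ∣ P.index) : PDeg p G := by
  classical
  letI : Fintype G := Fintype.ofFinite G
  intro χ d hd hpd
  obtain ⟨n, ρ, hirr, hχ⟩ := χ.2
  haveI := hirr
  have h1 := ito ρ P hc
  have h2 : (χ : G → ℂ) 1 = (finrank ℂ (Fin n → ℂ) : ℕ) := by
    rw [← hχ]
    exact Representation.char_one ρ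
  rw [hd] at h2
  have h3 : d = finrank ℂ (Fin n → ℂ) := by exact_mod_cast h2
  rw [← h3] at h1
  exact hidx (dvd_trans hpd h1)

/-- A nontrivial finite solvable group has a nontrivial normal `p`-subgroup or `p'`-subgroup. -/
theorem exists_normal_of_solvable [Finite G] [Nontrivial G] (p : ℕ) [hp : Fact p.Prime]
    (hs : Group.IsSolvable G) :
    ∃ M : Subgroup G, M.Normal ∧ M ≠ ⊥ ∧ (IsPGroup p M ∨ (Nat.card M).Coprime p) := by
  classical
  have hex : ∃ n, derivedSeries G n = ⊥ := hs.solvable
  have hk := Nat.find_spec hex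
  have hmin := fun m => Nat.find_min hex (m := m)
  obtain ⟨k, hkdef⟩ : ∃ k, k = Nat.find hex := ⟨_, rfl⟩
  rw [← hkdef] at hk hmin
  have hk0 : k ≠ 0 := by
    intro h0
    rw [h0, derivedSeries_zero] at hk
    exact top_ne_bot hk
  obtain ⟨j, rfl⟩ := Nat.exists_eq_succ_of_ne_zero hk0
  obtain ⟨A, hA⟩ : ∃ A, A = derivedSeries G j := ⟨_, rfl⟩
  have hAne : A ≠ ⊥ := by rw [hA]; exact hmin j (Nat.lt_succ_self j)
  haveI hAn : A.Normal := by rw [hA]; exact derivedSeries_normal G j
  have hAc : ∀ a ∈ A, ∀ b ∈ A, a * b = b * a := by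
    intro a ha b hb
    have h1 : ⁅a, b⁆ ∈ ⁅A, A⁆ := Subgroup.commutator_mem_commutator ha hb
    have h2 : ⁅A, A⁆ = ⊥ := by
      rw [hA, ← derivedSeries_succ]; exact hk
    rw [h2, Subgroup.mem_bot, commutatorElement_def] at h1
    calc a * b = a * b * a⁻¹ * b⁻¹ * (b * a) := by group
      _ = b * a := by rw [h1, one_mul]
  let Ap : Subgroup G :=
    { carrier := {a | a ∈ A ∧ ∃ k : ℕ, a ^ p ^ k = 1}
      mul_mem' := by
        rintro a b ⟨ha, k, hk⟩ ⟨hb, l, hl⟩
        refine ⟨A.mul_mem ha hb, k + l, ?_⟩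
        have hcab : Commute a b := hAc a ha b hb
        rw [hcab.mul_pow, pow_add, pow_mul, hk, one_pow, one_mul, mul_comm (p ^ k) (p ^ l), pow_mul,
          hl, one_pow]
      one_mem' := ⟨A.one_mem, 0, one_pow _⟩
      inv_mem' := by
        rintro a ⟨ha, k, hk⟩
        exact ⟨A.inv_mem ha, k, by rw [inv_pow, hk, inv_one]⟩ }
  have hApn : Ap.Normal := by
    constructor
    rintro a ⟨ha, k, hk⟩ g
    refine ⟨hAn.conj_mem a ha g, k, ?_⟩
    rw [conj_pow, hk, mul_one, mul_inv_cancel]
  by_cases hAp : Ap = ⊥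
  · refine ⟨A, hAn, hAne, Or.inr ?_⟩
    rw [Nat.coprime_comm, Nat.Prime.coprime_iff_not_dvd hp.out]
    intro hdvd
    obtain ⟨x, hx⟩ := exists_prime_orderOf_dvd_card' p hdvd
    have hxAp : (x : G) ∈ Ap := by
      refine ⟨x.2, 1, ?_⟩
      rw [pow_one, ← Subgroup.coe_pow, ← hx, pow_orderOf_eq_one, Subgroup.coe_one]
    rw [hAp, Subgroup.mem_bot] at hxAp
    have hx1 : x = 1 := Subtype.ext hxAp
    rw [hx1, orderOf_one] at hx
    exact hp.out.one_lt.ne hx
  · refine ⟨Ap, hApn, hAp, Or.inl ?_⟩
    rintro ⟨a, ha, k, hk⟩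
    exact ⟨k, Subtype.ext (by rw [Subgroup.coe_pow, Subgroup.coe_one]; exact hk)⟩

end Cfsg.Agent.Lib.helper3.NormalSylow
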