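import Mathlib
import Cfsg.Prelude.Def_Characters
import Cfsg.Agent.Lib.helper3.CExt5
import Cfsg.Agent.Lib.helper3.Inflate2

/-!
# Pulling back and descending characters along a surjective homomorphism
-/

set_option autoImplicit false
set_option linter.style.haveILetI false
set_option linter.unusedSectionVars false

namespace Cfsg.Agent.Lib.helper3.Tri

open Cfsg Cfsg.Agent.Lib.helper3.Irr Cfsg.Agent.Lib.helper3.CharBasic
open Cfsg.Agent.Lib.helper3.IndFun Cfsg.Agent.Lib.helper3.CExt
open scoped ComplexConjugate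

variable {A B : Type*} [Group A] [Group B]

/-- Sums over `A` of functions factoring through a surjective homomorphism. -/
theorem sum_comp_surjective [Fintype A] [Fintype B] (f : A →* B) (hf : Function.Surjective f)
    (F : B → ℂ) : ∑ a : A, F (f a) = (Nat.card f.ker : ℂ) * ∑ b : B, F b := by
  classical
  letI : Fintype (A ⧸ f.ker) := Fintype.ofFinite _
  obtain ⟨iso, hiso⟩ : ∃ iso : A ⧸ f.ker ≃* B, ∀ x : A, iso (x : A ⧸ f.ker) = f x :=
    ⟨QuotientGroup.quotientKerEquivOfSurjective f hf, fun x => rfl⟩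
  have h1 := sum_comp_mk f.ker (fun q => F (iso q))
  simp only [hiso] at h1
  rw [h1]
  congr 1
  exact Fintype.sum_equiv iso.toEquiv _ _ (fun q => rfl)

/-- The inner product is unchanged by pulling back along a surjective homomorphism. -/
theorem classInner_comp_surjective [Fintype A] [Fintype B] (f : A →* B)
    (hf : Function.Surjective f) (φ ψ : B → ℂ) :
    classInner (fun a => φ (f a)) (fun a => ψ (f a)) = classInner φ ψ := by
  rw [classInner_apply, classInner_apply]
  have h1 : ∑ a : A, φ (f a) * conj (ψ (f a))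
      = (Nat.card f.ker : ℂ) * ∑ b : B, φ b * conj (ψ b) :=
    sum_comp_surjective f hf (fun b => φ b * conj (ψ b))
  rw [h1]
  have h2 : Nat.card A = Nat.card f.ker * Nat.card B := by
    have h3 := Subgroup.card_mul_index f.ker
    rw [Subgroup.index_ker, MonoidHom.range_eq_top.mpr hf, Subgroup.card_top] at h3
    exact h3.symm
  rw [h2]
  have hk : (Nat.card f.ker : ℂ) ≠ 0 := card_ne_zero_complex _
  have hB : (Nat.card B : ℂ) ≠ 0 := card_ne_zero_complex _
  push_cast
  field_simp

/-- An irreducible character which is constant on the cosets of the kernel of a surjective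
homomorphism descends. -/
theorem exists_descent [Finite A] (f : A →* B) (hf : Function.Surjective f) {χ : A → ℂ}
    (hχ : IsIrrCharacter A χ) (hker : ∀ a n : A, n ∈ f.ker → χ (a * n) = χ a) :
    ∃ ψ : B → ℂ, IsIrrCharacter B ψ ∧ ∀ a : A, ψ (f a) = χ a := by
  haveI : Finite B := Finite.of_surjective f hf
  obtain ⟨iso, hiso⟩ : ∃ iso : A ⧸ f.ker ≃* B, ∀ x : A, iso (x : A ⧸ f.ker) = f x :=
    ⟨QuotientGroup.quotientKerEquivOfSurjective f hf, fun x => rfl⟩
  obtain ⟨ψ₀, hψ₀, hχeq⟩ := exists_eq_inflate hχ f.ker hker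
  refine ⟨fun b => ψ₀ (iso.symm b), isIrrCharacter_comp_mulEquiv iso.symm hψ₀, ?_⟩
  intro a
  show ψ₀ (iso.symm (f a)) = χ a
  rw [← hiso a, MulEquiv.symm_apply_apply, hχeq, inflate_apply]

end Cfsg.Agent.Lib.helper3.Tri
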