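import Mathlib
import Cfsg.Prelude.Def_Characters
import Cfsg.Agent.Lib.helper3.Glaub2
import Cfsg.Agent.Lib.helper3.AbelianInertia
import Cfsg.Agent.Lib.helper3.Clifford2
import Cfsg.Agent.Lib.helper3.TransferChar

set_option autoImplicit false
set_option linter.style.haveILetI false
set_option linter.unusedSectionVars false

/-!
# Coprime actions: invariant characters over an invariant character, abelian quotient
-/

namespace Cfsg.Agent.Lib.helper3.Glaub

open Cfsg Cfsg.Agent.Lib.helper3.Irr Cfsg.Agent.Lib.helper3.CharBasic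
open Cfsg.Agent.Lib.helper3.IndFun Cfsg.Agent.Lib.helper3.Lin
open scoped ComplexConjugate

universe u

section typeLevel

variable {K : Type u} [Group K]

/-- Multiplication of irreducible characters by linear characters. -/
noncomputable def linAction [Fintype K] : MulAction (K →* ℂˣ) (IrrCharacter K) where
  smul lam ψ := ⟨(fun g => ((lam g : ℂˣ) : ℂ)) * (ψ : K → ℂ),
    isIrrCharacter_linear_mul (isCharacter_of_hom lam) (by simp) ψ.2⟩
  one_smul ψ := by
    apply Subtype.ext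
    funext g
    show (((1 : K →* ℂˣ) g : ℂˣ) : ℂ) * (ψ : K → ℂ) g = (ψ : K → ℂ) g
    simp
  mul_smul a b ψ := by
    apply Subtype.ext
    funext g
    show (((a * b) g : ℂˣ) : ℂ) * (ψ : K → ℂ) g
      = ((a g : ℂˣ) : ℂ) * (((b g : ℂˣ) : ℂ) * (ψ : K → ℂ) g)
    rw [MonoidHom.mul_apply]
    push_cast
    ring

theorem linAction_apply [Fintype K] (lam : K →* ℂˣ) (ψ : IrrCharacter K) (g : K) :
    letI := linAction (K := K)
    ((lam • ψ : IrrCharacter K) : K → ℂ) g = ((lam g : ℂˣ) : ℂ) * (ψ : K → ℂ) g := rfl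

/-- If `K ⧸ M` is abelian, two irreducible characters with a common constituent on `M` differ
by a linear character trivial on `M`. -/
theorem exists_linear_mul_eq [Fintype K] (M : Subgroup K) [hM : M.Normal] [Fintype M]
    (hab : ∀ x y : K, x * y * x⁻¹ * y⁻¹ ∈ M) (ψ ψ' : K → ℂ) (hψ : IsIrrCharacter K ψ)
    (hψ' : IsIrrCharacter K ψ')
    (h : classInner (fun m : M => ψ m) (fun m : M => ψ' m) ≠ 0) :
    ∃ lam : K →* ℂˣ, M ≤ lam.ker ∧ ψ' = (fun g => ((lam g : ℂˣ) : ℂ)) * ψ := by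
  classical
  have hcomm := quotient_comm_of_commutator_mem M hab
  have hcf := isClassFunction_of_isCharacter (isCharacter_of_isIrrCharacter hψ)
  have hcf' := isClassFunction_of_isCharacter (isCharacter_of_isIrrCharacter hψ')
  have h5 : indFun M (fun m : M => ψ m)
      = ∑ β : IrrCharacter (K ⧸ M), inflate M (β : K ⧸ M → ℂ) * ψ := by
    have e1 : (fun m : M => ψ m) = (fun _ : M => (1 : ℂ)) * fun m : M => ψ m := by
      funext m; simp
    rw [e1, indFun_mul_restrict M _ ψ hcf, indFun_one_eq_sum_inflate M hab, Finset.sum_mul]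
  have h6 : classInner (indFun M (fun m : M => ψ m)) ψ' ≠ 0 := by
    rw [frobenius_reciprocity M _ ψ' hcf']
    exact h
  rw [h5, classInner_sum_left] at h6
  obtain ⟨β, -, hβ⟩ := Finset.exists_ne_zero_of_sum_ne_zero h6
  have hB : IsCharacter K (inflate M (β : K ⧸ M → ℂ)) :=
    isCharacter_of_isIrrCharacter (isIrrCharacter_inflate M β.2)
  have hB1 : inflate M (β : K ⧸ M → ℂ) 1 = 1 := by
    rw [inflate_apply, QuotientGroup.mk_one]
    exact apply_one_eq_one_of_comm hcomm β.2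
  have hirr : IsIrrCharacter K (inflate M (β : K ⧸ M → ℂ) * ψ) :=
    isIrrCharacter_linear_mul hB hB1 hψ
  have heq : inflate M (β : K ⧸ M → ℂ) * ψ = ψ' := by
    by_contra hne
    exact hβ (irr_classInner_eq_zero hirr hψ' hne)
  refine ⟨toUnitsHom hB hB1, ?_, ?_⟩
  · intro m hm
    rw [MonoidHom.mem_ker]
    apply Units.ext
    rw [toUnitsHom_apply, inflate_apply_of_mem M _ hm, hB1]
    rfl
  · rw [← heq]
    funext g
    rw [Pi.mul_apply, Pi.mul_apply, toUnitsHom_apply]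

end typeLevel

variable {Γ : Type u} [Group Γ]

/-- Isaacs 13.28 for an abelian quotient. -/
theorem exists_invariant_over_abelian [Fintype Γ] (G S N : Subgroup Γ) [Fintype G] [Fintype N]
    (hnorm : ∀ s ∈ S, ∀ g ∈ G, s * g * s⁻¹ ∈ G) (hNG : N ≤ G) [hNn : (N.subgroupOf G).Normal]
    (hNS : ∀ s ∈ S, ∀ n ∈ N, s * n * s⁻¹ ∈ N) (hcop : (N.relIndex G).Coprime (Nat.card S))
    (hab : ∀ x ∈ G, ∀ y ∈ G, x * y * x⁻¹ * y⁻¹ ∈ N) (θ : IrrCharacter N)
    (hinv : ∀ s ∈ S, ∀ g g' : N, (g' : Γ) = s * g * s⁻¹ → (θ : N → ℂ) g' = (θ : N → ℂ) g) :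
    ∃ χ : IrrCharacter G,
      classInner (fun n : N => (χ : G → ℂ) ⟨n, hNG n.2⟩) (θ : N → ℂ) ≠ 0 ∧
      ∀ s ∈ S, ∀ g g' : G, (g' : Γ) = s * g * s⁻¹ → (χ : G → ℂ) g' = (χ : G → ℂ) g := by
  classical
  letI : Fintype (N.subgroupOf G) := Fintype.ofFinite _
  letI actS := normAction G
  letI actL := linAction (K := G)
  have hnormalizer : ∀ (H K : Subgroup Γ), (∀ k ∈ K, ∀ n ∈ H, k * n * k⁻¹ ∈ H) →
      K ≤ Subgroup.normalizer (H : Set Γ) := by
    intro H K hK k hk
    rw [Subgroup.mem_normalizer_iff]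
    intro n
    constructor
    · exact hK k hk n
    · intro h
      have := hK k⁻¹ (K.inv_mem hk) _ h
      rw [inv_inv] at this
      have h2 : k⁻¹ * (k * n * k⁻¹) * k = n := by group
      rwa [h2] at this
  have hSG := hnormalizer G S hnorm
  have hSN := hnormalizer N S hNS
  obtain ⟨e, he⟩ : ∃ e : N.subgroupOf G ≃* N, e = Subgroup.subgroupOfEquivOfLe hNG := ⟨_, rfl⟩
  have hecoe : ∀ x : N.subgroupOf G, ((e x : N) : Γ) = ((x : G) : Γ) := by
    intro x
    rw [he]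
    rfl
  have hab' : ∀ x y : G, x * y * x⁻¹ * y⁻¹ ∈ N.subgroupOf G := by
    intro x y
    rw [Subgroup.mem_subgroupOf]
    exact hab x x.2 y y.2
  -- the two homomorphisms
  obtain ⟨fS, hfS⟩ : ∃ fS : S →* Equiv.Perm (IrrCharacter G),
      fS = (MulAction.toPermHom (Subgroup.normalizer (G : Set Γ)) (IrrCharacter G)).comp
        (Subgroup.inclusion hSG) := ⟨_, rfl⟩
  have hfSapply : ∀ (s : S) (χ : IrrCharacter G), fS s χ = (Subgroup.inclusion hSG s) • χ := by
    intro s χ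
    rw [hfS]
    rfl
  obtain ⟨L₀, hL₀⟩ : ∃ L₀ : Subgroup (G →* ℂˣ), L₀ =
      { carrier := {lam | N.subgroupOf G ≤ lam.ker}
        one_mem' := by
          intro x _
          rw [MonoidHom.mem_ker]
          rfl
        mul_mem' := by
          intro a b ha hb x hx
          rw [MonoidHom.mem_ker, MonoidHom.mul_apply, MonoidHom.mem_ker.1 (ha hx),
            MonoidHom.mem_ker.1 (hb hx), one_mul]
        inv_mem' := by
          intro a ha x hx
          rw [MonoidHom.mem_ker, MonoidHom.inv_apply, MonoidHom.mem_ker.1 (ha hx), inv_one] } :=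
    ⟨_, rfl⟩
  have hL₀mem : ∀ lam : G →* ℂˣ, lam ∈ L₀ ↔ N.subgroupOf G ≤ lam.ker := by
    intro lam
    rw [hL₀]
    rfl
  obtain ⟨fL, hfL⟩ : ∃ fL : (G →* ℂˣ) →* Equiv.Perm (IrrCharacter G),
      fL = MulAction.toPermHom (G →* ℂˣ) (IrrCharacter G) := ⟨_, rfl⟩
  have hfLapply : ∀ (lam : G →* ℂˣ) (χ : IrrCharacter G), fL lam χ = lam • χ := by
    intro lam χ
    rw [hfL]
    rfl
  obtain ⟨A, hA⟩ : ∃ A : Subgroup (Equiv.Perm (IrrCharacter G)), A = L₀.map fL := ⟨_, rfl⟩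
  obtain ⟨B, hB⟩ : ∃ B : Subgroup (Equiv.Perm (IrrCharacter G)), B = fS.range := ⟨_, rfl⟩
  -- the set of characters over `θ`
  obtain ⟨Ω, hΩ⟩ : ∃ Ω : Set (IrrCharacter G),
      Ω = {χ : IrrCharacter G | classInner (fun n : N => (χ : G → ℂ) ⟨n, hNG n.2⟩) (θ : N → ℂ) ≠ 0} :=
    ⟨_, rfl⟩
  have hres' : ∀ χ : IrrCharacter G, (fun x : N.subgroupOf G => (χ : G → ℂ) x)
      = fun x => (fun n : N => (χ : G → ℂ) ⟨n, hNG n.2⟩) (e x) := by
    intro χ
    funext x
    simp only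
    apply congrArg (χ : G → ℂ)
    apply Subtype.ext
    exact (hecoe x).symm
  have hne : Ω.Nonempty := by
    obtain ⟨χ, hχ⟩ := exists_irr_over (N.subgroupOf G) (fun x => (θ : N → ℂ) (e x))
      (isIrrCharacter_comp_mulEquiv e θ.2)
    refine ⟨χ, ?_⟩
    rw [hΩ]
    simp only [Set.mem_ofPred_eq]
    rw [hres' χ] at hχ
    rw [← classInner_comp_mulEquiv e (fun n : N => (χ : G → ℂ) ⟨n, hNG n.2⟩) (θ : N → ℂ)]
    exact hχ
  have hstabA : ∀ a ∈ A, ∀ ω ∈ Ω, a • ω ∈ Ω := by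
    intro a ha ω hω
    rw [hA] at ha
    obtain ⟨lam, hlam, rfl⟩ := ha
    rw [hΩ] at hω ⊢
    simp only [Set.mem_ofPred_eq] at hω ⊢
    have h1 : (fL lam) • ω = lam • ω := hfLapply lam ω
    rw [h1]
    have h2 : (fun n : N => ((lam • ω : IrrCharacter G) : G → ℂ) ⟨n, hNG n.2⟩)
        = fun n : N => (ω : G → ℂ) ⟨n, hNG n.2⟩ := by
      funext n
      rw [linAction_apply]
      have h3 : lam ⟨n, hNG n.2⟩ = 1 := by
        have := (hL₀mem lam).1 hlam
        exact MonoidHom.mem_ker.1 (this (Subgroup.mem_subgroupOf.2 n.2))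
      rw [h3]
      simp
    rw [h2]
    exact hω
  have hθinv : ∀ (s : S) (n : N), (θ : N → ℂ) (conjN N (Subgroup.inclusion hSN s) n)
      = (θ : N → ℂ) n := by
    intro s n
    exact hinv s s.2 n _ rfl
  have hstabB : ∀ b ∈ B, ∀ ω ∈ Ω, b • ω ∈ Ω := by
    intro b hb ω hω
    rw [hB] at hb
    obtain ⟨s, rfl⟩ := hb
    rw [hΩ] at hω ⊢
    simp only [Set.mem_ofPred_eq] at hω ⊢
    have h1 : (fS s) • ω = (Subgroup.inclusion hSG s) • ω := hfSapply s ω
    rw [h1]
    have h2 : (fun n : N => (((Subgroup.inclusion hSG s) • ω : IrrCharacter G) : G → ℂ)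
        ⟨n, hNG n.2⟩)
        = fun n : N => (fun n : N => (ω : G → ℂ) ⟨n, hNG n.2⟩)
          (conjN N (Subgroup.inclusion hSN s)⁻¹ n) := by
      funext n
      rw [normAction_apply]
      apply congrArg (ω : G → ℂ)
      apply Subtype.ext
      rfl
    have h3 : (θ : N → ℂ) = fun n : N => (θ : N → ℂ) (conjN N (Subgroup.inclusion hSN s)⁻¹ n) := by
      funext n
      have := hθinv s⁻¹ n
      rw [map_inv] at this
      exact this.symm
    rw [h2]
    conv_lhs =>
      arg 2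
      rw [h3]
    rw [classInner_comp_mulEquiv (conjN N (Subgroup.inclusion hSN s)⁻¹)
      (fun n : N => (ω : G → ℂ) ⟨n, hNG n.2⟩) (θ : N → ℂ)]
    exact hω
  -- transitivity
  have htrans : ∀ ω ∈ Ω, ∀ ω' ∈ Ω, ∃ a ∈ A, a • ω = ω' := by
    intro ω hω ω' hω'
    rw [hΩ] at hω hω'
    simp only [Set.mem_ofPred_eq] at hω hω'
    have hc1 : IsCharacter N (fun n : N => (ω : G → ℂ) ⟨n, hNG n.2⟩) :=
      isCharacter_comp (isCharacter_of_isIrrCharacter ω.2) (Subgroup.inclusion hNG)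
    have hc2 : IsCharacter N (fun n : N => (ω' : G → ℂ) ⟨n, hNG n.2⟩) :=
      isCharacter_comp (isCharacter_of_isIrrCharacter ω'.2) (Subgroup.inclusion hNG)
    have h1 := classInner_ne_zero_of_common_constituent hc1 hc2 θ.2 hω hω'
    have h2 : classInner (fun x : N.subgroupOf G => (ω : G → ℂ) x)
        (fun x : N.subgroupOf G => (ω' : G → ℂ) x) ≠ 0 := by
      rw [hres' ω, hres' ω']
      rw [← classInner_comp_mulEquiv e (fun n : N => (ω : G → ℂ) ⟨n, hNG n.2⟩)
        (fun n : N => (ω' : G → ℂ) ⟨n, hNG n.2⟩)] at h1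
      exact h1
    obtain ⟨lam, hlam, hlameq⟩ := exists_linear_mul_eq (N.subgroupOf G) hab' (ω : G → ℂ)
      (ω' : G → ℂ) ω.2 ω'.2 h2
    refine ⟨fL lam, ?_, ?_⟩
    · rw [hA]
      exact ⟨lam, (hL₀mem lam).2 hlam, rfl⟩
    · have h3 : (fL lam) • ω = lam • ω := hfLapply lam ω
      rw [h3]
      apply Subtype.ext
      rw [hlameq]
      rfl
  -- normalization
  have hnormAB : ∀ b ∈ B, ∀ a ∈ A, b * a * b⁻¹ ∈ A := by
    intro b hb a ha
    rw [hB] at hb
    rw [hA] at ha ⊢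
    obtain ⟨s, rfl⟩ := hb
    obtain ⟨lam, hlam, rfl⟩ := ha
    obtain ⟨lam', hlam'⟩ : ∃ lam' : G →* ℂˣ,
        lam' = lam.comp (conjN G (Subgroup.inclusion hSG s)⁻¹).toMonoidHom := ⟨_, rfl⟩
    refine ⟨lam', ?_, ?_⟩
    · rw [SetLike.mem_coe, hL₀mem]
      intro x hx
      rw [MonoidHom.mem_ker, hlam', MonoidHom.comp_apply]
      have h1 := (hL₀mem lam).1 hlam
      apply MonoidHom.mem_ker.1
      apply h1
      rw [Subgroup.mem_subgroupOf]
      have h2 := hNS s⁻¹ (S.inv_mem s.2) x (Subgroup.mem_subgroupOf.1 hx)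
      exact h2
    · apply Equiv.ext
      intro χ
      rw [Equiv.Perm.mul_apply, Equiv.Perm.mul_apply, ← map_inv, hfSapply, hfLapply, hfSapply,
        hfLapply]
      apply Subtype.ext
      funext g
      rw [linAction_apply, normAction_apply, linAction_apply, normAction_apply, hlam']
      rw [MonoidHom.comp_apply]
      have h1 : conjN G (Subgroup.inclusion hSG s⁻¹)⁻¹ (conjN G (Subgroup.inclusion hSG s)⁻¹ g) = g := by
        apply Subtype.ext
        rw [conjN_apply, conjN_apply]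
        simp only [map_inv, inv_inv]
        push_cast
        group
      rw [h1]
      rfl
  -- orders
  have hcardB : Nat.card B ∣ Nat.card S := by
    rw [hB, ← Subgroup.index_ker]
    exact Subgroup.index_dvd_card _
  have hpow : ∀ a ∈ A, a ^ (N.relIndex G) = 1 := by
    intro a ha
    rw [hA] at ha
    obtain ⟨lam, hlam, rfl⟩ := ha
    rw [← map_pow]
    have h1 : lam ^ (N.relIndex G) = 1 := by
      apply MonoidHom.ext
      intro g
      rw [MonoidHom.pow_apply, MonoidHom.one_apply, ← map_pow]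
      have h2 : g ^ (N.relIndex G) ∈ N.subgroupOf G := Subgroup.pow_index_mem (N.subgroupOf G) g
      exact MonoidHom.mem_ker.1 ((hL₀mem lam).1 hlam h2)
    rw [h1, map_one]
  have hcopAB : (Nat.card A).Coprime (Nat.card B) := by
    by_contra hnc
    obtain ⟨q, hq, hqA, hqB⟩ := Nat.Prime.not_coprime_iff_dvd.1 hnc
    haveI : Fact q.Prime := ⟨hq⟩
    obtain ⟨a, ha⟩ := exists_prime_orderOf_dvd_card' q hqA
    have h1 : a ^ (N.relIndex G) = 1 := by
      apply Subtype.ext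
      rw [Subgroup.coe_pow]
      exact hpow a a.2
    have h2 : q ∣ N.relIndex G := by
      rw [← ha]
      exact orderOf_dvd_of_pow_eq_one h1
    have h3 : q ∣ Nat.card S := hqB.trans hcardB
    have h4 : q ∣ 1 := by
      have := Nat.dvd_gcd h2 h3
      rwa [Nat.Coprime.gcd_eq_one hcop] at this
    exact hq.one_lt.ne' (Nat.dvd_one.1 h4)
  have hsolvAB : Group.IsSolvable A ∨ Group.IsSolvable B := by
    left
    apply Group.isSolvable_of_comm
    intro x y
    apply Subtype.ext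
    rw [Subgroup.coe_mul, Subgroup.coe_mul]
    have hx : (x : Equiv.Perm (IrrCharacter G)) ∈ L₀.map fL := by
      rw [← hA]
      exact x.2
    have hy : (y : Equiv.Perm (IrrCharacter G)) ∈ L₀.map fL := by
      rw [← hA]
      exact y.2
    obtain ⟨l1, -, h1⟩ := hx
    obtain ⟨l2, -, h2⟩ := hy
    rw [← h1, ← h2, ← map_mul, ← map_mul, mul_comm l1 l2]
  obtain ⟨χ, hχΩ, hχfix⟩ := fixed_point A B hnormAB hcopAB hsolvAB Ω hne hstabA hstabB htrans
  refine ⟨χ, ?_, ?_⟩
  · rw [hΩ] at hχΩ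
    exact hχΩ
  · intro s hs g g' hgg'
    have h1 := hχfix (fS ⟨s⁻¹, S.inv_mem hs⟩) (by rw [hB]; exact ⟨_, rfl⟩)
    have h2 : (fS ⟨s⁻¹, S.inv_mem hs⟩) • χ = (Subgroup.inclusion hSG ⟨s⁻¹, S.inv_mem hs⟩) • χ :=
      hfSapply _ χ
    rw [h2] at h1
    have h3 : ((Subgroup.inclusion hSG ⟨s⁻¹, S.inv_mem hs⟩ • χ : IrrCharacter G) : G → ℂ) g
        = (χ : G → ℂ) g := by rw [h1]
    rw [normAction_apply] at h3
    rw [← h3]
    apply congrArg (χ : G → ℂ)
    apply Subtype.ext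
    rw [hgg', conjN_apply]
    simp

end Cfsg.Agent.Lib.helper3.Glaub
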