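import Mathlib
import Cfsg.Prelude.Def_Characters
import Cfsg.Agent.Lib.helper3.Glaub3

set_option autoImplicit false
set_option linter.style.haveILetI false
set_option linter.unusedSectionVars false

/-!
# Coprime actions: invariant characters over an invariant character, solvable quotient
-/

namespace Cfsg.Agent.Lib.helper3.Glaub

open Cfsg Cfsg.Agent.Lib.helper3.Irr Cfsg.Agent.Lib.helper3.CharBasic
open Cfsg.Agent.Lib.helper3.IndFun Cfsg.Agent.Lib.helper3.Lin
open scoped ComplexConjugate commutatorElement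

universe u

variable {Γ : Type u} [Group Γ]

/-- Lying over is transitive. -/
theorem classInner_restrict_trans [Fintype Γ] (G M N : Subgroup Γ) [Fintype G] [Fintype M]
    [Fintype N] (hNM : N ≤ M) (hMG : M ≤ G) (χ : IrrCharacter G) (φ : IrrCharacter M)
    (θ : IrrCharacter N)
    (h1 : classInner (fun m : M => (χ : G → ℂ) ⟨m, hMG m.2⟩) (φ : M → ℂ) ≠ 0)
    (h2 : classInner (fun n : N => (φ : M → ℂ) ⟨n, hNM n.2⟩) (θ : N → ℂ) ≠ 0) :
    classInner (fun n : N => (χ : G → ℂ) ⟨n, hMG (hNM n.2)⟩) (θ : N → ℂ) ≠ 0 := by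
  classical
  have hχM : IsCharacter M (fun m : M => (χ : G → ℂ) ⟨m, hMG m.2⟩) :=
    isCharacter_comp (isCharacter_of_isIrrCharacter χ.2) (Subgroup.inclusion hMG)
  have hρ := isCharacter_sub_of_classInner_ne_zero hχM φ h1
  have hφN : IsCharacter N (fun n : N => (φ : M → ℂ) ⟨n, hNM n.2⟩) :=
    isCharacter_comp (isCharacter_of_isIrrCharacter φ.2) (Subgroup.inclusion hNM)
  have hρN : IsCharacter N (fun n : N =>
      ((fun m : M => (χ : G → ℂ) ⟨m, hMG m.2⟩) - (φ : M → ℂ)) ⟨n, hNM n.2⟩) :=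
    isCharacter_comp hρ (Subgroup.inclusion hNM)
  obtain ⟨a, ha⟩ := exists_nat_classInner_of_isCharacter hφN θ
  obtain ⟨b, hb⟩ := exists_nat_classInner_of_isCharacter hρN θ
  have hsum : (fun n : N => (χ : G → ℂ) ⟨n, hMG (hNM n.2)⟩)
      = (fun n : N => (φ : M → ℂ) ⟨n, hNM n.2⟩) + fun n : N =>
        ((fun m : M => (χ : G → ℂ) ⟨m, hMG m.2⟩) - (φ : M → ℂ)) ⟨n, hNM n.2⟩ := by
    funext n
    simp only [Pi.add_apply, Pi.sub_apply]
    ring
  rw [hsum, classInner_add_left, ha, hb]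
  have ha0 : a ≠ 0 := by
    intro h
    apply h2
    rw [ha, h, Nat.cast_zero]
  have : a + b ≠ 0 := by omega
  exact_mod_cast this

/-- Isaacs 13.28, by induction on the derived length of the quotient. -/
theorem exists_invariant_over_aux [Fintype Γ] (G S : Subgroup Γ) [Fintype G]
    (hnorm : ∀ s ∈ S, ∀ g ∈ G, s * g * s⁻¹ ∈ G) :
    ∀ (n : ℕ) (N : Subgroup Γ) [Fintype N] (hNG : N ≤ G) (_hNn : (N.subgroupOf G).Normal)
      (_hNS : ∀ s ∈ S, ∀ n ∈ N, s * n * s⁻¹ ∈ N) (_hcop : (N.relIndex G).Coprime (Nat.card S))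
      (_hder : derivedSeries G n ≤ N.subgroupOf G) (θ : IrrCharacter N)
      (_hinv : ∀ s ∈ S, ∀ g g' : N, (g' : Γ) = s * g * s⁻¹ → (θ : N → ℂ) g' = (θ : N → ℂ) g),
      ∃ χ : IrrCharacter G,
        classInner (fun n : N => (χ : G → ℂ) ⟨n, hNG n.2⟩) (θ : N → ℂ) ≠ 0 ∧
        ∀ s ∈ S, ∀ g g' : G, (g' : Γ) = s * g * s⁻¹ → (χ : G → ℂ) g' = (χ : G → ℂ) g := by
  classical
  intro n
  induction n with
  | zero =>
    intro N _ hNG hNn hNS hcop hder θ hinv
    have hGN : G ≤ N := by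
      intro g hg
      have : (⟨g, hg⟩ : G) ∈ N.subgroupOf G := hder (by rw [derivedSeries_zero]; exact Subgroup.mem_top _)
      exact Subgroup.mem_subgroupOf.1 this
    haveI := hNn
    exact exists_invariant_over_abelian G S N hnorm hNG hNS hcop
      (fun x hx y hy => hGN (G.mul_mem (G.mul_mem (G.mul_mem hx hy) (G.inv_mem hx)) (G.inv_mem hy)))
      θ hinv
  | succ n ih =>
    intro N _ hNG hNn hNS hcop hder θ hinv
    haveI := hNn
    obtain ⟨D, hD⟩ : ∃ D : Subgroup G, D = derivedSeries G n := ⟨_, rfl⟩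
    haveI hDn : D.Normal := by
      rw [hD]
      exact derivedSeries_normal G n
    obtain ⟨M', hM'⟩ : ∃ M' : Subgroup G, M' = N.subgroupOf G ⊔ D := ⟨_, rfl⟩
    haveI hM'n : M'.Normal := by
      rw [hM']
      infer_instance
    obtain ⟨M, hM⟩ : ∃ M : Subgroup Γ, M = M'.map G.subtype := ⟨_, rfl⟩
    have hMG : M ≤ G := by
      rw [hM]
      exact Subgroup.map_subtype_le M'
    have hMsub : M.subgroupOf G = M' := by
      rw [hM]
      exact Subgroup.comap_map_eq_self_of_injective G.subtype_injective M'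
    have hNM : N ≤ M := by
      intro x hx
      rw [hM]
      refine ⟨⟨x, hNG hx⟩, ?_, rfl⟩
      rw [hM']
      exact Subgroup.mem_sup_left (Subgroup.mem_subgroupOf.2 hx)
    letI : Fintype M := Fintype.ofFinite M
    -- `S` normalizes `M`
    have hnormalizerG : S ≤ Subgroup.normalizer (G : Set Γ) := by
      intro k hk
      rw [Subgroup.mem_normalizer_iff]
      intro g
      constructor
      · exact hnorm k hk g
      · intro h
        have := hnorm k⁻¹ (S.inv_mem hk) _ h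
        rw [inv_inv] at this
        have h2 : k⁻¹ * (k * g * k⁻¹) * k = g := by group
        rwa [h2] at this
    have hMS : ∀ s ∈ S, ∀ m ∈ M, s * m * s⁻¹ ∈ M := by
      intro s hs m hm
      rw [hM] at hm ⊢
      obtain ⟨m', hm', rfl⟩ := hm
      obtain ⟨α, hα⟩ : ∃ α : G ≃* G, α = conjN G ⟨s, hnormalizerG hs⟩ := ⟨_, rfl⟩
      have hαcoe : ∀ g : G, ((α g : G) : Γ) = s * g * s⁻¹ := by
        intro g
        rw [hα]
        rfl
      refine ⟨α m', ?_, hαcoe m'⟩
      have h1 : M'.map α.toMonoidHom ≤ M' := by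
        rw [hM', Subgroup.map_sup]
        apply sup_le_sup
        · rintro x ⟨y, hy, rfl⟩
          rw [Subgroup.mem_subgroupOf]
          show ((α y : G) : Γ) ∈ N
          rw [hαcoe]
          exact hNS s hs y (Subgroup.mem_subgroupOf.1 hy)
        · rw [hD]
          exact map_derivedSeries_le_derivedSeries α.toMonoidHom n
      exact h1 ⟨m', hm', rfl⟩
    -- `M / N` is abelian
    have habM : ∀ x ∈ M, ∀ y ∈ M, x * y * x⁻¹ * y⁻¹ ∈ N := by
      intro x hx y hy
      rw [hM] at hx hy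
      obtain ⟨x', hx', rfl⟩ := hx
      obtain ⟨y', hy', rfl⟩ := hy
      have hkey : ∀ z ∈ M', ∃ d ∈ D, (QuotientGroup.mk' (N.subgroupOf G)) z
          = (QuotientGroup.mk' (N.subgroupOf G)) d := by
        intro z hz
        rw [hM', ← SetLike.mem_coe, Subgroup.normal_mul] at hz
        obtain ⟨a, ha, d, hd, rfl⟩ := Set.mem_mul.1 hz
        refine ⟨d, hd, ?_⟩
        rw [map_mul]
        have : (QuotientGroup.mk' (N.subgroupOf G)) a = 1 := (QuotientGroup.eq_one_iff a).2 ha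
        rw [this, one_mul]
      obtain ⟨d1, hd1, he1⟩ := hkey x' hx'
      obtain ⟨d2, hd2, he2⟩ := hkey y' hy'
      have h1 : (QuotientGroup.mk' (N.subgroupOf G)) (x' * y' * x'⁻¹ * y'⁻¹) = 1 := by
        rw [map_mul, map_mul, map_mul, map_inv, map_inv, he1, he2, ← map_inv, ← map_inv,
          ← map_mul, ← map_mul, ← map_mul]
        apply (QuotientGroup.eq_one_iff _).2
        apply hder
        rw [derivedSeries_succ, ← hD]
        exact Subgroup.commutator_mem_commutator hd1 hd2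
      have h2 := (QuotientGroup.eq_one_iff _).1 h1
      exact Subgroup.mem_subgroupOf.1 h2
    -- normality of `N` in `M`
    haveI hNMn : (N.subgroupOf M).Normal := by
      constructor
      intro x hx m
      rw [Subgroup.mem_subgroupOf] at hx ⊢
      have := hNn.conj_mem ⟨(x : Γ), hNG hx⟩ (Subgroup.mem_subgroupOf.2 hx) ⟨(m : Γ), hMG m.2⟩
      exact Subgroup.mem_subgroupOf.1 this
    -- coprimality
    have hrel := Subgroup.relIndex_mul_relIndex N M G hNM hMG
    have hcop1 : (N.relIndex M).Coprime (Nat.card S) :=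
      Nat.Coprime.coprime_dvd_left (Dvd.intro _ hrel) hcop
    have hcop2 : (M.relIndex G).Coprime (Nat.card S) :=
      Nat.Coprime.coprime_dvd_left (Dvd.intro_left _ hrel) hcop
    obtain ⟨φ, hφθ, hφinv⟩ := exists_invariant_over_abelian M S N hMS hNM hNS hcop1 habM θ hinv
    have hMn : (M.subgroupOf G).Normal := by
      rw [hMsub]
      exact hM'n
    have hder' : derivedSeries G n ≤ M.subgroupOf G := by
      rw [hMsub, hM', ← hD]
      exact le_sup_right
    obtain ⟨χ, hχφ, hχinv⟩ := ih M hMG hMn hMS hcop2 hder' φ hφinv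
    exact ⟨χ, classInner_restrict_trans G M N hNM hMG χ φ θ hχφ hφθ, hχinv⟩

/-- Isaacs 13.28. -/
theorem exists_invariant_over [Fintype Γ] (G S N : Subgroup Γ) [Fintype G] [Fintype N]
    (hnorm : ∀ s ∈ S, ∀ g ∈ G, s * g * s⁻¹ ∈ G) (hNG : N ≤ G) [hNn : (N.subgroupOf G).Normal]
    (hNS : ∀ s ∈ S, ∀ n ∈ N, s * n * s⁻¹ ∈ N) (hcop : (N.relIndex G).Coprime (Nat.card S))
    (hsolv : Group.IsSolvable (G ⧸ N.subgroupOf G)) (θ : IrrCharacter N)
    (hinv : ∀ s ∈ S, ∀ g g' : N, (g' : Γ) = s * g * s⁻¹ → (θ : N → ℂ) g' = (θ : N → ℂ) g) :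
    ∃ χ : IrrCharacter G,
      classInner (fun n : N => (χ : G → ℂ) ⟨n, hNG n.2⟩) (θ : N → ℂ) ≠ 0 ∧
      ∀ s ∈ S, ∀ g g' : G, (g' : Γ) = s * g * s⁻¹ → (χ : G → ℂ) g' = (χ : G → ℂ) g := by
  obtain ⟨n, hn⟩ := (Group.isSolvable_def _).1 hsolv
  have hder : derivedSeries G n ≤ N.subgroupOf G := by
    have h1 := map_derivedSeries_eq (f := QuotientGroup.mk' (N.subgroupOf G))
      (QuotientGroup.mk'_surjective _) n
    rw [hn, Subgroup.map_eq_bot_iff, QuotientGroup.ker_mk'] at h1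
    exact h1
  exact exists_invariant_over_aux G S hnorm n N hNG hNn hNS hcop hder θ hinv

end Cfsg.Agent.Lib.helper3.Glaub
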