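import Mathlib
import Cfsg.Prelude.Def_Characters
import Cfsg.Agent.Lib.helper3.GlP1

/-!
# Weighted fixed-point congruence for a `p`-group acting on a finite set
-/

set_option autoImplicit false
set_option linter.style.haveILetI false
set_option linter.unusedSectionVars false

namespace Cfsg.Agent.Lib.helper3.GlO

open Cfsg Cfsg.Agent.Lib.helper3.Irr
open scoped ComplexConjugate

section weighted

variable {X : Type*} [Fintype X] [DecidableEq X] {A : Type*} [Group A] [MulAction A X]

/-- The weighted form of the fixed-point congruence for a `p`-group acting on a finite set. -/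
theorem sum_modEq_sum_fixedPoints (p : ℕ) [hp : Fact p.Prime] (hA : IsPGroup p A)
    (f : X → ℕ) (hf : ∀ (a : A) (x : X), f (a • x) = f x) [DecidablePred fun x : X => ∀ a : A, a • x = x] :
    ∑ x, f x ≡ ∑ x ∈ Finset.univ.filter (fun x => ∀ a : A, a • x = x), f x [MOD p] := by
  classical
  let Y := {q : X × ℕ // q.2 < f q.1}
  let eY : Y ≃ (Σ x : X, Fin (f x)) :=
    { toFun := fun q => ⟨q.1.1, ⟨q.1.2, q.2⟩⟩
      invFun := fun r => ⟨(r.1, r.2), r.2.2⟩
      left_inv := fun q => rfl
      right_inv := fun r => rfl }
  haveI : Finite Y := Finite.of_equiv _ eY.symm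
  letI act : MulAction A Y :=
    { smul := fun a q => ⟨(a • q.1.1, q.1.2), by
        show q.1.2 < f (a • q.1.1)
        rw [hf]
        exact q.2⟩
      one_smul := by
        intro q
        apply Subtype.ext
        apply Prod.ext
        · exact one_smul A q.1.1
        · rfl
      mul_smul := by
        intro a b q
        apply Subtype.ext
        apply Prod.ext
        · exact mul_smul a b q.1.1
        · rfl }
  have hmod := hA.card_modEq_card_fixedPoints Y
  have hcardY : Nat.card Y = ∑ x, f x := by
    rw [Nat.card_congr eY, Nat.card_eq_fintype_card, Fintype.card_sigma]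
    simp
  let eF : (MulAction.fixedPoints A Y) ≃ (Σ x : {x : X // ∀ a : A, a • x = x}, Fin (f x)) :=
    { toFun := fun q => ⟨⟨q.1.1.1, by
          intro a
          have := congrArg (fun r : Y => r.1.1) (q.2 a)
          exact this⟩, ⟨q.1.1.2, q.1.2⟩⟩
      invFun := fun r => ⟨⟨((r.1 : X), (r.2 : ℕ)), r.2.2⟩, by
          intro a
          apply Subtype.ext
          apply Prod.ext
          · exact r.1.2 a
          · rfl⟩
      left_inv := fun q => rfl
      right_inv := fun r => rfl }
  have hcardF : Nat.card (MulAction.fixedPoints A Y)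
      = ∑ x ∈ Finset.univ.filter (fun x => ∀ a : A, a • x = x), f x := by
    rw [Nat.card_congr eF, Nat.card_eq_fintype_card, Fintype.card_sigma]
    simp only [Fintype.card_fin]
    rw [Finset.sum_subtype (Finset.univ.filter (fun x => ∀ a : A, a • x = x))
      (p := fun x => ∀ a : A, a • x = x) (fun x => by simp) f]
  rw [hcardY, hcardF] at hmod
  exact hmod

end weighted

end Cfsg.Agent.Lib.helper3.GlO
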