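import Mathlib
import Cfsg.Prelude.Def_Characters
import Cfsg.Agent.Lib.helper3.Glaub2
import Cfsg.Agent.Lib.helper3.GlP2

/-!
# Constituents of restrictions to a normal subgroup, for subgroups of an ambient group
-/

set_option autoImplicit false
set_option linter.style.haveILetI false
set_option linter.unusedSectionVars false

namespace Cfsg.Agent.Lib.helper3.GlO

open Cfsg Cfsg.Agent.Lib.helper3.Irr Cfsg.Agent.Lib.helper3.CharBasic
open Cfsg.Agent.Lib.helper3.Glaub Cfsg.Agent.Lib.helper3.GlP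
open scoped ComplexConjugate

universe u

variable {Γ : Type u} [Group Γ]

/-- Clifford data for a normal subgroup, both subgroups of an ambient group: the constituents
of the restriction are conjugate, and the multiplicity divides the degree. -/
theorem clifford_sub [Fintype Γ] (G N : Subgroup Γ) [Fintype G] [Fintype N] (hNG : N ≤ G)
    [hNn : (N.subgroupOf G).Normal] (hGM : G ≤ Subgroup.normalizer (N : Set Γ))
    (χ : IrrCharacter G) (ω : IrrCharacter N)
    (hω : classInner (fun n : N => (χ : G → ℂ) ⟨n, hNG n.2⟩) (ω : N → ℂ) ≠ 0) :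
    letI := normAction N
    (∀ ω' : IrrCharacter N,
      classInner (fun n : N => (χ : G → ℂ) ⟨n, hNG n.2⟩) (ω' : N → ℂ) ≠ 0 →
      ∃ g : G, (Subgroup.inclusion hGM g) • ω = ω') ∧
    ∃ e c : ℕ, e ≠ 0 ∧ classInner (fun n : N => (χ : G → ℂ) ⟨n, hNG n.2⟩) (ω : N → ℂ) = e ∧
      (χ : G → ℂ) 1 = c ∧ e ∣ c := by
  classical
  letI := normAction N
  letI : Fintype (N.subgroupOf G) := Fintype.ofFinite _
  obtain ⟨res, hres⟩ : ∃ res : N → ℂ, res = fun n : N => (χ : G → ℂ) ⟨n, hNG n.2⟩ := ⟨_, rfl⟩
  obtain ⟨e, he⟩ : ∃ e : N.subgroupOf G ≃* N, e = Subgroup.subgroupOfEquivOfLe hNG := ⟨_, rfl⟩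
  have hecoe : ∀ x : N.subgroupOf G, ((e x : N) : Γ) = ((x : G) : Γ) := by
    intro x
    rw [he]
    rfl
  have hres' : (fun x : N.subgroupOf G => (χ : G → ℂ) x) = fun x => res (e x) := by
    funext x
    rw [hres]
    simp only
    apply congrArg (χ : G → ℂ)
    apply Subtype.ext
    exact (hecoe x).symm
  have h1 : classInner (fun x : N.subgroupOf G => (χ : G → ℂ) x) (fun x => (ω : N → ℂ) (e x))
      ≠ 0 := by
    rw [hres', classInner_comp_mulEquiv e res (ω : N → ℂ), hres]
    exact hω
  obtain ⟨m, hm0, hm, hdec, -, hall⟩ := clifford_finset (N.subgroupOf G) (χ : G → ℂ) χ.2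
    (fun x => (ω : N → ℂ) (e x)) (isIrrCharacter_comp_mulEquiv e ω.2) h1
  refine ⟨?_, ?_⟩
  · intro ω' hω'
    have h2 : classInner (fun x : N.subgroupOf G => (χ : G → ℂ) x)
        (fun x => (ω' : N → ℂ) (e x)) ≠ 0 := by
      rw [hres', classInner_comp_mulEquiv e res (ω' : N → ℂ), hres]
      exact hω'
    have h3 := hall (fun x => (ω' : N → ℂ) (e x)) (isIrrCharacter_comp_mulEquiv e ω'.2) h2
    obtain ⟨g, -, hg⟩ := Finset.mem_image.1 h3
    refine ⟨g⁻¹, ?_⟩
    apply Subtype.ext
    funext n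
    rw [normAction_apply]
    have h5 := congrFun hg (e.symm n)
    simp only [MulEquiv.apply_symm_apply] at h5
    rw [← h5]
    unfold conjFun
    show (ω : N → ℂ) _ = (ω : N → ℂ) _
    apply congrArg (ω : N → ℂ)
    apply Subtype.ext
    rw [hecoe, conjN_apply]
    have h6 : (((e.symm n : N.subgroupOf G) : G) : Γ) = n := by
      rw [← hecoe, MulEquiv.apply_symm_apply]
    push_cast
    rw [h6]
    simp
  · obtain ⟨c, hcpos, hc⟩ := exists_pos_nat_apply_one χ.2
    obtain ⟨d, hdpos, hd⟩ := exists_pos_nat_apply_one ω.2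
    refine ⟨m, c, hm0, ?_, hc, ?_⟩
    · rw [← hm, hres', classInner_comp_mulEquiv e res (ω : N → ℂ), hres]
    · have h4 := congrFun hdec 1
      simp only [Pi.smul_apply, Finset.sum_apply, smul_eq_mul] at h4
      have h5 : ∀ ψ ∈ Finset.univ.image (conjFun (N.subgroupOf G) (fun x => (ω : N → ℂ) (e x))),
          ψ 1 = (d : ℂ) := by
        intro ψ hψ
        obtain ⟨g, -, rfl⟩ := Finset.mem_image.1 hψ
        have h8 : conjFun (N.subgroupOf G) (fun x => (ω : N → ℂ) (e x)) g 1
            = (fun x => (ω : N → ℂ) (e x)) 1 := by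
          unfold conjFun
          apply congrArg (fun x => (ω : N → ℂ) (e x))
          apply Subtype.ext
          simp
        rw [h8]
        show (ω : N → ℂ) (e 1) = d
        rw [map_one, hd]
      rw [Finset.sum_congr rfl h5, Finset.sum_const, nsmul_eq_mul] at h4
      have h6 : (χ : G → ℂ) ((1 : N.subgroupOf G) : G) = c := by
        rw [← hc]; rfl
      rw [h6] at h4
      have h7 : c = m * ((Finset.univ.image
          (conjFun (N.subgroupOf G) (fun x => (ω : N → ℂ) (e x)))).card * d) := by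
        exact_mod_cast h4
      exact Dvd.intro _ h7.symm

end Cfsg.Agent.Lib.helper3.GlO
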