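import Mathlib
import Cfsg.Agent.S0043
import Cfsg.Agent.H1.FrattiniExtra

/-!
# A `p`-subgroup step for solvable operator groups

If a finite solvable group `X` has a proper normal subgroup `K`, there are a prime `p` and a
`p`-subgroup `P` not inside `K` with `X = K * N_X(P)`.
-/

set_option autoImplicit false
set_option linter.style.haveILetI false
set_option linter.unusedSectionVars false

namespace Cfsg.Agent.Lib.helper3.GlS

theorem exists_p_step_type {X : Type*} [Group X] [Finite X] [Group.IsSolvable X]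
    (K : Subgroup X) [hKn : K.Normal] (hK : K ≠ ⊤) :
    ∃ p : ℕ, p.Prime ∧ ∃ P : Subgroup X, IsPGroup p P ∧ ¬ P ≤ K ∧
      ∀ x : X, ∃ k ∈ K, ∃ n ∈ Subgroup.normalizer (P : Set X), x = k * n := by
  classical
  have hne : (⊤ : Subgroup (X ⧸ K)) ≠ ⊥ := by
    intro h
    apply hK
    rw [eq_top_iff]
    intro x _
    have h1 : (QuotientGroup.mk x : X ⧸ K) ∈ (⊤ : Subgroup (X ⧸ K)) := Subgroup.mem_top _
    rw [h, Subgroup.mem_bot, QuotientGroup.eq_one_iff] at h1
    exact h1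
  obtain ⟨N, hNn, hNne, -, hNmin⟩ :=
    Cfsg.Agent.H1.exists_minimal_normal_le (⊤ : Subgroup (X ⧸ K)) hne
  haveI := hNn
  obtain ⟨-, p, hp, hexp⟩ := Cfsg.Agent.S0043.result N hNne hNmin
  haveI : Fact p.Prime := ⟨hp⟩
  obtain ⟨M, hM⟩ : ∃ M : Subgroup X, M = N.comap (QuotientGroup.mk' K) := ⟨_, rfl⟩
  haveI hMn : M.Normal := by
    rw [hM]
    infer_instance
  have hKM : K ≤ M := by
    intro k hk
    rw [hM, Subgroup.mem_comap]
    have h1 : (QuotientGroup.mk' K) k = 1 := (QuotientGroup.eq_one_iff k).mpr hk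
    rw [h1]
    exact N.one_mem
  have hpow : ∀ m ∈ M, m ^ p ∈ K := by
    intro m hm
    rw [hM, Subgroup.mem_comap] at hm
    have h1 := hexp _ hm
    rw [← map_pow] at h1
    exact (QuotientGroup.eq_one_iff _).mp h1
  obtain ⟨P⟩ : Nonempty (Sylow p M) := inferInstance
  obtain ⟨K₁, hK₁⟩ : ∃ K₁ : Subgroup M, K₁ = K.subgroupOf M := ⟨_, rfl⟩
  haveI hK₁n : K₁.Normal := by
    rw [hK₁]
    infer_instance
  -- the quotient of `M` by `K₁` is a `p`-group
  have hquot : IsPGroup p (M ⧸ K₁) := by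
    intro g
    induction g using QuotientGroup.induction_on with
    | H m =>
      refine ⟨1, ?_⟩
      rw [pow_one, ← QuotientGroup.mk_pow, QuotientGroup.eq_one_iff, hK₁,
        Subgroup.mem_subgroupOf]
      push_cast
      exact hpow m m.2
  obtain ⟨n, hn⟩ := IsPGroup.iff_card.mp hquot
  have hidx1 : K₁.index = p ^ n := by
    rw [Subgroup.index_eq_card, hn]
  have hU : K₁ ⊔ (P : Subgroup M) = ⊤ := by
    rw [← Subgroup.index_eq_one]
    have h1 : (K₁ ⊔ (P : Subgroup M)).index ∣ p ^ n :=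
      hidx1 ▸ Subgroup.index_dvd_of_le le_sup_left
    have h2 : (K₁ ⊔ (P : Subgroup M)).index ∣ (P : Subgroup M).index :=
      Subgroup.index_dvd_of_le le_sup_right
    obtain ⟨i, -, hi⟩ := (Nat.dvd_prime_pow hp).mp h1
    rcases Nat.eq_zero_or_pos i with h0 | hpos
    · rw [hi, h0, pow_zero]
    · exfalso
      apply P.not_dvd_index
      apply dvd_trans _ h2
      rw [hi]
      exact dvd_pow_self p hpos.ne'
  have hfr := Sylow.normalizer_sup_eq_top P
  refine ⟨p, hp, (P : Subgroup M).map M.subtype, P.2.map M.subtype, ?_, ?_⟩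
  · intro hle
    apply hNne
    have hPK : (P : Subgroup M) ≤ K₁ := by
      intro u hu
      rw [hK₁, Subgroup.mem_subgroupOf]
      exact hle ⟨u, hu, rfl⟩
    have hK₁top : K₁ = ⊤ := by
      rw [← hU]
      exact (sup_eq_left.mpr hPK).symm
    have hMK : M ≤ K := by
      intro m hm
      have h1 : (⟨m, hm⟩ : M) ∈ K₁ := by
        rw [hK₁top]
        exact Subgroup.mem_top _
      rw [hK₁, Subgroup.mem_subgroupOf] at h1
      exact h1
    rw [eq_bot_iff]
    intro y hy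
    obtain ⟨x, rfl⟩ := QuotientGroup.mk'_surjective K y
    have hxM : x ∈ M := by
      rw [hM, Subgroup.mem_comap]
      exact hy
    rw [Subgroup.mem_bot]
    exact (QuotientGroup.eq_one_iff x).mpr (hMK hxM)
  · intro x
    have hx : x ∈ ((Subgroup.normalizer
        (((P : Subgroup M).map M.subtype : Subgroup X) : Set X) ⊔ M : Subgroup X) : Set X) := by
      rw [hfr]
      exact Subgroup.mem_top x
    rw [Subgroup.mul_normal] at hx
    obtain ⟨y, hy, m, hm, rfl⟩ := Set.mem_mul.mp hx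
    have hm' : (⟨m, hm⟩ : M) ∈ ((K₁ ⊔ (P : Subgroup M) : Subgroup M) : Set M) := by
      rw [hU]
      exact Subgroup.mem_top _
    rw [Subgroup.normal_mul] at hm'
    obtain ⟨k, hk, u, hu, hku⟩ := Set.mem_mul.mp hm'
    have hkK : (k : X) ∈ K := by
      have := hk
      rw [SetLike.mem_coe, hK₁, Subgroup.mem_subgroupOf] at this
      exact this
    have hmeq : m = (k : X) * (u : X) := by
      have := congrArg (Subtype.val) hku
      simpa using this.symm
    refine ⟨y * k * y⁻¹, hKn.conj_mem _ hkK y, y * u, ?_, ?_⟩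
    · apply Subgroup.mul_mem _ hy
      apply Subgroup.le_normalizer
      exact ⟨u, hu, rfl⟩
    · rw [hmeq]
      group

/-- The step for a solvable subgroup `S` normalising, but not centralising, a subgroup `G`. -/
theorem exists_p_step {Γ : Type*} [Group Γ] [Finite Γ] (G S : Subgroup Γ)
    (hS : Group.IsSolvable S) (hnorm : S ≤ Subgroup.normalizer (G : Set Γ))
    (hnc : ¬ S ≤ Subgroup.centralizer (G : Set Γ)) :
    ∃ p : ℕ, p.Prime ∧ ∃ P : Subgroup Γ, P ≤ S ∧ IsPGroup p P ∧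
      ¬ P ≤ Subgroup.centralizer (G : Set Γ) ∧
      ∀ s ∈ S, ∃ k ∈ S, k ∈ Subgroup.centralizer (G : Set Γ) ∧
        ∃ n ∈ S, n ∈ Subgroup.normalizer (P : Set Γ) ∧ s = k * n := by
  classical
  obtain ⟨K, hK⟩ : ∃ K : Subgroup S, K = (Subgroup.centralizer (G : Set Γ)).subgroupOf S :=
    ⟨_, rfl⟩
  haveI hKn : K.Normal := by
    constructor
    intro k hk s
    rw [hK, Subgroup.mem_subgroupOf] at hk ⊢
    rw [Subgroup.mem_centralizer_iff] at hk ⊢
    intro g hg
    have hg' : (s : Γ)⁻¹ * g * (s : Γ)⁻¹⁻¹ ∈ G :=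
      (Subgroup.mem_normalizer_iff.mp (Subgroup.inv_mem _ (hnorm s.2)) g).mp hg
    have h1 := hk _ hg'
    push_cast
    calc g * ((s : Γ) * k * (s : Γ)⁻¹)
        = (s : Γ) * (((s : Γ)⁻¹ * g * (s : Γ)⁻¹⁻¹) * k) * (s : Γ)⁻¹ := by group
      _ = (s : Γ) * ((k : Γ) * ((s : Γ)⁻¹ * g * (s : Γ)⁻¹⁻¹)) * (s : Γ)⁻¹ := by rw [h1]
      _ = (s : Γ) * k * (s : Γ)⁻¹ * g := by group
  have hKtop : K ≠ ⊤ := by
    intro h
    apply hnc
    intro s hs
    have h1 : (⟨s, hs⟩ : S) ∈ K := by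
      rw [h]
      exact Subgroup.mem_top _
    rw [hK, Subgroup.mem_subgroupOf] at h1
    exact h1
  obtain ⟨p, hp, P₀, hP₀, hP₀K, hdec⟩ := exists_p_step_type K hKtop
  refine ⟨p, hp, P₀.map S.subtype, ?_, hP₀.map S.subtype, ?_, ?_⟩
  · rintro _ ⟨u, -, rfl⟩
    exact u.2
  · intro hle
    apply hP₀K
    intro u hu
    rw [hK, Subgroup.mem_subgroupOf]
    exact hle ⟨u, hu, rfl⟩
  · intro s hs
    obtain ⟨k, hk, n, hn, hskn⟩ := hdec ⟨s, hs⟩
    rw [hK, Subgroup.mem_subgroupOf] at hk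
    refine ⟨k, k.2, hk, n, n.2, ?_, ?_⟩
    · apply Subgroup.le_normalizer_map S.subtype
      exact ⟨n, hn, rfl⟩
    · have := congrArg (Subtype.val) hskn
      simpa using this

end Cfsg.Agent.Lib.helper3.GlS
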