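import Mathlib
import Cfsg.Agent.Lib.helper3.GlS1
import Cfsg.Agent.Lib.helper3.GlP5
import Cfsg.Agent.S4444

/-!
# Counting invariant irreducible characters under a solvable coprime operator group
-/

set_option autoImplicit false
set_option linter.style.haveILetI false
set_option linter.unusedSectionVars false

namespace Cfsg.Agent.Lib.helper3.GlS

open Cfsg Cfsg.Agent.Lib.helper3.Irr Cfsg.Agent.Lib.helper3.CharBasic
open Cfsg.Agent.Lib.helper3.Glaub Cfsg.Agent.Lib.helper3.GlP
open scoped ComplexConjugate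

/-- Two types related by a one-to-one correspondence have the same cardinality. -/
theorem card_eq_of_rel {α β : Type*} (R : α → β → Prop) (h1 : ∀ a, ∃ b, R a b)
    (h2 : ∀ b, ∃ a, R a b) (h3 : ∀ a b b', R a b → R a b' → b = b')
    (h4 : ∀ a a' b, R a b → R a' b → a = a') : Nat.card α = Nat.card β := by
  choose f hf using h1
  apply Nat.card_eq_of_bijective f
  constructor
  · intro a a' haa'
    exact h4 a a' (f a) (hf a) (haa' ▸ hf a')
  · intro b
    obtain ⟨a, ha⟩ := h2 b
    exact ⟨a, h3 a _ _ (hf a) ha⟩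

variable {Γ : Type*} [Group Γ]

/-- A subgroup whose elements conjugate `H` into itself lies in the normalizer. -/
theorem le_normalizer_of_conj (H K : Subgroup Γ) (h : ∀ k ∈ K, ∀ x ∈ H, k * x * k⁻¹ ∈ H) :
    K ≤ Subgroup.normalizer (H : Set Γ) := by
  intro s hs
  rw [Subgroup.mem_normalizer_iff]
  intro g
  constructor
  · intro hg
    exact h s hs g hg
  · intro hg
    have := h s⁻¹ (K.inv_mem hs) _ hg
    have h2 : s⁻¹ * (s * g * s⁻¹) * s⁻¹⁻¹ = g := by group
    rwa [h2] at this

/-- Invariance under `n` gives invariance under `k * n` when `k` centralises the subgroup. -/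
theorem invUnder_mul_of_centralizer (B : Subgroup Γ) (χ : B → ℂ) (k n : Γ)
    (hk : k ∈ Subgroup.centralizer (B : Set Γ)) (hn : n ∈ Subgroup.normalizer (B : Set Γ))
    (h : InvUnder B χ n) : InvUnder B χ (k * n) := by
  intro g g' hgg'
  apply h g g'
  have hmem : n * g * n⁻¹ ∈ B := (Subgroup.mem_normalizer_iff.mp hn g).mp g.2
  have hc := (Subgroup.mem_centralizer_iff.mp hk) _ hmem
  rw [hgg']
  calc k * n * g * (k * n)⁻¹ = k * (n * g * n⁻¹) * k⁻¹ := by group
    _ = (n * g * n⁻¹) * k * k⁻¹ := by rw [hc]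
    _ = n * g * n⁻¹ := by group

/-- Invariance under a centralising element is automatic. -/
theorem invUnder_of_centralizer (B : Subgroup Γ) (χ : B → ℂ) (k : Γ)
    (hk : k ∈ Subgroup.centralizer (B : Set Γ)) : InvUnder B χ k := by
  intro g g' hgg'
  apply congrArg χ
  apply Subtype.ext
  rw [hgg']
  have hc := (Subgroup.mem_centralizer_iff.mp hk) _ g.2
  calc k * g * k⁻¹ = (g : Γ) * k * k⁻¹ := by rw [hc]
    _ = g := by group

/-- The number of `S`-invariant irreducible characters of `G` is the number of irreducible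
characters of the fixed-point subgroup, for a solvable operator group of coprime order. -/
theorem card_inv_irr [Finite Γ] : ∀ (n : ℕ) (G : Subgroup Γ), Nat.card G = n →
    ∀ (S : Subgroup Γ), Group.IsSolvable S → S ≤ Subgroup.normalizer (G : Set Γ) →
    (Nat.card G).Coprime (Nat.card S) → ∀ (C : Subgroup Γ),
    C = G ⊓ Subgroup.centralizer (S : Set Γ) →
    Nat.card {χ : IrrCharacter G // ∀ s ∈ S, InvUnder G (χ : G → ℂ) s}
      = Nat.card (IrrCharacter C) := by
  classical
  letI : Fintype Γ := Fintype.ofFinite Γ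
  intro n
  induction n using Nat.strong_induction_on with
  | _ n ih =>
    intro G hn S hS hnorm hcop C hC
    by_cases hcen : S ≤ Subgroup.centralizer (G : Set Γ)
    · have hCG : C = G := by
        rw [hC]
        exact inf_eq_left.mpr (Subgroup.le_centralizer_iff.mp hcen)
      subst hCG
      exact Nat.card_congr (Equiv.subtypeUnivEquiv
        (fun χ s hs => invUnder_of_centralizer _ _ s (hcen hs)))
    · obtain ⟨p, hp, P, hPS, hPp, hPnc, hdec⟩ := exists_p_step G S hS hnorm hcen
      obtain ⟨B, hB⟩ : ∃ B : Subgroup Γ, B = G ⊓ Subgroup.centralizer (P : Set Γ) := ⟨_, rfl⟩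
      have hBG : B ≤ G := hB ▸ inf_le_left
      letI : Fintype G := Fintype.ofFinite G
      letI : Fintype B := Fintype.ofFinite B
      have hlt : Nat.card B < Nat.card G := by
        by_contra hge
        push Not at hge
        have hBeq : B = G := Subgroup.eq_of_le_of_card_ge hBG hge
        apply hPnc
        rw [Subgroup.le_centralizer_iff]
        intro g hg
        have : g ∈ B := hBeq ▸ hg
        exact (hB.le this).2
      -- elements of `S` normalising `P` normalise `B`
      have hconjB : ∀ m ∈ S, m ∈ Subgroup.normalizer (P : Set Γ) → ∀ b ∈ B, m * b * m⁻¹ ∈ B := by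
        intro m hm hmP b hb
        apply hB.ge
        refine ⟨(Subgroup.mem_normalizer_iff.mp (hnorm hm) b).mp (hBG hb), ?_⟩
        show m * b * m⁻¹ ∈ Subgroup.centralizer (P : Set Γ)
        rw [Subgroup.mem_centralizer_iff]
        intro u hu
        have hu' : m⁻¹ * u * m⁻¹⁻¹ ∈ P :=
          (Subgroup.mem_normalizer_iff.mp (Subgroup.inv_mem _ hmP) u).mp hu
        have hc := (Subgroup.mem_centralizer_iff.mp (hB.le hb).2) _ hu'
        calc u * (m * b * m⁻¹) = m * ((m⁻¹ * u * m⁻¹⁻¹) * b) * m⁻¹ := by group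
          _ = m * (b * (m⁻¹ * u * m⁻¹⁻¹)) * m⁻¹ := by rw [hc]
          _ = m * b * m⁻¹ * u := by group
      have hcenGB : Subgroup.centralizer (G : Set Γ) ≤ Subgroup.centralizer (B : Set Γ) :=
        Subgroup.centralizer_le hBG
      have hSB : S ≤ Subgroup.normalizer (B : Set Γ) := by
        apply le_normalizer_of_conj
        intro s hs b hb
        obtain ⟨k, hkS, hk, m, hmS, hm, rfl⟩ := hdec s hs
        have h1 := hconjB m hmS hm b hb
        have hc := (Subgroup.mem_centralizer_iff.mp (hcenGB hk)) _ h1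
        have : k * m * b * (k * m)⁻¹ = m * b * m⁻¹ := by
          calc k * m * b * (k * m)⁻¹ = k * (m * b * m⁻¹) * k⁻¹ := by group
            _ = (m * b * m⁻¹) * k * k⁻¹ := by rw [hc]
            _ = m * b * m⁻¹ := by group
        rw [this]
        exact h1
      have hcopB : (Nat.card B).Coprime (Nat.card S) :=
        Nat.Coprime.coprime_dvd_left (Subgroup.card_dvd_of_le hBG) hcop
      have hCB : C = B ⊓ Subgroup.centralizer (S : Set Γ) := by
        rw [hC, hB, inf_assoc]
        congr 1
        exact (inf_eq_right.mpr (Subgroup.centralizer_le hPS)).symm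
      have hIH := ih (Nat.card B) (hn ▸ hlt) B rfl S hS hSB hcopB C hCB
      rw [← hIH]
      -- the `P`-correspondence
      have hnormP : ∀ s ∈ P, ∀ g ∈ G, s * g * s⁻¹ ∈ G := by
        intro s hs g hg
        exact (Subgroup.mem_normalizer_iff.mp (hnorm (hPS hs)) g).mp hg
      have hcopP : (Nat.card G).Coprime (Nat.card P) :=
        Nat.Coprime.coprime_dvd_right (Subgroup.card_dvd_of_le hPS) hcop
      obtain ⟨hi, -, hiii, hiv⟩ := Cfsg.Agent.S4444.result G P hnormP hcopP p hp hPp B hB hBG
      letI := normAction G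
      letI := normAction B
      -- conjugation by normalising elements respects the relation
      have hrel : ∀ m (hmS : m ∈ S) (hm : m ∈ Subgroup.normalizer (P : Set Γ))
          (χ : IrrCharacter G) (β : IrrCharacter B),
          (∃ a : ℕ, classInner (fun c : B => (χ : G → ℂ) ⟨c, hBG c.2⟩) (β : B → ℂ) = (a : ℂ)
            ∧ ¬ p ∣ a) →
          (∃ a : ℕ, classInner (fun c : B =>
              (((⟨m, hnorm hmS⟩ : Subgroup.normalizer (G : Set Γ)) • χ : IrrCharacter G) : G → ℂ)
                ⟨c, hBG c.2⟩)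
              ((((⟨m, hSB hmS⟩ : Subgroup.normalizer (B : Set Γ)) • β : IrrCharacter B)) : B → ℂ)
                = (a : ℂ) ∧ ¬ p ∣ a) := by
        intro m hmS hm χ β ⟨a, ha, hpa⟩
        refine ⟨a, ?_, hpa⟩
        rw [← ha]
        exact classInner_restrict_smul G B hBG m (hnorm hmS) (hSB hmS) χ β
      apply card_eq_of_rel (fun (χ : {χ : IrrCharacter G // ∀ s ∈ S, InvUnder G (χ : G → ℂ) s})
        (β : {β : IrrCharacter B // ∀ s ∈ S, InvUnder B (β : B → ℂ) s}) =>
          ∃ a : ℕ, classInner (fun c : B => ((χ : IrrCharacter G) : G → ℂ) ⟨c, hBG c.2⟩)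
            ((β : IrrCharacter B) : B → ℂ) = (a : ℂ) ∧ ¬ p ∣ a)
      · rintro ⟨χ, hχ⟩
        obtain ⟨β, hβ, huniq⟩ := hi χ (fun s hs => hχ s (hPS hs))
        refine ⟨⟨β, ?_⟩, hβ⟩
        intro s hs
        obtain ⟨k, hkS, hk, m, hmS, hm, rfl⟩ := hdec s hs
        apply invUnder_mul_of_centralizer B _ k m (hcenGB hk) (hSB hmS)
        have h1 := hrel m hmS hm χ β hβ
        have h2 : ((⟨m, hnorm hmS⟩ : Subgroup.normalizer (G : Set Γ)) • χ : IrrCharacter G) = χ :=
          (invUnder_iff_smul G ⟨m, hnorm hmS⟩ χ).mpr (hχ m hmS)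
        rw [h2] at h1
        have h3 := huniq _ h1
        exact (invUnder_iff_smul B ⟨m, hSB hmS⟩ β).mp h3
      · rintro ⟨β, hβ⟩
        obtain ⟨χ, hχP, hχβ⟩ := hiv β
        refine ⟨⟨χ, ?_⟩, hχβ⟩
        intro s hs
        obtain ⟨k, hkS, hk, m, hmS, hm, rfl⟩ := hdec s hs
        apply invUnder_mul_of_centralizer G _ k m hk (hnorm hmS)
        have h1 := hrel m hmS hm χ β hχβ
        have h2 : ((⟨m, hSB hmS⟩ : Subgroup.normalizer (B : Set Γ)) • β : IrrCharacter B) = β :=
          (invUnder_iff_smul B ⟨m, hSB hmS⟩ β).mpr (hβ m hmS)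
        rw [h2] at h1
        have hinv' : ∀ t ∈ P, InvUnder G
            ((((⟨m, hnorm hmS⟩ : Subgroup.normalizer (G : Set Γ)) • χ : IrrCharacter G)) : G → ℂ)
            t := by
          apply invUnder_smul G P ⟨m, hnorm hmS⟩ _ χ hχP
          intro t ht
          have := (Subgroup.mem_normalizer_iff.mp (Subgroup.inv_mem _ hm) t).mp ht
          simpa using this
        obtain ⟨a, ha, hpa⟩ := h1
        obtain ⟨a', ha', hpa'⟩ := hχβ
        have h3 := hiii _ χ hinv' hχP β a a' ha hpa ha' hpa'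
        exact (invUnder_iff_smul G ⟨m, hnorm hmS⟩ χ).mp h3
      · rintro ⟨χ, hχ⟩ ⟨β, hβ⟩ ⟨β', hβ'⟩ h1 h2
        apply Subtype.ext
        obtain ⟨β₀, -, huniq⟩ := hi χ (fun s hs => hχ s (hPS hs))
        exact (huniq β h1).trans (huniq β' h2).symm
      · rintro ⟨χ, hχ⟩ ⟨χ', hχ'⟩ ⟨β, hβ⟩ ⟨a, ha, hpa⟩ ⟨a', ha', hpa'⟩
        apply Subtype.ext
        exact hiii χ χ' (fun s hs => hχ s (hPS hs)) (fun s hs => hχ' s (hPS hs)) β a a'
          ha hpa ha' hpa'

end Cfsg.Agent.Lib.helper3.GlS
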