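import Mathlib
import Cfsg.Prelude.Def_Characters
import Cfsg.Agent.Lib.helper3.GlO1
import Cfsg.Agent.Lib.helper3.GlO2
import Cfsg.Agent.Lib.helper3.GlS2
import Cfsg.Agent.Lib.helper3.Degrees
import Cfsg.Agent.S4444

/-!
# The correspondence for a `p`-group of operators respects constituents of restrictions to
invariant normal subgroups (forward direction)
-/

set_option autoImplicit false
set_option linter.style.haveILetI false
set_option linter.unusedSectionVars false

namespace Cfsg.Agent.Lib.helper3.GlO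

open Cfsg Cfsg.Agent.Lib.helper3.Irr Cfsg.Agent.Lib.helper3.CharBasic
open Cfsg.Agent.Lib.helper3.Glaub Cfsg.Agent.Lib.helper3.GlP Cfsg.Agent.Lib.helper3.GlS
open scoped ComplexConjugate

universe u

variable {Γ : Type u} [Group Γ]

/-- If the invariant character `θ'` of `N` lies under the invariant character `χ` of `G`, then
the correspondent of `θ'` lies under the correspondent of `χ`. -/
theorem constituent_of_correspondent [Fintype Γ] (p : ℕ) (hp : p.Prime) (G P N : Subgroup Γ)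
    [Fintype G] [Fintype N]
    (hnormG : ∀ s ∈ P, ∀ g ∈ G, s * g * s⁻¹ ∈ G) (hNG : N ≤ G) [hNn : (N.subgroupOf G).Normal]
    (hnormN : ∀ s ∈ P, ∀ n ∈ N, s * n * s⁻¹ ∈ N)
    (hcop : (Nat.card G).Coprime (Nat.card P)) (hP : IsPGroup p P) (hpG : ¬ p ∣ Nat.card G)
    (B N₁ : Subgroup Γ) [Fintype B] [Fintype N₁]
    (hB : B = G ⊓ Subgroup.centralizer (P : Set Γ))
    (hN₁ : N₁ = N ⊓ Subgroup.centralizer (P : Set Γ)) (hBG : B ≤ G) (hN₁N : N₁ ≤ N)
    (hN₁B : N₁ ≤ B)
    (χ : IrrCharacter G) (hχ : ∀ s ∈ P, InvUnder G (χ : G → ℂ) s)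
    (β : IrrCharacter B) (m : ℕ)
    (hβ : classInner (fun c : B => (χ : G → ℂ) ⟨c, hBG c.2⟩) (β : B → ℂ) = m) (hm : ¬ p ∣ m)
    (θ' : IrrCharacter N) (hθ' : ∀ s ∈ P, InvUnder N (θ' : N → ℂ) s)
    (hover : classInner (fun n : N => (χ : G → ℂ) ⟨n, hNG n.2⟩) (θ' : N → ℂ) ≠ 0)
    (θs : IrrCharacter N₁) (m' : ℕ)
    (hθs : classInner (fun c : N₁ => (θ' : N → ℂ) ⟨c, hN₁N c.2⟩) (θs : N₁ → ℂ) = m')
    (hm' : ¬ p ∣ m') :
    classInner (fun c : N₁ => (β : B → ℂ) ⟨c, hN₁B c.2⟩) (θs : N₁ → ℂ) ≠ 0 := by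
  classical
  haveI : Fact p.Prime := ⟨hp⟩
  intro hzero
  have hχc := isCharacter_of_isIrrCharacter χ.2
  -- multiplicities as natural numbers
  have hnatB : ∀ ψ : IrrCharacter B, ∃ a : ℕ,
      classInner (fun c : B => (χ : G → ℂ) ⟨c, hBG c.2⟩) (ψ : B → ℂ) = a := fun ψ =>
    exists_nat_classInner_of_isCharacter (isCharacter_comp hχc (Subgroup.inclusion hBG)) ψ
  choose a ha using hnatB
  have hnatB' : ∀ ψ : IrrCharacter B, ∃ b : ℕ,
      classInner (fun c : N₁ => (ψ : B → ℂ) ⟨c, hN₁B c.2⟩) (θs : N₁ → ℂ) = b := fun ψ =>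
    exists_nat_classInner_of_isCharacter
      (isCharacter_comp (isCharacter_of_isIrrCharacter ψ.2) (Subgroup.inclusion hN₁B)) θs
  choose b hb using hnatB'
  have hnatN : ∀ η : IrrCharacter N, ∃ c : ℕ,
      classInner (fun n : N => (χ : G → ℂ) ⟨n, hNG n.2⟩) (η : N → ℂ) = c := fun η =>
    exists_nat_classInner_of_isCharacter (isCharacter_comp hχc (Subgroup.inclusion hNG)) η
  choose c hc using hnatN
  have hnatN' : ∀ η : IrrCharacter N, ∃ d : ℕ,
      classInner (fun x : N₁ => (η : N → ℂ) ⟨x, hN₁N x.2⟩) (θs : N₁ → ℂ) = d := fun η =>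
    exists_nat_classInner_of_isCharacter
      (isCharacter_comp (isCharacter_of_isIrrCharacter η.2) (Subgroup.inclusion hN₁N)) θs
  choose d hd using hnatN'
  have hW1 := classInner_restrict_stages G B N₁ hN₁B hBG (χ : G → ℂ) hχc (θs : N₁ → ℂ)
  have hW2 := classInner_restrict_stages G N N₁ hN₁N hNG (χ : G → ℂ) hχc (θs : N₁ → ℂ)
  have hsum : ∑ ψ, a ψ * b ψ = ∑ η, c η * d η := by
    have h1 : ((∑ ψ, a ψ * b ψ : ℕ) : ℂ) = ((∑ η, c η * d η : ℕ) : ℂ) := by
      push_cast
      simp_rw [← ha, ← hb, ← hc, ← hd]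
      rw [← hW1, ← hW2]
    exact_mod_cast h1
  -- the first way
  obtain ⟨hi, -, -, -⟩ := Cfsg.Agent.S4444.result G P hnormG hcop p hp hP B hB hBG
  obtain ⟨β₀, hβ₀, huniq⟩ := hi χ hχ
  have hββ₀ : β = β₀ := huniq β ⟨m, hβ, hm⟩
  have hdiv : ∀ ψ, ψ ≠ β → p ∣ a ψ := by
    intro ψ hψ
    by_contra hnd
    exact hψ ((huniq ψ ⟨a ψ, ha ψ, hnd⟩).trans hββ₀.symm)
  have hbβ : b β = 0 := by
    have := hb β
    rw [hzero] at this
    exact_mod_cast this.symm
  have hX1 : p ∣ ∑ ψ, a ψ * b ψ := by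
    apply Finset.dvd_sum
    intro ψ _
    by_cases h : ψ = β
    · rw [h, hbβ, mul_zero]; exact dvd_zero _
    · exact Dvd.dvd.mul_right (hdiv ψ h) _
  -- the second way
  have hPM : P ≤ Subgroup.normalizer (N : Set Γ) := le_normalizer_of_conj N P hnormN
  letI := normAction N
  letI actP : MulAction P (IrrCharacter N) :=
    MulAction.compHom (IrrCharacter N) (Subgroup.inclusion hPM)
  have hsmul : ∀ (s : P) (η : IrrCharacter N), s • η = (Subgroup.inclusion hPM s) • η :=
    fun _ _ => rfl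
  have hcinv : ∀ (s : P) (η : IrrCharacter N), c (s • η) = c η := by
    intro s η
    have h1 := classInner_normAction N (Subgroup.inclusion hPM s)
      (fun n : N => (χ : G → ℂ) ⟨n, hNG n.2⟩) (by
        intro n
        exact hχ (s : Γ)⁻¹ (P.inv_mem s.2) ⟨n, hNG n.2⟩ _ (by
          rw [conjN_apply]
          rfl)) η
    rw [← hsmul, hc, hc] at h1
    exact_mod_cast h1
  have hdinv : ∀ (s : P) (η : IrrCharacter N), d (s • η) = d η := by
    intro s η
    have h1 : (fun x : N₁ => ((s • η : IrrCharacter N) : N → ℂ) ⟨x, hN₁N x.2⟩)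
        = fun x : N₁ => (η : N → ℂ) ⟨x, hN₁N x.2⟩ := by
      funext x
      rw [hsmul]
      apply smul_apply_of_commute N (Subgroup.inclusion hPM s) η
      have hx : (x : Γ) ∈ Subgroup.centralizer (P : Set Γ) := (hN₁.le x.2).2
      exact ((Subgroup.mem_centralizer_iff.mp hx) (s : Γ) s.2)
    have h2 := hd (s • η)
    rw [h1, hd] at h2
    exact_mod_cast h2.symm
  have hfinv : ∀ (s : P) (η : IrrCharacter N), c (s • η) * d (s • η) = c η * d η := by
    intro s η
    rw [hcinv, hdinv]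
  have hmod := sum_modEq_sum_fixedPoints p hP (fun η : IrrCharacter N => c η * d η) hfinv
  -- the fixed characters other than `θ'` contribute multiples of `p`
  obtain ⟨-, -, hiii, -⟩ := Cfsg.Agent.S4444.result N P hnormN
    (Nat.Coprime.coprime_dvd_left (Subgroup.card_dvd_of_le hNG) hcop) p hp hP N₁ hN₁ hN₁N
  have hfixed_iff : ∀ η : IrrCharacter N, (∀ s : P, s • η = η) ↔
      ∀ s ∈ P, InvUnder N (η : N → ℂ) s := by
    intro η
    constructor
    · intro h s hs
      have := h ⟨s, hs⟩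
      rw [hsmul] at this
      exact (invUnder_iff_smul N _ η).mp this
    · intro h s
      rw [hsmul]
      exact (invUnder_iff_smul N _ η).mpr (h s s.2)
  have hθ'fix : ∀ s : P, s • θ' = θ' := (hfixed_iff θ').mpr hθ'
  have hdθ' : d θ' = m' := by
    have := hd θ'
    rw [hθs] at this
    exact_mod_cast this.symm
  have hX2 : ∑ η ∈ Finset.univ.filter (fun η : IrrCharacter N => ∀ s : P, s • η = η),
      c η * d η ≡ c θ' * d θ' [MOD p] := by
    have hmem : θ' ∈ Finset.univ.filter (fun η : IrrCharacter N => ∀ s : P, s • η = η) := by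
      simp only [Finset.mem_filter, Finset.mem_univ, true_and]
      exact hθ'fix
    rw [← Finset.add_sum_erase _ _ hmem]
    have hrest : p ∣ ∑ η ∈ (Finset.univ.filter
        (fun η : IrrCharacter N => ∀ s : P, s • η = η)).erase θ', c η * d η := by
      apply Finset.dvd_sum
      intro η hη
      rw [Finset.mem_erase, Finset.mem_filter] at hη
      obtain ⟨hne, -, hfix⟩ := hη
      apply Dvd.dvd.mul_left
      by_contra hnd
      apply hne
      exact hiii η θ' ((hfixed_iff η).mp hfix) hθ' θs (d η) m' (hd η) hnd hθs hm'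
    have : (c θ' * d θ' + ∑ η ∈ (Finset.univ.filter
        (fun η : IrrCharacter N => ∀ s : P, s • η = η)).erase θ', c η * d η)
        ≡ c θ' * d θ' + 0 [MOD p] :=
      Nat.ModEq.add_left _ ((Nat.modEq_zero_iff_dvd).mpr hrest)
    simpa using this
  -- the multiplicity of `θ'` is prime to `p`
  have hGM : G ≤ Subgroup.normalizer (N : Set Γ) := by
    apply le_normalizer_of_conj
    intro g hg n hn
    have := hNn.conj_mem ⟨n, hNG hn⟩ (Subgroup.mem_subgroupOf.2 hn) ⟨g, hg⟩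
    exact Subgroup.mem_subgroupOf.1 this
  obtain ⟨-, e, c₀, he0, he, hc₀, hedvd⟩ := clifford_sub G N hNG hGM χ θ' hover
  have hcθ' : c θ' = e := by
    have := hc θ'
    rw [he] at this
    exact_mod_cast this.symm
  obtain ⟨n₀, hn₀, hn₀dvd, -⟩ := Cfsg.Agent.Lib.helper3.Central.irr_degree_dvd_card χ.2
  have hc₀n₀ : c₀ = n₀ := by
    have : (c₀ : ℂ) = n₀ := by rw [← hc₀, ← hn₀]
    exact_mod_cast this
  have hpe : ¬ p ∣ e := fun h => hpG (dvd_trans h (dvd_trans hedvd (hc₀n₀ ▸ hn₀dvd)))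
  have hpprod : ¬ p ∣ c θ' * d θ' := by
    rw [hcθ', hdθ']
    intro h
    rcases (Nat.Prime.dvd_mul hp).mp h with h | h
    · exact hpe h
    · exact hm' h
  apply hpprod
  rw [← Nat.modEq_zero_iff_dvd]
  have h1 : ∑ η, c η * d η ≡ 0 [MOD p] := by
    rw [← hsum]
    exact (Nat.modEq_zero_iff_dvd).mpr hX1
  exact hX2.symm.trans (hmod.symm.trans h1)

end Cfsg.Agent.Lib.helper3.GlO
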