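import Mathlib
import Cfsg.Prelude.Def_Characters
import Cfsg.Agent.Lib.helper3.GlO3
import Cfsg.Agent.Lib.helper3.Clifford2
import Cfsg.Agent.S4447

/-!
# The correspondence for a `p`-group of operators respects constituents of restrictions to
invariant normal subgroups (backward direction)
-/

set_option autoImplicit false
set_option linter.style.haveILetI false
set_option linter.unusedSectionVars false

namespace Cfsg.Agent.Lib.helper3.GlO

open Cfsg Cfsg.Agent.Lib.helper3.Irr Cfsg.Agent.Lib.helper3.CharBasic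
open Cfsg.Agent.Lib.helper3.Glaub Cfsg.Agent.Lib.helper3.GlP Cfsg.Agent.Lib.helper3.GlS
open scoped ComplexConjugate

universe u

variable {Γ : Type u} [Group Γ]

/-- Every irreducible character of a subgroup lies under an irreducible character. -/
theorem exists_over_sub [Fintype Γ] (G N : Subgroup Γ) [Fintype G] [Fintype N] (hNG : N ≤ G)
    [hNn : (N.subgroupOf G).Normal] (θ : IrrCharacter N) :
    ∃ χ : IrrCharacter G,
      classInner (fun n : N => (χ : G → ℂ) ⟨n, hNG n.2⟩) (θ : N → ℂ) ≠ 0 := by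
  classical
  letI : Fintype (N.subgroupOf G) := Fintype.ofFinite _
  obtain ⟨e, he⟩ : ∃ e : N.subgroupOf G ≃* N, e = Subgroup.subgroupOfEquivOfLe hNG := ⟨_, rfl⟩
  have hecoe : ∀ x : N.subgroupOf G, ((e x : N) : Γ) = ((x : G) : Γ) := by
    intro x
    rw [he]
    rfl
  have hres' : ∀ χ : IrrCharacter G, (fun x : N.subgroupOf G => (χ : G → ℂ) x)
      = fun x => (fun n : N => (χ : G → ℂ) ⟨n, hNG n.2⟩) (e x) := by
    intro χ
    funext x
    simp only
    apply congrArg (χ : G → ℂ)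
    apply Subtype.ext
    exact (hecoe x).symm
  obtain ⟨χ, hχ⟩ := exists_irr_over (N.subgroupOf G) (fun x => (θ : N → ℂ) (e x))
    (isIrrCharacter_comp_mulEquiv e θ.2)
  refine ⟨χ, ?_⟩
  rw [hres' χ] at hχ
  rw [← classInner_comp_mulEquiv e (fun n : N => (χ : G → ℂ) ⟨n, hNG n.2⟩) (θ : N → ℂ)]
  exact hχ

/-- If the correspondent of the invariant character `θ` of `N` lies under the correspondent of
the invariant character `χ` of `G`, then `θ` lies under `χ`. -/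
theorem over_of_correspondent_over [Fintype Γ] (p : ℕ) (hp : p.Prime) (G P N : Subgroup Γ)
    [Fintype G] [Fintype N]
    (hnormG : ∀ s ∈ P, ∀ g ∈ G, s * g * s⁻¹ ∈ G) (hNG : N ≤ G) [hNn : (N.subgroupOf G).Normal]
    (hnormN : ∀ s ∈ P, ∀ n ∈ N, s * n * s⁻¹ ∈ N)
    (hcop : (Nat.card G).Coprime (Nat.card P)) (hP : IsPGroup p P) (hpG : ¬ p ∣ Nat.card G)
    (B N₁ : Subgroup Γ) [Fintype B] [Fintype N₁]
    (hB : B = G ⊓ Subgroup.centralizer (P : Set Γ))
    (hN₁ : N₁ = N ⊓ Subgroup.centralizer (P : Set Γ)) (hBG : B ≤ G) (hN₁N : N₁ ≤ N)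
    (hN₁B : N₁ ≤ B)
    (χ : IrrCharacter G) (hχ : ∀ s ∈ P, InvUnder G (χ : G → ℂ) s)
    (β : IrrCharacter B) (m : ℕ)
    (hβ : classInner (fun c : B => (χ : G → ℂ) ⟨c, hBG c.2⟩) (β : B → ℂ) = m) (hm : ¬ p ∣ m)
    (θ : IrrCharacter N) (hθ : ∀ s ∈ P, InvUnder N (θ : N → ℂ) s)
    (θs : IrrCharacter N₁) (m' : ℕ)
    (hθs : classInner (fun c : N₁ => (θ : N → ℂ) ⟨c, hN₁N c.2⟩) (θs : N₁ → ℂ) = m')
    (hm' : ¬ p ∣ m')
    (hover : classInner (fun c : N₁ => (β : B → ℂ) ⟨c, hN₁B c.2⟩) (θs : N₁ → ℂ) ≠ 0) :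
    classInner (fun n : N => (χ : G → ℂ) ⟨n, hNG n.2⟩) (θ : N → ℂ) ≠ 0 := by
  classical
  haveI : Fact p.Prime := ⟨hp⟩
  have hGconj : ∀ g ∈ G, ∀ n ∈ N, g * n * g⁻¹ ∈ N := by
    intro g hg n hn
    have := hNn.conj_mem ⟨n, hNG hn⟩ (Subgroup.mem_subgroupOf.2 hn) ⟨g, hg⟩
    exact Subgroup.mem_subgroupOf.1 this
  have hGM : G ≤ Subgroup.normalizer (N : Set Γ) := le_normalizer_of_conj N G hGconj
  -- `N₁` is normal in `B`
  have hBconj : ∀ b ∈ B, ∀ n ∈ N₁, b * n * b⁻¹ ∈ N₁ := by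
    intro b hb n hn
    apply hN₁.ge
    refine ⟨hGconj b (hBG hb) n (hN₁N hn), ?_⟩
    have hbc : b ∈ Subgroup.centralizer (P : Set Γ) := (hB.le hb).2
    have hnc : n ∈ Subgroup.centralizer (P : Set Γ) := (hN₁.le hn).2
    exact Subgroup.mul_mem _ (Subgroup.mul_mem _ hbc hnc) (Subgroup.inv_mem _ hbc)
  haveI hN₁n : (N₁.subgroupOf B).Normal := by
    constructor
    intro n hn b
    rw [Subgroup.mem_subgroupOf] at hn ⊢
    exact hBconj b b.2 n hn
  have hBM₁ : B ≤ Subgroup.normalizer (N₁ : Set Γ) := le_normalizer_of_conj N₁ B hBconj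
  -- an invariant constituent of the restriction of `χ`
  have hcopN : (N.relIndex G).Coprime (Nat.card P) :=
    Nat.Coprime.coprime_dvd_left (Subgroup.relIndex_dvd_card N G) hcop
  haveI : Group.IsNilpotent P := hP.isNilpotent
  have hPsolv : Group.IsSolvable P := inferInstance
  obtain ⟨θ', hθ'over, hθ'inv⟩ := Cfsg.Agent.S4447.result G P N hnormG hNG hnormN hcopN
    (Or.inl hPsolv) χ hχ
  -- its correspondent
  have hcopNP : (Nat.card N).Coprime (Nat.card P) :=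
    Nat.Coprime.coprime_dvd_left (Subgroup.card_dvd_of_le hNG) hcop
  obtain ⟨hi, -, hiii, -⟩ := Cfsg.Agent.S4444.result N P hnormN hcopNP p hp hP N₁ hN₁ hN₁N
  obtain ⟨θ's, ⟨m'', hθ's, hm''⟩, -⟩ := hi θ' hθ'inv
  have hfw := constituent_of_correspondent p hp G P N hnormG hNG hnormN hcop hP hpG B N₁ hB hN₁
    hBG hN₁N hN₁B χ hχ β m hβ hm θ' hθ'inv hθ'over θ's m'' hθ's hm''
  -- conjugacy in `B`
  letI := normAction N
  letI := normAction N₁
  obtain ⟨hconj, -⟩ := clifford_sub B N₁ hN₁B hBM₁ β θs hover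
  obtain ⟨c, hc⟩ := hconj θ's hfw
  have hcN : (c : Γ) ∈ Subgroup.normalizer (N : Set Γ) := hGM (hBG c.2)
  have hcN₁ : (c : Γ) ∈ Subgroup.normalizer (N₁ : Set Γ) := hBM₁ c.2
  have hcP : (c : Γ) ∈ Subgroup.centralizer (P : Set Γ) := (hB.le c.2).2
  -- the conjugate of `θ`
  have h1 := classInner_restrict_smul N N₁ hN₁N (c : Γ) hcN hcN₁ θ θs
  have hc' : ((⟨(c : Γ), hcN₁⟩ : Subgroup.normalizer (N₁ : Set Γ)) • θs : IrrCharacter N₁)
      = θ's := hc
  rw [hc', hθs] at h1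
  have hinvc : ∀ t ∈ P, InvUnder N
      ((((⟨(c : Γ), hcN⟩ : Subgroup.normalizer (N : Set Γ)) • θ : IrrCharacter N)) : N → ℂ) t := by
    apply invUnder_smul N P ⟨(c : Γ), hcN⟩ _ θ hθ
    intro t ht
    have h2 := (Subgroup.mem_centralizer_iff.mp hcP) t ht
    have h3 : (c : Γ)⁻¹ * t * (c : Γ) = t := by
      rw [mul_assoc, h2, ← mul_assoc, inv_mul_cancel, one_mul]
    show (c : Γ)⁻¹ * t * (c : Γ) ∈ P
    rw [h3]
    exact ht
  have heq := hiii _ θ' hinvc hθ'inv θ's m' m'' h1 hm' hθ's hm''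
  -- the multiplicity in `χ` is unchanged by conjugation
  have h4 := classInner_normAction N (⟨(c : Γ), hcN⟩ : Subgroup.normalizer (N : Set Γ))
    (fun n : N => (χ : G → ℂ) ⟨n, hNG n.2⟩) (by
      intro n
      have hcf := isClassFunction_of_isCharacter (isCharacter_of_isIrrCharacter χ.2)
      have h5 : (⟨((conjN N (⟨(c : Γ), hcN⟩ : Subgroup.normalizer (N : Set Γ))⁻¹ n : N) : Γ),
          hNG (conjN N _ n).2⟩ : G)
          = (⟨(c : Γ), hBG c.2⟩ : G)⁻¹ * ⟨n, hNG n.2⟩ * (⟨(c : Γ), hBG c.2⟩ : G)⁻¹⁻¹ := by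
        apply Subtype.ext
        rw [conjN_apply]
        push_cast
        rfl
      show (χ : G → ℂ) ⟨((conjN N (⟨(c : Γ), hcN⟩ : Subgroup.normalizer (N : Set Γ))⁻¹ n : N) : Γ),
          hNG (conjN N _ n).2⟩ = (χ : G → ℂ) ⟨n, hNG n.2⟩
      rw [h5]
      exact hcf _ _) θ
  rw [heq] at h4
  rw [← h4]
  exact hθ'over

end Cfsg.Agent.Lib.helper3.GlO
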