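import Mathlib
import Cfsg.Prelude.Def_Characters
import Cfsg.Agent.Lib.helper3.GlO4
import Cfsg.Agent.Lib.helper3.GlS1

/-!
# Invariant characters over an invariant character: coprime solvable operator groups
-/

set_option autoImplicit false
set_option linter.style.haveILetI false
set_option linter.unusedSectionVars false

namespace Cfsg.Agent.Lib.helper3.GlO

open Cfsg Cfsg.Agent.Lib.helper3.Irr Cfsg.Agent.Lib.helper3.CharBasic
open Cfsg.Agent.Lib.helper3.Glaub Cfsg.Agent.Lib.helper3.GlP Cfsg.Agent.Lib.helper3.GlS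
open scoped ComplexConjugate

universe u

variable {Γ : Type u} [Group Γ]

/-- Conjugation by a normalising element preserves `H ⊓ C(P)`. -/
theorem conj_mem_inf_centralizer (H P : Subgroup Γ) (m : Γ)
    (hmH : ∀ x ∈ H, m * x * m⁻¹ ∈ H) (hmP : m ∈ Subgroup.normalizer (P : Set Γ)) :
    ∀ x ∈ H ⊓ Subgroup.centralizer (P : Set Γ),
      m * x * m⁻¹ ∈ H ⊓ Subgroup.centralizer (P : Set Γ) := by
  intro b hb
  refine ⟨hmH b hb.1, ?_⟩
  show m * b * m⁻¹ ∈ Subgroup.centralizer (P : Set Γ)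
  rw [Subgroup.mem_centralizer_iff]
  intro u hu
  have hu' : m⁻¹ * u * m⁻¹⁻¹ ∈ P :=
    (Subgroup.mem_normalizer_iff.mp (Subgroup.inv_mem _ hmP) u).mp hu
  have hc := (Subgroup.mem_centralizer_iff.mp hb.2) _ hu'
  calc u * (m * b * m⁻¹) = m * ((m⁻¹ * u * m⁻¹⁻¹) * b) * m⁻¹ := by group
    _ = m * (b * (m⁻¹ * u * m⁻¹⁻¹)) * m⁻¹ := by rw [hc]
    _ = m * b * m⁻¹ * u := by group

/-- Conjugation by `k * m` agrees with conjugation by `m` when `k` centralises the result. -/
theorem conj_mul_eq_of_centralizer (G : Subgroup Γ) (k m x : Γ)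
    (hk : k ∈ Subgroup.centralizer (G : Set Γ)) (hx : m * x * m⁻¹ ∈ G) :
    k * m * x * (k * m)⁻¹ = m * x * m⁻¹ := by
  have hc := (Subgroup.mem_centralizer_iff.mp hk) _ hx
  calc k * m * x * (k * m)⁻¹ = k * (m * x * m⁻¹) * k⁻¹ := by group
    _ = (m * x * m⁻¹) * k * k⁻¹ := by rw [hc]
    _ = m * x * m⁻¹ := by group

/-- **Isaacs 13.31** for a solvable operator group of coprime order. -/
theorem exists_invariant_over_coprime [Fintype Γ] : ∀ (n : ℕ) (G : Subgroup Γ) [Fintype G],
    Nat.card G = n → ∀ (S : Subgroup Γ), Group.IsSolvable S →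
    S ≤ Subgroup.normalizer (G : Set Γ) → (Nat.card G).Coprime (Nat.card S) →
    ∀ (N : Subgroup Γ) [Fintype N] (hNG : N ≤ G), (N.subgroupOf G).Normal →
    (∀ s ∈ S, ∀ n ∈ N, s * n * s⁻¹ ∈ N) →
    ∀ θ : IrrCharacter N, (∀ s ∈ S, InvUnder N (θ : N → ℂ) s) →
    ∃ χ : IrrCharacter G,
      classInner (fun n : N => (χ : G → ℂ) ⟨n, hNG n.2⟩) (θ : N → ℂ) ≠ 0 ∧
      ∀ s ∈ S, InvUnder G (χ : G → ℂ) s := by
  classical
  intro n
  induction n using Nat.strong_induction_on with
  | _ n ih =>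
    intro G _ hn S hS hnorm hcop N _ hNG hNn hNS θ hθ
    haveI := hNn
    by_cases hcen : S ≤ Subgroup.centralizer (G : Set Γ)
    · obtain ⟨χ, hχ⟩ := exists_over_sub G N hNG θ
      exact ⟨χ, hχ, fun s hs => invUnder_of_centralizer _ _ s (hcen hs)⟩
    · obtain ⟨p, hp, P, hPS, hPp, hPnc, hdec⟩ := exists_p_step G S hS hnorm hcen
      haveI : Fact p.Prime := ⟨hp⟩
      obtain ⟨B, hB⟩ : ∃ B : Subgroup Γ, B = G ⊓ Subgroup.centralizer (P : Set Γ) := ⟨_, rfl⟩
      obtain ⟨N₁, hN₁⟩ : ∃ N₁ : Subgroup Γ, N₁ = N ⊓ Subgroup.centralizer (P : Set Γ) :=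
        ⟨_, rfl⟩
      have hBG : B ≤ G := hB ▸ inf_le_left
      have hN₁N : N₁ ≤ N := hN₁ ▸ inf_le_left
      have hN₁B : N₁ ≤ B := by
        rw [hB, hN₁]
        exact inf_le_inf_right _ hNG
      letI : Fintype B := Fintype.ofFinite B
      letI : Fintype N₁ := Fintype.ofFinite N₁
      have hlt : Nat.card B < Nat.card G := by
        by_contra hge
        push Not at hge
        have hBeq : B = G := Subgroup.eq_of_le_of_card_ge hBG hge
        apply hPnc
        rw [Subgroup.le_centralizer_iff]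
        intro g hg
        have : g ∈ B := hBeq ▸ hg
        exact (hB.le this).2
      have hGconj : ∀ s ∈ S, ∀ g ∈ G, s * g * s⁻¹ ∈ G := by
        intro s hs g hg
        exact (Subgroup.mem_normalizer_iff.mp (hnorm hs) g).mp hg
      have hGNconj : ∀ g ∈ G, ∀ n ∈ N, g * n * g⁻¹ ∈ N := by
        intro g hg n hn
        have := hNn.conj_mem ⟨n, hNG hn⟩ (Subgroup.mem_subgroupOf.2 hn) ⟨g, hg⟩
        exact Subgroup.mem_subgroupOf.1 this
      -- `S` normalises `B` and `N₁`
      have hSconjB : ∀ s ∈ S, ∀ b ∈ B, s * b * s⁻¹ ∈ B := by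
        intro s hs b hb
        obtain ⟨k, hkS, hk, m, hmS, hm, rfl⟩ := hdec s hs
        have h1 : m * b * m⁻¹ ∈ B := by
          rw [hB] at hb ⊢
          exact conj_mem_inf_centralizer G P m (hGconj m hmS) hm b hb
        rw [conj_mul_eq_of_centralizer G k m b hk (hBG h1)]
        exact h1
      have hSconjN₁ : ∀ s ∈ S, ∀ b ∈ N₁, s * b * s⁻¹ ∈ N₁ := by
        intro s hs b hb
        obtain ⟨k, hkS, hk, m, hmS, hm, rfl⟩ := hdec s hs
        have h1 : m * b * m⁻¹ ∈ N₁ := by
          rw [hN₁] at hb ⊢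
          exact conj_mem_inf_centralizer N P m (hNS m hmS) hm b hb
        rw [conj_mul_eq_of_centralizer G k m b hk (hNG (hN₁N h1))]
        exact h1
      have hSB : S ≤ Subgroup.normalizer (B : Set Γ) := le_normalizer_of_conj B S hSconjB
      have hSN : S ≤ Subgroup.normalizer (N : Set Γ) := le_normalizer_of_conj N S hNS
      have hSN₁ : S ≤ Subgroup.normalizer (N₁ : Set Γ) := le_normalizer_of_conj N₁ S hSconjN₁
      have hcenGB : Subgroup.centralizer (G : Set Γ) ≤ Subgroup.centralizer (B : Set Γ) :=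
        Subgroup.centralizer_le hBG
      have hcenGN : Subgroup.centralizer (G : Set Γ) ≤ Subgroup.centralizer (N : Set Γ) :=
        Subgroup.centralizer_le hNG
      have hcenGN₁ : Subgroup.centralizer (G : Set Γ) ≤ Subgroup.centralizer (N₁ : Set Γ) :=
        Subgroup.centralizer_le (hN₁N.trans hNG)
      have hcopB : (Nat.card B).Coprime (Nat.card S) :=
        Nat.Coprime.coprime_dvd_left (Subgroup.card_dvd_of_le hBG) hcop
      -- `N₁` is normal in `B`
      have hBconj : ∀ b ∈ B, ∀ n ∈ N₁, b * n * b⁻¹ ∈ N₁ := by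
        intro b hb n hn
        apply hN₁.ge
        refine ⟨hGNconj b (hBG hb) n (hN₁N hn), ?_⟩
        have hbc : b ∈ Subgroup.centralizer (P : Set Γ) := (hB.le hb).2
        have hnc : n ∈ Subgroup.centralizer (P : Set Γ) := (hN₁.le hn).2
        exact Subgroup.mul_mem _ (Subgroup.mul_mem _ hbc hnc) (Subgroup.inv_mem _ hbc)
      have hN₁n : (N₁.subgroupOf B).Normal := by
        constructor
        intro n hn b
        rw [Subgroup.mem_subgroupOf] at hn ⊢
        exact hBconj b b.2 n hn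
      -- the `P`-correspondences
      have hnormP : ∀ s ∈ P, ∀ g ∈ G, s * g * s⁻¹ ∈ G := fun s hs => hGconj s (hPS hs)
      have hnormPN : ∀ s ∈ P, ∀ n ∈ N, s * n * s⁻¹ ∈ N := fun s hs => hNS s (hPS hs)
      have hcopP : (Nat.card G).Coprime (Nat.card P) :=
        Nat.Coprime.coprime_dvd_right (Subgroup.card_dvd_of_le hPS) hcop
      have hcopNP : (Nat.card N).Coprime (Nat.card P) :=
        Nat.Coprime.coprime_dvd_left (Subgroup.card_dvd_of_le hNG) hcopP
      have hpG : ¬ p ∣ Nat.card G := by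
        intro hdvd
        have hPne : P ≠ ⊥ := by
          intro h
          apply hPnc
          rw [h]
          exact bot_le
        obtain ⟨k, hk⟩ := IsPGroup.iff_card.mp hPp
        have hk0 : k ≠ 0 := by
          intro h0
          rw [h0, pow_zero] at hk
          exact hPne (Subgroup.eq_bot_of_card_eq P hk)
        have hpP : p ∣ Nat.card P := by
          rw [hk]
          exact dvd_pow_self p hk0
        have := Nat.eq_one_of_dvd_coprimes hcopP hdvd hpP
        exact hp.one_lt.ne' this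
      obtain ⟨hiN, -, hiiiN, -⟩ :=
        Cfsg.Agent.S4444.result N P hnormPN hcopNP p hp hPp N₁ hN₁ hN₁N
      obtain ⟨-, -, hiiiG, hivG⟩ := Cfsg.Agent.S4444.result G P hnormP hcopP p hp hPp B hB hBG
      letI := normAction G
      letI := normAction B
      letI := normAction N
      letI := normAction N₁
      -- the correspondent of `θ` is invariant
      obtain ⟨θs, ⟨m', hθs, hm'⟩, hθsuniq⟩ := hiN θ (fun s hs => hθ s (hPS hs))
      have hθsinv : ∀ s ∈ S, InvUnder N₁ (θs : N₁ → ℂ) s := by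
        intro s hs
        obtain ⟨k, hkS, hk, m, hmS, hm, rfl⟩ := hdec s hs
        apply invUnder_mul_of_centralizer N₁ _ k m (hcenGN₁ hk) (hSN₁ hmS)
        have h1 := classInner_restrict_smul N N₁ hN₁N m (hSN hmS) (hSN₁ hmS) θ θs
        have h2 : ((⟨m, hSN hmS⟩ : Subgroup.normalizer (N : Set Γ)) • θ : IrrCharacter N) = θ :=
          (invUnder_iff_smul N ⟨m, hSN hmS⟩ θ).mpr (hθ m hmS)
        rw [h2, hθs] at h1
        have h3 := hθsuniq _ ⟨m', h1, hm'⟩
        exact (invUnder_iff_smul N₁ ⟨m, hSN₁ hmS⟩ θs).mp h3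
      -- induction
      obtain ⟨β, hβover, hβinv⟩ := ih (Nat.card B) (hn ▸ hlt) B rfl S hS hSB hcopB N₁ hN₁B hN₁n
        hSconjN₁ θs hθsinv
      -- back to `G`
      obtain ⟨χ, hχP, m, hχβ, hm⟩ := hivG β
      have hχinv : ∀ s ∈ S, InvUnder G (χ : G → ℂ) s := by
        intro s hs
        obtain ⟨k, hkS, hk, m₀, hmS, hm₀, rfl⟩ := hdec s hs
        apply invUnder_mul_of_centralizer G _ k m₀ hk (hnorm hmS)
        have h1 := classInner_restrict_smul G B hBG m₀ (hnorm hmS) (hSB hmS) χ β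
        have h2 : ((⟨m₀, hSB hmS⟩ : Subgroup.normalizer (B : Set Γ)) • β : IrrCharacter B) = β :=
          (invUnder_iff_smul B ⟨m₀, hSB hmS⟩ β).mpr (hβinv m₀ hmS)
        rw [h2, hχβ] at h1
        have hinv' : ∀ t ∈ P, InvUnder G
            ((((⟨m₀, hnorm hmS⟩ : Subgroup.normalizer (G : Set Γ)) • χ : IrrCharacter G)) : G → ℂ)
            t := by
          apply invUnder_smul G P ⟨m₀, hnorm hmS⟩ _ χ hχP
          intro t ht
          have := (Subgroup.mem_normalizer_iff.mp (Subgroup.inv_mem _ hm₀) t).mp ht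
          simpa using this
        have h3 := hiiiG _ χ hinv' hχP β m m h1 hm hχβ hm
        exact (invUnder_iff_smul G ⟨m₀, hnorm hmS⟩ χ).mp h3
      refine ⟨χ, ?_, hχinv⟩
      exact over_of_correspondent_over p hp G P N hnormP hNG hnormPN hcopP hPp hpG B N₁ hB hN₁
        hBG hN₁N hN₁B χ hχP β m hχβ hm θ (fun s hs => hθ s (hPS hs)) θs m' hθs hm' hβover

end Cfsg.Agent.Lib.helper3.GlO
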