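import Mathlib
import Cfsg.Prelude.Def_Characters
import Cfsg.Agent.Lib.helper3.Tri1
import Cfsg.Agent.S4448
import Cfsg.Agent.S4449

/-!
# Invariant characters over an invariant character: the case of a kernel with coprime quotient
-/

set_option autoImplicit false
set_option linter.style.haveILetI false
set_option linter.unusedSectionVars false

namespace Cfsg.Agent.Lib.helper3.Tri

open Cfsg Cfsg.Agent.Lib.helper3.Irr Cfsg.Agent.Lib.helper3.CharBasic
open Cfsg.Agent.Lib.helper3.IndFun Cfsg.Agent.Lib.helper3.CExt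
open scoped ComplexConjugate

/-- There is an irreducible character of `G` over `θ` which is invariant under the ambient
group. -/
def InvOver {Γ : Type*} [Group Γ] [Fintype Γ] (G N : Subgroup Γ) [hG : G.Normal] [Fintype G]
    [Fintype N] (hNG : N ≤ G) (θ : N → ℂ) : Prop :=
  ∃ χ : G → ℂ, IsIrrCharacter G χ ∧ classInner (fun n : N => χ ⟨n, hNG n.2⟩) θ ≠ 0 ∧
    ∀ (x : Γ) (g : G), χ ⟨x * g * x⁻¹, hG.conj_mem g g.2 x⟩ = χ g

theorem invOver_of_hom {Γ Q : Type*} [Group Γ] [Fintype Γ] [Group Q] [Fintype Q] (q : Γ →* Q)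
    (hq : Function.Surjective q) (G N : Subgroup Γ) [hG : G.Normal] [hN : N.Normal] [Fintype G]
    [Fintype N] (hNG : N ≤ G) (hKN : q.ker ≤ N)
    (hcop : (Nat.card (G.map q)).Coprime G.index)
    (hsolv : Group.IsSolvable (Γ ⧸ G) ∨ Group.IsSolvable (G ⧸ N.subgroupOf G))
    (θ : N → ℂ) (hθ : IsIrrCharacter N θ)
    (hinv : ∀ (x : Γ) (n : N), θ ⟨x * n * x⁻¹, hN.conj_mem n n.2 x⟩ = θ n)
    (hker : ∀ n k : N, (k : Γ) ∈ q.ker → θ (n * k) = θ n) : InvOver G N hNG θ := by
  classical
  haveI hGbn : (G.map q).Normal := hG.map q hq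
  haveI hNbn : (N.map q).Normal := hN.map q hq
  have hNbGb : N.map q ≤ G.map q := Subgroup.map_mono hNG
  letI : Fintype (G.map q) := Fintype.ofFinite _
  letI : Fintype (N.map q) := Fintype.ofFinite _
  have hidx : (G.map q).index = G.index := Subgroup.index_map_eq G hq (hKN.trans hNG)
  obtain ⟨Ab, hAb⟩ := Subgroup.exists_right_complement'_of_coprime (N := G.map q)
    (by rw [hidx]; exact hcop)
  letI : Fintype Ab := Fintype.ofFinite _
  have hcardA : Nat.card Ab = G.index := by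
    have h1 := hAb.card_mul_card
    have h2 := Subgroup.card_mul_index (G.map q)
    rw [hidx, ← h1] at h2
    have hpos : 0 < Nat.card (G.map q) := Nat.card_pos
    exact (Nat.eq_of_mul_eq_mul_left hpos h2).symm
  -- the surjections
  obtain ⟨qG, hqG⟩ : ∃ qG : G →* G.map q, qG = q.subgroupMap G := ⟨_, rfl⟩
  obtain ⟨qN, hqN⟩ : ∃ qN : N →* N.map q, qN = q.subgroupMap N := ⟨_, rfl⟩
  have hqGsurj : Function.Surjective qG := hqG ▸ q.subgroupMap_surjective G
  have hqNsurj : Function.Surjective qN := hqN ▸ q.subgroupMap_surjective N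
  have hqGcoe : ∀ g : G, ((qG g : G.map q) : Q) = q g := by
    intro g; rw [hqG]; rfl
  have hqNcoe : ∀ n : N, ((qN n : N.map q) : Q) = q n := by
    intro n; rw [hqN]; rfl
  -- descent of `θ`
  have hker' : ∀ a n : N, n ∈ qN.ker → θ (a * n) = θ a := by
    intro a n hn
    apply hker
    rw [MonoidHom.mem_ker] at hn ⊢
    have := congrArg (fun y : N.map q => (y : Q)) hn
    simp only [hqNcoe] at this
    exact this
  obtain ⟨θb, hθb, hθbq⟩ := exists_descent qN hqNsurj hθ hker'
  -- hypotheses in the quotient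
  have hnormA : ∀ s ∈ Ab, ∀ g ∈ G.map q, s * g * s⁻¹ ∈ G.map q :=
    fun s _ g hg => hGbn.conj_mem g hg s
  have hNnormal : ∀ g ∈ G.map q, ∀ n ∈ N.map q, g * n * g⁻¹ ∈ N.map q :=
    fun g _ n hn => hNbn.conj_mem n hn g
  have hNS : ∀ s ∈ Ab, ∀ n ∈ N.map q, s * n * s⁻¹ ∈ N.map q :=
    fun s _ n hn => hNbn.conj_mem n hn s
  have hinvb : ∀ s ∈ Ab, ∀ g g' : N.map q, (g' : Q) = s * g * s⁻¹ → θb g' = θb g := by
    intro s _ g g' hgg'
    obtain ⟨x, rfl⟩ := hq s
    obtain ⟨n, rfl⟩ := hqNsurj g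
    have h1 : g' = qN ⟨x * n * x⁻¹, hN.conj_mem n n.2 x⟩ := by
      apply Subtype.ext
      rw [hgg', hqNcoe, hqNcoe]
      simp
    rw [h1, hθbq, hθbq]
    exact hinv x n
  have hcopA : (Nat.card (G.map q)).Coprime (Nat.card Ab) := by
    rw [hcardA]; exact hcop
  -- the invariant character in the quotient
  have key : ∃ χ : IrrCharacter (G.map q),
      classInner (fun n : N.map q => (χ : G.map q → ℂ) ⟨n, hNbGb n.2⟩) θb ≠ 0 ∧
      ∀ s ∈ Ab, ∀ g g' : G.map q, (g' : Q) = s * g * s⁻¹ →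
        (χ : G.map q → ℂ) g' = (χ : G.map q → ℂ) g := by
    rcases hsolv with hs | hs
    · -- the complement is solvable
      haveI := hs
      have hQsolv : Group.IsSolvable (Q ⧸ G.map q) := by
        apply Group.isSolvable_of_surjective
          (f := QuotientGroup.map G (G.map q) q (Subgroup.le_comap_map q G))
        intro y
        obtain ⟨y, rfl⟩ := QuotientGroup.mk_surjective y
        obtain ⟨x, rfl⟩ := hq y
        exact ⟨QuotientGroup.mk x, rfl⟩
      haveI := hQsolv
      have hAsolv : Group.IsSolvable Ab := by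
        apply Group.isSolvable_of_isSolvable_injective
          (f := (QuotientGroup.mk' (G.map q)).comp Ab.subtype)
        rw [injective_iff_map_eq_one]
        intro a ha
        rw [MonoidHom.comp_apply, QuotientGroup.mk'_apply, QuotientGroup.eq_one_iff] at ha
        have h1 : (a : Q) ∈ G.map q ⊓ Ab := ⟨ha, a.2⟩
        rw [hAb.disjoint.eq_bot, Subgroup.mem_bot] at h1
        exact Subtype.ext h1
      exact Cfsg.Agent.S4449.result (G.map q) Ab (N.map q) hnormA hNbGb hNnormal hNS hcopA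
        hAsolv ⟨θb, hθb⟩ hinvb
    · haveI := hs
      haveI hNn' : ((N.map q).subgroupOf (G.map q)).Normal := Subgroup.normal_subgroupOf
      have hsolv' : Group.IsSolvable (G.map q ⧸ (N.map q).subgroupOf (G.map q)) := by
        have hle : N.subgroupOf G ≤ ((N.map q).subgroupOf (G.map q)).comap qG := by
          intro g hg
          rw [Subgroup.mem_comap, Subgroup.mem_subgroupOf, hqGcoe]
          exact Subgroup.mem_map_of_mem q (Subgroup.mem_subgroupOf.mp hg)
        apply Group.isSolvable_of_surjective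
          (f := QuotientGroup.map (N.subgroupOf G) ((N.map q).subgroupOf (G.map q)) qG hle)
        intro y
        obtain ⟨y, rfl⟩ := QuotientGroup.mk_surjective y
        obtain ⟨x, rfl⟩ := hqGsurj y
        exact ⟨QuotientGroup.mk x, rfl⟩
      have hcop' : ((N.map q).relIndex (G.map q)).Coprime (Nat.card Ab) :=
        Nat.Coprime.coprime_dvd_left (Subgroup.relIndex_dvd_card _ _) hcopA
      exact Cfsg.Agent.S4448.result (G.map q) Ab (N.map q) hnormA hNbGb hNS hcop' hsolv'
        ⟨θb, hθb⟩ hinvb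
  obtain ⟨ψ, hψover, hψinv⟩ := key
  refine ⟨fun g => (ψ : G.map q → ℂ) (qG g), isIrrCharacter_comp_surjective qG hqGsurj ψ.2,
    ?_, ?_⟩
  · have h1 : (fun n : N => (ψ : G.map q → ℂ) (qG ⟨n, hNG n.2⟩))
        = fun n : N => (fun m : N.map q => (ψ : G.map q → ℂ) ⟨m, hNbGb m.2⟩) (qN n) := by
      funext n
      apply congrArg (ψ : G.map q → ℂ)
      apply Subtype.ext
      rw [hqGcoe, hqNcoe]
    have h2 : θ = fun n : N => θb (qN n) := by
      funext n; exact (hθbq n).symm
    have h3 := classInner_comp_surjective qN hqNsurj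
      (fun m : N.map q => (ψ : G.map q → ℂ) ⟨m, hNbGb m.2⟩) θb
    rw [h1, h2, h3]
    exact hψover
  · intro x g
    obtain ⟨⟨gb, ab⟩, hga, -⟩ := (Subgroup.isComplement'_def.mp hAb).existsUnique (q x)
    simp only at hga
    have hcf := isClassFunction_of_isCharacter (isCharacter_of_isIrrCharacter ψ.2)
    obtain ⟨y, hy⟩ : ∃ y : G.map q, (y : Q) = (ab : Q) * q g * (ab : Q)⁻¹ :=
      ⟨⟨(ab : Q) * q g * (ab : Q)⁻¹, hGbn.conj_mem _ (Subgroup.mem_map_of_mem q g.2) _⟩, rfl⟩
    have h1 : (ψ : G.map q → ℂ) y = (ψ : G.map q → ℂ) (qG g) :=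
      hψinv (ab : Q) ab.2 (qG g) y (by rw [hy, hqGcoe])
    have h2 : qG ⟨x * g * x⁻¹, hG.conj_mem g g.2 x⟩
        = (⟨(gb : Q), gb.2⟩ : G.map q) * y * (⟨(gb : Q), gb.2⟩ : G.map q)⁻¹ := by
      apply Subtype.ext
      rw [hqGcoe]
      push_cast
      rw [hy]
      simp only [map_mul, map_inv]
      rw [← hga]
      group
    show (ψ : G.map q → ℂ) (qG ⟨x * g * x⁻¹, hG.conj_mem g g.2 x⟩)
      = (ψ : G.map q → ℂ) (qG g)
    rw [h2, hcf, h1]

end Cfsg.Agent.Lib.helper3.Tri
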