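import Mathlib
import Cfsg.Prelude.Def_Characters
import Cfsg.Agent.Lib.helper3.TransferChar

/-!
# Splitting a number along the primes of another; the canonical extension of a linear character
of coprime order
-/

set_option autoImplicit false
set_option linter.style.haveILetI false
set_option linter.unusedSectionVars false

namespace Cfsg.Agent.Lib.helper3.Tri

open Cfsg
open scoped ComplexConjugate

/-- Split `o` as `u * v` with the primes of `u` dividing `r` and `v` coprime to `r`. -/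
theorem exists_split (r : ℕ) : ∀ o : ℕ, o ≠ 0 → ∃ u v : ℕ, o = u * v ∧ u.Coprime v ∧
    v.Coprime r ∧ ∀ p : ℕ, p.Prime → p ∣ u → p ∣ r := by
  intro o
  induction o using Nat.strong_induction_on with
  | _ o ih =>
    intro ho
    by_cases hg : Nat.gcd o r = 1
    · exact ⟨1, o, (one_mul o).symm, Nat.coprime_one_left o, hg, fun p hp h1 =>
        absurd (Nat.dvd_one.mp h1) hp.one_lt.ne'⟩
    · obtain ⟨g, hgdef⟩ : ∃ g, g = Nat.gcd o r := ⟨_, rfl⟩
      have hgo : g ∣ o := hgdef ▸ Nat.gcd_dvd_left o r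
      have hgr : g ∣ r := hgdef ▸ Nat.gcd_dvd_right o r
      have hg0 : g ≠ 0 := by
        rw [hgdef]
        exact Nat.gcd_ne_zero_left ho
      have hg1 : g ≠ 1 := hgdef ▸ hg
      obtain ⟨o', ho'⟩ := hgo
      have ho'0 : o' ≠ 0 := by
        rintro rfl
        exact ho (by rw [ho', mul_zero])
      have hlt : o' < o := by
        rw [ho']
        have : 2 ≤ g := by omega
        nlinarith [Nat.pos_of_ne_zero ho'0]
      obtain ⟨u', v', huv, hcop, hvr, hprimes⟩ := ih o' hlt ho'0
      refine ⟨g * u', v', by rw [ho', huv, mul_assoc], ?_, hvr, ?_⟩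
      · apply Nat.Coprime.mul_left _ hcop
        exact Nat.Coprime.coprime_dvd_left hgr hvr.symm
      · intro p hp hpd
        rcases (Nat.Prime.dvd_mul hp).mp hpd with h | h
        · exact dvd_trans h hgr
        · exact hprimes p hp h

/-- A number all of whose primes divide `r` is coprime to any number coprime to `r`. -/
theorem coprime_of_primes_dvd {u r m : ℕ} (h : ∀ p : ℕ, p.Prime → p ∣ u → p ∣ r)
    (hrm : r.Coprime m) : u.Coprime m := by
  apply Nat.coprime_of_dvd
  intro p hp hpu hpm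
  have := Nat.eq_one_of_dvd_coprimes hrm (h p hp hpu) hpm
  exact hp.one_lt.ne' this

section ext

variable {G : Type*} [Group G] [Finite G]

theorem pow_eq_of_modEq_one {A : Type*} [Group A] (x : A) (u a : ℕ) (hx : x ^ u = 1)
    (ha : a ≡ 1 [MOD u]) : x ^ a = x := by
  have h1 : orderOf x ∣ u := orderOf_dvd_of_pow_eq_one hx
  have h2 : a ≡ 1 [MOD orderOf x] := Nat.ModEq.of_dvd h1 ha
  have := pow_eq_pow_iff_modEq.mpr h2
  rwa [pow_one] at this

/-- The canonical extension of an invariant linear character of order coprime to the index. -/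
theorem exists_unique_linear_extension (N : Subgroup G) [hN : N.Normal] (L : N →* ℂˣ) (u : ℕ)
    (hu0 : u ≠ 0)
    (hu : ∀ n : N, L n ^ u = 1) (hcop : u.Coprime N.index)
    (hinv : ∀ (g : G) (n : N), L ⟨g * n * g⁻¹, hN.conj_mem n n.2 g⟩ = L n) :
    ∃ μ : G →* ℂˣ, (∀ n : N, μ n = L n) ∧ (∀ g : G, μ g ^ u = 1) ∧
      ∀ μ' : G →* ℂˣ, (∀ n : N, μ' n = L n) → (∀ g : G, μ' g ^ u = 1) → μ' = μ := by
  classical
  haveI : N.FiniteIndex := Subgroup.finiteIndex_of_finite_quotient
  obtain ⟨T, hT⟩ : ∃ T : G →* ℂˣ, T = MonoidHom.transfer L := ⟨_, rfl⟩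
  have hTN : ∀ n : N, T n = L n ^ N.index := by
    intro n
    rw [hT]
    apply Cfsg.Agent.Lib.helper3.Lin.transfer_eq_pow_of_invariant
    intro k g₀ hk
    have h1 := hinv g₀⁻¹ (n ^ k)
    rw [map_pow] at h1
    rw [← h1]
    apply congrArg L
    apply Subtype.ext
    simp
  have hTu : ∀ g : G, T g ^ u = 1 := by
    intro g
    have : T g ∈ L.range := by
      rw [hT]
      exact Cfsg.Agent.Lib.helper3.Lin.transfer_mem_range L g
    obtain ⟨n, hn⟩ := this
    rw [← hn]
    exact hu n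
  -- an inverse of the index modulo `u`
  obtain ⟨m', hm'⟩ : ∃ m' : ℕ, N.index * m' ≡ 1 [MOD u] := by
    by_cases hu1 : u = 1
    · exact ⟨0, by rw [hu1]; exact Nat.modEq_one⟩
    · have h1u : 1 < u := by omega
      obtain ⟨m', -, hm'⟩ := Nat.exists_mul_mod_eq_one_of_coprime hcop.symm h1u
      refine ⟨m', ?_⟩
      show N.index * m' % u = 1 % u
      rw [hm', Nat.mod_eq_of_lt h1u]
  have hμN : ∀ n : N, (T ^ m') n = L n := by
    intro n
    rw [MonoidHom.pow_apply, hTN, ← pow_mul]
    exact pow_eq_of_modEq_one (L n) u _ (hu n) hm'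
  have hμu : ∀ g : G, (T ^ m') g ^ u = 1 := by
    intro g
    rw [MonoidHom.pow_apply, ← pow_mul, mul_comm, pow_mul, hTu, one_pow]
  refine ⟨T ^ m', hμN, hμu, ?_⟩
  intro μ' hμ'N hμ'u
  apply MonoidHom.ext
  intro g
  have h1 : (μ' g / (T ^ m') g) ^ u = 1 := by
    rw [div_pow, hμ'u, hμu, div_one]
  have h2 : (μ' g / (T ^ m') g) ^ N.index = 1 := by
    have hmem : g ^ N.index ∈ N := Subgroup.pow_index_mem N g
    rw [div_pow, ← map_pow, ← map_pow]
    have h3 := hμ'N ⟨g ^ N.index, hmem⟩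
    have h4 := hμN ⟨g ^ N.index, hmem⟩
    simp only at h3 h4
    rw [h3, h4, div_self']
  have h3 := pow_gcd_eq_one.mpr ⟨h1, h2⟩
  rw [hcop, pow_one] at h3
  have h4 : μ' g = (T ^ m') g := by
    rw [div_eq_one] at h3
    exact h3
  rw [h4]

end ext

end Cfsg.Agent.Lib.helper3.Tri
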