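import Mathlib
import Cfsg.Prelude.Def_Characters
import Cfsg.Agent.Lib.helper3.Tri2
import Cfsg.Agent.Lib.helper3.Tri3
import Cfsg.Agent.Lib.helper3.Gallagher3

/-!
# Invariant characters over an invariant linear character
-/

set_option autoImplicit false
set_option linter.style.haveILetI false
set_option linter.unusedSectionVars false

namespace Cfsg.Agent.Lib.helper3.Tri

open Cfsg Cfsg.Agent.Lib.helper3.Irr Cfsg.Agent.Lib.helper3.CharBasic
open Cfsg.Agent.Lib.helper3.IndFun Cfsg.Agent.Lib.helper3.CExt Cfsg.Agent.Lib.helper3.Lin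
open scoped ComplexConjugate

/-- The inner product is unchanged when both arguments are multiplied by the same function of
absolute value one. -/
theorem classInner_mul_unit {A : Type*} [Group A] [Fintype A] (c f g : A → ℂ)
    (hc : ∀ a, c a * conj (c a) = 1) :
    classInner (fun a => c a * f a) (fun a => c a * g a) = classInner f g := by
  rw [classInner_apply, classInner_apply]
  congr 1
  apply Finset.sum_congr rfl
  intro a _
  rw [map_mul]
  calc c a * f a * (conj (c a) * conj (g a)) = (c a * conj (c a)) * (f a * conj (g a)) := by ring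
    _ = f a * conj (g a) := by rw [hc, one_mul]

theorem unit_mul_conj_of_pow {z : ℂˣ} {k : ℕ} (hk : k ≠ 0) (h : z ^ k = 1) :
    (z : ℂ) * conj (z : ℂ) = 1 := by
  have h1 : (z : ℂ) ^ k = 1 := by
    have := congrArg (fun w : ℂˣ => (w : ℂ)) h
    simpa using this
  have h2 : ‖(z : ℂ)‖ = 1 := Complex.norm_eq_one_of_pow_eq_one h1 hk
  rw [Complex.mul_conj, Complex.normSq_eq_norm_sq, h2]
  simp

/-- The kernel of a linear character of a normal subgroup, as a subgroup of the ambient group,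
has index in the normal subgroup dividing any exponent of the character. -/
theorem relIndex_ker_dvd {Γ : Type*} [Group Γ] [Finite Γ] (N : Subgroup Γ) (L : N →* ℂˣ) (v : ℕ)
    (hv : ∀ n : N, L n ^ v = 1) :
    ((L.ker).map N.subtype).relIndex N ∣ v := by
  have h1 : ((L.ker).map N.subtype).subgroupOf N = L.ker :=
    Subgroup.comap_map_eq_self_of_injective N.subtype_injective L.ker
  rw [Subgroup.relIndex, h1, Subgroup.index_ker]
  haveI : Finite N := inferInstance
  haveI : Finite L.range := Finite.of_surjective L.rangeRestrict L.rangeRestrict_surjective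
  haveI : IsCyclic L.range := isCyclic_subgroup_units _
  rw [← IsCyclic.exponent_eq_card]
  apply Monoid.exponent_dvd_of_forall_pow_eq_one
  rintro ⟨_, n, rfl⟩
  apply Subtype.ext
  exact hv n

theorem invOver_of_linear {Γ : Type*} [Group Γ] [Fintype Γ] (G N : Subgroup Γ) [hG : G.Normal]
    [hN : N.Normal] [Fintype G] [Fintype N] (hNG : N ≤ G)
    (hcop : (G.index).Coprime (N.relIndex G))
    (hsolv : Group.IsSolvable (Γ ⧸ G) ∨ Group.IsSolvable (G ⧸ N.subgroupOf G))
    (L : N →* ℂˣ)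
    (hinv : ∀ (x : Γ) (n : N), L ⟨x * n * x⁻¹, hN.conj_mem n n.2 x⟩ = L n) :
    InvOver G N hNG (fun n => ((L n : ℂˣ) : ℂ)) := by
  classical
  have ho0 : Nat.card N ≠ 0 := Nat.card_pos.ne'
  obtain ⟨u, v, huv, hcopuv, hvr, hprimes⟩ := exists_split G.index (Nat.card N) ho0
  have hu0 : u ≠ 0 := by
    rintro rfl
    exact ho0 (by rw [huv, zero_mul])
  have hv0 : v ≠ 0 := by
    rintro rfl
    exact ho0 (by rw [huv, mul_zero])
  have hLo : ∀ n : N, L n ^ (u * v) = 1 := by
    intro n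
    rw [← huv, ← map_pow, pow_card_eq_one', map_one]
  obtain ⟨a, ha1, ha0⟩ := Nat.chineseRemainder hcopuv 1 0
  obtain ⟨b, hb0, hb1⟩ := Nat.chineseRemainder hcopuv 0 1
  have hva : v ∣ a := (Nat.modEq_zero_iff_dvd).mp ha0
  have hub : u ∣ b := (Nat.modEq_zero_iff_dvd).mp hb0
  have hL₁u : ∀ n : N, (L ^ a) n ^ u = 1 := by
    intro n
    obtain ⟨c, hc⟩ := hva
    rw [MonoidHom.pow_apply, ← pow_mul, hc]
    have : v * c * u = u * v * c := by ring
    rw [this, pow_mul, hLo, one_pow]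
  have hL₂v : ∀ n : N, (L ^ b) n ^ v = 1 := by
    intro n
    obtain ⟨c, hc⟩ := hub
    rw [MonoidHom.pow_apply, ← pow_mul, hc]
    have : u * c * v = u * v * c := by ring
    rw [this, pow_mul, hLo, one_pow]
  have hsum : a + b ≡ 1 [MOD u * v] := by
    apply (Nat.modEq_and_modEq_iff_modEq_mul hcopuv).mp
    constructor
    · have := Nat.ModEq.add ha1 hb0
      simpa using this
    · have := Nat.ModEq.add ha0 hb1
      simpa using this
  have hL₁L₂ : ∀ n : N, (L ^ a) n * (L ^ b) n = L n := by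
    intro n
    rw [MonoidHom.pow_apply, MonoidHom.pow_apply, ← pow_add]
    exact pow_eq_of_modEq_one (L n) (u * v) _ (hLo n) hsum
  have hinvpow : ∀ (c : ℕ) (x : Γ) (n : N),
      (L ^ c) ⟨x * n * x⁻¹, hN.conj_mem n n.2 x⟩ = (L ^ c) n := by
    intro c x n
    rw [MonoidHom.pow_apply, MonoidHom.pow_apply, hinv]
  -- the extension of the first factor
  haveI hN'n : (N.subgroupOf G).Normal := Subgroup.normal_subgroupOf
  obtain ⟨e, he⟩ : ∃ e : N.subgroupOf G ≃* N, e = Subgroup.subgroupOfEquivOfLe hNG := ⟨_, rfl⟩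
  have hecoe : ∀ x : N.subgroupOf G, ((e x : N) : Γ) = ((x : G) : Γ) := by
    intro x
    rw [he]
    rfl
  have hum : u.Coprime (N.subgroupOf G).index :=
    coprime_of_primes_dvd hprimes hcop
  obtain ⟨μ, hμN, hμu, hμuniq⟩ := exists_unique_linear_extension (N.subgroupOf G)
    ((L ^ a).comp e.toMonoidHom) u hu0 (fun n => hL₁u (e n)) hum (by
      intro g n
      show (L ^ a) (e _) = (L ^ a) (e n)
      rw [← hinvpow a (g : Γ) (e n)]
      apply congrArg (L ^ a)
      apply Subtype.ext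
      rw [hecoe]
      push_cast
      rw [hecoe])
  have hμN' : ∀ n : N, μ ⟨n, hNG n.2⟩ = (L ^ a) n := by
    intro n
    have h1 := hμN (e.symm n)
    have h2 : ((e.symm n : N.subgroupOf G) : G) = ⟨n, hNG n.2⟩ := by
      apply Subtype.ext
      rw [← hecoe, MulEquiv.apply_symm_apply]
    rw [h2] at h1
    rw [h1]
    show (L ^ a) (e (e.symm n)) = _
    rw [MulEquiv.apply_symm_apply]
  have hμinv : ∀ (x : Γ) (g : G), μ ⟨x * g * x⁻¹, hG.conj_mem g g.2 x⟩ = μ g := by
    intro x g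
    obtain ⟨α, hα⟩ : ∃ α : G ≃* G, ∀ y : G, ((α y : G) : Γ) = x * y * x⁻¹ :=
      ⟨MulAut.conjNormal x, fun y => MulAut.conjNormal_apply x y⟩
    have h1 : μ.comp α.toMonoidHom = μ := by
      apply hμuniq
      · intro n
        show μ (α (n : G)) = (L ^ a) (e n)
        have h2 : α (n : G) = ⟨(⟨x * (e n : N) * x⁻¹, hN.conj_mem _ (e n).2 x⟩ : N), hNG
            (hN.conj_mem _ (e n).2 x)⟩ := by
          apply Subtype.ext
          rw [hα, ← hecoe]
        rw [h2, hμN', hinvpow]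
      · intro y
        exact hμu _
    have h3 := congrArg (fun ν : G →* ℂˣ => ν g) h1
    simp only [MonoidHom.comp_apply] at h3
    rw [← h3]
    apply congrArg μ
    apply Subtype.ext
    exact (hα g).symm
  -- the second factor
  obtain ⟨K₀, hK₀⟩ : ∃ K₀ : Subgroup Γ, K₀ = ((L ^ b).ker).map N.subtype := ⟨_, rfl⟩
  have hK₀N : K₀ ≤ N := by
    rw [hK₀]
    rintro _ ⟨n, -, rfl⟩
    exact n.2
  have hK₀mem : ∀ n : N, (n : Γ) ∈ K₀ ↔ (L ^ b) n = 1 := by
    intro n
    rw [hK₀]
    constructor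
    · rintro ⟨n', hn', hnn'⟩
      have : n' = n := Subtype.ext hnn'
      rw [← this]
      exact hn'
    · intro h
      exact ⟨n, h, rfl⟩
  haveI hK₀n : K₀.Normal := by
    constructor
    intro k hk x
    have hkN : k ∈ N := hK₀N hk
    have h1 := (hK₀mem ⟨k, hkN⟩).mp hk
    have h2 := (hK₀mem ⟨x * k * x⁻¹, hN.conj_mem k hkN x⟩).mpr (by
      rw [hinvpow b x ⟨k, hkN⟩]; exact h1)
    exact h2
  obtain ⟨q, hq⟩ : ∃ q : Γ →* Γ ⧸ K₀, q = QuotientGroup.mk' K₀ := ⟨_, rfl⟩
  have hqsurj : Function.Surjective q := by rw [hq]; exact QuotientGroup.mk'_surjective K₀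
  have hqker : q.ker = K₀ := by rw [hq]; exact QuotientGroup.ker_mk' K₀
  letI : Fintype (Γ ⧸ K₀) := Fintype.ofFinite _
  have hcard : Nat.card (G.map q) = K₀.relIndex N * N.relIndex G := by
    have h1 := Subgroup.card_mul_index (G.map q)
    have hidx : (G.map q).index = G.index :=
      Subgroup.index_map_eq G hqsurj (by rw [hqker]; exact hK₀N.trans hNG)
    have h2 : Nat.card (Γ ⧸ K₀) = K₀.index := (Subgroup.index_eq_card K₀).symm
    have h3 := Subgroup.relIndex_mul_index (hK₀N.trans hNG)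
    have h4 := Subgroup.relIndex_mul_relIndex K₀ N G hK₀N hNG
    rw [hidx, h2, ← h3, ← h4] at h1
    exact Nat.eq_of_mul_eq_mul_right (Nat.pos_of_ne_zero Subgroup.index_ne_zero_of_finite) h1
  have hrel : K₀.relIndex N ∣ v := by
    rw [hK₀]
    exact relIndex_ker_dvd N (L ^ b) v hL₂v
  have hcop' : (Nat.card (G.map q)).Coprime G.index := by
    rw [hcard]
    exact Nat.Coprime.mul_left (Nat.Coprime.coprime_dvd_left hrel hvr) hcop.symm
  have hθ₂ : IsIrrCharacter N (fun n => (((L ^ b) n : ℂˣ) : ℂ)) :=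
    isIrrCharacter_of_linear (isCharacter_of_hom (L ^ b)) (by simp)
  obtain ⟨χ₀, hχ₀, hχ₀over, hχ₀inv⟩ := invOver_of_hom q hqsurj G N hNG
    (by rw [hqker]; exact hK₀N) hcop' hsolv
    (fun n => (((L ^ b) n : ℂˣ) : ℂ)) hθ₂ (by
      intro x n
      show (((L ^ b) _ : ℂˣ) : ℂ) = (((L ^ b) n : ℂˣ) : ℂ)
      rw [hinvpow b x n]) (by
      intro n k hk
      rw [hqker] at hk
      have := (hK₀mem k).mp hk
      show (((L ^ b) (n * k) : ℂˣ) : ℂ) = (((L ^ b) n : ℂˣ) : ℂ)
      rw [map_mul, this, mul_one])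
  -- the product
  have hμc : IsCharacter G (fun g => ((μ g : ℂˣ) : ℂ)) := isCharacter_of_hom μ
  refine ⟨(fun g => ((μ g : ℂˣ) : ℂ)) * χ₀, isIrrCharacter_linear_mul hμc (by simp) hχ₀, ?_, ?_⟩
  · have h1 : (fun n : N => ((fun g => ((μ g : ℂˣ) : ℂ)) * χ₀) ⟨n, hNG n.2⟩)
        = fun n : N => (((L ^ a) n : ℂˣ) : ℂ) * χ₀ ⟨n, hNG n.2⟩ := by
      funext n
      rw [Pi.mul_apply, hμN']
    have h2 : (fun n : N => ((L n : ℂˣ) : ℂ))
        = fun n : N => (((L ^ a) n : ℂˣ) : ℂ) * (((L ^ b) n : ℂˣ) : ℂ) := by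
      funext n
      rw [← Units.val_mul, hL₁L₂]
    rw [h1, h2, classInner_mul_unit]
    · exact hχ₀over
    · intro n
      exact unit_mul_conj_of_pow hu0 (hL₁u n)
  · intro x g
    rw [Pi.mul_apply, Pi.mul_apply, hμinv, hχ₀inv]

end Cfsg.Agent.Lib.helper3.Tri
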