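import Mathlib
import Cfsg.Prelude.Def_Characters
import Cfsg.Agent.Lib.helper3.Tri4
import Cfsg.Agent.Lib.helper3.FullyRam
import Cfsg.Agent.Lib.helper3.CharBasic2
import Cfsg.Agent.Lib.helper3.CExt7
import Cfsg.Agent.Lib.helper3.CExt4
import Cfsg.Agent.Lib.helper3.Gallagher2

/-!
# Invariant characters over an invariant character: reduction to linear characters
-/

set_option autoImplicit false
set_option linter.style.haveILetI false
set_option linter.unusedSectionVars false

namespace Cfsg.Agent.Lib.helper3.Tri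

open Cfsg Module Cfsg.Agent.Lib.helper3.Irr Cfsg.Agent.Lib.helper3.CharBasic
open Cfsg.Agent.Lib.helper3.IndFun Cfsg.Agent.Lib.helper3.CExt Cfsg.Agent.Lib.helper3.Lin
open scoped ComplexConjugate

/-- An element on which a character takes a value of maximal absolute value acts as a scalar. -/
theorem apply_mul_of_scalar {T : Type*} [Group T] [Finite T] {χ : T → ℂ} (hχ : IsCharacter T χ)
    (z : T) (ω : ℂ) (h : χ z = ω * χ 1) (hω : ‖ω‖ = 1) (g : T) : χ (g * z) = ω * χ g := by
  obtain ⟨d, ρ, rfl⟩ := hχ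
  by_cases hd : finrank ℂ (Fin d → ℂ) = 0
  · haveI : Subsingleton (Fin d → ℂ) := Module.finrank_zero_iff.mp hd
    have h0 : ∀ t : T, ρ.character t = 0 := by
      intro t
      unfold Representation.character
      have : ρ t = 0 := Subsingleton.elim _ _
      rw [this, map_zero]
    rw [h0, h0, mul_zero]
  · have h1 : ‖ρ.character z‖ = (finrank ℂ (Fin d → ℂ) : ℝ) := by
      rw [h, norm_mul, hω, one_mul, Representation.char_one]
      simp
    obtain ⟨ω', hω'⟩ := (norm_character_eq_finrank_iff ρ z).mp h1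
    have h2 : ρ.character z = ω' * (finrank ℂ (Fin d → ℂ) : ℂ) := by
      unfold Representation.character
      rw [hω', map_smul, LinearMap.trace_id, smul_eq_mul]
    have h3 : ω' = ω := by
      rw [h, Representation.char_one] at h2
      have hd' : ((finrank ℂ (Fin d → ℂ) : ℕ) : ℂ) ≠ 0 := by exact_mod_cast hd
      exact (mul_right_cancel₀ hd' h2).symm
    unfold Representation.character
    rw [map_mul, hω', h3]
    rw [show ρ g * (ω • (LinearMap.id : (Fin d → ℂ) →ₗ[ℂ] (Fin d → ℂ))) = ω • ρ g by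
      ext v; simp]
    rw [map_smul, smul_eq_mul]

/-- Clifford's theorem for an invariant character, for subgroups of an ambient group. -/
theorem restrict_eq_smul_sub {Γ : Type*} [Group Γ] [Fintype Γ] (G N : Subgroup Γ)
    [hN : N.Normal] [Fintype G] [Fintype N] (hNG : N ≤ G) (χ : G → ℂ)
    (hχ : IsIrrCharacter G χ) (ϑ : N → ℂ) (hϑ : IsIrrCharacter N ϑ)
    (hover : classInner (fun n : N => χ ⟨n, hNG n.2⟩) ϑ ≠ 0)
    (hinv : ∀ (g : G) (n : N), ϑ ⟨g * n * g⁻¹, hN.conj_mem n n.2 g⟩ = ϑ n) :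
    ∀ n : N, χ ⟨n, hNG n.2⟩ = classInner (fun n : N => χ ⟨n, hNG n.2⟩) ϑ * ϑ n := by
  classical
  haveI hN'n : (N.subgroupOf G).Normal := Subgroup.normal_subgroupOf
  letI : Fintype (N.subgroupOf G) := Fintype.ofFinite _
  obtain ⟨e, he⟩ : ∃ e : N.subgroupOf G ≃* N, e = Subgroup.subgroupOfEquivOfLe hNG := ⟨_, rfl⟩
  have hecoe : ∀ x : N.subgroupOf G, ((e x : N) : Γ) = ((x : G) : Γ) := by
    intro x
    rw [he]
    rfl
  have hres' : (fun x : N.subgroupOf G => χ x)
      = fun x => (fun n : N => χ ⟨n, hNG n.2⟩) (e x) := by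
    funext x
    simp only
    apply congrArg χ
    apply Subtype.ext
    exact (hecoe x).symm
  have h1 : classInner (fun x : N.subgroupOf G => χ x) (fun x => ϑ (e x))
      = classInner (fun n : N => χ ⟨n, hNG n.2⟩) ϑ := by
    rw [hres', classInner_comp_mulEquiv e (fun n : N => χ ⟨n, hNG n.2⟩) ϑ]
  have h2 := restrict_eq_smul_of_invariant (N.subgroupOf G) χ hχ (fun x => ϑ (e x))
    (isIrrCharacter_comp_mulEquiv e hϑ) (by rw [h1]; exact hover) (by
      intro g x
      show ϑ (e _) = ϑ (e x)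
      rw [← hinv g (e x)]
      apply congrArg ϑ
      apply Subtype.ext
      rw [hecoe]
      push_cast
      rw [hecoe])
  intro n
  have h3 := congrFun h2 (e.symm n)
  rw [h1] at h3
  simp only [Pi.smul_apply, smul_eq_mul, MulEquiv.apply_symm_apply] at h3
  rw [← h3]
  apply congrArg χ
  apply Subtype.ext
  show (n : Γ) = (((e.symm n : N.subgroupOf G) : G) : Γ)
  rw [← hecoe, MulEquiv.apply_symm_apply]

section ext

variable {Γ : Type*} {E : Type*} [Group Γ] [Group E] [Fintype E]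
variable (π : E →* Γ) (hπ : Function.Surjective π) (hker : π.ker ≤ Subgroup.center E)
variable (N : Subgroup Γ) (ι : N →* E) (hπι : ∀ n : N, π (ι n) = n) (hnorm : ι.range.Normal)
variable {θ' : E → ℂ} (hθ' : IsIrrCharacter E θ')

include hker hπι in
theorem zpart_mul (x y : E) (hx : π x ∈ N) (hy : π y ∈ N) (hxy : π (x * y) ∈ N) :
    zpart π N ι (x * y) hxy = zpart π N ι x hx * zpart π N ι y hy := by
  have hz := hker (zpart_mem_ker π N ι hπι x hx)
  have hzc : ∀ a : E, a * zpart π N ι x hx = zpart π N ι x hx * a :=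
    fun a => Subgroup.mem_center_iff.mp hz a
  have h1 : (⟨π (x * y), hxy⟩ : N) = ⟨π x, hx⟩ * ⟨π y, hy⟩ := by
    apply Subtype.ext
    simp
  show (ι ⟨π (x * y), hxy⟩)⁻¹ * (x * y) = zpart π N ι x hx * zpart π N ι y hy
  rw [h1, map_mul, mul_inv_rev]
  have h2 : (ι ⟨π y, hy⟩)⁻¹ * (ι ⟨π x, hx⟩)⁻¹ * (x * y)
      = (ι ⟨π y, hy⟩)⁻¹ * zpart π N ι x hx * y := by
    unfold zpart
    group
  rw [h2, hzc, mul_assoc]
  rfl

/-- The linear character of the preimage of `N` which is trivial on the lift of `N` and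
inverts the central character of `θ'` on the kernel. -/
noncomputable def zHom : N.comap π →* ℂˣ :=
  MonoidHom.mk' (fun x => Units.mk0 ((θ' (zpart π N ι (x : E) x.2) / θ' 1)⁻¹)
    (inv_ne_zero (central_ratio_ne_zero π.ker hker hθ' _ (zpart_mem_ker π N ι hπι _ x.2))))
    (by
      intro x y
      apply Units.ext
      simp only [Units.val_mul, Units.val_mk0]
      have h1 := zpart_mul π hker N ι hπι (x : E) (y : E) x.2 y.2 (x * y).2
      have h2 : zpart π N ι ((x * y : N.comap π) : E) (x * y).2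
          = zpart π N ι (x : E) x.2 * zpart π N ι (y : E) y.2 := h1
      rw [h2, central_ratio_mul π.ker hker hθ' _ _ (zpart_mem_ker π N ι hπι _ x.2)
        (zpart_mem_ker π N ι hπι _ y.2), mul_inv])

theorem zHom_apply (x : N.comap π) :
    ((zHom π hker N ι hπι hθ' x : ℂˣ) : ℂ) = (θ' (zpart π N ι (x : E) x.2) / θ' 1)⁻¹ := rfl

include hnorm in
theorem zHom_conj [hNn : N.Normal] (y : E) (x : N.comap π) :
    zHom π hker N ι hπι hθ' ⟨y * x * y⁻¹, (hNn.comap π).conj_mem (x : E) x.2 y⟩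
      = zHom π hker N ι hπι hθ' x := by
  apply Units.ext
  rw [zHom_apply, zHom_apply]
  have h1 := zpart_conj π hker N ι hπι hnorm (x : E) y⁻¹ x.2 (by
    have := (hNn.comap π).conj_mem (x : E) x.2 y
    rw [inv_inv]
    exact this)
  have h2 : zpart π N ι (((⟨y * x * y⁻¹, (hNn.comap π).conj_mem (x : E) x.2 y⟩ : N.comap π)) : E)
      (hNn.comap π |>.conj_mem (x : E) x.2 y) = zpart π N ι (x : E) x.2 := by
    rw [← h1]
    congr 1
    rw [inv_inv]
  rw [h2]

theorem zHom_mul_apply (x : N.comap π) :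
    θ' (x : E) * ((zHom π hker N ι hπι hθ' x : ℂˣ) : ℂ) = θ' (ι ⟨π (x : E), x.2⟩) := by
  rw [zHom_apply]
  have h1 := apply_mul_central' π.ker hker hθ' (ι ⟨π (x : E), x.2⟩) (zpart π N ι (x : E) x.2)
    (zpart_mem_ker π N ι hπι _ x.2)
  have h0 := mul_zpart π N ι (x : E) x.2
  rw [h0] at h1
  rw [h1]
  have h2 := central_ratio_ne_zero π.ker hker hθ' _ (zpart_mem_ker π N ι hπι (x : E) x.2)
  rw [mul_comm, ← mul_assoc, inv_mul_cancel₀ h2, one_mul]

theorem zHom_of_mem_ker (z : N.comap π) (hz : (z : E) ∈ π.ker) :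
    ((zHom π hker N ι hπι hθ' z : ℂˣ) : ℂ) = (θ' (z : E) / θ' 1)⁻¹ := by
  rw [zHom_apply]
  have h1 : zpart π N ι (z : E) z.2 = (z : E) := by
    unfold zpart
    have h2 : (⟨π (z : E), z.2⟩ : N) = 1 := by
      apply Subtype.ext
      exact MonoidHom.mem_ker.mp hz
    rw [h2, map_one, inv_one, one_mul]
  rw [h1]

theorem zHom_lift (n : N) :
    zHom π hker N ι hπι hθ' ⟨ι n, by
      show π (ι n) ∈ N
      rw [hπι]; exact n.2⟩ = 1 := by
  apply Units.ext
  rw [zHom_apply]
  have h1 : zpart π N ι (ι n) (by rw [hπι]; exact n.2) = 1 := by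
    unfold zpart
    have h2 : (⟨π (ι n), by rw [hπι]; exact n.2⟩ : N) = n := Subtype.ext (hπι n)
    rw [h2, inv_mul_cancel]
  show (θ' (zpart π N ι (ι n) _) / θ' 1)⁻¹ = ((1 : ℂˣ) : ℂ)
  rw [h1, div_self (apply_one_ne_zero hθ'), inv_one, Units.val_one]

end ext

universe u

/-- The general case, by passing to a central extension in which `θ` extends. -/
theorem invOver_of_invariant {Γ : Type u} [Group Γ] [Fintype Γ] (G N : Subgroup Γ)
    [hG : G.Normal] [hN : N.Normal] [Fintype G] [Fintype N] (hNG : N ≤ G)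
    (hcop : (G.index).Coprime (N.relIndex G))
    (hsolv : Group.IsSolvable (Γ ⧸ G) ∨ Group.IsSolvable (G ⧸ N.subgroupOf G))
    (θ : N → ℂ) (hθ : IsIrrCharacter N θ)
    (hinv : ∀ (x : Γ) (n : N), θ ⟨x * n * x⁻¹, hN.conj_mem n n.2 x⟩ = θ n) :
    InvOver G N hNG θ := by
  classical
  obtain ⟨E, iG, iF, π, ι, θ', hπ, hker, hπι, hnorm, hθ', hθ'ι, hθ'K⟩ :=
    exists_central_extension N θ hθ hinv
  haveI := hnorm
  haveI hG₂n : (G.comap π).Normal := hG.comap π
  haveI hN₂n : (N.comap π).Normal := hN.comap π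
  letI : Fintype (G.comap π) := Fintype.ofFinite _
  letI : Fintype (N.comap π) := Fintype.ofFinite _
  have hN₂G₂ : N.comap π ≤ G.comap π := Subgroup.comap_mono hNG
  obtain ⟨M, hMdef⟩ : ∃ M : N.comap π →* ℂˣ, M = zHom π hker N ι hπι hθ' := ⟨_, rfl⟩
  have hidx : (G.comap π).index = G.index := Subgroup.index_comap_of_surjective G hπ
  have hrel : (N.comap π).relIndex (G.comap π) = N.relIndex G := by
    rw [Subgroup.relIndex_comap, Subgroup.map_comap_eq_self_of_surjective hπ]
  obtain ⟨πG, hπG⟩ : ∃ πG : G.comap π →* G, πG = π.subgroupComap G := ⟨_, rfl⟩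
  obtain ⟨πN, hπN⟩ : ∃ πN : N.comap π →* N, πN = π.subgroupComap N := ⟨_, rfl⟩
  have hπGsurj : Function.Surjective πG :=
    hπG ▸ π.subgroupComap_surjective_of_surjective G hπ
  have hπNsurj : Function.Surjective πN :=
    hπN ▸ π.subgroupComap_surjective_of_surjective N hπ
  have hπGcoe : ∀ g : G.comap π, ((πG g : G) : Γ) = π (g : E) := by
    intro g; rw [hπG]; rfl
  have hπNcoe : ∀ n : N.comap π, ((πN n : N) : Γ) = π (n : E) := by
    intro n; rw [hπN]; rfl
  -- solvability
  have hsolv' : Group.IsSolvable (E ⧸ G.comap π) ∨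
      Group.IsSolvable (G.comap π ⧸ (N.comap π).subgroupOf (G.comap π)) := by
    rcases hsolv with hs | hs
    · left
      haveI := hs
      apply Group.isSolvable_of_isSolvable_injective
        (f := QuotientGroup.map (G.comap π) G π le_rfl)
      rw [injective_iff_map_eq_one]
      intro y hy
      obtain ⟨y, rfl⟩ := QuotientGroup.mk_surjective y
      rw [QuotientGroup.map_mk, QuotientGroup.eq_one_iff] at hy
      exact (QuotientGroup.eq_one_iff y).mpr hy
    · right
      haveI := hs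
      have hle : (N.comap π).subgroupOf (G.comap π) ≤ (N.subgroupOf G).comap πG := by
        intro g hg
        rw [Subgroup.mem_comap, Subgroup.mem_subgroupOf, hπGcoe]
        exact Subgroup.mem_subgroupOf.mp hg
      apply Group.isSolvable_of_isSolvable_injective
        (f := QuotientGroup.map ((N.comap π).subgroupOf (G.comap π)) (N.subgroupOf G) πG hle)
      rw [injective_iff_map_eq_one]
      intro y hy
      obtain ⟨y, rfl⟩ := QuotientGroup.mk_surjective y
      rw [QuotientGroup.map_mk, QuotientGroup.eq_one_iff, Subgroup.mem_subgroupOf, hπGcoe] at hy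
      apply (QuotientGroup.eq_one_iff y).mpr
      rw [Subgroup.mem_subgroupOf]
      exact hy
  have hMinv : ∀ (y : E) (x : N.comap π), M ⟨y * x * y⁻¹, hN₂n.conj_mem (x : E) x.2 y⟩ = M x := by
    intro y x
    rw [hMdef]
    exact zHom_conj π hker N ι hπι hnorm hθ' y x
  obtain ⟨β, hβ, hβover, hβinv⟩ := invOver_of_linear (G.comap π) (N.comap π) hN₂G₂
    (by rw [hidx, hrel]; exact hcop) hsolv' M hMinv
  have hβc := isCharacter_of_isIrrCharacter hβ
  -- the restriction of `β`
  have hMirr : IsIrrCharacter (N.comap π) (fun n => ((M n : ℂˣ) : ℂ)) :=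
    isIrrCharacter_of_linear (isCharacter_of_hom M) (by simp)
  have hβN₀ := restrict_eq_smul_sub (G.comap π) (N.comap π) hN₂G₂ β hβ _ hMirr hβover (by
    intro g n
    show ((M _ : ℂˣ) : ℂ) = ((M n : ℂˣ) : ℂ)
    have h0 := hMinv (g : E) n
    rw [← h0]
    apply congrArg (fun w : ℂˣ => (w : ℂ))
    apply congrArg M
    apply Subtype.ext
    simp)
  have hβ1 : β 1 = classInner (fun n : N.comap π => β ⟨n, hN₂G₂ n.2⟩)
      (fun n => ((M n : ℂˣ) : ℂ)) := by
    have := hβN₀ 1
    simp only [map_one, Units.val_one, mul_one] at this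
    rw [← this]
    rfl
  have hβN : ∀ n : N.comap π, β ⟨n, hN₂G₂ n.2⟩ = β 1 * ((M n : ℂˣ) : ℂ) := by
    intro n
    rw [hβ1]
    exact hβN₀ n
  have hβ1ne : β 1 ≠ 0 := apply_one_ne_zero hβ
  -- Gallagher
  have hιG₂ : ι.range ≤ G.comap π := by
    rintro _ ⟨n, rfl⟩
    show π (ι n) ∈ G
    rw [hπι]
    exact hNG n.2
  haveI hKn : (ι.range.subgroupOf (G.comap π)).Normal := Subgroup.normal_subgroupOf
  letI : Fintype (ι.range.subgroupOf (G.comap π)) := Fintype.ofFinite _
  letI : Fintype ι.range := Fintype.ofFinite _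
  have hχEc : IsCharacter (G.comap π) (fun g : G.comap π => θ' (g : E)) :=
    isCharacter_restrict (isCharacter_of_isIrrCharacter hθ') _
  have hχEK : IsIrrCharacter (ι.range.subgroupOf (G.comap π))
      (fun k : ι.range.subgroupOf (G.comap π) => (fun g : G.comap π => θ' (g : E)) k) :=
    isIrrCharacter_comp_mulEquiv (Subgroup.subgroupOfEquivOfLe hιG₂) hθ'K
  have hβK : ∀ g n : G.comap π, n ∈ ι.range.subgroupOf (G.comap π) → β (g * n) = β g := by
    intro g n hn
    apply apply_mul_of_apply_eq_one hβc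
    obtain ⟨n₀, hn₀⟩ := Subgroup.mem_subgroupOf.mp hn
    have h1 := hβN ⟨ι n₀, by show π (ι n₀) ∈ N; rw [hπι]; exact n₀.2⟩
    rw [hMdef, zHom_lift π hker N ι hπι hθ' n₀, Units.val_one, mul_one] at h1
    rw [← h1]
    apply congrArg β
    apply Subtype.ext
    exact hn₀.symm
  obtain ⟨βb, hβb, hβeq⟩ := exists_eq_inflate hβ (ι.range.subgroupOf (G.comap π)) hβK
  have hχ'irr : IsIrrCharacter (G.comap π) (fun g => β g * θ' (g : E)) := by
    have := (gallagher_inflate (ι.range.subgroupOf (G.comap π))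
      (fun g : G.comap π => θ' (g : E)) hχEc (apply_one_ne_zero hθ') hχEK).1 ⟨βb, hβb⟩
    rw [← hβeq] at this
    exact this
  -- constancy on the cosets of the kernel
  have hMnorm : ∀ n : N.comap π, ‖((M n : ℂˣ) : ℂ)‖ = 1 := by
    intro n
    have h1 : M n ^ Nat.card (N.comap π) = 1 := by
      rw [← map_pow, pow_card_eq_one', map_one]
    have h2 : ((M n : ℂˣ) : ℂ) ^ Nat.card (N.comap π) = 1 := by
      have := congrArg (fun w : ℂˣ => (w : ℂ)) h1
      simpa using this
    exact Complex.norm_eq_one_of_pow_eq_one h2 Nat.card_pos.ne'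
  have hconst : ∀ g z : G.comap π, z ∈ πG.ker →
      (fun g => β g * θ' (g : E)) (g * z) = (fun g => β g * θ' (g : E)) g := by
    intro g z hz
    have hzker : (z : E) ∈ π.ker := by
      rw [MonoidHom.mem_ker] at hz ⊢
      have := congrArg (fun y : G => (y : Γ)) hz
      simp only [hπGcoe] at this
      exact this
    have hzN : (z : E) ∈ N.comap π := by
      show π (z : E) ∈ N
      rw [MonoidHom.mem_ker.mp hzker]
      exact N.one_mem
    have h1 := hβN ⟨(z : E), hzN⟩
    have h2 : β z = ((M ⟨(z : E), hzN⟩ : ℂˣ) : ℂ) * β 1 := by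
      rw [mul_comm, ← h1]
    have h3 := apply_mul_of_scalar hβc z _ h2 (hMnorm _) g
    have h4 := apply_mul_central' π.ker hker hθ' (g : E) (z : E) hzker
    have h5 : ((M ⟨(z : E), hzN⟩ : ℂˣ) : ℂ) = (θ' (z : E) / θ' 1)⁻¹ := by
      rw [hMdef]
      exact zHom_of_mem_ker π hker N ι hπι hθ' ⟨(z : E), hzN⟩ hzker
    have h6 := central_ratio_ne_zero π.ker hker hθ' (z : E) hzker
    show β (g * z) * θ' ((g * z : G.comap π) : E) = β g * θ' (g : E)
    rw [h3, h5]
    have h7 : ((g * z : G.comap π) : E) = (g : E) * (z : E) := rfl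
    rw [h7, h4]
    calc (θ' (z : E) / θ' 1)⁻¹ * β g * (θ' (z : E) / θ' 1 * θ' (g : E))
        = ((θ' (z : E) / θ' 1)⁻¹ * (θ' (z : E) / θ' 1)) * (β g * θ' (g : E)) := by ring
      _ = β g * θ' (g : E) := by rw [inv_mul_cancel₀ h6, one_mul]
  obtain ⟨χ, hχ, hχπ⟩ := exists_descent πG hπGsurj hχ'irr hconst
  refine ⟨χ, hχ, ?_, ?_⟩
  · -- over `θ`
    have h1 : (fun x : N.comap π => (fun n : N => χ ⟨n, hNG n.2⟩) (πN x))
        = (β 1) • fun x : N.comap π => θ (πN x) := by
      funext x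
      have h2 : (⟨((πN x : N) : Γ), hNG (πN x).2⟩ : G) = πG ⟨(x : E), hN₂G₂ x.2⟩ := by
        apply Subtype.ext
        rw [hπNcoe, hπGcoe]
      show χ ⟨((πN x : N) : Γ), hNG (πN x).2⟩ = β 1 * θ (πN x)
      rw [h2, hχπ]
      show β ⟨(x : E), hN₂G₂ x.2⟩ * θ' (x : E) = β 1 * θ (πN x)
      rw [hβN x, mul_assoc, mul_comm ((M x : ℂˣ) : ℂ), hMdef, zHom_mul_apply, hθ'ι]
      congr 2
      apply Subtype.ext
      exact (hπNcoe x).symm
    have h3 := classInner_comp_surjective πN hπNsurj (fun n : N => χ ⟨n, hNG n.2⟩) θ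
    rw [← h3, h1, classInner_smul_left, classInner_comp_surjective πN hπNsurj θ θ,
      irr_classInner_self hθ, mul_one]
    exact hβ1ne
  · intro x g
    obtain ⟨y, rfl⟩ := hπ x
    obtain ⟨g', rfl⟩ := hπGsurj g
    have hcf := isClassFunction_of_isCharacter (isCharacter_of_isIrrCharacter hθ')
    have h1 : (⟨π y * ((πG g' : G) : Γ) * (π y)⁻¹, hG.conj_mem _ (πG g').2 (π y)⟩ : G)
        = πG ⟨y * (g' : E) * y⁻¹, hG₂n.conj_mem (g' : E) g'.2 y⟩ := by
      apply Subtype.ext
      show π y * ((πG g' : G) : Γ) * (π y)⁻¹ = ((πG _ : G) : Γ)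
      rw [hπGcoe, hπGcoe]
      simp
    rw [h1, hχπ, hχπ]
    show β ⟨y * (g' : E) * y⁻¹, _⟩ * θ' (y * (g' : E) * y⁻¹) = β g' * θ' (g' : E)
    rw [hβinv y g', hcf]

end Cfsg.Agent.Lib.helper3.Tri
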