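import Mathlib

/-!
# The arithmetic of Brauer's order formula in the `PSL`-shaped case
-/

set_option autoImplicit false

namespace Cfsg.Agent.Lib.helper3.Klein

theorem klein_arith (g c p u q n i : ℕ) (hp : 0 < p) (hn : 0 < n)
    (hq : q = 2 * u + 1) (hc : c = n * p) (hg : g = i * c)
    (hmain : g * ((u + 1) ^ 2 * p ^ 2) = 4 * u * q * c ^ 3) :
    ∃ m : ℕ, 4 * c = m * p * (q + 1) ∧ 8 * g = m ^ 3 * p * (q ^ 3 - q) := by
  subst hc hg
  have h1 : i * (u + 1) ^ 2 = 4 * u * q * n ^ 2 := by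
    have hpos : 0 < n * p ^ 3 := Nat.mul_pos hn (pow_pos hp 3)
    apply Nat.eq_of_mul_eq_mul_left hpos
    have l : n * p ^ 3 * (i * (u + 1) ^ 2) = (i * (n * p)) * ((u + 1) ^ 2 * p ^ 2) := by ring
    have r : n * p ^ 3 * (4 * u * q * n ^ 2) = 4 * u * q * (n * p) ^ 3 := by ring
    rw [l, r]
    exact hmain
  have hcu : Nat.Coprime (u + 1) u := by
    simp
  have hcq : Nat.Coprime (u + 1) q := by
    rw [hq, show 2 * u + 1 = u + (u + 1) by ring]
    simp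
  have hcop : Nat.Coprime ((u + 1) ^ 2) (u * q) :=
    Nat.Coprime.pow_left 2 (Nat.Coprime.mul_right hcu hcq)
  have hdvd : (u + 1) ^ 2 ∣ (2 * n) ^ 2 * (u * q) := by
    refine ⟨i, ?_⟩
    rw [mul_comm ((u + 1) ^ 2) i, h1]
    ring
  have hdvd2 : (u + 1) ^ 2 ∣ (2 * n) ^ 2 := hcop.dvd_of_dvd_mul_right hdvd
  have hdvd3 : (u + 1) ∣ 2 * n := (Nat.pow_dvd_pow_iff (by norm_num)).1 hdvd2
  obtain ⟨m, hm⟩ := hdvd3
  refine ⟨m, ?_, ?_⟩
  · rw [hq]
    calc 4 * (n * p) = 2 * p * (2 * n) := by ring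
      _ = 2 * p * ((u + 1) * m) := by rw [hm]
      _ = m * p * (2 * u + 1 + 1) := by ring
  · have hq3 : q ^ 3 - q = 4 * u * (u + 1) * q := by
      apply Nat.sub_eq_of_eq_add
      rw [hq]
      ring
    rw [hq3]
    have hupos : 0 < (u + 1) ^ 2 := by positivity
    apply Nat.eq_of_mul_eq_mul_left hupos
    calc (u + 1) ^ 2 * (8 * (i * (n * p))) = 8 * n * p * (i * (u + 1) ^ 2) := by ring
      _ = 8 * n * p * (4 * u * q * n ^ 2) := by rw [h1]
      _ = 4 * u * q * p * (2 * n) ^ 3 := by ring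
      _ = 4 * u * q * p * ((u + 1) * m) ^ 3 := by rw [hm]
      _ = (u + 1) ^ 2 * (m ^ 3 * p * (4 * u * (u + 1) * q)) := by ring

end Cfsg.Agent.Lib.helper3.Klein
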