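import Mathlib

/-!
# Groups of order `4 g₀`, `g₀` odd, without a normal `2`-complement

The Sylow `2`-subgroups are Klein four groups and the involutions are all conjugate.
-/

set_option autoImplicit false
set_option linter.style.haveILetI false
set_option linter.unusedSectionVars false

namespace Cfsg.Agent.Lib.helper3.Klein

variable {G : Type*} [Group G] [Finite G]

/-- Every `2`-element is conjugate into a given Sylow `2`-subgroup. -/
theorem exists_conj_mem_sylow (P : Sylow 2 G) (g : G) (hg : ∃ k : ℕ, orderOf g = 2 ^ k) :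
    ∃ c : G, c⁻¹ * g * c ∈ (P : Subgroup G) := by
  haveI : Fact (Nat.Prime 2) := ⟨Nat.prime_two⟩
  obtain ⟨k, hk⟩ := hg
  have hZ : IsPGroup 2 (Subgroup.zpowers g) := by
    apply IsPGroup.of_card (n := k)
    rw [Nat.card_zpowers, hk]
  obtain ⟨Q, hQ⟩ := hZ.exists_le_sylow
  obtain ⟨c, hc⟩ := MulAction.exists_smul_eq G P Q
  have hgQ : g ∈ (Q : Subgroup G) := hQ (Subgroup.mem_zpowers g)
  rw [← hc, Sylow.smul_def] at hgQ
  have hy0 := (Subgroup.mem_pointwise_smul_iff_inv_smul_mem).mp hgQ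
  refine ⟨c, ?_⟩
  have : (MulAut.conj c)⁻¹ • g = c⁻¹ * g * c := by
    rw [MulAut.smul_def, MulAut.conj_inv_apply]
  rw [← this]
  exact hy0

theorem card_sylow_of_card (g₀ : ℕ) (hg₀ : Odd g₀) (hG : Nat.card G = 4 * g₀) (P : Sylow 2 G) :
    Nat.card P = 4 := by
  haveI : Fact (Nat.Prime 2) := ⟨Nat.prime_two⟩
  have hg0 : g₀ ≠ 0 := by
    rintro rfl
    simp at hg₀
  have h2 : ¬ 2 ∣ g₀ := by
    intro h
    exact (Nat.not_even_iff_odd.2 hg₀) (even_iff_two_dvd.2 h)
  have hfac : (Nat.card G).factorization 2 = 2 := by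
    rw [hG, show (4 : ℕ) = 2 ^ 2 by norm_num, Nat.factorization_mul (by norm_num) hg0,
      Finsupp.add_apply, Nat.Prime.factorization_pow Nat.prime_two,
      Nat.factorization_eq_zero_of_not_dvd h2]
    simp
  rw [Sylow.card_eq_multiplicity, hfac]
  norm_num

/-- The conclusion of the structure lemma. -/
theorem klein_of_no_normal_complement (g₀ : ℕ) (hg₀ : Odd g₀) (hG : Nat.card G = 4 * g₀)
    (hnc : ¬ ∃ N : Subgroup G, N.Normal ∧ Nat.card N = g₀) (P : Sylow 2 G) :
    Nat.card P = 4 ∧ (∀ x : P, x * x = 1) ∧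
      (∀ s t : G, orderOf s = 2 → orderOf t = 2 → IsConj s t) := by
  classical
  haveI : Fact (Nat.Prime 2) := ⟨Nat.prime_two⟩
  haveI : Fintype G := Fintype.ofFinite G
  have hP : Nat.card P = 4 := card_sylow_of_card g₀ hg₀ hG P
  have hg0 : g₀ ≠ 0 := by
    rintro rfl
    simp at hg₀
  haveI hPc : IsMulCommutative (P : Subgroup G) :=
    IsPGroup.isMulCommutative_of_card_eq_prime_sq (p := 2) (by rw [hP]; norm_num)
  have hcomm : ∀ a b : G, a ∈ (P : Subgroup G) → b ∈ (P : Subgroup G) → a * b = b * a := by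
    intro a b ha hb
    have := hPc.is_comm.comm (⟨a, ha⟩ : (P : Subgroup G)) ⟨b, hb⟩
    exact congrArg Subtype.val this
  -- the normalizer does not centralize
  have hnot : ¬ (Subgroup.normalizer ((P : Subgroup G) : Set G)
      ≤ Subgroup.centralizer ((P : Subgroup G) : Set G)) := by
    intro h
    have hc := MonoidHom.ker_transferSylow_isComplement' P h
    apply hnc
    refine ⟨(MonoidHom.transferSylow P h).ker, inferInstance, ?_⟩
    have h1 := hc.card_mul
    rw [hP, hG] at h1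
    omega
  obtain ⟨n, hnN, hnC⟩ := SetLike.not_le_iff_exists.1 hnot
  rw [Subgroup.mem_centralizer_iff] at hnC
  push Not at hnC
  obtain ⟨y₀, hy₀P, hy₀⟩ := hnC
  -- an element of odd order with the same property
  obtain ⟨a, m, hm, ho⟩ := Nat.exists_eq_two_pow_mul_odd (orderOf_pos n).ne'
  have hn1P : n ^ m ∈ (P : Subgroup G) := by
    have hZ : IsPGroup 2 (Subgroup.zpowers (n ^ m)) := by
      intro g
      obtain ⟨j, hj⟩ := Subgroup.mem_zpowers_iff.1 g.2
      refine ⟨a, ?_⟩
      apply Subtype.ext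
      rw [Subgroup.coe_pow, ← hj, ← zpow_natCast, ← zpow_mul, mul_comm, zpow_mul, zpow_natCast,
        ← pow_mul, mul_comm, ← ho, pow_orderOf_eq_one, one_zpow]
      rfl
    have h1 := hZ.inf_normalizer_sylow P
    have h2 : n ^ m ∈ Subgroup.zpowers (n ^ m) ⊓ Subgroup.normalizer ((P : Subgroup G) : Set G) :=
      ⟨Subgroup.mem_zpowers _, Subgroup.pow_mem _ hnN m⟩
    exact (h1.le h2).2
  obtain ⟨w, hw⟩ : ∃ w : G, w = n ^ (2 ^ a) := ⟨_, rfl⟩
  have hwN : w ∈ Subgroup.normalizer ((P : Subgroup G) : Set G) := by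
    rw [hw]
    exact Subgroup.pow_mem _ hnN _
  have hwm : w ^ m = 1 := by
    rw [hw, ← pow_mul, ← ho, pow_orderOf_eq_one]
  have hwy : w * y₀ ≠ y₀ * w := by
    intro hc
    apply hy₀
    have hcop : IsCoprime (((2 ^ a : ℕ) : ℤ)) (m : ℤ) := by
      apply Nat.isCoprime_iff_coprime.mpr
      apply Nat.Coprime.pow_left
      exact (Nat.Prime.coprime_iff_not_dvd Nat.prime_two).2 (by
        intro h
        exact (Nat.not_even_iff_odd.2 hm) (even_iff_two_dvd.2 h))
    obtain ⟨u, v, huv⟩ := hcop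
    have hn : n = w ^ u * (n ^ m) ^ v := by
      have : n ^ (u * ((2 ^ a : ℕ) : ℤ) + v * (m : ℤ)) = n := by rw [huv, zpow_one]
      rw [zpow_add, mul_comm u, zpow_mul, zpow_natCast, mul_comm v, zpow_mul, zpow_natCast,
        ← hw] at this
      exact this.symm
    have c1 : Commute w y₀ := hc
    have c2 : Commute (n ^ m) y₀ := hcomm _ _ hn1P hy₀P
    have c3 : Commute n y₀ := by
      rw [hn]
      exact (c1.zpow_left u).mul_left (c2.zpow_left v)
    exact c3.eq.symm
  -- the three conjugates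
  have hconjP : ∀ g : G, g ∈ (P : Subgroup G) ↔ w * g * w⁻¹ ∈ (P : Subgroup G) :=
    fun g => Subgroup.mem_normalizer_iff.1 hwN g
  obtain ⟨y₁, hy₁⟩ : ∃ y₁ : G, y₁ = w * y₀ * w⁻¹ := ⟨_, rfl⟩
  obtain ⟨y₂, hy₂⟩ : ∃ y₂ : G, y₂ = w * y₁ * w⁻¹ := ⟨_, rfl⟩
  have hy₁P : y₁ ∈ (P : Subgroup G) := by rw [hy₁]; exact (hconjP y₀).1 hy₀P
  have hy₂P : y₂ ∈ (P : Subgroup G) := by rw [hy₂]; exact (hconjP y₁).1 hy₁P
  have h10 : y₁ ≠ y₀ := by
    intro h
    apply hwy
    rw [hy₁] at h
    calc w * y₀ = (w * y₀ * w⁻¹) * w := by group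
      _ = y₀ * w := by rw [h]
  have h21 : y₂ ≠ y₁ := by
    intro h
    apply h10
    rw [hy₂, hy₁] at h
    have h' : w⁻¹ * (w * (w * y₀ * w⁻¹) * w⁻¹) * w = w⁻¹ * (w * y₀ * w⁻¹) * w := by rw [h]
    rw [hy₁]
    calc w * y₀ * w⁻¹ = w⁻¹ * (w * (w * y₀ * w⁻¹) * w⁻¹) * w := by group
      _ = w⁻¹ * (w * y₀ * w⁻¹) * w := h'
      _ = y₀ := by group
  have h20 : y₂ ≠ y₀ := by
    intro h
    apply hwy
    have c1 : Commute (w ^ 2) y₀ := by
      show w ^ 2 * y₀ = y₀ * w ^ 2
      rw [hy₂, hy₁] at h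
      calc w ^ 2 * y₀ = (w * (w * y₀ * w⁻¹) * w⁻¹) * w ^ 2 := by
            simp only [pow_two, mul_assoc, inv_mul_cancel_left, inv_mul_cancel, mul_one]
        _ = y₀ * w ^ 2 := by rw [h]
    obtain ⟨j, hj⟩ := hm
    have hw' : w = (w ^ 2) ^ (j + 1) := by
      rw [← pow_mul, show 2 * (j + 1) = m + 1 by omega, pow_succ, hwm, one_mul]
    have c2 : Commute w y₀ := by
      rw [hw']
      exact c1.pow_left _
    exact c2.eq
  have hy₀1 : y₀ ≠ 1 := by
    intro h
    apply hwy
    rw [h, mul_one, one_mul]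
  have hy₁1 : y₁ ≠ 1 := by
    intro h
    apply hy₀1
    rw [hy₁] at h
    calc y₀ = w⁻¹ * (w * y₀ * w⁻¹) * w := by group
      _ = 1 := by rw [h]; group
  have hy₂1 : y₂ ≠ 1 := by
    intro h
    apply hy₁1
    rw [hy₂] at h
    calc y₁ = w⁻¹ * (w * y₁ * w⁻¹) * w := by group
      _ = 1 := by rw [h]; group
  -- the elements of `P`
  have hPelts : ∀ x : G, x ∈ (P : Subgroup G) → x = 1 ∨ x = y₀ ∨ x = y₁ ∨ x = y₂ := by
    obtain ⟨F, hF⟩ : ∃ F : Finset G, F = {1, y₀, y₁, y₂} := ⟨_, rfl⟩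
    have hFcard : F.card = 4 := by
      rw [hF, Finset.card_insert_of_notMem, Finset.card_insert_of_notMem,
        Finset.card_insert_of_notMem, Finset.card_singleton]
      · simp only [Finset.mem_singleton]
        exact fun h => h21 h.symm
      · simp only [Finset.mem_insert, Finset.mem_singleton, not_or]
        exact ⟨fun h => h10 h.symm, fun h => h20 h.symm⟩
      · simp only [Finset.mem_insert, Finset.mem_singleton, not_or]
        exact ⟨fun h => hy₀1 h.symm, fun h => hy₁1 h.symm, fun h => hy₂1 h.symm⟩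
    obtain ⟨T, hT⟩ : ∃ T : Finset G, T = Finset.univ.filter (fun x => x ∈ (P : Subgroup G)) :=
      ⟨_, rfl⟩
    have hTcard : T.card = 4 := by
      rw [← hP, hT, Nat.card_eq_fintype_card, Fintype.card_subtype]
    have hFT : F ⊆ T := by
      intro x hx
      rw [hT, Finset.mem_filter]
      refine ⟨Finset.mem_univ _, ?_⟩
      rw [hF] at hx
      simp only [Finset.mem_insert, Finset.mem_singleton] at hx
      rcases hx with rfl | rfl | rfl | rfl
      · exact Subgroup.one_mem _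
      · exact hy₀P
      · exact hy₁P
      · exact hy₂P
    have hEq : F = T := Finset.eq_of_subset_of_card_le hFT (by rw [hFcard, hTcard])
    intro x hx
    have : x ∈ F := by
      rw [hEq, hT, Finset.mem_filter]
      exact ⟨Finset.mem_univ _, hx⟩
    rw [hF] at this
    simpa using this
  -- orders
  have ho1 : orderOf y₁ = orderOf y₀ := by
    rw [hy₁]
    exact (MulAut.conj w).orderOf_eq y₀
  have ho2 : orderOf y₂ = orderOf y₁ := by
    rw [hy₂]
    exact (MulAut.conj w).orderOf_eq y₁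
  have ho0 : orderOf y₀ = 2 := by
    obtain ⟨x, hx⟩ := exists_prime_orderOf_dvd_card' (G := (P : Subgroup G)) 2
      (by rw [hP]; norm_num)
    rw [← Subgroup.orderOf_coe] at hx
    have hx1 : (x : G) ≠ 1 := by
      intro h
      rw [h, orderOf_one] at hx
      omega
    rcases hPelts (x : G) x.2 with h | h | h | h
    · exact absurd h hx1
    · rw [← h]; exact hx
    · rw [← ho1, ← h]; exact hx
    · rw [← ho1, ← ho2, ← h]; exact hx
  have hsq : ∀ x : G, x ∈ (P : Subgroup G) → x * x = 1 := by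
    intro x hx
    have h0 : y₀ * y₀ = 1 := by
      have := pow_orderOf_eq_one y₀
      rw [ho0, pow_two] at this
      exact this
    have h1 : y₁ * y₁ = 1 := by
      have := pow_orderOf_eq_one y₁
      rw [ho1, ho0, pow_two] at this
      exact this
    have h2 : y₂ * y₂ = 1 := by
      have := pow_orderOf_eq_one y₂
      rw [ho2, ho1, ho0, pow_two] at this
      exact this
    rcases hPelts x hx with h | h | h | h <;> rw [h]
    · exact one_mul 1
    · exact h0
    · exact h1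
    · exact h2
  have hc10 : IsConj y₀ y₁ := isConj_iff.2 ⟨w, hy₁.symm⟩
  have hc21 : IsConj y₁ y₂ := isConj_iff.2 ⟨w, hy₂.symm⟩
  have hinv : ∀ s : G, orderOf s = 2 → IsConj s y₀ := by
    intro s hs
    obtain ⟨c, hc⟩ := exists_conj_mem_sylow P s ⟨1, by rw [hs, pow_one]⟩
    have hs1 : c⁻¹ * s * c ≠ 1 := by
      intro h
      have : s = 1 := by
        calc s = c * (c⁻¹ * s * c) * c⁻¹ := by group
          _ = 1 := by rw [h]; group
      rw [this, orderOf_one] at hs
      omega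
    have hsc : IsConj s (c⁻¹ * s * c) := isConj_iff.2 ⟨c⁻¹, by rw [inv_inv]⟩
    rcases hPelts _ hc with h | h | h | h
    · exact absurd h hs1
    · rw [h] at hsc; exact hsc
    · rw [h] at hsc; exact hsc.trans hc10.symm
    · rw [h] at hsc; exact hsc.trans (hc21.symm.trans hc10.symm)
  refine ⟨hP, ?_, ?_⟩
  · intro x
    apply Subtype.ext
    exact hsq (x : G) x.2
  · intro s t hs ht
    exact (hinv s hs).trans (hinv t ht).symm

end Cfsg.Agent.Lib.helper3.Klein
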