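import Mathlib

/-!
# Counting pairs of involutions in a group with a central involution and a normal
`2`-complement of index four
-/

set_option autoImplicit false
set_option linter.style.haveILetI false
set_option linter.unusedSectionVars false

namespace Cfsg.Agent.Lib.helper3.Klein

/-- An involution `s` inverting the element `k` of odd order: `k s` is conjugate to `s`. -/
theorem conj_of_inverted {H : Type*} [Group H] (s k : H) (hs : s * s = 1) (o : ℕ) (ho : Odd o)
    (hk : k ^ o = 1) (hinv : s * k * s⁻¹ = k⁻¹) : ∃ l : H, k * s = l * s * l⁻¹ := by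
  obtain ⟨j, hj⟩ := ho
  refine ⟨k ^ (j + 1), ?_⟩
  have hl2 : k ^ (j + 1) * k ^ (j + 1) = k := by
    rw [← pow_add, show j + 1 + (j + 1) = o + 1 by omega, pow_succ, hk, one_mul]
  have hsl : s * (k ^ (j + 1))⁻¹ * s⁻¹ = k ^ (j + 1) := by
    have h1 : s * (k ^ (j + 1))⁻¹ * s⁻¹ = (s * k * s⁻¹)⁻¹ ^ (j + 1) := by
      rw [← inv_pow, ← conj_pow]
      simp only [mul_inv_rev, inv_inv, mul_assoc]
    rw [h1, hinv, inv_inv]
  calc k * s = k ^ (j + 1) * k ^ (j + 1) * s := by rw [hl2]
    _ = k ^ (j + 1) * (s * (k ^ (j + 1))⁻¹ * s⁻¹) * s := by rw [hsl]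
    _ = k ^ (j + 1) * s * (k ^ (j + 1))⁻¹ := by group

/-- Involutions with product in `t K` centralize `t`. -/
theorem commute_of_mul_eq {G : Type*} [Group G] (t a b h : G) (ht : t * t = 1) (ha : a * a = 1)
    (hb : b * b = 1) (hth : t * h = h * t) (o : ℕ) (ho : Odd o) (hh : h ^ o = 1)
    (hab : a * b = t * h) : a * t = t * a ∧ b * t = t * b := by
  have hainv : a⁻¹ = a := inv_eq_of_mul_eq_one_left ha
  have hbinv : b⁻¹ = b := inv_eq_of_mul_eq_one_left hb
  have htinv : t⁻¹ = t := inv_eq_of_mul_eq_one_left ht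
  have hzo : (t * h) ^ o = t := by
    have hc : Commute t h := hth
    rw [hc.mul_pow, hh, mul_one]
    obtain ⟨j, hj⟩ := ho
    rw [hj, pow_succ, pow_mul, pow_two, ht, one_pow, one_mul]
  have hconj : a * (t * h) * a⁻¹ = (t * h)⁻¹ := by
    rw [← hab, mul_inv_rev, hainv, hbinv]
    calc a * (a * b) * a = (a * a) * b * a := by group
      _ = b * a := by rw [ha, one_mul]
  have hat : a * t * a⁻¹ = t := by
    have h1 : a * (t * h) ^ o * a⁻¹ = ((t * h)⁻¹) ^ o := by
      rw [← hconj, conj_pow]
    rw [hzo, inv_pow, hzo, htinv] at h1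
    exact h1
  have h1 : a * t = t * a := by
    calc a * t = (a * t * a⁻¹) * a := by group
      _ = t * a := by rw [hat]
  refine ⟨h1, ?_⟩
  have hbz : b = a * (t * h) := by
    rw [← hab, ← mul_assoc, ha, one_mul]
  rw [hbz]
  calc a * (t * h) * t = a * t * (h * t) := by group
    _ = t * a * (t * h) := by rw [h1, hth]
    _ = t * (a * (t * h)) := by group

open Classical in
/-- The number of pairs of involutions with product in the coset `t K`. -/
theorem card_involution_pairs {H : Type*} [Group H] [Fintype H]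
    (t s : H) (ht : orderOf t = 2) (htc : ∀ g : H, g * t = t * g) (hs : orderOf s = 2)
    (hst : s ≠ t) (K : Subgroup H) [hKn : K.Normal] (hKodd : Odd (Nat.card K))
    (hidx : K.index = 4) :
    (Finset.univ.filter (fun p : H × H =>
        orderOf p.1 = 2 ∧ orderOf p.2 = 2 ∧ t⁻¹ * (p.1 * p.2) ∈ K)).card
      = 2 * ((Finset.univ.filter (fun x : H => IsConj s x)).card
        * (Finset.univ.filter (fun x : H => IsConj (s * t) x)).card) := by
  haveI : Fact (Nat.Prime 2) := ⟨Nat.prime_two⟩
  have htt : t * t = 1 := by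
    have := pow_orderOf_eq_one t
    rw [ht, pow_two] at this
    exact this
  have hss : s * s = 1 := by
    have := pow_orderOf_eq_one s
    rw [hs, pow_two] at this
    exact this
  have htinv : t⁻¹ = t := inv_eq_of_mul_eq_one_left htt
  have hsinv : s⁻¹ = s := inv_eq_of_mul_eq_one_left hss
  have ht1 : t ≠ 1 := by
    intro h
    rw [h, orderOf_one] at ht
    omega
  have hs1 : s ≠ 1 := by
    intro h
    rw [h, orderOf_one] at hs
    omega
  obtain ⟨u, hu⟩ : ∃ u : H, u = s * t := ⟨_, rfl⟩
  have huu : u * u = 1 := by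
    rw [hu]
    calc s * t * (s * t) = s * (t * s) * t := by group
      _ = s * (s * t) * t := by rw [htc s]
      _ = (s * s) * (t * t) := by group
      _ = 1 := by rw [hss, htt, one_mul]
  have hu1 : u ≠ 1 := by
    intro h
    apply hst
    rw [hu] at h
    calc s = s * t * t⁻¹ := by group
      _ = t := by rw [h, one_mul, htinv]
  have huinv : u⁻¹ = u := inv_eq_of_mul_eq_one_left huu
  have hou : orderOf u = 2 := orderOf_eq_prime (by rw [pow_two, huu]) hu1
  -- the elements of `K` have odd order
  obtain ⟨o, ho⟩ : ∃ o : ℕ, o = Nat.card K := ⟨_, rfl⟩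
  have hoodd : Odd o := by rw [ho]; exact hKodd
  have hKo : ∀ k : H, k ∈ K → k ^ o = 1 := by
    intro k hk
    have := pow_card_eq_one' (G := K) (x := ⟨k, hk⟩)
    rw [ho]
    exact congrArg Subtype.val this
  have hsqK : ∀ k : H, k ∈ K → k * k = 1 → k = 1 := by
    intro k hk hkk
    have h1 := hKo k hk
    obtain ⟨j, hj⟩ := hoodd
    rw [hj, pow_succ, pow_mul, pow_two, hkk, one_pow, one_mul] at h1
    exact h1
  have hinvK : ∀ a : H, orderOf a = 2 → a ∉ K := by
    intro a ha haK
    have haa : a * a = 1 := by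
      have := pow_orderOf_eq_one a
      rw [ha, pow_two] at this
      exact this
    have := hsqK a haK haa
    rw [this, orderOf_one] at ha
    omega
  -- the quotient
  have hQcard : Nat.card (H ⧸ K) = 2 ^ 2 := by
    have : Nat.card (H ⧸ K) = K.index := rfl
    rw [this, hidx]
    norm_num
  have hQcomm : ∀ x y : H ⧸ K, x * y = y * x :=
    IsPGroup.commutative_of_card_eq_prime_sq (p := 2) hQcard
  obtain ⟨φ, hφ⟩ : ∃ φ : H →* H ⧸ K, φ = QuotientGroup.mk' K := ⟨_, rfl⟩
  have hφker : ∀ a : H, φ a = 1 ↔ a ∈ K := by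
    intro a
    rw [hφ]
    exact QuotientGroup.eq_one_iff a
  have hφt : φ t ≠ 1 := fun h => hinvK t ht ((hφker t).1 h)
  have hφs : φ s ≠ 1 := fun h => hinvK s hs ((hφker s).1 h)
  have hφu : φ u ≠ 1 := fun h => hinvK u hou ((hφker u).1 h)
  have hφumul : φ u = φ s * φ t := by rw [hu, map_mul]
  have hφtt : φ t * φ t = 1 := by rw [← map_mul, htt, map_one]
  have hφss : φ s * φ s = 1 := by rw [← map_mul, hss, map_one]
  have hφuu : φ u * φ u = 1 := by rw [← map_mul, huu, map_one]
  have hφst : φ s ≠ φ t := by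
    intro h
    apply hφu
    rw [hφumul, h, hφtt]
  have hφsu : φ s ≠ φ u := by
    intro h
    apply hφt
    rw [hφumul] at h
    calc φ t = (φ s)⁻¹ * (φ s * φ t) := by group
      _ = 1 := by rw [← h]; group
  have hφtu : φ t ≠ φ u := by
    intro h
    apply hφs
    rw [hφumul] at h
    calc φ s = (φ s * φ t) * (φ t)⁻¹ := by group
      _ = 1 := by rw [← h]; group
  -- the elements of the quotient
  have hQelts : ∀ q : H ⧸ K, q = 1 ∨ q = φ t ∨ q = φ s ∨ q = φ u := by
    haveI : Fintype (H ⧸ K) := Fintype.ofFinite _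
    obtain ⟨F, hF⟩ : ∃ F : Finset (H ⧸ K), F = {1, φ t, φ s, φ u} := ⟨_, rfl⟩
    have hFcard : F.card = 4 := by
      rw [hF, Finset.card_insert_of_notMem, Finset.card_insert_of_notMem,
        Finset.card_insert_of_notMem, Finset.card_singleton]
      · simp only [Finset.mem_singleton]
        exact hφsu
      · simp only [Finset.mem_insert, Finset.mem_singleton, not_or]
        exact ⟨fun h => hφst h.symm, hφtu⟩
      · simp only [Finset.mem_insert, Finset.mem_singleton, not_or]
        exact ⟨fun h => hφt h.symm, fun h => hφs h.symm, fun h => hφu h.symm⟩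
    have hEq : F = Finset.univ := by
      apply Finset.eq_univ_of_card
      rw [hFcard, ← Nat.card_eq_fintype_card, hQcard]
      norm_num
    intro q
    have : q ∈ F := by rw [hEq]; exact Finset.mem_univ q
    rw [hF] at this
    simpa using this
  -- conjugates have the same image
  have hφconj : ∀ a b : H, IsConj a b → φ b = φ a := by
    intro a b hab
    obtain ⟨c, hc⟩ := isConj_iff.1 hab
    rw [← hc, map_mul, map_mul, hQcomm (φ c) (φ a), mul_assoc, ← map_mul, mul_inv_cancel,
      map_one, mul_one]
  have hordconj : ∀ a b : H, IsConj a b → orderOf a = 2 → orderOf b = 2 := by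
    intro a b hab ha
    obtain ⟨c, hc⟩ := isConj_iff.1 hab
    rw [← hc]
    have := (MulAut.conj c).orderOf_eq a
    rw [MulAut.conj_apply] at this
    rw [this, ha]
  -- the classification of the involutions
  have hcoset : ∀ (v a : H), orderOf v = 2 → v * v = 1 → orderOf a = 2 → φ a = φ v →
      IsConj v a := by
    intro v a hv hvv ha hφa
    have hvinv : v⁻¹ = v := inv_eq_of_mul_eq_one_left hvv
    have haa : a * a = 1 := by
      have := pow_orderOf_eq_one a
      rw [ha, pow_two] at this
      exact this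
    obtain ⟨k, hk⟩ : ∃ k : H, k = a * v⁻¹ := ⟨_, rfl⟩
    have hkK : k ∈ K := by
      rw [← hφker, hk, map_mul, hφa, ← map_mul, mul_inv_cancel, map_one]
    have hak : a = k * v := by rw [hk]; group
    have hinvk : v * k * v⁻¹ = k⁻¹ := by
      have h1 : k * v * (k * v) = 1 := by rw [← hak]; exact haa
      have h2 : v * k * v = k⁻¹ := by
        calc v * k * v = k⁻¹ * (k * v * (k * v)) := by group
          _ = k⁻¹ := by rw [h1, mul_one]
      rw [hvinv]
      exact h2
    obtain ⟨l, hl⟩ := conj_of_inverted v k hvv o hoodd (hKo k hkK) hinvk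
    rw [hak, hl]
    exact isConj_iff.2 ⟨l, rfl⟩
  have htri : ∀ a : H, orderOf a = 2 → a = t ∨ IsConj s a ∨ IsConj u a := by
    intro a ha
    rcases hQelts (φ a) with h | h | h | h
    · exact absurd ((hφker a).1 h) (hinvK a ha)
    · left
      have haa : a * a = 1 := by
        have := pow_orderOf_eq_one a
        rw [ha, pow_two] at this
        exact this
      obtain ⟨k, hk⟩ : ∃ k : H, k = t⁻¹ * a := ⟨_, rfl⟩
      have hkK : k ∈ K := by
        rw [← hφker, hk, map_mul, h, ← map_mul, inv_mul_cancel, map_one]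
      have hak : a = t * k := by rw [hk]; group
      have hkk : k * k = 1 := by
        have h1 : t * k * (t * k) = 1 := by rw [← hak]; exact haa
        calc k * k = (t * t) * (k * k) := by rw [htt, one_mul]
          _ = t * (t * k) * k := by group
          _ = t * (k * t) * k := by rw [htc k]
          _ = t * k * (t * k) := by group
          _ = 1 := h1
      rw [hak, hsqK k hkK hkk, mul_one]
    · right; left
      exact hcoset s a hs hss ha h
    · right; right
      exact hcoset u a hou huu ha h
  -- the membership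
  have hmem : ∀ p : H × H, (orderOf p.1 = 2 ∧ orderOf p.2 = 2 ∧ t⁻¹ * (p.1 * p.2) ∈ K)
      ↔ ((IsConj s p.1 ∧ IsConj u p.2) ∨ (IsConj u p.1 ∧ IsConj s p.2)) := by
    rintro ⟨a, b⟩
    simp only
    constructor
    · rintro ⟨ha, hb, hab⟩
      have hφab : φ a * φ b = φ t := by
        have := (hφker _).2 hab
        rw [map_mul, map_mul, map_inv] at this
        calc φ a * φ b = φ t * ((φ t)⁻¹ * (φ a * φ b)) := by group
          _ = φ t := by rw [this, mul_one]
      rcases htri a ha with h1 | h1 | h1
      · exfalso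
        rw [h1] at hφab
        have : φ b = 1 := by
          calc φ b = (φ t)⁻¹ * (φ t * φ b) := by group
            _ = 1 := by rw [hφab]; group
        exact hinvK b hb ((hφker b).1 this)
      · have hφa := hφconj s a h1
        rcases htri b hb with h2 | h2 | h2
        · exfalso
          rw [h2, hφa] at hφab
          apply hφs
          calc φ s = (φ s * φ t) * (φ t)⁻¹ := by group
            _ = 1 := by rw [hφab]; group
        · exfalso
          rw [hφa, hφconj s b h2, hφss] at hφab
          exact hφt hφab.symm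
        · left
          exact ⟨h1, h2⟩
      · have hφa := hφconj u a h1
        rcases htri b hb with h2 | h2 | h2
        · exfalso
          rw [h2, hφa] at hφab
          apply hφu
          calc φ u = (φ u * φ t) * (φ t)⁻¹ := by group
            _ = 1 := by rw [hφab]; group
        · right
          exact ⟨h1, h2⟩
        · exfalso
          rw [hφa, hφconj u b h2, hφuu] at hφab
          exact hφt hφab.symm
    · rintro (⟨h1, h2⟩ | ⟨h1, h2⟩)
      · refine ⟨hordconj s a h1 hs, hordconj u b h2 hou, ?_⟩
        rw [← hφker, map_mul, map_mul, map_inv, hφconj s a h1, hφconj u b h2, hφumul]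
        calc (φ t)⁻¹ * (φ s * (φ s * φ t)) = (φ t)⁻¹ * ((φ s * φ s) * φ t) := by group
          _ = 1 := by rw [hφss, one_mul, inv_mul_cancel]
      · refine ⟨hordconj u a h1 hou, hordconj s b h2 hs, ?_⟩
        rw [← hφker, map_mul, map_mul, map_inv, hφconj u a h1, hφconj s b h2, hφumul,
          hQcomm (φ s) (φ t)]
        calc (φ t)⁻¹ * (φ t * φ s * φ s) = (φ t)⁻¹ * (φ t * (φ s * φ s)) := by group
          _ = 1 := by rw [hφss, mul_one, inv_mul_cancel]
  -- the count
  obtain ⟨A, hA⟩ : ∃ A : Finset H, A = Finset.univ.filter (fun x : H => IsConj s x) :=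
    ⟨_, rfl⟩
  obtain ⟨B, hB⟩ : ∃ B : Finset H, B = Finset.univ.filter (fun x : H => IsConj u x) :=
    ⟨_, rfl⟩
  have hset : Finset.univ.filter (fun p : H × H =>
        orderOf p.1 = 2 ∧ orderOf p.2 = 2 ∧ t⁻¹ * (p.1 * p.2) ∈ K)
      = (A ×ˢ B) ∪ (B ×ˢ A) := by
    ext p
    rw [Finset.mem_filter, Finset.mem_union, Finset.mem_product, Finset.mem_product, hA, hB]
    simp only [Finset.mem_univ, true_and, Finset.mem_filter]
    exact hmem p
  have hdisj : Disjoint (A ×ˢ B) (B ×ˢ A) := by
    rw [Finset.disjoint_left]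
    rintro ⟨a, b⟩ h1 h2
    rw [Finset.mem_product, hA, hB] at h1 h2
    simp only [Finset.mem_univ, true_and, Finset.mem_filter] at h1 h2
    exact hφsu ((hφconj s a h1.1).symm.trans (hφconj u a h2.1))
  rw [hset, Finset.card_union_of_disjoint hdisj, Finset.card_product, Finset.card_product,
    ← hu, ← hA, ← hB]
  ring

end Cfsg.Agent.Lib.helper3.Klein
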