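import Mathlib

/-!
# Subgroups of order four: elements and centralizers
-/

set_option autoImplicit false
set_option linter.style.haveILetI false
set_option linter.unusedSectionVars false

namespace Cfsg.Agent.Lib.helper3.Klein

variable {G : Type*} [Group G] [Finite G]

/-- The elements of a subgroup of order four containing the distinct involutions `t`, `s`. -/
theorem klein_elts (P : Subgroup G) (hP : Nat.card P = 4) (t s : G) (htP : t ∈ P) (hsP : s ∈ P)
    (htt : t * t = 1) (ht1 : t ≠ 1) (hs1 : s ≠ 1) (hst : s ≠ t) :
    ∀ y ∈ P, y = 1 ∨ y = t ∨ y = s ∨ y = s * t := by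
  classical
  haveI : Fintype G := Fintype.ofFinite G
  have htinv : t⁻¹ = t := inv_eq_of_mul_eq_one_left htt
  have hu1 : s * t ≠ 1 := by
    intro h
    apply hst
    calc s = s * t * t⁻¹ := by group
      _ = t := by rw [h, one_mul, htinv]
  have hut : s * t ≠ t := by
    intro h
    apply hs1
    calc s = s * t * t⁻¹ := by group
      _ = 1 := by rw [h, mul_inv_cancel]
  have hus : s * t ≠ s := by
    intro h
    apply ht1
    calc t = s⁻¹ * (s * t) := by group
      _ = 1 := by rw [h, inv_mul_cancel]
  obtain ⟨F, hF⟩ : ∃ F : Finset G, F = {1, t, s, s * t} := ⟨_, rfl⟩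
  have hFcard : F.card = 4 := by
    rw [hF, Finset.card_insert_of_notMem, Finset.card_insert_of_notMem,
      Finset.card_insert_of_notMem, Finset.card_singleton]
    · simp only [Finset.mem_singleton]
      exact fun h => hus h.symm
    · simp only [Finset.mem_insert, Finset.mem_singleton, not_or]
      exact ⟨fun h => hst h.symm, fun h => hut h.symm⟩
    · simp only [Finset.mem_insert, Finset.mem_singleton, not_or]
      exact ⟨fun h => ht1 h.symm, fun h => hs1 h.symm, fun h => hu1 h.symm⟩
  obtain ⟨T, hT⟩ : ∃ T : Finset G, T = Finset.univ.filter (fun x => x ∈ P) := ⟨_, rfl⟩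
  have hTcard : T.card = 4 := by
    rw [← hP, hT, Nat.card_eq_fintype_card, Fintype.card_subtype]
  have hFT : F ⊆ T := by
    intro x hx
    rw [hT, Finset.mem_filter]
    refine ⟨Finset.mem_univ _, ?_⟩
    rw [hF] at hx
    simp only [Finset.mem_insert, Finset.mem_singleton] at hx
    rcases hx with rfl | rfl | rfl | rfl
    · exact Subgroup.one_mem _
    · exact htP
    · exact hsP
    · exact Subgroup.mul_mem _ hsP htP
  have hEq : F = T := Finset.eq_of_subset_of_card_le hFT (by rw [hFcard, hTcard])
  intro y hy
  have : y ∈ F := by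
    rw [hEq, hT, Finset.mem_filter]
    exact ⟨Finset.mem_univ _, hy⟩
  rw [hF] at this
  simpa using this

/-- A subgroup of order four has an element outside `{1, t}`. -/
theorem exists_third (P : Subgroup G) (hP : Nat.card P = 4) (t : G) :
    ∃ s ∈ P, s ≠ 1 ∧ s ≠ t := by
  classical
  haveI : Fintype G := Fintype.ofFinite G
  by_contra hcon
  push Not at hcon
  obtain ⟨T, hT⟩ : ∃ T : Finset G, T = Finset.univ.filter (fun x => x ∈ P) := ⟨_, rfl⟩
  have hTcard : T.card = 4 := by
    rw [← hP, hT, Nat.card_eq_fintype_card, Fintype.card_subtype]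
  have hsub : T ⊆ {1, t} := by
    intro x hx
    rw [hT, Finset.mem_filter] at hx
    simp only [Finset.mem_insert, Finset.mem_singleton]
    by_cases h1 : x = 1
    · left; exact h1
    · right; exact hcon x hx.2 h1
  have := Finset.card_le_card hsub
  have h2 : ({1, t} : Finset G).card ≤ 2 := Finset.card_le_two
  omega

/-- The centralizer of a subgroup of order four generated by the involutions `t`, `s`. -/
theorem mem_centralizer_klein (P : Subgroup G) (hP : Nat.card P = 4) (t s : G) (htP : t ∈ P)
    (hsP : s ∈ P) (htt : t * t = 1) (ht1 : t ≠ 1) (hs1 : s ≠ 1) (hst : s ≠ t) (g : G) :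
    g ∈ Subgroup.centralizer (P : Set G) ↔ g * t = t * g ∧ g * s = s * g := by
  rw [Subgroup.mem_centralizer_iff]
  constructor
  · intro h
    exact ⟨(h t htP).symm, (h s hsP).symm⟩
  · rintro ⟨h1, h2⟩ y hy
    rcases klein_elts P hP t s htP hsP htt ht1 hs1 hst y hy with h | h | h | h <;> rw [h]
    · rw [one_mul, mul_one]
    · exact h1.symm
    · exact h2.symm
    · calc s * t * g = s * (t * g) := by group
        _ = s * (g * t) := by rw [h1]
        _ = (s * g) * t := by group
        _ = (g * s) * t := by rw [h2]
        _ = g * (s * t) := by group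

end Cfsg.Agent.Lib.helper3.Klein
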