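import Mathlib

/-!
# Groups with a Klein four Sylow `2`-subgroup: elementary facts
-/

set_option autoImplicit false
set_option linter.style.haveILetI false
set_option linter.unusedSectionVars false

namespace Cfsg.Agent.Lib.helper3.Klein

variable {G : Type*} [Group G] [Finite G]

theorem factorization_two (P : Sylow 2 G) (hP : Nat.card P = 4) :
    (Nat.card G).factorization 2 = 2 := by
  haveI : Fact (Nat.Prime 2) := ⟨Nat.prime_two⟩
  have h1 := Sylow.card_eq_multiplicity P
  rw [hP] at h1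
  have h2 : (2 : ℕ) ^ 2 = 2 ^ (Nat.card G).factorization 2 := by
    rw [← h1]
    norm_num
  exact (Nat.pow_right_injective (le_refl 2) h2).symm

/-- Every `2`-element squares to one. -/
theorem sq_eq_one_of_two_element (P : Sylow 2 G) (hexp : ∀ x : P, x * x = 1) (g : G)
    (hg : ∃ k : ℕ, orderOf g = 2 ^ k) : g * g = 1 := by
  haveI : Fact (Nat.Prime 2) := ⟨Nat.prime_two⟩
  obtain ⟨k, hk⟩ := hg
  have hZ : IsPGroup 2 (Subgroup.zpowers g) := by
    apply IsPGroup.of_card (n := k)
    rw [Nat.card_zpowers, hk]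
  obtain ⟨Q, hQ⟩ := hZ.exists_le_sylow
  obtain ⟨c, hc⟩ := MulAction.exists_smul_eq G P Q
  have hgQ : g ∈ (Q : Subgroup G) := hQ (Subgroup.mem_zpowers g)
  rw [← hc, Sylow.smul_def] at hgQ
  have hy0 := (Subgroup.mem_pointwise_smul_iff_inv_smul_mem).mp hgQ
  obtain ⟨y, hy, hyg⟩ : ∃ y : G, y ∈ (P : Subgroup G) ∧ (MulAut.conj c)⁻¹ • g = y :=
    ⟨_, hy0, rfl⟩
  have h1 := hexp ⟨y, hy⟩
  have h2 : y * y = 1 := by
    have := congrArg (fun z : P => (z : G)) h1
    simpa using this
  have h3 : g = c * y * c⁻¹ := by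
    rw [← hyg, MulAut.smul_def, MulAut.conj_inv_apply]
    group
  rw [h3]
  calc c * y * c⁻¹ * (c * y * c⁻¹) = c * (y * y) * c⁻¹ := by group
    _ = 1 := by rw [h2]; group

theorem orderOf_two_element (P : Sylow 2 G) (hexp : ∀ x : P, x * x = 1) (g : G)
    (hg : ∃ k : ℕ, orderOf g = 2 ^ k) (hg1 : g ≠ 1) : orderOf g = 2 := by
  have h1 := sq_eq_one_of_two_element P hexp g hg
  have h2 : g ^ 2 = 1 := by rw [pow_two, h1]
  exact orderOf_eq_prime h2 hg1

/-- There is an involution. -/
theorem exists_involution (P : Sylow 2 G) (hP : Nat.card P = 4) : ∃ t : G, orderOf t = 2 := by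
  haveI : Fact (Nat.Prime 2) := ⟨Nat.prime_two⟩
  apply exists_prime_orderOf_dvd_card' 2
  have h1 := Subgroup.card_subgroup_dvd_card (P : Subgroup G)
  rw [hP] at h1
  exact dvd_trans (by norm_num) h1

/-- The centralizer of an involution has order divisible by `4`. -/
theorem four_dvd_card_centralizer (P : Sylow 2 G) (hP : Nat.card P = 4)
    (hexp : ∀ x : P, x * x = 1) (t : G) (ht : orderOf t = 2) :
    4 ∣ Nat.card (Subgroup.centralizer ({t} : Set G)) := by
  haveI : Fact (Nat.Prime 2) := ⟨Nat.prime_two⟩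
  have hZ : IsPGroup 2 (Subgroup.zpowers t) := by
    apply IsPGroup.of_card (n := 1)
    rw [Nat.card_zpowers, ht, pow_one]
  obtain ⟨Q, hQ⟩ := hZ.exists_le_sylow
  have htQ : t ∈ (Q : Subgroup G) := hQ (Subgroup.mem_zpowers t)
  have hsq : ∀ x : G, x ∈ (Q : Subgroup G) → x * x = 1 := by
    intro x hx
    obtain ⟨k, hk⟩ := (IsPGroup.iff_orderOf.mp Q.isPGroup') ⟨x, hx⟩
    rw [Subgroup.orderOf_mk] at hk
    exact sq_eq_one_of_two_element P hexp x ⟨k, hk⟩
  have hle : (Q : Subgroup G) ≤ Subgroup.centralizer ({t} : Set G) := by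
    intro x hx
    rw [Subgroup.mem_centralizer_singleton_iff]
    have h1 := hsq x hx
    have h2 := hsq t htQ
    have h3 := hsq (x * t) (mul_mem hx htQ)
    -- x t x t = 1, so x t = t⁻¹ x⁻¹ = t x
    have hx' : x⁻¹ = x := inv_eq_of_mul_eq_one_left h1
    have ht' : t⁻¹ = t := inv_eq_of_mul_eq_one_left h2
    have h4 : (x * t)⁻¹ = x * t := inv_eq_of_mul_eq_one_left h3
    rw [mul_inv_rev, hx', ht'] at h4
    exact h4.symm
  have h1 := Subgroup.card_dvd_of_le hle
  have h2 : Nat.card (Q : Subgroup G) = 4 := by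
    rw [Sylow.card_eq_multiplicity Q, factorization_two P hP]
    norm_num
  rw [h2] at h1
  exact h1

theorem factorization_two_centralizer (P : Sylow 2 G) (hP : Nat.card P = 4)
    (hexp : ∀ x : P, x * x = 1) (t : G) (ht : orderOf t = 2) :
    (Nat.card (Subgroup.centralizer ({t} : Set G))).factorization 2 = 2 := by
  have h1 := four_dvd_card_centralizer P hP hexp t ht
  have h2 : (2 : ℕ) ^ 2 ∣ Nat.card (Subgroup.centralizer ({t} : Set G)) := by
    norm_num
    exact h1
  have h3 := (Nat.prime_two.pow_dvd_iff_le_factorization Nat.card_pos.ne').1 h2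
  have h4 : (Nat.card (Subgroup.centralizer ({t} : Set G))).factorization 2
      ≤ (Nat.card G).factorization 2 :=
    (Nat.factorization_le_iff_dvd Nat.card_pos.ne' Nat.card_pos.ne').2
      (Subgroup.card_subgroup_dvd_card _) 2
  rw [factorization_two P hP] at h4
  omega

end Cfsg.Agent.Lib.helper3.Klein
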