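import Mathlib
import Cfsg.Prelude.Def_Blocks
import Cfsg.Agent.Lib.helper3.RegClasses
import Cfsg.Agent.Lib.helper3.CentSupp2
import Cfsg.Agent.Lib.helper3.Inflate2

/-!
# Central characters of inflated characters
-/

set_option autoImplicit false
set_option linter.style.haveILetI false
set_option linter.unusedSectionVars false

namespace Cfsg.Agent.Lib.helper3.Block

open Cfsg Cfsg.Agent.Lib.helper3.LocalM Cfsg.Agent.Lib.helper3.CharBasic
open Cfsg.Agent.Lib.helper3.Irr Cfsg.Agent.Lib.helper3.Central Cfsg.Agent.Lib.helper3.Lin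
open scoped ComplexConjugate

variable {G : Type*} [Group G]

/-- A `p`-regular element of a quotient of a finite group has a `p`-regular lift. -/
theorem exists_pregular_lift [Finite G] (p : ℕ) [hp : Fact p.Prime] (N : Subgroup G) [N.Normal]
    (x : G ⧸ N) (hx : ¬ p ∣ orderOf x) :
    ∃ g : G, (g : G ⧸ N) = x ∧ ¬ p ∣ orderOf g := by
  obtain ⟨g₀, rfl⟩ := QuotientGroup.mk_surjective x
  have hn0 : orderOf g₀ ≠ 0 := (orderOf_pos g₀).ne'
  obtain ⟨k, m, hpm, hnm⟩ := Nat.exists_eq_pow_mul_and_not_dvd hn0 p hp.out.ne_one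
  have hdvd : orderOf (g₀ : G ⧸ N) ∣ orderOf g₀ := by
    apply orderOf_dvd_of_pow_eq_one
    rw [← QuotientGroup.mk_pow, pow_orderOf_eq_one, QuotientGroup.mk_one]
  have hcop : Nat.Coprime (orderOf (g₀ : G ⧸ N)) (p ^ k) :=
    Nat.Coprime.pow_right k ((Nat.Prime.coprime_iff_not_dvd hp.out).mpr hx).symm
  have hdvdm : orderOf (g₀ : G ⧸ N) ∣ m := by
    rw [hnm] at hdvd
    exact hcop.dvd_of_dvd_mul_left hdvd
  have hcopam : Nat.Coprime (p ^ k) m :=
    Nat.Coprime.pow_left k ((Nat.Prime.coprime_iff_not_dvd hp.out).mpr hpm)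
  have hbez : (1 : ℤ) = ((p ^ k : ℕ) : ℤ) * Nat.gcdA (p ^ k) m + (m : ℤ) * Nat.gcdB (p ^ k) m := by
    have := Nat.gcd_eq_gcd_ab (p ^ k) m
    rw [hcopam] at this
    exact_mod_cast this
  obtain ⟨s, hs⟩ : ∃ s : ℤ, s = Nat.gcdA (p ^ k) m := ⟨_, rfl⟩
  obtain ⟨t, ht⟩ : ∃ t : ℤ, t = Nat.gcdB (p ^ k) m := ⟨_, rfl⟩
  rw [← hs, ← ht] at hbez
  refine ⟨g₀ ^ (((p ^ k : ℕ) : ℤ) * s), ?_, ?_⟩
  · have h1 : ((p ^ k : ℕ) : ℤ) * s = 1 - (m : ℤ) * t := by linarith
    rw [h1, QuotientGroup.mk_zpow, zpow_sub, zpow_one, zpow_mul, zpow_natCast]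
    have h2 : (g₀ : G ⧸ N) ^ m = 1 := orderOf_dvd_iff_pow_eq_one.mp hdvdm
    rw [h2, one_zpow, inv_one, mul_one]
  · have h1 : (g₀ ^ (((p ^ k : ℕ) : ℤ) * s)) ^ m = 1 := by
      rw [← zpow_natCast, ← zpow_mul]
      have : ((p ^ k : ℕ) : ℤ) * s * (m : ℤ) = ((orderOf g₀ : ℕ) : ℤ) * s := by
        rw [hnm]
        push_cast
        ring
      rw [this, zpow_mul, zpow_natCast, pow_orderOf_eq_one, one_zpow]
    have h2 := orderOf_dvd_of_pow_eq_one h1
    exact fun h => hpm (h.trans h2)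

/-- The class of `g` is `r` times as large as the class of its image in `G ⧸ N`. -/
theorem index_centralizer_eq_relIndex_mul (N : Subgroup G) [N.Normal] (g : G) :
    (Subgroup.centralizer ({g} : Set G)).index
      = (Subgroup.centralizer ({g} : Set G)).relIndex
          ((Subgroup.centralizer ({(g : G ⧸ N)} : Set (G ⧸ N))).comap (QuotientGroup.mk' N))
        * (Subgroup.centralizer ({(g : G ⧸ N)} : Set (G ⧸ N))).index := by
  have hle : Subgroup.centralizer ({g} : Set G)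
      ≤ (Subgroup.centralizer ({(g : G ⧸ N)} : Set (G ⧸ N))).comap (QuotientGroup.mk' N) := by
    intro x hx
    rw [Subgroup.mem_comap, Subgroup.mem_centralizer_singleton_iff]
    rw [Subgroup.mem_centralizer_singleton_iff] at hx
    show (x : G ⧸ N) * (g : G ⧸ N) = (g : G ⧸ N) * (x : G ⧸ N)
    rw [← QuotientGroup.mk_mul, ← QuotientGroup.mk_mul, hx]
  rw [← Subgroup.relIndex_mul_index hle,
    Subgroup.index_comap_of_surjective _ (QuotientGroup.mk'_surjective N)]

/-- The central character of an inflated function. -/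
theorem centralChar_comp_mk (N : Subgroup G) [N.Normal] (ψ : G ⧸ N → ℂ) (g : G) :
    centralChar (ψ ∘ (QuotientGroup.mk : G → G ⧸ N)) g
      = ((Subgroup.centralizer ({g} : Set G)).relIndex
          ((Subgroup.centralizer ({(g : G ⧸ N)} : Set (G ⧸ N))).comap (QuotientGroup.mk' N)) : ℂ)
        * centralChar ψ (g : G ⧸ N) := by
  unfold centralChar
  rw [index_centralizer_eq_relIndex_mul N g]
  simp only [Function.comp_apply, QuotientGroup.mk_one]
  push_cast
  ring

/-- A `p`-regular element centralizing the normal `p`-subgroup `N`: the centralizer of its image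
in `G ⧸ N` is the image of its centralizer. -/
theorem comap_centralizer_le_of_pregular {p : ℕ} [hp : Fact p.Prime] (N : Subgroup G) [N.Normal]
    (hN : IsPGroup p N) (g : G) (hg : g ∈ Subgroup.centralizer (N : Set G))
    (hreg : ¬ p ∣ orderOf g) :
    (Subgroup.centralizer ({(g : G ⧸ N)} : Set (G ⧸ N))).comap (QuotientGroup.mk' N)
      ≤ Subgroup.centralizer ({g} : Set G) := by
  intro x hx
  rw [Subgroup.mem_comap, Subgroup.mem_centralizer_singleton_iff] at hx
  rw [Subgroup.mem_centralizer_singleton_iff]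
  have h1 : ((x * g : G) : G ⧸ N) = ((g * x : G) : G ⧸ N) := by
    rw [QuotientGroup.mk_mul, QuotientGroup.mk_mul]
    exact hx
  obtain ⟨u, hu⟩ : ∃ u : G, u = g⁻¹ * (x * g * x⁻¹) := ⟨_, rfl⟩
  have huN : u ∈ N := by
    have h2 : ((g : G) : G ⧸ N) = ((x * g * x⁻¹ : G) : G ⧸ N) := by
      rw [QuotientGroup.mk_mul, h1, QuotientGroup.mk_mul, QuotientGroup.mk_inv,
        mul_inv_cancel_right]
    rw [hu]
    exact QuotientGroup.eq.mp h2
  have hgu : Commute g u := (Subgroup.mem_centralizer_iff.mp hg u huN).symm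
  have hconj : x * g * x⁻¹ = g * u := by
    rw [hu]
    group
  have hpow : (g * u) ^ orderOf g = 1 := by
    rw [← hconj, conj_pow, pow_orderOf_eq_one, mul_one, mul_inv_cancel]
  rw [hgu.mul_pow, pow_orderOf_eq_one, one_mul] at hpow
  obtain ⟨j, hj⟩ := hN ⟨u, huN⟩
  have hj' : u ^ p ^ j = 1 := by
    have := congrArg Subtype.val hj
    simpa using this
  have hcop : Nat.Coprime (orderOf g) (p ^ j) :=
    Nat.Coprime.pow_right j ((Nat.Prime.coprime_iff_not_dvd hp.out).mpr hreg).symm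
  have hu1 : u = 1 := by
    have h3 : orderOf u ∣ Nat.gcd (orderOf g) (p ^ j) :=
      Nat.dvd_gcd (orderOf_dvd_of_pow_eq_one hpow) (orderOf_dvd_of_pow_eq_one hj')
    rw [hcop, Nat.dvd_one, orderOf_eq_one_iff] at h3
    exact h3
  rw [hu1, mul_one] at hconj
  calc x * g = x * g * x⁻¹ * x := by group
    _ = g * x := by rw [hconj]

/-- If `G / C` is a `p`-group then every `p`-regular element lies in the normal subgroup `C`. -/
theorem mem_of_pregular_of_index {p : ℕ} [hp : Fact p.Prime] (C : Subgroup G) [C.Normal]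
    (hC : ∃ k : ℕ, C.index = p ^ k) (g : G) (hreg : ¬ p ∣ orderOf g) : g ∈ C := by
  obtain ⟨k, hk⟩ := hC
  rw [← QuotientGroup.eq_one_iff]
  have h1 : (g : G ⧸ C) ^ p ^ k = 1 := by
    rw [← hk, Subgroup.index_eq_card]
    exact pow_card_eq_one'
  have h2 : (g : G ⧸ C) ^ orderOf g = 1 := by
    rw [← QuotientGroup.mk_pow, pow_orderOf_eq_one, QuotientGroup.mk_one]
  have hcop : Nat.Coprime (orderOf g) (p ^ k) :=
    Nat.Coprime.pow_right k ((Nat.Prime.coprime_iff_not_dvd hp.out).mpr hreg).symm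
  have h3 : orderOf (g : G ⧸ C) ∣ Nat.gcd (orderOf g) (p ^ k) :=
    Nat.dvd_gcd (orderOf_dvd_of_pow_eq_one h2) (orderOf_dvd_of_pow_eq_one h1)
  rw [hcop, Nat.dvd_one, orderOf_eq_one_iff] at h3
  exact h3

end Cfsg.Agent.Lib.helper3.Block
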