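import Mathlib
import Cfsg.Prelude.Def_BlockRank
import Cfsg.Agent.Lib.helper3.ProjVanish8
import Cfsg.Agent.Lib.helper3.RegClasses
import Cfsg.Agent.Lib.helper3.QuotBlock
import Cfsg.Agent.Lib.helper3.QuotDefect
import Cfsg.Agent.Lib.helper3.BlockPGroup

set_option autoImplicit false
set_option linter.style.haveILetI false
set_option linter.unusedSectionVars false

/-!
# The principal block of `G` and of `G ⧸ Q` for `G = Q C_G(Q)`: group-theoretic preliminaries
-/

namespace Cfsg.Agent.Lib.helper3.Block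

open Cfsg Cfsg.Agent.Lib.helper3.LocalM Cfsg.Agent.Lib.helper3.CharBasic
open Cfsg.Agent.Lib.helper3.Irr
open scoped ComplexConjugate

variable {G : Type*} [Group G]

/-- `p`-regular elements centralize `Q` when `G = Q C_G(Q)`. -/
theorem mem_centralizer_of_pregular_of_sup [Finite G] {p : ℕ} [hp : Fact p.Prime] (Q : Subgroup G)
    [Q.Normal] (hQ : IsPGroup p Q) (hsup : Q ⊔ Subgroup.centralizer (Q : Set G) = ⊤) (g : G)
    (hreg : ¬ p ∣ orderOf g) : g ∈ Subgroup.centralizer (Q : Set G) := by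
  apply mem_of_pregular_of_index (p := p) (Subgroup.centralizer (Q : Set G)) _ g hreg
  have h1 : (Subgroup.centralizer (Q : Set G)).index
      = (Subgroup.centralizer (Q : Set G)).relIndex Q := by
    rw [← Subgroup.relIndex_top_right, ← hsup, Subgroup.relIndex_sup_right]
  have h2 : (Subgroup.centralizer (Q : Set G)).relIndex Q ∣ Nat.card Q := Subgroup.relIndex_dvd_card _ _
  obtain ⟨n, hn⟩ := IsPGroup.iff_card.mp hQ
  rw [hn] at h2
  obtain ⟨k, -, hk⟩ := (Nat.dvd_prime_pow hp.out).mp h2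
  exact ⟨k, by rw [h1, hk]⟩

/-- Uniqueness of `p`-regular lifts. -/
theorem pregular_lift_unique [Finite G] {p : ℕ} [hp : Fact p.Prime] (Q : Subgroup G)
    [Q.Normal] (hQ : IsPGroup p Q) (hsup : Q ⊔ Subgroup.centralizer (Q : Set G) = ⊤) (x y : G)
    (hx : ¬ p ∣ orderOf x) (hy : ¬ p ∣ orderOf y) (hxy : (x : G ⧸ Q) = (y : G ⧸ Q)) : x = y := by
  obtain ⟨u, hu⟩ : ∃ u : G, u = x⁻¹ * y := ⟨_, rfl⟩
  have huQ : u ∈ Q := by
    rw [hu]; exact QuotientGroup.eq.mp hxy
  have hxc := mem_centralizer_of_pregular_of_sup Q hQ hsup x hx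
  have hxu : Commute x u := (Subgroup.mem_centralizer_iff.mp hxc u huQ).symm
  have hyxu : y = x * u := by rw [hu]; group
  have hpow : y ^ orderOf x = u ^ orderOf x := by
    rw [hyxu, hxu.mul_pow, pow_orderOf_eq_one, one_mul]
  obtain ⟨j, hj⟩ := hQ ⟨u, huQ⟩
  have hj' : u ^ p ^ j = 1 := by
    have := congrArg Subtype.val hj
    simpa using this
  -- the order of u^(o(x)) divides o(y) and p^j
  have h1 : orderOf (u ^ orderOf x) ∣ orderOf y := by
    rw [← hpow]; exact orderOf_pow_dvd _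
  have h2 : orderOf (u ^ orderOf x) ∣ p ^ j := by
    apply orderOf_dvd_of_pow_eq_one
    rw [← pow_mul, mul_comm, pow_mul, hj', one_pow]
  have hcopy : Nat.Coprime (orderOf y) (p ^ j) :=
    Nat.Coprime.pow_right j ((Nat.Prime.coprime_iff_not_dvd hp.out).mpr hy).symm
  have h3 : orderOf (u ^ orderOf x) ∣ Nat.gcd (orderOf y) (p ^ j) := Nat.dvd_gcd h1 h2
  rw [hcopy, Nat.dvd_one, orderOf_eq_one_iff] at h3
  have hcopx : Nat.Coprime (orderOf x) (p ^ j) :=
    Nat.Coprime.pow_right j ((Nat.Prime.coprime_iff_not_dvd hp.out).mpr hx).symm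
  have h4 : orderOf u ∣ Nat.gcd (orderOf x) (p ^ j) :=
    Nat.dvd_gcd (orderOf_dvd_of_pow_eq_one h3) (orderOf_dvd_of_pow_eq_one hj')
  rw [hcopx, Nat.dvd_one, orderOf_eq_one_iff] at h4
  rw [hyxu, h4, mul_one]

/-- The order of the image divides the order. -/
theorem orderOf_mk_dvd (N : Subgroup G) [N.Normal] (g : G) : orderOf (g : G ⧸ N) ∣ orderOf g := by
  apply orderOf_dvd_of_pow_eq_one
  rw [← QuotientGroup.mk_pow, pow_orderOf_eq_one, QuotientGroup.mk_one]

end Cfsg.Agent.Lib.helper3.Block
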