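import Mathlib
import Cfsg.Prelude.Def_BlockRank
import Cfsg.Agent.Lib.helper3.PrincQuot1

set_option autoImplicit false
set_option linter.style.haveILetI false
set_option linter.unusedSectionVars false

/-!
# The principal block of `G` and of `G ⧸ Q` for `G = Q C_G(Q)`
-/

namespace Cfsg.Agent.Lib.helper3.Block

open Cfsg Cfsg.Agent.Lib.helper3.LocalM Cfsg.Agent.Lib.helper3.CharBasic
open Cfsg.Agent.Lib.helper3.Irr Cfsg.Agent.Lib.helper3.IndFun
open scoped ComplexConjugate

variable {G : Type*} [Group G] [Fintype G] {M : Ideal AlgInt}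

/-- Pull back along the quotient map and truncate to the `p`-regular elements. -/
noncomputable def pullReg (p : ℕ) (N : Subgroup G) [N.Normal] : (G ⧸ N → ℂ) →ₗ[ℂ] (G → ℂ) :=
  (truncReg p).comp (LinearMap.funLeft ℂ ℂ (QuotientGroup.mk : G → G ⧸ N))

open Classical in
theorem pullReg_apply (p : ℕ) (N : Subgroup G) [N.Normal] (f : G ⧸ N → ℂ) (g : G) :
    pullReg p N f g = (if p ∣ orderOf g then (0 : ℂ) else 1) * f (g : G ⧸ N) := by
  unfold pullReg
  rw [LinearMap.comp_apply, truncReg_apply]
  rfl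

/-- The pull-back of the regular part of a function is the regular part of the inflation. -/
theorem pullReg_truncReg (p : ℕ) (N : Subgroup G) [N.Normal] [Fintype (G ⧸ N)] (f : G ⧸ N → ℂ) :
    pullReg p N (truncReg p f) = truncReg p (f ∘ (QuotientGroup.mk : G → G ⧸ N)) := by
  classical
  funext g
  rw [pullReg_apply, truncReg_apply, truncReg_apply]
  by_cases hg : p ∣ orderOf g
  · rw [if_pos hg, zero_mul, zero_mul]
  · have hg' : ¬ p ∣ orderOf (g : G ⧸ N) := fun h => hg (h.trans (orderOf_mk_dvd N g))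
    rw [if_neg hg, if_neg hg', one_mul, one_mul, one_mul]
    rfl

theorem pullReg_eq (p : ℕ) (N : Subgroup G) [N.Normal] (f : G ⧸ N → ℂ) :
    pullReg p N f = truncReg p (f ∘ (QuotientGroup.mk : G → G ⧸ N)) := rfl

/-- Elements of the span of regular parts are supported on the regular elements. -/
theorem truncReg_eq_of_mem_span {H : Type*} [Group H] [Fintype H] (p : ℕ)
    (B : Set (IrrCharacter H)) (w : H → ℂ)
    (hw : w ∈ Submodule.span ℂ ((fun χ : IrrCharacter H => pRegularPart p (χ : H → ℂ)) '' B)) :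
    truncReg p w = w := by
  induction hw using Submodule.span_induction with
  | mem w hw =>
    obtain ⟨χ, -, rfl⟩ := hw
    beta_reduce
    rw [pRegularPart_eq_truncReg, truncReg_truncReg]
  | zero => exact map_zero _
  | add x y _ _ hx hy => rw [map_add, hx, hy]
  | smul c x _ hx => rw [map_smul, hx]

/-- The pull-back is injective on functions supported on the regular elements. -/
theorem pullReg_injOn (p : ℕ) [hp : Fact p.Prime] (N : Subgroup G) [N.Normal] [Fintype (G ⧸ N)]
    (w : G ⧸ N → ℂ) (hw : truncReg p w = w) (h0 : pullReg p N w = 0) : w = 0 := by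
  classical
  funext y
  by_cases hy : p ∣ orderOf y
  · rw [← hw, truncReg_apply, if_pos hy, zero_mul]
    rfl
  · obtain ⟨g, rfl, hg⟩ := exists_pregular_lift p N y hy
    have := congrFun h0 g
    rw [pullReg_apply, if_neg hg, one_mul] at this
    exact this

/-- Inflation sends the principal block of the quotient into the principal block. -/
theorem inflIrr_mem_principalBlock (N : Subgroup G) [N.Normal] (ψ : IrrCharacter (G ⧸ N))
    (hψ : ψ ∈ principalBlock M (G ⧸ N)) : inflIrr N ψ ∈ principalBlock M G := by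
  have h1 := sameBlock_inflate (M := M) N ⟨fun _ => (1 : ℂ), isIrrCharacter_one⟩ ψ hψ
  exact h1

/-- Under `G = Q C_G(Q)`, an inflated character in the principal block comes from the principal
block of the quotient. -/
theorem mem_principalBlock_of_inflIrr {p : ℕ} [hp : Fact p.Prime] (hM : IsPModular p M)
    (Q : Subgroup G) [Q.Normal] (hQ : IsPGroup p Q)
    (hsup : Q ⊔ Subgroup.centralizer (Q : Set G) = ⊤) [Fintype (G ⧸ Q)]
    (ψ : IrrCharacter (G ⧸ Q)) (hψ : inflIrr Q ψ ∈ principalBlock M G) :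
    ψ ∈ principalBlock M (G ⧸ Q) := by
  have key := sameBlock_of_pregular hM (⟨fun _ => (1 : ℂ), isIrrCharacter_one⟩ : IrrCharacter (G ⧸ Q)) ψ ?_
  · exact key
  intro y hy
  obtain ⟨g, rfl, hg⟩ := exists_pregular_lift p Q y hy
  have hgc := mem_centralizer_of_pregular_of_sup Q hQ hsup g hg
  have hle := comap_centralizer_le_of_pregular Q hQ g hgc hg
  have hrel : (Subgroup.centralizer ({g} : Set G)).relIndex
      ((Subgroup.centralizer ({(g : G ⧸ Q)} : Set (G ⧸ Q))).comap (QuotientGroup.mk' Q)) = 1 :=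
    Subgroup.relIndex_eq_one.mpr hle
  have h1 := hψ g
  have e1 := centralChar_comp_mk Q (fun _ : G ⧸ Q => (1 : ℂ)) g
  have e2 := centralChar_comp_mk Q (ψ : G ⧸ Q → ℂ) g
  rw [hrel, Nat.cast_one, one_mul] at e1 e2
  have e3 : (fun _ : G ⧸ Q => (1 : ℂ)) ∘ (QuotientGroup.mk : G → G ⧸ Q) = fun _ : G => (1 : ℂ) := rfl
  rw [e3] at e1
  show MemLocalIdeal M (centralChar (fun _ : G ⧸ Q => (1 : ℂ)) (g : G ⧸ Q)
    - centralChar (ψ : G ⧸ Q → ℂ) (g : G ⧸ Q))
  rw [← e1, ← e2]
  exact h1

end Cfsg.Agent.Lib.helper3.Block
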