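import Mathlib
import Cfsg.Prelude.Def_BlockRank
import Cfsg.Agent.Lib.helper3.PrincQuot2

set_option autoImplicit false
set_option linter.style.haveILetI false
set_option linter.unusedSectionVars false

/-!
# The principal blocks of `G` and of `G ⧸ Q` have the same rank when `G = Q C_G(Q)`
-/

namespace Cfsg.Agent.Lib.helper3.Block

open Cfsg Cfsg.Agent.Lib.helper3.LocalM Cfsg.Agent.Lib.helper3.CharBasic
open Cfsg.Agent.Lib.helper3.Irr Cfsg.Agent.Lib.helper3.IndFun
open scoped ComplexConjugate

variable {G : Type*} [Group G] [Fintype G] {M : Ideal AlgInt}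

open Classical in
/-- The fibre sum of a function along the quotient map. -/
noncomputable def fibreSum (N : Subgroup G) [N.Normal] (f : G → ℂ) : G ⧸ N → ℂ :=
  fun y => ∑ x : G, if (x : G ⧸ N) = y then f x else 0

theorem isClassFunction_fibreSum (N : Subgroup G) [N.Normal] {f : G → ℂ}
    (hf : IsClassFunction G f) : IsClassFunction (G ⧸ N) (fibreSum N f) := by
  classical
  intro y h
  obtain ⟨k, rfl⟩ := QuotientGroup.mk_surjective h
  unfold fibreSum
  rw [← Equiv.sum_comp (MulAut.conj k).toEquiv]
  apply Finset.sum_congr rfl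
  intro x _
  have h1 : ((MulAut.conj k).toEquiv x : G) = k * x * k⁻¹ := rfl
  rw [h1, hf x k]
  have h2 : (((k * x * k⁻¹ : G) : G ⧸ N) = (k : G ⧸ N) * y * (k : G ⧸ N)⁻¹) ↔ ((x : G ⧸ N) = y) := by
    rw [QuotientGroup.mk_mul, QuotientGroup.mk_mul, QuotientGroup.mk_inv]
    constructor
    · intro h
      exact mul_left_cancel (mul_right_cancel h)
    · intro h; rw [h]
  by_cases hx : (x : G ⧸ N) = y
  · rw [if_pos hx, if_pos (h2.mpr hx)]
  · rw [if_neg hx, if_neg (fun h => hx (h2.mp h))]

theorem classInner_fibreSum (N : Subgroup G) [N.Normal] [Fintype (G ⧸ N)] (f : G → ℂ)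
    (ψ : G ⧸ N → ℂ) :
    classInner (fibreSum N f) ψ
      = (Nat.card (G ⧸ N) : ℂ)⁻¹ * ∑ x : G, f x * conj (ψ (x : G ⧸ N)) := by
  classical
  rw [classInner_apply]
  congr 1
  unfold fibreSum
  simp_rw [Finset.sum_mul]
  rw [Finset.sum_comm]
  apply Finset.sum_congr rfl
  intro x _
  rw [Finset.sum_eq_single (x : G ⧸ N)]
  · rw [if_pos rfl]
  · intro y _ hy
    rw [if_neg (Ne.symm hy), zero_mul]
  · intro h; exact absurd (Finset.mem_univ _) h

/-- `l(B₀(G)) = l(B₀(G/Q))` when `G = Q C_G(Q)`. -/
theorem blockRank_principal_quot {p : ℕ} [hp : Fact p.Prime] (hM : IsPModular p M)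
    (Q : Subgroup G) [Q.Normal] (hQ : IsPGroup p Q)
    (hsup : Q ⊔ Subgroup.centralizer (Q : Set G) = ⊤) :
    blockRank p (principalBlock M G) = blockRank p (principalBlock M (G ⧸ Q)) := by
  classical
  haveI : Fintype (G ⧸ Q) := Fintype.ofFinite _
  haveI hMp := isPrime_of_isPModular hM
  unfold blockRank
  set Wbar := Submodule.span ℂ
    ((fun χ : IrrCharacter (G ⧸ Q) => pRegularPart p (χ : G ⧸ Q → ℂ)) '' principalBlock M (G ⧸ Q))
    with hWbar
  set W := Submodule.span ℂ
    ((fun χ : IrrCharacter G => pRegularPart p (χ : G → ℂ)) '' principalBlock M G) with hW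
  -- Step 1
  have hmap : Submodule.map (pullReg p Q) Wbar = W := by
    rw [hWbar, Submodule.map_span, Set.image_image]
    apply le_antisymm
    · apply Submodule.span_le.mpr
      rintro _ ⟨ψ, hψ, rfl⟩
      beta_reduce
      rw [pRegularPart_eq_truncReg, pullReg_truncReg]
      apply Submodule.subset_span
      refine ⟨inflIrr Q ψ, inflIrr_mem_principalBlock Q ψ hψ, ?_⟩
      beta_reduce
      rw [pRegularPart_eq_truncReg]
      rfl
    · apply Submodule.span_le.mpr
      rintro _ ⟨χ, hχ, rfl⟩
      beta_reduce
      rw [pRegularPart_eq_truncReg]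
      have hcfχ : IsClassFunction G (truncReg p (χ : G → ℂ)) :=
        isClassFunction_truncReg p
          (isClassFunction_of_isCharacter (isCharacter_of_isIrrCharacter χ.2))
      have hcf := isClassFunction_fibreSum Q hcfχ
      have hexp := classFunction_eq_sum _ hcf
      have hΦ : pullReg p Q (fibreSum Q (truncReg p (χ : G → ℂ))) = truncReg p (χ : G → ℂ) := by
        funext y
        rw [pullReg_apply]
        by_cases hy : p ∣ orderOf y
        · rw [if_pos hy, zero_mul, truncReg_apply, if_pos hy, zero_mul]
        · rw [if_neg hy, one_mul]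
          unfold fibreSum
          rw [Finset.sum_eq_single y]
          · rw [if_pos rfl]
          · intro x _ hxy
            by_cases hx : (x : G ⧸ Q) = (y : G ⧸ Q)
            · rw [if_pos hx, truncReg_apply]
              by_cases hxp : p ∣ orderOf x
              · rw [if_pos hxp, zero_mul]
              · exact absurd (pregular_lift_unique Q hQ hsup x y hxp hy hx) hxy
            · rw [if_neg hx]
          · intro h; exact absurd (Finset.mem_univ _) h
      have h2 := congrArg (pullReg p Q) hexp
      rw [hΦ, map_sum] at h2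
      rw [h2]
      apply Submodule.sum_mem
      intro ψ _
      rw [map_smul]
      by_cases hψ : ψ ∈ principalBlock M (G ⧸ Q)
      · apply Submodule.smul_mem
        apply Submodule.subset_span
        refine ⟨ψ, hψ, ?_⟩
        beta_reduce
        rw [pRegularPart_eq_truncReg, pullReg_truncReg]
        rfl
      · have hne : ¬ SameBlock M (χ : G → ℂ) (inflIrr Q ψ : G → ℂ) := by
          intro h
          apply hψ
          apply mem_principalBlock_of_inflIrr hM Q hQ hsup ψ
          exact sameBlock_trans hχ h
        have h0 : classInner (fibreSum Q (truncReg p (χ : G → ℂ))) (ψ : G ⧸ Q → ℂ) = 0 := by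
          rw [classInner_fibreSum]
          have h3 := regular_orthogonality hM χ (inflIrr Q ψ) hne
          have h4 : ∀ x : G, truncReg p (χ : G → ℂ) x * conj ((ψ : G ⧸ Q → ℂ) (x : G ⧸ Q))
              = (if p ∣ orderOf x then (0 : ℂ) else 1)
                * ((χ : G → ℂ) x * conj ((inflIrr Q ψ : G → ℂ) x)) := by
            intro x
            rw [truncReg_apply, mul_assoc]
            rfl
          rw [Finset.sum_congr rfl (fun x _ => h4 x), h3, mul_zero]
        rw [h0, zero_smul]
        exact Submodule.zero_mem _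
  -- Step 2
  have hinj : Function.Injective ((pullReg p Q).domRestrict Wbar) := by
    rw [injective_iff_map_eq_zero]
    intro w hw
    apply Subtype.ext
    have hw' : pullReg p Q (w : G ⧸ Q → ℂ) = 0 := hw
    exact pullReg_injOn p Q _ (truncReg_eq_of_mem_span p _ _ w.2) hw'
  have h1 := LinearMap.finrank_range_of_inj hinj
  rw [LinearMap.range_domRestrict, hmap] at h1
  exact h1

end Cfsg.Agent.Lib.helper3.Block
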