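import Mathlib
import Cfsg.Prelude.Def_Characters
import Cfsg.Agent.Lib.helper3.NilpPow
import Cfsg.Agent.Lib.helper3.BrauerInd5

/-!
# The indicator of a `π'`-section is an integral combination of irreducible characters
-/

set_option autoImplicit false
set_option linter.style.haveILetI false
set_option linter.unusedSectionVars false

namespace Cfsg.Agent.Lib.helper3.PiSection

open Cfsg Module Cfsg.Agent.Lib.helper3.IndFun Cfsg.Agent.Lib.helper3.CharBasic
open Cfsg.Agent.Lib.helper3.Irr Cfsg.Agent.Lib.helper3.Lin Cfsg.Agent.Lib.helper3.BrauerInd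
open Cfsg.Agent.Lib.helper3.NilpPow
open scoped ComplexConjugate

universe u

section decomp

variable {G : Type*} [Group G] [Finite G]

/-- The decomposition `x = u v` into commuting parts of orders coprime to `n` and `m` has
`v = x ^ b`. -/
theorem section_iff (m n b : ℕ) (hmn : Nat.card G = m * n) (hcop : Nat.Coprime m n)
    (hbm : m ∣ b) (hbn : b ≡ 1 [MOD n]) (g x : G) :
    (∃ v : G, IsConj v g ∧ (∃ u : G, x = u * v ∧ Commute u v ∧ Nat.Coprime (orderOf u) n ∧
      Nat.Coprime (orderOf v) m)) ↔ IsConj (x ^ b) g := by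
  constructor
  · rintro ⟨v, hvg, u, rfl, hcomm, hu, hv⟩
    have hu1 : orderOf u ∣ m := by
      have : orderOf u ∣ m * n := hmn ▸ orderOf_dvd_natCard u
      exact hu.dvd_of_dvd_mul_right this
    have hv1 : orderOf v ∣ n := by
      have : orderOf v ∣ m * n := hmn ▸ orderOf_dvd_natCard v
      exact hv.dvd_of_dvd_mul_left this
    have h1 : u ^ b = 1 := orderOf_dvd_iff_pow_eq_one.mp (dvd_trans hu1 hbm)
    have h2 : v ^ b = v := by
      have h3 : b ≡ 1 [MOD orderOf v] := hbn.of_dvd hv1
      have := pow_eq_pow_iff_modEq.mpr h3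
      rw [pow_one] at this
      exact this
    rw [hcomm.mul_pow, h1, h2, one_mul]
    exact hvg
  · intro h
    have hn1 : (n : ℤ) ∣ 1 - b := by
      have := (Nat.modEq_iff_dvd).1 hbn
      simpa using this
    refine ⟨x ^ b, h, x ^ ((1 : ℤ) - b), ?_, ?_, ?_, ?_⟩
    · rw [← zpow_natCast x b, ← zpow_add]
      simp
    · rw [← zpow_natCast x b]
      exact Commute.zpow_zpow_self x _ _
    · have h1 : (x ^ ((1 : ℤ) - b)) ^ m = 1 := by
        rw [← zpow_natCast, ← zpow_mul]
        apply orderOf_dvd_iff_zpow_eq_one.mp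
        have h2 : ((m * n : ℕ) : ℤ) ∣ (1 - (b : ℤ)) * m := by
          push_cast
          rw [mul_comm (m : ℤ) (n : ℤ)]
          exact mul_dvd_mul_right hn1 _
        have h3 : (orderOf x : ℤ) ∣ ((m * n : ℕ) : ℤ) := by
          exact_mod_cast hmn ▸ orderOf_dvd_natCard x
        exact dvd_trans h3 h2
      exact Nat.Coprime.coprime_dvd_left (orderOf_dvd_of_pow_eq_one h1) hcop
    · have h1 : (x ^ b) ^ n = 1 := by
        rw [← pow_mul]
        apply orderOf_dvd_iff_pow_eq_one.mp
        have h2 : m * n ∣ b * n := Nat.mul_dvd_mul_right hbm n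
        exact dvd_trans (hmn ▸ orderOf_dvd_natCard x) h2
      exact Nat.Coprime.coprime_dvd_left (orderOf_dvd_of_pow_eq_one h1) hcop.symm

end decomp

section loc

variable {G : Type u} [Group G] [Fintype G]

theorem isIntegral_inner_nilpotent (m n b : ℕ) (hmn : Nat.card G = m * n) (hcop : Nat.Coprime m n)
    (hbm : m ∣ b) (hbn : b ≡ 1 [MOD n]) (g : G) (E : Subgroup G) [Fintype E]
    (hE : Group.IsNilpotent E) (lam : E →* ℂˣ) (f : E → ℂ)
    (hf1 : ∀ x : E, IsConj ((x : G) ^ b) g → f x = n)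
    (hf0 : ∀ x : E, ¬ IsConj ((x : G) ^ b) g → f x = 0) :
    IsIntegral ℤ (classInner f (fun e => ((lam e : ℂˣ) : ℂ))) := by
  classical
  have hfx : f = fun x : E => if IsConj ((x : G) ^ b) g then (n : ℂ) else 0 := by
    funext x
    split_ifs with h
    · exact hf1 x h
    · exact hf0 x h
  rw [hfx]
  have hcardE : Nat.card E ∣ m * n := hmn ▸ Subgroup.card_subgroup_dvd_card E
  obtain ⟨π, hπ⟩ : ∃ π : E →* E, ∀ x, π x = x ^ b :=
    ⟨powHom m n b hcardE hcop hbm hbn, fun x => rfl⟩
  have hππ : ∀ x : E, π (π x) = π x := by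
    intro x
    rw [hπ, hπ, ← pow_mul]
    apply pow_eq_pow_iff_modEq.mpr
    exact (sq_modEq m n b hcop hbm hbn).of_dvd (dvd_trans (orderOf_dvd_natCard x) hcardE)
  have hπG : ∀ x : E, ((π x : E) : G) = (x : G) ^ b := by
    intro x
    rw [hπ]
    rfl
  rw [classInner_apply]
  by_cases hK : ∀ k ∈ π.ker, lam k = 1
  · have hlam : ∀ x : E, lam x = lam (π x) := by
      intro x
      have hk : (π x)⁻¹ * x ∈ π.ker := by
        rw [MonoidHom.mem_ker, map_mul, map_inv, hππ, inv_mul_cancel]
      have := hK _ hk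
      rw [map_mul, map_inv] at this
      exact (inv_mul_eq_one.mp this).symm
    obtain ⟨h, hh⟩ : ∃ h : π.range → ℂ, h = fun q : π.range =>
        (if IsConj ((q : E) : G) g then (n : ℂ) else 0) * conj ((lam (q : E) : ℂˣ) : ℂ) := ⟨_, rfl⟩
    have hsum : ∑ x : E, (if IsConj ((x : G) ^ b) g then (n : ℂ) else 0) * conj ((lam x : ℂˣ) : ℂ)
        = ∑ x : E, h (π.rangeRestrict x) := by
      apply Finset.sum_congr rfl
      intro x _
      rw [hh]
      simp only [MonoidHom.coe_rangeRestrict]
      rw [← hlam]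
      congr 1
      exact if_congr (by rw [hπG]) rfl rfl
    letI : Fintype π.range := Fintype.ofFinite _
    rw [hsum, sum_comp_hom π.rangeRestrict π.rangeRestrict_surjective h, MonoidHom.ker_rangeRestrict]
    have hcard : Nat.card E = Nat.card π.ker * Nat.card π.range := by
      rw [← Subgroup.index_ker, Subgroup.card_mul_index]
    have hexp : ∀ v : π.range, v ^ n = 1 := by
      rintro ⟨v, x, rfl⟩
      apply Subtype.ext
      rw [Subgroup.coe_pow, Subgroup.coe_one]
      simp only
      rw [hπ, ← pow_mul]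
      apply orderOf_dvd_iff_pow_eq_one.mp
      have h2 : m * n ∣ b * n := Nat.mul_dvd_mul_right hbm n
      exact dvd_trans (dvd_trans (orderOf_dvd_natCard x) hcardE) h2
    have hrdvd : Nat.card π.range ∣ n :=
      card_dvd_of_forall_pow m n (dvd_trans (Subgroup.card_subgroup_dvd_card _) hcardE) hcop hexp
    obtain ⟨r, hr⟩ := hrdvd
    have hk0 : (Nat.card π.ker : ℂ) ≠ 0 := by
      have : Nat.card π.ker ≠ 0 := Nat.card_pos.ne'
      exact_mod_cast this
    have hr0 : (Nat.card π.range : ℂ) ≠ 0 := by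
      have : Nat.card π.range ≠ 0 := Nat.card_pos.ne'
      exact_mod_cast this
    have hval : (Nat.card E : ℂ)⁻¹ * ((Nat.card π.ker : ℂ) * ∑ q : π.range, h q)
        = (r : ℂ) * ∑ q : π.range, (if IsConj ((q : E) : G) g then
            conj ((lam (q : E) : ℂˣ) : ℂ) else 0) := by
      have h1 : ∑ q : π.range, h q = (n : ℂ) * ∑ q : π.range, (if IsConj ((q : E) : G) g then
            conj ((lam (q : E) : ℂˣ) : ℂ) else 0) := by
        rw [Finset.mul_sum]
        apply Finset.sum_congr rfl
        intro q _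
        rw [hh]
        simp only
        split_ifs <;> simp
      rw [h1, hcard, hr]
      push_cast
      field_simp
    rw [hval]
    apply IsIntegral.mul (isIntegral_algebraMap (x := (r : ℤ)) |> fun h => by simpa using h)
    apply IsIntegral.sum
    intro q _
    split_ifs
    · exact isIntegral_of_isCharacter (isCharacter_conj (isCharacter_of_hom lam)) (q : E)
    · exact isIntegral_zero
  · push Not at hK
    obtain ⟨k, hk, hlamk⟩ := hK
    obtain ⟨F, hF⟩ : ∃ F : E → ℂ, F = fun x : E =>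
        (if IsConj ((x : G) ^ b) g then (n : ℂ) else 0) * conj ((lam x : ℂˣ) : ℂ) := ⟨_, rfl⟩
    have hFk : ∀ x : E, F (x * k) = F x * conj ((lam k : ℂˣ) : ℂ) := by
      intro x
      rw [hF]
      simp only
      have h1 : ((x * k : E) : G) ^ b = (x : G) ^ b := by
        rw [← hπG, ← hπG, map_mul, MonoidHom.mem_ker.mp hk, mul_one]
      rw [h1, map_mul]
      push_cast
      rw [map_mul]
      ring
    have hS : ∑ x : E, F x = (∑ x : E, F x) * conj ((lam k : ℂˣ) : ℂ) := by
      conv_lhs => rw [← Equiv.sum_comp (Equiv.mulRight k) F]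
      simp only [Equiv.coe_mulRight]
      rw [Finset.sum_mul]
      exact Finset.sum_congr rfl (fun x _ => hFk x)
    have hne : conj ((lam k : ℂˣ) : ℂ) ≠ 1 := by
      intro h1
      apply hlamk
      have h2 : ((lam k : ℂˣ) : ℂ) = 1 := by
        have := congrArg conj h1
        rwa [Complex.conj_conj, map_one] at this
      exact Units.ext h2
    have hS0 : ∑ x : E, F x = 0 := by
      have h1 : (∑ x : E, F x) * (1 - conj ((lam k : ℂˣ) : ℂ)) = 0 := by
        rw [mul_sub, mul_one, ← hS, sub_self]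
      rcases mul_eq_zero.mp h1 with h2 | h2
      · exact h2
      · exact absurd (sub_eq_zero.mp h2).symm hne
    have : ∑ g_1 : E, (fun x : E => if IsConj ((x : G) ^ b) g then (n : ℂ) else 0) g_1 *
        conj ((fun e => ((lam e : ℂˣ) : ℂ)) g_1) = ∑ x : E, F x := by
      rw [hF]
    rw [this, hS0, mul_zero]
    exact isIntegral_zero

/-- `IsIntegral` is preserved by complex conjugation. -/
theorem isIntegral_conj' {z : ℂ} (hz : IsIntegral ℤ z) : IsIntegral ℤ (conj z) := by
  obtain ⟨P, hP, hPz⟩ := hz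
  refine ⟨P, hP, ?_⟩
  have h1 : Polynomial.eval₂ (algebraMap ℤ ℂ) (conj z) P
      = conj (Polynomial.eval₂ (algebraMap ℤ ℂ) z P) := by
    rw [Polynomial.eval₂_eq_sum_range, Polynomial.eval₂_eq_sum_range, map_sum]
    apply Finset.sum_congr rfl
    intro i _
    rw [map_mul, map_pow]
    congr 1
    simp
  rw [h1, hPz, map_zero]

theorem section_indicator (m n : ℕ) (hmn : Nat.card G = m * n)
    (hcop : Nat.Coprime m n) (g : G) (ϑ : G → ℂ)
    (hϑ1 : ∀ x : G, (∃ v : G, IsConj v g ∧ (∃ u : G, x = u * v ∧ Commute u v ∧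
      Nat.Coprime (orderOf u) n ∧ Nat.Coprime (orderOf v) m)) → ϑ x = n)
    (hϑ0 : ∀ x : G, (¬ ∃ v : G, IsConj v g ∧ (∃ u : G, x = u * v ∧ Commute u v ∧
      Nat.Coprime (orderOf u) n ∧ Nat.Coprime (orderOf v) m)) → ϑ x = 0) :
    ∃ c : IrrCharacter G → ℂ, (∀ χ, IsIntegral ℤ (c χ)) ∧
      ϑ = ∑ χ : IrrCharacter G, c χ • (χ : G → ℂ) := by
  classical
  obtain ⟨b, hbm, hbn⟩ := exists_exponent m n hcop
  have hb1 : ∀ x : G, IsConj (x ^ b) g → ϑ x = n := fun x h =>
    hϑ1 x ((section_iff m n b hmn hcop hbm hbn g x).mpr h)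
  have hb0 : ∀ x : G, ¬ IsConj (x ^ b) g → ϑ x = 0 := fun x h =>
    hϑ0 x (fun h' => h ((section_iff m n b hmn hcop hbm hbn g x).mp h'))
  have hcl : IsClassFunction G ϑ := by
    intro x h
    have hiff : IsConj ((h * x * h⁻¹) ^ b) g ↔ IsConj (x ^ b) g := by
      rw [conj_pow]
      constructor
      · intro h1
        exact (isConj_iff.mpr ⟨h, rfl⟩ : IsConj (x ^ b) (h * x ^ b * h⁻¹)).trans h1
      · intro h1
        exact (isConj_iff.mpr ⟨h, rfl⟩ : IsConj (x ^ b) (h * x ^ b * h⁻¹)).symm.trans h1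
    by_cases hx : IsConj (x ^ b) g
    · rw [hb1 _ (hiff.mpr hx), hb1 _ hx]
    · rw [hb0 _ (fun h' => hx (hiff.mp h')), hb0 _ hx]
  refine ⟨fun χ => classInner ϑ (χ : G → ℂ), ?_, classFunction_eq_sum ϑ hcl⟩
  have key : ∀ f ∈ LSpan G, IsIntegral ℤ (classInner ϑ f) := by
    intro f hf
    induction hf using AddSubgroup.closure_induction with
    | mem f hf =>
      obtain ⟨p, E, lam, hp, hE, rfl⟩ := hf
      haveI : Fact p.Prime := ⟨hp⟩
      letI : Fintype E := Fintype.ofFinite E
      have hnil : Group.IsNilpotent E := isNilpotent_of_isElementary hE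
      rw [← classInner_conj_symm, frobenius_reciprocity E _ ϑ hcl, ← classInner_conj_symm,
        Complex.conj_conj]
      exact isIntegral_inner_nilpotent m n b hmn hcop hbm hbn g E hnil lam _
        (fun x hx => hb1 _ hx) (fun x hx => hb0 _ hx)
    | zero => rw [classInner_zero_right]; exact isIntegral_zero
    | add f g _ _ h1 h2 => rw [classInner_add_right]; exact h1.add h2
    | neg f _ h => rw [classInner_neg_right]; exact h.neg
  intro χ
  exact key _ (brauer_induction (χ : G → ℂ) (isCharacter_of_isIrrCharacter χ.2))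

end loc

end Cfsg.Agent.Lib.helper3.PiSection
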