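import Mathlib
import Cfsg.Prelude.Def_Blocks
import Cfsg.Agent.Lib.helper3.PRegular
import Cfsg.Agent.Lib.helper3.BlockBasic
import Cfsg.Agent.Lib.helper3.AlgInt
import Cfsg.Agent.Lib.helper3.PiSection
import Cfsg.Agent.Lib.helper3.HeightZero5

/-!
# The `p`-regular part of an irreducible character of large `p`-degree

If `p ^ (a - c)` divides `χ 1` (`p ^ a` the `p`-part of `|G|`), then `p ^ c * χ` truncated to the
`p`-regular elements is a generalized character.
-/

set_option autoImplicit false
set_option linter.style.haveILetI false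
set_option linter.unusedSectionVars false

namespace Cfsg.Agent.Lib.helper3.Block

open Cfsg Module Cfsg.Agent.Lib.helper3.IndFun Cfsg.Agent.Lib.helper3.CharBasic
open Cfsg.Agent.Lib.helper3.Irr Cfsg.Agent.Lib.helper3.IndFunTrans Cfsg.Agent.Lib.helper3.Lin
open Cfsg.Agent.Lib.helper3.HallNilp Cfsg.Agent.Lib.helper3.BrauerInd
open scoped ComplexConjugate

universe u

/-- In a finite nilpotent group, a `p`-regular element is centralized by a subgroup whose order
is the full `p`-part. -/
theorem pow_dvd_card_centralizer_of_nilpotent {G : Type u} [Group G] [Fintype G]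
    (p : ℕ) [hp : Fact p.Prime] (E : Subgroup G) [hnil : Group.IsNilpotent E]
    (K : Subgroup E) [hKn : K.Normal] (hKmem : ∀ y : E, y ∈ K ↔ ¬ p ∣ orderOf y) (j : ℕ)
    (hj : K.index = p ^ j) (k : E) (hk : k ∈ K) :
    p ^ j ∣ Nat.card (Subgroup.centralizer ({(k : G)} : Set G)) := by
  classical
  obtain ⟨P⟩ : Nonempty (Sylow p E) := inferInstance
  haveI hPn : (P : Subgroup E).Normal := inferInstance
  have hcomm : ∀ x : E, x ∈ (P : Subgroup E) → x * k = k * x := by
    intro x hx
    have h1 : x * k * x⁻¹ * k⁻¹ ∈ (P : Subgroup E) := by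
      have h2 : k * x⁻¹ * k⁻¹ ∈ (P : Subgroup E) := hPn.conj_mem _ (inv_mem hx) k
      have := mul_mem hx h2
      have e : x * (k * x⁻¹ * k⁻¹) = x * k * x⁻¹ * k⁻¹ := by group
      rwa [e] at this
    have h2 : x * k * x⁻¹ * k⁻¹ ∈ K := by
      have h3 : x * k * x⁻¹ ∈ K := hKn.conj_mem _ hk x
      exact mul_mem h3 (inv_mem hk)
    have h3 : ¬ p ∣ orderOf (x * k * x⁻¹ * k⁻¹) := (hKmem _).1 h2
    obtain ⟨m, hm⟩ := (IsPGroup.iff_orderOf.mp P.isPGroup') ⟨_, h1⟩
    rw [Subgroup.orderOf_mk] at hm
    have hm0 : m = 0 := by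
      by_contra hne
      apply h3
      rw [hm]
      exact dvd_pow_self p hne
    rw [hm0, pow_zero, orderOf_eq_one_iff] at hm
    have e : x * k = (x * k * x⁻¹ * k⁻¹) * (k * x) := by group
    rw [e, hm, one_mul]
  have hle : ((P : Subgroup E).map E.subtype) ≤ Subgroup.centralizer ({(k : G)} : Set G) := by
    rintro _ ⟨x, hx, rfl⟩
    rw [Subgroup.mem_centralizer_iff]
    intro y hy
    rw [Set.mem_singleton_iff] at hy
    subst hy
    have := congrArg (fun e : E => (e : G)) (hcomm x hx)
    simp only [Subgroup.coe_mul] at this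
    exact this.symm
  have h1 : Nat.card ((P : Subgroup E).map E.subtype) = Nat.card (P : Subgroup E) :=
    Subgroup.card_map_of_injective E.subtype_injective
  have h2 : Nat.card (P : Subgroup E) = p ^ (Nat.card E).factorization p :=
    Sylow.card_eq_multiplicity P
  have h3 : p ^ j ∣ Nat.card E := by
    rw [← hj]
    exact Subgroup.index_dvd_card K
  have h4 : j ≤ (Nat.card E).factorization p :=
    (hp.out.pow_dvd_iff_le_factorization Nat.card_pos.ne').1 h3
  have h5 := Subgroup.card_dvd_of_le hle
  rw [h1, h2] at h5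
  exact dvd_trans (pow_dvd_pow p h4) h5

theorem isIntegral_natCast_complex (n : ℕ) : IsIntegral ℤ (n : ℂ) := by
  have := isIntegral_algebraMap (R := ℤ) (A := ℂ) (x := (n : ℤ))
  simpa using this

/-- `n' χ(g) = p^(j-c) w` with `w` an algebraic integer, when `p^(a-c)` divides `χ 1` and `p^j`
divides `|C_G(g)|`. -/
theorem exists_isIntegral_value {G : Type u} [Group G] [Fintype G]
    (p : ℕ) [hp : Fact p.Prime] (χ : IrrCharacter G) (a c j : ℕ)
    (ha : a = (Nat.card G).factorization p) (hc : c ≤ a) (hcj : c ≤ j)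
    (hdiv : p ^ (a - c) ∣ charDegree (χ : G → ℂ)) (g : G)
    (hg : p ^ j ∣ Nat.card (Subgroup.centralizer ({g} : Set G))) :
    ∃ w : ℂ, IsIntegral ℤ w ∧ ((ordCompl[p] (Nat.card G) : ℕ) : ℂ) * (χ : G → ℂ) g
      = ((p ^ (j - c) : ℕ) : ℂ) * w := by
  classical
  obtain ⟨d', hd'⟩ := hdiv
  obtain ⟨c', hc'⟩ := hg
  have hω := isIntegral_centralChar χ.2 g
  refine ⟨centralChar (χ : G → ℂ) g * (d' : ℂ) * (c' : ℂ),
    (hω.mul (isIntegral_natCast_complex d')).mul (isIntegral_natCast_complex c'), ?_⟩
  unfold centralChar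
  have hp0 : (p : ℂ) ≠ 0 := by exact_mod_cast hp.out.ne_zero
  have hC : ((Subgroup.centralizer ({g} : Set G)).index : ℂ)
      * (Nat.card (Subgroup.centralizer ({g} : Set G)) : ℂ) = (Nat.card G : ℂ) := by
    rw [← Nat.cast_mul, mul_comm, Subgroup.card_mul_index]
  have hG : (Nat.card G : ℂ) = (p : ℂ) ^ a * ((ordCompl[p] (Nat.card G) : ℕ) : ℂ) := by
    rw [ha]
    have := Nat.ordProj_mul_ordCompl_eq_self (Nat.card G) p
    exact_mod_cast this.symm
  have hdeg : (χ : G → ℂ) 1 = (p : ℂ) ^ (a - c) * (d' : ℂ) := by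
    rw [apply_one_eq_charDegree, hd']
    push_cast
    ring
  have hcard : (Nat.card (Subgroup.centralizer ({g} : Set G)) : ℂ) = (p : ℂ) ^ j * (c' : ℂ) := by
    rw [hc']
    push_cast
    ring
  have pa : (p : ℂ) ^ a = (p : ℂ) ^ (a - c) * (p : ℂ) ^ c := by
    rw [← pow_add, Nat.sub_add_cancel hc]
  have pj : (p : ℂ) ^ j = (p : ℂ) ^ (j - c) * (p : ℂ) ^ c := by
    rw [← pow_add, Nat.sub_add_cancel hcj]
  have hd0 : (d' : ℂ) ≠ 0 := by
    intro h0
    have h1 : d' = 0 := by exact_mod_cast h0
    rw [h1, mul_zero] at hd'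
    exact charDegree_ne_zero χ hd'
  have hpc : (p : ℂ) ^ c ≠ 0 := pow_ne_zero _ hp0
  have hpac : (p : ℂ) ^ (a - c) ≠ 0 := pow_ne_zero _ hp0
  have key : ((Subgroup.centralizer ({g} : Set G)).index : ℂ) * (p : ℂ) ^ (j - c) * (c' : ℂ)
      = (p : ℂ) ^ (a - c) * ((ordCompl[p] (Nat.card G) : ℕ) : ℂ) := by
    rw [hcard, hG, pa, pj] at hC
    apply mul_right_cancel₀ hpc
    linear_combination hC
  rw [hdeg]
  push_cast
  field_simp
  linear_combination (-(χ : G → ℂ) g) * key

/-- If `p ^ (a - c)` divides `χ 1`, then `p ^ c χ` truncated to the `p`-regular elements is a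
generalized character. -/
theorem pregular_part_generalized_of_dvd {G : Type u} [Group G] [Fintype G]
    (p : ℕ) [hp : Fact p.Prime] (χ : IrrCharacter G) (a c : ℕ)
    (ha : a = (Nat.card G).factorization p) (hc : c ≤ a)
    (hdiv : p ^ (a - c) ∣ charDegree (χ : G → ℂ)) :
    IsGeneralizedCharacter G
      (fun x => if p ∣ orderOf x then 0 else ((p ^ c : ℕ) : ℂ) * (χ : G → ℂ) x) := by
  classical
  have hχc := isCharacter_of_isIrrCharacter χ.2
  have hχcf := isClassFunction_of_isCharacter hχc
  apply brauer_characterization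
  · intro g h
    simp only
    rw [orderOf_conj', hχcf g h]
  · intro E q hq hE
    haveI : Fact q.Prime := ⟨hq⟩
    letI : Fintype E := Fintype.ofFinite E
    haveI : Group.IsNilpotent E := isNilpotent_of_isElementary hE
    obtain ⟨K, hKn, hKmem, j, hj⟩ := exists_hall_pprime (E := E) p
    haveI := hKn
    have hψcf : IsClassFunction E (fun e : E => (χ : G → ℂ) e) :=
      isClassFunction_of_isCharacter (isCharacter_restrict hχc E)
    by_cases hjc : j ≤ c
    · have hfun : (fun e : E => if p ∣ orderOf (e : G) then 0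
            else ((p ^ c : ℕ) : ℂ) * (χ : G → ℂ) e)
          = ((p ^ (c - j) : ℕ) : ℂ) • indFun K (fun k : K => (χ : G → ℂ) ((k : E) : G)) := by
        funext e
        rw [Pi.smul_apply, indFun_restrict_normal K (fun e : E => (χ : G → ℂ) e) hψcf e,
          Subgroup.orderOf_coe]
        by_cases he : p ∣ orderOf e
        · rw [if_pos he, if_neg (fun h => (hKmem e).1 h he), smul_zero]
        · rw [if_neg he, if_pos ((hKmem e).2 he), hj, smul_eq_mul, ← mul_assoc]
          congr 1
          rw [← Nat.cast_mul, ← pow_add, Nat.sub_add_cancel hjc]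
      rw [hfun]
      exact ⟨_, 0, isCharacter_nsmul (isCharacter_indFun K _
        (isCharacter_restrict (isCharacter_restrict hχc E) K)) _, isCharacter_zero,
        (sub_zero _).symm⟩
    · push Not at hjc
      have hcj : c ≤ j := hjc.le
      obtain ⟨t, ht⟩ : ∃ t : ℕ, t = j - c := ⟨_, rfl⟩
      have hpt0 : ((p ^ t : ℕ) : ℂ) ≠ 0 := by
        exact_mod_cast (pow_pos hp.out.pos t).ne'
      have hpt0' : (p : ℂ) ^ t ≠ 0 := by
        exact_mod_cast (pow_pos hp.out.pos t).ne'
      obtain ⟨n', hn'⟩ : ∃ n' : ℕ, n' = ordCompl[p] (Nat.card G) := ⟨_, rfl⟩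
      -- integrality of the values on `K`
      have hval : ∀ k : K, ∃ w : ℂ, IsIntegral ℤ w ∧
          (n' : ℂ) * (χ : G → ℂ) ((k : E) : G)
            = ((p ^ t : ℕ) : ℂ) * w := by
        intro k
        rw [ht, hn']
        exact exists_isIntegral_value p χ a c j ha hc hcj hdiv _
          (pow_dvd_card_centralizer_of_nilpotent p E K hKmem j hj (k : E) k.2)
      choose w hw hwe using hval
      have hχK := isCharacter_restrict (isCharacter_restrict hχc E) K
      obtain ⟨m, hm⟩ := exists_decomposition_of_isCharacter hχK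
      have hpK : ¬ p ∣ Nat.card K := by
        intro hdvd
        obtain ⟨y, hy⟩ := exists_prime_orderOf_dvd_card' p hdvd
        have h1 : ¬ p ∣ orderOf (y : E) := (hKmem _).1 y.2
        apply h1
        rw [Subgroup.orderOf_coe, hy]
      have hpn' : ¬ p ∣ n' := by
        rw [hn']
        exact Nat.not_dvd_ordCompl hp.out Nat.card_pos.ne'
      have hmdvd : ∀ lam : IrrCharacter K, p ^ t ∣ m lam := by
        intro lam
        have h1 : classInner (fun k : K => (χ : G → ℂ) ((k : E) : G)) (lam : K → ℂ)
            = (m lam : ℂ) := by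
          rw [hm]
          exact classInner_decomposition_left (fun ψ => (m ψ : ℂ)) lam
        rw [classInner_apply] at h1
        have hKC : (Nat.card K : ℂ) ≠ 0 := card_ne_zero_complex K
        have h2 : ∑ k : K, (χ : G → ℂ) ((k : E) : G) * conj ((lam : K → ℂ) k)
            = (Nat.card K : ℂ) * (m lam : ℂ) := by
          rw [← h1]
          field_simp
        have h3 : (((n' * Nat.card K * m lam : ℕ) : ℤ) : ℂ)
            = (((p ^ t : ℕ) : ℤ) : ℂ) * ∑ k : K, w k * conj ((lam : K → ℂ) k) := by
          push_cast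
          rw [Finset.mul_sum]
          have h4 : ∀ k : K, ((p : ℂ) ^ t) * (w k * conj ((lam : K → ℂ) k))
              = (n' : ℂ)
                * ((χ : G → ℂ) ((k : E) : G) * conj ((lam : K → ℂ) k)) := by
            intro k
            have := hwe k
            push_cast at this
            rw [← mul_assoc, ← this]
            ring
          rw [Finset.sum_congr rfl (fun k _ => h4 k), ← Finset.mul_sum, h2]
          ring
        have hW : IsIntegral ℤ (∑ k : K, w k * conj ((lam : K → ℂ) k)) := by
          apply IsIntegral.sum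
          intro k _
          exact (hw k).mul (Cfsg.Agent.Lib.helper3.PiSection.isIntegral_conj'
            (isIntegral_of_isCharacter (isCharacter_of_isIrrCharacter lam.2) k))
        have h5 := Cfsg.Agent.Lib.helper3.AlgInt.int_dvd_of_eq_mul_isIntegral hW h3
          (by exact_mod_cast (pow_pos hp.out.pos t).ne')
        have h6 : p ^ t ∣ n' * Nat.card K * m lam :=
          Int.natCast_dvd_natCast.mp h5
        have hcop : Nat.Coprime (p ^ t) (n' * Nat.card K) := by
          apply Nat.Coprime.pow_left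
          apply Nat.Coprime.mul_right
          · exact (Nat.Prime.coprime_iff_not_dvd hp.out).2 hpn'
          · exact (Nat.Prime.coprime_iff_not_dvd hp.out).2 hpK
        exact hcop.dvd_of_dvd_mul_left h6
      choose b hb using hmdvd
      have hθ : (fun k : K => (fun e : E => (χ : G → ℂ) e / ((p ^ t : ℕ) : ℂ)) k)
          = ∑ lam : IrrCharacter K, (b lam : ℂ) • (lam : K → ℂ) := by
        funext k
        have h1 := congrFun hm k
        simp only
        rw [h1, Finset.sum_apply, Finset.sum_apply, Finset.sum_div]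
        apply Finset.sum_congr rfl
        intro lam _
        rw [Pi.smul_apply, Pi.smul_apply, smul_eq_mul, smul_eq_mul, hb lam]
        push_cast
        field_simp
      have hψcf' : IsClassFunction E (fun e : E => (χ : G → ℂ) e / ((p ^ t : ℕ) : ℂ)) := by
        intro x y
        have h := hψcf x y
        simp only at h ⊢
        rw [h]
      have hfun : (fun e : E => if p ∣ orderOf (e : G) then 0
            else ((p ^ c : ℕ) : ℂ) * (χ : G → ℂ) e)
          = indFun K (fun k : K => (fun e : E => (χ : G → ℂ) e / ((p ^ t : ℕ) : ℂ)) k) := by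
        funext e
        rw [indFun_restrict_normal K _ hψcf' e, Subgroup.orderOf_coe]
        by_cases he : p ∣ orderOf e
        · rw [if_pos he, if_neg (fun h => (hKmem e).1 h he)]
        · rw [if_neg he, if_pos ((hKmem e).2 he), hj]
          have hjt : j = t + c := by omega
          rw [hjt, pow_add]
          push_cast
          field_simp
      rw [hfun, hθ]
      exact ⟨_, 0, isCharacter_indFun K _ (isCharacter_of_decomposition b), isCharacter_zero,
        (sub_zero _).symm⟩

end Cfsg.Agent.Lib.helper3.Block
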