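import Mathlib
import Cfsg.Prelude.Def_Blocks
import Cfsg.Agent.Lib.helper3.DefOne1
import Cfsg.Agent.Lib.helper3.NormTwo

/-!
# Blocks containing a character of defect at most one

If `p ^ (a - 1)` divides the degree of one member of a `p`-block, it divides the degrees of all.
-/

set_option autoImplicit false
set_option linter.style.haveILetI false
set_option linter.unusedSectionVars false

namespace Cfsg.Agent.Lib.helper3.Block

open Cfsg Cfsg.Agent.Lib.helper3.LocalM Cfsg.Agent.Lib.helper3.Irr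
open Cfsg.Agent.Lib.helper3.CharBasic Cfsg.Agent.Lib.helper3.Lin Cfsg.Agent.Lib.helper3.Central
open Cfsg.Agent.Lib.helper3.IndFun Cfsg.Agent.Lib.helper3.HallNilp Cfsg.Agent.Lib.helper3.BrauerInd
open scoped ComplexConjugate

universe u

variable {G : Type u} [Group G] [Fintype G] {M : Ideal AlgInt}

/-- If the exponent `v` of `p` in `χ 1` is at least `a - 1`, then `p ^ v` divides the degrees of
all members of the block of `χ`. -/
theorem pow_factorization_dvd_degree_of_mem_block {p : ℕ} [hp : Fact p.Prime]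
    (hM : IsPModular p M)
    (B : Set (IrrCharacter G)) (hB : IsPBlock M B) (χ ψ : IrrCharacter G) (hχ : χ ∈ B)
    (hψ : ψ ∈ B) (a : ℕ) (ha : a = (Nat.card G).factorization p)
    (hdiv : p ^ (a - 1) ∣ charDegree (χ : G → ℂ)) :
    p ^ (charDegree (χ : G → ℂ)).factorization p ∣ charDegree (ψ : G → ℂ) := by
  classical
  haveI hMp := isPrime_of_isPModular hM
  have hMtop : M ≠ ⊤ := hM.2.1.ne_top
  obtain ⟨v, hv⟩ : ∃ v : ℕ, v = (charDegree (χ : G → ℂ)).factorization p := ⟨_, rfl⟩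
  have hv1 : a - 1 ≤ v := by
    rw [hv]
    exact (hp.out.pow_dvd_iff_le_factorization (charDegree_ne_zero χ)).1 hdiv
  have hv2 : v ≤ a := by
    obtain ⟨d, hd1, hddvd, hdpos⟩ := irr_degree_dvd_card χ.2
    have hcd : charDegree (χ : G → ℂ) = d := charDegree_eq hd1
    rw [hv, ha, hcd]
    exact (Nat.factorization_le_iff_dvd hdpos.ne' Nat.card_pos.ne').2 hddvd p
  obtain ⟨c, hc⟩ : ∃ c : ℕ, c = a - v := ⟨_, rfl⟩
  have hca : c ≤ a := by omega
  have hc1 : c ≤ 1 := by omega
  have hac : a - c = v := by omega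
  have hdiv' : p ^ (a - c) ∣ charDegree (χ : G → ℂ) := by
    rw [hac, hv]
    exact Nat.ordProj_dvd _ p
  have hgen := pregular_part_generalized_of_dvd p χ a c ha hca hdiv'
  obtain ⟨y, hy⟩ := exists_int_decomposition hgen
  have hyin : ∀ ξ : IrrCharacter G, classInner (fun x : G => if p ∣ orderOf x then (0 : ℂ)
      else ((p ^ c : ℕ) : ℂ) * (χ : G → ℂ) x) (ξ : G → ℂ) = (y ξ : ℂ) := by
    intro ξ
    rw [hy]
    exact classInner_decomposition_left (fun ψ => (y ψ : ℂ)) ξ
  obtain ⟨n', hn'⟩ : ∃ n' : ℕ, n' = ordCompl[p] (Nat.card G) := ⟨_, rfl⟩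
  have hpn' : ¬ p ∣ n' := by
    rw [hn']
    exact Nat.not_dvd_ordCompl hp.out Nat.card_pos.ne'
  have hGC : (Nat.card G : ℂ) ≠ 0 := card_ne_zero_complex G
  have hp0 : (p : ℂ) ≠ 0 := by exact_mod_cast hp.out.ne_zero
  have hG : (Nat.card G : ℂ) = (p : ℂ) ^ c * ((p : ℂ) ^ v * (n' : ℂ)) := by
    rw [← mul_assoc, ← pow_add, hn']
    have h1 : c + v = (Nat.card G).factorization p := by omega
    rw [h1]
    have := Nat.ordProj_mul_ordCompl_eq_self (Nat.card G) p
    exact_mod_cast this.symm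
  -- the relation with `regPair`
  have hreg : ∀ ξ : IrrCharacter G, regPair p (χ : G → ℂ) (ξ : G → ℂ)
      = (n' : ℂ) * (((p : ℤ) ^ v * y ξ : ℤ) : ℂ) := by
    intro ξ
    have h1 := hyin ξ
    rw [classInner_apply] at h1
    have h2 : ∑ g : G, (if p ∣ orderOf g then (0 : ℂ)
        else ((p ^ c : ℕ) : ℂ) * (χ : G → ℂ) g) * conj ((ξ : G → ℂ) g)
        = (p : ℂ) ^ c * regPair p (χ : G → ℂ) (ξ : G → ℂ) := by
      unfold regPair
      rw [Finset.mul_sum]
      apply Finset.sum_congr rfl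
      intro g _
      by_cases hg : p ∣ orderOf g
      · rw [if_pos hg, if_pos hg]; ring
      · rw [if_neg hg, if_neg hg]; push_cast; ring
    rw [h2] at h1
    have h3 : (p : ℂ) ^ c * regPair p (χ : G → ℂ) (ξ : G → ℂ) = (Nat.card G : ℂ) * (y ξ : ℂ) := by
      rw [← h1]
      field_simp
    rw [hG] at h3
    have hpc : (p : ℂ) ^ c ≠ 0 := pow_ne_zero _ hp0
    apply mul_left_cancel₀ hpc
    rw [h3]
    push_cast
    ring
  -- the quotients
  have hw : ∀ ξ : IrrCharacter G, ∃ w : ℤ,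
      (n' : ℤ) * ((p : ℤ) ^ v * y ξ) = ((charDegree (ξ : G → ℂ) : ℕ) : ℤ) * w := fun ξ =>
    (degree_dvd_regZ p χ ξ n' _ (hreg ξ)).2
  choose w hw using hw
  have hBχ : B = blockOf M (χ : G → ℂ) :=
    block_eq_of_mem hB ⟨χ, rfl⟩ χ hχ (sameBlock_refl hMtop _)
  have hsame : SameBlock M (χ : G → ℂ) (ψ : G → ℂ) := by
    have h1 := hψ
    rw [hBχ] at h1
    exact h1
  have hcong := regZ_quot_congr hM χ χ ψ hsame n' _ _ (w χ) (w ψ) (hreg χ) (hreg ψ) (hw χ) (hw ψ)
  -- the value `y χ`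
  obtain ⟨R, hR⟩ : ∃ R : ℝ, R = ∑ g : G, if p ∣ orderOf g then (0 : ℝ)
      else Complex.normSq ((χ : G → ℂ) g) := ⟨_, rfl⟩
  obtain ⟨T, hT⟩ : ∃ T : ℝ, T = ∑ g : G, if p ∣ orderOf g then Complex.normSq ((χ : G → ℂ) g)
      else (0 : ℝ) := ⟨_, rfl⟩
  have hRT : R + T = (Nat.card G : ℝ) := by
    have h1 := irr_classInner_self χ.2
    rw [classInner_apply] at h1
    have h2 : ∑ g : G, (χ : G → ℂ) g * conj ((χ : G → ℂ) g) = (Nat.card G : ℂ) := by
      have : (Nat.card G : ℂ) = (Nat.card G : ℂ) * ((Nat.card G : ℂ)⁻¹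
          * ∑ g : G, (χ : G → ℂ) g * conj ((χ : G → ℂ) g)) := by rw [h1, mul_one]
      rw [this]
      field_simp
    have h3 : ((R + T : ℝ) : ℂ) = ((Nat.card G : ℝ) : ℂ) := by
      rw [hR, hT, ← Finset.sum_add_distrib]
      push_cast
      rw [← h2]
      apply Finset.sum_congr rfl
      intro g _
      rw [Complex.mul_conj]
      by_cases hg : p ∣ orderOf g
      · rw [if_pos hg, if_pos hg]; simp
      · rw [if_neg hg, if_neg hg]; simp
    exact_mod_cast h3
  have hT0 : 0 ≤ T := by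
    rw [hT]
    apply Finset.sum_nonneg
    intro g _
    split_ifs
    · exact Complex.normSq_nonneg _
    · exact le_refl _
  have hRpos : 0 < R := by
    rw [hR]
    apply Finset.sum_pos'
    · intro g _
      split_ifs
      · exact le_refl _
      · exact Complex.normSq_nonneg _
    · refine ⟨1, Finset.mem_univ _, ?_⟩
      rw [orderOf_one, if_neg hp.out.not_dvd_one, apply_one_eq_charDegree]
      rw [Complex.normSq_pos]
      exact_mod_cast charDegree_ne_zero χ
  have hyR : (y χ : ℝ) * (Nat.card G : ℝ) = (p : ℝ) ^ c * R := by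
    have h1 := hyin χ
    rw [classInner_apply] at h1
    have h2 : ∑ g : G, (if p ∣ orderOf g then (0 : ℂ)
        else ((p ^ c : ℕ) : ℂ) * (χ : G → ℂ) g) * conj ((χ : G → ℂ) g)
        = (p : ℂ) ^ c * (R : ℂ) := by
      rw [hR]
      push_cast
      rw [Finset.mul_sum]
      apply Finset.sum_congr rfl
      intro g _
      by_cases hg : p ∣ orderOf g
      · rw [if_pos hg, if_pos hg]; simp
      · rw [if_neg hg, if_neg hg, mul_assoc, Complex.mul_conj]
    rw [h2] at h1
    have h3 : ((y χ : ℝ) : ℂ) * ((Nat.card G : ℝ) : ℂ) = (((p : ℝ) ^ c * R : ℝ) : ℂ) := by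
      push_cast
      rw [← h1]
      field_simp
    exact_mod_cast h3
  have hGpos : (0 : ℝ) < (Nat.card G : ℝ) := by exact_mod_cast Nat.card_pos
  have hppos : (0 : ℝ) < (p : ℝ) ^ c := by
    apply pow_pos
    exact_mod_cast hp.out.pos
  have hypos : 0 < y χ := by
    have h1 : (0 : ℝ) < (y χ : ℝ) * (Nat.card G : ℝ) := by
      rw [hyR]
      exact mul_pos hppos hRpos
    have h2 : (0 : ℝ) < (y χ : ℝ) := by
      by_contra hcon
      push Not at hcon
      have := mul_nonpos_of_nonpos_of_nonneg hcon hGpos.le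
      linarith
    exact_mod_cast h2
  have hyle : (y χ : ℝ) ≤ (p : ℝ) ^ c := by
    have h1 : (y χ : ℝ) * (Nat.card G : ℝ) ≤ (p : ℝ) ^ c * (Nat.card G : ℝ) := by
      rw [hyR]
      apply mul_le_mul_of_nonneg_left _ hppos.le
      linarith
    exact le_of_mul_le_mul_right h1 hGpos
  have hynot : ¬ (p : ℤ) ∣ y χ := by
    intro hdvd
    have hpy : (p : ℤ) ≤ y χ := Int.le_of_dvd hypos hdvd
    have hpyR : (p : ℝ) ≤ (y χ : ℝ) := by exact_mod_cast hpy
    have hc1' : c = 1 := by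
      by_contra hne
      have h0 : c = 0 := by omega
      rw [h0, pow_zero] at hyle
      have : (2 : ℝ) ≤ (p : ℝ) := by exact_mod_cast hp.out.two_le
      linarith
    rw [hc1', pow_one] at hyle hyR
    have hyp : (y χ : ℝ) = (p : ℝ) := le_antisymm hyle hpyR
    rw [hyp] at hyR
    have hpR : (0 : ℝ) < (p : ℝ) := by exact_mod_cast hp.out.pos
    have hRG : R = (Nat.card G : ℝ) := (mul_left_cancel₀ hpR.ne' hyR).symm
    have hT00 : T = 0 := by linarith
    rw [hT] at hT00
    have hvan : ∀ g : G, p ∣ orderOf g → (χ : G → ℂ) g = 0 := by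
      intro g hg
      have h1 := (Finset.sum_eq_zero_iff_of_nonneg (fun g _ => by
        split_ifs
        · exact Complex.normSq_nonneg _
        · exact le_refl _)).1 hT00 g (Finset.mem_univ _)
      rw [if_pos hg] at h1
      exact Complex.normSq_eq_zero.mp h1
    have h2 := pow_dvd_of_int_comb_vanish (p := p) (fun ξ : IrrCharacter G => if ξ = χ then 1 else 0)
      (by
        intro g hg
        rw [Finset.sum_eq_single_of_mem χ (Finset.mem_univ _)]
        · rw [if_pos rfl, hvan g hg]; simp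
        · intro ξ _ hξ
          rw [if_neg hξ]; simp)
    rw [Finset.sum_eq_single_of_mem χ (Finset.mem_univ _)] at h2
    · rw [if_pos rfl, one_mul] at h2
      have h3 : p ^ (Nat.card G).factorization p ∣ charDegree (χ : G → ℂ) :=
        Int.natCast_dvd_natCast.mp h2
      have h4 := (hp.out.pow_dvd_iff_le_factorization (charDegree_ne_zero χ)).1 h3
      omega
    · intro ξ _ hξ
      rw [if_neg hξ, zero_mul]
  -- `w χ` is a unit mod `p`
  have hpZ : Prime (p : ℤ) := Nat.prime_iff_prime_int.mp hp.out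
  have hwχ : ¬ (p : ℤ) ∣ w χ := by
    intro hdvd
    obtain ⟨χ', hχ'⟩ : p ^ v ∣ charDegree (χ : G → ℂ) := by
      rw [hv]; exact Nat.ordProj_dvd _ p
    have h1 := hw χ
    rw [hχ'] at h1
    have hpv : ((p : ℤ) ^ v) ≠ 0 := pow_ne_zero _ (by exact_mod_cast hp.out.ne_zero)
    have h2 : (n' : ℤ) * y χ = (χ' : ℤ) * w χ := by
      apply mul_left_cancel₀ hpv
      push_cast at h1
      linear_combination h1
    have h3 : (p : ℤ) ∣ (n' : ℤ) * y χ := by
      rw [h2]
      exact dvd_mul_of_dvd_right hdvd _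
    rcases hpZ.dvd_or_dvd h3 with h4 | h4
    · exact hpn' (Int.natCast_dvd_natCast.mp h4)
    · exact hynot h4
  have hwψ : ¬ (p : ℤ) ∣ w ψ := by
    intro hdvd
    apply hwχ
    have := dvd_add hcong hdvd
    rwa [sub_add_cancel] at this
  have hcop : IsCoprime ((p : ℤ) ^ v) (w ψ) :=
    IsCoprime.pow_left ((Prime.coprime_iff_not_dvd hpZ).2 hwψ)
  have h1 : (p : ℤ) ^ v ∣ ((charDegree (ψ : G → ℂ) : ℕ) : ℤ) * w ψ := by
    rw [← hw ψ]
    exact ⟨(n' : ℤ) * y ψ, by ring⟩
  have h2 : (p : ℤ) ^ v ∣ ((charDegree (ψ : G → ℂ) : ℕ) : ℤ) := hcop.dvd_of_dvd_mul_right h1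
  have h3 : p ^ v ∣ charDegree (ψ : G → ℂ) := by
    have : ((p ^ v : ℕ) : ℤ) ∣ ((charDegree (ψ : G → ℂ) : ℕ) : ℤ) := by
      push_cast
      exact h2
    exact Int.natCast_dvd_natCast.mp this
  rw [← hv]
  exact h3

theorem pow_dvd_degree_of_mem_block {p : ℕ} [hp : Fact p.Prime] (hM : IsPModular p M)
    (B : Set (IrrCharacter G)) (hB : IsPBlock M B) (χ ψ : IrrCharacter G) (hχ : χ ∈ B)
    (hψ : ψ ∈ B) (a : ℕ) (ha : a = (Nat.card G).factorization p)
    (hdiv : p ^ (a - 1) ∣ charDegree (χ : G → ℂ)) : p ^ (a - 1) ∣ charDegree (ψ : G → ℂ) := by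
  have h1 := pow_factorization_dvd_degree_of_mem_block hM B hB χ ψ hχ hψ a ha hdiv
  have h2 : a - 1 ≤ (charDegree (χ : G → ℂ)).factorization p :=
    (hp.out.pow_dvd_iff_le_factorization (charDegree_ne_zero χ)).1 hdiv
  exact dvd_trans (pow_dvd_pow p h2) h1

end Cfsg.Agent.Lib.helper3.Block
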