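import Mathlib
import Cfsg.Prelude.Def_Blocks
import Cfsg.Agent.Lib.helper3.DefOne2

/-!
# The Brauer–Feit counts

For an irreducible character `β`, the integers `z ξ = p^a m_{βξ}` satisfy `∑ z ξ ^ 2 = p^a z β`.
-/

set_option autoImplicit false
set_option linter.style.haveILetI false
set_option linter.unusedSectionVars false

namespace Cfsg.Agent.Lib.helper3.Block

open Cfsg Cfsg.Agent.Lib.helper3.LocalM Cfsg.Agent.Lib.helper3.Irr
open Cfsg.Agent.Lib.helper3.CharBasic Cfsg.Agent.Lib.helper3.Lin Cfsg.Agent.Lib.helper3.Central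
open Cfsg.Agent.Lib.helper3.IndFun Cfsg.Agent.Lib.helper3.HallNilp Cfsg.Agent.Lib.helper3.BrauerInd
open scoped ComplexConjugate

universe u

variable {G : Type u} [Group G] [Fintype G] {M : Ideal AlgInt}

/-- The Parseval relation for the integer coefficients of `p^a β` truncated to the `p`-regular
elements. -/
theorem regZ_parseval (p : ℕ) [hp : Fact p.Prime] (β : IrrCharacter G)
    (z : IrrCharacter G → ℤ)
    (hz1 : ∀ ξ : IrrCharacter G, classInner (fun x : G => if p ∣ orderOf x then (0 : ℂ)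
        else ((p ^ (Nat.card G).factorization p : ℕ) : ℂ) * (β : G → ℂ) x) (ξ : G → ℂ)
          = (z ξ : ℂ))
    (hz3 : ∀ y : G, (if p ∣ orderOf y then (0 : ℂ)
        else ((p ^ (Nat.card G).factorization p : ℕ) : ℂ) * (β : G → ℂ) y)
          = ∑ ξ : IrrCharacter G, (z ξ : ℂ) * (ξ : G → ℂ) y) :
    ∑ ξ : IrrCharacter G, z ξ ^ 2 = ((p ^ (Nat.card G).factorization p : ℕ) : ℤ) * z β ∧
      0 < z β := by
  classical
  obtain ⟨η, hη⟩ : ∃ η : G → ℂ, η = fun x : G => if p ∣ orderOf x then (0 : ℂ)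
        else ((p ^ (Nat.card G).factorization p : ℕ) : ℂ) * (β : G → ℂ) x := ⟨_, rfl⟩
  rw [← hη] at hz1
  have hdec : η = ∑ ξ : IrrCharacter G, (z ξ : ℂ) • (ξ : G → ℂ) := by
    funext y
    rw [hη]
    simp only
    rw [hz3 y, Finset.sum_apply]
    apply Finset.sum_congr rfl
    intro ξ _
    rw [Pi.smul_apply, smul_eq_mul]
  have h1 : classInner η η = ∑ ξ : IrrCharacter G, (z ξ : ℂ) * conj ((z ξ : ℂ)) := by
    have h0 := classInner_decomposition (fun ξ : IrrCharacter G => (z ξ : ℂ))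
      (fun ξ : IrrCharacter G => (z ξ : ℂ))
    rw [← hdec] at h0
    exact h0
  have h2 : classInner η η
      = ((p ^ (Nat.card G).factorization p : ℕ) : ℂ) * classInner η (β : G → ℂ) := by
    have h0 : ∑ g : G, η g * conj (η g)
        = ((p ^ (Nat.card G).factorization p : ℕ) : ℂ) * ∑ g : G, η g * conj ((β : G → ℂ) g) := by
      rw [Finset.mul_sum]
      apply Finset.sum_congr rfl
      intro g _
      rw [hη]
      simp only
      by_cases hg : p ∣ orderOf g
      · rw [if_pos hg]; simp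
      · rw [if_neg hg, map_mul, map_natCast]
        ring
    rw [classInner_apply, classInner_apply, h0]
    ring
  rw [hz1 β] at h2
  constructor
  · have h3 : ((∑ ξ : IrrCharacter G, z ξ ^ 2 : ℤ) : ℂ)
        = ((((p ^ (Nat.card G).factorization p : ℕ) : ℤ) * z β : ℤ) : ℂ) := by
      push_cast
      rw [← Nat.cast_pow, ← h2, h1]
      apply Finset.sum_congr rfl
      intro ξ _
      rw [map_intCast]
      ring
    exact_mod_cast h3
  · -- positivity
    have h3 := hz1 β
    rw [classInner_apply] at h3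
    obtain ⟨R, hR⟩ : ∃ R : ℝ, R = ∑ g : G, if p ∣ orderOf g then (0 : ℝ)
        else Complex.normSq ((β : G → ℂ) g) := ⟨_, rfl⟩
    have hRpos : 0 < R := by
      rw [hR]
      apply Finset.sum_pos'
      · intro g _
        split_ifs
        · exact le_refl _
        · exact Complex.normSq_nonneg _
      · refine ⟨1, Finset.mem_univ _, ?_⟩
        rw [orderOf_one, if_neg hp.out.not_dvd_one, apply_one_eq_charDegree]
        rw [Complex.normSq_pos]
        exact_mod_cast charDegree_ne_zero β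
    have h4 : ∑ g : G, η g * conj ((β : G → ℂ) g)
        = (((p ^ (Nat.card G).factorization p : ℕ) : ℝ) : ℂ) * (R : ℂ) := by
      rw [hR]
      push_cast
      rw [Finset.mul_sum]
      apply Finset.sum_congr rfl
      intro g _
      rw [hη]
      simp only
      by_cases hg : p ∣ orderOf g
      · rw [if_pos hg, if_pos hg]; simp
      · rw [if_neg hg, if_neg hg, mul_assoc, Complex.mul_conj]
        push_cast
        ring
    rw [h4] at h3
    have hGC : (Nat.card G : ℂ) ≠ 0 := card_ne_zero_complex G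
    have h5 : ((z β : ℝ) : ℂ) * ((Nat.card G : ℝ) : ℂ)
        = ((((p ^ (Nat.card G).factorization p : ℕ) : ℝ) * R : ℝ) : ℂ) := by
      push_cast
      rw [← h3]
      push_cast
      field_simp
    have h6 : (z β : ℝ) * (Nat.card G : ℝ) = ((p ^ (Nat.card G).factorization p : ℕ) : ℝ) * R := by
      exact_mod_cast h5
    have hGpos : (0 : ℝ) < (Nat.card G : ℝ) := by exact_mod_cast Nat.card_pos
    have hppos : (0 : ℝ) < ((p ^ (Nat.card G).factorization p : ℕ) : ℝ) := by
      exact_mod_cast pow_pos hp.out.pos _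
    have h7 : (0 : ℝ) < (z β : ℝ) * (Nat.card G : ℝ) := by
      rw [h6]
      exact mul_pos hppos hRpos
    have h8 : (0 : ℝ) < (z β : ℝ) := by
      by_contra hcon
      push Not at hcon
      have := mul_nonpos_of_nonpos_of_nonneg hcon hGpos.le
      linarith
    exact_mod_cast h8

/-- The counting inequality. -/
theorem regZ_count (N : ℤ) (β : IrrCharacter G) (z : IrrCharacter G → ℤ)
    (hpars : ∑ ξ : IrrCharacter G, z ξ ^ 2 = N * z β)
    (S : Finset (IrrCharacter G)) (hβS : β ∉ S) (q : ℤ) (hq : 0 < q)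
    (hS : ∀ ξ ∈ S, q ∣ z ξ ∧ z ξ ≠ 0) :
    4 * (S.card : ℤ) * q ^ 2 ≤ N ^ 2 := by
  classical
  have h1 : ∑ ξ ∈ S, z ξ ^ 2 + z β ^ 2 ≤ ∑ ξ : IrrCharacter G, z ξ ^ 2 := by
    have h2 : ∑ ξ ∈ insert β S, z ξ ^ 2 ≤ ∑ ξ : IrrCharacter G, z ξ ^ 2 := by
      apply Finset.sum_le_sum_of_subset_of_nonneg (Finset.subset_univ _)
      intro ξ _ _
      exact sq_nonneg _
    rw [Finset.sum_insert hβS] at h2
    linarith
  have h3 : ∀ ξ ∈ S, q ^ 2 ≤ z ξ ^ 2 := by
    intro ξ hξ
    obtain ⟨⟨t, ht⟩, hne⟩ := hS ξ hξ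
    have ht0 : t ≠ 0 := by
      rintro rfl
      rw [mul_zero] at ht
      exact hne ht
    have ht1 : 1 ≤ t ^ 2 := by
      have : 0 < t ^ 2 := by positivity
      linarith
    rw [ht, mul_pow]
    nlinarith [sq_nonneg q]
  have h4 : (S.card : ℤ) * q ^ 2 ≤ ∑ ξ ∈ S, z ξ ^ 2 := by
    have := Finset.card_nsmul_le_sum S (fun ξ => z ξ ^ 2) (q ^ 2) h3
    rw [nsmul_eq_mul] at this
    exact this
  rw [hpars] at h1
  nlinarith [sq_nonneg (N - 2 * z β)]

end Cfsg.Agent.Lib.helper3.Block
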