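import Mathlib
import Cfsg.Prelude.Def_Blocks
import Cfsg.Agent.Lib.helper3.DefOne3

/-!
# The Brauer–Feit complements

A block containing a character of positive height has at most `p^(2d-2)/2` characters; heights
are at most `d - 2` for `d ≥ 2` and zero for `d ≤ 1`.
-/

set_option autoImplicit false
set_option linter.style.haveILetI false
set_option linter.unusedSectionVars false

namespace Cfsg.Agent.Lib.helper3.Block

open Cfsg Cfsg.Agent.Lib.helper3.LocalM Cfsg.Agent.Lib.helper3.Irr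
open Cfsg.Agent.Lib.helper3.CharBasic Cfsg.Agent.Lib.helper3.Lin Cfsg.Agent.Lib.helper3.Central
open Cfsg.Agent.Lib.helper3.IndFun Cfsg.Agent.Lib.helper3.HallNilp Cfsg.Agent.Lib.helper3.BrauerInd
open scoped ComplexConjugate

universe u

variable {G : Type u} [Group G] [Fintype G] {M : Ideal AlgInt}

theorem factorization_degree_le_card (p : ℕ) (χ : IrrCharacter G) :
    (charDegree (χ : G → ℂ)).factorization p ≤ (Nat.card G).factorization p := by
  obtain ⟨d, hd1, hddvd, hdpos⟩ := irr_degree_dvd_card χ.2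
  have hcd : charDegree (χ : G → ℂ) = d := charDegree_eq hd1
  rw [hcd]
  exact (Nat.factorization_le_iff_dvd hdpos.ne' Nat.card_pos.ne').2 hddvd p

theorem brauer_feit_pos_height {p : ℕ} [hp : Fact p.Prime] (hM : IsPModular p M)
    (B : Set (IrrCharacter G)) (hB : IsPBlock M B) (ψ : IrrCharacter G) (hψ : ψ ∈ B)
    (hpos : minExp p B < (charDegree (ψ : G → ℂ)).factorization p) :
    2 * Nat.card B * p ^ (2 * minExp p B + 2) ≤ p ^ (2 * (Nat.card G).factorization p) := by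
  classical
  haveI hMp := isPrime_of_isPModular hM
  obtain ⟨s, hs⟩ : ∃ s : ℕ, s = minExp p B := ⟨_, rfl⟩
  obtain ⟨a, ha⟩ : ∃ a : ℕ, a = (Nat.card G).factorization p := ⟨_, rfl⟩
  obtain ⟨n', hn'⟩ : ∃ n' : ℕ, n' = ordCompl[p] (Nat.card G) := ⟨_, rfl⟩
  rw [← hs, ← ha]
  rw [← hs] at hpos
  have hpn' : ¬ p ∣ n' := by
    rw [hn']
    exact Nat.not_dvd_ordCompl hp.out Nat.card_pos.ne'
  have hn'C : (n' : ℂ) ≠ 0 := by
    rw [hn']
    exact_mod_cast (Nat.ordCompl_pos p Nat.card_pos.ne').ne'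
  have hpZ : Prime (p : ℤ) := Nat.prime_iff_prime_int.mp hp.out
  have hex := fun β : IrrCharacter G => exists_regZ p β
  choose Z hZ1 hZ2 hZ3 using hex
  rw [← hn'] at hZ2
  -- symmetry
  have hsymm : ∀ β ξ : IrrCharacter G, Z β ξ = Z ξ β := by
    intro β ξ
    have h1 := regPair_conj p (β : G → ℂ) (ξ : G → ℂ)
    rw [hZ2 β ξ, hZ2 ξ β, map_mul, map_natCast, map_intCast] at h1
    have h2 := mul_left_cancel₀ hn'C h1
    exact_mod_cast h2
  -- the key fact
  have hkey : ∀ χ ∈ B, (charDegree (χ : G → ℂ)).factorization p = s → ∀ ξ ∈ B,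
      Z χ ξ ≠ 0 ∧ ((p : ℤ) ^ (charDegree (ξ : G → ℂ)).factorization p) ∣ Z χ ξ := by
    intro χ hχ hht ξ hξ
    rw [hs] at hht
    obtain ⟨w, hw, hwp⟩ := exists_unit_quot_of_height_zero hM B hB χ hχ hht n' hn' (Z χ)
      (hZ2 χ) (hZ3 χ) ξ hξ
    constructor
    · intro h0
      rw [h0, mul_zero] at hw
      have hd0 : ((charDegree (ξ : G → ℂ) : ℕ) : ℤ) ≠ 0 := by
        exact_mod_cast charDegree_ne_zero ξ
      rcases mul_eq_zero.mp hw.symm with h1 | h1
      · exact hd0 h1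
      · apply hwp
        rw [h1]
        exact dvd_zero _
    · have h1 : ((p : ℤ) ^ (charDegree (ξ : G → ℂ)).factorization p)
          ∣ (n' : ℤ) * Z χ ξ := by
        rw [hw]
        apply dvd_mul_of_dvd_left
        have := Nat.ordProj_dvd (charDegree (ξ : G → ℂ)) p
        exact_mod_cast Int.natCast_dvd_natCast.mpr this
      have hcop : IsCoprime ((p : ℤ) ^ (charDegree (ξ : G → ℂ)).factorization p) (n' : ℤ) := by
        apply IsCoprime.pow_left
        rw [Prime.coprime_iff_not_dvd hpZ]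
        intro h
        exact hpn' (Int.natCast_dvd_natCast.mp h)
      exact hcop.dvd_of_dvd_mul_left h1
  -- finsets
  obtain ⟨Bf, hBf⟩ : ∃ Bf : Finset (IrrCharacter G), Bf = Finset.univ.filter (fun ξ => ξ ∈ B) :=
    ⟨_, rfl⟩
  have hBfmem : ∀ ξ, ξ ∈ Bf ↔ ξ ∈ B := by
    intro ξ
    rw [hBf, Finset.mem_filter]
    simp
  have hcard : Nat.card B = Bf.card := by
    rw [Nat.card_eq_fintype_card, hBf]
    exact Fintype.card_subtype _
  obtain ⟨B0, hB0⟩ : ∃ B0 : Finset (IrrCharacter G),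
      B0 = Bf.filter (fun ξ : IrrCharacter G => (charDegree (ξ : G → ℂ)).factorization p = s) := ⟨_, rfl⟩
  obtain ⟨Bp, hBp⟩ : ∃ Bp : Finset (IrrCharacter G),
      Bp = Bf.filter (fun ξ : IrrCharacter G => ¬ (charDegree (ξ : G → ℂ)).factorization p = s) := ⟨_, rfl⟩
  have hsplit : B0.card + Bp.card = Bf.card := by
    rw [hB0, hBp]
    exact Finset.card_filter_add_card_filter_not _
  obtain ⟨χ0, hχ0, hχ0s⟩ := exists_minExp (p := p) ⟨ψ, hψ⟩
  rw [← hs] at hχ0s
  have hq : (0 : ℤ) < (p : ℤ) ^ (s + 1) := by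
    apply pow_pos
    exact_mod_cast hp.out.pos
  -- count A
  obtain ⟨parsA, -⟩ := regZ_parseval p χ0 (Z χ0) (hZ1 χ0) (hZ3 χ0)
  have hA := regZ_count _ χ0 (Z χ0) parsA Bp (by
      rw [hBp, Finset.mem_filter]
      intro h
      exact h.2 hχ0s) ((p : ℤ) ^ (s + 1)) hq (by
    intro ξ hξ
    rw [hBp, Finset.mem_filter] at hξ
    have hξB := (hBfmem ξ).1 hξ.1
    obtain ⟨h1, h2⟩ := hkey χ0 hχ0 hχ0s ξ hξB
    refine ⟨dvd_trans (pow_dvd_pow _ ?_) h2, h1⟩
    have := minExp_le (p := p) hξB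
    rw [← hs] at this
    have hne := hξ.2
    omega)
  -- count B
  obtain ⟨parsB, -⟩ := regZ_parseval p ψ (Z ψ) (hZ1 ψ) (hZ3 ψ)
  have hBc := regZ_count _ ψ (Z ψ) parsB B0 (by
      rw [hB0, Finset.mem_filter]
      intro h
      have := h.2
      omega) ((p : ℤ) ^ (s + 1)) hq (by
    intro ξ hξ
    rw [hB0, Finset.mem_filter] at hξ
    have hξB := (hBfmem ξ).1 hξ.1
    obtain ⟨h1, h2⟩ := hkey ξ hξB hξ.2 ψ hψ
    rw [hsymm ψ ξ]
    exact ⟨dvd_trans (pow_dvd_pow _ (by omega)) h2, h1⟩)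
  rw [hcard, ← hsplit]
  have hfin : (2 * ((B0.card + Bp.card : ℕ) : ℤ)) * ((p : ℤ) ^ (s + 1)) ^ 2
      ≤ (((p ^ (Nat.card G).factorization p : ℕ) : ℤ)) ^ 2 := by
    push_cast
    push_cast at hA hBc
    nlinarith
  have e1 : ((p : ℤ) ^ (s + 1)) ^ 2 = ((p ^ (2 * s + 2) : ℕ) : ℤ) := by
    push_cast
    rw [← pow_mul]
    congr 1
    ring
  have e2 : (((p ^ (Nat.card G).factorization p : ℕ) : ℤ)) ^ 2 = ((p ^ (2 * a) : ℕ) : ℤ) := by
    push_cast
    rw [← pow_mul, ha]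
    congr 1
    ring
  rw [e1, e2] at hfin
  exact_mod_cast hfin

theorem height_bounds {p : ℕ} [hp : Fact p.Prime] (hM : IsPModular p M)
    (B : Set (IrrCharacter G)) (hB : IsPBlock M B) (χ : IrrCharacter G) (hχ : χ ∈ B) :
    (blockDefect p B ≤ 1 → blockHeight p B (χ : G → ℂ) = 0) ∧
      (2 ≤ blockDefect p B → blockHeight p B (χ : G → ℂ) ≤ blockDefect p B - 2) := by
  classical
  rw [blockHeight_eq, blockDefect_eq]
  obtain ⟨s, hs⟩ : ∃ s : ℕ, s = minExp p B := ⟨_, rfl⟩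
  obtain ⟨a, ha⟩ : ∃ a : ℕ, a = (Nat.card G).factorization p := ⟨_, rfl⟩
  obtain ⟨v, hv⟩ : ∃ v : ℕ, v = (charDegree (χ : G → ℂ)).factorization p := ⟨_, rfl⟩
  rw [← hs, ← ha, ← hv]
  have hsv : s ≤ v := by
    rw [hs, hv]
    exact minExp_le hχ
  have hva : v ≤ a := by
    rw [hv, ha]
    exact factorization_degree_le_card p χ
  obtain ⟨χ0, hχ0, hχ0s⟩ := exists_minExp (p := p) ⟨χ, hχ⟩
  rw [← hs] at hχ0s
  -- the main fact
  have hmain : a - 1 ≤ v → v = s := by
    intro h1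
    have hdiv : p ^ (a - 1) ∣ charDegree (χ : G → ℂ) :=
      dvd_trans (pow_dvd_pow p (by rw [← hv]; exact h1)) (Nat.ordProj_dvd _ p)
    have h2 := pow_factorization_dvd_degree_of_mem_block hM B hB χ χ0 hχ hχ0 a ha hdiv
    rw [← hv] at h2
    have h3 := (hp.out.pow_dvd_iff_le_factorization (charDegree_ne_zero χ0)).1 h2
    omega
  constructor
  · intro hd
    have := hmain (by omega)
    omega
  · intro hd
    by_contra hcon
    push Not at hcon
    have := hmain (by omega)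
    omega

end Cfsg.Agent.Lib.helper3.Block
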