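import Mathlib
import Cfsg.Prelude.Def_Blocks
import Cfsg.Prelude.Def_BlockRank
import Cfsg.Agent.Lib.helper3.DefOne4
import Cfsg.Agent.Lib.helper3.ProjVanish8

/-!
# `2`-blocks of defect one and two

A `2`-block of defect `d ∈ {1, 2}` has exactly `2 ^ d` irreducible characters.
-/

set_option autoImplicit false
set_option linter.style.haveILetI false
set_option linter.unusedSectionVars false

namespace Cfsg.Agent.Lib.helper3.Block

open Cfsg Cfsg.Agent.Lib.helper3.LocalM Cfsg.Agent.Lib.helper3.Irr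
open Cfsg.Agent.Lib.helper3.CharBasic Cfsg.Agent.Lib.helper3.Lin Cfsg.Agent.Lib.helper3.Central
open Cfsg.Agent.Lib.helper3.IndFun Cfsg.Agent.Lib.helper3.HallNilp Cfsg.Agent.Lib.helper3.BrauerInd
open scoped ComplexConjugate

universe u

/-- A finite family of odd integers whose squares sum to `m ≤ 7` has exactly `m` members. -/
theorem card_of_odd_sq_sum {ι : Type*} (S : Finset ι) (n : ι → ℤ) (hodd : ∀ i ∈ S, Odd (n i))
    (m : ℕ) (hm : m < 8) (hsum : ∑ i ∈ S, n i ^ 2 = (m : ℤ)) : S.card = m := by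
  classical
  have h1 : ∀ i ∈ S, (1 : ℤ) ≤ n i ^ 2 := by
    intro i hi
    obtain ⟨k, hk⟩ := hodd i hi
    rw [hk]
    have h0 : 0 ≤ k * (k + 1) := by
      rcases le_or_gt 0 k with h | h
      · exact mul_nonneg h (by omega)
      · have h' : k + 1 ≤ 0 := by omega
        nlinarith
    nlinarith
  have h2 : (S.card : ℤ) ≤ ∑ i ∈ S, n i ^ 2 := by
    have := Finset.card_nsmul_le_sum S (fun i => n i ^ 2) 1 h1
    simpa using this
  have h3 : ∀ i ∈ S, n i ^ 2 % 8 = 1 := by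
    intro i hi
    obtain ⟨k, hk⟩ := hodd i hi
    rw [hk]
    have : (2 * k + 1) ^ 2 = 4 * (k * (k + 1)) + 1 := by ring
    rw [this]
    obtain ⟨j, hj⟩ : (2 : ℤ) ∣ k * (k + 1) := by
      rcases Int.even_or_odd k with ⟨t, ht⟩ | ⟨t, ht⟩
      · exact ⟨t * (k + 1), by rw [ht]; ring⟩
      · exact ⟨k * (t + 1), by rw [ht]; ring⟩
    rw [hj]
    omega
  have h4 : (∑ i ∈ S, n i ^ 2) % 8 = (S.card : ℤ) % 8 := by
    rw [Finset.sum_int_mod]
    rw [Finset.sum_congr rfl h3]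
    simp
  rw [hsum] at h2 h4
  omega

variable {G : Type u} [Group G] [Fintype G] {M : Ideal AlgInt}

/-- The odd integer coefficients `n ξ = 2^d m_{χξ}` for a `2`-block of defect `d ≤ 2`. -/
theorem exists_odd_coeffs (hM : IsPModular 2 M) (B : Set (IrrCharacter G)) (hB : IsPBlock M B)
    (d : ℕ) (hd : blockDefect 2 B = d) (hd2 : d ≤ 2) (χ : IrrCharacter G) (hχ : χ ∈ B) :
    ∃ n : IrrCharacter G → ℤ, (∀ ξ ∈ B, Odd (n ξ)) ∧ (∀ ξ, ξ ∉ B → n ξ = 0) ∧ 0 < n χ ∧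
      ∑ ξ : IrrCharacter G, n ξ ^ 2 = 2 ^ d * n χ ∧
      (∀ ξ : IrrCharacter G, regPair 2 (χ : G → ℂ) (ξ : G → ℂ) * (2 : ℂ) ^ d
        = (Nat.card G : ℂ) * (n ξ : ℂ)) := by
  classical
  haveI hp : Fact (Nat.Prime 2) := ⟨Nat.prime_two⟩
  haveI hMp := isPrime_of_isPModular hM
  have hMtop : M ≠ ⊤ := hM.2.1.ne_top
  obtain ⟨s, hs⟩ : ∃ s : ℕ, s = minExp 2 B := ⟨_, rfl⟩
  obtain ⟨a, ha⟩ : ∃ a : ℕ, a = (Nat.card G).factorization 2 := ⟨_, rfl⟩
  obtain ⟨n', hn'⟩ : ∃ n' : ℕ, n' = ordCompl[2] (Nat.card G) := ⟨_, rfl⟩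
  have hsa : s ≤ a := by
    rw [hs, ha]
    exact minExp_le_factorization_card hχ
  rw [blockDefect_eq, ← hs, ← ha] at hd
  have hn'odd : ¬ 2 ∣ n' := by
    rw [hn']
    exact Nat.not_dvd_ordCompl Nat.prime_two Nat.card_pos.ne'
  have hn'C : (n' : ℂ) ≠ 0 := by
    rw [hn']
    exact_mod_cast (Nat.ordCompl_pos 2 Nat.card_pos.ne').ne'
  -- all heights vanish
  have hfact : ∀ ξ ∈ B, (charDegree (ξ : G → ℂ)).factorization 2 = s := by
    intro ξ hξ
    have h1 := height_bounds hM B hB ξ hξ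
    rw [blockHeight_eq, blockDefect_eq, ← hs, ← ha, hd] at h1
    have h2 : s ≤ (charDegree (ξ : G → ℂ)).factorization 2 := by
      rw [hs]; exact minExp_le hξ
    rcases Nat.lt_or_ge d 2 with h3 | h3
    · have := h1.1 (by omega)
      omega
    · have := h1.2 h3
      omega
  obtain ⟨Z, hZ1, hZ2, hZ3⟩ := exists_regZ 2 χ
  rw [← hn'] at hZ2
  have hunit := exists_unit_quot_of_height_zero hM B hB χ hχ (by rw [← hs]; exact hfact χ hχ)
    n' hn' Z hZ2 hZ3
  have hBχ : B = blockOf M (χ : G → ℂ) :=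
    block_eq_of_mem hB ⟨χ, rfl⟩ χ hχ (sameBlock_refl hMtop _)
  have hZ0 : ∀ ξ : IrrCharacter G, ξ ∉ B → Z ξ = 0 := by
    intro ξ hξ
    apply regZ_eq_zero hM χ ξ _ (Z ξ)
    · rw [← hn']; exact hZ2 ξ
    · intro hsame
      apply hξ
      rw [hBχ]
      exact hsame
  have hdiv : ∀ ξ : IrrCharacter G, ∃ m : ℤ, Z ξ = 2 ^ s * m ∧ (ξ ∈ B → Odd m) := by
    intro ξ
    by_cases hξ : ξ ∈ B
    · obtain ⟨w, hw, hwodd⟩ := hunit ξ hξ
      obtain ⟨o, ho⟩ : 2 ^ s ∣ charDegree (ξ : G → ℂ) := by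
        rw [← hfact ξ hξ]
        exact Nat.ordProj_dvd _ 2
      have hoodd : ¬ 2 ∣ o := by
        intro h2
        have h3 : 2 ^ (s + 1) ∣ charDegree (ξ : G → ℂ) := by
          rw [ho, pow_succ]
          exact Nat.mul_dvd_mul_left _ h2
        have h4 := (Nat.prime_two.pow_dvd_iff_le_factorization (charDegree_ne_zero ξ)).1 h3
        rw [hfact ξ hξ] at h4
        omega
      rw [ho] at hw
      push_cast at hw
      have h1 : ((2 : ℤ) ^ s) ∣ (n' : ℤ) * Z ξ := ⟨(o : ℤ) * w, by rw [hw]; ring⟩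
      have hcop : IsCoprime ((2 : ℤ) ^ s) (n' : ℤ) := by
        apply IsCoprime.pow_left
        rw [Prime.coprime_iff_not_dvd Int.prime_two]
        intro h
        exact hn'odd (by exact_mod_cast h)
      obtain ⟨m, hm⟩ := hcop.dvd_of_dvd_mul_left h1
      refine ⟨m, hm, fun _ => ?_⟩
      rw [hm] at hw
      have h2s : ((2 : ℤ) ^ s) ≠ 0 := pow_ne_zero _ (by norm_num)
      have h5 : (n' : ℤ) * m = (o : ℤ) * w := by
        apply mul_left_cancel₀ h2s
        linear_combination hw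
      rw [← Int.not_even_iff_odd]
      intro hev
      have h6 : (2 : ℤ) ∣ (o : ℤ) * w := by
        rw [← h5]
        exact dvd_mul_of_dvd_right (even_iff_two_dvd.mp hev) _
      rcases Int.prime_two.dvd_or_dvd h6 with h7 | h7
      · exact hoodd (by exact_mod_cast h7)
      · exact hwodd (by exact_mod_cast h7)
    · refine ⟨0, ?_, fun h => absurd h hξ⟩
      rw [hZ0 ξ hξ, mul_zero]
  choose n hn hnodd using hdiv
  obtain ⟨pars, hpos⟩ := regZ_parseval 2 χ Z hZ1 hZ3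
  have h2s : ((2 : ℤ) ^ s) ≠ 0 := pow_ne_zero _ (by norm_num)
  have h2spos : (0 : ℤ) < (2 : ℤ) ^ s := by positivity
  refine ⟨n, fun ξ hξ => hnodd ξ hξ, ?_, ?_, ?_, ?_⟩
  · intro ξ hξ
    have h1 := hn ξ
    rw [hZ0 ξ hξ] at h1
    rcases mul_eq_zero.mp h1.symm with h2 | h2
    · exact absurd h2 h2s
    · exact h2
  · rw [hn χ] at hpos
    by_contra hcon
    push Not at hcon
    have := mul_nonpos_of_nonneg_of_nonpos h2spos.le hcon
    linarith
  · have h1 : ∑ ξ : IrrCharacter G, Z ξ ^ 2 = (2 ^ s) ^ 2 * ∑ ξ : IrrCharacter G, n ξ ^ 2 := by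
      rw [Finset.mul_sum]
      apply Finset.sum_congr rfl
      intro ξ _
      rw [hn ξ]
      ring
    rw [h1, hn χ, ← ha] at pars
    have h2 : ((2 ^ a : ℕ) : ℤ) = (2 : ℤ) ^ s * 2 ^ d := by
      push_cast
      rw [← pow_add]
      congr 1
      omega
    rw [h2] at pars
    have h3 : ((2 : ℤ) ^ s) ^ 2 ≠ 0 := pow_ne_zero _ h2s
    apply mul_left_cancel₀ h3
    linear_combination pars
  · intro ξ
    rw [hZ2 ξ, hn ξ]
    have hG : (Nat.card G : ℂ) = (2 : ℂ) ^ a * (n' : ℂ) := by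
      rw [ha, hn']
      have := Nat.ordProj_mul_ordCompl_eq_self (Nat.card G) 2
      exact_mod_cast this.symm
    rw [hG]
    have h2 : (2 : ℂ) ^ a = (2 : ℂ) ^ s * 2 ^ d := by
      rw [← pow_add]
      congr 1
      omega
    rw [h2]
    push_cast
    ring

end Cfsg.Agent.Lib.helper3.Block
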