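import Mathlib
import Cfsg.Prelude.Def_Blocks
import Cfsg.Prelude.Def_BlockRank
import Cfsg.Agent.Lib.helper3.TwoSmall1

/-!
# `2`-blocks of defect one and two: the counts
-/

set_option autoImplicit false
set_option linter.style.haveILetI false
set_option linter.unusedSectionVars false

namespace Cfsg.Agent.Lib.helper3.Block

open Cfsg Cfsg.Agent.Lib.helper3.LocalM Cfsg.Agent.Lib.helper3.Irr
open Cfsg.Agent.Lib.helper3.CharBasic Cfsg.Agent.Lib.helper3.Lin Cfsg.Agent.Lib.helper3.Central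
open Cfsg.Agent.Lib.helper3.IndFun Cfsg.Agent.Lib.helper3.HallNilp Cfsg.Agent.Lib.helper3.BrauerInd
open scoped ComplexConjugate

universe u

variable {G : Type u} [Group G] [Fintype G] {M : Ideal AlgInt}

/-- A `2`-block of defect `d ∈ {1, 2}` has exactly `2 ^ d` irreducible characters; moreover the
coefficients `n ξ` of any base `χ` are `± 1` off `χ`. -/
theorem card_block_two (hM : IsPModular 2 M) (B : Set (IrrCharacter G)) (hB : IsPBlock M B)
    (d : ℕ) (hd : blockDefect 2 B = d) (hd1 : 1 ≤ d) (hd2 : d ≤ 2) : Nat.card B = 2 ^ d := by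
  classical
  obtain ⟨χ₀, rfl⟩ := hB
  haveI hMp := isPrime_of_isPModular hM
  have hMtop : M ≠ ⊤ := hM.2.1.ne_top
  have hχ : χ₀ ∈ blockOf M (χ₀ : G → ℂ) := sameBlock_refl hMtop _
  obtain ⟨n, hodd, hzero, hpos, hsum, -⟩ :=
    exists_odd_coeffs hM _ ⟨χ₀, rfl⟩ d hd hd2 χ₀ hχ
  obtain ⟨Bf, hBf⟩ : ∃ Bf : Finset (IrrCharacter G),
      Bf = Finset.univ.filter (fun ξ => ξ ∈ blockOf M (χ₀ : G → ℂ)) := ⟨_, rfl⟩
  have hBfmem : ∀ ξ, ξ ∈ Bf ↔ ξ ∈ blockOf M (χ₀ : G → ℂ) := by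
    intro ξ
    rw [hBf, Finset.mem_filter]
    simp
  have hcard : Nat.card (blockOf M (χ₀ : G → ℂ)) = Bf.card := by
    rw [Nat.card_eq_fintype_card, hBf]
    exact Fintype.card_subtype _
  have hsumB : ∑ ξ ∈ Bf, n ξ ^ 2 = 2 ^ d * n χ₀ := by
    rw [← hsum]
    apply Finset.sum_subset (Finset.subset_univ _)
    intro ξ _ hξ
    rw [hzero ξ (fun h => hξ ((hBfmem ξ).2 h))]
    ring
  have hχBf : χ₀ ∈ Bf := (hBfmem χ₀).2 hχ
  have herase : ∑ ξ ∈ Bf.erase χ₀, n ξ ^ 2 = 2 ^ d * n χ₀ - n χ₀ ^ 2 := by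
    rw [← hsumB, ← Finset.add_sum_erase Bf _ hχBf]
    ring
  have hoddχ := hodd χ₀ hχ
  have herase_nonneg : 0 ≤ ∑ ξ ∈ Bf.erase χ₀, n ξ ^ 2 :=
    Finset.sum_nonneg (fun ξ _ => sq_nonneg _)
  have hcardB : Bf.card = (Bf.erase χ₀).card + 1 := by
    rw [Finset.card_erase_of_mem hχBf]
    have : 0 < Bf.card := Finset.card_pos.mpr ⟨χ₀, hχBf⟩
    omega
  have hodd' : ∀ ξ ∈ Bf.erase χ₀, Odd (n ξ) := by
    intro ξ hξ
    exact hodd ξ ((hBfmem ξ).1 (Finset.mem_of_mem_erase hξ))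
  rw [hcard, hcardB]
  obtain ⟨k, hk⟩ := hoddχ
  rcases Nat.lt_or_ge d 2 with h2 | h2
  · have hd' : d = 1 := by omega
    subst hd'
    rw [pow_one] at herase
    have hn1 : n χ₀ = 1 := by
      rw [herase] at herase_nonneg
      have h2' : n χ₀ ≤ 2 := by nlinarith
      omega
    rw [hn1] at herase
    have := card_of_odd_sq_sum (Bf.erase χ₀) n hodd' 1 (by norm_num) (by rw [herase]; norm_num)
    rw [this]
    norm_num
  · have hd' : d = 2 := by omega
    subst hd'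
    have hn13 : n χ₀ = 1 ∨ n χ₀ = 3 := by
      rw [herase] at herase_nonneg
      have h4 : n χ₀ ≤ 4 := by nlinarith
      omega
    have h3 : ∑ ξ ∈ Bf.erase χ₀, n ξ ^ 2 = ((3 : ℕ) : ℤ) := by
      rw [herase]
      rcases hn13 with h | h <;> rw [h] <;> norm_num
    have := card_of_odd_sq_sum (Bf.erase χ₀) n hodd' 3 (by norm_num) h3
    rw [this]
    norm_num

/-- A `2`-block of defect one has `2`-regular rank one. -/
theorem blockRank_two_defect_one (hM : IsPModular 2 M) (B : Set (IrrCharacter G))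
    (hB : IsPBlock M B) (hd : blockDefect 2 B = 1) : blockRank 2 B = 1 := by
  classical
  haveI hMp := isPrime_of_isPModular hM
  have hMtop : M ≠ ⊤ := hM.2.1.ne_top
  have hcard := card_block_two hM B hB 1 hd le_rfl (by norm_num)
  have hBcl : ∀ θ ∈ B, blockOf M (θ : G → ℂ) ⊆ B := by
    intro θ hθ
    rw [← block_eq_of_mem hB ⟨θ, rfl⟩ θ hθ (sameBlock_refl hMtop _)]
  have hrank := blockRank_eq_sum (p := 2) hM B hBcl
  have hterm : ∀ χ : IrrCharacter G, χ ∈ B →
      classInner (truncReg 2 (χ : G → ℂ)) (χ : G → ℂ) = 1 / 2 := by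
    intro χ hχ
    obtain ⟨n, hodd, hzero, hpos, hsum, hreg⟩ :=
      exists_odd_coeffs hM B hB 1 hd (by norm_num) χ hχ
    have hn1 : n χ = 1 := by
      have h1 : n χ ^ 2 ≤ ∑ ξ : IrrCharacter G, n ξ ^ 2 :=
        Finset.single_le_sum (f := fun ξ => n ξ ^ 2) (fun ξ _ => sq_nonneg _)
          (Finset.mem_univ χ)
      rw [hsum, pow_one] at h1
      obtain ⟨k, hk⟩ := hodd χ hχ
      have h2 : n χ ≤ 2 := by nlinarith
      omega
    have h1 := hreg χ
    rw [hn1, pow_one] at h1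
    have hGC : (Nat.card G : ℂ) ≠ 0 := card_ne_zero_complex G
    rw [classInner_apply]
    have h2 : ∑ g : G, truncReg 2 (χ : G → ℂ) g * conj ((χ : G → ℂ) g)
        = regPair 2 (χ : G → ℂ) (χ : G → ℂ) := by
      unfold regPair
      apply Finset.sum_congr rfl
      intro g _
      rw [truncReg_apply]
      by_cases hg : 2 ∣ orderOf g
      · rw [if_pos hg, if_pos hg, zero_mul, zero_mul]
      · rw [if_neg hg, if_neg hg, one_mul]
    rw [h2]
    have h3 : regPair 2 (χ : G → ℂ) (χ : G → ℂ) = (Nat.card G : ℂ) / 2 := by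
      push_cast at h1
      field_simp
      linear_combination h1
    rw [h3]
    field_simp
  have h4 : (blockRank 2 B : ℂ) = ((Nat.card B : ℕ) : ℂ) * (1 / 2) := by
    rw [hrank]
    have h5 : ∀ χ : IrrCharacter G, (if χ ∈ B then (1 : ℂ) else 0)
        * classInner (truncReg 2 (χ : G → ℂ)) (χ : G → ℂ)
        = (if χ ∈ B then (1 : ℂ) else 0) * (1 / 2) := by
      intro χ
      by_cases h : χ ∈ B
      · rw [hterm χ h]
      · rw [if_neg h, zero_mul, zero_mul]
    rw [Finset.sum_congr rfl (fun χ _ => h5 χ), ← Finset.sum_mul]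
    congr 1
    rw [Nat.card_eq_fintype_card, Fintype.card_subtype, Finset.sum_boole]
  rw [hcard] at h4
  have h6 : (blockRank 2 B : ℂ) = ((1 : ℕ) : ℂ) := by
    rw [h4]
    norm_num
  exact_mod_cast h6

end Cfsg.Agent.Lib.helper3.Block
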