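import Mathlib
import Cfsg.Prelude.Def_Blocks
import Cfsg.Prelude.Def_BlockRank
import Cfsg.Prelude.Def_Transfer
import Cfsg.Agent.Lib.helper3.TwoSmall2
import Cfsg.Agent.Lib.helper3.PrincQuot3
import Cfsg.Agent.Lib.helper3.PrincRank
import Cfsg.Agent.Lib.helper3.KleinOne1

/-!
# Groups of `2`-rank two order with a central involution are `2`-nilpotent (via blocks)
-/

set_option autoImplicit false
set_option linter.style.haveILetI false
set_option linter.unusedSectionVars false

namespace Cfsg.Agent.Lib.helper3.Block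

open Cfsg Cfsg.Agent.Lib.helper3.LocalM Cfsg.Agent.Lib.helper3.Irr
open Cfsg.Agent.Lib.helper3.CharBasic Cfsg.Agent.Lib.helper3.Lin Cfsg.Agent.Lib.helper3.Central
open Cfsg.Agent.Lib.helper3.IndFun
open scoped ComplexConjugate

universe u

variable {G : Type u} [Group G] [Fintype G] {M : Ideal AlgInt}

theorem minExp_principal (p : ℕ) (hM : M ≠ ⊤) : minExp p (principalBlock M G) = 0 := by
  have h1 : Cfsg.Agent.Lib.helper3.PrincOnly.one G ∈ principalBlock M G :=
    sameBlock_refl hM _
  have h2 := minExp_le (p := p) h1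
  have h3 : charDegree ((Cfsg.Agent.Lib.helper3.PrincOnly.one G : IrrCharacter G) : G → ℂ) = 1 := by
    apply charDegree_eq
    show (1 : ℂ) = ((1 : ℕ) : ℂ)
    norm_num
  rw [h3] at h2
  simpa using h2

theorem blockDefect_principal (p : ℕ) (hM : M ≠ ⊤) :
    blockDefect p (principalBlock M G) = (Nat.card G).factorization p := by
  rw [blockDefect_eq, minExp_principal p hM]
  rfl

/-- A finite group whose order has `2`-part `4` and which has a central involution has a normal
`2`-complement. -/
theorem hasNormalPComplement_of_central_involution (hM : IsPModular 2 M) (z : G)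
    (hz : orderOf z = 2) (hzc : ∀ g : G, g * z = z * g)
    (hfac : (Nat.card G).factorization 2 = 2) : HasNormalPComplement 2 G := by
  classical
  haveI hp : Fact (Nat.Prime 2) := ⟨Nat.prime_two⟩
  haveI hMp := isPrime_of_isPModular hM
  have hMtop : M ≠ ⊤ := hM.2.1.ne_top
  obtain ⟨Q, hQdef⟩ : ∃ Q : Subgroup G, Q = Subgroup.zpowers z := ⟨_, rfl⟩
  have hQc : ∀ n ∈ Q, ∀ g : G, g * n = n * g := by
    intro n hn g
    rw [hQdef] at hn
    obtain ⟨k, rfl⟩ := Subgroup.mem_zpowers_iff.mp hn
    exact ((Commute.zpow_right (hzc g) k)).eq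
  haveI hQn : Q.Normal := by
    constructor
    intro n hn g
    rw [hQc n hn g, mul_inv_cancel_right]
    exact hn
  have hQcard : Nat.card Q = 2 := by
    rw [hQdef, Nat.card_zpowers, hz]
  have hQp : IsPGroup 2 Q := by
    apply IsPGroup.of_card (n := 1)
    rw [hQcard, pow_one]
  have hsup : Q ⊔ Subgroup.centralizer (Q : Set G) = ⊤ := by
    have : Subgroup.centralizer (Q : Set G) = ⊤ := by
      rw [eq_top_iff]
      intro g _
      rw [Subgroup.mem_centralizer_iff]
      intro n hn
      exact (hQc n hn g).symm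
    rw [this, sup_top_eq]
  have h1 := blockRank_principal_quot hM Q hQp hsup
  haveI : Fintype (G ⧸ Q) := Fintype.ofFinite _
  have hfacq : (Nat.card (G ⧸ Q)).factorization 2 = 1 := by
    have h2 := Subgroup.card_eq_card_quotient_mul_card_subgroup Q
    rw [hQcard] at h2
    have h3 : (Nat.card G).factorization 2 = (Nat.card (G ⧸ Q)).factorization 2 + 1 := by
      rw [h2, Nat.factorization_mul Nat.card_pos.ne' (by norm_num)]
      simp [Nat.prime_two.factorization_self]
    omega
  have h4 : blockDefect 2 (principalBlock M (G ⧸ Q)) = 1 := by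
    rw [blockDefect_principal 2 hMtop, hfacq]
  have h5 := blockRank_two_defect_one hM (principalBlock M (G ⧸ Q))
    ⟨Cfsg.Agent.Lib.helper3.PrincOnly.one _, rfl⟩ h4
  rw [h5] at h1
  exact (blockRank_principal_eq_one_iff hM).1 h1

/-- The normal `2`-complement in explicit form. -/
theorem exists_normal_complement_of_central_involution (hM : IsPModular 2 M) (z : G)
    (hz : orderOf z = 2) (hzc : ∀ g : G, g * z = z * g)
    (hfac : (Nat.card G).factorization 2 = 2) :
    ∃ K : Subgroup G, K.Normal ∧ (Nat.card K).Coprime 2 ∧ K.index = 2 ^ 2 := by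
  haveI hp : Fact (Nat.Prime 2) := ⟨Nat.prime_two⟩
  obtain ⟨S, N, hN, hc⟩ := hasNormalPComplement_of_central_involution hM z hz hzc hfac
  refine ⟨N, hN, ?_, ?_⟩
  · have h1 : (S : Subgroup G).index = Nat.card N := hc.index_eq_card
    rw [← h1]
    exact (Nat.Prime.coprime_iff_not_dvd Nat.prime_two).2 S.not_dvd_index |>.symm
  · rw [hc.symm.index_eq_card, Sylow.card_eq_multiplicity S, hfac]

end Cfsg.Agent.Lib.helper3.Block
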