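import Mathlib
import Cfsg.Prelude.Def_Blocks
import Cfsg.Prelude.Def_BlockRank
import Cfsg.Agent.Lib.helper3.ProjVanish8
import Cfsg.Agent.Lib.helper3.DefectZero
import Cfsg.Agent.Lib.helper3.DefectOrder
import Cfsg.Agent.Lib.helper3.Degrees

/-!
# The `p`-regular rank of a block and blocks of defect zero
-/

set_option autoImplicit false
set_option linter.style.haveILetI false
set_option linter.unusedSectionVars false

namespace Cfsg.Agent.Lib.helper3.Block

open Cfsg Cfsg.Agent.Lib.helper3.LocalM Cfsg.Agent.Lib.helper3.CharBasic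
open Cfsg.Agent.Lib.helper3.Irr Cfsg.Agent.Lib.helper3.IndFun
open scoped ComplexConjugate

variable {G : Type*} [Group G] [Fintype G] {M : Ideal AlgInt}

open Classical in
/-- The normalized sum of the squared absolute values over the `p`-singular elements. -/
noncomputable def singNorm (p : ℕ) (χ : G → ℂ) : ℝ :=
  (Nat.card G : ℝ)⁻¹ * ∑ g : G, (if p ∣ orderOf g then Complex.normSq (χ g) else 0)

theorem singNorm_nonneg (p : ℕ) (χ : G → ℂ) : 0 ≤ singNorm p χ := by
  classical
  unfold singNorm
  apply mul_nonneg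
  · exact inv_nonneg.mpr (Nat.cast_nonneg _)
  · apply Finset.sum_nonneg
    intro g _
    split_ifs
    · exact Complex.normSq_nonneg _
    · exact le_refl _

theorem singNorm_eq_zero_iff (p : ℕ) (χ : G → ℂ) :
    singNorm p χ = 0 ↔ ∀ g : G, p ∣ orderOf g → χ g = 0 := by
  classical
  have hG0 : (Nat.card G : ℝ)⁻¹ ≠ 0 := by
    apply inv_ne_zero
    exact_mod_cast Nat.card_pos.ne'
  unfold singNorm
  rw [mul_eq_zero, or_iff_right hG0, Finset.sum_eq_zero_iff_of_nonneg]
  · constructor
    · intro h g hg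
      have := h g (Finset.mem_univ g)
      rw [if_pos hg] at this
      exact Complex.normSq_eq_zero.mp this
    · intro h g _
      split_ifs with hg
      · rw [h g hg, map_zero]
      · rfl
  · intro g _
    split_ifs
    · exact Complex.normSq_nonneg _
    · exact le_refl _

theorem one_sub_classInner_truncReg (p : ℕ) (χ : IrrCharacter G) :
    1 - classInner (truncReg p (χ : G → ℂ)) (χ : G → ℂ) = (singNorm p (χ : G → ℂ) : ℂ) := by
  classical
  rw [← irr_classInner_self χ.2, classInner_apply, classInner_apply, ← mul_sub,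
    ← Finset.sum_sub_distrib]
  unfold singNorm
  push_cast
  congr 1
  apply Finset.sum_congr rfl
  intro g _
  rw [truncReg_apply]
  split_ifs with hg
  · rw [zero_mul, zero_mul, sub_zero, Complex.mul_conj]
  · rw [one_mul, sub_self]
    simp

open Classical in
theorem card_sub_blockRank {p : ℕ} (hM : IsPModular p M) (B : Set (IrrCharacter G))
    (hB : ∀ θ ∈ B, blockOf M (θ : G → ℂ) ⊆ B) :
    (Nat.card B : ℂ) - (blockRank p B : ℂ) =
      ((∑ χ : IrrCharacter G, (if χ ∈ B then singNorm p (χ : G → ℂ) else 0) : ℝ) : ℂ) := by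
  rw [blockRank_eq_sum hM B hB]
  have h1 : (Nat.card B : ℂ) = ∑ χ : IrrCharacter G, (if χ ∈ B then (1 : ℂ) else 0) := by
    rw [Nat.card_eq_fintype_card, Fintype.card_subtype, Finset.sum_boole]
  rw [h1, ← Finset.sum_sub_distrib]
  push_cast
  apply Finset.sum_congr rfl
  intro χ _
  split_ifs with h
  · rw [one_mul, one_sub_classInner_truncReg]
  · rw [zero_mul, sub_zero]
    simp

open Classical in
theorem blockRank_le_card {p : ℕ} (hM : IsPModular p M) (B : Set (IrrCharacter G))
    (hB : ∀ θ ∈ B, blockOf M (θ : G → ℂ) ⊆ B) : blockRank p B ≤ Nat.card B := by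
  have h1 := card_sub_blockRank hM B hB
  have h2 : (0 : ℝ) ≤ ∑ χ : IrrCharacter G, (if χ ∈ B then singNorm p (χ : G → ℂ) else 0) := by
    apply Finset.sum_nonneg
    intro χ _
    split_ifs
    · exact singNorm_nonneg p _
    · exact le_refl _
  have h3 : ((Nat.card B : ℝ) - (blockRank p B : ℝ) : ℂ) =
      ((∑ χ : IrrCharacter G, (if χ ∈ B then singNorm p (χ : G → ℂ) else 0) : ℝ) : ℂ) := by
    rw [← h1]
    push_cast
    rfl
  have h4 : (Nat.card B : ℝ) - (blockRank p B : ℝ) =
      ∑ χ : IrrCharacter G, (if χ ∈ B then singNorm p (χ : G → ℂ) else 0) := by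
    exact_mod_cast h3
  have h5 : (blockRank p B : ℝ) ≤ (Nat.card B : ℝ) := by linarith
  exact_mod_cast h5

open Classical in
theorem card_eq_blockRank_iff {p : ℕ} (hM : IsPModular p M) (B : Set (IrrCharacter G))
    (hB : ∀ θ ∈ B, blockOf M (θ : G → ℂ) ⊆ B) :
    Nat.card B = blockRank p B ↔ ∀ χ ∈ B, ∀ g : G, p ∣ orderOf g → (χ : G → ℂ) g = 0 := by
  have h1 := card_sub_blockRank hM B hB
  have h3 : ((Nat.card B : ℝ) - (blockRank p B : ℝ) : ℂ) =
      ((∑ χ : IrrCharacter G, (if χ ∈ B then singNorm p (χ : G → ℂ) else 0) : ℝ) : ℂ) := by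
    rw [← h1]
    push_cast
    rfl
  have h4 : (Nat.card B : ℝ) - (blockRank p B : ℝ) =
      ∑ χ : IrrCharacter G, (if χ ∈ B then singNorm p (χ : G → ℂ) else 0) := by
    exact_mod_cast h3
  have hnn : ∀ χ ∈ (Finset.univ : Finset (IrrCharacter G)),
      (0 : ℝ) ≤ (if χ ∈ B then singNorm p (χ : G → ℂ) else 0) := by
    intro χ _
    split_ifs
    · exact singNorm_nonneg p _
    · exact le_refl _
  constructor
  · intro h χ hχ
    have h5 : ∑ χ : IrrCharacter G, (if χ ∈ B then singNorm p (χ : G → ℂ) else 0) = 0 := by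
      rw [← h4, h, sub_self]
    rw [Finset.sum_eq_zero_iff_of_nonneg hnn] at h5
    have h6 := h5 χ (Finset.mem_univ χ)
    rw [if_pos hχ] at h6
    exact (singNorm_eq_zero_iff p _).mp h6
  · intro h
    have h5 : ∑ χ : IrrCharacter G, (if χ ∈ B then singNorm p (χ : G → ℂ) else 0) = 0 := by
      apply Finset.sum_eq_zero
      intro χ _
      split_ifs with hχ
      · exact (singNorm_eq_zero_iff p _).mpr (h χ hχ)
      · rfl
    rw [h5] at h4
    have h6 : (Nat.card B : ℝ) = (blockRank p B : ℝ) := by linarith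
    exact_mod_cast h6

end Cfsg.Agent.Lib.helper3.Block
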