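import Mathlib
import Cfsg.Prelude.Def_Blocks
import Cfsg.Prelude.Def_BlockRank
import Cfsg.Agent.Lib.helper3.KleinOne2
import Cfsg.Agent.Lib.helper3.PrincSection2
import Cfsg.Agent.Lib.helper3.SectionSum
import Cfsg.Agent.Lib.helper3.RankDefect

/-!
# The principal `2`-block of a group with Klein four Sylow `2`-subgroup and one class of
involutions
-/

set_option autoImplicit false
set_option linter.style.haveILetI false
set_option linter.unusedSectionVars false

namespace Cfsg.Agent.Lib.helper3.Block

open Cfsg Cfsg.Agent.Lib.helper3.LocalM Cfsg.Agent.Lib.helper3.Irr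
open Cfsg.Agent.Lib.helper3.CharBasic Cfsg.Agent.Lib.helper3.Lin Cfsg.Agent.Lib.helper3.Central
open Cfsg.Agent.Lib.helper3.IndFun Cfsg.Agent.Lib.helper3.Klein
open scoped ComplexConjugate

universe u

variable {G : Type u} [Group G] [Fintype G] {M : Ideal AlgInt}

/-- The `p`-regular elements of a group with normal `p`-complement `K`. -/
theorem mem_normal_complement_iff {p : ℕ} (hp : p.Prime) (K : Subgroup G) [hK : K.Normal]
    (hKp : (Nat.card K).Coprime p) (k : ℕ) (hidx : K.index = p ^ k) (g : G) :
    ¬ p ∣ orderOf g ↔ g ∈ K := by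
  have hpK : ¬ p ∣ Nat.card K := by
    intro h
    exact hp.one_lt.ne' (Nat.Coprime.eq_one_of_dvd hKp.symm h)
  constructor
  · intro hg
    have h1 : g ^ (p ^ k) ∈ K := by
      rw [← hidx, ← QuotientGroup.eq_one_iff, QuotientGroup.mk_pow]
      have : Nat.card (G ⧸ K) = K.index := rfl
      rw [← this]
      exact pow_card_eq_one'
    have hcop : IsCoprime ((p ^ k : ℕ) : ℤ) (orderOf g : ℤ) :=
      Nat.isCoprime_iff_coprime.mpr
        (Nat.Coprime.pow_left k ((Nat.Prime.coprime_iff_not_dvd hp).mpr hg))
    obtain ⟨u, v, huv⟩ := hcop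
    have h2 : g = (g ^ (p ^ k)) ^ u := by
      have : g ^ (u * ((p ^ k : ℕ) : ℤ) + v * (orderOf g : ℤ)) = g := by rw [huv, zpow_one]
      rw [zpow_add, mul_comm u, zpow_mul, zpow_natCast, mul_comm v, zpow_mul, zpow_natCast,
        pow_orderOf_eq_one, one_zpow, mul_one] at this
      exact this.symm
    rw [h2]
    exact K.zpow_mem h1 u
  · intro hg h
    exact hpK (dvd_trans h (Subgroup.orderOf_dvd_natCard K hg))

/-- The number of irreducible characters in the principal `2`-block is four. -/
theorem card_principalBlock_klein (hM : IsPModular 2 M) (P : Sylow 2 G) (hP : Nat.card P = 4) :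
    Nat.card (principalBlock M G) = 4 := by
  have hMtop : M ≠ ⊤ := hM.2.1.ne_top
  have h1 : blockDefect 2 (principalBlock M G) = 2 := by
    rw [blockDefect_principal 2 hMtop, factorization_two P hP]
  have := card_block_two hM (principalBlock M G) ⟨Cfsg.Agent.Lib.helper3.PrincOnly.one G, rfl⟩
    2 h1 (by norm_num) le_rfl
  rw [this]
  norm_num

open Classical in
/-- The sum of `|ζ (t y)|²` over the principal block, `t` an involution and `y` of odd order in
its centralizer, is four. -/
theorem sum_principal_sq_involution (hM : IsPModular 2 M) (P : Sylow 2 G) (hP : Nat.card P = 4)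
    (hexp : ∀ x : P, x * x = 1) (t : G) (ht : orderOf t = 2)
    (y : Subgroup.centralizer ({t} : Set G)) (hy : ¬ 2 ∣ orderOf y) :
    ∑ ζ : IrrCharacter G, (if ζ ∈ principalBlock M G then (1 : ℂ) else 0)
        * ((ζ : G → ℂ) (t * (y : G)) * conj ((ζ : G → ℂ) (t * (y : G)))) = 4 := by
  haveI hp : Fact (Nat.Prime 2) := ⟨Nat.prime_two⟩
  haveI : Fintype (Subgroup.centralizer ({t} : Set G)) := Fintype.ofFinite _
  have htC : t ∈ Subgroup.centralizer ({t} : Set G) :=
    Subgroup.mem_centralizer_singleton_iff.mpr rfl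
  obtain ⟨K, hKn, hKp, hidx⟩ := exists_normal_complement_of_central_involution
    (G := Subgroup.centralizer ({t} : Set G)) hM ⟨t, htC⟩
    (by rw [Subgroup.orderOf_mk]; exact ht)
    (by
      intro g
      apply Subtype.ext
      push_cast
      exact Subgroup.mem_centralizer_singleton_iff.mp g.2)
    (factorization_two_centralizer P hP hexp t ht)
  haveI := hKn
  rw [sum_principal_section_sq hM t 1 (by rw [ht, pow_one]) y hy,
    sum_principal_sq_of_normal_pcomplement hM K hKp 2 hidx y hy, hidx]
  norm_num

end Cfsg.Agent.Lib.helper3.Block
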