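import Mathlib
import Cfsg.Prelude.Def_Blocks
import Cfsg.Prelude.Def_BlockRank
import Cfsg.Agent.Lib.helper3.KleinOne3

/-!
# The `2`-regular rank of the principal block: Klein four Sylow, one class of involutions
-/

set_option autoImplicit false
set_option linter.style.haveILetI false
set_option linter.unusedSectionVars false

namespace Cfsg.Agent.Lib.helper3.Block

open Cfsg Cfsg.Agent.Lib.helper3.LocalM Cfsg.Agent.Lib.helper3.Irr
open Cfsg.Agent.Lib.helper3.CharBasic Cfsg.Agent.Lib.helper3.Lin Cfsg.Agent.Lib.helper3.Central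
open Cfsg.Agent.Lib.helper3.IndFun Cfsg.Agent.Lib.helper3.Klein
open scoped ComplexConjugate

universe u

variable {G : Type u} [Group G] [Fintype G] {M : Ideal AlgInt}

open Classical in
/-- The representatives `{1, t}` of the classes of `2`-elements. -/
theorem klein_reps (P : Sylow 2 G) (hexp : ∀ x : P, x * x = 1)
    (hone : ∀ s t : G, orderOf s = 2 → orderOf t = 2 → IsConj s t) (t : G) (ht : orderOf t = 2) :
    (∀ x ∈ ({1, t} : Finset G), ∃ k : ℕ, orderOf x = 2 ^ k) ∧
    (∀ g : G, (∃ k : ℕ, orderOf g = 2 ^ k) → ∃! x, x ∈ ({1, t} : Finset G) ∧ IsConj g x) := by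
  have ht1 : t ≠ 1 := by
    rintro rfl
    rw [orderOf_one] at ht
    norm_num at ht
  constructor
  · intro x hx
    rw [Finset.mem_insert, Finset.mem_singleton] at hx
    rcases hx with rfl | rfl
    · exact ⟨0, by rw [orderOf_one, pow_zero]⟩
    · exact ⟨1, by rw [ht, pow_one]⟩
  · intro g hg
    by_cases hg1 : g = 1
    · refine ⟨1, ⟨by simp, by rw [hg1]⟩, ?_⟩
      rintro x ⟨-, hx⟩
      rw [hg1] at hx
      exact (isConj_one_right.mp hx)
    · have hg2 := orderOf_two_element P hexp g hg hg1
      refine ⟨t, ⟨by simp, hone g t hg2 ht⟩, ?_⟩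
      rintro x ⟨hx, hconj⟩
      rw [Finset.mem_insert, Finset.mem_singleton] at hx
      rcases hx with rfl | rfl
      · exfalso
        exact hg1 (isConj_one_left.mp hconj)
      · rfl

open Classical in
/-- The singular norms of the principal block add up to one. -/
theorem sum_singNorm_klein (hM : IsPModular 2 M) (P : Sylow 2 G) (hP : Nat.card P = 4)
    (hexp : ∀ x : P, x * x = 1)
    (hone : ∀ s t : G, orderOf s = 2 → orderOf t = 2 → IsConj s t) :
    ∑ χ : IrrCharacter G, (if χ ∈ principalBlock M G then singNorm 2 (χ : G → ℂ) else 0)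
      = 1 := by
  haveI hp : Fact (Nat.Prime 2) := ⟨Nat.prime_two⟩
  obtain ⟨t, ht⟩ := exists_involution P hP
  have ht1 : t ≠ 1 := by
    rintro rfl
    rw [orderOf_one] at ht
    norm_num at ht
  obtain ⟨hX, hXrep⟩ := klein_reps P hexp hone t ht
  have htC : t ∈ Subgroup.centralizer ({t} : Set G) :=
    Subgroup.mem_centralizer_singleton_iff.mpr rfl
  obtain ⟨K, hKn, hKp, hidx⟩ := exists_normal_complement_of_central_involution
    (G := Subgroup.centralizer ({t} : Set G)) hM ⟨t, htC⟩
    (by rw [Subgroup.orderOf_mk]; exact ht)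
    (by
      intro g
      apply Subtype.ext
      push_cast
      exact Subgroup.mem_centralizer_singleton_iff.mp g.2)
    (factorization_two_centralizer P hP hexp t ht)
  haveI := hKn
  obtain ⟨F, hF⟩ : ∃ F : G → ℂ, F = fun g => if 2 ∣ orderOf g then
      ∑ ζ : IrrCharacter G, (if ζ ∈ principalBlock M G then (1 : ℂ) else 0)
        * ((ζ : G → ℂ) g * conj ((ζ : G → ℂ) g)) else 0 := ⟨_, rfl⟩
  have hFcf : ∀ g s : G, F (s * g * s⁻¹) = F g := by
    intro g s
    rw [hF]
    simp only
    rw [Cfsg.Agent.Lib.helper3.HallNilp.orderOf_conj']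
    by_cases hg : 2 ∣ orderOf g
    · rw [if_pos hg, if_pos hg]
      apply Finset.sum_congr rfl
      intro ζ _
      rw [isClassFunction_of_isCharacter (isCharacter_of_isIrrCharacter ζ.2) g s]
    · rw [if_neg hg, if_neg hg]
  have hsec := Cfsg.Agent.Lib.helper3.Block.sum_eq_sum_sections Nat.prime_two ({1, t} : Finset G)
    hX hXrep F hFcf
  rw [Finset.sum_pair (Ne.symm ht1)] at hsec
  -- the term of `1`
  have h1 : ∑ y : Subgroup.centralizer ({(1 : G)} : Set G),
      (if 2 ∣ orderOf y then (0 : ℂ) else F (1 * (y : G))) = 0 := by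
    apply Finset.sum_eq_zero
    intro y _
    by_cases hy : 2 ∣ orderOf y
    · rw [if_pos hy]
    · rw [if_neg hy, one_mul, hF]
      simp only
      rw [Subgroup.orderOf_coe, if_neg hy]
  -- the term of `t`
  have hreg : ∀ y : Subgroup.centralizer ({t} : Set G), ¬ 2 ∣ orderOf y ↔ y ∈ K :=
    fun y => mem_normal_complement_iff Nat.prime_two K hKp 2 hidx y
  have h2 : ∑ y : Subgroup.centralizer ({t} : Set G),
      (if 2 ∣ orderOf y then (0 : ℂ) else F (t * (y : G))) = 4 * (Nat.card K : ℂ) := by
    have e1 : ∀ y : Subgroup.centralizer ({t} : Set G),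
        (if 2 ∣ orderOf y then (0 : ℂ) else F (t * (y : G))) = if y ∈ K then 4 else 0 := by
      intro y
      by_cases hy : 2 ∣ orderOf y
      · rw [if_pos hy, if_neg (fun h => (hreg y).2 h hy)]
      · rw [if_neg hy, if_pos ((hreg y).1 hy), hF]
        simp only
        have hty : 2 ∣ orderOf (t * (y : G)) := by
          have hcomm : Commute t (y : G) :=
            (Subgroup.mem_centralizer_singleton_iff.mp y.2).symm
          have hcop : Nat.Coprime (orderOf t) (orderOf (y : G)) := by
            rw [ht, Subgroup.orderOf_coe]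
            exact (Nat.Prime.coprime_iff_not_dvd Nat.prime_two).2 hy
          rw [hcomm.orderOf_mul_eq_mul_orderOf_of_coprime hcop, ht]
          exact dvd_mul_right _ _
        rw [if_pos hty]
        exact sum_principal_sq_involution hM P hP hexp t ht y hy
    rw [Finset.sum_congr rfl (fun y _ => e1 y), Finset.sum_ite, Finset.sum_const_zero, add_zero,
      Finset.sum_const, nsmul_eq_mul, mul_comm]
    congr 1
    rw [Nat.card_eq_fintype_card]
    norm_cast
    exact (Fintype.card_of_subtype _ (by intro x; simp)).symm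
  rw [h1, h2, mul_zero, zero_add] at hsec
  -- the left side
  have hGC : (Nat.card G : ℂ) ≠ 0 := card_ne_zero_complex G
  have hleft : ∑ g : G, F g = (Nat.card G : ℂ)
      * ((∑ χ : IrrCharacter G, (if χ ∈ principalBlock M G
          then singNorm 2 (χ : G → ℂ) else 0) : ℝ) : ℂ) := by
    rw [hF]
    push_cast
    rw [Finset.mul_sum]
    have e2 : ∀ g : G, (if 2 ∣ orderOf g then
        ∑ ζ : IrrCharacter G, (if ζ ∈ principalBlock M G then (1 : ℂ) else 0)
          * ((ζ : G → ℂ) g * conj ((ζ : G → ℂ) g)) else 0)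
        = ∑ ζ : IrrCharacter G, (if ζ ∈ principalBlock M G then
            (if 2 ∣ orderOf g then ((Complex.normSq ((ζ : G → ℂ) g) : ℝ) : ℂ) else 0) else 0) := by
      intro g
      by_cases hg : 2 ∣ orderOf g
      · rw [if_pos hg]
        apply Finset.sum_congr rfl
        intro ζ _
        by_cases hζ : ζ ∈ principalBlock M G
        · rw [if_pos hζ, if_pos hζ, if_pos hg, one_mul, Complex.mul_conj]
        · rw [if_neg hζ, if_neg hζ, zero_mul]
      · rw [if_neg hg]
        symm
        apply Finset.sum_eq_zero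
        intro ζ _
        by_cases hζ : ζ ∈ principalBlock M G
        · rw [if_pos hζ, if_neg hg]
        · rw [if_neg hζ]
    rw [Finset.sum_congr rfl (fun g _ => e2 g), Finset.sum_comm]
    apply Finset.sum_congr rfl
    intro ζ _
    by_cases hζ : ζ ∈ principalBlock M G
    · rw [if_pos hζ]
      simp only [if_pos hζ]
      unfold singNorm
      push_cast
      rw [← mul_assoc, mul_inv_cancel₀ hGC, one_mul]
      apply Finset.sum_congr rfl
      intro g _
      split_ifs <;> simp
    · simp only [if_neg hζ]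
      simp
  rw [hleft] at hsec
  have hCK : (Nat.card (Subgroup.centralizer ({t} : Set G)) : ℂ) = 4 * (Nat.card K : ℂ) := by
    have := Subgroup.card_mul_index K
    rw [hidx] at this
    rw [← this]
    push_cast
    ring
  have hidxC : ((Subgroup.centralizer ({t} : Set G)).index : ℂ)
      * (Nat.card (Subgroup.centralizer ({t} : Set G)) : ℂ) = (Nat.card G : ℂ) := by
    rw [← Nat.cast_mul, mul_comm, Subgroup.card_mul_index]
  rw [← hCK, hidxC] at hsec
  have h3 : ((∑ χ : IrrCharacter G, (if χ ∈ principalBlock M G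
      then singNorm 2 (χ : G → ℂ) else 0) : ℝ) : ℂ) = ((1 : ℝ) : ℂ) := by
    push_cast
    have := mul_left_cancel₀ hGC (hsec.trans (mul_one _).symm)
    push_cast at this
    exact this
  exact_mod_cast h3

open Classical in
/-- **The principal `2`-block has rank three.** -/
theorem blockRank_principal_klein (hM : IsPModular 2 M) (P : Sylow 2 G) (hP : Nat.card P = 4)
    (hexp : ∀ x : P, x * x = 1)
    (hone : ∀ s t : G, orderOf s = 2 → orderOf t = 2 → IsConj s t) :
    blockRank 2 (principalBlock M G) = 3 := by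
  haveI hMp := isPrime_of_isPModular hM
  have hMtop : M ≠ ⊤ := hM.2.1.ne_top
  have hB : IsPBlock M (principalBlock M G) := ⟨Cfsg.Agent.Lib.helper3.PrincOnly.one G, rfl⟩
  have hBcl : ∀ θ ∈ principalBlock M G, blockOf M (θ : G → ℂ) ⊆ principalBlock M G := by
    intro θ hθ
    rw [← block_eq_of_mem hB ⟨θ, rfl⟩ θ hθ (sameBlock_refl hMtop _)]
  have h1 := card_sub_blockRank (p := 2) hM (principalBlock M G) hBcl
  rw [sum_singNorm_klein hM P hP hexp hone, card_principalBlock_klein hM P hP] at h1
  have h2 : (blockRank 2 (principalBlock M G) : ℂ) = ((3 : ℕ) : ℂ) := by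
    push_cast at h1 ⊢
    linear_combination -h1
  exact_mod_cast h2

end Cfsg.Agent.Lib.helper3.Block
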