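import Mathlib
import Cfsg.Prelude.Def_Blocks
import Cfsg.Prelude.Def_BlockRank
import Cfsg.Agent.Lib.helper3.KleinOne4
import Cfsg.Agent.Lib.helper3.SecMain5
import Cfsg.Agent.S0944

/-!
# Values of the principal `2`-block characters at involutions: Klein four Sylow, one class
-/

set_option autoImplicit false
set_option linter.style.haveILetI false
set_option linter.unusedSectionVars false

namespace Cfsg.Agent.Lib.helper3.Block

open Cfsg Cfsg.Agent.Lib.helper3.LocalM Cfsg.Agent.Lib.helper3.Irr
open Cfsg.Agent.Lib.helper3.CharBasic Cfsg.Agent.Lib.helper3.Lin Cfsg.Agent.Lib.helper3.Central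
open Cfsg.Agent.Lib.helper3.IndFun Cfsg.Agent.Lib.helper3.Klein
open scoped ComplexConjugate

universe u

variable {G : Type u} [Group G] [Fintype G] {M : Ideal AlgInt}

open Classical in
theorem klein_values (hM : IsPModular 2 M) (P : Sylow 2 G) (hP : Nat.card P = 4)
    (hexp : ∀ x : P, x * x = 1)
    (hone : ∀ s t : G, orderOf s = 2 → orderOf t = 2 → IsConj s t) (t : G) (ht : orderOf t = 2) :
    ∃ e : IrrCharacter G → ℤ, (∀ χ : IrrCharacter G, (χ : G → ℂ) t = (e χ : ℂ)) ∧
      (∀ χ : IrrCharacter G, (4 : ℤ) ∣ (charDegree (χ : G → ℂ) : ℤ) - e χ) ∧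
      (∑ χ : IrrCharacter G, (if χ ∈ principalBlock M G then (e χ) ^ 2 else 0)) = 4 ∧
      ∀ y : G, ¬ 2 ∣ orderOf y → ∑ χ : IrrCharacter G,
        (if χ ∈ principalBlock M G then (1 : ℂ) else 0) * ((e χ : ℂ) * (χ : G → ℂ) y) = 0 := by
  haveI hp : Fact (Nat.Prime 2) := ⟨Nat.prime_two⟩
  have hex := fun χ : IrrCharacter G => Cfsg.Agent.S0944.result χ t ht
  choose e he _ using hex
  have ht1 : t ≠ 1 := by
    rintro rfl
    rw [orderOf_one] at ht
    norm_num at ht
  refine ⟨e, he, ?_, ?_, ?_⟩
  · -- the congruence mod 4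
    intro χ
    have hχc := isCharacter_of_isIrrCharacter χ.2
    have hχcf := isClassFunction_of_isCharacter hχc
    letI : Fintype (P : Subgroup G) := Fintype.ofFinite _
    have hres := isCharacter_restrict hχc (P : Subgroup G)
    obtain ⟨m, hm⟩ := exists_nat_classInner_of_isCharacter hres
      (⟨fun _ => (1 : ℂ), isIrrCharacter_one⟩ : IrrCharacter (P : Subgroup G))
    rw [classInner_apply, hP] at hm
    have h1 : ∑ v : (P : Subgroup G), (χ : G → ℂ) (v : G) = 4 * (m : ℂ) := by
      have h2 : ∑ v : (P : Subgroup G), (χ : G → ℂ) (v : G) * conj ((1 : ℂ))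
          = ∑ v : (P : Subgroup G), (χ : G → ℂ) (v : G) := by
        apply Finset.sum_congr rfl
        intro v _
        rw [map_one, mul_one]
      rw [← h2]
      have h3 : ((4 : ℕ) : ℂ) ≠ 0 := by norm_num
      have h4 := hm
      push_cast at h4
      field_simp at h4
      linear_combination h4
    have h5 : ∑ v : (P : Subgroup G), (χ : G → ℂ) (v : G)
        = (χ : G → ℂ) 1 + 3 * (e χ : ℂ) := by
      rw [← Finset.add_sum_erase Finset.univ _ (Finset.mem_univ (1 : (P : Subgroup G)))]
      congr 1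
      have h6 : ∀ v ∈ (Finset.univ : Finset (P : Subgroup G)).erase 1,
          (χ : G → ℂ) (v : G) = (e χ : ℂ) := by
        intro v hv
        have hv1 : (v : G) ≠ 1 := by
          intro h
          apply (Finset.mem_erase.mp hv).1
          exact Subtype.ext h
        obtain ⟨k, hk⟩ := (IsPGroup.iff_orderOf.mp P.isPGroup') v
        rw [← Subgroup.orderOf_coe] at hk
        have hv2 := orderOf_two_element P hexp (v : G) ⟨k, hk⟩ hv1
        obtain ⟨c, hc⟩ := isConj_iff.mp (hone (v : G) t hv2 ht)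
        rw [← he χ, ← hc, hχcf]
      rw [Finset.sum_congr rfl h6, Finset.sum_const, Finset.card_erase_of_mem (Finset.mem_univ _),
        Finset.card_univ, ← Nat.card_eq_fintype_card, hP, nsmul_eq_mul]
      norm_num
    rw [h5, apply_one_eq_charDegree] at h1
    have h7 : ((charDegree (χ : G → ℂ) : ℕ) : ℤ) + 3 * e χ = 4 * (m : ℤ) := by
      have : ((((charDegree (χ : G → ℂ) : ℕ) : ℤ) + 3 * e χ : ℤ) : ℂ) = ((4 * (m : ℤ) : ℤ) : ℂ) := by
        push_cast
        exact h1
      exact_mod_cast this
    exact ⟨(m : ℤ) - e χ, by linarith⟩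
  · -- the sum of squares
    have htC : (1 : G) ∈ Subgroup.centralizer ({t} : Set G) := one_mem _
    have h1 := sum_principal_sq_involution hM P hP hexp t ht
      (1 : Subgroup.centralizer ({t} : Set G)) (by rw [orderOf_one]; norm_num)
    rw [Subgroup.coe_one, mul_one] at h1
    have h2 : ((∑ χ : IrrCharacter G, (if χ ∈ principalBlock M G then (e χ) ^ 2 else 0) : ℤ) : ℂ)
        = ((4 : ℤ) : ℂ) := by
      push_cast
      rw [← h1]
      apply Finset.sum_congr rfl
      intro χ _
      by_cases hχ : χ ∈ principalBlock M G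
      · rw [if_pos hχ, if_pos hχ, one_mul, he χ, map_intCast]
        ring
      · rw [if_neg hχ, if_neg hχ, zero_mul]
    exact_mod_cast h2
  · -- block orthogonality
    intro y hy
    have hB : IsPBlock M (principalBlock M G) := ⟨Cfsg.Agent.Lib.helper3.PrincOnly.one G, rfl⟩
    have hy' : ¬ 2 ∣ orderOf y⁻¹ := by rw [orderOf_inv]; exact hy
    have h1 := block_orthogonality hM (principalBlock M G) hB t y⁻¹ t 1
      ⟨1, mul_one t, Commute.one_right t, ⟨1, by rw [ht, pow_one]⟩, by rw [orderOf_one]; norm_num⟩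
      ⟨y⁻¹, one_mul _, Commute.one_left _, ⟨0, by rw [orderOf_one, pow_zero]⟩, hy'⟩
      (by
        intro hc
        exact ht1 (isConj_one_left.mp hc))
    refine Eq.trans ?_ h1
    apply Finset.sum_congr rfl
    intro χ _
    rw [inv_inv, he χ]

end Cfsg.Agent.Lib.helper3.Block
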