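import Mathlib
import Cfsg.Prelude.Def_Blocks
import Cfsg.Agent.Lib.helper3.KleinOne5

/-!
# The principal `2`-block for a Klein four Sylow `2`-subgroup and one class of involutions
-/

set_option autoImplicit false
set_option linter.style.haveILetI false
set_option linter.unusedSectionVars false

namespace Cfsg.Agent.Lib.helper3.Block

open Cfsg Cfsg.Agent.Lib.helper3.LocalM Cfsg.Agent.Lib.helper3.Irr
open Cfsg.Agent.Lib.helper3.CharBasic Cfsg.Agent.Lib.helper3.Lin Cfsg.Agent.Lib.helper3.Central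
open Cfsg.Agent.Lib.helper3.IndFun Cfsg.Agent.Lib.helper3.Klein
open scoped ComplexConjugate

universe u

variable {G : Type u} [Group G] [Fintype G] {M : Ideal AlgInt}

open Classical in
theorem klein_principal_block (hM : IsPModular 2 M) (P : Sylow 2 G) (hP : Nat.card P = 4)
    (hexp : ∀ x : P, x * x = 1)
    (hone : ∀ s t : G, orderOf s = 2 → orderOf t = 2 → IsConj s t) :
    ∃ ζ₂ ζ₃ ζ₄ : IrrCharacter G, ∃ ε : ℤ, (ε = 1 ∨ ε = -1) ∧
      (ζ₂ : G → ℂ) ≠ (fun _ => 1) ∧ (ζ₃ : G → ℂ) ≠ (fun _ => 1) ∧ ζ₂ ≠ ζ₃ ∧ ζ₂ ≠ ζ₄ ∧ ζ₃ ≠ ζ₄ ∧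
      principalBlock M G = {χ : IrrCharacter G | (χ : G → ℂ) = (fun _ => 1) ∨ χ = ζ₂ ∨ χ = ζ₃
        ∨ χ = ζ₄} ∧
      (∀ z : G, orderOf z = 2 → (ζ₂ : G → ℂ) z = 1 ∧ (ζ₃ : G → ℂ) z = (ε : ℂ)
        ∧ (ζ₄ : G → ℂ) z = -1) ∧
      (4 : ℤ) ∣ (charDegree (ζ₂ : G → ℂ) : ℤ) - 1 ∧
      (4 : ℤ) ∣ (charDegree (ζ₃ : G → ℂ) : ℤ) - ε ∧
      (4 : ℤ) ∣ (charDegree (ζ₄ : G → ℂ) : ℤ) + 1 ∧
      ∀ y : G, Odd (orderOf y) →
        1 + (ζ₂ : G → ℂ) y + (ε : ℂ) * (ζ₃ : G → ℂ) y - (ζ₄ : G → ℂ) y = 0 := by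
  have hMtop : M ≠ ⊤ := hM.2.1.ne_top
  obtain ⟨t, ht⟩ := exists_involution P hP
  obtain ⟨e, he, hmod, hsq, horth⟩ := klein_values hM P hP hexp hone t ht
  obtain ⟨o, ho⟩ : ∃ o : IrrCharacter G, o = Cfsg.Agent.Lib.helper3.PrincOnly.one G := ⟨_, rfl⟩
  have hoval : ∀ g : G, (o : G → ℂ) g = 1 := by
    intro g
    rw [ho]
    rfl
  have hoB : o ∈ principalBlock M G := by
    rw [ho]
    exact sameBlock_refl hMtop _
  have heo : e o = 1 := by
    have h1 := he o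
    rw [hoval] at h1
    exact_mod_cast h1.symm
  have hdego : charDegree (o : G → ℂ) = 1 := by
    apply charDegree_eq
    rw [hoval]
    norm_num
  obtain ⟨Bf, hBf⟩ : ∃ Bf : Finset (IrrCharacter G),
      Bf = Finset.univ.filter (fun ξ => ξ ∈ principalBlock M G) := ⟨_, rfl⟩
  have hBfmem : ∀ ξ, ξ ∈ Bf ↔ ξ ∈ principalBlock M G := by
    intro ξ
    rw [hBf, Finset.mem_filter]
    simp
  have hBfcard : Bf.card = 4 := by
    rw [← card_principalBlock_klein hM P hP, Nat.card_eq_fintype_card, hBf]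
    exact (Fintype.card_subtype _).symm
  have hoBf : o ∈ Bf := (hBfmem o).2 hoB
  obtain ⟨S, hS⟩ : ∃ S : Finset (IrrCharacter G), S = Bf.erase o := ⟨_, rfl⟩
  have hScard : S.card = 3 := by
    rw [hS, Finset.card_erase_of_mem hoBf, hBfcard]
  -- sums over the block
  have hsumB : ∀ f : IrrCharacter G → ℂ,
      ∑ χ : IrrCharacter G, (if χ ∈ principalBlock M G then (1 : ℂ) else 0) * f χ
        = f o + ∑ χ ∈ S, f χ := by
    intro f
    rw [hS, Finset.add_sum_erase Bf f hoBf, hBf, Finset.sum_filter]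
    apply Finset.sum_congr rfl
    intro χ _
    split_ifs <;> simp
  have hsumBZ : ∑ χ : IrrCharacter G, (if χ ∈ principalBlock M G then (e χ) ^ 2 else 0)
      = (e o) ^ 2 + ∑ χ ∈ S, (e χ) ^ 2 := by
    rw [hS, Finset.add_sum_erase Bf (fun χ => (e χ) ^ 2) hoBf, hBf, Finset.sum_filter]
  rw [hsumBZ, heo] at hsq
  have hsqS : ∑ χ ∈ S, (e χ) ^ 2 = 3 := by linarith
  -- each value is `± 1`
  have hle1 : ∀ χ ∈ S, (e χ) ^ 2 ≤ 1 := by
    intro χ hχ
    have h1 : (e χ) ^ 2 ≤ ∑ χ ∈ S, (e χ) ^ 2 :=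
      Finset.single_le_sum (f := fun χ => (e χ) ^ 2) (fun ξ _ => sq_nonneg _) hχ
    rw [hsqS] at h1
    have h2 : -1 ≤ e χ ∧ e χ ≤ 1 := by
      constructor <;> nlinarith
    obtain ⟨h3, h4⟩ := h2
    interval_cases (e χ) <;> norm_num
  have heq1 : ∀ χ ∈ S, (e χ) ^ 2 = 1 := by
    have h1 : ∑ χ ∈ S, (1 - (e χ) ^ 2) = 0 := by
      rw [Finset.sum_sub_distrib, hsqS, Finset.sum_const, hScard]
      norm_num
    have h2 := (Finset.sum_eq_zero_iff_of_nonneg (fun χ hχ => by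
      have := hle1 χ hχ
      linarith)).1 h1
    intro χ hχ
    have := h2 χ hχ
    linarith
  have hpm : ∀ χ ∈ S, e χ = 1 ∨ e χ = -1 := by
    intro χ hχ
    have h1 := heq1 χ hχ
    have h2 : (e χ - 1) * (e χ + 1) = 0 := by ring_nf; linarith
    rcases mul_eq_zero.mp h2 with h | h
    · left; linarith
    · right; linarith
  -- the degree relation
  have hdeg : (1 : ℤ) + ∑ χ ∈ S, e χ * (charDegree (χ : G → ℂ) : ℤ) = 0 := by
    have h1 := horth 1 (by rw [orderOf_one]; norm_num)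
    rw [hsumB, hoval, heo] at h1
    have h2 : (((1 : ℤ) + ∑ χ ∈ S, e χ * (charDegree (χ : G → ℂ) : ℤ) : ℤ) : ℂ) = ((0 : ℤ) : ℂ) := by
      push_cast
      rw [← h1]
      congr 1
      · norm_num
      · apply Finset.sum_congr rfl
        intro χ _
        rw [apply_one_eq_charDegree]
    exact_mod_cast h2
  have hdegpos : ∀ χ : IrrCharacter G, (1 : ℤ) ≤ (charDegree (χ : G → ℂ) : ℤ) := by
    intro χ
    have := Nat.pos_of_ne_zero (charDegree_ne_zero χ)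
    exact_mod_cast this
  -- a character with value `-1`
  obtain ⟨ζ₄, hζ₄S, hζ₄⟩ : ∃ ζ₄ ∈ S, e ζ₄ = -1 := by
    by_contra hcon
    push Not at hcon
    have h1 : ∀ χ ∈ S, (0 : ℤ) ≤ e χ * (charDegree (χ : G → ℂ) : ℤ) := by
      intro χ hχ
      rcases hpm χ hχ with h | h
      · rw [h, one_mul]
        linarith [hdegpos χ]
      · exact absurd h (hcon χ hχ)
    have := Finset.sum_nonneg h1
    linarith
  -- a character with value `1`
  obtain ⟨ζ₂, hζ₂S, hζ₂⟩ : ∃ ζ₂ ∈ S, e ζ₂ = 1 := by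
    by_contra hcon
    push Not at hcon
    have h1 : ∀ χ ∈ S, e χ * (charDegree (χ : G → ℂ) : ℤ) ≤ -1 := by
      intro χ hχ
      rcases hpm χ hχ with h | h
      · exact absurd h (hcon χ hχ)
      · rw [h]
        linarith [hdegpos χ]
    have h2 := Finset.sum_le_sum h1
    rw [Finset.sum_const, hScard] at h2
    norm_num at h2
    linarith
  have h24 : ζ₂ ≠ ζ₄ := by
    intro h
    rw [h, hζ₄] at hζ₂
    norm_num at hζ₂
  have hζ₄S' : ζ₄ ∈ S.erase ζ₂ := Finset.mem_erase.mpr ⟨Ne.symm h24, hζ₄S⟩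
  have hcard1 : ((S.erase ζ₂).erase ζ₄).card = 1 := by
    rw [Finset.card_erase_of_mem hζ₄S', Finset.card_erase_of_mem hζ₂S, hScard]
  obtain ⟨ζ₃, hζ₃⟩ := Finset.card_eq_one.mp hcard1
  have hζ₃mem : ζ₃ ∈ (S.erase ζ₂).erase ζ₄ := by rw [hζ₃]; exact Finset.mem_singleton_self _
  have h34 : ζ₃ ≠ ζ₄ := (Finset.mem_erase.mp hζ₃mem).1
  have hζ₃S' : ζ₃ ∈ S.erase ζ₂ := (Finset.mem_erase.mp hζ₃mem).2
  have h32 : ζ₃ ≠ ζ₂ := (Finset.mem_erase.mp hζ₃S').1
  have hζ₃S : ζ₃ ∈ S := (Finset.mem_erase.mp hζ₃S').2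
  have hSsum : ∀ f : IrrCharacter G → ℂ, ∑ χ ∈ S, f χ = f ζ₂ + (f ζ₄ + f ζ₃) := by
    intro f
    rw [← Finset.add_sum_erase S f hζ₂S, ← Finset.add_sum_erase (S.erase ζ₂) f hζ₄S', hζ₃,
      Finset.sum_singleton]
  have hSmem : ∀ χ, χ ∈ S ↔ χ = ζ₂ ∨ χ = ζ₃ ∨ χ = ζ₄ := by
    intro χ
    constructor
    · intro hχ
      by_cases h2 : χ = ζ₂
      · exact Or.inl h2
      · by_cases h4 : χ = ζ₄
        · exact Or.inr (Or.inr h4)
        · have : χ ∈ (S.erase ζ₂).erase ζ₄ :=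
            Finset.mem_erase.mpr ⟨h4, Finset.mem_erase.mpr ⟨h2, hχ⟩⟩
          rw [hζ₃, Finset.mem_singleton] at this
          exact Or.inr (Or.inl this)
    · rintro (rfl | rfl | rfl)
      · exact hζ₂S
      · exact hζ₃S
      · exact hζ₄S
  have hne_o : ∀ χ ∈ S, (χ : G → ℂ) ≠ (fun _ => 1) := by
    intro χ hχ h
    rw [hS] at hχ
    apply (Finset.mem_erase.mp hχ).1
    apply Subtype.ext
    rw [h]
    funext g
    exact (hoval g).symm
  have hvalz : ∀ (χ : IrrCharacter G) (z : G), orderOf z = 2 → (χ : G → ℂ) z = (e χ : ℂ) := by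
    intro χ z hz
    obtain ⟨c, hc⟩ := isConj_iff.mp (hone z t hz ht)
    rw [← he χ, ← hc,
      isClassFunction_of_isCharacter (isCharacter_of_isIrrCharacter χ.2) z c]
  refine ⟨ζ₂, ζ₃, ζ₄, e ζ₃, hpm ζ₃ hζ₃S, hne_o ζ₂ hζ₂S, hne_o ζ₃ hζ₃S, Ne.symm h32, h24, h34,
    ?_, ?_, ?_, ?_, ?_, ?_⟩
  · ext χ
    rw [Set.mem_setOf_eq, ← hBfmem]
    constructor
    · intro hχ
      by_cases hχo : χ = o
      · left
        rw [hχo]
        funext g
        exact hoval g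
      · right
        apply (hSmem χ).1
        rw [hS]
        exact Finset.mem_erase.mpr ⟨hχo, hχ⟩
    · rintro (h | h)
      · have : χ = o := by
          apply Subtype.ext
          rw [h]
          funext g
          exact (hoval g).symm
        rw [this]
        exact hoBf
      · have := (hSmem χ).2 h
        rw [hS] at this
        exact (Finset.mem_erase.mp this).2
  · intro z hz
    refine ⟨?_, hvalz ζ₃ z hz, ?_⟩
    · rw [hvalz ζ₂ z hz, hζ₂]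
      norm_num
    · rw [hvalz ζ₄ z hz, hζ₄]
      norm_num
  · have := hmod ζ₂
    rwa [hζ₂] at this
  · exact hmod ζ₃
  · have := hmod ζ₄
    rw [hζ₄] at this
    simpa using this
  · intro y hy
    have hy' : ¬ 2 ∣ orderOf y := by
      intro h
      exact (Nat.not_even_iff_odd.mpr hy) (even_iff_two_dvd.mpr h)
    have h1 := horth y hy'
    rw [hsumB, hSsum, hoval, heo, hζ₂, hζ₄] at h1
    push_cast at h1
    linear_combination h1

end Cfsg.Agent.Lib.helper3.Block
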