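import Mathlib
import Cfsg.Prelude.Def_Blocks
import Cfsg.Agent.Lib.helper3.KleinOne6
import Cfsg.Agent.Lib.helper3.PrincSection2
import Cfsg.Agent.Lib.helper3.ClassMul

/-!
# The principal block part of a class function at a `p`-element whose centralizer has a normal
`p`-complement
-/

set_option autoImplicit false
set_option linter.style.haveILetI false
set_option linter.unusedSectionVars false

namespace Cfsg.Agent.Lib.helper3.Block

open Cfsg Module Cfsg.Agent.Lib.helper3.CharBasic Cfsg.Agent.Lib.helper3.Irr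
open Cfsg.Agent.Lib.helper3.Central Cfsg.Agent.Lib.helper3.LocalM Cfsg.Agent.Lib.helper3.IndFun
open Cfsg.Agent.Lib.helper3.Lin Cfsg.Agent.Lib.helper3.HallNilp
open scoped ComplexConjugate

universe u

variable {G : Type u} [Group G] [Fintype G] {M : Ideal AlgInt}

open Classical in
/-- In a group with the normal `p`-complement `K`, the principal block consists of the
characters with `K` in the kernel: in averaged form. -/
theorem principal_ite_mul_degree {p : ℕ} [hpf : Fact p.Prime] (hM : IsPModular p M)
    (K : Subgroup G) [hK : K.Normal] [Fintype K] (hKp : (Nat.card K).Coprime p) (k : ℕ)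
    (hidx : K.index = p ^ k) (ψ : IrrCharacter G) :
    (if ψ ∈ principalBlock M G then (1 : ℂ) else 0) * (ψ : G → ℂ) 1
        = (Nat.card K : ℂ)⁻¹ * ∑ h : K, (ψ : G → ℂ) (h : G) := by
  haveI hMp := isPrime_of_isPModular hM
  have hMtop : M ≠ ⊤ := hM.2.1.ne_top
  have hp : p.Prime := hpf.out
  have hK0 : Nat.card K ≠ 0 := Nat.card_pos.ne'
  have hKC : (Nat.card K : ℂ) ≠ 0 := by exact_mod_cast hK0
  have hpK : ¬ p ∣ Nat.card K := by
    intro h
    exact hp.one_lt.ne' (Nat.Coprime.eq_one_of_dvd hKp.symm h)
  have hreg : ∀ g : G, ¬ p ∣ orderOf g ↔ g ∈ K :=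
    fun g => mem_normal_complement_iff hp K hKp k hidx g
  obtain ⟨d, ρ, hirr, hρ, hker⟩ := exists_rep_ker_iff ψ.2
  haveI := hirr
  have hψ1 := apply_one_ne_zero ψ.2
  rcases normal_trivial_or_sum_eq_zero ρ K with h | h
  · have hval : ∀ g ∈ K, (ψ : G → ℂ) g = (ψ : G → ℂ) 1 := fun g hg => (hker g).mpr (h g hg)
    have hmem : ψ ∈ principalBlock M G := by
      apply mem_principalBlock_of_regOmega (p := p) hM ψ
      have hro : regOmega p (ψ : G → ℂ) = (Nat.card K : ℂ) := by
        unfold regOmega
        have e1 : ∀ g : G, (if p ∣ orderOf g then (0 : ℂ) else 1)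
            * ((ψ : G → ℂ) g / (ψ : G → ℂ) 1) = if g ∈ K then 1 else 0 := by
          intro g
          by_cases hg : g ∈ K
          · rw [if_neg ((hreg g).mpr hg), if_pos hg, hval g hg, div_self hψ1, one_mul]
          · rw [if_pos (by
              by_contra hcon
              exact hg ((hreg g).mp hcon)), if_neg hg, zero_mul]
        rw [Finset.sum_congr rfl (fun g _ => e1 g), Finset.sum_boole]
        congr 1
        rw [Nat.card_eq_fintype_card]
        exact (Fintype.card_of_subtype _ (by intro x; simp)).symm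
      rw [hro]
      have := not_memLocalIdeal_intCast hM ((Nat.card K : ℕ) : ℤ) (by
        intro hd
        exact hpK (Int.natCast_dvd_natCast.mp hd))
      simpa using this
    rw [if_pos hmem, one_mul]
    have : ∑ h : K, (ψ : G → ℂ) (h : G) = (Nat.card K : ℂ) * (ψ : G → ℂ) 1 := by
      rw [Finset.sum_congr rfl (fun (h : K) _ => hval (h : G) h.2), Finset.sum_const,
        Finset.card_univ, nsmul_eq_mul, Nat.card_eq_fintype_card]
    rw [this]
    field_simp
  · have hsum : ∑ h : K, (ψ : G → ℂ) (h : G) = 0 := by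
      rw [hρ]
      exact h
    have hnot : ψ ∉ principalBlock M G := by
      intro hmem
      have hval : ∀ g ∈ K, (ψ : G → ℂ) g = (ψ : G → ℂ) 1 :=
        fun g hg => apply_eq_of_mem_normal_coprime hM K hKp ψ hmem g hg
      rw [Finset.sum_congr rfl (fun (h : K) _ => hval (h : G) h.2), Finset.sum_const,
        Finset.card_univ, nsmul_eq_mul, ← Nat.card_eq_fintype_card] at hsum
      rcases mul_eq_zero.mp hsum with h1 | h1
      · exact hKC h1
      · exact hψ1 h1
    rw [if_neg hnot, zero_mul, hsum, mul_zero]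

open Classical in
/-- The value of a character of the principal block at a `p`-element `x` whose centralizer has the
normal `p`-complement `K`: the average over the coset `x K`; for the other characters this
average vanishes. -/
theorem principal_apply_eq_avg {p : ℕ} [hpf : Fact p.Prime] (hM : IsPModular p M) (x : G) (k : ℕ)
    (hx : orderOf x = p ^ k) [Fintype (Subgroup.centralizer ({x} : Set G))]
    (K : Subgroup (Subgroup.centralizer ({x} : Set G))) [hK : K.Normal] [Fintype K]
    (hKp : (Nat.card K).Coprime p) (j : ℕ) (hidx : K.index = p ^ j) (χ : IrrCharacter G) :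
    (if χ ∈ principalBlock M G then (χ : G → ℂ) x else 0)
      = (Nat.card K : ℂ)⁻¹ * ∑ h : K,
          (χ : G → ℂ) (x * ((h : Subgroup.centralizer ({x} : Set G)) : G)) := by
  have hχcf := isClassFunction_of_isCharacter (isCharacter_of_isIrrCharacter χ.2)
  have hcomm : ∀ c : Subgroup.centralizer ({x} : Set G), x * (c : G) = (c : G) * x :=
    fun c => (Subgroup.mem_centralizer_singleton_iff.mp c.2).symm
  obtain ⟨ϑ, hϑ⟩ : ∃ ϑ : Subgroup.centralizer ({x} : Set G) → ℂ,
      ϑ = fun c : Subgroup.centralizer ({x} : Set G) => (χ : G → ℂ) (x * (c : G)) := ⟨_, rfl⟩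
  have hϑcf : IsClassFunction (Subgroup.centralizer ({x} : Set G)) ϑ := by
    intro c t
    rw [hϑ]
    show (χ : G → ℂ) (x * ((t * c * t⁻¹ : Subgroup.centralizer ({x} : Set G)) : G))
      = (χ : G → ℂ) (x * (c : G))
    have e1 : x * ((t * c * t⁻¹ : Subgroup.centralizer ({x} : Set G)) : G)
        = (t : G) * (x * (c : G)) * (t : G)⁻¹ := by
      push_cast
      rw [← mul_assoc, ← mul_assoc, hcomm t]
      group
    rw [e1, hχcf]
  have h1 := principal_section hM x k hx χ (1 : Subgroup.centralizer ({x} : Set G))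
    (by rw [orderOf_one]; exact fun h => hpf.out.one_lt.ne' (Nat.dvd_one.1 h))
  rw [OneMemClass.coe_one, mul_one, ← hϑ] at h1
  have h2 : (if χ ∈ principalBlock M G then (χ : G → ℂ) x else 0)
      = if χ ∈ principalBlock M G then (χ : G → ℂ) x else 0 := rfl
  rw [← h1]
  have h3 : ∀ ψ : IrrCharacter (Subgroup.centralizer ({x} : Set G)),
      (if ψ ∈ principalBlock M (Subgroup.centralizer ({x} : Set G)) then (1 : ℂ) else 0)
        * (classInner ϑ (ψ : Subgroup.centralizer ({x} : Set G) → ℂ)
          * (ψ : Subgroup.centralizer ({x} : Set G) → ℂ) 1)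
      = classInner ϑ (ψ : Subgroup.centralizer ({x} : Set G) → ℂ)
        * ((Nat.card K : ℂ)⁻¹ * ∑ h : K, (ψ : Subgroup.centralizer ({x} : Set G) → ℂ)
            (h : Subgroup.centralizer ({x} : Set G))) := by
    intro ψ
    rw [← principal_ite_mul_degree hM K hKp j hidx ψ]
    ring
  rw [Finset.sum_congr rfl (fun ψ _ => h3 ψ)]
  have h4 : ∀ h : K, ϑ (h : Subgroup.centralizer ({x} : Set G))
      = ∑ ψ : IrrCharacter (Subgroup.centralizer ({x} : Set G)),
        classInner ϑ (ψ : Subgroup.centralizer ({x} : Set G) → ℂ)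
          * (ψ : Subgroup.centralizer ({x} : Set G) → ℂ)
            (h : Subgroup.centralizer ({x} : Set G)) := by
    intro h
    have h5 := classFunction_eq_sum ϑ hϑcf
    conv_lhs => rw [h5]
    simp only [Finset.sum_apply, Pi.smul_apply, smul_eq_mul]
  have h6 : ∀ h : K, (χ : G → ℂ) (x * ((h : Subgroup.centralizer ({x} : Set G)) : G))
      = ϑ (h : Subgroup.centralizer ({x} : Set G)) := by
    intro h
    rw [hϑ]
  rw [Finset.sum_congr rfl (fun h _ => (h6 h).trans (h4 h)), Finset.sum_comm, Finset.mul_sum]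
  apply Finset.sum_congr rfl
  intro ψ _
  rw [Finset.mul_sum, Finset.mul_sum, Finset.mul_sum]
  apply Finset.sum_congr rfl
  intro h _
  ring

open Classical in
/-- The principal block part of a class function `f` at a `p`-element `x` whose centralizer has
the normal `p`-complement `K`: the average of `f` over the coset `x K`. -/
theorem principal_part_eq_avg {p : ℕ} [hpf : Fact p.Prime] (hM : IsPModular p M) (x : G) (k : ℕ)
    (hx : orderOf x = p ^ k) [Fintype (Subgroup.centralizer ({x} : Set G))]
    (K : Subgroup (Subgroup.centralizer ({x} : Set G))) [hK : K.Normal] [Fintype K]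
    (hKp : (Nat.card K).Coprime p) (j : ℕ) (hidx : K.index = p ^ j)
    (f : G → ℂ) (hf : IsClassFunction G f) :
    ∑ χ : IrrCharacter G, (if χ ∈ principalBlock M G then (1 : ℂ) else 0)
        * (classInner f (χ : G → ℂ) * (χ : G → ℂ) x)
      = (Nat.card K : ℂ)⁻¹ * ∑ h : K,
          f (x * ((h : Subgroup.centralizer ({x} : Set G)) : G)) := by
  have h1 : ∀ g : G, f g = ∑ χ : IrrCharacter G, classInner f (χ : G → ℂ) * (χ : G → ℂ) g := by
    intro g
    have h5 := classFunction_eq_sum f hf
    conv_lhs => rw [h5]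
    simp only [Finset.sum_apply, Pi.smul_apply, smul_eq_mul]
  rw [Finset.sum_congr rfl (fun h _ => h1 _), Finset.sum_comm, Finset.mul_sum]
  apply Finset.sum_congr rfl
  intro χ _
  have h2 := principal_apply_eq_avg hM x k hx K hKp j hidx χ
  rw [← Finset.mul_sum]
  have h3 : (Nat.card K : ℂ)⁻¹ * (classInner f (χ : G → ℂ) * ∑ h : K,
        (χ : G → ℂ) (x * ((h : Subgroup.centralizer ({x} : Set G)) : G)))
      = classInner f (χ : G → ℂ) * ((Nat.card K : ℂ)⁻¹ * ∑ h : K,
        (χ : G → ℂ) (x * ((h : Subgroup.centralizer ({x} : Set G)) : G))) := by ring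
  rw [h3, ← h2]
  by_cases hχ : χ ∈ principalBlock M G
  · rw [if_pos hχ, if_pos hχ, one_mul]
  · rw [if_neg hχ, if_neg hχ, zero_mul, mul_zero]

end Cfsg.Agent.Lib.helper3.Block
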