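import Mathlib
import Cfsg.Prelude.Def_Blocks
import Cfsg.Agent.Lib.helper3.KleinOrd1
import Cfsg.Agent.Lib.helper3.KleinGrp2
import Cfsg.Agent.Lib.helper3.KleinGrp3

/-!
# Brauer's order formula for groups with a Klein four Sylow `2`-subgroup: the counting part
-/

set_option autoImplicit false
set_option linter.style.haveILetI false
set_option linter.unusedSectionVars false

namespace Cfsg.Agent.Lib.helper3.Block

open Cfsg Module Cfsg.Agent.Lib.helper3.CharBasic Cfsg.Agent.Lib.helper3.Irr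
open Cfsg.Agent.Lib.helper3.Central Cfsg.Agent.Lib.helper3.LocalM Cfsg.Agent.Lib.helper3.IndFun
open Cfsg.Agent.Lib.helper3.Lin Cfsg.Agent.Lib.helper3.HallNilp Cfsg.Agent.Lib.helper3.Klein
open scoped ComplexConjugate

universe u

variable {G : Type u} [Group G] [Fintype G] {M : Ideal AlgInt}

theorem orderOf_of_isConj {X : Type*} [Group X] {a b : X} (h : IsConj a b) :
    orderOf b = orderOf a := by
  obtain ⟨c, hc⟩ := isConj_iff.1 h
  rw [← hc]
  have := (MulAut.conj c).orderOf_eq a
  rw [MulAut.conj_apply] at this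
  exact this

theorem mul_self_of_orderOf_two {X : Type*} [Group X] {a : X} (h : orderOf a = 2) : a * a = 1 := by
  have := pow_orderOf_eq_one a
  rw [h, pow_two] at this
  exact this

open Classical in
/-- The pairs of involutions of `G` with product `t h`, `h` in the odd subgroup `K` of `C_G(t)`,
lie in `C_G(t)`. -/
theorem card_fiber_eq (hone : ∀ s t : G, orderOf s = 2 → orderOf t = 2 → IsConj s t) (t : G)
    (ht : orderOf t = 2) (C : Subgroup G) [Fintype C] (hC : ∀ g : G, g ∈ C ↔ g * t = t * g)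
    (t' : C) (ht' : (t' : G) = t) (K : Subgroup C) (o : ℕ) (ho : Odd o)
    (hKo : ∀ k : C, k ∈ K → k ^ o = 1) (h : C) (hK : h ∈ K) :
    (Finset.univ.filter (fun q : C × C =>
        (orderOf q.1 = 2 ∧ orderOf q.2 = 2 ∧ t'⁻¹ * (q.1 * q.2) ∈ K)
          ∧ t'⁻¹ * (q.1 * q.2) = h)).card
      = (Finset.univ.filter (fun p : G × G =>
          IsConj t p.1 ∧ IsConj t p.2 ∧ p.1 * p.2 = t * (h : G))).card := by
  have htt : t * t = 1 := mul_self_of_orderOf_two ht
  apply Finset.card_bij (fun q _ => ((q.1 : G), (q.2 : G)))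
  · rintro ⟨a, b⟩ hq
    rw [Finset.mem_filter] at hq ⊢
    obtain ⟨-, ⟨ha, hb, -⟩, hab⟩ := hq
    simp only at ha hb hab
    refine ⟨Finset.mem_univ _, hone t a ht (by rw [Subgroup.orderOf_coe]; exact ha),
      hone t b ht (by rw [Subgroup.orderOf_coe]; exact hb), ?_⟩
    have h1 : a * b = t' * h := by rw [← hab]; group
    have h2 := congrArg Subtype.val h1
    rw [Subgroup.coe_mul, Subgroup.coe_mul, ht'] at h2
    exact h2
  · rintro ⟨a, b⟩ _ ⟨a', b'⟩ _ heq
    simp only [Prod.mk.injEq] at heq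
    exact Prod.ext (Subtype.ext heq.1) (Subtype.ext heq.2)
  · rintro ⟨a, b⟩ hp
    rw [Finset.mem_filter] at hp
    obtain ⟨-, ha, hb, hab⟩ := hp
    simp only at ha hb hab
    have hao : orderOf a = 2 := by rw [orderOf_of_isConj ha, ht]
    have hbo : orderOf b = 2 := by rw [orderOf_of_isConj hb, ht]
    have haa : a * a = 1 := mul_self_of_orderOf_two hao
    have hbb : b * b = 1 := mul_self_of_orderOf_two hbo
    have hth : t * (h : G) = (h : G) * t := ((hC h).1 h.2).symm
    have hho : (h : G) ^ o = 1 := by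
      have := congrArg Subtype.val (hKo h hK)
      rw [Subgroup.coe_pow] at this
      exact this
    obtain ⟨h1, h2⟩ := commute_of_mul_eq t a b (h : G) htt haa hbb hth o ho hho hab
    have hq : t'⁻¹ * ((⟨a, (hC a).2 h1⟩ : C) * ⟨b, (hC b).2 h2⟩) = h := by
      apply Subtype.ext
      rw [Subgroup.coe_mul, Subgroup.coe_inv, Subgroup.coe_mul, ht']
      show t⁻¹ * (a * b) = (h : G)
      rw [hab]
      group
    refine ⟨(⟨a, (hC a).2 h1⟩, ⟨b, (hC b).2 h2⟩), ?_, rfl⟩
    rw [Finset.mem_filter]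
    refine ⟨Finset.mem_univ _, ⟨?_, ?_, ?_⟩, hq⟩
    · show orderOf (⟨a, (hC a).2 h1⟩ : C) = 2
      rw [← Subgroup.orderOf_coe]
      exact hao
    · show orderOf (⟨b, (hC b).2 h2⟩ : C) = 2
      rw [← Subgroup.orderOf_coe]
      exact hbo
    · show t'⁻¹ * ((⟨a, (hC a).2 h1⟩ : C) * ⟨b, (hC b).2 h2⟩) ∈ K
      rw [hq]
      exact hK

open Classical in
/-- The sum of the class multiplication counts over the coset `t K`. -/
theorem sum_mulCount_coset (hone : ∀ s t : G, orderOf s = 2 → orderOf t = 2 → IsConj s t) (t : G)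
    (ht : orderOf t = 2) (C : Subgroup G) [Fintype C] (hC : ∀ g : G, g ∈ C ↔ g * t = t * g)
    (t' : C) (ht' : (t' : G) = t) (K : Subgroup C) [Fintype K] (o : ℕ) (ho : Odd o)
    (hKo : ∀ k : C, k ∈ K → k ^ o = 1) :
    ∑ h : K, mulCount t t (t * ((h : C) : G))
      = ((Finset.univ.filter (fun q : C × C =>
          orderOf q.1 = 2 ∧ orderOf q.2 = 2 ∧ t'⁻¹ * (q.1 * q.2) ∈ K)).card : ℂ) := by
  obtain ⟨Kf, hKf⟩ : ∃ Kf : Finset C,
      Kf = (Finset.univ : Finset K).map ⟨Subtype.val, Subtype.val_injective⟩ := ⟨_, rfl⟩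
  have hmaps : Set.MapsTo (fun q : C × C => t'⁻¹ * (q.1 * q.2))
      ↑(Finset.univ.filter (fun q : C × C =>
          orderOf q.1 = 2 ∧ orderOf q.2 = 2 ∧ t'⁻¹ * (q.1 * q.2) ∈ K)) ↑Kf := by
    intro q hq
    rw [Finset.mem_coe, Finset.mem_filter] at hq
    rw [Finset.mem_coe, hKf, Finset.mem_map]
    exact ⟨⟨_, hq.2.2.2⟩, Finset.mem_univ _, rfl⟩
  rw [Finset.card_eq_sum_card_fiberwise hmaps, hKf, Finset.sum_map]
  push_cast
  apply Finset.sum_congr rfl
  intro h _
  unfold mulCount
  rw [Nat.card_eq_fintype_card, Fintype.card_subtype, Finset.filter_filter]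
  congr 1
  exact (card_fiber_eq hone t ht C hC t' ht' K o ho hKo (h : C) h.2).symm

open Classical in
/-- The size of the class of an involution `s ≠ t` of `P` in the centralizer of `t`. -/
theorem card_class_mul_card_centralizer (P : Subgroup G) (hP : Nat.card P = 4) (t s : G)
    (htP : t ∈ P) (hsP : s ∈ P) (htt : t * t = 1) (ht1 : t ≠ 1) (hs1 : s ≠ 1) (hst : s ≠ t)
    (C : Subgroup G) [Fintype C] (hC : ∀ g : G, g ∈ C ↔ g * t = t * g) (s' : C)
    (hs' : (s' : G) = s) :
    (Finset.univ.filter (fun x : C => IsConj s' x)).card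
        * Nat.card (Subgroup.centralizer (P : Set G)) = Nat.card C := by
  have h0 : (Finset.univ.filter (fun x : C => IsConj s' x)).card
      = (Subgroup.centralizer ({s'} : Set C)).index := by
    rw [← card_class_eq_index s']
    congr!
  have hmap : (Subgroup.centralizer ({s'} : Set C)).map C.subtype
      = Subgroup.centralizer (P : Set G) := by
    ext g
    rw [mem_centralizer_klein P hP t s htP hsP htt ht1 hs1 hst g, Subgroup.mem_map]
    constructor
    · rintro ⟨c, hc, rfl⟩
      refine ⟨(hC c).1 c.2, ?_⟩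
      have := Subgroup.mem_centralizer_singleton_iff.1 hc
      have h2 := congrArg Subtype.val this
      rw [Subgroup.coe_mul, Subgroup.coe_mul, hs'] at h2
      exact h2
    · rintro ⟨h1, h2⟩
      refine ⟨⟨g, (hC g).2 h1⟩, ?_, rfl⟩
      rw [Subgroup.mem_centralizer_singleton_iff]
      apply Subtype.ext
      rw [Subgroup.coe_mul, Subgroup.coe_mul, hs']
      exact h2
  rw [h0, ← Subgroup.index_mul_card (Subgroup.centralizer ({s'} : Set C)), ← hmap,
    Subgroup.card_subtype]

end Cfsg.Agent.Lib.helper3.Block
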