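import Mathlib
import Cfsg.Prelude.Def_Blocks
import Cfsg.Agent.Lib.helper3.KleinOrd2

/-!
# Brauer's order formula for groups with a Klein four Sylow `2`-subgroup: the identity
-/

set_option autoImplicit false
set_option linter.style.haveILetI false
set_option linter.unusedSectionVars false

namespace Cfsg.Agent.Lib.helper3.Block

open Cfsg Module Cfsg.Agent.Lib.helper3.CharBasic Cfsg.Agent.Lib.helper3.Irr
open Cfsg.Agent.Lib.helper3.Central Cfsg.Agent.Lib.helper3.LocalM Cfsg.Agent.Lib.helper3.IndFun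
open Cfsg.Agent.Lib.helper3.Lin Cfsg.Agent.Lib.helper3.HallNilp Cfsg.Agent.Lib.helper3.Klein
open scoped ComplexConjugate

universe u

variable {G : Type u} [Group G] [Fintype G] {M : Ideal AlgInt}

open Classical in
/-- The principal block part of the class multiplication coefficient of an involution with
itself, at the involution. -/
theorem klein_order_identity (hM : IsPModular 2 M) (P : Sylow 2 G) (hP : Nat.card P = 4)
    (hexp : ∀ x : P, x * x = 1)
    (hone : ∀ s t : G, orderOf s = 2 → orderOf t = 2 → IsConj s t) (t : G) (ht : orderOf t = 2)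
    (htP : t ∈ (P : Subgroup G)) :
    ∑ χ : IrrCharacter G, (if χ ∈ principalBlock M G then (1 : ℂ) else 0)
        * (classInner (fun c => mulCount t t c) (χ : G → ℂ) * (χ : G → ℂ) t)
      = 8 * (Nat.card (Subgroup.centralizer ({t} : Set G)) : ℂ)
        / (Nat.card (Subgroup.centralizer ((P : Subgroup G) : Set G)) : ℂ) ^ 2 := by
  haveI hp : Fact (Nat.Prime 2) := ⟨Nat.prime_two⟩
  haveI : Fintype (Subgroup.centralizer ({t} : Set G)) := Fintype.ofFinite _
  have htC : t ∈ Subgroup.centralizer ({t} : Set G) :=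
    Subgroup.mem_centralizer_singleton_iff.mpr rfl
  obtain ⟨K, hKn, hKp, hidx⟩ := exists_normal_complement_of_central_involution
    (G := Subgroup.centralizer ({t} : Set G)) hM ⟨t, htC⟩
    (by rw [Subgroup.orderOf_mk]; exact ht)
    (by
      intro g
      apply Subtype.ext
      push_cast
      exact Subgroup.mem_centralizer_singleton_iff.mp g.2)
    (factorization_two_centralizer P hP hexp t ht)
  haveI := hKn
  haveI : Fintype K := Fintype.ofFinite _
  rw [principal_part_eq_avg hM t 1 (by rw [ht, pow_one]) K hKp 2 hidx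
    (fun c => mulCount t t c) (mulCount_isClassFunction t t)]
  have hC : ∀ g : G, g ∈ Subgroup.centralizer ({t} : Set G) ↔ g * t = t * g :=
    fun g => Subgroup.mem_centralizer_singleton_iff
  have h2K : ¬ 2 ∣ Nat.card K := by
    intro h
    have := Nat.Coprime.eq_one_of_dvd hKp.symm h
    omega
  have hKodd : Odd (Nat.card K) := Nat.odd_iff.2 (by omega)
  have hKo : ∀ k : Subgroup.centralizer ({t} : Set G), k ∈ K → k ^ (Nat.card K) = 1 := by
    intro k hk
    have := pow_card_eq_one' (G := K) (x := ⟨k, hk⟩)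
    have h2 := congrArg Subtype.val this
    rw [Subgroup.coe_pow] at h2
    exact h2
  rw [sum_mulCount_coset hone t ht _ hC ⟨t, htC⟩ rfl K (Nat.card K) hKodd hKo]
  obtain ⟨s, hsP, hs1, hst⟩ := exists_third (P : Subgroup G) hP t
  have htt : t * t = 1 := mul_self_of_orderOf_two ht
  have ht1 : t ≠ 1 := by
    intro h
    rw [h, orderOf_one] at ht
    omega
  have hss : s * s = 1 := by
    have := hexp ⟨s, hsP⟩
    exact congrArg Subtype.val this
  have hos : orderOf s = 2 := orderOf_eq_prime (by rw [pow_two, hss]) hs1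
  have hPcomm : s * t = t * s := by
    have := IsPGroup.commutative_of_card_eq_prime_sq (p := 2) (G := (P : Subgroup G))
      (by rw [hP]; norm_num) ⟨s, hsP⟩ ⟨t, htP⟩
    exact congrArg Subtype.val this
  have hsC : s ∈ Subgroup.centralizer ({t} : Set G) := (hC s).2 hPcomm
  have htinv : t⁻¹ = t := inv_eq_of_mul_eq_one_left htt
  have hu1 : s * t ≠ 1 := by
    intro h
    apply hst
    calc s = s * t * t⁻¹ := by group
      _ = t := by rw [h, one_mul, htinv]
  have hut : s * t ≠ t := by
    intro h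
    apply hs1
    calc s = s * t * t⁻¹ := by group
      _ = 1 := by rw [h, mul_inv_cancel]
  rw [card_involution_pairs (H := Subgroup.centralizer ({t} : Set G)) ⟨t, htC⟩ ⟨s, hsC⟩
    (by rw [Subgroup.orderOf_mk]; exact ht)
    (by
      intro g
      apply Subtype.ext
      push_cast
      exact Subgroup.mem_centralizer_singleton_iff.mp g.2)
    (by rw [Subgroup.orderOf_mk]; exact hos)
    (by
      intro h
      exact hst (congrArg Subtype.val h))
    K hKodd (by rw [hidx]; norm_num)]
  have hc1 := card_class_mul_card_centralizer (P : Subgroup G) hP t s htP hsP htt ht1 hs1 hst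
    (Subgroup.centralizer ({t} : Set G)) hC ⟨s, hsC⟩ rfl
  have hc2 := card_class_mul_card_centralizer (P : Subgroup G) hP t (s * t) htP
    (Subgroup.mul_mem _ hsP htP) htt ht1 hu1 hut
    (Subgroup.centralizer ({t} : Set G)) hC
    ((⟨s, hsC⟩ : Subgroup.centralizer ({t} : Set G)) * ⟨t, htC⟩) rfl
  have hK4 : 4 * Nat.card K = Nat.card (Subgroup.centralizer ({t} : Set G)) := by
    have := Subgroup.index_mul_card K
    rw [hidx] at this
    have h4 : (2 : ℕ) ^ 2 = 4 := by norm_num
    rw [h4] at this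
    exact this
  obtain ⟨cP, hcP⟩ : ∃ cP : ℕ, cP = Nat.card (Subgroup.centralizer ((P : Subgroup G) : Set G)) :=
    ⟨_, rfl⟩
  obtain ⟨cC, hcC⟩ : ∃ cC : ℕ, cC = Nat.card (Subgroup.centralizer ({t} : Set G)) := ⟨_, rfl⟩
  obtain ⟨k, hk⟩ : ∃ k : ℕ, k = Nat.card K := ⟨_, rfl⟩
  rw [← hcP, ← hcC] at hc1 hc2
  rw [← hk, ← hcC] at hK4
  rw [← hcP, ← hcC, ← hk]
  have hcP0 : (cP : ℂ) ≠ 0 := by
    have : cP ≠ 0 := by rw [hcP]; exact Nat.card_pos.ne'
    exact_mod_cast this
  have hk0 : (k : ℂ) ≠ 0 := by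
    have : k ≠ 0 := by rw [hk]; exact Nat.card_pos.ne'
    exact_mod_cast this
  have key : ∀ a b : ℕ, a * cP = cC → b * cP = cC →
      (k : ℂ)⁻¹ * ((2 * (a * b) : ℕ) : ℂ) = 8 * (cC : ℂ) / (cP : ℂ) ^ 2 := by
    intro a b h1 h2
    have e1 : (a : ℂ) * (cP : ℂ) = (cC : ℂ) := by exact_mod_cast h1
    have e2 : (b : ℂ) * (cP : ℂ) = (cC : ℂ) := by exact_mod_cast h2
    have e3 : 4 * (k : ℂ) = (cC : ℂ) := by exact_mod_cast hK4
    push_cast
    rw [← e3]
    field_simp
    have e4 : (a : ℂ) * (b : ℂ) * ((cP : ℂ) * (cP : ℂ)) = (4 * (k : ℂ)) * (4 * (k : ℂ)) := by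
      rw [e3]
      calc (a : ℂ) * (b : ℂ) * ((cP : ℂ) * (cP : ℂ))
          = ((a : ℂ) * (cP : ℂ)) * ((b : ℂ) * (cP : ℂ)) := by ring
        _ = (cC : ℂ) * (cC : ℂ) := by rw [e1, e2]
    linear_combination 2 * e4
  apply key
  · convert hc1 using 2
    congr!
  · convert hc2 using 2
    congr!

end Cfsg.Agent.Lib.helper3.Block
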