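import Mathlib
import Cfsg.Prelude.Def_Blocks
import Cfsg.Agent.Lib.helper3.KleinOrd3
import Cfsg.Agent.Lib.helper3.KleinGrp1
import Cfsg.Agent.Lib.helper3.SecMain5

/-!
# Brauer's order formula for groups with a Klein four Sylow `2`-subgroup
-/

set_option autoImplicit false
set_option linter.style.haveILetI false
set_option linter.unusedSectionVars false

namespace Cfsg.Agent.Lib.helper3.Block

open Cfsg Module Cfsg.Agent.Lib.helper3.CharBasic Cfsg.Agent.Lib.helper3.Irr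
open Cfsg.Agent.Lib.helper3.Central Cfsg.Agent.Lib.helper3.LocalM Cfsg.Agent.Lib.helper3.IndFun
open Cfsg.Agent.Lib.helper3.Lin Cfsg.Agent.Lib.helper3.HallNilp Cfsg.Agent.Lib.helper3.Klein
open scoped ComplexConjugate

universe u

open Classical in
theorem sum_ite_quad {α : Type*} [Fintype α] (S : Set α) (a b c d : α) (hab : a ≠ b)
    (hac : a ≠ c) (had : a ≠ d) (hbc : b ≠ c) (hbd : b ≠ d) (hcd : c ≠ d)
    (hS : ∀ x, x ∈ S ↔ x = a ∨ x = b ∨ x = c ∨ x = d) (f : α → ℂ) :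
    ∑ ψ : α, (if ψ ∈ S then (1 : ℂ) else 0) * f ψ = f a + f b + f c + f d := by
  have h1 : ∀ ψ : α, (if ψ ∈ S then (1 : ℂ) else 0) * f ψ
      = (if ψ = a then f a else 0) + (if ψ = b then f b else 0)
        + (if ψ = c then f c else 0) + (if ψ = d then f d else 0) := by
    intro ψ
    by_cases h1 : ψ = a
    · have hm : ψ ∈ S := (hS ψ).2 (Or.inl h1)
      rw [if_pos hm, if_pos h1, if_neg (by rw [h1]; exact hab), if_neg (by rw [h1]; exact hac),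
        if_neg (by rw [h1]; exact had), h1]
      ring
    · by_cases h2 : ψ = b
      · have hm : ψ ∈ S := (hS ψ).2 (Or.inr (Or.inl h2))
        rw [if_pos hm, if_neg h1, if_pos h2, if_neg (by rw [h2]; exact hbc),
          if_neg (by rw [h2]; exact hbd), h2]
        ring
      · by_cases h3 : ψ = c
        · have hm : ψ ∈ S := (hS ψ).2 (Or.inr (Or.inr (Or.inl h3)))
          rw [if_pos hm, if_neg h1, if_neg h2, if_pos h3, if_neg (by rw [h3]; exact hcd), h3]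
          ring
        · by_cases h4 : ψ = d
          · have hm : ψ ∈ S := (hS ψ).2 (Or.inr (Or.inr (Or.inr h4)))
            rw [if_pos hm, if_neg h1, if_neg h2, if_neg h3, if_pos h4, h4]
            ring
          · have hm : ψ ∉ S := by
              intro h
              rcases (hS ψ).1 h with h | h | h | h
              · exact h1 h
              · exact h2 h
              · exact h3 h
              · exact h4 h
            rw [if_neg hm, if_neg h1, if_neg h2, if_neg h3, if_neg h4]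
            ring
  simp_rw [h1]
  rw [Finset.sum_add_distrib, Finset.sum_add_distrib, Finset.sum_add_distrib,
    Finset.sum_ite_eq', Finset.sum_ite_eq', Finset.sum_ite_eq', Finset.sum_ite_eq']
  simp

variable {G : Type u} [Group G] [Fintype G] {M : Ideal AlgInt}

open Classical in
/-- **Brauer's order formula** (complex form). -/
theorem klein_order_formula (hM : IsPModular 2 M) (P : Sylow 2 G) (hP : Nat.card P = 4)
    (hexp : ∀ x : P, x * x = 1)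
    (hone : ∀ s t : G, orderOf s = 2 → orderOf t = 2 → IsConj s t) (J : G)
    (hJ : J ∈ (P : Subgroup G)) (hJ2 : orderOf J = 2) (χ₁ χ₂ χ₃ : IrrCharacter G)
    (ε₁ ε₂ ε₃ : ℤ)
    (hB : principalBlock M G = {χ : IrrCharacter G | (χ : G → ℂ) = (fun _ => 1)
      ∨ χ = χ₁ ∨ χ = χ₂ ∨ χ = χ₃})
    (hdist : (χ₁ : G → ℂ) ≠ (fun _ => 1) ∧ (χ₂ : G → ℂ) ≠ (fun _ => 1)
      ∧ (χ₃ : G → ℂ) ≠ (fun _ => 1) ∧ χ₁ ≠ χ₂ ∧ χ₁ ≠ χ₃ ∧ χ₂ ≠ χ₃)
    (hε : (ε₁ = 1 ∨ ε₁ = -1) ∧ (ε₂ = 1 ∨ ε₂ = -1) ∧ (ε₃ = 1 ∨ ε₃ = -1))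
    (hval : (χ₁ : G → ℂ) J = ε₁ ∧ (χ₂ : G → ℂ) J = ε₂ ∧ (χ₃ : G → ℂ) J = ε₃) :
    1 + (ε₁ : ℂ) * (charDegree (χ₁ : G → ℂ) : ℂ) + (ε₂ : ℂ) * (charDegree (χ₂ : G → ℂ) : ℂ)
        + (ε₃ : ℂ) * (charDegree (χ₃ : G → ℂ) : ℂ) = 0 ∧
    ((charDegree (χ₁ : G → ℂ) : ℂ) + ε₁) * ((charDegree (χ₂ : G → ℂ) : ℂ) + ε₂)
        * ((charDegree (χ₃ : G → ℂ) : ℂ) + ε₃) ≠ 0 ∧
    (Nat.card G : ℂ) = 8 * (((charDegree (χ₁ : G → ℂ) : ℂ) * charDegree (χ₂ : G → ℂ)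
        * charDegree (χ₃ : G → ℂ))
        / (((charDegree (χ₁ : G → ℂ) : ℂ) + ε₁) * ((charDegree (χ₂ : G → ℂ) : ℂ) + ε₂)
          * ((charDegree (χ₃ : G → ℂ) : ℂ) + ε₃)))
        * (Nat.card (Subgroup.centralizer ({J} : Set G)) : ℂ) ^ 3
        / (Nat.card (Subgroup.centralizer ((P : Subgroup G) : Set G)) : ℂ) ^ 2 := by
  haveI hp : Fact (Nat.Prime 2) := ⟨Nat.prime_two⟩
  haveI hMp := isPrime_of_isPModular hM
  have hMtop : M ≠ ⊤ := hM.2.1.ne_top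
  obtain ⟨h1f, h2f, h3f, h12, h13, h23⟩ := hdist
  obtain ⟨hv1, hv2, hv3⟩ := hval
  obtain ⟨he1, he2, he3⟩ := hε
  obtain ⟨χ₀, hχ₀⟩ : ∃ χ₀ : IrrCharacter G, χ₀ = Cfsg.Agent.Lib.helper3.PrincOnly.one G :=
    ⟨_, rfl⟩
  have hχ₀coe : (χ₀ : G → ℂ) = fun _ => (1 : ℂ) := by rw [hχ₀]; rfl
  have h01 : χ₀ ≠ χ₁ := by
    intro h
    apply h1f
    rw [← h, hχ₀coe]
  have h02 : χ₀ ≠ χ₂ := by
    intro h
    apply h2f
    rw [← h, hχ₀coe]
  have h03 : χ₀ ≠ χ₃ := by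
    intro h
    apply h3f
    rw [← h, hχ₀coe]
  have hS : ∀ χ : IrrCharacter G, χ ∈ principalBlock M G
      ↔ χ = χ₀ ∨ χ = χ₁ ∨ χ = χ₂ ∨ χ = χ₃ := by
    intro χ
    rw [hB, Set.mem_setOf_eq]
    constructor
    · rintro (h | h | h | h)
      · left
        apply Subtype.ext
        rw [h, hχ₀coe]
      · right; left; exact h
      · right; right; left; exact h
      · right; right; right; exact h
    · rintro (h | h | h | h)
      · left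
        rw [h, hχ₀coe]
      · right; left; exact h
      · right; right; left; exact h
      · right; right; right; exact h
  have hBG : IsPBlock M (principalBlock M G) := ⟨Cfsg.Agent.Lib.helper3.PrincOnly.one G, rfl⟩
  -- the degrees
  obtain ⟨x₁, hx₁⟩ : ∃ x₁ : ℕ, x₁ = charDegree (χ₁ : G → ℂ) := ⟨_, rfl⟩
  obtain ⟨x₂, hx₂⟩ : ∃ x₂ : ℕ, x₂ = charDegree (χ₂ : G → ℂ) := ⟨_, rfl⟩
  obtain ⟨x₃, hx₃⟩ : ∃ x₃ : ℕ, x₃ = charDegree (χ₃ : G → ℂ) := ⟨_, rfl⟩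
  have hd1 : (χ₁ : G → ℂ) 1 = (x₁ : ℂ) := by rw [hx₁]; exact apply_one_eq_charDegree χ₁
  have hd2 : (χ₂ : G → ℂ) 1 = (x₂ : ℂ) := by rw [hx₂]; exact apply_one_eq_charDegree χ₂
  have hd3 : (χ₃ : G → ℂ) 1 = (x₃ : ℂ) := by rw [hx₃]; exact apply_one_eq_charDegree χ₃
  have hx₁0 : (x₁ : ℂ) ≠ 0 := by
    rw [hx₁]
    exact_mod_cast charDegree_ne_zero χ₁
  have hx₂0 : (x₂ : ℂ) ≠ 0 := by
    rw [hx₂]
    exact_mod_cast charDegree_ne_zero χ₂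
  have hx₃0 : (x₃ : ℂ) ≠ 0 := by
    rw [hx₃]
    exact_mod_cast charDegree_ne_zero χ₃
  rw [← hx₁, ← hx₂, ← hx₃]
  have hsq1 : (ε₁ : ℂ) * (ε₁ : ℂ) = 1 := by
    rcases he1 with h | h <;> rw [h] <;> norm_num
  have hsq2 : (ε₂ : ℂ) * (ε₂ : ℂ) = 1 := by
    rcases he2 with h | h <;> rw [h] <;> norm_num
  have hsq3 : (ε₃ : ℂ) * (ε₃ : ℂ) = 1 := by
    rcases he3 with h | h <;> rw [h] <;> norm_num
  have hJ1 : J ≠ 1 := by
    intro h
    rw [h, orderOf_one] at hJ2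
    omega
  -- orthogonality
  have horth : 1 + (ε₁ : ℂ) * (x₁ : ℂ) + (ε₂ : ℂ) * (x₂ : ℂ) + (ε₃ : ℂ) * (x₃ : ℂ) = 0 := by
    have h1 := block_orthogonality hM (principalBlock M G) hBG J 1 J 1
      ⟨1, mul_one J, Commute.one_right J, ⟨1, by rw [hJ2, pow_one]⟩,
        by rw [orderOf_one]; norm_num⟩
      ⟨1, mul_one 1, Commute.one_right 1, ⟨0, by rw [orderOf_one, pow_zero]⟩,
        by rw [orderOf_one]; norm_num⟩
      (by
        intro hc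
        exact hJ1 (isConj_one_left.1 hc))
    rw [sum_ite_quad (principalBlock M G) χ₀ χ₁ χ₂ χ₃ h01 h02 h03 h12 h13 h23 hS, inv_one,
      hd1, hd2, hd3, hv1, hv2, hv3, hχ₀coe] at h1
    linear_combination h1
  -- the denominators
  obtain ⟨e, he, he4, -, -⟩ := klein_values hM P hP hexp hone J hJ2
  have hne : ∀ (χ : IrrCharacter G) (ε : ℤ), (ε = 1 ∨ ε = -1) → (χ : G → ℂ) J = (ε : ℂ) →
      (charDegree (χ : G → ℂ) : ℂ) + (ε : ℂ) ≠ 0 := by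
    intro χ ε hε hv h0
    have h1 : e χ = ε := by
      have := he χ
      rw [hv] at this
      exact_mod_cast this.symm
    have h2 := he4 χ
    rw [h1] at h2
    have h3 : ((charDegree (χ : G → ℂ) : ℕ) : ℤ) + ε = 0 := by exact_mod_cast h0
    obtain ⟨m, hm⟩ := h2
    rcases hε with h | h <;> rw [h] at h3 hm <;> omega
  have hn1 : (x₁ : ℂ) + (ε₁ : ℂ) ≠ 0 := by rw [hx₁]; exact hne χ₁ ε₁ he1 hv1
  have hn2 : (x₂ : ℂ) + (ε₂ : ℂ) ≠ 0 := by rw [hx₂]; exact hne χ₂ ε₂ he2 hv2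
  have hn3 : (x₃ : ℂ) + (ε₃ : ℂ) ≠ 0 := by rw [hx₃]; exact hne χ₃ ε₃ he3 hv3
  refine ⟨horth, mul_ne_zero (mul_ne_zero hn1 hn2) hn3, ?_⟩
  -- the identity
  have hid := klein_order_identity hM P hP hexp hone J hJ2 hJ
  rw [sum_ite_quad (principalBlock M G) χ₀ χ₁ χ₂ χ₃ h01 h02 h03 h12 h13 h23 hS,
    classInner_mulCount J J χ₀.2, classInner_mulCount J J χ₁.2, classInner_mulCount J J χ₂.2,
    classInner_mulCount J J χ₃.2, hd1, hd2, hd3, hv1, hv2, hv3, hχ₀coe] at hid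
  simp only [map_mul, map_div₀, Complex.conj_natCast, map_one, map_intCast] at hid
  -- the class size
  obtain ⟨cl, hcl⟩ : ∃ cl : ℕ, cl = (cls J).card := ⟨_, rfl⟩
  obtain ⟨c, hc⟩ : ∃ c : ℕ, c = Nat.card (Subgroup.centralizer ({J} : Set G)) := ⟨_, rfl⟩
  obtain ⟨pc, hpc⟩ : ∃ pc : ℕ, pc = Nat.card (Subgroup.centralizer ((P : Subgroup G) : Set G)) :=
    ⟨_, rfl⟩
  obtain ⟨g, hg⟩ : ∃ g : ℕ, g = Nat.card G := ⟨_, rfl⟩
  have hclc : cl * c = g := by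
    rw [hcl, hc, hg]
    have h1 : (cls J).card = (Subgroup.centralizer ({J} : Set G)).index := by
      rw [← card_class_eq_index J]
      unfold cls
      congr!
    rw [h1]
    exact Subgroup.index_mul_card _
  rw [← hcl, ← hc, ← hpc, ← hg] at hid
  rw [← hc, ← hpc, ← hg]
  have hclcC : (cl : ℂ) * (c : ℂ) = (g : ℂ) := by exact_mod_cast hclc
  have hc0 : (c : ℂ) ≠ 0 := by
    have : c ≠ 0 := by rw [hc]; exact Nat.card_pos.ne'
    exact_mod_cast this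
  have hpc0 : (pc : ℂ) ≠ 0 := by
    have : pc ≠ 0 := by rw [hpc]; exact Nat.card_pos.ne'
    exact_mod_cast this
  have hg0 : (g : ℂ) ≠ 0 := by
    have : g ≠ 0 := by rw [hg]; exact Nat.card_pos.ne'
    exact_mod_cast this
  have hcl0 : (cl : ℂ) ≠ 0 := by
    intro h
    rw [h, zero_mul] at hclcC
    exact hg0 hclcC.symm
  -- clear denominators
  have hprod : ((x₁ : ℂ) + ε₁) * ((x₂ : ℂ) + ε₂) * ((x₃ : ℂ) + ε₃)
      = (x₁ : ℂ) * x₂ * x₃ + ε₁ * x₂ * x₃ + ε₂ * x₁ * x₃ + ε₃ * x₁ * x₂ := by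
    linear_combination ((ε₁ : ℂ) * ε₂ * ε₃) * horth - ((ε₂ : ℂ) * ε₃ * x₁) * hsq1
      - ((ε₁ : ℂ) * ε₃ * x₂) * hsq2 - ((ε₁ : ℂ) * ε₂ * x₃) * hsq3
  have hid2 : (cl : ℂ) * (cl : ℂ) * ((x₁ : ℂ) * x₂ * x₃ + ε₁ * x₂ * x₃ + ε₂ * x₁ * x₃
      + ε₃ * x₁ * x₂) * ((pc : ℂ) * (pc : ℂ)) = 8 * (c : ℂ) * (g : ℂ) * ((x₁ : ℂ) * x₂ * x₃) := by
    field_simp at hid
    linear_combination hid - ((cl : ℂ) * cl * pc * pc * ε₁ * x₂ * x₃) * hsq1
      - ((cl : ℂ) * cl * pc * pc * ε₂ * x₁ * x₃) * hsq2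
      - ((cl : ℂ) * cl * pc * pc * ε₃ * x₁ * x₂) * hsq3
  rw [← hprod] at hid2
  rw [← hclcC] at hid2 ⊢
  have hid3 : ((x₁ : ℂ) + ε₁) * ((x₂ : ℂ) + ε₂) * ((x₃ : ℂ) + ε₃) * (cl : ℂ) * ((pc : ℂ) * (pc : ℂ))
      = 8 * (c : ℂ) * (c : ℂ) * ((x₁ : ℂ) * x₂ * x₃) := by
    apply mul_left_cancel₀ hcl0
    linear_combination hid2
  have hden : ((x₁ : ℂ) + ε₁) * ((x₂ : ℂ) + ε₂) * ((x₃ : ℂ) + ε₃) ≠ 0 :=
    mul_ne_zero (mul_ne_zero hn1 hn2) hn3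
  field_simp
  linear_combination hid3

end Cfsg.Agent.Lib.helper3.Block
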