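import Mathlib
import Cfsg.Prelude.Def_Blocks
import Cfsg.Agent.Lib.helper3.KleinOrd4
import Cfsg.Agent.Lib.helper3.FrobSchur
import Cfsg.Agent.Lib.helper3.Irr9
import Cfsg.Agent.Lib.helper3.Irr13

/-!
# The square root counting function and the principal block
-/

set_option autoImplicit false
set_option linter.style.haveILetI false
set_option linter.unusedSectionVars false

namespace Cfsg.Agent.Lib.helper3.Block

open Cfsg Module Cfsg.Agent.Lib.helper3.CharBasic Cfsg.Agent.Lib.helper3.Irr
open Cfsg.Agent.Lib.helper3.Central Cfsg.Agent.Lib.helper3.LocalM Cfsg.Agent.Lib.helper3.IndFun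
open Cfsg.Agent.Lib.helper3.Lin Cfsg.Agent.Lib.helper3.HallNilp Cfsg.Agent.Lib.helper3.Klein
open scoped ComplexConjugate

universe u

variable {G : Type u} [Group G] [Fintype G] {M : Ideal AlgInt}

open Classical in
/-- The number of square roots of an element. -/
noncomputable def sqrtCount (g : G) : ℂ := ∑ h : G, if h * h = g then (1 : ℂ) else 0

open Classical in
theorem sqrtCount_isClassFunction : IsClassFunction G (sqrtCount (G := G)) := by
  intro g c
  unfold sqrtCount
  apply Fintype.sum_equiv (MulAut.conj c⁻¹).toEquiv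
  intro h
  have h1 : (MulAut.conj c⁻¹).toEquiv h = c⁻¹ * h * c := by
    simp [MulAut.conj_apply]
  rw [h1]
  have h2 : (h * h = c * g * c⁻¹) ↔ (c⁻¹ * h * c * (c⁻¹ * h * c) = g) := by
    constructor
    · intro h3
      calc c⁻¹ * h * c * (c⁻¹ * h * c) = c⁻¹ * (h * h) * c := by group
        _ = g := by rw [h3]; group
    · intro h3
      calc h * h = c * (c⁻¹ * h * c * (c⁻¹ * h * c)) * c⁻¹ := by group
        _ = c * g * c⁻¹ := by rw [h3]
  by_cases h4 : h * h = c * g * c⁻¹
  · rw [if_pos h4, if_pos (h2.1 h4)]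
  · rw [if_neg h4, if_neg (fun h5 => h4 (h2.2 h5))]

open Classical in
/-- The coefficients of the square root counting function: the Frobenius–Schur indicators. -/
theorem classInner_sqrtCount (χ : IrrCharacter G) :
    ∃ ν : ℤ, (ν = 0 ∨ ν = 1 ∨ ν = -1) ∧ classInner (sqrtCount (G := G)) (χ : G → ℂ) = (ν : ℂ) ∧
      (ν = 0 → ∃ s : G, ((χ : G → ℂ) s).im ≠ 0) ∧ (ν = -1 → Even (charDegree (χ : G → ℂ))) := by
  obtain ⟨d, ρ, hirr, hρ⟩ := χ.2
  haveI := hirr
  obtain ⟨c, hc, hν, hiff, heven⟩ := Cfsg.Agent.Lib.helper3.FS.fs_main ρ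
  have hdeg : charDegree (χ : G → ℂ) = d := by
    apply charDegree_eq
    rw [← hρ, Representation.char_one]
    simp
  have hcreal : conj c = c := by
    rcases hc with h | h | h <;> rw [h] <;> simp
  have hinner : classInner (sqrtCount (G := G)) (χ : G → ℂ) = c := by
    rw [classInner_apply, ← hcreal, ← hν, map_mul, map_inv₀, Complex.conj_natCast, map_sum]
    congr 1
    unfold sqrtCount
    simp_rw [Finset.sum_mul]
    rw [Finset.sum_comm]
    apply Finset.sum_congr rfl
    intro h _
    simp_rw [ite_mul, one_mul, zero_mul]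
    rw [Finset.sum_ite_eq Finset.univ (h * h), if_pos (Finset.mem_univ _), hρ]
  rcases hc with h | h | h
  · refine ⟨0, Or.inl rfl, by rw [hinner, h]; simp, ?_, by intro h0; omega⟩
    intro _
    obtain ⟨s, hs⟩ := hiff.1 h
    exact ⟨s, by rw [← hρ]; exact hs⟩
  · refine ⟨1, Or.inr (Or.inl rfl), by rw [hinner, h]; simp, by intro h0; omega,
      by intro h0; omega⟩
  · refine ⟨-1, Or.inr (Or.inr rfl), by rw [hinner, h]; simp, by intro h0; omega, ?_⟩
    intro _
    rw [hdeg]
    exact heven h

/-- The principal block is closed under complex conjugation. -/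
theorem conj_mem_principalBlock (χ : IrrCharacter G) (hχ : χ ∈ principalBlock M G) :
    (⟨fun g => conj ((χ : G → ℂ) g), isIrrCharacter_conj χ.2⟩ : IrrCharacter G)
      ∈ principalBlock M G := by
  intro g
  have h1 := hχ g⁻¹
  have hidx : (Subgroup.centralizer ({g⁻¹} : Set G)).index
      = (Subgroup.centralizer ({g} : Set G)).index := by
    congr 1
    ext h
    rw [Subgroup.mem_centralizer_singleton_iff, Subgroup.mem_centralizer_singleton_iff]
    constructor
    · intro h2
      calc h * g = g * (g⁻¹ * h) * g := by group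
        _ = g * (h * g⁻¹) * g := by rw [h2]
        _ = g * h := by group
    · intro h2
      calc h * g⁻¹ = g⁻¹ * (g * h) * g⁻¹ := by group
        _ = g⁻¹ * (h * g) * g⁻¹ := by rw [h2]
        _ = g⁻¹ * h := by group
  have hχc := isCharacter_of_isIrrCharacter χ.2
  have e1 : centralChar (fun _ : G => (1 : ℂ)) g = centralChar (fun _ : G => (1 : ℂ)) g⁻¹ := by
    unfold centralChar
    rw [hidx]
  have e2 : centralChar (fun g => conj ((χ : G → ℂ) g)) g = centralChar (χ : G → ℂ) g⁻¹ := by
    unfold centralChar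
    rw [hidx, isCharacter_apply_inv hχc g]
    congr 1
    obtain ⟨d, _, hd⟩ := exists_pos_nat_apply_one χ.2
    show conj ((χ : G → ℂ) 1) = (χ : G → ℂ) 1
    rw [hd, Complex.conj_natCast]
  show MemLocalIdeal M (centralChar (fun _ : G => (1 : ℂ)) g
    - centralChar (fun g => conj ((χ : G → ℂ) g)) g)
  rw [e1, e2]
  exact h1

end Cfsg.Agent.Lib.helper3.Block
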