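import Mathlib
import Cfsg.Prelude.Def_Blocks
import Cfsg.Agent.Lib.helper3.KleinFS1

/-!
# Klein four Sylow `2`-subgroups: the two characters of the principal block with value `1` at
the involutions are complex conjugates
-/

set_option autoImplicit false
set_option linter.style.haveILetI false
set_option linter.unusedSectionVars false

namespace Cfsg.Agent.Lib.helper3.Block

open Cfsg Module Cfsg.Agent.Lib.helper3.CharBasic Cfsg.Agent.Lib.helper3.Irr
open Cfsg.Agent.Lib.helper3.Central Cfsg.Agent.Lib.helper3.LocalM Cfsg.Agent.Lib.helper3.IndFun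
open Cfsg.Agent.Lib.helper3.Lin Cfsg.Agent.Lib.helper3.HallNilp Cfsg.Agent.Lib.helper3.Klein
open scoped ComplexConjugate

universe u

variable {G : Type u} [Group G] [Fintype G] {M : Ideal AlgInt}

open Classical in
/-- No element squares into the coset `J K` of an involution. -/
theorem sqrtCount_coset_eq_zero (P : Sylow 2 G) (hexp : ∀ x : P, x * x = 1) (J h : G)
    (hJ2 : orderOf J = 2) (hJh : J * h = h * J) (o : ℕ) (ho : Odd o) (hh : h ^ o = 1) :
    sqrtCount (J * h) = 0 := by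
  unfold sqrtCount
  apply Finset.sum_eq_zero
  intro g _
  rw [if_neg]
  intro hg
  have hJJ : J * J = 1 := mul_self_of_orderOf_two hJ2
  have hJ1 : J ≠ 1 := by
    intro h0
    rw [h0, orderOf_one] at hJ2
    omega
  have hJo : J ^ o = J := by
    obtain ⟨j, hj⟩ := ho
    rw [hj, pow_succ, pow_mul, pow_two, hJJ, one_pow, one_mul]
  have h1 : g ^ o * g ^ o = J := by
    have hc : Commute J h := hJh
    rw [← (Commute.refl g).mul_pow, hg, hc.mul_pow, hh, mul_one, hJo]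
  have h2 : (g ^ o) ^ 4 = 1 := by
    have h0 : (g ^ o) ^ 4 = (g ^ o * g ^ o) * (g ^ o * g ^ o) := by
      rw [show 4 = 2 + 2 by norm_num, pow_add, pow_two]
    rw [h0, h1, hJJ]
  have h3 : orderOf (g ^ o) ∣ 2 ^ 2 := by
    norm_num
    exact orderOf_dvd_of_pow_eq_one h2
  obtain ⟨k, -, hk⟩ := (Nat.dvd_prime_pow Nat.prime_two).1 h3
  have h4 := sq_eq_one_of_two_element P hexp (g ^ o) ⟨k, hk⟩
  rw [h1] at h4
  exact hJ1 h4

/-- The list of the principal block. -/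
theorem klein_block_list (χ₁ χ₂ χ₃ : IrrCharacter G)
    (hB : principalBlock M G = {χ : IrrCharacter G | (χ : G → ℂ) = (fun _ => 1)
      ∨ χ = χ₁ ∨ χ = χ₂ ∨ χ = χ₃})
    (hdist : (χ₁ : G → ℂ) ≠ (fun _ => 1) ∧ (χ₂ : G → ℂ) ≠ (fun _ => 1)
      ∧ (χ₃ : G → ℂ) ≠ (fun _ => 1) ∧ χ₁ ≠ χ₂ ∧ χ₁ ≠ χ₃ ∧ χ₂ ≠ χ₃) :
    ∃ χ₀ : IrrCharacter G, ((χ₀ : G → ℂ) = fun _ => (1 : ℂ)) ∧ χ₀ ≠ χ₁ ∧ χ₀ ≠ χ₂ ∧ χ₀ ≠ χ₃ ∧
      ∀ χ : IrrCharacter G, χ ∈ principalBlock M G ↔ χ = χ₀ ∨ χ = χ₁ ∨ χ = χ₂ ∨ χ = χ₃ := by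
  obtain ⟨h1f, h2f, h3f, h12, h13, h23⟩ := hdist
  obtain ⟨χ₀, hχ₀⟩ : ∃ χ₀ : IrrCharacter G, χ₀ = Cfsg.Agent.Lib.helper3.PrincOnly.one G :=
    ⟨_, rfl⟩
  have hχ₀coe : (χ₀ : G → ℂ) = fun _ => (1 : ℂ) := by rw [hχ₀]; rfl
  refine ⟨χ₀, hχ₀coe, ?_, ?_, ?_, ?_⟩
  · intro h
    apply h1f
    rw [← h, hχ₀coe]
  · intro h
    apply h2f
    rw [← h, hχ₀coe]
  · intro h
    apply h3f
    rw [← h, hχ₀coe]
  · intro χ
    rw [hB, Set.mem_setOf_eq]
    constructor
    · rintro (h | h | h | h)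
      · left
        apply Subtype.ext
        rw [h, hχ₀coe]
      · right; left; exact h
      · right; right; left; exact h
      · right; right; right; exact h
    · rintro (h | h | h | h)
      · left
        rw [h, hχ₀coe]
      · right; left; exact h
      · right; right; left; exact h
      · right; right; right; exact h

open Classical in
/-- The two characters with value `1` at the involutions have the same degree. -/
theorem klein_degrees_eq (hM : IsPModular 2 M) (P : Sylow 2 G) (hP : Nat.card P = 4)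
    (hexp : ∀ x : P, x * x = 1)
    (hone : ∀ s t : G, orderOf s = 2 → orderOf t = 2 → IsConj s t) (J : G)
    (hJ : J ∈ (P : Subgroup G)) (hJ2 : orderOf J = 2) (χ₁ χ₂ χ₃ : IrrCharacter G)
    (hB : principalBlock M G = {χ : IrrCharacter G | (χ : G → ℂ) = (fun _ => 1)
      ∨ χ = χ₁ ∨ χ = χ₂ ∨ χ = χ₃})
    (hdist : (χ₁ : G → ℂ) ≠ (fun _ => 1) ∧ (χ₂ : G → ℂ) ≠ (fun _ => 1)
      ∧ (χ₃ : G → ℂ) ≠ (fun _ => 1) ∧ χ₁ ≠ χ₂ ∧ χ₁ ≠ χ₃ ∧ χ₂ ≠ χ₃)
    (hv1 : (χ₁ : G → ℂ) J = 1) (hv2 : (χ₂ : G → ℂ) J = 1) (hv3 : (χ₃ : G → ℂ) J = -1) :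
    charDegree (χ₁ : G → ℂ) = charDegree (χ₂ : G → ℂ) := by
  haveI hp : Fact (Nat.Prime 2) := ⟨Nat.prime_two⟩
  obtain ⟨χ₀, hχ₀coe, h01, h02, h03, hS⟩ := klein_block_list χ₁ χ₂ χ₃ hB hdist
  obtain ⟨h1f, h2f, h3f, h12, h13, h23⟩ := hdist
  haveI : Fintype (Subgroup.centralizer ({J} : Set G)) := Fintype.ofFinite _
  have hJC : J ∈ Subgroup.centralizer ({J} : Set G) :=
    Subgroup.mem_centralizer_singleton_iff.mpr rfl
  obtain ⟨K, hKn, hKp, hidx⟩ := exists_normal_complement_of_central_involution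
    (G := Subgroup.centralizer ({J} : Set G)) hM ⟨J, hJC⟩
    (by rw [Subgroup.orderOf_mk]; exact hJ2)
    (by
      intro g
      apply Subtype.ext
      push_cast
      exact Subgroup.mem_centralizer_singleton_iff.mp g.2)
    (factorization_two_centralizer P hP hexp J hJ2)
  haveI := hKn
  haveI : Fintype K := Fintype.ofFinite _
  have h2K : ¬ 2 ∣ Nat.card K := by
    intro h
    have := Nat.Coprime.eq_one_of_dvd hKp.symm h
    omega
  have hKodd : Odd (Nat.card K) := Nat.odd_iff.2 (by omega)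
  have hL1 := principal_part_eq_avg hM J 1 (by rw [hJ2, pow_one]) K hKp 2 hidx
    (sqrtCount (G := G)) sqrtCount_isClassFunction
  have hzero : ∑ h : K, sqrtCount (J * ((h : Subgroup.centralizer ({J} : Set G)) : G)) = 0 := by
    apply Finset.sum_eq_zero
    intro h _
    apply sqrtCount_coset_eq_zero P hexp J _ hJ2
      (Subgroup.mem_centralizer_singleton_iff.mp (h : Subgroup.centralizer ({J} : Set G)).2).symm
      (Nat.card K) hKodd
    have := pow_card_eq_one' (G := K) (x := h)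
    have h2 := congrArg (fun z : K => (z : Subgroup.centralizer ({J} : Set G))) this
    simp only [Subgroup.coe_pow, Subgroup.coe_one] at h2
    have h3 := congrArg (fun z : Subgroup.centralizer ({J} : Set G) => (z : G)) h2
    simp only [Subgroup.coe_pow, Subgroup.coe_one] at h3
    exact h3
  rw [hzero, mul_zero,
    sum_ite_quad (principalBlock M G) χ₀ χ₁ χ₂ χ₃ h01 h02 h03 h12 h13 h23 hS] at hL1
  obtain ⟨ν₀, hν₀c, hν₀, hν₀im, hν₀ev⟩ := classInner_sqrtCount χ₀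
  obtain ⟨ν₁, hν₁c, hν₁, hν₁im, hν₁ev⟩ := classInner_sqrtCount χ₁
  obtain ⟨ν₂, hν₂c, hν₂, hν₂im, hν₂ev⟩ := classInner_sqrtCount χ₂
  obtain ⟨ν₃, hν₃c, hν₃, hν₃im, hν₃ev⟩ := classInner_sqrtCount χ₃
  rw [hν₀, hν₁, hν₂, hν₃, hv1, hv2, hv3, hχ₀coe] at hL1
  have heq : ν₀ + ν₁ + ν₂ - ν₃ = 0 := by
    have : ((ν₀ + ν₁ + ν₂ - ν₃ : ℤ) : ℂ) = 0 := by
      push_cast
      linear_combination hL1
    exact_mod_cast this
  -- the principal character
  have hν₀1 : ν₀ = 1 := by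
    rcases hν₀c with h | h | h
    · exfalso
      obtain ⟨s, hs⟩ := hν₀im h
      rw [hχ₀coe] at hs
      simp at hs
    · exact h
    · exfalso
      have := hν₀ev h
      rw [charDegree_eq (d := 1) (by rw [hχ₀coe]; simp)] at this
      exact (by decide : ¬ Even 1) this
  -- odd degrees
  obtain ⟨e, he, he4, -, -⟩ := klein_values hM P hP hexp hone J hJ2
  have hodd : ∀ (χ : IrrCharacter G) (ε : ℤ), (ε = 1 ∨ ε = -1) → (χ : G → ℂ) J = (ε : ℂ) →
      ¬ Even (charDegree (χ : G → ℂ)) := by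
    intro χ ε hε hv hev
    have h1 : e χ = ε := by
      have := he χ
      rw [hv] at this
      exact_mod_cast this.symm
    have h2 := he4 χ
    rw [h1] at h2
    obtain ⟨m, hm⟩ := h2
    obtain ⟨r, hr⟩ := hev
    rcases hε with h | h <;> rw [h] at hm <;> omega
  have hν₁n : ν₁ ≠ -1 := fun h => hodd χ₁ 1 (Or.inl rfl) (by rw [hv1]; simp) (hν₁ev h)
  have hν₂n : ν₂ ≠ -1 := fun h => hodd χ₂ 1 (Or.inl rfl) (by rw [hv2]; simp) (hν₂ev h)
  have hν₃n : ν₃ ≠ -1 := fun h => hodd χ₃ (-1) (Or.inr rfl) (by rw [hv3]; simp) (hν₃ev h)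
  have hν₁0 : ν₁ = 0 := by
    rcases hν₁c with h | h | h
    · exact h
    · exfalso
      rcases hν₂c with h2 | h2 | h2 <;> rcases hν₃c with h3 | h3 | h3 <;> omega
    · exact absurd h hν₁n
  -- `χ₁` is not real
  obtain ⟨s, hs⟩ := hν₁im hν₁0
  obtain ⟨ψ, hψ⟩ : ∃ ψ : IrrCharacter G,
      ψ = ⟨fun g => conj ((χ₁ : G → ℂ) g), isIrrCharacter_conj χ₁.2⟩ := ⟨_, rfl⟩
  have hψcoe : ∀ g : G, (ψ : G → ℂ) g = conj ((χ₁ : G → ℂ) g) := by
    intro g
    rw [hψ]
  have hψmem : ψ ∈ principalBlock M G := by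
    rw [hψ]
    exact conj_mem_principalBlock χ₁ ((hS χ₁).2 (Or.inr (Or.inl rfl)))
  have hd1 := apply_one_eq_charDegree χ₁
  have hd2 := apply_one_eq_charDegree χ₂
  rcases (hS ψ).1 hψmem with h | h | h | h
  · exfalso
    apply h1f
    funext g
    have := hψcoe g
    rw [h, hχ₀coe] at this
    have h2 := congrArg conj this
    rw [Complex.conj_conj, map_one] at h2
    exact h2.symm
  · exfalso
    apply hs
    have := hψcoe s
    rw [h] at this
    have h2 := congrArg Complex.im this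
    rw [Complex.conj_im] at h2
    linarith
  · have := hψcoe 1
    rw [h, hd1, hd2, Complex.conj_natCast] at this
    exact_mod_cast this.symm
  · exfalso
    have := hψcoe J
    rw [h, hv3, hv1, map_one] at this
    norm_num at this

end Cfsg.Agent.Lib.helper3.Block
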