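import Mathlib
import Cfsg.Prelude.Def_Blocks
import Cfsg.Agent.Lib.helper3.KleinFS2
import Cfsg.Agent.Lib.helper3.KleinArith

/-!
# Brauer's order formula in the `PSL`-shaped case
-/

set_option autoImplicit false
set_option linter.style.haveILetI false
set_option linter.unusedSectionVars false

namespace Cfsg.Agent.Lib.helper3.Block

open Cfsg Module Cfsg.Agent.Lib.helper3.CharBasic Cfsg.Agent.Lib.helper3.Irr
open Cfsg.Agent.Lib.helper3.Central Cfsg.Agent.Lib.helper3.LocalM Cfsg.Agent.Lib.helper3.IndFun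
open Cfsg.Agent.Lib.helper3.Lin Cfsg.Agent.Lib.helper3.HallNilp Cfsg.Agent.Lib.helper3.Klein
open scoped ComplexConjugate

universe u

variable {G : Type u} [Group G] [Fintype G] {M : Ideal AlgInt}

open Classical in
theorem klein_psl_shape (hM : IsPModular 2 M) (P : Sylow 2 G) (hP : Nat.card P = 4)
    (hexp : ∀ x : P, x * x = 1)
    (hone : ∀ s t : G, orderOf s = 2 → orderOf t = 2 → IsConj s t) (J : G)
    (hJ : J ∈ (P : Subgroup G)) (hJ2 : orderOf J = 2) (χ₁ χ₂ χ₃ : IrrCharacter G)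
    (ε₁ ε₂ ε₃ : ℤ)
    (hB : principalBlock M G = {χ : IrrCharacter G | (χ : G → ℂ) = (fun _ => 1)
      ∨ χ = χ₁ ∨ χ = χ₂ ∨ χ = χ₃})
    (hdist : (χ₁ : G → ℂ) ≠ (fun _ => 1) ∧ (χ₂ : G → ℂ) ≠ (fun _ => 1)
      ∧ (χ₃ : G → ℂ) ≠ (fun _ => 1) ∧ χ₁ ≠ χ₂ ∧ χ₁ ≠ χ₃ ∧ χ₂ ≠ χ₃)
    (hε : (ε₁ = 1 ∨ ε₁ = -1) ∧ (ε₂ = 1 ∨ ε₂ = -1) ∧ (ε₃ = 1 ∨ ε₃ = -1))
    (hval : (χ₁ : G → ℂ) J = ε₁ ∧ (χ₂ : G → ℂ) J = ε₂ ∧ (χ₃ : G → ℂ) J = ε₃)
    (hprod : ε₁ * ε₂ * ε₃ = -1) (hε₃ : ε₃ = -1) :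
    ∃ m : ℕ, 4 * Nat.card (Subgroup.centralizer ({J} : Set G))
        = m * Nat.card (Subgroup.centralizer ((P : Subgroup G) : Set G))
          * (charDegree (χ₃ : G → ℂ) + 1) ∧
      8 * Nat.card G = m ^ 3 * Nat.card (Subgroup.centralizer ((P : Subgroup G) : Set G))
        * (charDegree (χ₃ : G → ℂ) ^ 3 - charDegree (χ₃ : G → ℂ)) := by
  obtain ⟨horth, hden, hmain⟩ := klein_order_formula hM P hP hexp hone J hJ hJ2 χ₁ χ₂ χ₃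
    ε₁ ε₂ ε₃ hB hdist hε hval
  obtain ⟨hv1, hv2, hv3⟩ := hval
  obtain ⟨he1, he2, he3⟩ := hε
  obtain ⟨x₁, hx₁⟩ : ∃ x₁ : ℕ, x₁ = charDegree (χ₁ : G → ℂ) := ⟨_, rfl⟩
  obtain ⟨x₂, hx₂⟩ : ∃ x₂ : ℕ, x₂ = charDegree (χ₂ : G → ℂ) := ⟨_, rfl⟩
  obtain ⟨x₃, hx₃⟩ : ∃ x₃ : ℕ, x₃ = charDegree (χ₃ : G → ℂ) := ⟨_, rfl⟩
  have hx₁0 : x₁ ≠ 0 := by rw [hx₁]; exact charDegree_ne_zero χ₁
  have hx₂0 : x₂ ≠ 0 := by rw [hx₂]; exact charDegree_ne_zero χ₂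
  have hx₃0 : x₃ ≠ 0 := by rw [hx₃]; exact charDegree_ne_zero χ₃
  rw [← hx₁, ← hx₂, ← hx₃] at horth hmain hden
  rw [← hx₃]
  have horthZ : 1 + ε₁ * (x₁ : ℤ) + ε₂ * (x₂ : ℤ) + ε₃ * (x₃ : ℤ) = 0 := by
    exact_mod_cast horth
  subst hε₃
  have he12 : ε₁ = 1 ∧ ε₂ = 1 := by
    rcases he1 with h1 | h1 <;> rcases he2 with h2 | h2 <;> rw [h1, h2] at hprod horthZ
    · exact ⟨h1, h2⟩
    · norm_num at hprod
    · norm_num at hprod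
    · exfalso
      have : (1 : ℤ) ≤ x₁ := by exact_mod_cast Nat.one_le_iff_ne_zero.2 hx₁0
      have : (1 : ℤ) ≤ x₂ := by exact_mod_cast Nat.one_le_iff_ne_zero.2 hx₂0
      have : (1 : ℤ) ≤ x₃ := by exact_mod_cast Nat.one_le_iff_ne_zero.2 hx₃0
      omega
  obtain ⟨h1, h2⟩ := he12
  subst h1 h2
  have hdeg : x₁ = x₂ := by
    rw [hx₁, hx₂]
    exact klein_degrees_eq hM P hP hexp hone J hJ hJ2 χ₁ χ₂ χ₃ hB hdist
      (by rw [hv1]; simp) (by rw [hv2]; simp) (by rw [hv3]; simp)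
  subst hdeg
  have hq : x₃ = 2 * x₁ + 1 := by
    have : (x₃ : ℤ) = 2 * (x₁ : ℤ) + 1 := by linarith
    exact_mod_cast this
  obtain ⟨c, hc⟩ : ∃ c : ℕ, c = Nat.card (Subgroup.centralizer ({J} : Set G)) := ⟨_, rfl⟩
  obtain ⟨pc, hpc⟩ : ∃ pc : ℕ, pc = Nat.card (Subgroup.centralizer ((P : Subgroup G) : Set G)) :=
    ⟨_, rfl⟩
  obtain ⟨g, hg⟩ : ∃ g : ℕ, g = Nat.card G := ⟨_, rfl⟩
  rw [← hc, ← hpc, ← hg] at hmain
  rw [← hc, ← hpc, ← hg]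
  have hpcpos : 0 < pc := by rw [hpc]; exact Nat.card_pos
  have hcpos : 0 < c := by rw [hc]; exact Nat.card_pos
  have hpc0 : (pc : ℂ) ≠ 0 := by exact_mod_cast hpcpos.ne'
  have hx₁C : (x₁ : ℂ) ≠ 0 := by exact_mod_cast hx₁0
  have hu1 : ((x₁ : ℂ) + 1) ≠ 0 := by
    have : (x₁ + 1 : ℕ) ≠ 0 := by omega
    exact_mod_cast this
  -- the order formula in natural numbers
  have hnat : g * ((x₁ + 1) ^ 2 * pc ^ 2) = 4 * x₁ * x₃ * c ^ 3 := by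
    have hq' : ((x₃ : ℂ) + ((-1 : ℤ) : ℂ)) = 2 * (x₁ : ℂ) := by
      rw [hq]
      push_cast
      ring
    have hC : (g : ℂ) * (((x₁ : ℂ) + 1) ^ 2 * (pc : ℂ) ^ 2)
        = 4 * (x₁ : ℂ) * (x₃ : ℂ) * (c : ℂ) ^ 3 := by
      rw [hmain, hq']
      push_cast
      field_simp
      ring
    exact_mod_cast hC
  -- divisibilities
  obtain ⟨n, hn⟩ : pc ∣ c := by
    rw [hpc, hc]
    apply Subgroup.card_dvd_of_le
    apply Subgroup.centralizer_le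
    intro x hx
    rw [Set.mem_singleton_iff] at hx
    rw [hx]
    exact hJ
  obtain ⟨i, hi⟩ : c ∣ g := by
    rw [hc, hg]
    exact Subgroup.card_subgroup_dvd_card _
  have hnpos : 0 < n := by
    rcases Nat.eq_zero_or_pos n with h | h
    · rw [h, mul_zero] at hn
      omega
    · exact h
  exact klein_arith g c pc x₁ x₃ n i hpcpos hnpos hq (by rw [hn]; ring) (by rw [hi]; ring) hnat

end Cfsg.Agent.Lib.helper3.Block
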