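import Mathlib
import Cfsg.Prelude.Def_Characters
import Cfsg.Agent.Lib.helper3.CliffCorr
import Cfsg.Agent.Lib.helper3.Gallagher2
import Cfsg.Agent.Lib.helper3.ADB2
import Cfsg.Agent.Lib.helper3.Inflate2
import Cfsg.Agent.Lib.helper3.Irr10

/-!
# Clifford correspondence followed by Gallagher: parametrization of the characters over an
extendible character of a normal subgroup (abstract group version)
-/

set_option autoImplicit false
set_option linter.style.haveILetI false
set_option linter.unusedSectionVars false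

namespace Cfsg.Agent.Lib.helper3.GNS

open Cfsg Cfsg.Agent.Lib.helper3.Irr Cfsg.Agent.Lib.helper3.CharBasic
open Cfsg.Agent.Lib.helper3.IndFun
open scoped ComplexConjugate

section typeLevel

variable {X : Type*} [Group X] [Fintype X] (N T : Subgroup X) [hN : N.Normal] [Fintype N]
  [Fintype T] (θ : N → ℂ) (hθ : IsIrrCharacter N θ)
  (hT : ∀ g : X, g ∈ T ↔ ∀ h : N, θ ⟨g * h * g⁻¹, hN.conj_mem h h.2 g⟩ = θ h) (hNT : N ≤ T)
  (θh : T → ℂ) (hθh : IsIrrCharacter T θh) (hext : ∀ n : N, θh ⟨n, hNT n.2⟩ = θ n)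

include hθ hNT hθh hext in
theorem restrict_subgroupOf_irr :
    IsIrrCharacter (N.subgroupOf T) (fun n : N.subgroupOf T => θh n) := by
  have h1 : (fun n : N.subgroupOf T => θh n) = subFun N T θ := by
    funext n
    unfold subFun
    rw [← hext]
  rw [h1]
  exact isIrrCharacter_subFun hNT hθ

include hθ hNT hθh hext in
/-- Gallagher: the product of the extension with an irreducible character having `N` in its
kernel is irreducible. -/
theorem irr_mul (β : T → ℂ) (hβ : IsIrrCharacter T β) (hβk : ∀ t : T, (t : X) ∈ N → β t = β 1) :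
    IsIrrCharacter T (θh * β) := by
  classical
  haveI : (N.subgroupOf T).Normal := Subgroup.Normal.subgroupOf hN T
  letI : Fintype (N.subgroupOf T) := Fintype.ofFinite _
  have hβc := isCharacter_of_isIrrCharacter hβ
  obtain ⟨b, hb, rfl⟩ := exists_eq_inflate hβ (N.subgroupOf T) (by
    intro g n hn
    exact apply_mul_of_apply_eq_one hβc (hβk n (Subgroup.mem_subgroupOf.mp hn)) g)
  obtain ⟨h1, -⟩ := gallagher_inflate (N.subgroupOf T) θh (isCharacter_of_isIrrCharacter hθh)
    (apply_one_ne_zero hθh) (restrict_subgroupOf_irr N T θ hθ hNT θh hθh hext)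
  rw [mul_comm]
  exact h1 ⟨b, hb⟩

include hθ hNT hθh hext in
theorem mul_injective (β β' : T → ℂ) (hβ : IsIrrCharacter T β) (hβ' : IsIrrCharacter T β')
    (hβk : ∀ t : T, (t : X) ∈ N → β t = β 1) (hβk' : ∀ t : T, (t : X) ∈ N → β' t = β' 1)
    (h : θh * β = θh * β') : β = β' := by
  classical
  haveI : (N.subgroupOf T).Normal := Subgroup.Normal.subgroupOf hN T
  letI : Fintype (N.subgroupOf T) := Fintype.ofFinite _
  obtain ⟨b, hb, rfl⟩ := exists_eq_inflate hβ (N.subgroupOf T) (by
    intro g n hn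
    exact apply_mul_of_apply_eq_one (isCharacter_of_isIrrCharacter hβ)
      (hβk n (Subgroup.mem_subgroupOf.mp hn)) g)
  obtain ⟨b', hb', rfl⟩ := exists_eq_inflate hβ' (N.subgroupOf T) (by
    intro g n hn
    exact apply_mul_of_apply_eq_one (isCharacter_of_isIrrCharacter hβ')
      (hβk' n (Subgroup.mem_subgroupOf.mp hn)) g)
  obtain ⟨-, h2⟩ := gallagher_inflate (N.subgroupOf T) θh (isCharacter_of_isIrrCharacter hθh)
    (apply_one_ne_zero hθh) (restrict_subgroupOf_irr N T θ hθ hNT θh hθh hext)
  have := h2 ⟨b, hb⟩ ⟨b', hb'⟩ (by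
    show inflate _ b * θh = inflate _ b' * θh
    rw [mul_comm, h, mul_comm])
  have hbb : b = b' := congrArg Subtype.val this
  rw [hbb]

include hNT hext in
/-- The restriction of `θh * β` to `N` is a multiple of `θ`. -/
theorem mul_restrict (β : T → ℂ) (hβk : ∀ t : T, (t : X) ∈ N → β t = β 1) :
    (fun n : N => (θh * β) ⟨n, hNT n.2⟩) = (β 1) • θ := by
  funext n
  rw [Pi.mul_apply, hext, hβk ⟨n, hNT n.2⟩ n.2, Pi.smul_apply, smul_eq_mul, mul_comm]

include hθ hT hNT hθh hext in
/-- Clifford: the induced character of `θh * β` is irreducible. -/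
theorem irr_ind (β : T → ℂ) (hβ : IsIrrCharacter T β) (hβk : ∀ t : T, (t : X) ∈ N → β t = β 1) :
    IsIrrCharacter X (indFun T (θh * β)) := by
  classical
  letI : Fintype (N.subgroupOf T) := Fintype.ofFinite _
  have hψ := irr_mul N T θ hθ hNT θh hθh hext β hβ hβk
  have hcf := isClassFunction_of_isCharacter (isCharacter_of_isIrrCharacter hψ)
  have hc : classInner (indFun (N.subgroupOf T) (subFun N T θ)) (θh * β) ≠ 0 := by
    rw [frobenius_reciprocity (N.subgroupOf T) (subFun N T θ) (θh * β) hcf]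
    have h1 : (fun h : N.subgroupOf T => (θh * β) h) = (β 1) • subFun N T θ := by
      funext n
      have hn : ((n : T) : X) ∈ N := Subgroup.mem_subgroupOf.mp n.2
      rw [Pi.mul_apply, Pi.smul_apply, smul_eq_mul, hβk (n : T) hn]
      unfold subFun
      rw [← hext ⟨((n : T) : X), hn⟩, mul_comm]
    rw [h1, classInner_smul_right, irr_classInner_self (isIrrCharacter_subFun hNT hθ), mul_one]
    intro h0
    exact apply_one_ne_zero hβ ((map_eq_zero _).mp h0)
  exact (clifford_corr_injective N T θ hθ hT hNT (θh * β) (θh * β) hψ hψ hc hc).1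

include hθ hT hNT hθh hext in
theorem ind_injective (β β' : T → ℂ) (hβ : IsIrrCharacter T β) (hβ' : IsIrrCharacter T β')
    (hβk : ∀ t : T, (t : X) ∈ N → β t = β 1) (hβk' : ∀ t : T, (t : X) ∈ N → β' t = β' 1)
    (h : indFun T (θh * β) = indFun T (θh * β')) : β = β' := by
  classical
  letI : Fintype (N.subgroupOf T) := Fintype.ofFinite _
  have hψ := irr_mul N T θ hθ hNT θh hθh hext β hβ hβk
  have hψ' := irr_mul N T θ hθ hNT θh hθh hext β' hβ' hβk'
  have key : ∀ (b : T → ℂ) (hb : IsIrrCharacter T b) (hbk : ∀ t : T, (t : X) ∈ N → b t = b 1),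
      classInner (indFun (N.subgroupOf T) (subFun N T θ)) (θh * b) ≠ 0 := by
    intro b hb hbk
    have hcf := isClassFunction_of_isCharacter (isCharacter_of_isIrrCharacter
      (irr_mul N T θ hθ hNT θh hθh hext b hb hbk))
    rw [frobenius_reciprocity (N.subgroupOf T) (subFun N T θ) (θh * b) hcf]
    have h1 : (fun h : N.subgroupOf T => (θh * b) h) = (b 1) • subFun N T θ := by
      funext n
      have hn : ((n : T) : X) ∈ N := Subgroup.mem_subgroupOf.mp n.2
      rw [Pi.mul_apply, Pi.smul_apply, smul_eq_mul, hbk (n : T) hn]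
      unfold subFun
      rw [← hext ⟨((n : T) : X), hn⟩, mul_comm]
    rw [h1, classInner_smul_right, irr_classInner_self (isIrrCharacter_subFun hNT hθ), mul_one]
    intro h0
    exact apply_one_ne_zero hb ((map_eq_zero _).mp h0)
  have h2 := (clifford_corr_injective N T θ hθ hT hNT (θh * β) (θh * β') hψ hψ'
    (key β hβ hβk) (key β' hβ' hβk')).2 h
  exact mul_injective N T θ hθ hNT θh hθh hext β β' hβ hβ' hβk hβk' h2

include hθ hT hNT hθh hext in
/-- Every irreducible character over `θ` is induced from some `θh * β`. -/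
theorem exists_of_over (χ : X → ℂ) (hχ : IsIrrCharacter X χ)
    (hov : classInner (fun n : N => χ n) θ ≠ 0) :
    ∃ β : T → ℂ, IsIrrCharacter T β ∧ (∀ t : T, (t : X) ∈ N → β t = β 1) ∧
      χ = indFun T (θh * β) := by
  classical
  haveI : (N.subgroupOf T).Normal := Subgroup.Normal.subgroupOf hN T
  letI : Fintype (N.subgroupOf T) := Fintype.ofFinite _
  obtain ⟨ψ, hψ, hind, hmult⟩ := clifford_corr_surjective N θ hθ T hT hNT χ hχ hov
  have hres := restrict_subgroupOf_irr N T θ hθ hNT θh hθh hext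
  have hov' : classInner (fun n : N.subgroupOf T => ψ n) (fun n : N.subgroupOf T => θh n) ≠ 0 := by
    have h1 : (fun n : N.subgroupOf T => ψ n)
        = subFun N T (fun n : N => ψ ⟨(n : X), hNT n.2⟩) := rfl
    have h2 : (fun n : N.subgroupOf T => θh n) = subFun N T θ := by
      funext n
      unfold subFun
      rw [← hext]
    rw [h1, h2, classInner_subFun hNT, hmult]
    exact hov
  obtain ⟨b, hb⟩ := Cfsg.Agent.Lib.helper3.ADB.exists_inflate_mul_of_over (N.subgroupOf T) θh ψ
    hθh hψ hres hov'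
  refine ⟨inflate (N.subgroupOf T) (b : T ⧸ N.subgroupOf T → ℂ),
    isIrrCharacter_inflate _ b.2, ?_, ?_⟩
  · intro t ht
    rw [inflate_apply_of_mem _ _ (Subgroup.mem_subgroupOf.mpr ht)]
  · rw [← hind, hb, mul_comm]

/-- The relation `[χ_T, θh β] ≠ 0` means `χ` is induced from `θh β`. -/
theorem classInner_restrict_eq (χ : X → ℂ) (hχ : IsIrrCharacter X χ) (ψ' : T → ℂ)
    (hψ : IsIrrCharacter X (indFun T ψ')) :
    classInner (fun t : T => χ t) ψ' = if χ = indFun T ψ' then 1 else 0 := by
  classical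
  have hcf := isClassFunction_of_isCharacter (isCharacter_of_isIrrCharacter hχ)
  have h1 := frobenius_reciprocity T ψ' χ hcf
  rw [← classInner_conj_symm, ← h1]
  split_ifs with h
  · rw [← h, irr_classInner_self hχ, map_one]
  · rw [irr_classInner_eq_zero hψ hχ (fun hh => h hh.symm), map_zero]

end typeLevel

section gallagherOnly

variable {Y : Type*} [Group Y] [Fintype Y] (M : Subgroup Y) [hM : M.Normal] [Fintype M]

/-- Gallagher, existence: an irreducible character over the irreducible restriction `η|_M` is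
`η β` with `M` in the kernel of the irreducible `β`. -/
theorem exists_mul_of_over (η ψ : Y → ℂ) (hη : IsIrrCharacter Y η) (hψ : IsIrrCharacter Y ψ)
    (hηM : IsIrrCharacter M (fun m : M => η m))
    (hov : classInner (fun m : M => ψ m) (fun m : M => η m) ≠ 0) :
    ∃ β : Y → ℂ, IsIrrCharacter Y β ∧ (∀ m : Y, m ∈ M → β m = β 1) ∧ ψ = η * β := by
  obtain ⟨b, hb⟩ := Cfsg.Agent.Lib.helper3.ADB.exists_inflate_mul_of_over M η ψ hη hψ hηM hov
  refine ⟨inflate M (b : Y ⧸ M → ℂ), isIrrCharacter_inflate _ b.2, ?_, ?_⟩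
  · intro m hm
    rw [inflate_apply_of_mem _ _ hm]
  · rw [hb, mul_comm]

end gallagherOnly

end Cfsg.Agent.Lib.helper3.GNS
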