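import Mathlib
import Cfsg.Prelude.Def_Characters
import Cfsg.Agent.Lib.helper3.GNS0
import Cfsg.Agent.Lib.helper3.GNS1

/-!
# Clifford + Gallagher parametrization for subgroups of an ambient group
-/

set_option autoImplicit false
set_option linter.style.haveILetI false
set_option linter.unusedSectionVars false

namespace Cfsg.Agent.Lib.helper3.GNS

open Cfsg Cfsg.Agent.Lib.helper3.Irr Cfsg.Agent.Lib.helper3.CharBasic
open Cfsg.Agent.Lib.helper3.IndFun
open scoped ComplexConjugate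

variable {G : Type*} [Group G] [Finite G]

/-- A function on `B` seen on the copy of `B` inside `A`. -/
def toSub {A B : Subgroup G} (h : B ≤ A) (ψ : ↥B → ℂ) : ↥(B.subgroupOf A) → ℂ :=
  fun x => ψ (Subgroup.subgroupOfEquivOfLe h x)

theorem toSub_apply {A B : Subgroup G} (h : B ≤ A) (ψ : ↥B → ℂ) (x : ↥(B.subgroupOf A)) :
    toSub h ψ x = ψ ⟨((x : ↥A) : G), Subgroup.mem_subgroupOf.mp x.2⟩ := rfl

theorem toSub_mul {A B : Subgroup G} (h : B ≤ A) (ψ φ : ↥B → ℂ) :
    toSub h (ψ * φ) = toSub h ψ * toSub h φ := rfl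

theorem toSub_res {A B : Subgroup G} (h : B ≤ A) (χ : ↥A → ℂ) :
    toSub h (res h χ) = fun x : ↥(B.subgroupOf A) => χ x := rfl

theorem toSub_injective {A B : Subgroup G} (h : B ≤ A) : Function.Injective (toSub (G := G) h) := by
  intro ψ φ hh
  funext b
  have := congrFun hh ((Subgroup.subgroupOfEquivOfLe h).symm b)
  unfold toSub at this
  rwa [MulEquiv.apply_symm_apply] at this

theorem isIrrCharacter_toSub {A B : Subgroup G} (h : B ≤ A) {ψ : ↥B → ℂ}
    (hψ : IsIrrCharacter ↥B ψ) : IsIrrCharacter ↥(B.subgroupOf A) (toSub h ψ) :=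
  isIrrCharacter_comp_mulEquiv (Subgroup.subgroupOfEquivOfLe h) hψ

/-- Induction between subgroups of the ambient group. -/
noncomputable def indSub {A B : Subgroup G} (h : B ≤ A) (ψ : ↥B → ℂ) : ↥A → ℂ :=
  @indFun ↥A _ (Fintype.ofFinite _) (B.subgroupOf A) (toSub h ψ)

theorem indSub_apply_one {A B : Subgroup G} (h : B ≤ A) (ψ : ↥B → ℂ) :
    indSub h ψ 1 = (B.relIndex A : ℂ) * ψ 1 := by
  letI : Fintype ↥A := Fintype.ofFinite _
  unfold indSub
  rw [indFun_apply_one]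
  rfl

theorem frobenius_sub {A B : Subgroup G} (h : B ≤ A) (ψ : ↥B → ℂ) (χ : ↥A → ℂ)
    (hχ : IsClassFunction ↥A χ) : ip (indSub h ψ) χ = ip ψ (res h χ) := by
  letI : Fintype ↥A := Fintype.ofFinite _
  letI : Fintype ↥B := Fintype.ofFinite _
  letI : Fintype ↥(B.subgroupOf A) := Fintype.ofFinite _
  rw [ip_eq_classInner, ip_eq_classInner]
  unfold indSub
  rw [frobenius_reciprocity (B.subgroupOf A) (toSub h ψ) χ hχ, ← toSub_res]
  exact classInner_comp_mulEquiv (Subgroup.subgroupOfEquivOfLe h) ψ (res h χ)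

theorem ip_conj_symm {A : Type*} [Group A] [Finite A] (φ ψ : A → ℂ) :
    conj (ip φ ψ) = ip ψ φ := by
  letI : Fintype A := Fintype.ofFinite _
  rw [ip_eq_classInner, ip_eq_classInner, classInner_conj_symm]

theorem ip_toSub {A B : Subgroup G} (h : B ≤ A) (φ ψ : ↥B → ℂ) :
    ip (toSub h φ) (toSub h ψ) = ip φ ψ := by
  letI : Fintype ↥B := Fintype.ofFinite _
  letI : Fintype ↥(B.subgroupOf A) := Fintype.ofFinite _
  rw [ip_eq_classInner, ip_eq_classInner]
  exact classInner_comp_mulEquiv (Subgroup.subgroupOfEquivOfLe h) φ ψ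

section CG

variable (A T Q : Subgroup G) (hQT : Q ≤ T) (hTA : T ≤ A)
  (hAQ : A ≤ Subgroup.normalizer (Q : Set G)) (θ : ↥Q → ℂ) (hθ : IsIrrCharacter ↥Q θ)
  (hT : ∀ g : G, g ∈ T ↔ g ∈ A ∧ ∀ q q' : ↥Q, (q' : G) = g * q * g⁻¹ → θ q' = θ q)
  (θh : ↥T → ℂ) (hθh : IsIrrCharacter ↥T θh) (hext : res hQT θh = θ)

include hAQ hQT hTA in
theorem normal_subgroupOf_of_le : (Q.subgroupOf A).Normal :=
  (Subgroup.normal_subgroupOf_iff_le_normalizer (hQT.trans hTA)).mpr hAQ

include hT in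
theorem mem_subgroupOf_iff_inv (hN : (Q.subgroupOf A).Normal) (g : ↥A) :
    g ∈ T.subgroupOf A ↔ ∀ h : ↥(Q.subgroupOf A),
      toSub (hQT.trans hTA) θ ⟨g * h * g⁻¹, hN.conj_mem h h.2 g⟩ = toSub (hQT.trans hTA) θ h := by
  rw [Subgroup.mem_subgroupOf, hT]
  constructor
  · rintro ⟨-, hc⟩ h
    rw [toSub_apply, toSub_apply]
    exact hc _ _ (by simp)
  · intro hh
    refine ⟨g.2, ?_⟩
    intro q q' hq
    have h1 := hh ⟨⟨(q : G), (hQT.trans hTA) q.2⟩, Subgroup.mem_subgroupOf.mpr q.2⟩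
    rw [toSub_apply, toSub_apply] at h1
    convert h1 using 2
    apply Subtype.ext
    rw [hq]
    simp

include hext in
theorem toSub_ext (n : ↥(Q.subgroupOf A)) (hn : (n : ↥A) ∈ T.subgroupOf A) :
    toSub hTA θh ⟨n, hn⟩ = toSub (hQT.trans hTA) θ n := by
  rw [toSub_apply, toSub_apply, ← hext]
  rfl

theorem kerGE_toSub (β : ↥T → ℂ) (hβk : KerGE Q T β) (t : ↥(T.subgroupOf A))
    (ht : (t : ↥A) ∈ Q.subgroupOf A) : toSub hTA β t = toSub hTA β 1 := by
  rw [toSub_apply, toSub_apply]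
  have h1 := hβk ⟨((t : ↥A) : G), Subgroup.mem_subgroupOf.mp t.2⟩ (Subgroup.mem_subgroupOf.mp ht)
  rw [h1]
  rfl

theorem isIrrCharacter_of_toSub {A B : Subgroup G} (h : B ≤ A) {ψ : ↥B → ℂ}
    (hψ : IsIrrCharacter ↥(B.subgroupOf A) (toSub h ψ)) : IsIrrCharacter ↥B ψ := by
  have h1 := isIrrCharacter_comp_mulEquiv (Subgroup.subgroupOfEquivOfLe h).symm hψ
  have h2 : (fun b : ↥B => toSub h ψ ((Subgroup.subgroupOfEquivOfLe h).symm b)) = ψ := by
    funext b
    unfold toSub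
    rw [MulEquiv.apply_symm_apply]
  rwa [h2] at h1

theorem le_subgroupOf : Q.subgroupOf A ≤ T.subgroupOf A → True := fun _ => trivial

include hQT in
theorem subgroupOf_le_subgroupOf : Q.subgroupOf A ≤ T.subgroupOf A :=
  fun _ hx => Subgroup.mem_subgroupOf.mpr (hQT (Subgroup.mem_subgroupOf.mp hx))

include hθ hθh hext hT hAQ hQT hTA in
/-- Gallagher (ambient form). -/
theorem cgA_irr_mul (β : ↥T → ℂ) (hβ : IsIrrCharacter ↥T β) (hβk : KerGE Q T β) :
    IsIrrCharacter ↥T (θh * β) := by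
  letI : Fintype ↥A := Fintype.ofFinite _
  letI : Fintype ↥(Q.subgroupOf A) := Fintype.ofFinite _
  letI : Fintype ↥(T.subgroupOf A) := Fintype.ofFinite _
  haveI hN := normal_subgroupOf_of_le A T Q hQT hTA hAQ
  have hNT' := subgroupOf_le_subgroupOf A T Q hQT
  apply isIrrCharacter_of_toSub hTA
  rw [toSub_mul]
  exact irr_mul (Q.subgroupOf A) (T.subgroupOf A) (toSub (hQT.trans hTA) θ)
    (isIrrCharacter_toSub _ hθ) hNT' (toSub hTA θh) (isIrrCharacter_toSub hTA hθh)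
    (fun n => toSub_ext A T Q hQT hTA θ θh hext n _) (toSub hTA β) (isIrrCharacter_toSub hTA hβ)
    (kerGE_toSub A T Q hTA β hβk)

include hθ hθh hext hT hAQ hQT hTA in
theorem cgA_mul_inj (β β' : ↥T → ℂ) (hβ : IsIrrCharacter ↥T β) (hβ' : IsIrrCharacter ↥T β')
    (hβk : KerGE Q T β) (hβk' : KerGE Q T β') (h : θh * β = θh * β') : β = β' := by
  letI : Fintype ↥A := Fintype.ofFinite _
  letI : Fintype ↥(Q.subgroupOf A) := Fintype.ofFinite _
  letI : Fintype ↥(T.subgroupOf A) := Fintype.ofFinite _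
  haveI hN := normal_subgroupOf_of_le A T Q hQT hTA hAQ
  have hNT' := subgroupOf_le_subgroupOf A T Q hQT
  apply toSub_injective hTA
  exact mul_injective (Q.subgroupOf A) (T.subgroupOf A) (toSub (hQT.trans hTA) θ)
    (isIrrCharacter_toSub _ hθ) hNT' (toSub hTA θh) (isIrrCharacter_toSub hTA hθh)
    (fun n => toSub_ext A T Q hQT hTA θ θh hext n _) (toSub hTA β) (toSub hTA β')
    (isIrrCharacter_toSub hTA hβ) (isIrrCharacter_toSub hTA hβ')
    (kerGE_toSub A T Q hTA β hβk) (kerGE_toSub A T Q hTA β' hβk')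
    (by rw [← toSub_mul, ← toSub_mul, h])

include hθ hθh hext hT hAQ hQT hTA in
/-- Clifford (ambient form): the induced character is irreducible. -/
theorem cgA_irr_ind (β : ↥T → ℂ) (hβ : IsIrrCharacter ↥T β) (hβk : KerGE Q T β) :
    IsIrrCharacter ↥A (indSub hTA (θh * β)) := by
  letI : Fintype ↥A := Fintype.ofFinite _
  letI : Fintype ↥(Q.subgroupOf A) := Fintype.ofFinite _
  letI : Fintype ↥(T.subgroupOf A) := Fintype.ofFinite _
  haveI hN := normal_subgroupOf_of_le A T Q hQT hTA hAQ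
  have hNT' := subgroupOf_le_subgroupOf A T Q hQT
  unfold indSub
  rw [toSub_mul]
  exact irr_ind (Q.subgroupOf A) (T.subgroupOf A) (toSub (hQT.trans hTA) θ)
    (isIrrCharacter_toSub _ hθ) (mem_subgroupOf_iff_inv A T Q hQT hTA θ hT hN) hNT'
    (toSub hTA θh) (isIrrCharacter_toSub hTA hθh)
    (fun n => toSub_ext A T Q hQT hTA θ θh hext n _) (toSub hTA β) (isIrrCharacter_toSub hTA hβ)
    (kerGE_toSub A T Q hTA β hβk)

include hθ hθh hext hT hAQ hQT hTA in
theorem cgA_ind_inj (β β' : ↥T → ℂ) (hβ : IsIrrCharacter ↥T β) (hβ' : IsIrrCharacter ↥T β')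
    (hβk : KerGE Q T β) (hβk' : KerGE Q T β')
    (h : indSub hTA (θh * β) = indSub hTA (θh * β')) : β = β' := by
  letI : Fintype ↥A := Fintype.ofFinite _
  letI : Fintype ↥(Q.subgroupOf A) := Fintype.ofFinite _
  letI : Fintype ↥(T.subgroupOf A) := Fintype.ofFinite _
  haveI hN := normal_subgroupOf_of_le A T Q hQT hTA hAQ
  have hNT' := subgroupOf_le_subgroupOf A T Q hQT
  apply toSub_injective hTA
  unfold indSub at h
  rw [toSub_mul, toSub_mul] at h
  exact ind_injective (Q.subgroupOf A) (T.subgroupOf A) (toSub (hQT.trans hTA) θ)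
    (isIrrCharacter_toSub _ hθ) (mem_subgroupOf_iff_inv A T Q hQT hTA θ hT hN) hNT'
    (toSub hTA θh) (isIrrCharacter_toSub hTA hθh)
    (fun n => toSub_ext A T Q hQT hTA θ θh hext n _) (toSub hTA β) (toSub hTA β')
    (isIrrCharacter_toSub hTA hβ) (isIrrCharacter_toSub hTA hβ')
    (kerGE_toSub A T Q hTA β hβk) (kerGE_toSub A T Q hTA β' hβk') h

include hθ hθh hext hT hAQ hQT hTA in
/-- Every irreducible character over `θ` is `indSub (θh * β)`. -/
theorem cgA_exists (χ : ↥A → ℂ) (hχ : IsIrrCharacter ↥A χ)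
    (hov : ip (res (hQT.trans hTA) χ) θ ≠ 0) :
    ∃ β : ↥T → ℂ, IsIrrCharacter ↥T β ∧ KerGE Q T β ∧ χ = indSub hTA (θh * β) := by
  letI : Fintype ↥A := Fintype.ofFinite _
  letI : Fintype ↥Q := Fintype.ofFinite _
  letI : Fintype ↥(Q.subgroupOf A) := Fintype.ofFinite _
  letI : Fintype ↥(T.subgroupOf A) := Fintype.ofFinite _
  haveI hN := normal_subgroupOf_of_le A T Q hQT hTA hAQ
  have hNT' := subgroupOf_le_subgroupOf A T Q hQT
  have hov' : classInner (fun n : ↥(Q.subgroupOf A) => χ n) (toSub (hQT.trans hTA) θ) ≠ 0 := by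
    rw [← toSub_res, ← ip_eq_classInner, ip_toSub]
    exact hov
  obtain ⟨b, hb, hbk, hχb⟩ := exists_of_over (Q.subgroupOf A) (T.subgroupOf A)
    (toSub (hQT.trans hTA) θ)
    (isIrrCharacter_toSub _ hθ) (mem_subgroupOf_iff_inv A T Q hQT hTA θ hT hN) hNT'
    (toSub hTA θh) (isIrrCharacter_toSub hTA hθh)
    (fun n => toSub_ext A T Q hQT hTA θ θh hext n _) χ hχ hov'
  set e := Subgroup.subgroupOfEquivOfLe hTA with he
  have hbe : toSub hTA (fun t : ↥T => b (e.symm t)) = b := by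
    funext x
    show b (e.symm (e x)) = b x
    rw [MulEquiv.symm_apply_apply]
  refine ⟨fun t : ↥T => b (e.symm t), isIrrCharacter_comp_mulEquiv e.symm hb, ?_, ?_⟩
  · intro a ha
    have h1 := hbk (e.symm a) (by
      rw [Subgroup.mem_subgroupOf]
      have : (((e.symm a : ↥(T.subgroupOf A)) : ↥A) : G) = (a : G) := by
        show ((e (e.symm a) : ↥T) : G) = (a : G)
        rw [e.apply_symm_apply]
      rw [this]
      exact ha)
    simp only
    rw [h1, map_one]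
  · unfold indSub
    rw [toSub_mul, hbe]
    exact hχb

/-- The relation between `χ` and `ψ'`: `[χ_T, ψ'] ≠ 0` exactly when `χ` is induced from `ψ'`. -/
theorem cgA_rel (χ : ↥A → ℂ) (hχ : IsIrrCharacter ↥A χ) (ψ' : ↥T → ℂ)
    (hψ : IsIrrCharacter ↥A (indSub hTA ψ')) :
    ip (res hTA χ) ψ' = 1 ∧ χ = indSub hTA ψ' ∨ ip (res hTA χ) ψ' = 0 ∧ χ ≠ indSub hTA ψ' := by
  classical
  letI : Fintype ↥A := Fintype.ofFinite _
  have hcf := isClassFunction_of_isCharacter (isCharacter_of_isIrrCharacter hχ)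
  have h1 := frobenius_sub hTA ψ' χ hcf
  rw [← ip_conj_symm, ← h1, ip_eq_classInner]
  by_cases h : χ = indSub hTA ψ'
  · left
    refine ⟨?_, h⟩
    rw [← h, irr_classInner_self hχ, map_one]
  · right
    refine ⟨?_, h⟩
    rw [irr_classInner_eq_zero hψ hχ (fun hh => h hh.symm), map_zero]

include hθh hext hTA hAQ in
/-- Gallagher, existence (ambient form). -/
theorem galA_exists (hθ : IsIrrCharacter ↥Q θ) (ψ : ↥T → ℂ) (hψ : IsIrrCharacter ↥T ψ)
    (hov : ip (res hQT ψ) θ ≠ 0) :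
    ∃ β : ↥T → ℂ, IsIrrCharacter ↥T β ∧ KerGE Q T β ∧ ψ = θh * β := by
  letI : Fintype ↥T := Fintype.ofFinite _
  letI : Fintype ↥Q := Fintype.ofFinite _
  letI : Fintype ↥(Q.subgroupOf T) := Fintype.ofFinite _
  haveI hN : (Q.subgroupOf T).Normal :=
    (Subgroup.normal_subgroupOf_iff_le_normalizer hQT).mpr (hTA.trans hAQ)
  have hres : (fun m : ↥(Q.subgroupOf T) => θh m) = toSub hQT θ := by
    rw [← hext]
    rfl
  have hηM : IsIrrCharacter ↥(Q.subgroupOf T) (fun m : ↥(Q.subgroupOf T) => θh m) := by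
    rw [hres]
    exact isIrrCharacter_toSub hQT hθ
  have hov' : classInner (fun m : ↥(Q.subgroupOf T) => ψ m)
      (fun m : ↥(Q.subgroupOf T) => θh m) ≠ 0 := by
    rw [hres, ← toSub_res, ← ip_eq_classInner, ip_toSub]
    exact hov
  obtain ⟨β, hβ, hβk, hψβ⟩ := exists_mul_of_over (Q.subgroupOf T) θh ψ hθh hψ hηM hov'
  refine ⟨β, hβ, ?_, hψβ⟩
  intro a ha
  exact hβk a (Subgroup.mem_subgroupOf.mpr ha)

end CG

end Cfsg.Agent.Lib.helper3.GNS
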