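import Mathlib
import Cfsg.Prelude.Def_Characters
import Cfsg.Prelude.Def_Blocks
import Cfsg.Agent.Lib.helper3.BlockIdem2
import Cfsg.Agent.Lib.helper3.ProjVanish1

/-!
# The group algebra graded by a quotient group: homogeneous components, invariant elements,
elements with local coefficients
-/

set_option autoImplicit false
set_option linter.style.haveILetI false
set_option linter.unusedSectionVars false

namespace Cfsg.Agent.Lib.helper3.GrAlg

open Cfsg Cfsg.Agent.Lib.helper3.LocalM Cfsg.Agent.Lib.helper3.Block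

variable {G : Type*} [Group G] [Fintype G]

/-- The element of the group algebra with prescribed coefficients. -/
noncomputable def ofFun (f : G → ℂ) : MonoidAlgebra ℂ G :=
  .ofCoeff (Finsupp.equivFunOnFinite.symm f)

@[simp] theorem ofFun_coeff (f : G → ℂ) (g : G) : (ofFun f).coeff g = f g := rfl

theorem ext' {a b : MonoidAlgebra ℂ G} (h : ∀ g, a.coeff g = b.coeff g) : a = b :=
  MonoidAlgebra.coeff_injective (Finsupp.ext h)

theorem ofFun_coeff_self (a : MonoidAlgebra ℂ G) : ofFun (fun g => a.coeff g) = a :=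
  ext' (fun _ => rfl)

theorem coeff_mul' (a b : MonoidAlgebra ℂ G) (g : G) :
    (a * b).coeff g = ∑ h : G, a.coeff h * b.coeff (h⁻¹ * g) := by
  rw [MonoidAlgebra.coeff_mul_apply_left, Finsupp.sum_fintype]
  intro h
  rw [zero_mul]

theorem coeff_mul_right' (a b : MonoidAlgebra ℂ G) (g : G) :
    (a * b).coeff g = ∑ h : G, a.coeff (g * h⁻¹) * b.coeff h := by
  rw [MonoidAlgebra.coeff_mul_apply_right, Finsupp.sum_fintype]
  intro h
  rw [mul_zero]

theorem coeff_sum' {ι : Type*} (s : Finset ι) (f : ι → MonoidAlgebra ℂ G) (g : G) :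
    (∑ i ∈ s, f i).coeff g = ∑ i ∈ s, (f i).coeff g := by
  rw [MonoidAlgebra.coeff_sum, Finsupp.finsetSum_apply]

theorem coeff_add' (a b : MonoidAlgebra ℂ G) (g : G) :
    (a + b).coeff g = a.coeff g + b.coeff g := rfl

theorem coeff_zero' (g : G) : (0 : MonoidAlgebra ℂ G).coeff g = 0 := rfl

theorem coeff_one' [DecidableEq G] (g : G) :
    (1 : MonoidAlgebra ℂ G).coeff g = if g = 1 then 1 else 0 := by
  rw [MonoidAlgebra.one_def, MonoidAlgebra.coeff_single, Finsupp.single_apply]
  by_cases h : g = 1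
  · rw [if_pos h, if_pos h.symm]
  · rw [if_neg h, if_neg (fun h' => h h'.symm)]

/-! ### Central elements -/

/-- The coefficient function is a class function. -/
def Cen (a : MonoidAlgebra ℂ G) : Prop := ∀ g h : G, a.coeff (h * g * h⁻¹) = a.coeff g

theorem Cen.comm {a : MonoidAlgebra ℂ G} (ha : Cen a) (c : MonoidAlgebra ℂ G) : a * c = c * a := by
  apply ext'
  intro g
  rw [coeff_mul', coeff_mul_right']
  apply Fintype.sum_equiv (MulAut.conj g⁻¹).toEquiv
  intro h
  simp only [MulEquiv.toEquiv_eq_coe, EquivLike.coe_coe, MulAut.conj_apply, inv_inv]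
  rw [mul_comm]
  congr 1
  · congr 1
    group
  · exact (ha h g⁻¹).symm.trans (by rw [inv_inv])

/-! ### Grading by the quotient -/

section grading

variable (N : Subgroup G) [hN : N.Normal]

/-- `a` is supported on the coset `x`. -/
def Hom (x : G ⧸ N) (a : MonoidAlgebra ℂ G) : Prop :=
  ∀ g, a.coeff g ≠ 0 → (g : G ⧸ N) = x

theorem Hom.zero (x : G ⧸ N) : Hom N x 0 := fun _ h => absurd rfl h

theorem Hom.add {x : G ⧸ N} {a b : MonoidAlgebra ℂ G} (ha : Hom N x a) (hb : Hom N x b) :
    Hom N x (a + b) := by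
  intro g hg
  by_cases h : a.coeff g = 0
  · apply hb g
    intro h'
    apply hg
    rw [coeff_add', h, h', add_zero]
  · exact ha g h

theorem Hom.sum {ι : Type*} (s : Finset ι) {x : G ⧸ N} (f : ι → MonoidAlgebra ℂ G)
    (h : ∀ i ∈ s, Hom N x (f i)) : Hom N x (∑ i ∈ s, f i) := by
  classical
  induction s using Finset.induction_on with
  | empty => simpa using Hom.zero N x
  | insert a s ha ih =>
    rw [Finset.sum_insert ha]
    exact Hom.add N (h a (Finset.mem_insert_self a s))
      (ih (fun i hi => h i (Finset.mem_insert_of_mem hi)))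

theorem Hom.mul {x y : G ⧸ N} {a b : MonoidAlgebra ℂ G} (ha : Hom N x a) (hb : Hom N y b) :
    Hom N (x * y) (a * b) := by
  intro g hg
  rw [coeff_mul'] at hg
  obtain ⟨h, -, hh⟩ := Finset.exists_ne_zero_of_sum_ne_zero hg
  have h1 : a.coeff h ≠ 0 := left_ne_zero_of_mul hh
  have h2 : b.coeff (h⁻¹ * g) ≠ 0 := right_ne_zero_of_mul hh
  rw [← ha h h1, ← hb _ h2, ← QuotientGroup.mk_mul]
  congr 1
  group

theorem Hom.one : Hom N 1 (1 : MonoidAlgebra ℂ G) := by
  classical
  intro g hg
  rw [coeff_one'] at hg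
  by_cases h : g = 1
  · rw [h]; rfl
  · rw [if_neg h] at hg
    exact absurd rfl hg

open Classical in
/-- The homogeneous component of `a` on the coset `x`. -/
noncomputable def comp (x : G ⧸ N) (a : MonoidAlgebra ℂ G) : MonoidAlgebra ℂ G :=
  ofFun (fun g => if (g : G ⧸ N) = x then a.coeff g else 0)

open Classical in
theorem comp_coeff (x : G ⧸ N) (a : MonoidAlgebra ℂ G) (g : G) :
    (comp N x a).coeff g = if (g : G ⧸ N) = x then a.coeff g else 0 := rfl

theorem hom_comp (x : G ⧸ N) (a : MonoidAlgebra ℂ G) : Hom N x (comp N x a) := by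
  classical
  intro g hg
  rw [comp_coeff] at hg
  by_contra h
  rw [if_neg h] at hg
  exact hg rfl

theorem sum_comp [Fintype (G ⧸ N)] (a : MonoidAlgebra ℂ G) : ∑ x : G ⧸ N, comp N x a = a := by
  classical
  apply ext'
  intro g
  rw [coeff_sum']
  simp_rw [comp_coeff]
  rw [Finset.sum_ite_eq]
  simp

theorem comp_of_hom {x : G ⧸ N} {a : MonoidAlgebra ℂ G} (ha : Hom N x a) : comp N x a = a := by
  classical
  apply ext'
  intro g
  rw [comp_coeff]
  by_cases h : (g : G ⧸ N) = x
  · rw [if_pos h]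
  · rw [if_neg h]
    by_contra h'
    exact h (ha g (fun h'' => h' h''.symm))

/-- Components of a product with a homogeneous right factor. -/
theorem comp_mul_hom {y : G ⧸ N} {c : MonoidAlgebra ℂ G} (hc : Hom N y c) (z : G ⧸ N)
    (a : MonoidAlgebra ℂ G) : comp N z (a * c) = comp N (z * y⁻¹) a * c := by
  classical
  apply ext'
  intro g
  rw [comp_coeff, coeff_mul', coeff_mul']
  by_cases hz : (g : G ⧸ N) = z
  · rw [if_pos hz]
    apply Finset.sum_congr rfl
    intro h _
    rw [comp_coeff]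
    by_cases hc0 : c.coeff (h⁻¹ * g) = 0
    · rw [hc0, mul_zero, mul_zero]
    · have h1 := hc _ hc0
      have h2 : (h : G ⧸ N) = z * y⁻¹ := by
        rw [← hz, ← h1, ← QuotientGroup.mk_inv, ← QuotientGroup.mk_mul]
        congr 1
        group
      rw [if_pos h2]
  · rw [if_neg hz]
    symm
    apply Finset.sum_eq_zero
    intro h _
    rw [comp_coeff]
    by_cases hc0 : c.coeff (h⁻¹ * g) = 0
    · rw [hc0, mul_zero]
    · have h1 := hc _ hc0
      have h2 : (h : G ⧸ N) ≠ z * y⁻¹ := by
        intro h2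
        apply hz
        have : (g : G ⧸ N) = (h : G ⧸ N) * ((h⁻¹ * g : G) : G ⧸ N) := by
          rw [← QuotientGroup.mk_mul]
          congr 1
          group
        rw [this, h2, h1]
        group
      rw [if_neg h2, zero_mul]

/-- Invariance under conjugation by `N`. -/
def Inv (a : MonoidAlgebra ℂ G) : Prop := ∀ n ∈ N, ∀ g, a.coeff (n * g * n⁻¹) = a.coeff g

theorem Inv.zero : Inv N (0 : MonoidAlgebra ℂ G) := fun _ _ _ => rfl

theorem Inv.add {a b : MonoidAlgebra ℂ G} (ha : Inv N a) (hb : Inv N b) : Inv N (a + b) := by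
  intro n hn g
  rw [coeff_add', coeff_add', ha n hn, hb n hn]

theorem Inv.sum {ι : Type*} (s : Finset ι) (f : ι → MonoidAlgebra ℂ G)
    (h : ∀ i ∈ s, Inv N (f i)) : Inv N (∑ i ∈ s, f i) := by
  intro n hn g
  rw [coeff_sum', coeff_sum']
  exact Finset.sum_congr rfl (fun i hi => h i hi n hn g)

theorem Inv.mul {a b : MonoidAlgebra ℂ G} (ha : Inv N a) (hb : Inv N b) : Inv N (a * b) := by
  intro n hn g
  rw [coeff_mul', coeff_mul']
  symm
  apply Fintype.sum_equiv (MulAut.conj n).toEquiv
  intro h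
  simp only [MulEquiv.toEquiv_eq_coe, EquivLike.coe_coe, MulAut.conj_apply]
  rw [ha n hn]
  congr 1
  rw [← hb n hn (h⁻¹ * g)]
  congr 1
  group

theorem Inv.one : Inv N (1 : MonoidAlgebra ℂ G) := by
  classical
  intro n _ g
  rw [coeff_one', coeff_one']
  by_cases h : g = 1
  · rw [if_pos h, if_pos (by rw [h]; group)]
  · rw [if_neg h, if_neg]
    intro h'
    apply h
    have : g = n⁻¹ * (n * g * n⁻¹) * n := by group
    rw [this, h']
    group

theorem Inv.comp {a : MonoidAlgebra ℂ G} (ha : Inv N a) (x : G ⧸ N) : Inv N (comp N x a) := by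
  classical
  intro n hn g
  rw [comp_coeff, comp_coeff, ha n hn]
  have : ((n * g * n⁻¹ : G) : G ⧸ N) = (g : G ⧸ N) := by
    rw [QuotientGroup.mk_mul, QuotientGroup.mk_mul, (QuotientGroup.eq_one_iff n).mpr hn,
      QuotientGroup.mk_inv, (QuotientGroup.eq_one_iff n).mpr hn]
    group
  rw [this]

theorem Cen.inv {a : MonoidAlgebra ℂ G} (ha : Cen a) : Inv N a := fun n _ g => ha g n

end grading

/-! ### Local coefficients -/

section localval

variable (M : Ideal AlgInt) [hMp : M.IsPrime]

/-- All coefficients lie in the local ring. -/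
def RVal (a : MonoidAlgebra ℂ G) : Prop := ∀ g, MemLocalRing M (a.coeff g)

/-- All coefficients lie in the local ideal. -/
def IVal (a : MonoidAlgebra ℂ G) : Prop := ∀ g, MemLocalIdeal M (a.coeff g)

theorem memLocalRing_sum {ι : Type*} (s : Finset ι) (f : ι → ℂ)
    (h : ∀ i ∈ s, MemLocalRing M (f i)) : MemLocalRing M (∑ i ∈ s, f i) :=
  Subring.sum_mem (locSubring M) h

theorem memLocalRing_prod {ι : Type*} (s : Finset ι) (f : ι → ℂ)
    (h : ∀ i ∈ s, MemLocalRing M (f i)) : MemLocalRing M (∏ i ∈ s, f i) :=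
  Subring.prod_mem (locSubring M) h

theorem memLocalRing_of_ideal {z : ℂ} (h : MemLocalIdeal M z) : MemLocalRing M z := by
  obtain ⟨a, b, _, hb, rfl⟩ := h
  exact ⟨a, b, hb, rfl⟩

theorem RVal.zero : RVal M (0 : MonoidAlgebra ℂ G) :=
  fun _ => memLocalRing_of_integral isIntegral_zero

theorem RVal.one : RVal M (1 : MonoidAlgebra ℂ G) := by
  classical
  intro g
  rw [coeff_one']
  split_ifs
  · exact memLocalRing_of_integral isIntegral_one
  · exact memLocalRing_of_integral isIntegral_zero

theorem RVal.add {a b : MonoidAlgebra ℂ G} (ha : RVal M a) (hb : RVal M b) : RVal M (a + b) :=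
  fun g => memLocalRing_add (ha g) (hb g)

theorem RVal.sum {ι : Type*} (s : Finset ι) (f : ι → MonoidAlgebra ℂ G)
    (h : ∀ i ∈ s, RVal M (f i)) : RVal M (∑ i ∈ s, f i) := by
  intro g
  rw [coeff_sum']
  exact memLocalRing_sum M s _ (fun i hi => h i hi g)

theorem RVal.mul {a b : MonoidAlgebra ℂ G} (ha : RVal M a) (hb : RVal M b) : RVal M (a * b) := by
  intro g
  rw [coeff_mul']
  exact memLocalRing_sum M _ _ (fun h _ => memLocalRing_mul (ha h) (hb _))

theorem RVal.comp {a : MonoidAlgebra ℂ G} (ha : RVal M a) (N : Subgroup G) [N.Normal]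
    (x : G ⧸ N) : RVal M (comp N x a) := by
  classical
  intro g
  rw [comp_coeff]
  split_ifs
  · exact ha g
  · exact memLocalRing_of_integral isIntegral_zero

theorem IVal.zero : IVal M (0 : MonoidAlgebra ℂ G) :=
  fun _ => memLocalIdeal_zero hMp.ne_top

theorem IVal.add {a b : MonoidAlgebra ℂ G} (ha : IVal M a) (hb : IVal M b) : IVal M (a + b) :=
  fun g => memLocalIdeal_add (ha g) (hb g)

theorem IVal.mul_right {a b : MonoidAlgebra ℂ G} (ha : IVal M a) (hb : RVal M b) :
    IVal M (a * b) := by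
  intro g
  rw [coeff_mul']
  apply memLocalIdeal_sum
  intro h _
  rw [mul_comm]
  exact memLocalIdeal_mul_localRing (hb _) (ha h)

end localval

end Cfsg.Agent.Lib.helper3.GrAlg
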