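import Mathlib
import Cfsg.Prelude.Def_Characters
import Cfsg.Prelude.Def_Blocks
import Cfsg.Agent.Lib.helper3.GrAlg1

/-!
# The centre of the group algebra of a normal subgroup inside the group algebra:
Fourier coordinates, central characters
-/

set_option autoImplicit false
set_option linter.style.haveILetI false
set_option linter.unusedSectionVars false

namespace Cfsg.Agent.Lib.helper3.GrAlg

open Cfsg Cfsg.Agent.Lib.helper3.LocalM Cfsg.Agent.Lib.helper3.Block
open Cfsg.Agent.Lib.helper3.CharBasic Cfsg.Agent.Lib.helper3.Irr Cfsg.Agent.Lib.helper3.Lin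
open Cfsg.Agent.Lib.helper3.IndFun
open scoped ComplexConjugate

variable {G : Type*} [Group G] [Fintype G]

variable (N : Subgroup G) [hN : N.Normal] [Fintype N]

theorem sum_eq_sum_subgroup (f : G → ℂ) (hf : ∀ g, g ∉ N → f g = 0) :
    ∑ g : G, f g = ∑ n : N, f (n : G) := by
  classical
  have h1 : ∑ g : G, f g = ∑ g ∈ Finset.univ.filter (fun g : G => g ∈ N), f g := by
    symm
    apply Finset.sum_subset (Finset.filter_subset _ _)
    intro g _ hg
    apply hf
    intro h
    apply hg
    simp [h]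
  rw [h1]
  exact Finset.sum_subtype _ (fun g => by simp) f

open Classical in
/-- The central element of the group algebra of `N` with Fourier coordinates `c`, inside the
group algebra of `G`. -/
noncomputable def zN (c : IrrCharacter N → ℂ) : MonoidAlgebra ℂ G :=
  ofFun (fun g => if h : g ∈ N then coef c (⟨g, h⟩ : N) else 0)

theorem zN_coeff_mem (c : IrrCharacter N → ℂ) (n : N) : (zN N c).coeff (n : G) = coef c n := by
  classical
  unfold zN
  rw [ofFun_coeff, dif_pos n.2]

theorem zN_coeff_notMem (c : IrrCharacter N → ℂ) {g : G} (hg : g ∉ N) :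
    (zN N c).coeff g = 0 := by
  classical
  unfold zN
  rw [ofFun_coeff, dif_neg hg]

theorem hom_zN (c : IrrCharacter N → ℂ) : Hom N 1 (zN N c) := by
  intro g hg
  by_contra h
  apply hg
  apply zN_coeff_notMem
  intro hgN
  exact h ((QuotientGroup.eq_one_iff g).mpr hgN)

theorem inv_zN (c : IrrCharacter N → ℂ) : Inv N (zN N c) := by
  intro n hn g
  by_cases hg : g ∈ N
  · have h1 : n * g * n⁻¹ ∈ N := N.mul_mem (N.mul_mem hn hg) (N.inv_mem hn)
    have e1 := zN_coeff_mem N c ⟨n * g * n⁻¹, h1⟩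
    have e2 := zN_coeff_mem N c ⟨g, hg⟩
    simp only at e1 e2
    rw [e1, e2]
    exact coef_conj c (⟨g, hg⟩ : N) (⟨n, hn⟩ : N)
  · have h1 : n * g * n⁻¹ ∉ N := by
      intro h
      apply hg
      have : g = n⁻¹ * (n * g * n⁻¹) * n := by group
      rw [this]
      exact N.mul_mem (N.mul_mem (N.inv_mem hn) h) hn
    rw [zN_coeff_notMem N c hg, zN_coeff_notMem N c h1]

theorem zN_coeff_of_mem (c : IrrCharacter N → ℂ) {g : G} (hg : g ∈ N) :
    (zN N c).coeff g = coef c (⟨g, hg⟩ : N) := by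
  classical
  unfold zN
  rw [ofFun_coeff, dif_pos hg]

theorem zN_mul (c d : IrrCharacter N → ℂ) : zN N (c * d) = zN N c * zN N d := by
  apply ext'
  intro g
  rw [coeff_mul']
  rw [sum_eq_sum_subgroup N (fun h => (zN N c).coeff h * (zN N d).coeff (h⁻¹ * g))
    (fun h hh => by beta_reduce; rw [zN_coeff_notMem N c hh, zero_mul])]
  by_cases hg : g ∈ N
  · rw [zN_coeff_of_mem N _ hg, coef_mul]
    apply Finset.sum_congr rfl
    intro n _
    have hm : (n : G)⁻¹ * g ∈ N := N.mul_mem (N.inv_mem n.2) hg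
    rw [zN_coeff_of_mem N c n.2, zN_coeff_of_mem N d hm]
    rfl
  · rw [zN_coeff_notMem N _ hg]
    symm
    apply Finset.sum_eq_zero
    intro n _
    rw [zN_coeff_notMem N d, mul_zero]
    intro h
    apply hg
    have : g = (n : G) * ((n : G)⁻¹ * g) := by group
    rw [this]
    exact N.mul_mem n.2 h

theorem zN_add (c d : IrrCharacter N → ℂ) : zN N (c + d) = zN N c + zN N d := by
  apply ext'
  intro g
  rw [coeff_add']
  by_cases hg : g ∈ N
  · have e1 := zN_coeff_mem N (c + d) ⟨g, hg⟩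
    have e2 := zN_coeff_mem N c ⟨g, hg⟩
    have e3 := zN_coeff_mem N d ⟨g, hg⟩
    simp only at e1 e2 e3
    rw [e1, e2, e3, coef_add]
  · rw [zN_coeff_notMem N _ hg, zN_coeff_notMem N _ hg, zN_coeff_notMem N _ hg, add_zero]

theorem zN_smul (r : ℂ) (c : IrrCharacter N → ℂ) : zN N (r • c) = r • zN N c := by
  apply ext'
  intro g
  rw [MonoidAlgebra.coeff_smul_apply, smul_eq_mul]
  by_cases hg : g ∈ N
  · have e1 := zN_coeff_mem N (r • c) ⟨g, hg⟩
    have e2 := zN_coeff_mem N c ⟨g, hg⟩
    simp only at e1 e2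
    rw [e1, e2, coef_smul]
  · rw [zN_coeff_notMem N _ hg, zN_coeff_notMem N _ hg, mul_zero]

theorem zN_one : zN N (fun _ => (1 : ℂ)) = 1 := by
  classical
  apply ext'
  intro g
  rw [coeff_one']
  by_cases hg : g ∈ N
  · have e1 := zN_coeff_mem N (fun _ => (1 : ℂ)) ⟨g, hg⟩
    simp only at e1
    rw [e1, coef_one]
    by_cases h : g = 1
    · rw [if_pos h, if_pos (Subtype.ext h)]
    · rw [if_neg h, if_neg (fun h' => h (congrArg Subtype.val h'))]
  · rw [zN_coeff_notMem N _ hg, if_neg]
    intro h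
    apply hg
    rw [h]
    exact N.one_mem

/-- The central character of `θ` evaluated at (the part inside `N` of) `s`. -/
noncomputable def om (θ : IrrCharacter N) (s : MonoidAlgebra ℂ G) : ℂ :=
  (∑ n : N, s.coeff (n : G) * (θ : N → ℂ) n) / (θ : N → ℂ) 1

theorem om_zN (c : IrrCharacter N → ℂ) (θ : IrrCharacter N) : om N θ (zN N c) = c θ := by
  unfold om
  simp_rw [zN_coeff_mem]
  rw [sum_coef_mul]
  have h0 := apply_one_ne_zero θ.2
  field_simp

/-- Fourier inversion: an `N`-invariant element supported on `N` is determined by its central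
character values. -/
theorem eq_zN {s : MonoidAlgebra ℂ G} (h1 : Hom N 1 s) (h2 : Inv N s) :
    s = zN N (fun θ => om N θ s) := by
  classical
  have hN0 : (Nat.card N : ℂ) ≠ 0 := card_ne_zero_complex N
  apply ext'
  intro g
  by_cases hg : g ∈ N
  · have e1 := zN_coeff_mem N (fun θ => om N θ s) ⟨g, hg⟩
    simp only at e1
    rw [e1]
    unfold coef om
    have h3 : ∀ θ : IrrCharacter N,
        (∑ n : N, s.coeff (n : G) * (θ : N → ℂ) n) / (θ : N → ℂ) 1 * (θ : N → ℂ) 1
          * conj ((θ : N → ℂ) ⟨g, hg⟩)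
        = ∑ n : N, s.coeff (n : G) * ((θ : N → ℂ) n * conj ((θ : N → ℂ) ⟨g, hg⟩)) := by
      intro θ
      have h0 := apply_one_ne_zero θ.2
      rw [div_mul_cancel₀ _ h0, Finset.sum_mul]
      apply Finset.sum_congr rfl
      intro n _
      ring
    rw [Finset.sum_congr rfl (fun θ _ => h3 θ), Finset.sum_comm]
    simp_rw [← Finset.mul_sum, sum_irr_mul_conj]
    have h4 : ∀ m : N, (Nat.card {y : N // y * ⟨g, hg⟩ * y⁻¹ = m} : ℂ)
        = ∑ y : N, if y * ⟨g, hg⟩ * y⁻¹ = m then (1 : ℂ) else 0 := by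
      intro m
      rw [Nat.card_eq_fintype_card, Fintype.card_subtype, Finset.sum_boole]
    simp_rw [h4]
    have h6 : ∑ x : N, s.coeff (x : G) * ∑ y : N, (if y * ⟨g, hg⟩ * y⁻¹ = x then (1 : ℂ) else 0)
        = ∑ y : N, ∑ m : N, s.coeff (m : G) * (if y * ⟨g, hg⟩ * y⁻¹ = m then (1 : ℂ) else 0) := by
      simp_rw [Finset.mul_sum]
      rw [Finset.sum_comm]
    have h5 : ∀ y : N, ∑ m : N, s.coeff (m : G) * (if y * ⟨g, hg⟩ * y⁻¹ = m then (1 : ℂ) else 0)
        = s.coeff g := by
      intro y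
      rw [Finset.sum_eq_single (y * ⟨g, hg⟩ * y⁻¹)]
      · rw [if_pos rfl, mul_one]
        exact h2 y y.2 g
      · intro m _ hm
        rw [if_neg (fun h => hm h.symm), mul_zero]
      · intro h
        exact absurd (Finset.mem_univ _) h
    rw [h6, Finset.sum_congr rfl (fun y _ => h5 y), Finset.sum_const, Finset.card_univ,
      nsmul_eq_mul, ← Nat.card_eq_fintype_card]
    field_simp
  · rw [zN_coeff_notMem N _ hg]
    by_contra h
    apply hg
    exact (QuotientGroup.eq_one_iff g).mp (h1 g h)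

open Classical in
/-- The primitive idempotent of `θ`. -/
noncomputable def eN (θ : IrrCharacter N) : MonoidAlgebra ℂ G :=
  zN N (fun θ' => if θ' = θ then 1 else 0)

theorem zN_mul_eN (c : IrrCharacter N → ℂ) (θ : IrrCharacter N) :
    zN N c * eN N θ = c θ • eN N θ := by
  classical
  unfold eN
  rw [← zN_mul, ← zN_smul]
  congr 1
  funext θ'
  simp only [Pi.mul_apply, Pi.smul_apply, smul_eq_mul]
  by_cases h : θ' = θ
  · rw [if_pos h, h]
  · rw [if_neg h, mul_zero, mul_zero]

theorem eN_ne_zero (θ : IrrCharacter N) : eN N θ ≠ 0 := by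
  classical
  intro h
  have h1 := om_zN N (fun θ' => if θ' = θ then (1 : ℂ) else 0) θ
  rw [if_pos rfl] at h1
  have h2 : om N θ (eN N θ) = 0 := by
    rw [h]
    unfold om
    simp [coeff_zero']
  unfold eN at h2
  rw [h1] at h2
  exact one_ne_zero h2

theorem om_eq_zero_of_mul_eN {s : MonoidAlgebra ℂ G} (h1 : Hom N 1 s) (h2 : Inv N s)
    (θ : IrrCharacter N) (h : s * eN N θ = 0) : om N θ s = 0 := by
  rw [eq_zN N h1 h2, zN_mul_eN] at h
  rcases smul_eq_zero.mp h with h | h
  · exact h
  · exact absurd h (eN_ne_zero N θ)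

theorem om_mul {s t : MonoidAlgebra ℂ G} (h1 : Hom N 1 s) (h2 : Inv N s)
    (h3 : Hom N 1 t) (h4 : Inv N t) (θ : IrrCharacter N) :
    om N θ (s * t) = om N θ s * om N θ t := by
  conv_lhs => rw [eq_zN N h1 h2, eq_zN N h3 h4, ← zN_mul, om_zN]
  rfl

variable {M : Ideal AlgInt}

/-- An element supported on `N` whose central character values, divided by `|N|`, lie in the
local ideal has all its coefficients in the local ideal. -/
theorem ival_zN [hMp : M.IsPrime] (c : IrrCharacter N → ℂ)
    (h : ∀ θ, MemLocalIdeal M (c θ / (Nat.card N : ℂ))) : IVal M (zN N c) := by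
  intro g
  by_cases hg : g ∈ N
  · have e1 := zN_coeff_mem N c ⟨g, hg⟩
    simp only at e1
    rw [e1]
    unfold coef
    rw [Finset.mul_sum]
    apply memLocalIdeal_sum
    intro θ _
    have : (Nat.card N : ℂ)⁻¹ * (c θ * (θ : N → ℂ) 1 * conj ((θ : N → ℂ) ⟨g, hg⟩))
        = ((θ : N → ℂ) 1 * conj ((θ : N → ℂ) ⟨g, hg⟩)) * (c θ / (Nat.card N : ℂ)) := by
      rw [div_eq_mul_inv]; ring
    rw [this]
    apply memLocalIdeal_mul_integral (h θ)
    have hc := isCharacter_of_isIrrCharacter θ.2
    exact (isIntegral_of_isCharacter hc 1).mul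
      ((isIntegral_of_isCharacter hc _).map (starRingEnd ℂ).toIntAlgHom)
  · rw [zN_coeff_notMem N _ hg]
    exact memLocalIdeal_zero hMp.ne_top

/-- Characters in the same block have congruent central characters on invariant elements with
local coefficients. -/
theorem om_sub_mem [hMp : M.IsPrime] {θ θ' : IrrCharacter N}
    (hθ : SameBlock M (θ : N → ℂ) (θ' : N → ℂ)) {s : MonoidAlgebra ℂ G} (h2 : Inv N s)
    (h3 : RVal M s) : MemLocalIdeal M (om N θ s - om N θ' s) := by
  have h0 := apply_one_ne_zero θ.2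
  have h0' := apply_one_ne_zero θ'.2
  have hc := isClassFunction_of_isCharacter (isCharacter_of_isIrrCharacter θ.2)
  have hc' := isClassFunction_of_isCharacter (isCharacter_of_isIrrCharacter θ'.2)
  have h4 : om N θ s - om N θ' s = ∑ n : N, s.coeff (n : G) *
      ((θ : N → ℂ) n / (θ : N → ℂ) 1 - (θ' : N → ℂ) n / (θ' : N → ℂ) 1) := by
    unfold om
    rw [Finset.sum_div, Finset.sum_div, ← Finset.sum_sub_distrib]
    apply Finset.sum_congr rfl
    intro n _
    ring
  rw [h4]
  apply memLocalIdeal_sum_class_fun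
  · intro n m
    beta_reduce
    rw [hc n m, hc' n m]
    congr 1
    exact h2 m m.2 n
  · intro n
    have h5 := hθ n
    unfold centralChar at h5
    have : ((Subgroup.centralizer ({n} : Set N)).index : ℂ) * (s.coeff (n : G) *
        ((θ : N → ℂ) n / (θ : N → ℂ) 1 - (θ' : N → ℂ) n / (θ' : N → ℂ) 1))
        = s.coeff (n : G) * (((Subgroup.centralizer ({n} : Set N)).index : ℂ) * (θ : N → ℂ) n
          / (θ : N → ℂ) 1 - ((Subgroup.centralizer ({n} : Set N)).index : ℂ) * (θ' : N → ℂ) n
          / (θ' : N → ℂ) 1) := by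
      ring
    rw [this]
    exact memLocalIdeal_mul_localRing (h3 _) h5

end Cfsg.Agent.Lib.helper3.GrAlg
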