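import Mathlib
import Cfsg.Prelude.Def_Characters
import Cfsg.Prelude.Def_Blocks
import Cfsg.Agent.Lib.helper3.GrAlg2
import Cfsg.Agent.Lib.helper3.BlockCover2

/-!
# Conjugation in the graded group algebra; moving central elements of the normal subgroup
past homogeneous invariant elements
-/

set_option autoImplicit false
set_option linter.style.haveILetI false
set_option linter.unusedSectionVars false

namespace Cfsg.Agent.Lib.helper3.GrAlg

open Cfsg Cfsg.Agent.Lib.helper3.LocalM Cfsg.Agent.Lib.helper3.Block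
open Cfsg.Agent.Lib.helper3.CharBasic Cfsg.Agent.Lib.helper3.Irr Cfsg.Agent.Lib.helper3.Lin
open Cfsg.Agent.Lib.helper3.IndFun
open scoped ComplexConjugate

variable {G : Type*} [Group G] [Fintype G]

/-- Conjugation by `g` on the group algebra. -/
noncomputable def cj (g : G) (a : MonoidAlgebra ℂ G) : MonoidAlgebra ℂ G :=
  ofFun (fun h => a.coeff (g⁻¹ * h * g))

theorem cj_coeff (g : G) (a : MonoidAlgebra ℂ G) (h : G) :
    (cj g a).coeff h = a.coeff (g⁻¹ * h * g) := rfl

theorem cj_add (g : G) (a b : MonoidAlgebra ℂ G) : cj g (a + b) = cj g a + cj g b :=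
  ext' (fun _ => rfl)

theorem cj_zero (g : G) : cj g (0 : MonoidAlgebra ℂ G) = 0 := ext' (fun _ => rfl)

theorem cj_one (g : G) : cj g (1 : MonoidAlgebra ℂ G) = 1 := by
  classical
  apply ext'
  intro h
  rw [cj_coeff, coeff_one', coeff_one']
  by_cases hh : h = 1
  · rw [if_pos hh, if_pos (by rw [hh]; group)]
  · rw [if_neg hh, if_neg]
    intro h'
    apply hh
    have : h = g * (g⁻¹ * h * g) * g⁻¹ := by group
    rw [this, h']
    group

theorem cj_mul (g : G) (a b : MonoidAlgebra ℂ G) : cj g (a * b) = cj g a * cj g b := by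
  apply ext'
  intro h
  rw [cj_coeff, coeff_mul', coeff_mul']
  apply Fintype.sum_equiv (MulAut.conj g).toEquiv
  intro k
  simp only [MulEquiv.toEquiv_eq_coe, EquivLike.coe_coe, MulAut.conj_apply]
  rw [cj_coeff, cj_coeff]
  congr 2 <;> group

theorem cj_cen {a : MonoidAlgebra ℂ G} (ha : Cen a) (g : G) : cj g a = a := by
  apply ext'
  intro h
  rw [cj_coeff]
  have := ha h g⁻¹
  rw [inv_inv] at this
  exact this

variable (N : Subgroup G) [hN : N.Normal]

theorem cj_hom (g : G) {x : G ⧸ N} {a : MonoidAlgebra ℂ G} (ha : Hom N x a) :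
    Hom N ((g : G ⧸ N) * x * (g : G ⧸ N)⁻¹) (cj g a) := by
  intro h hh
  rw [cj_coeff] at hh
  have := ha _ hh
  rw [← this, ← QuotientGroup.mk_inv, ← QuotientGroup.mk_mul, ← QuotientGroup.mk_mul]
  congr 1
  group

theorem cj_hom_one (g : G) {a : MonoidAlgebra ℂ G} (ha : Hom N 1 a) : Hom N 1 (cj g a) := by
  have := cj_hom N g ha
  rwa [mul_one, mul_inv_cancel] at this

theorem cj_inv (g : G) {a : MonoidAlgebra ℂ G} (ha : Inv N a) : Inv N (cj g a) := by
  intro n hn h
  rw [cj_coeff, cj_coeff]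
  have h1 : g⁻¹ * n * g ∈ N := by
    have := hN.conj_mem n hn g⁻¹
    rwa [inv_inv] at this
  rw [← ha _ h1 (g⁻¹ * h * g)]
  congr 1
  group

theorem cj_rval (M : Ideal AlgInt) (g : G) {a : MonoidAlgebra ℂ G} (ha : RVal M a) :
    RVal M (cj g a) := fun h => ha _

theorem cj_comp (g : G) (x : G ⧸ N) (a : MonoidAlgebra ℂ G) :
    cj g (comp N x a) = comp N ((g : G ⧸ N) * x * (g : G ⧸ N)⁻¹) (cj g a) := by
  classical
  apply ext'
  intro h
  rw [cj_coeff, comp_coeff, comp_coeff, cj_coeff]
  have h1 : ((g⁻¹ * h * g : G) : G ⧸ N) = x ↔ (h : G ⧸ N) = (g : G ⧸ N) * x * (g : G ⧸ N)⁻¹ := by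
    rw [QuotientGroup.mk_mul, QuotientGroup.mk_mul, QuotientGroup.mk_inv]
    constructor
    · intro h'
      rw [← h']
      group
    · intro h'
      rw [h']
      group
  by_cases h2 : ((g⁻¹ * h * g : G) : G ⧸ N) = x
  · rw [if_pos h2, if_pos (h1.mp h2)]
  · rw [if_neg h2, if_neg (fun h' => h2 (h1.mpr h'))]

/-- Moving a central element of the group algebra of `N` past a homogeneous invariant element. -/
theorem move {x : G ⧸ N} {c s : MonoidAlgebra ℂ G} (hc : Hom N x c)
    (hs : Hom N 1 s) (hsi : Inv N s) (g : G) (hg : (g : G ⧸ N) = x) :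
    c * s = cj g s * c := by
  apply ext'
  intro h
  rw [coeff_mul_right', coeff_mul']
  apply Fintype.sum_equiv (MulAut.conj h).toEquiv
  intro m
  simp only [MulEquiv.toEquiv_eq_coe, EquivLike.coe_coe, MulAut.conj_apply]
  rw [cj_coeff]
  have e1 : (h * m * h⁻¹)⁻¹ * h = h * m⁻¹ := by group
  rw [e1, mul_comm]
  by_cases hc0 : c.coeff (h * m⁻¹) = 0
  · rw [hc0, mul_zero, mul_zero]
  · congr 1
    have h1 := hc _ hc0
    by_cases hm : m ∈ N
    · have h2 : (h : G ⧸ N) = x := by
        rw [← h1, QuotientGroup.mk_mul, QuotientGroup.mk_inv,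
          (QuotientGroup.eq_one_iff m).mpr hm, inv_one, mul_one]
      have h3 : g⁻¹ * h ∈ N := by
        rw [← QuotientGroup.eq_one_iff, QuotientGroup.mk_mul, QuotientGroup.mk_inv, hg, h2]
        group
      have := hsi _ h3 m
      rw [← this]
      congr 1
      group
    · have h2 : g⁻¹ * (h * m * h⁻¹) * g ∉ N := by
        intro h'
        apply hm
        have h3 := hN.conj_mem _ h' (h⁻¹ * g)
        have e2 : h⁻¹ * g * (g⁻¹ * (h * m * h⁻¹) * g) * (h⁻¹ * g)⁻¹ = m := by group
        rwa [e2] at h3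
      have h4 : s.coeff m = 0 := by
        by_contra h'
        exact hm ((QuotientGroup.eq_one_iff m).mp (hs m h'))
      have h5 : s.coeff (g⁻¹ * (h * m * h⁻¹) * g) = 0 := by
        by_contra h'
        exact h2 ((QuotientGroup.eq_one_iff _).mp (hs _ h'))
      rw [h4, h5]

variable [Fintype N]

/-- Central character values of a conjugate character. -/
theorem om_conjIrr (g : G) (θ : IrrCharacter N) (s : MonoidAlgebra ℂ G) :
    om N (conjIrr N g θ) s = om N θ (cj g s) := by
  unfold om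
  have h1 : ((conjIrr N g θ : IrrCharacter N) : N → ℂ) = conjFun N (θ : N → ℂ) g := rfl
  rw [h1, conjFun_apply_one]
  congr 1
  apply Fintype.sum_equiv (MulAut.conjNormal g : N ≃* N).toEquiv
  intro n
  simp only [MulEquiv.toEquiv_eq_coe, EquivLike.coe_coe]
  rw [cj_coeff]
  have e1 : g⁻¹ * ((MulAut.conjNormal g n : N) : G) * g = (n : G) := by
    rw [MulAut.conjNormal_apply]
    group
  rw [e1]
  congr 1

end Cfsg.Agent.Lib.helper3.GrAlg
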