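import Mathlib
import Cfsg.Prelude.Def_Characters
import Cfsg.Prelude.Def_Blocks
import Cfsg.Agent.Lib.helper3.GrAlg1

/-!
# Elements of the local ideal are nilpotent modulo `p`, uniformly on finite sets
-/

set_option autoImplicit false
set_option linter.style.haveILetI false
set_option linter.unusedSectionVars false

namespace Cfsg.Agent.Lib.helper3.GrAlg

open Cfsg Cfsg.Agent.Lib.helper3.LocalM Cfsg.Agent.Lib.helper3.Block

variable {M : Ideal AlgInt}

/-- Some power of an element of `M` is divisible by `p`, up to a factor outside `M`. -/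
theorem exists_pow_mul_eq {p : ℕ} (hM : IsPModular p M) (a : AlgInt) (ha : a ∈ M) :
    ∃ k : ℕ, ∃ s t : AlgInt, s ∉ M ∧ s * a ^ k = (p : AlgInt) * t := by
  haveI hMp := isPrime_of_isPModular hM
  have hp : p.Prime := hM.1
  haveI : Fact p.Prime := ⟨hp⟩
  obtain ⟨X, hX⟩ : ∃ X : Subalgebra ℤ AlgInt, X = Algebra.adjoin ℤ {a} := ⟨_, rfl⟩
  have haint : IsIntegral ℤ a := integralClosure.isIntegral a
  have hfg : X.toSubmodule.FG := by
    rw [hX]
    exact haint.fg_adjoin_singleton
  haveI : Module.Finite ℤ X := Module.Finite.iff_fg.mpr hfg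
  haveI : Finite (ℤ ⧸ Ideal.span {(p : ℤ)}) :=
    Finite.of_equiv (ZMod p) (Int.quotientSpanNatEquivZMod p).symm.toEquiv
  haveI : Finite (X ⧸ (⊤ : Submodule ℤ X)) := by
    haveI : Subsingleton (X ⧸ (⊤ : Submodule ℤ X)) := Submodule.Quotient.subsingleton_iff.mpr rfl
    infer_instance
  haveI hfin : Finite (X ⧸ (Ideal.span {(p : ℤ)} • (⊤ : Submodule ℤ X))) :=
    Submodule.finite_quotient_smul _ Module.Finite.fg_top
  have haX : a ∈ X := by
    rw [hX]
    exact Algebra.subset_adjoin rfl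
  obtain ⟨f, hf⟩ : ∃ f : ℕ → X ⧸ (Ideal.span {(p : ℤ)} • (⊤ : Submodule ℤ X)),
      f = fun k => Submodule.Quotient.mk ⟨a ^ k, pow_mem haX k⟩ := ⟨_, rfl⟩
  obtain ⟨i, j, hij, hfij⟩ := Finite.exists_ne_map_eq_of_infinite f
  have key : ∀ i j : ℕ, i < j → f i = f j →
      ∃ k : ℕ, ∃ s t : AlgInt, s ∉ M ∧ s * a ^ k = (p : AlgInt) * t := by
    intro i j hlt hfe
    rw [hf] at hfe
    simp only at hfe
    rw [Submodule.Quotient.eq, Submodule.ideal_span_singleton_smul] at hfe
    obtain ⟨t, -, ht⟩ := (Submodule.mem_smul_pointwise_iff_exists _ _ _).mp hfe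
    have ht' : (p : AlgInt) * (t : AlgInt) = a ^ i - a ^ j := by
      have h1 := congrArg (Subtype.val : X → AlgInt) ht
      have h2 : ((⟨a ^ i, pow_mem haX i⟩ - ⟨a ^ j, pow_mem haX j⟩ : X) : AlgInt)
          = a ^ i - a ^ j := rfl
      rw [h2] at h1
      rw [← h1]
      simp
    refine ⟨i, 1 - a ^ (j - i), t, ?_, ?_⟩
    · intro hs
      have h1 : a ^ (j - i) ∈ M := M.pow_mem_of_mem ha _ (Nat.sub_pos_of_lt hlt)
      have h2 : (1 : AlgInt) ∈ M := by
        have := M.add_mem hs h1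
        simpa using this
      exact hMp.ne_top ((Ideal.eq_top_iff_one M).mpr h2)
    · rw [ht', sub_mul, one_mul, ← pow_add, Nat.sub_add_cancel hlt.le]
  rcases lt_or_gt_of_ne hij with h | h
  · exact key i j h hfij
  · exact key j i h hfij.symm

/-- Some power of an element of the local ideal is `p` times a local integer. -/
theorem exists_pow_eq_p_mul {p : ℕ} (hM : IsPModular p M) {v : ℂ} (hv : MemLocalIdeal M v) :
    ∃ k : ℕ, ∃ r : ℂ, MemLocalRing M r ∧ v ^ k = (p : ℂ) * r := by
  haveI hMp := isPrime_of_isPModular hM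
  obtain ⟨a, b, ha, hb, rfl⟩ := hv
  obtain ⟨k, s, t, hs, hst⟩ := exists_pow_mul_eq hM a ha
  have hb0 := coe_ne_zero_of_notMem hb
  have hs0 := coe_ne_zero_of_notMem hs
  have hsb : s * b ^ k ∉ M := by
    intro h
    rcases hMp.mem_or_mem h with h | h
    · exact hs h
    · exact hb (hMp.mem_of_pow_mem k h)
  refine ⟨k, (t : ℂ) / ((s * b ^ k : AlgInt) : ℂ), ⟨t, s * b ^ k, hsb, rfl⟩, ?_⟩
  have h1 : (s : ℂ) * (a : ℂ) ^ k = (p : ℂ) * (t : ℂ) := by
    have := congrArg (Subtype.val : AlgInt → ℂ) hst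
    push_cast at this
    exact this
  push_cast
  rw [div_pow]
  field_simp
  linear_combination h1

/-- Large powers of an element of the local ideal, divided by a fixed positive integer, lie in
the local ideal. -/
theorem exists_pow_div_mem {p : ℕ} (hM : IsPModular p M) {v : ℂ} (hv : MemLocalIdeal M v)
    (d : ℕ) (hd : d ≠ 0) :
    ∃ k : ℕ, ∀ k' : ℕ, k ≤ k' → MemLocalIdeal M (v ^ k' / (d : ℂ)) := by
  haveI hMp := isPrime_of_isPModular hM
  have hp : p.Prime := hM.1
  obtain ⟨k, r, hr, hk⟩ := exists_pow_eq_p_mul hM hv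
  obtain ⟨e, d', hd', hdd⟩ := Nat.exists_eq_pow_mul_and_not_dvd hd p hp.ne_one
  have hd'M : (d' : AlgInt) ∉ M := fun h => hd' ((natCast_mem_iff hM d').mp h)
  have hd'0 : (d' : ℂ) ≠ 0 := by
    have := coe_ne_zero_of_notMem hd'M
    simpa using this
  have hp0 : (p : ℂ) ≠ 0 := by exact_mod_cast hp.ne_zero
  have hpM : MemLocalIdeal M (p : ℂ) := by
    have := memLocalIdeal_of_mem hM.2.2 hMp.ne_top
    simpa using this
  have hvR : MemLocalRing M v := memLocalRing_of_ideal M hv
  have hinv : MemLocalRing M ((d' : ℂ)⁻¹) := by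
    refine ⟨1, (d' : AlgInt), hd'M, ?_⟩
    push_cast
    rw [one_div]
  refine ⟨k * (e + 1), ?_⟩
  intro k' hk'
  obtain ⟨l, rfl⟩ := Nat.exists_eq_add_of_le hk'
  have h1 : v ^ (k * (e + 1) + l) / (d : ℂ)
      = (r ^ (e + 1) * v ^ l * (d' : ℂ)⁻¹) * (p : ℂ) := by
    rw [pow_add, pow_mul, hk, hdd]
    push_cast
    field_simp
    ring
  rw [h1]
  apply memLocalIdeal_mul_localRing _ hpM
  apply memLocalRing_mul (memLocalRing_mul _ _) hinv
  · have := memLocalRing_prod M (Finset.range (e + 1)) (fun _ => r) (fun _ _ => hr)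
    simpa using this
  · have := memLocalRing_prod M (Finset.range l) (fun _ => v) (fun _ _ => hvR)
    simpa using this

/-- Uniform version over a finite set: long products of elements of a finite subset of the
local ideal, divided by a fixed positive integer, lie in the local ideal. -/
theorem exists_uniform_pow {p : ℕ} (hM : IsPModular p M) (V : Set ℂ) (hV : V.Finite)
    (h : ∀ v ∈ V, MemLocalIdeal M v) (d : ℕ) (hd : d ≠ 0) :
    ∃ m : ℕ, 0 < m ∧ ∀ f : Fin m → ℂ, (∀ i, f i ∈ V) →
      MemLocalIdeal M ((∏ i, f i) / (d : ℂ)) := by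
  classical
  haveI hMp := isPrime_of_isPModular hM
  by_cases hne : V.Nonempty
  · haveI : Fintype V := hV.fintype
    haveI : Nonempty V := hne.to_subtype
    choose kf hkf using fun v : V => exists_pow_div_mem hM (h v v.2) d hd
    obtain ⟨K, hK⟩ : ∃ K : ℕ, ∀ v : V, kf v ≤ K :=
      ⟨Finset.univ.sup kf, fun v => Finset.le_sup (Finset.mem_univ v)⟩
    have hcardV : 0 < Fintype.card V := Fintype.card_pos
    refine ⟨Fintype.card V * (K + 1), Nat.mul_pos hcardV (Nat.succ_pos K), ?_⟩
    intro f hf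
    obtain ⟨F, hF⟩ : ∃ F : Fin (Fintype.card V * (K + 1)) → V, F = fun i => ⟨f i, hf i⟩ :=
      ⟨_, rfl⟩
    have hcard : Fintype.card V * (K + 1) ≤ Fintype.card (Fin (Fintype.card V * (K + 1))) := by
      rw [Fintype.card_fin]
    obtain ⟨v, hv⟩ := Fintype.exists_le_card_fiber_of_mul_le_card F hcard
    have hsplit := Finset.prod_filter_mul_prod_filter_not Finset.univ (fun i => F i = v) f
    have h1 : ∏ i ∈ Finset.univ.filter (fun i => F i = v), f i
        = (v : ℂ) ^ (Finset.univ.filter (fun i => F i = v)).card := by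
      rw [Finset.prod_congr rfl (g := fun _ => (v : ℂ)), Finset.prod_const]
      intro i hi
      have := (Finset.mem_filter.mp hi).2
      rw [hF] at this
      exact congrArg Subtype.val this
    have h2 : MemLocalRing M (∏ i ∈ Finset.univ.filter (fun i => ¬ F i = v), f i) :=
      memLocalRing_prod M _ _ (fun i _ => memLocalRing_of_ideal M (h _ (hf i)))
    rw [← hsplit, h1, mul_comm, mul_div_assoc]
    apply memLocalIdeal_mul_localRing h2
    apply hkf v
    exact (hK v).trans ((Nat.le_succ K).trans hv)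
  · refine ⟨1, Nat.one_pos, ?_⟩
    intro f hf
    exact absurd ⟨f 0, hf 0⟩ hne

end Cfsg.Agent.Lib.helper3.GrAlg
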