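import Mathlib
import Cfsg.Prelude.Def_Characters
import Cfsg.Prelude.Def_Blocks
import Cfsg.Agent.Lib.helper3.GrAlg3
import Cfsg.Agent.Lib.helper3.GrAlg4

/-!
# A graded right ideal whose degree one part lies in the radical of the centre of the normal
subgroup consists of elements nilpotent modulo the local ideal: products of components
-/

set_option autoImplicit false
set_option linter.style.haveILetI false
set_option linter.unusedSectionVars false

namespace Cfsg.Agent.Lib.helper3.GrAlg

open Cfsg Cfsg.Agent.Lib.helper3.LocalM Cfsg.Agent.Lib.helper3.Block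
open Cfsg.Agent.Lib.helper3.CharBasic Cfsg.Agent.Lib.helper3.Irr Cfsg.Agent.Lib.helper3.Lin
open Cfsg.Agent.Lib.helper3.IndFun
open scoped ComplexConjugate Pointwise

/-- In a long enough list of elements of a finite group some nonempty block of consecutive
entries has product one. -/
theorem exists_consecutive {Q : Type*} [Group Q] [Finite Q] (L : List Q)
    (h : Nat.card Q ≤ L.length) :
    ∃ L₁ L₂ L₃ : List Q, L = L₁ ++ L₂ ++ L₃ ∧ L₂ ≠ [] ∧ L₂.prod = 1 := by
  classical
  haveI := Fintype.ofFinite Q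
  obtain ⟨f, hf⟩ : ∃ f : Fin (L.length + 1) → Q, f = fun i : Fin (L.length + 1) => (L.take (i : ℕ)).prod := ⟨_, rfl⟩
  have hcard : Fintype.card Q < Fintype.card (Fin (L.length + 1)) := by
    rw [Fintype.card_fin, ← Nat.card_eq_fintype_card]
    omega
  obtain ⟨i, j, hij, hfij⟩ := Fintype.exists_ne_map_eq_of_card_lt f hcard
  have key : ∀ i j : Fin (L.length + 1), i < j → f i = f j →
      ∃ L₁ L₂ L₃ : List Q, L = L₁ ++ L₂ ++ L₃ ∧ L₂ ≠ [] ∧ L₂.prod = 1 := by
    intro i j hlt hfe
    have hlt' : (i : ℕ) < (j : ℕ) := hlt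
    have hj : (j : ℕ) ≤ L.length := Nat.lt_succ_iff.mp j.2
    have h1 : L.take i ++ (L.take j).drop i = L.take j := by
      have : L.take i = (L.take j).take i := by
        rw [List.take_take, min_eq_left hlt'.le]
      rw [this, List.take_append_drop]
    refine ⟨L.take i, (L.take j).drop i, L.drop j, ?_, ?_, ?_⟩
    · rw [h1, List.take_append_drop]
    · intro h0
      have := congrArg List.length h0
      rw [List.length_drop, List.length_take, min_eq_left hj] at this
      simp only [List.length_nil] at this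
      omega
    · have h2 : (L.take j).prod = (L.take i).prod * ((L.take j).drop i).prod := by
        rw [← List.prod_append, h1]
      rw [hf] at hfe
      simp only at hfe
      rw [h2] at hfe
      exact left_eq_mul.mp hfe
  rcases lt_or_gt_of_ne hij with hlt | hlt
  · exact key i j hlt hfij
  · exact key j i hlt hfij.symm

variable {G : Type*} [Group G] [Fintype G]
variable (N : Subgroup G) [hN : N.Normal] [Fintype N] (M : Ideal AlgInt) [hMp : M.IsPrime]

/-- Membership of a homogeneous element in the graded right ideal of elements all of whose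
degree one multiples have central character values in the local ideal. -/
structure InN (x : G ⧸ N) (a : MonoidAlgebra ℂ G) : Prop where
  hom : Hom N x a
  inv : Inv N a
  rval : RVal M a
  small : ∀ c, Hom N x⁻¹ c → Inv N c → RVal M c → ∀ θ : IrrCharacter N,
    MemLocalIdeal M (om N θ (a * c))

theorem InN.mul_right {x y : G ⧸ N} {a c : MonoidAlgebra ℂ G} (ha : InN N M x a)
    (hc : Hom N y c) (hci : Inv N c) (hcr : RVal M c) : InN N M (x * y) (a * c) := by
  refine ⟨ha.hom.mul N hc, ha.inv.mul N hci, ha.rval.mul M hcr, ?_⟩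
  intro c' hc' hc'i hc'r θ
  rw [mul_assoc]
  apply ha.small (c * c') _ (hci.mul N hc'i) (hcr.mul M hc'r) θ
  have := hc.mul N hc'
  rwa [mul_inv_rev, mul_inv_cancel_left] at this

theorem InN.om_mem {a : MonoidAlgebra ℂ G} (ha : InN N M 1 a) (θ : IrrCharacter N) :
    MemLocalIdeal M (om N θ a) := by
  have := ha.small 1 (by rw [inv_one]; exact Hom.one N) (Inv.one N) (RVal.one M) θ
  rwa [mul_one] at this

theorem om_one (θ : IrrCharacter N) : om N θ (1 : MonoidAlgebra ℂ G) = 1 := by
  have h := om_zN N (fun _ => (1 : ℂ)) θ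
  rwa [zN_one] at h

section machine

variable (F : MonoidAlgebra ℂ G)

/-- The ordered product of the components of `F` along a list of cosets. -/
noncomputable def P (L : List (G ⧸ N)) : MonoidAlgebra ℂ G :=
  (L.map (fun x => comp N x F)).prod

theorem P_nil : P N F [] = 1 := rfl

theorem P_cons (x : G ⧸ N) (L : List (G ⧸ N)) : P N F (x :: L) = comp N x F * P N F L := by
  unfold P
  rw [List.map_cons, List.prod_cons]

theorem P_append (L₁ L₂ : List (G ⧸ N)) : P N F (L₁ ++ L₂) = P N F L₁ * P N F L₂ := by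
  unfold P
  rw [List.map_append, List.prod_append]

theorem P_good (hF1 : Cen F) (hF2 : RVal M F) (L : List (G ⧸ N)) :
    Hom N L.prod (P N F L) ∧ Inv N (P N F L) ∧ RVal M (P N F L) := by
  induction L with
  | nil => exact ⟨Hom.one N, Inv.one N, RVal.one M⟩
  | cons x L ih =>
    rw [P_cons, List.prod_cons]
    exact ⟨(hom_comp N x F).mul N ih.1, ((hF1.inv N).comp N x).mul N ih.2.1,
      (hF2.comp M N x).mul M ih.2.2⟩

theorem P_inN (hF1 : Cen F) (hF2 : RVal M F) (hF4 : ∀ x, InN N M x (comp N x F))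
    (L : List (G ⧸ N)) (hL : L ≠ []) : InN N M L.prod (P N F L) := by
  cases L with
  | nil => exact absurd rfl hL
  | cons x L =>
    rw [P_cons, List.prod_cons]
    have h := P_good N M F hF1 hF2 L
    exact (hF4 x).mul_right N M h.1 h.2.1 h.2.2

theorem cj_P (hF1 : Cen F) (g : G) (L : List (G ⧸ N)) :
    cj g (P N F L) = P N F (L.map (fun x => (g : G ⧸ N) * x * (g : G ⧸ N)⁻¹)) := by
  induction L with
  | nil => rw [List.map_nil, P_nil, cj_one]
  | cons x L ih =>
    rw [List.map_cons, P_cons, P_cons, cj_mul, ih, cj_comp, cj_cen hF1]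

theorem prod_map_conj (g : G ⧸ N) (L : List (G ⧸ N)) :
    (L.map (fun x => g * x * g⁻¹)).prod = g * L.prod * g⁻¹ := by
  induction L with
  | nil => simp
  | cons x L ih =>
    rw [List.map_cons, List.prod_cons, List.prod_cons, ih]
    group

/-- The degree one products of at most `|G/N|` components. -/
def S0 : Set (MonoidAlgebra ℂ G) :=
  {u | ∃ L : List (G ⧸ N), L ≠ [] ∧ L.prod = 1 ∧ L.length ≤ Nat.card (G ⧸ N) ∧ u = P N F L}

theorem S0_finite : (S0 N F).Finite := by
  have h1 := List.finite_length_le (G ⧸ N) (Nat.card (G ⧸ N))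
  apply (h1.image (P N F)).subset
  rintro u ⟨L, -, -, hL, rfl⟩
  exact ⟨L, hL, rfl⟩

theorem S0_cj (hF1 : Cen F) {u : MonoidAlgebra ℂ G} (hu : u ∈ S0 N F) (g : G) :
    cj g u ∈ S0 N F := by
  obtain ⟨L, hL1, hL2, hL3, rfl⟩ := hu
  refine ⟨L.map (fun x => (g : G ⧸ N) * x * (g : G ⧸ N)⁻¹), ?_, ?_, ?_, cj_P N F hF1 g L⟩
  · intro h
    exact hL1 (List.map_eq_nil_iff.mp h)
  · rw [prod_map_conj, hL2]
    group
  · rw [List.length_map]
    exact hL3

theorem S0_inN (hF1 : Cen F) (hF2 : RVal M F) (hF4 : ∀ x, InN N M x (comp N x F))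
    {u : MonoidAlgebra ℂ G} (hu : u ∈ S0 N F) : InN N M 1 u := by
  obtain ⟨L, hL1, hL2, -, rfl⟩ := hu
  have := P_inN N M F hF1 hF2 hF4 L hL1
  rwa [hL2] at this

/-- Sums of products of `m` elements of `S0` with invariant elements with local coefficients. -/
noncomputable def T (m : ℕ) : AddSubmonoid (MonoidAlgebra ℂ G) :=
  AddSubmonoid.closure {a | ∃ U ∈ (S0 N F) ^ m, ∃ c, Inv N c ∧ RVal M c ∧ a = U * c}

theorem list_mem_T (hF1 : Cen F) (hF2 : RVal M F) (hF4 : ∀ x, InN N M x (comp N x F))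
    (L : List (G ⧸ N)) (hL : L.length = Nat.card (G ⧸ N)) : P N F L ∈ T N M F 1 := by
  obtain ⟨L₁, L₂, L₃, hLeq, hL2, hL2p⟩ := exists_consecutive L hL.ge
  obtain ⟨g, hg⟩ : ∃ g : G, (g : G ⧸ N) = L₁.prod := QuotientGroup.mk_surjective _
  have h1 := P_good N M F hF1 hF2 L₁
  have h2 := P_good N M F hF1 hF2 L₂
  have h3 := P_good N M F hF1 hF2 L₃
  rw [hL2p] at h2
  have hmove := move N h1.1 h2.1 h2.2.1 g hg
  have hlen : L₂.length ≤ Nat.card (G ⧸ N) := by
    rw [← hL, hLeq, List.length_append, List.length_append]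
    omega
  have hS : P N F L₂ ∈ S0 N F := ⟨L₂, hL2, hL2p, hlen, rfl⟩
  apply AddSubmonoid.subset_closure
  refine ⟨cj g (P N F L₂), ?_, P N F L₁ * P N F L₃, h1.2.1.mul N h3.2.1, h1.2.2.mul M h3.2.2, ?_⟩
  · rw [pow_one]
    exact S0_cj N F hF1 hS g
  · rw [hLeq, P_append, P_append, hmove, mul_assoc]

theorem pow_mem_closure [Fintype (G ⧸ N)] (n : ℕ) :
    F ^ n ∈ AddSubmonoid.closure {a | ∃ L : List (G ⧸ N), L.length = n ∧ a = P N F L} := by
  induction n with
  | zero =>
    apply AddSubmonoid.subset_closure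
    exact ⟨[], rfl, by rw [pow_zero, P_nil]⟩
  | succ n ih =>
    rw [pow_succ']
    refine AddSubmonoid.closure_induction (motive := fun a _ => F * a ∈
      AddSubmonoid.closure {a | ∃ L : List (G ⧸ N), L.length = n + 1 ∧ a = P N F L})
      ?_ ?_ ?_ ih
    · rintro a ⟨L, hL, rfl⟩
      have hsum : F * P N F L = ∑ x : G ⧸ N, comp N x F * P N F L := by
        rw [← Finset.sum_mul, sum_comp]
      rw [hsum]
      apply sum_mem
      intro x _
      apply AddSubmonoid.subset_closure
      exact ⟨x :: L, by rw [List.length_cons, hL], by rw [P_cons]⟩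
    · rw [mul_zero]
      exact zero_mem _
    · intro a b _ _ ha hb
      rw [mul_add]
      exact add_mem ha hb

theorem mem_T_one (hF1 : Cen F) (hF2 : RVal M F) (hF3 : F * F = F)
    (hF4 : ∀ x, InN N M x (comp N x F)) : F ∈ T N M F 1 := by
  classical
  letI : Fintype (G ⧸ N) := Fintype.ofFinite _
  have hn : 0 < Nat.card (G ⧸ N) := Nat.card_pos
  have hpow : ∀ k : ℕ, F ^ (k + 1) = F := by
    intro k
    induction k with
    | zero => rw [zero_add, pow_one]
    | succ k ih => rw [pow_succ, ih, hF3]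
  obtain ⟨k, hk⟩ := Nat.exists_eq_succ_of_ne_zero hn.ne'
  have h1 := pow_mem_closure N F (Nat.card (G ⧸ N))
  rw [hk, Nat.succ_eq_add_one, hpow k] at h1
  refine (AddSubmonoid.closure_le.mpr ?_) h1
  rintro a ⟨L, hL, rfl⟩
  exact list_mem_T N M F hF1 hF2 hF4 L (by rw [hL, hk])

theorem T_mul (hF1 : Cen F) (hF2 : RVal M F) (hF4 : ∀ x, InN N M x (comp N x F)) {m : ℕ}
    {a b : MonoidAlgebra ℂ G} (ha : a ∈ T N M F m) (hb : b ∈ T N M F 1) :
    a * b ∈ T N M F (m + 1) := by
  classical
  letI : Fintype (G ⧸ N) := Fintype.ofFinite _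
  refine AddSubmonoid.closure_induction (motive := fun b _ => a * b ∈ T N M F (m + 1))
    ?_ ?_ ?_ hb
  · rintro b ⟨u, hu, c', hc'i, hc'r, rfl⟩
    rw [pow_one] at hu
    have huN := S0_inN N M F hF1 hF2 hF4 hu
    refine AddSubmonoid.closure_induction (motive := fun a _ => a * (u * c') ∈ T N M F (m + 1))
      ?_ ?_ ?_ ha
    · rintro a ⟨U, hU, c, hci, hcr, rfl⟩
      have h1 : U * c * (u * c')
          = ∑ x : G ⧸ N, (U * cj (Quotient.out x) u) * (comp N x c * c') := by
        have h2 : c * u = ∑ x : G ⧸ N, cj (Quotient.out x) u * comp N x c := by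
          conv_lhs => rw [← sum_comp N c]
          rw [Finset.sum_mul]
          apply Finset.sum_congr rfl
          intro x _
          exact move N (hom_comp N x c) huN.hom huN.inv (Quotient.out x)
            (QuotientGroup.out_eq' x)
        rw [mul_assoc U c, ← mul_assoc c u c', h2, Finset.sum_mul, Finset.mul_sum]
        apply Finset.sum_congr rfl
        intro x _
        noncomm_ring
      rw [h1]
      apply sum_mem
      intro x _
      apply AddSubmonoid.subset_closure
      refine ⟨U * cj (Quotient.out x) u, ?_, comp N x c * c', (hci.comp N x).mul N hc'i,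
        (hcr.comp M N x).mul M hc'r, rfl⟩
      rw [pow_succ]
      exact Set.mul_mem_mul hU (S0_cj N F hF1 hu _)
    · rw [zero_mul]
      exact zero_mem _
    · intro a a' _ _ iha iha'
      rw [add_mul]
      exact add_mem iha iha'
  · rw [mul_zero]
    exact zero_mem _
  · intro b b' _ _ ihb ihb'
    rw [mul_add]
    exact add_mem ihb ihb'

theorem mem_T (hF1 : Cen F) (hF2 : RVal M F) (hF3 : F * F = F)
    (hF4 : ∀ x, InN N M x (comp N x F)) (m : ℕ) : F ∈ T N M F (m + 1) := by
  induction m with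
  | zero => exact mem_T_one N M F hF1 hF2 hF3 hF4
  | succ m ih =>
    have := T_mul N M F hF1 hF2 hF4 ih (mem_T_one N M F hF1 hF2 hF3 hF4)
    rwa [hF3] at this

/-- The central character values of the elements of `S0`. -/
def Val : Set ℂ := {v | ∃ u ∈ S0 N F, ∃ θ : IrrCharacter N, v = om N θ u}

theorem Val_finite : (Val N F).Finite := by
  have h1 := (S0_finite N F).image2 (fun u (θ : IrrCharacter N) => om N θ u) Set.finite_univ
  apply h1.subset
  rintro v ⟨u, hu, θ, rfl⟩
  exact ⟨u, hu, θ, Set.mem_univ _, rfl⟩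

theorem pow_S0_spec (hF1 : Cen F) (hF2 : RVal M F) (hF4 : ∀ x, InN N M x (comp N x F))
    (m : ℕ) (U : MonoidAlgebra ℂ G) (hU : U ∈ (S0 N F) ^ m) :
    Hom N 1 U ∧ Inv N U ∧ ∀ θ : IrrCharacter N, ∃ f : Fin m → ℂ, (∀ i, f i ∈ Val N F) ∧
      om N θ U = ∏ i, f i := by
  induction m generalizing U with
  | zero =>
    rw [pow_zero, Set.mem_one] at hU
    rw [hU]
    refine ⟨Hom.one N, Inv.one N, fun θ => ⟨fun i => i.elim0, fun i => i.elim0, ?_⟩⟩
    rw [om_one]
    simp
  | succ m ih =>
    rw [pow_succ] at hU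
    obtain ⟨U', hU', u, hu, rfl⟩ := Set.mem_mul.mp hU
    obtain ⟨h1, h2, h3⟩ := ih U' hU'
    have huN := S0_inN N M F hF1 hF2 hF4 hu
    refine ⟨by simpa using h1.mul N huN.hom, h2.mul N huN.inv, ?_⟩
    intro θ
    obtain ⟨f, hf, hfe⟩ := h3 θ
    refine ⟨Fin.snoc f (om N θ u), ?_, ?_⟩
    · intro i
      refine Fin.lastCases ?_ (fun j => ?_) i
      · rw [Fin.snoc_last]
        exact ⟨u, hu, θ, rfl⟩
      · rw [Fin.snoc_castSucc]
        exact hf j
    · rw [om_mul N h1 h2 huN.hom huN.inv, hfe, Fin.prod_univ_castSucc]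
      simp only [Fin.snoc_castSucc, Fin.snoc_last]

end machine

/-- **Nilpotency modulo the local ideal**: a central idempotent with local coefficients all of
whose components lie in the graded right ideal `InN` has all its coefficients in the local
ideal. -/
theorem ival_of_inN {p : ℕ} (hM : IsPModular p M) (F : MonoidAlgebra ℂ G) (hF1 : Cen F)
    (hF2 : RVal M F) (hF3 : F * F = F) (hF4 : ∀ x, InN N M x (comp N x F)) : IVal M F := by
  have hcard : Nat.card N ≠ 0 := Nat.card_pos.ne'
  obtain ⟨m, hm, hprod⟩ := exists_uniform_pow hM (Val N F) (Val_finite N F)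
    (by
      rintro v ⟨u, hu, θ, rfl⟩
      exact (S0_inN N M F hF1 hF2 hF4 hu).om_mem N M θ) (Nat.card N) hcard
  obtain ⟨k, rfl⟩ := Nat.exists_eq_succ_of_ne_zero hm.ne'
  have hmem := mem_T N M F hF1 hF2 hF3 hF4 k
  refine AddSubmonoid.closure_induction (motive := fun a _ => IVal M a) ?_ ?_ ?_ hmem
  · rintro a ⟨U, hU, c, -, hcr, rfl⟩
    obtain ⟨h1, h2, h3⟩ := pow_S0_spec N M F hF1 hF2 hF4 _ U hU
    apply IVal.mul_right M _ hcr
    rw [eq_zN N h1 h2]
    apply ival_zN
    intro θ
    obtain ⟨f, hf, hfe⟩ := h3 θ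
    rw [hfe]
    exact hprod f hf
  · exact IVal.zero M
  · intro a b _ _ ha hb
    exact ha.add M hb

end Cfsg.Agent.Lib.helper3.GrAlg
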