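import Mathlib
import Cfsg.Prelude.Def_Characters
import Cfsg.Prelude.Def_Blocks
import Cfsg.Agent.Lib.helper3.GrAlg5
import Cfsg.Agent.Lib.helper3.StableBlock

/-!
# Blocks of a group and of a normal subgroup: a component of the block idempotent pairs to a
unit with some invariant element
-/

set_option autoImplicit false
set_option linter.style.haveILetI false
set_option linter.unusedSectionVars false

namespace Cfsg.Agent.Lib.helper3.GrAlg

open Cfsg Cfsg.Agent.Lib.helper3.LocalM Cfsg.Agent.Lib.helper3.Block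
open Cfsg.Agent.Lib.helper3.CharBasic Cfsg.Agent.Lib.helper3.Irr Cfsg.Agent.Lib.helper3.Lin
open Cfsg.Agent.Lib.helper3.IndFun Cfsg.Agent.Lib.helper3.GalPow
open scoped ComplexConjugate

variable {G : Type*} [Group G] [Fintype G] {M : Ideal AlgInt}

/-- The idempotent of a set of irreducible characters as an element of the group algebra. -/
noncomputable def fB (B : Set (IrrCharacter G)) : MonoidAlgebra ℂ G := ofFun (blockCoeff B)

theorem fB_coeff (B : Set (IrrCharacter G)) (g : G) : (fB B).coeff g = blockCoeff B g := rfl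

theorem cen_fB (B : Set (IrrCharacter G)) : Cen (fB B) := by
  classical
  intro g h
  rw [fB_coeff, fB_coeff, blockCoeff_eq_coef, blockCoeff_eq_coef, coef_conj]

theorem fB_mul (B B' : Set (IrrCharacter G)) : fB B * fB B' = fB (B ∩ B') := by
  classical
  apply ext'
  intro g
  rw [coeff_mul', fB_coeff, blockCoeff_eq_coef]
  have h1 : ∀ c : IrrCharacter G → ℂ,
      (∀ χ, c χ = (if χ ∈ B then (1 : ℂ) else 0) * (if χ ∈ B' then (1 : ℂ) else 0)) →
      coef c g = ∑ x, coef (fun χ => if χ ∈ B then (1 : ℂ) else 0) x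
        * coef (fun χ => if χ ∈ B' then (1 : ℂ) else 0) (x⁻¹ * g) := by
    intro c hc
    have : c = (fun χ => if χ ∈ B then (1 : ℂ) else 0) * (fun χ => if χ ∈ B' then (1 : ℂ) else 0) :=
      funext hc
    rw [this, coef_mul]
  rw [h1 _ (by
    intro χ
    by_cases h : χ ∈ B <;> by_cases h' : χ ∈ B' <;> simp [h, h'])]
  apply Finset.sum_congr rfl
  intro h _
  rw [fB_coeff, fB_coeff, blockCoeff_eq_coef, blockCoeff_eq_coef]

theorem fB_empty : fB (∅ : Set (IrrCharacter G)) = 0 := by
  classical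
  apply ext'
  intro g
  rw [fB_coeff, blockCoeff_eq_coef]
  unfold coef
  simp

theorem rval_fB {p : ℕ} (hM : IsPModular p M) (B : Set (IrrCharacter G)) (hB : IsPBlock M B) :
    RVal M (fB B) := fun g => osima hM B hB g

variable (N : Subgroup G) [hN : N.Normal] [Fintype N]

open Classical in
theorem fB_overSet (S : Set (IrrCharacter N)) (hS : ConjStable N S) :
    fB (overSet N S) = zN N (fun θ => if θ ∈ S then (1 : ℂ) else 0) := by
  apply ext'
  intro g
  rw [fB_coeff, blockCoeff_overSet N S hS]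
  unfold subgroupBlockCoeff
  by_cases hg : g ∈ N
  · rw [dif_pos hg, zN_coeff_of_mem N _ hg, blockCoeff_eq_coef]
  · rw [dif_neg hg, zN_coeff_notMem N _ hg]

/-- The idempotent of a set of characters none of which lies over a conjugate of `θ'` kills the
idempotent of `θ'`. -/
theorem fB_mul_eN (B : Set (IrrCharacter G)) (θ' : IrrCharacter N)
    (h : ∀ χ ∈ B, χ ∉ overSet N (conjOrbit N {θ'})) : fB B * eN N θ' = 0 := by
  classical
  have hst := conjStable_conjOrbit N ({θ'} : Set (IrrCharacter N))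
  have hmem : θ' ∈ conjOrbit N ({θ'} : Set (IrrCharacter N)) :=
    subset_conjOrbit N _ (Set.mem_singleton θ')
  have e1 : eN N θ' = fB (overSet N (conjOrbit N {θ'})) * eN N θ' := by
    rw [fB_overSet N _ hst, zN_mul_eN, if_pos hmem, one_smul]
  have e2 : B ∩ overSet N (conjOrbit N {θ'}) = ∅ := by
    ext χ
    simp only [Set.mem_inter_iff, Set.mem_empty_iff_false, iff_false, not_and]
    exact h χ
  rw [e1, ← mul_assoc, fB_mul, e2, fB_empty, zero_mul]

/-- **Key lemma**: if the block `B` of `G` covers the block `b` of the normal subgroup `N` and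
`θ ∈ b`, then for some coset `x` there is an `N`-invariant element `c` with local coefficients,
supported on the inverse coset, such that the central character of `θ` takes a unit value on the
product of the `x`-component of the idempotent of `B` with `c`. -/
theorem exists_unit_pairing {p : ℕ} (hM : IsPModular p M) (B : Set (IrrCharacter G))
    (hB : IsPBlock M B) (b : Set (IrrCharacter N)) (hb : IsPBlock M b)
    (hcov : ∃ χ ∈ B, ∃ θ ∈ b, classInner (fun n : N => (χ : G → ℂ) n) (θ : N → ℂ) ≠ 0)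
    (θ : IrrCharacter N) (hθ : θ ∈ b) :
    ∃ (x : G ⧸ N) (c : MonoidAlgebra ℂ G), Hom N x⁻¹ c ∧ Inv N c ∧ RVal M c ∧
      ¬ MemLocalIdeal M (om N θ (comp N x (fB B) * c)) := by
  classical
  haveI hMp := isPrime_of_isPModular hM
  have hMtop : M ≠ ⊤ := hM.2.1.ne_top
  by_contra hneg
  push Not at hneg
  have hF1 := cen_fB B
  have hF2 := rval_fB hM B hB
  have hF3 : fB B * fB B = fB B := by rw [fB_mul, Set.inter_self]
  obtain ⟨ξ, hbdef⟩ := id hb
  have hsame : ∀ θ₁ ∈ b, SameBlock M (θ₁ : N → ℂ) (θ : N → ℂ) := by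
    intro θ₁ hθ₁
    rw [hbdef] at hθ₁ hθ
    exact sameBlock_trans (sameBlock_symm hθ₁) hθ
  -- every member of `B` lies over `b`
  obtain ⟨χ₀, hχ₀B, hχ₀⟩ := hcov
  obtain ⟨χ₁, hBdef⟩ := id hB
  have hover : ∀ χ ∈ B, ∃ θ₂ ∈ b, classInner (fun n : N => (χ : G → ℂ) n) (θ₂ : N → ℂ) ≠ 0 := by
    intro χ hχ
    apply over_of_congr N hM b hb χ₀ χ _ hχ₀
    intro n
    rw [hBdef] at hχ₀B hχ
    exact sameBlock_trans (sameBlock_symm hχ₀B) hχ (n : G)
  have hF4 : ∀ x, InN N M x (comp N x (fB B)) := by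
    intro x
    refine ⟨hom_comp N x _, (hF1.inv N).comp N x, hF2.comp M N x, ?_⟩
    intro c hc hci hcr θ'
    have hs1 : Hom N 1 (comp N x (fB B) * c) := by
      have := (hom_comp N x (fB B)).mul N hc
      rwa [mul_inv_cancel] at this
    have hs2 : Inv N (comp N x (fB B) * c) := ((hF1.inv N).comp N x).mul N hci
    by_cases hθ' : θ' ∈ conjOrbit N b
    · obtain ⟨g, θ₁, hθ₁, hg⟩ := hθ'
      have e1 : θ' = conjIrr N g θ₁ := Subtype.ext hg
      rw [e1, om_conjIrr, cj_mul, cj_comp, cj_cen hF1]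
      have hc' : Hom N ((g : G ⧸ N) * x * (g : G ⧸ N)⁻¹)⁻¹ (cj g c) := by
        have := cj_hom N g hc
        rwa [show (g : G ⧸ N) * x⁻¹ * (g : G ⧸ N)⁻¹ = ((g : G ⧸ N) * x * (g : G ⧸ N)⁻¹)⁻¹ by
          group] at this
      have h1 := hneg _ (cj g c) hc' (cj_inv N g hci) (cj_rval M g hcr)
      have h2 := om_sub_mem N (hsame θ₁ hθ₁)
        (s := comp N ((g : G ⧸ N) * x * (g : G ⧸ N)⁻¹) (fB B) * cj g c)
        (((hF1.inv N).comp N _).mul N (cj_inv N g hci))
        ((hF2.comp M N _).mul M (cj_rval M g hcr))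
      have := memLocalIdeal_add h2 h1
      rwa [sub_add_cancel] at this
    · have h0 : om N θ' (comp N x (fB B) * c) = 0 := by
        apply om_eq_zero_of_mul_eN N hs1 hs2
        have e1 : comp N x (fB B) * c = comp N 1 (fB B * c) := by
          rw [comp_mul_hom N hc, inv_inv, one_mul]
        have e2 : comp N 1 (fB B * c) * eN N θ' = comp N 1 (fB B * c * eN N θ') := by
          have := comp_mul_hom N (hom_zN N (fun θ'' => if θ'' = θ' then (1 : ℂ) else 0)) 1
            (fB B * c)
          rw [inv_one, mul_one] at this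
          exact this.symm
        have e3 : fB B * eN N θ' = 0 := by
          apply fB_mul_eN
          rintro χ hχ ⟨θ'', ⟨g, θ₃, hθ₃, hg⟩, hne⟩
          rw [Set.mem_singleton_iff] at hθ₃
          subst hθ₃
          obtain ⟨θ₂, hθ₂, hne₂⟩ := hover χ hχ
          obtain ⟨g', hg'⟩ := exists_conj_of_constituents N (χ : G → ℂ) χ.2 θ₂ θ'' hne₂ hne
          apply hθ'
          refine ⟨g' * g⁻¹, θ₂, hθ₂, ?_⟩
          rw [← conjFun_mul, ← hg', hg, conjFun_mul, mul_inv_cancel, conjFun_one]
        rw [e1, e2, hF1.comm c, mul_assoc, e3, mul_zero]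
        apply ext'
        intro g
        rw [comp_coeff]
        simp
      rw [h0]
      exact memLocalIdeal_zero hMtop
  have hI := ival_of_inN N M hM (fB B) hF1 hF2 hF3 hF4
  obtain ⟨g, -, hg, -⟩ := exists_defectClass hM B hB
  exact hg (hI g)

end Cfsg.Agent.Lib.helper3.GrAlg
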