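import Mathlib
import Cfsg.Prelude.Def_Characters
import Cfsg.Prelude.Def_Blocks
import Cfsg.Agent.Lib.helper3.GrAlg6

/-!
# Every character of a covered block lies under the covering block
-/

set_option autoImplicit false
set_option linter.style.haveILetI false
set_option linter.unusedSectionVars false

namespace Cfsg.Agent.Lib.helper3.GrAlg

open Cfsg Cfsg.Agent.Lib.helper3.LocalM Cfsg.Agent.Lib.helper3.Block
open Cfsg.Agent.Lib.helper3.CharBasic Cfsg.Agent.Lib.helper3.Irr Cfsg.Agent.Lib.helper3.Lin
open Cfsg.Agent.Lib.helper3.IndFun Cfsg.Agent.Lib.helper3.GalPow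
open scoped ComplexConjugate

variable {G : Type*} [Group G] [Fintype G] {M : Ideal AlgInt}
variable (N : Subgroup G) [hN : N.Normal] [Fintype N]

/-- If the idempotent of `B` kills the idempotent of `θ'`, the central character of `θ'` vanishes
on all degree one products of components of the idempotent of `B`. -/
theorem om_comp_mul_eq_zero (B : Set (IrrCharacter G)) (θ' : IrrCharacter N)
    (h : fB B * eN N θ' = 0) (x : G ⧸ N) {c : MonoidAlgebra ℂ G} (hc : Hom N x⁻¹ c)
    (hci : Inv N c) : om N θ' (comp N x (fB B) * c) = 0 := by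
  classical
  have hF1 := cen_fB B
  have hs1 : Hom N 1 (comp N x (fB B) * c) := by
    have := (hom_comp N x (fB B)).mul N hc
    rwa [mul_inv_cancel] at this
  have hs2 : Inv N (comp N x (fB B) * c) := ((hF1.inv N).comp N x).mul N hci
  apply om_eq_zero_of_mul_eN N hs1 hs2
  have e1 : comp N x (fB B) * c = comp N 1 (fB B * c) := by
    rw [comp_mul_hom N hc, inv_inv, one_mul]
  have e2 : comp N 1 (fB B * c) * eN N θ' = comp N 1 (fB B * c * eN N θ') := by
    have := comp_mul_hom N (hom_zN N (fun θ'' => if θ'' = θ' then (1 : ℂ) else 0)) 1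
      (fB B * c)
    rw [inv_one, mul_one] at this
    exact this.symm
  rw [e1, e2, hF1.comm c, mul_assoc, h, mul_zero]
  apply ext'
  intro g
  rw [comp_coeff]
  simp

/-- **Navarro, Theorem 9.4**: if the block `B` covers the block `b` of the normal subgroup `N`,
every character of `b` lies under some character of `B`. -/
theorem exists_over_of_covers {p : ℕ} (hM : IsPModular p M) (B : Set (IrrCharacter G))
    (hB : IsPBlock M B) (b : Set (IrrCharacter N)) (hb : IsPBlock M b)
    (hcov : ∃ χ ∈ B, ∃ θ ∈ b, classInner (fun n : N => (χ : G → ℂ) n) (θ : N → ℂ) ≠ 0)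
    (θ : IrrCharacter N) (hθ : θ ∈ b) :
    ∃ χ ∈ B, classInner (fun n : N => (χ : G → ℂ) n) (θ : N → ℂ) ≠ 0 := by
  classical
  haveI hMp := isPrime_of_isPModular hM
  have hMtop : M ≠ ⊤ := hM.2.1.ne_top
  by_contra hno
  push Not at hno
  obtain ⟨x, c, hc, hci, -, hunit⟩ := exists_unit_pairing N hM B hB b hb hcov θ hθ
  apply hunit
  have h0 : fB B * eN N θ = 0 := by
    apply fB_mul_eN
    rintro χ hχ ⟨θ'', ⟨g, θ₃, hθ₃, hg⟩, hne⟩
    rw [Set.mem_singleton_iff] at hθ₃
    subst hθ₃
    rw [hg, classInner_restrict_conjFun N _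
      (isClassFunction_of_isCharacter (isCharacter_of_isIrrCharacter χ.2))] at hne
    exact hne (hno χ hχ)
  rw [om_comp_mul_eq_zero N B θ h0 x hc hci]
  exact memLocalIdeal_zero hMtop

end Cfsg.Agent.Lib.helper3.GrAlg
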