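import Mathlib
import Cfsg.Prelude.Def_Characters
import Cfsg.Prelude.Def_Blocks
import Cfsg.Agent.Lib.helper3.GrAlg7
import Cfsg.Agent.Lib.helper3.BlockMinMax2
import Cfsg.Agent.Lib.helper3.QuotDefect3

/-!
# Knörr's theorem, first half: a defect group of a covered block lies in a defect group of the
covering block
-/

set_option autoImplicit false
set_option linter.style.haveILetI false
set_option linter.unusedSectionVars false

namespace Cfsg.Agent.Lib.helper3.GrAlg

open Cfsg Cfsg.Agent.Lib.helper3.LocalM Cfsg.Agent.Lib.helper3.Block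
open Cfsg.Agent.Lib.helper3.CharBasic Cfsg.Agent.Lib.helper3.Irr Cfsg.Agent.Lib.helper3.Lin
open Cfsg.Agent.Lib.helper3.IndFun Cfsg.Agent.Lib.helper3.GalPow
open scoped ComplexConjugate

variable {G : Type*} [Group G] [Fintype G] {M : Ideal AlgInt}

/-- If a sum of local integers, invariant under conjugation by a `p`-subgroup, is not in the local
ideal, some term at a fixed point is not in the local ideal. -/
theorem exists_fixed_of_sum_notMem {p : ℕ} (hM : IsPModular p M) (S : Subgroup G)
    (hS : IsPGroup p S) (g : G → ℂ) (hgR : ∀ h, MemLocalRing M (g h))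
    (hginv : ∀ u ∈ S, ∀ h, g (u * h * u⁻¹) = g h) (hsum : ¬ MemLocalIdeal M (∑ h, g h)) :
    ∃ h, (∀ u ∈ S, u * h * u⁻¹ = h) ∧ ¬ MemLocalIdeal M (g h) := by
  classical
  haveI hMp := isPrime_of_isPModular hM
  by_contra hcon
  push Not at hcon
  apply hsum
  rw [← Finset.sum_filter_add_sum_filter_not Finset.univ (fun h : G => ∀ u ∈ S, u * h * u⁻¹ = h)]
  apply memLocalIdeal_add
  · apply memLocalIdeal_sum
    intro h hh
    exact hcon h (Finset.mem_filter.mp hh).2
  · rw [Finset.sum_subtype (Finset.univ.filter (fun h : G => ¬ ∀ u ∈ S, u * h * u⁻¹ = h))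
      (p := fun h : G => ¬ ∀ u ∈ S, u * h * u⁻¹ = h) (by intro x; simp) g]
    letI : MulAction S {h : G // ¬ ∀ u ∈ S, u * h * u⁻¹ = h} :=
      { smul := fun u x => ⟨(u : G) * (x : G) * (u : G)⁻¹, by
          intro hfix
          apply x.2
          intro v hv
          have h1 := hfix ((u : G) * v * (u : G)⁻¹) (S.mul_mem (S.mul_mem u.2 hv) (S.inv_mem u.2))
          have h2 : (u : G) * (v * (x : G) * v⁻¹) * (u : G)⁻¹ = (u : G) * (x : G) * (u : G)⁻¹ := by
            rw [← h1]
            group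
          exact mul_left_cancel (mul_right_cancel h2)⟩
        one_smul := fun x => Subtype.ext (by
          show ((1 : S) : G) * (x : G) * ((1 : S) : G)⁻¹ = x
          simp)
        mul_smul := fun u u' x => Subtype.ext (by
          show ((u * u' : S) : G) * (x : G) * ((u * u' : S) : G)⁻¹
            = (u : G) * ((u' : G) * (x : G) * (u' : G)⁻¹) * (u : G)⁻¹
          push_cast
          group) }
    have hsmul : ∀ (u : S) (x : {h : G // ¬ ∀ u ∈ S, u * h * u⁻¹ = h}),
        ((u • x : {h : G // ¬ ∀ u ∈ S, u * h * u⁻¹ = h}) : G) = (u : G) * (x : G) * (u : G)⁻¹ :=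
      fun _ _ => rfl
    apply memLocalIdeal_sum_of_fixedPoint_free (P := S) hM hS
    · intro x
      exact hgR _
    · intro u x
      rw [hsmul, hginv u u.2]
    · intro x
      by_contra hfix
      push Not at hfix
      apply x.2
      intro u hu
      have := congrArg Subtype.val (hfix ⟨u, hu⟩)
      rwa [hsmul] at this

variable (N : Subgroup G) [hN : N.Normal] [Fintype N]

/-- If the central character of `θ` does not vanish modulo the local ideal on an invariant element
with local coefficients, some class of `N` has a coefficient and a central character value outside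
the local ideal. -/
theorem exists_class_notMem [hMp : M.IsPrime] {s : MonoidAlgebra ℂ G} (h2 : Inv N s)
    (h3 : RVal M s) (θ : IrrCharacter N) (h : ¬ MemLocalIdeal M (om N θ s)) :
    ∃ n : N, ¬ MemLocalIdeal M (centralChar (θ : N → ℂ) n) ∧
      ¬ MemLocalIdeal M (s.coeff (n : G)) := by
  by_contra hcon
  push Not at hcon
  apply h
  have h0 := apply_one_ne_zero θ.2
  have hc := isClassFunction_of_isCharacter (isCharacter_of_isIrrCharacter θ.2)
  have h4 : om N θ s = ∑ n : N, s.coeff (n : G) * ((θ : N → ℂ) n / (θ : N → ℂ) 1) := by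
    unfold om
    rw [Finset.sum_div]
    apply Finset.sum_congr rfl
    intro n _
    ring
  rw [h4]
  apply memLocalIdeal_sum_class_fun
  · intro n m
    beta_reduce
    rw [hc n m]
    congr 1
    exact h2 m m.2 n
  · intro n
    have e : ((Subgroup.centralizer ({n} : Set N)).index : ℂ) * (s.coeff (n : G) *
        ((θ : N → ℂ) n / (θ : N → ℂ) 1)) = s.coeff (n : G) * centralChar (θ : N → ℂ) n := by
      unfold centralChar
      ring
    rw [e]
    by_cases hcc : MemLocalIdeal M (centralChar (θ : N → ℂ) n)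
    · exact memLocalIdeal_mul_localRing (h3 _) hcc
    · rw [mul_comm]
      exact memLocalIdeal_mul_integral (hcon n hcc) (isIntegral_centralChar θ.2 n)

/-- **Knörr, first half**: if `B` covers `b`, some defect group of `b` lies in some defect group
of `B`. -/
theorem exists_defectGroups_le {p : ℕ} [hp : Fact p.Prime] (hM : IsPModular p M)
    (B : Set (IrrCharacter G)) (hB : IsPBlock M B) (b : Set (IrrCharacter N)) (hb : IsPBlock M b)
    (hcov : ∃ χ ∈ B, ∃ θ ∈ b, classInner (fun n : N => (χ : G → ℂ) n) (θ : N → ℂ) ≠ 0) :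
    ∃ (Q₁ : Subgroup N) (P₁ : Subgroup G), IsDefectGroup p M b Q₁ ∧ IsDefectGroup p M B P₁ ∧
      Q₁.map N.subtype ≤ P₁ := by
  classical
  haveI hMp := isPrime_of_isPModular hM
  have hMtop : M ≠ ⊤ := hM.2.1.ne_top
  obtain ⟨χ₀, hχ₀B, θ, hθ, hχ₀⟩ := id hcov
  obtain ⟨x, c, hc, hci, hcr, hunit⟩ := exists_unit_pairing N hM B hB b hb hcov θ hθ
  have hF1 := cen_fB B
  have hF2 := rval_fB hM B hB
  have hs2 : Inv N (comp N x (fB B) * c) := ((hF1.inv N).comp N x).mul N hci
  have hs3 : RVal M (comp N x (fB B) * c) := (hF2.comp M N x).mul M hcr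
  obtain ⟨n, hn1, hn2⟩ := exists_class_notMem N hs2 hs3 θ hunit
  -- defect group of `b` inside a Sylow subgroup of `C_N(n)`
  obtain ⟨g₀, hg₀⟩ := exists_defectClass hM b hb
  obtain ⟨D₀⟩ : Nonempty (Sylow p (Subgroup.centralizer ({g₀} : Set N))) := inferInstance
  obtain ⟨x', Q', hQ'⟩ := (min_max hM b hb g₀ hg₀ D₀ n).2 ⟨θ, hθ, hn1⟩
  obtain ⟨Q₁, hQ₁def⟩ : ∃ Q₁ : Subgroup N,
      Q₁ = ((D₀ : Subgroup (Subgroup.centralizer ({g₀} : Set N))).map
        (Subgroup.centralizer ({g₀} : Set N)).subtype).map (MulAut.conj x').toMonoidHom :=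
    ⟨_, rfl⟩
  have hQ₁ : IsDefectGroup p M b Q₁ := by
    rw [hQ₁def]
    exact isDefectGroup_conj ⟨g₀, hg₀, D₀, rfl⟩ x'
  obtain ⟨S, hSdef⟩ : ∃ S : Subgroup G,
      S = ((Q' : Subgroup (Subgroup.centralizer ({n} : Set N))).map
        (Subgroup.centralizer ({n} : Set N)).subtype).map N.subtype := ⟨_, rfl⟩
  have hSp : IsPGroup p S := by
    rw [hSdef]
    exact (Q'.isPGroup'.map _).map _
  have hSN : ∀ u ∈ S, u ∈ N ∧ u * (n : G) = (n : G) * u := by
    intro u hu
    rw [hSdef] at hu
    obtain ⟨v, hv, rfl⟩ := Subgroup.mem_map.mp hu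
    obtain ⟨w, -, rfl⟩ := Subgroup.mem_map.mp hv
    refine ⟨(w : N).2, ?_⟩
    have hw := w.2
    rw [Subgroup.mem_centralizer_iff] at hw
    have := hw n (Set.mem_singleton n)
    have h' := congrArg (Subtype.val : N → G) this
    simp only [Subgroup.coe_mul] at h'
    exact h'.symm
  have hQ₁S : Q₁.map N.subtype ≤ S := by
    rw [hSdef, hQ₁def]
    exact Subgroup.map_mono hQ'
  -- a fixed point of `S` among the terms of the coefficient at `n`
  have hsum : ¬ MemLocalIdeal M (∑ h : G, (comp N x (fB B)).coeff h * c.coeff (h⁻¹ * (n : G))) := by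
    rw [← coeff_mul']
    exact hn2
  obtain ⟨h, hfix, hh⟩ := exists_fixed_of_sum_notMem hM S hSp
    (fun h => (comp N x (fB B)).coeff h * c.coeff (h⁻¹ * (n : G)))
    (fun h => memLocalRing_mul (hF2.comp M N x h) (hcr _))
    (by
      intro u hu h
      obtain ⟨huN, hun⟩ := hSN u hu
      beta_reduce
      rw [((hF1.inv N).comp N x) u huN h]
      congr 1
      rw [← hci u huN (h⁻¹ * (n : G))]
      congr 1
      have : u * (n : G) * u⁻¹ = (n : G) := by rw [hun]; group
      calc (u * h * u⁻¹)⁻¹ * (n : G) = u * h⁻¹ * u⁻¹ * (n : G) := by group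
        _ = u * h⁻¹ * u⁻¹ * (u * (n : G) * u⁻¹) := by rw [this]
        _ = u * (h⁻¹ * (n : G)) * u⁻¹ := by group) hsum
  have hFh : ¬ MemLocalIdeal M (blockCoeff B h) := by
    intro hmem
    apply hh
    rw [comp_coeff]
    split_ifs
    · rw [mul_comm]
      exact memLocalIdeal_mul_localRing (hcr _) hmem
    · rw [zero_mul]
      exact memLocalIdeal_zero hMtop
  have hSC : S ≤ Subgroup.centralizer ({h} : Set G) := by
    intro u hu
    rw [Subgroup.mem_centralizer_iff]
    intro y hy
    rw [Set.mem_singleton_iff] at hy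
    subst hy
    have := hfix u hu
    calc y * u = u * y * u⁻¹ * u := by rw [this]
      _ = u * y := by group
  -- defect group of `B` containing `S`
  obtain ⟨g₁, hg₁⟩ := exists_defectClass hM B hB
  obtain ⟨D₁⟩ : Nonempty (Sylow p (Subgroup.centralizer ({g₁} : Set G))) := inferInstance
  obtain ⟨y, Q'', hQ''⟩ := (min_max hM B hB g₁ hg₁ D₁ h).1 hFh
  obtain ⟨c', hc', hSc'⟩ := exists_le_conj_sylow (Subgroup.centralizer ({h} : Set G)) Q'' S hSp hSC
  refine ⟨Q₁, (((D₁ : Subgroup (Subgroup.centralizer ({g₁} : Set G))).map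
      (Subgroup.centralizer ({g₁} : Set G)).subtype).map (MulAut.conj y).toMonoidHom).map
      (MulAut.conj c').toMonoidHom, hQ₁, ?_, ?_⟩
  · exact isDefectGroup_conj (isDefectGroup_conj ⟨g₁, hg₁, D₁, rfl⟩ y) c'
  · exact hQ₁S.trans (hSc'.trans (Subgroup.map_mono hQ''))

end Cfsg.Agent.Lib.helper3.GrAlg
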