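import Mathlib
import Cfsg.Prelude.Def_Blocks
import Cfsg.Prelude.Def_BlockRank
import Cfsg.Agent.Lib.helper3.TwoSmall2
import Cfsg.Agent.Lib.helper3.DefectOrder

/-!
# `2`-blocks of defect one: agreement on the elements of odd order
-/

set_option autoImplicit false
set_option linter.style.haveILetI false
set_option linter.unusedSectionVars false

namespace Cfsg.Agent.Lib.helper3.Block

open Cfsg Cfsg.Agent.Lib.helper3.LocalM Cfsg.Agent.Lib.helper3.Irr
open Cfsg.Agent.Lib.helper3.CharBasic Cfsg.Agent.Lib.helper3.Lin Cfsg.Agent.Lib.helper3.Central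
open Cfsg.Agent.Lib.helper3.IndFun Cfsg.Agent.Lib.helper3.HallNilp Cfsg.Agent.Lib.helper3.BrauerInd
open scoped ComplexConjugate

universe u

variable {G : Type u} [Group G] [Fintype G] {M : Ideal AlgInt}

/-- The order of a defect group is `p` to the defect. -/
theorem card_of_isDefectGroup {p : ℕ} [hp : Fact p.Prime] (hM : IsPModular p M)
    (B : Set (IrrCharacter G)) (hB : IsPBlock M B) (D : Subgroup G)
    (hD : IsDefectGroup p M B D) : Nat.card D = p ^ blockDefect p B := by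
  classical
  obtain ⟨g, hg, P, hP⟩ := hD
  rw [← factorization_centralizer_of_isDefectClass hM B hB g hg, hP]
  rw [Nat.card_congr (Subgroup.equivMapOfInjective _ _
    (Subgroup.subtype_injective _)).symm.toEquiv]
  exact Sylow.card_eq_multiplicity P

/-- A vanishing sum of `z * conj z` forces every `z` to vanish. -/
theorem eq_zero_of_sum_mul_conj {ι : Type*} (S : Finset ι) (z : ι → ℂ)
    (h : ∑ i ∈ S, z i * conj (z i) = 0) : ∀ i ∈ S, z i = 0 := by
  classical
  have h1 : ∀ i, z i * conj (z i) = ((Complex.normSq (z i) : ℝ) : ℂ) :=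
    fun i => Complex.mul_conj (z i)
  simp_rw [h1] at h
  rw [← Complex.ofReal_sum] at h
  have h2 : ∑ i ∈ S, Complex.normSq (z i) = 0 := by exact_mod_cast h
  intro i hi
  have h3 := (Finset.sum_eq_zero_iff_of_nonneg (fun i _ => Complex.normSq_nonneg (z i))).1 h2 i hi
  exact Complex.normSq_eq_zero.1 h3

/-- The two characters of a `2`-block of defect one agree on the elements of odd order. -/
theorem agree_regular_of_defect_one (hM : IsPModular 2 M) (B : Set (IrrCharacter G))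
    (hB : IsPBlock M B) (hd : blockDefect 2 B = 1) (χ ψ : IrrCharacter G) (hχ : χ ∈ B)
    (hψ : ψ ∈ B) (g : G) (hg : ¬ 2 ∣ orderOf g) : (χ : G → ℂ) g = (ψ : G → ℂ) g := by
  classical
  haveI hMp := isPrime_of_isPModular hM
  have hMtop : M ≠ ⊤ := hM.2.1.ne_top
  by_cases hne : χ = ψ
  · rw [hne]
  have hGC : (Nat.card G : ℂ) ≠ 0 := card_ne_zero_complex G
  -- the coefficients of a base character
  have hbase : ∀ ζ : IrrCharacter G, ζ ∈ B → ∃ n : IrrCharacter G → ℤ, n ζ = 1 ∧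
      (∀ ξ ∈ B, ξ ≠ ζ → n ξ = 1 ∨ n ξ = -1) ∧
      (∀ ξ : IrrCharacter G, regPair 2 (ζ : G → ℂ) (ξ : G → ℂ) * 2
        = (Nat.card G : ℂ) * (n ξ : ℂ)) := by
    intro ζ hζ
    obtain ⟨n, hodd, hzero, hpos, hsum, hreg⟩ :=
      exists_odd_coeffs hM B hB 1 hd (by norm_num) ζ hζ
    have hn1 : n ζ = 1 := by
      have h1 : n ζ ^ 2 ≤ ∑ ξ : IrrCharacter G, n ξ ^ 2 :=
        Finset.single_le_sum (f := fun ξ => n ξ ^ 2) (fun ξ _ => sq_nonneg _)
          (Finset.mem_univ ζ)
      rw [hsum, pow_one] at h1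
      obtain ⟨k, hk⟩ := hodd ζ hζ
      have h2 : n ζ ≤ 2 := by nlinarith
      omega
    refine ⟨n, hn1, ?_, ?_⟩
    · intro ξ hξ hξζ
      have h1 : n ζ ^ 2 + n ξ ^ 2 ≤ ∑ ξ : IrrCharacter G, n ξ ^ 2 := by
        have h2 : ∑ i ∈ ({ζ, ξ} : Finset (IrrCharacter G)), n i ^ 2
            ≤ ∑ ξ : IrrCharacter G, n ξ ^ 2 :=
          Finset.sum_le_sum_of_subset_of_nonneg (Finset.subset_univ _)
            (fun i _ _ => sq_nonneg _)
        rw [Finset.sum_pair (Ne.symm hξζ)] at h2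
        exact h2
      rw [hsum, hn1, pow_one] at h1
      obtain ⟨k, hk⟩ := hodd ξ hξ
      have h2 : n ξ ^ 2 ≤ 1 := by linarith
      have h3 : n ξ ≤ 1 := by nlinarith
      have h4 : -1 ≤ n ξ := by nlinarith
      omega
    · intro ξ
      have := hreg ξ
      rw [pow_one] at this
      exact this
  obtain ⟨n, hnχ, hnoff, hnreg⟩ := hbase χ hχ
  obtain ⟨n', hn'ψ, -, hn'reg⟩ := hbase ψ hψ
  obtain ⟨σ, hσ⟩ : ∃ σ : ℤ, σ = n ψ := ⟨_, rfl⟩
  have hσ1 : σ = 1 ∨ σ = -1 := by
    rw [hσ]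
    exact hnoff ψ hψ (Ne.symm hne)
  have hσsq : (σ : ℂ) * (σ : ℂ) = 1 := by
    rcases hσ1 with h | h <;> rw [h] <;> norm_num
  have hσconj : conj (σ : ℂ) = (σ : ℂ) := map_intCast (starRingEnd ℂ) σ
  have h11 : regPair 2 (χ : G → ℂ) (χ : G → ℂ) = (Nat.card G : ℂ) / 2 := by
    have := hnreg χ
    rw [hnχ] at this
    push_cast at this
    field_simp
    linear_combination this
  have h12 : regPair 2 (χ : G → ℂ) (ψ : G → ℂ) = (Nat.card G : ℂ) * (σ : ℂ) / 2 := by
    have := hnreg ψ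
    rw [← hσ] at this
    field_simp
    linear_combination this
  have h22 : regPair 2 (ψ : G → ℂ) (ψ : G → ℂ) = (Nat.card G : ℂ) / 2 := by
    have := hn'reg ψ
    rw [hn'ψ] at this
    push_cast at this
    field_simp
    linear_combination this
  have h21 : regPair 2 (ψ : G → ℂ) (χ : G → ℂ) = (Nat.card G : ℂ) * (σ : ℂ) / 2 := by
    rw [← regPair_conj, h12, map_div₀, map_mul, hσconj, Complex.conj_natCast]
    congr 1
    exact Complex.conj_ofNat 2
  -- the norm of the difference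
  obtain ⟨z, hz⟩ : ∃ z : G → ℂ, z = fun g => if 2 ∣ orderOf g then 0
      else (χ : G → ℂ) g - (σ : ℂ) * (ψ : G → ℂ) g := ⟨_, rfl⟩
  have hzsum : ∑ g : G, z g * conj (z g) = 0 := by
    have h1 : ∀ g : G, z g * conj (z g)
        = (if 2 ∣ orderOf g then 0 else (χ : G → ℂ) g * conj ((χ : G → ℂ) g))
          - (σ : ℂ) * (if 2 ∣ orderOf g then 0 else (χ : G → ℂ) g * conj ((ψ : G → ℂ) g))
          - (σ : ℂ) * (if 2 ∣ orderOf g then 0 else (ψ : G → ℂ) g * conj ((χ : G → ℂ) g))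
          + (if 2 ∣ orderOf g then 0 else (ψ : G → ℂ) g * conj ((ψ : G → ℂ) g)) := by
      intro g
      rw [hz]
      by_cases hg2 : 2 ∣ orderOf g
      · simp only [if_pos hg2]
        simp
      · simp only [if_neg hg2]
        rw [map_sub, map_mul, hσconj]
        linear_combination ((ψ : G → ℂ) g * conj ((ψ : G → ℂ) g)) * hσsq
    rw [Finset.sum_congr rfl (fun g _ => h1 g), Finset.sum_add_distrib, Finset.sum_sub_distrib,
      Finset.sum_sub_distrib, ← Finset.mul_sum, ← Finset.mul_sum]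
    have e11 : ∑ g : G, (if 2 ∣ orderOf g then 0 else (χ : G → ℂ) g * conj ((χ : G → ℂ) g))
        = regPair 2 (χ : G → ℂ) (χ : G → ℂ) := rfl
    have e12 : ∑ g : G, (if 2 ∣ orderOf g then 0 else (χ : G → ℂ) g * conj ((ψ : G → ℂ) g))
        = regPair 2 (χ : G → ℂ) (ψ : G → ℂ) := rfl
    have e21 : ∑ g : G, (if 2 ∣ orderOf g then 0 else (ψ : G → ℂ) g * conj ((χ : G → ℂ) g))
        = regPair 2 (ψ : G → ℂ) (χ : G → ℂ) := rfl
    have e22 : ∑ g : G, (if 2 ∣ orderOf g then 0 else (ψ : G → ℂ) g * conj ((ψ : G → ℂ) g))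
        = regPair 2 (ψ : G → ℂ) (ψ : G → ℂ) := rfl
    rw [e11, e12, e21, e22, h11, h12, h21, h22]
    linear_combination (-(Nat.card G : ℂ)) * hσsq
  have hzero := eq_zero_of_sum_mul_conj Finset.univ z hzsum
  have hval : ∀ t : G, ¬ 2 ∣ orderOf t → (χ : G → ℂ) t = (σ : ℂ) * (ψ : G → ℂ) t := by
    intro t ht
    have := hzero t (Finset.mem_univ t)
    rw [hz] at this
    simp only [if_neg ht] at this
    exact sub_eq_zero.1 this
  have hσ1' : σ = 1 := by
    rcases hσ1 with h | h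
    · exact h
    · exfalso
      have h1 := hval 1 (by rw [orderOf_one]; norm_num)
      rw [h] at h1
      obtain ⟨d1, hd1pos, hd1⟩ := exists_pos_nat_apply_one χ.2
      obtain ⟨d2, hd2pos, hd2⟩ := exists_pos_nat_apply_one ψ.2
      rw [hd1, hd2] at h1
      have h2 : ((d1 + d2 : ℕ) : ℂ) = 0 := by
        push_cast
        rw [h1]
        push_cast
        ring
      have h3 : d1 + d2 = 0 := by exact_mod_cast h2
      omega
  rw [hval g hg, hσ1']
  simp

end Cfsg.Agent.Lib.helper3.Block
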