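import Mathlib
import Cfsg.Prelude.Def_Characters
import Cfsg.Prelude.Def_Blocks
import Cfsg.Agent.Lib.helper3.GrAlg8
import Cfsg.Agent.Lib.helper3.SecMain11
import Cfsg.Agent.Lib.helper3.DefectOrder3
import Cfsg.Agent.Lib.helper3.TwoDefOne1

/-!
# Knörr's theorem, second half: the intersection of a defect group of the covering block with
the normal subgroup is no larger than a defect group of the covered block
-/

set_option autoImplicit false
set_option linter.style.haveILetI false
set_option linter.unusedSectionVars false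

namespace Cfsg.Agent.Lib.helper3.GrAlg

open Cfsg Cfsg.Agent.Lib.helper3.LocalM Cfsg.Agent.Lib.helper3.Block
open Cfsg.Agent.Lib.helper3.CharBasic Cfsg.Agent.Lib.helper3.Irr Cfsg.Agent.Lib.helper3.Lin
open Cfsg.Agent.Lib.helper3.IndFun Cfsg.Agent.Lib.helper3.GalPow
open scoped ComplexConjugate

variable {G : Type*} [Group G] [Fintype G] {M : Ideal AlgInt}
variable (N : Subgroup G) [hN : N.Normal] [Fintype N]

/-- The conjugate of a block is a block. -/
theorem isPBlock_conjIrr_image [hMp : M.IsPrime] (b : Set (IrrCharacter N)) (hb : IsPBlock M b)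
    (g : G) : IsPBlock M (conjIrr N g '' b) := by
  obtain ⟨ξ, rfl⟩ := hb
  refine ⟨conjIrr N g ξ, ?_⟩
  ext ψ
  constructor
  · rintro ⟨θ, hθ, rfl⟩
    exact sameBlock_conjFun N hθ g
  · intro hψ
    have h1 : SameBlock M (conjFun N (ξ : N → ℂ) g) (ψ : N → ℂ) := hψ
    have h2 := sameBlock_conjFun N h1 g⁻¹
    rw [conjFun_mul, mul_inv_cancel, conjFun_one] at h2
    refine ⟨(conjIrr N g).symm ψ, h2, ?_⟩
    exact (conjIrr N g).apply_symm_apply ψ

theorem blockDefect_conjIrr_image (p : ℕ) (b : Set (IrrCharacter N)) (g : G) :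
    blockDefect p (conjIrr N g '' b) = blockDefect p b := by
  unfold blockDefect
  rw [Set.image_image]
  congr 3
  funext θ
  unfold charDegree
  have h1 : ((conjIrr N g θ : IrrCharacter N) : N → ℂ) = conjFun N (θ : N → ℂ) g := rfl
  rw [h1, conjFun_apply_one]

open Classical in
/-- The idempotent of the orbit of a block is the sum of the idempotents of the conjugate
blocks. -/
theorem blockCoeff_conjOrbit [hMp : M.IsPrime] (b : Set (IrrCharacter N)) (hb : IsPBlock M b)
    (z : N) :
    blockCoeff (conjOrbit N b) z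
      = ∑ b' ∈ Finset.univ.image (fun g : G => conjIrr N g '' b), blockCoeff b' z := by
  have hpt : ∀ θ : IrrCharacter N, (if θ ∈ conjOrbit N b then (1 : ℂ) else 0)
      = ∑ b' ∈ Finset.univ.image (fun g : G => conjIrr N g '' b),
        (if θ ∈ b' then (1 : ℂ) else 0) := by
    intro θ
    by_cases hθ : θ ∈ conjOrbit N b
    · rw [if_pos hθ]
      obtain ⟨g, θ₀, hθ₀, hg⟩ := hθ
      have hmem : θ ∈ conjIrr N g '' b := ⟨θ₀, hθ₀, Subtype.ext hg.symm⟩
      rw [Finset.sum_eq_single (conjIrr N g '' b)]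
      · rw [if_pos hmem]
      · intro b' hb' hne
        rw [if_neg]
        intro hθb'
        apply hne
        obtain ⟨g', -, rfl⟩ := Finset.mem_image.mp hb'
        exact isPBlock_eq_of_mem (isPBlock_conjIrr_image N b hb g')
          (isPBlock_conjIrr_image N b hb g) θ hθb' hmem
      · intro h
        exact absurd (Finset.mem_image_of_mem _ (Finset.mem_univ g)) h
    · rw [if_neg hθ]
      symm
      apply Finset.sum_eq_zero
      intro b' hb'
      rw [if_neg]
      intro hθb'
      apply hθ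
      obtain ⟨g', -, rfl⟩ := Finset.mem_image.mp hb'
      obtain ⟨θ₀, hθ₀, rfl⟩ := hθb'
      exact ⟨g', θ₀, hθ₀, rfl⟩
  rw [blockCoeff_eq_coef]
  simp_rw [blockCoeff_eq_coef]
  unfold coef
  rw [← Finset.mul_sum, Finset.sum_comm]
  congr 1
  apply Finset.sum_congr rfl
  intro θ _
  beta_reduce
  rw [hpt θ, Finset.sum_mul, Finset.sum_mul]

/-- **Knörr, second half**: if `B` covers `b` and `P` is a defect group of `B`, then `P ∩ N` has
order at most `p` to the defect of `b`. -/
theorem card_inf_le_of_covers {p : ℕ} [hp : Fact p.Prime] (hM : IsPModular p M)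
    (B : Set (IrrCharacter G)) (hB : IsPBlock M B) (b : Set (IrrCharacter N)) (hb : IsPBlock M b)
    (hcov : ∃ χ ∈ B, ∃ θ ∈ b, classInner (fun n : N => (χ : G → ℂ) n) (θ : N → ℂ) ≠ 0)
    (P : Subgroup G) (hP : IsDefectGroup p M B P) :
    Nat.card (P ⊓ N : Subgroup G) ≤ p ^ blockDefect p b := by
  classical
  haveI hMp := isPrime_of_isPModular hM
  have hMtop : M ≠ ⊤ := hM.2.1.ne_top
  obtain ⟨χ₀, hχ₀B, θ₀, hθ₀, hχ₀⟩ := hcov
  have hst := conjStable_conjOrbit N b
  have hcl := conjOrbit_closed (M := M) N b hb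
  have hχ₀S : χ₀ ∈ overSet N (conjOrbit N b) := ⟨θ₀, subset_conjOrbit N b hθ₀, hχ₀⟩
  have h1 := sum_classes_blockCoeff_mul_centralChar (overSet N (conjOrbit N b)) χ₀
  rw [if_pos hχ₀S] at h1
  -- a class with both factors outside the local ideal
  have hex : ∃ z : G, ¬ MemLocalIdeal M (blockCoeff (overSet N (conjOrbit N b)) z) ∧
      ¬ MemLocalIdeal M (centralChar (χ₀ : G → ℂ) z) := by
    by_contra hcon
    push Not at hcon
    apply not_memLocalIdeal_one (M := M)
    rw [← h1]
    apply memLocalIdeal_sum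
    intro C _
    by_cases hcc : MemLocalIdeal M (blockCoeff (overSet N (conjOrbit N b)) (Quotient.out C))
    · rw [mul_comm]
      exact memLocalIdeal_mul_integral hcc (isIntegral_centralChar χ₀.2 _)
    · have hR : MemLocalRing M (blockCoeff (overSet N (conjOrbit N b)) (Quotient.out C)) := by
        rw [blockCoeff_overSet N _ hst]
        unfold subgroupBlockCoeff
        split_ifs
        · exact memLocalRing_blockCoeff_of_closed hM _ hcl _
        · exact memLocalRing_of_integral isIntegral_zero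
      exact memLocalIdeal_mul_localRing hR (hcon _ hcc)
  obtain ⟨z, hz1, hz2⟩ := hex
  have hzN : z ∈ N := by
    by_contra hzN
    apply hz1
    rw [blockCoeff_overSet N _ hst]
    unfold subgroupBlockCoeff
    rw [dif_neg hzN]
    exact memLocalIdeal_zero hMtop
  have hz1' : ¬ MemLocalIdeal M (blockCoeff (conjOrbit N b) (⟨z, hzN⟩ : N)) := by
    intro h
    apply hz1
    rw [blockCoeff_overSet N _ hst]
    unfold subgroupBlockCoeff
    rw [dif_pos hzN]
    exact h
  rw [blockCoeff_conjOrbit N b hb] at hz1'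
  obtain ⟨b', hb'mem, hb'z⟩ : ∃ b' ∈ Finset.univ.image (fun g : G => conjIrr N g '' b),
      ¬ MemLocalIdeal M (blockCoeff b' (⟨z, hzN⟩ : N)) := by
    by_contra hcon
    push Not at hcon
    exact hz1' (memLocalIdeal_sum _ _ hcon)
  obtain ⟨g', -, rfl⟩ := Finset.mem_image.mp hb'mem
  have hb'blk := isPBlock_conjIrr_image (M := M) N b hb g'
  have hb'def := blockDefect_conjIrr_image N p b g'
  -- the Sylow subgroups of `C_N(z)` are small
  obtain ⟨g₀, hg₀⟩ := exists_defectClass hM _ hb'blk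
  obtain ⟨D₀⟩ : Nonempty (Sylow p (Subgroup.centralizer ({g₀} : Set N))) := inferInstance
  obtain ⟨x', Q', hQ'⟩ := (min_max hM _ hb'blk g₀ hg₀ D₀ (⟨z, hzN⟩ : N)).1 hb'z
  have hD₀card := card_of_isDefectGroup hM _ hb'blk _ (⟨g₀, hg₀, D₀, rfl⟩ :
    IsDefectGroup p M (conjIrr N g' '' b)
      ((D₀ : Subgroup (Subgroup.centralizer ({g₀} : Set N))).map
        (Subgroup.centralizer ({g₀} : Set N)).subtype))
  rw [hb'def] at hD₀card
  have hQ'card : Nat.card (Q' : Subgroup (Subgroup.centralizer ({(⟨z, hzN⟩ : N)} : Set N)))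
      ≤ p ^ blockDefect p b := by
    rw [← hD₀card]
    have e1 : Nat.card ((Q' : Subgroup (Subgroup.centralizer ({(⟨z, hzN⟩ : N)} : Set N))).map
        (Subgroup.centralizer ({(⟨z, hzN⟩ : N)} : Set N)).subtype)
        = Nat.card (Q' : Subgroup (Subgroup.centralizer ({(⟨z, hzN⟩ : N)} : Set N))) :=
      Nat.card_congr (Subgroup.equivMapOfInjective _ _ (Subgroup.subtype_injective _)).symm.toEquiv
    have e2 : Nat.card (((D₀ : Subgroup (Subgroup.centralizer ({g₀} : Set N))).map
        (Subgroup.centralizer ({g₀} : Set N)).subtype).map (MulAut.conj x').toMonoidHom)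
        = Nat.card ((D₀ : Subgroup (Subgroup.centralizer ({g₀} : Set N))).map
        (Subgroup.centralizer ({g₀} : Set N)).subtype) :=
      Nat.card_congr (Subgroup.equivMapOfInjective _ _
        (MulAut.conj x').injective).symm.toEquiv
    rw [← e1, ← e2]
    exact Nat.card_le_card_of_injective (Subgroup.inclusion hQ') (Subgroup.inclusion_injective hQ')
  -- a conjugate of `P` centralizes `z`
  obtain ⟨g₁, hg₁, D₁, rfl⟩ := hP
  obtain ⟨y, Q'', hQ''⟩ := (min_max hM B hB g₁ hg₁ D₁ z).2 ⟨χ₀, hχ₀B, hz2⟩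
  obtain ⟨P₁, hP₁⟩ : ∃ P₁ : Subgroup G, P₁ = (D₁ : Subgroup (Subgroup.centralizer ({g₁} : Set G))).map
      (Subgroup.centralizer ({g₁} : Set G)).subtype := ⟨_, rfl⟩
  rw [← hP₁] at hQ'' ⊢
  have hP₁p : IsPGroup p P₁ := by
    rw [hP₁]
    exact D₁.isPGroup'.map _
  have hPz : P₁.map (MulAut.conj y).toMonoidHom ≤ Subgroup.centralizer ({z} : Set G) := by
    refine hQ''.trans ?_
    intro u hu
    obtain ⟨v, -, rfl⟩ := Subgroup.mem_map.mp hu
    exact v.2
  -- the subgroup `(P₁^y ∩ N)` of `C_N(z)` as a `p`-subgroup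
  obtain ⟨U, hU⟩ : ∃ U : Subgroup (Subgroup.centralizer ({(⟨z, hzN⟩ : N)} : Set N)),
      U = ((P₁.map (MulAut.conj y).toMonoidHom).subgroupOf N).subgroupOf _ := ⟨_, rfl⟩
  have hUp : IsPGroup p U := by
    rw [hU]
    exact ((hP₁p.map _).comap_subtype).comap_subtype
  obtain ⟨Q₃, hQ₃⟩ := hUp.exists_le_sylow
  have hcardQ : Nat.card (Q₃ : Subgroup (Subgroup.centralizer ({(⟨z, hzN⟩ : N)} : Set N)))
      = Nat.card (Q' : Subgroup (Subgroup.centralizer ({(⟨z, hzN⟩ : N)} : Set N))) := by
    rw [Sylow.card_eq_multiplicity, Sylow.card_eq_multiplicity]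
  have hUcard : Nat.card U ≤ p ^ blockDefect p b := by
    refine le_trans ?_ hQ'card
    rw [← hcardQ]
    exact Nat.card_le_card_of_injective (Subgroup.inclusion hQ₃) (Subgroup.inclusion_injective hQ₃)
  refine le_trans (le_of_eq ?_) hUcard
  -- `|P₁ ∩ N| = |U|`
  have e1 : Nat.card (P₁ ⊓ N : Subgroup G)
      = Nat.card ((P₁.map (MulAut.conj y).toMonoidHom ⊓ N : Subgroup G)) := by
    apply Nat.card_congr
    refine ⟨fun u => ⟨y * (u : G) * y⁻¹, ?_⟩, fun u => ⟨y⁻¹ * (u : G) * y, ?_⟩, ?_, ?_⟩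
    · refine ⟨Subgroup.mem_map.mpr ⟨(u : G), u.2.1, rfl⟩, hN.conj_mem _ u.2.2 y⟩
    · obtain ⟨v, hv, hvu⟩ := Subgroup.mem_map.mp u.2.1
      refine ⟨?_, ?_⟩
      · rw [← hvu]
        simp only [MulEquiv.coe_toMonoidHom, MulAut.conj_apply]
        have : y⁻¹ * (y * v * y⁻¹) * y = v := by group
        rw [this]
        exact hv
      · have := hN.conj_mem _ u.2.2 y⁻¹
        rwa [inv_inv] at this
    · intro u
      apply Subtype.ext
      simp only
      group
    · intro u
      apply Subtype.ext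
      simp only
      group
  rw [e1, hU]
  apply Nat.card_congr
  refine ⟨fun u => ⟨⟨⟨(u : G), u.2.2⟩, ?_⟩, ?_⟩, fun u => ⟨((u : Subgroup.centralizer
    ({(⟨z, hzN⟩ : N)} : Set N)) : N), ?_, ?_⟩, ?_, ?_⟩
  · rw [Subgroup.mem_centralizer_iff]
    intro w hw
    rw [Set.mem_singleton_iff] at hw
    subst hw
    apply Subtype.ext
    have h2 := hPz u.2.1
    rw [Subgroup.mem_centralizer_iff] at h2
    exact h2 z (Set.mem_singleton z)
  · rw [Subgroup.mem_subgroupOf, Subgroup.mem_subgroupOf]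
    exact u.2.1
  · have := u.2
    rw [Subgroup.mem_subgroupOf, Subgroup.mem_subgroupOf] at this
    exact this
  · exact ((u : Subgroup.centralizer ({(⟨z, hzN⟩ : N)} : Set N)) : N).2
  · intro u
    rfl
  · intro u
    rfl

end Cfsg.Agent.Lib.helper3.GrAlg
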