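import Mathlib
import Cfsg.Prelude.Def_Characters
import Cfsg.Prelude.Def_Blocks
import Cfsg.Agent.Lib.helper3.GrAlg9

/-!
# Knörr's theorem
-/

set_option autoImplicit false
set_option linter.style.haveILetI false
set_option linter.unusedSectionVars false

namespace Cfsg.Agent.Lib.helper3.GrAlg

open Cfsg Cfsg.Agent.Lib.helper3.LocalM Cfsg.Agent.Lib.helper3.Block
open Cfsg.Agent.Lib.helper3.CharBasic Cfsg.Agent.Lib.helper3.Irr Cfsg.Agent.Lib.helper3.Lin
open Cfsg.Agent.Lib.helper3.IndFun Cfsg.Agent.Lib.helper3.GalPow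
open scoped ComplexConjugate

variable {G : Type*} [Group G] [Fintype G] {M : Ideal AlgInt}
variable (N : Subgroup G) [hN : N.Normal] [Fintype N]

/-- If `B` covers `b`, some defect group `P₁` of `B` meets `N` in (the image of) a defect group
of `b`. -/
theorem exists_defectGroup_inf_eq {p : ℕ} [hp : Fact p.Prime] (hM : IsPModular p M)
    (B : Set (IrrCharacter G)) (hB : IsPBlock M B) (b : Set (IrrCharacter N)) (hb : IsPBlock M b)
    (hcov : ∃ χ ∈ B, ∃ θ ∈ b, classInner (fun n : N => (χ : G → ℂ) n) (θ : N → ℂ) ≠ 0) :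
    ∃ (Q₁ : Subgroup N) (P₁ : Subgroup G), IsDefectGroup p M b Q₁ ∧ IsDefectGroup p M B P₁ ∧
      Q₁.map N.subtype = P₁ ⊓ N := by
  obtain ⟨Q₁, P₁, hQ₁, hP₁, hle⟩ := exists_defectGroups_le N hM B hB b hb hcov
  refine ⟨Q₁, P₁, hQ₁, hP₁, ?_⟩
  have hcard := card_inf_le_of_covers N hM B hB b hb hcov P₁ hP₁
  have hQcard := card_of_isDefectGroup hM b hb Q₁ hQ₁
  have hle' : Q₁.map N.subtype ≤ P₁ ⊓ N := by
    apply le_inf hle
    intro u hu
    obtain ⟨v, -, rfl⟩ := Subgroup.mem_map.mp hu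
    exact v.2
  apply Subgroup.eq_of_le_of_card_ge hle'
  rw [Nat.card_congr (Subgroup.equivMapOfInjective _ _
    (Subgroup.subtype_injective _)).symm.toEquiv, hQcard]
  exact hcard

/-- **Knörr's theorem**: if the block `B` of `G` covers the block `b` of the normal subgroup `N`
and `Q` is a defect group of `b`, then `B` has a defect group `P` with `P ∩ N = Q`. -/
theorem knorr {p : ℕ} [hp : Fact p.Prime] (hM : IsPModular p M)
    (B : Set (IrrCharacter G)) (hB : IsPBlock M B) (b : Set (IrrCharacter N)) (hb : IsPBlock M b)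
    (hcov : ∃ χ ∈ B, ∃ θ ∈ b, classInner (fun n : N => (χ : G → ℂ) n) (θ : N → ℂ) ≠ 0)
    (Q : Subgroup G) (hQN : Q ≤ N) (hQ : IsDefectGroup p M b (Q.subgroupOf N)) :
    ∃ P : Subgroup G, IsDefectGroup p M B P ∧ P ⊓ N = Q := by
  obtain ⟨Q₁, P₁, hQ₁, hP₁, heq⟩ := exists_defectGroup_inf_eq N hM B hB b hb hcov
  obtain ⟨m, hm⟩ := defectGroup_conj_eq hM hb hQ hQ₁
  refine ⟨P₁.map (MulAut.conj (m : G)).toMonoidHom, isDefectGroup_conj hP₁ (m : G), ?_⟩
  ext u
  constructor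
  · rintro ⟨hu1, hu2⟩
    obtain ⟨v, hv, rfl⟩ := Subgroup.mem_map.mp hu1
    simp only [MulEquiv.coe_toMonoidHom, MulAut.conj_apply] at hu2 ⊢
    have hvN : v ∈ N := by
      have := hN.conj_mem _ hu2 (m : G)⁻¹
      have e : (m : G)⁻¹ * ((m : G) * v * (m : G)⁻¹) * ((m : G)⁻¹)⁻¹ = v := by group
      rwa [e] at this
    have hv' : v ∈ Q₁.map N.subtype := by
      rw [heq]
      exact ⟨hv, hvN⟩
    obtain ⟨w, hw, rfl⟩ := Subgroup.mem_map.mp hv'
    have h1 : (MulAut.conj m).toMonoidHom w ∈ Q₁.map (MulAut.conj m).toMonoidHom :=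
      Subgroup.mem_map_of_mem _ hw
    rw [hm, Subgroup.mem_subgroupOf] at h1
    simpa using h1
  · intro hu
    have huN : u ∈ N := hQN hu
    refine ⟨?_, huN⟩
    have h1 : (⟨u, huN⟩ : N) ∈ Q.subgroupOf N := by
      rw [Subgroup.mem_subgroupOf]
      exact hu
    rw [← hm] at h1
    obtain ⟨w, hw, hwu⟩ := Subgroup.mem_map.mp h1
    have hw' : (w : G) ∈ P₁ := by
      have : (w : G) ∈ Q₁.map N.subtype := Subgroup.mem_map.mpr ⟨w, hw, rfl⟩
      rw [heq] at this
      exact this.1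
    refine Subgroup.mem_map.mpr ⟨(w : G), hw', ?_⟩
    have := congrArg (Subtype.val : N → G) hwu
    simpa using this

end Cfsg.Agent.Lib.helper3.GrAlg
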