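import Mathlib
import Cfsg.Prelude.Def_Characters
import Cfsg.Prelude.Def_Blocks
import Cfsg.Prelude.Def_BlockLocal
import Cfsg.Agent.Lib.helper3.GrAlg10
import Cfsg.Agent.Lib.helper3.FR6
import Cfsg.Agent.Lib.helper3.TraceBlock

/-!
# Transport of defect groups along isomorphisms, and the stabilizer of a block as a subgroup
-/

set_option autoImplicit false
set_option linter.style.haveILetI false
set_option linter.unusedSectionVars false

namespace Cfsg.Agent.Lib.helper3.GrAlg

open Cfsg Cfsg.Agent.Lib.helper3.LocalM Cfsg.Agent.Lib.helper3.Block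
open Cfsg.Agent.Lib.helper3.CharBasic Cfsg.Agent.Lib.helper3.Irr Cfsg.Agent.Lib.helper3.Lin
open Cfsg.Agent.Lib.helper3.IndFun Cfsg.Agent.Lib.helper3.GalPow
open scoped ComplexConjugate

section transport

variable {H H' : Type*} [Group H] [Group H'] [Fintype H] [Fintype H'] {M : Ideal AlgInt}

theorem isDefectClass_irrCongr (ι : H' ≃* H) (S : Set (IrrCharacter H)) (h' : H') :
    IsDefectClass M (irrCongr ι '' S) h' ↔ IsDefectClass M S (ι h') := by
  unfold IsDefectClass
  rw [blockCoeff_image_irrCongr]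
  constructor
  · rintro ⟨h1, h2, h3⟩
    refine ⟨h1, h2, fun χ hχ => ?_⟩
    have := h3 (irrCongr ι χ) ⟨χ, hχ, rfl⟩
    rwa [centralChar_irrCongr] at this
  · rintro ⟨h1, h2, h3⟩
    refine ⟨h1, h2, ?_⟩
    rintro _ ⟨χ, hχ, rfl⟩
    rw [centralChar_irrCongr]
    exact h3 χ hχ

theorem centralizer_map_mulEquiv (ι : H' ≃* H) (g : H') :
    Subgroup.centralizer ({ι g} : Set H)
      = (Subgroup.centralizer ({g} : Set H')).map ι.toMonoidHom := by
  ext x
  rw [Subgroup.mem_map_equiv, Subgroup.mem_centralizer_singleton_iff,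
    Subgroup.mem_centralizer_singleton_iff]
  constructor
  · intro h
    apply ι.injective
    rw [map_mul, map_mul, MulEquiv.apply_symm_apply]
    exact h
  · intro h
    have := congrArg ι h
    rw [map_mul, map_mul, MulEquiv.apply_symm_apply] at this
    exact this

/-- Defect groups transport along isomorphisms. -/
theorem isDefectGroup_of_irrCongr {p : ℕ} [Fact p.Prime] (ι : H' ≃* H)
    (S : Set (IrrCharacter H)) (D : Subgroup H')
    (hD : IsDefectGroup p M (irrCongr ι '' S) D) :
    IsDefectGroup p M S (D.map ι.toMonoidHom) := by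
  classical
  obtain ⟨g, hg, P, rfl⟩ := hD
  obtain ⟨D, hDdef⟩ : ∃ D : Subgroup H',
      D = (P : Subgroup (Subgroup.centralizer ({g} : Set H'))).map
        (Subgroup.centralizer ({g} : Set H')).subtype := ⟨_, rfl⟩
  rw [← hDdef]
  have hDle : D ≤ Subgroup.centralizer ({g} : Set H') := by
    rw [hDdef]
    exact Subgroup.map_subtype_le _
  have hDcard : Nat.card D
      = p ^ (Nat.card (Subgroup.centralizer ({g} : Set H'))).factorization p := by
    rw [hDdef, Subgroup.card_map_of_injective (Subgroup.subtype_injective _)]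
    exact P.card_eq_multiplicity
  have hcen := centralizer_map_mulEquiv ι g
  have hle' : D.map ι.toMonoidHom ≤ Subgroup.centralizer ({ι g} : Set H) := by
    rw [hcen]
    exact Subgroup.map_mono hDle
  have hcardC : Nat.card (Subgroup.centralizer ({ι g} : Set H))
      = Nat.card (Subgroup.centralizer ({g} : Set H')) := by
    rw [hcen]
    exact Subgroup.card_map_of_injective ι.injective
  have hcard' : Nat.card ((D.map ι.toMonoidHom).subgroupOf
      (Subgroup.centralizer ({ι g} : Set H)))
      = p ^ (Nat.card (Subgroup.centralizer ({ι g} : Set H))).factorization p := by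
    rw [hcardC, ← hDcard, Nat.card_congr (Subgroup.subgroupOfEquivOfLe hle').toEquiv,
      Subgroup.card_map_of_injective ι.injective]
  refine ⟨ι g, (isDefectClass_irrCongr ι S g).mp hg, Sylow.ofCard _ hcard', ?_⟩
  rw [Sylow.coe_ofCard, Subgroup.subgroupOf_map_subtype, inf_of_le_left hle']

theorem irrCongr_symm_irrCongr (ι : H' ≃* H) (θ : IrrCharacter H) :
    irrCongr ι.symm (irrCongr ι θ) = θ := by
  apply Subtype.ext
  funext h
  rw [irrCongr_apply, irrCongr_apply, MulEquiv.apply_symm_apply]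

theorem isDefectGroup_irrCongr_image {p : ℕ} [Fact p.Prime] (ι : H' ≃* H)
    (S : Set (IrrCharacter H)) (E : Subgroup H) (hE : IsDefectGroup p M S E) :
    IsDefectGroup p M (irrCongr ι '' S) (E.map ι.symm.toMonoidHom) := by
  apply isDefectGroup_of_irrCongr ι.symm
  have : irrCongr ι.symm '' (irrCongr ι '' S) = S := by
    rw [Set.image_image]
    have h : ∀ θ ∈ S, irrCongr ι.symm (irrCongr ι θ) = id θ :=
      fun θ _ => irrCongr_symm_irrCongr ι θ
    rw [Set.image_congr h, Set.image_id]
  rw [this]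
  exact hE

end transport

variable {G : Type*} [Group G] [Fintype G] {M : Ideal AlgInt}
variable (N : Subgroup G) [hN : N.Normal] [Fintype N]

theorem conjIrr_mul (x y : G) (θ : IrrCharacter N) :
    conjIrr N (x * y) θ = conjIrr N y (conjIrr N x θ) := by
  apply Subtype.ext
  rw [coe_conjIrr, coe_conjIrr, coe_conjIrr, conjFun_mul]

theorem conjIrr_one (θ : IrrCharacter N) : conjIrr N 1 θ = θ := by
  apply Subtype.ext
  rw [coe_conjIrr, conjFun_one]

theorem conjIrr_eq_irrCongr (g : G) (θ : IrrCharacter N) :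
    conjIrr N g θ = irrCongr (MulAut.conjNormal g : N ≃* N) θ := by
  apply Subtype.ext
  rw [coe_conjIrr, conjFun_eq_comp]
  rfl

/-- The stabilizer of a set of irreducible characters of a normal subgroup. -/
def blockStab (b : Set (IrrCharacter N)) : Subgroup G where
  carrier := {g | conjIrr N g '' b = b}
  mul_mem' := by
    intro x y hx hy
    show conjIrr N (x * y) '' b = b
    have : conjIrr N (x * y) '' b = conjIrr N y '' (conjIrr N x '' b) := by
      rw [Set.image_image]
      exact Set.image_congr (fun θ _ => conjIrr_mul N x y θ)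
    rw [this, hx, hy]
  one_mem' := by
    show conjIrr N 1 '' b = b
    have : conjIrr N 1 '' b = id '' b := Set.image_congr (fun θ _ => conjIrr_one N θ)
    rw [this, Set.image_id]
  inv_mem' := by
    intro x hx
    show conjIrr N x⁻¹ '' b = b
    have h1 : conjIrr N x⁻¹ '' (conjIrr N x '' b) = b := by
      rw [Set.image_image]
      have : ∀ θ ∈ b, conjIrr N x⁻¹ (conjIrr N x θ) = id θ := by
        intro θ _
        rw [← conjIrr_mul, mul_inv_cancel, conjIrr_one]
        rfl
      rw [Set.image_congr this, Set.image_id]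
    rw [hx] at h1
    exact h1

theorem mem_blockStab (b : Set (IrrCharacter N)) (g : G) :
    g ∈ blockStab N b ↔ conjIrr N g '' b = b := Iff.rfl

theorem isBlockStab_blockStab [M.IsPrime] (b : Set (IrrCharacter N)) (hb : IsPBlock M b) :
    IsBlockStab N (blockStab N b) b := by
  intro g
  constructor
  · intro hg θ hθ θ' h
    have e : θ' = conjIrr N g θ := Subtype.ext (funext h)
    rw [e]
    have hg' : conjIrr N g '' b = b := hg
    rw [← hg']
    exact ⟨θ, hθ, rfl⟩
  · intro h
    show conjIrr N g '' b = b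
    have hsub : conjIrr N g '' b ⊆ b := by
      rintro _ ⟨θ, hθ, rfl⟩
      exact h θ hθ _ (fun _ => rfl)
    obtain ⟨θ₀, hθ₀⟩ : ∃ θ₀, θ₀ ∈ b := by
      obtain ⟨χ₀, rfl⟩ := hb
      exact ⟨χ₀, sameBlock_refl (Ideal.IsPrime.ne_top inferInstance) _⟩
    exact isPBlock_eq_of_mem (isPBlock_conjIrr_image N b hb g) hb (conjIrr N g θ₀)
      ⟨θ₀, hθ₀, rfl⟩ (hsub ⟨θ₀, hθ₀, rfl⟩)

/-- A subgroup described by `StabilizesBlock` is the stabilizer. -/
theorem isBlockStab_of_stabilizes [M.IsPrime] (b : Set (IrrCharacter N)) (hb : IsPBlock M b)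
    (T : Subgroup G) (hT : ∀ x : G, x ∈ T ↔ StabilizesBlock N b x) : IsBlockStab N T b := by
  obtain ⟨ξ, hξ⟩ : ∃ θ₀, θ₀ ∈ b := by
    obtain ⟨χ₀, rfl⟩ := hb
    exact ⟨χ₀, sameBlock_refl (Ideal.IsPrime.ne_top inferInstance) _⟩
  intro g
  rw [← T.inv_mem_iff, hT]
  constructor
  · intro hg θ hθ θ' h
    have e : θ' = conjIrr N g θ := Subtype.ext (funext h)
    rw [e]
    exact (conjIrr_mem_iff_stabilizes N b hb θ hθ g).mpr hg
  · intro h
    apply (conjIrr_mem_iff_stabilizes N b hb ξ hξ g).mp
    exact h ξ hξ _ (fun _ => rfl)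

theorem le_of_isBlockStab [M.IsPrime] (b : Set (IrrCharacter N)) (hb : IsPBlock M b)
    (T : Subgroup G) [Fintype T] (hT : IsBlockStab N T b) : N ≤ T := by
  obtain ⟨ξ, hξ⟩ : ∃ θ₀, θ₀ ∈ b := by
    obtain ⟨χ₀, rfl⟩ := hb
    exact ⟨χ₀, sameBlock_refl (Ideal.IsPrime.ne_top inferInstance) _⟩
  intro n hn
  apply inertia_le N T hb hT hξ
  intro h
  exact isClassFunction_of_isCharacter (isCharacter_of_isIrrCharacter ξ.2) h ⟨n, hn⟩

end Cfsg.Agent.Lib.helper3.GrAlg
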