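import Mathlib
import Cfsg.Prelude.Def_Characters
import Cfsg.Prelude.Def_Blocks
import Cfsg.Prelude.Def_BlockLocal
import Cfsg.Agent.Lib.helper3.GrAlg11
import Cfsg.Agent.Lib.helper3.BlockCover3
import Cfsg.Agent.Lib.helper3.BlockInd

/-!
# Blocks of `p`-power-index extensions: uniqueness of the covering block, and the stabilizer of a
covered block when a defect group lies in the normal subgroup
-/

set_option autoImplicit false
set_option linter.style.haveILetI false
set_option linter.unusedSectionVars false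

namespace Cfsg.Agent.Lib.helper3.GrAlg

open Cfsg Cfsg.Agent.Lib.helper3.LocalM Cfsg.Agent.Lib.helper3.Block
open Cfsg.Agent.Lib.helper3.CharBasic Cfsg.Agent.Lib.helper3.Irr Cfsg.Agent.Lib.helper3.Lin
open Cfsg.Agent.Lib.helper3.IndFun Cfsg.Agent.Lib.helper3.GalPow
open scoped ComplexConjugate

variable {G : Type*} [Group G] [Fintype G] {M : Ideal AlgInt}

/-- An intermediate constituent. -/
theorem exists_intermediate (N L : Subgroup G) [Fintype N] [Fintype L] (hNL : N ≤ L)
    {χ : G → ℂ} (hχ : IsCharacter G χ) (θ : N → ℂ)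
    (h : classInner (fun n : N => χ n) θ ≠ 0) :
    ∃ η : IrrCharacter L, classInner (fun l : L => χ l) (η : L → ℂ) ≠ 0 ∧
      classInner (fun n : N => (η : L → ℂ) ⟨(n : G), hNL n.2⟩) θ ≠ 0 := by
  classical
  have hχL : IsCharacter L (fun l : L => χ l) := isCharacter_restrict hχ L
  have hdec := isCharacter_eq_sum_classInner hχL
  have e : (fun n : N => χ n) = ∑ η : IrrCharacter L,
      classInner (fun l : L => χ l) (η : L → ℂ) •
        (fun n : N => (η : L → ℂ) ⟨(n : G), hNL n.2⟩) := by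
    funext n
    have := congrFun hdec ⟨(n : G), hNL n.2⟩
    simp only [Finset.sum_apply, Pi.smul_apply] at this ⊢
    exact this
  by_contra hcon
  push Not at hcon
  apply h
  rw [e, classInner_sum_left]
  apply Finset.sum_eq_zero
  intro η _
  rw [classInner_smul_left]
  by_cases h0 : classInner (fun l : L => χ l) (η : L → ℂ) = 0
  · rw [h0, zero_mul]
  · rw [hcon η h0, mul_zero]

/-- If `G/N` is a `p`-group, a block of `N` is covered by a unique block of `G`. -/
theorem unique_cover_of_index_pow {p : ℕ} [hp : Fact p.Prime] (hM : IsPModular p M)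
    (N : Subgroup G) [hN : N.Normal] [Fintype N] (hidx : ∃ k : ℕ, N.index = p ^ k)
    (c : Set (IrrCharacter N)) (hc : IsPBlock M c) (β β' : Set (IrrCharacter G))
    (hβ : IsPBlock M β) (hβ' : IsPBlock M β')
    (hcov : ∃ χ ∈ β, ∃ θ ∈ c, classInner (fun n : N => (χ : G → ℂ) n) (θ : N → ℂ) ≠ 0)
    (hcov' : ∃ χ ∈ β', ∃ θ ∈ c, classInner (fun n : N => (χ : G → ℂ) n) (θ : N → ℂ) ≠ 0) :
    β' = β := by
  haveI hMp := isPrime_of_isPModular hM
  have hMtop : M ≠ ⊤ := hM.2.1.ne_top
  obtain ⟨χ, hχ, θ, hθ, hne⟩ := hcov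
  obtain ⟨χ', hχ', θ', hθ', hne'⟩ := hcov'
  have hs : SameBlock M (θ : N → ℂ) (θ' : N → ℂ) := by
    obtain ⟨ξ, rfl⟩ := hc
    exact sameBlock_trans (sameBlock_symm hθ) hθ'
  have hsame : SameBlock M (χ : G → ℂ) (χ' : G → ℂ) := by
    apply sameBlock_of_congr_of_index_pow hM N hidx χ χ'
    intro n hn
    have h1 := centralChar_eq_of_over N χ θ hne ⟨n, hn⟩
    have h2 := centralChar_eq_of_over N χ' θ' hne' ⟨n, hn⟩
    simp only at h1 h2
    rw [h1, h2]
    exact memLocalIdeal_inducedCentralChar_sub N θ θ' hs n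
  obtain ⟨ξ, rfl⟩ := hβ
  have : χ' ∈ blockOf M (ξ : G → ℂ) := sameBlock_trans hχ hsame
  exact isPBlock_eq_of_mem hβ' ⟨ξ, rfl⟩ χ' hχ' this

/-- The stabilizer of a block of `N`, seen inside an intermediate subgroup `L`. -/
theorem isBlockStab_subgroupOf_of_le (N L T : Subgroup G) [hN : N.Normal] [Fintype N]
    (hNL : N ≤ L) [Fintype (N.subgroupOf L)] (c : Set (IrrCharacter N))
    (hT : IsBlockStab N T c) :
    IsBlockStab (N.subgroupOf L) (T.subgroupOf L)
      (irrCongr (Subgroup.subgroupOfEquivOfLe hNL) '' c) := by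
  obtain ⟨ι, hι⟩ : ∃ ι : N.subgroupOf L ≃* N, ι = Subgroup.subgroupOfEquivOfLe hNL := ⟨_, rfl⟩
  rw [← hι]
  have hιc : ∀ q : N.subgroupOf L, ((ι q : N) : G) = ((q : L) : G) := by
    intro q
    rw [hι]
    rfl
  intro g
  rw [Subgroup.mem_subgroupOf, hT (g : G)]
  constructor
  · intro h
    rintro _ ⟨θ, hθ, rfl⟩ θ'' hθ''
    refine ⟨(irrCongr ι).symm θ'', ?_, (irrCongr ι).apply_symm_apply θ''⟩
    apply h θ hθ
    intro n
    show (θ'' : N.subgroupOf L → ℂ) (ι.symm n) = _
    rw [hθ'' (ι.symm n), irrCongr_apply]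
    apply congrArg
    apply Subtype.ext
    rw [hιc]
    show (g : G) * (((ι.symm n : N.subgroupOf L) : L) : G) * (g : G)⁻¹ = _
    rw [← hιc, MulEquiv.apply_symm_apply]
  · intro h θ hθ θ' hθ'
    obtain ⟨θ₁, hθ₁, heq⟩ := h (irrCongr ι θ) ⟨θ, hθ, rfl⟩ (irrCongr ι θ') (by
      intro n
      rw [irrCongr_apply, irrCongr_apply, hθ' (ι n)]
      apply congrArg
      apply Subtype.ext
      show (g : G) * ((ι n : N) : G) * (g : G)⁻¹ = ((ι _ : N) : G)
      rw [hιc, hιc]
      rfl)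
    rw [← (irrCongr ι).injective heq]
    exact hθ₁

end Cfsg.Agent.Lib.helper3.GrAlg
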