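import Mathlib
import Cfsg.Prelude.Def_Characters
import Cfsg.Prelude.Def_Blocks
import Cfsg.Agent.S0887
import Cfsg.Agent.Lib.helper3.FongB4
import Cfsg.Agent.Lib.helper3.ADB2
import Cfsg.Agent.Lib.helper3.GrAlg12
import Cfsg.Agent.Lib.helper3.GNS2
import Cfsg.Agent.Lib.Helper4.DegreeIndex
import Cfsg.Agent.Lib.Helper8.GS6

/-!
# The degree bound behind Fong's height theorem, character-theoretic half

`N ≤ L` normal in `G`, `N` a `p'`-group, `L/N` a `p`-group, `θ ∈ Irr(N)` invariant in `G`,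
`χ ∈ Irr(G | θ)`: then `ν(χ(1)) + ν|Z(L/N)| ≤ ν|G:L| + ν|L:N|`.
-/

set_option autoImplicit false
set_option linter.style.haveILetI false
set_option linter.unusedSectionVars false
set_option linter.unusedVariables false

namespace Cfsg.Agent.Lib.helper3.FongDeg

open Cfsg Cfsg.Agent.Lib.helper3.Irr Cfsg.Agent.Lib.helper3.CharBasic
open Cfsg.Agent.Lib.helper3.IndFun Cfsg.Agent.Lib.helper3.GNS
open scoped ComplexConjugate

universe u

/-- arithmetic core -/
theorem arith (p : ℕ) (hp : p.Prime) (c d e t z k idx : ℕ) (hc : 0 < c) (hidx : 0 < idx)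
    (hdc : d ∣ c) (hcd : c / d ∣ idx) (hd : d = e * t) (ht : 0 < t) (htp : ¬ p ∣ t)
    (he : e ∣ p ^ k) (hz : z ∣ p ^ k) (hle : e ^ 2 * z ≤ p ^ k) :
    c.factorization p + z.factorization p ≤ idx.factorization p + k := by
  obtain ⟨i, hik, rfl⟩ := (Nat.dvd_prime_pow hp).mp he
  obtain ⟨j, hjk, rfl⟩ := (Nat.dvd_prime_pow hp).mp hz
  have hd0 : 0 < d := Nat.pos_of_dvd_of_pos hdc hc
  have h1 : c = d * (c / d) := (Nat.mul_div_cancel' hdc).symm
  have hq0 : c / d ≠ 0 := by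
    intro h0
    rw [h0, mul_zero] at h1
    omega
  have h2 : c.factorization p = d.factorization p + (c / d).factorization p := by
    conv_lhs => rw [h1]
    rw [Nat.factorization_mul hd0.ne' hq0]
    rfl
  have h3 : (c / d).factorization p ≤ idx.factorization p :=
    (Nat.factorization_le_iff_dvd hq0 hidx.ne').mpr hcd p
  have h4 : d.factorization p = i := by
    rw [hd, Nat.factorization_mul (pow_ne_zero _ hp.pos.ne') ht.ne']
    simp only [Finsupp.coe_add, Pi.add_apply]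
    rw [Nat.Prime.factorization_pow hp, Nat.factorization_eq_zero_of_not_dvd htp]
    simp
  have h5 : (p ^ j).factorization p = j := by
    rw [Nat.Prime.factorization_pow hp]
    simp
  have h6 : 2 * i + j ≤ k := by
    have : p ^ (2 * i + j) ≤ p ^ k := by
      calc p ^ (2 * i + j) = (p ^ i) ^ 2 * p ^ j := by ring
        _ ≤ p ^ k := hle
    exact (Nat.pow_le_pow_iff_right hp.one_lt).mp this
  rw [h2, h4, h5]
  omega

theorem degree_le {G : Type u} [Group G] [Finite G] (p : ℕ) [hp : Fact p.Prime] (N L : Subgroup G)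
    [hN : N.Normal] [hL : L.Normal] (hNL : N ≤ L) (hNp : ¬ p ∣ Nat.card ↥N) (k : ℕ)
    (hidx : N.relIndex L = p ^ k) (θ : IrrCharacter ↥N)
    (hinv : ∀ (g : G) (n : ↥N),
      (θ : ↥N → ℂ) ⟨g * n * g⁻¹, hN.conj_mem n n.2 g⟩ = (θ : ↥N → ℂ) n)
    (χ : IrrCharacter G)
    (hχθ : ip (fun n : ↥N => (χ : G → ℂ) n) (θ : ↥N → ℂ) ≠ 0) :
    (charDegree (χ : G → ℂ)).factorization p +
        (Nat.card ↥(Subgroup.center (↥L ⧸ N.subgroupOf L))).factorization p
      ≤ (L.index).factorization p + k := by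
  classical
  letI : Fintype G := Fintype.ofFinite G
  letI : Fintype ↥N := Fintype.ofFinite _
  letI : Fintype ↥L := Fintype.ofFinite _
  letI : Fintype ↥(N.subgroupOf L) := Fintype.ofFinite _
  letI : Fintype (↥L ⧸ N.subgroupOf L) := Fintype.ofFinite _
  rw [ip_eq_classInner] at hχθ
  obtain ⟨η, hχη, hηθ⟩ := Cfsg.Agent.Lib.helper3.GrAlg.exists_intermediate N L hNL
    (isCharacter_of_isIrrCharacter χ.2) (θ : ↥N → ℂ) hχθ
  obtain ⟨θh, hθh, hθhN, -⟩ := Cfsg.Agent.Lib.helper3.FongB.exists_invariant_extension N L hNL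
    hNp k hidx (θ : ↥N → ℂ) θ.2 hinv
  have hres : (fun m : ↥(N.subgroupOf L) => θh m) = toSub hNL (θ : ↥N → ℂ) := by
    funext m
    rw [toSub_apply]
    exact hθhN ⟨(m : ↥L), Subgroup.mem_subgroupOf.mp m.2⟩
  have hθhM : IsIrrCharacter ↥(N.subgroupOf L) (fun m : ↥(N.subgroupOf L) => θh m) := by
    rw [hres]
    exact isIrrCharacter_toSub hNL θ.2
  have hov : classInner (fun m : ↥(N.subgroupOf L) => (η : ↥L → ℂ) m)
      (fun m : ↥(N.subgroupOf L) => θh m) ≠ 0 := by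
    rw [hres, ← toSub_res hNL, ← ip_eq_classInner, ip_toSub, ip_eq_classInner]
    exact hηθ
  obtain ⟨b, hb⟩ := Cfsg.Agent.Lib.helper3.ADB.exists_inflate_mul_of_over (N.subgroupOf L) θh
    (η : ↥L → ℂ) hθh η.2 hθhM hov
  -- degrees
  obtain ⟨c, hc, -, hc0⟩ := Cfsg.Agent.Lib.helper3.Central.irr_degree_dvd_card χ.2
  obtain ⟨t, ht, htN, ht0⟩ := Cfsg.Agent.Lib.helper3.Central.irr_degree_dvd_card θ.2
  obtain ⟨e, he, heQ, he0⟩ := Cfsg.Agent.Lib.helper3.Central.irr_degree_dvd_card b.2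
  have hθh1 : θh 1 = t := by
    rw [← ht]
    exact hθhN 1
  have hη1 : (η : ↥L → ℂ) 1 = ((e * t : ℕ) : ℂ) := by
    rw [hb, Pi.mul_apply, inflate_apply, hθh1]
    have : (((1 : ↥L) : ↥L ⧸ N.subgroupOf L)) = 1 := rfl
    rw [this, he]
    push_cast
    ring
  obtain ⟨hdc, hcd⟩ := Cfsg.Agent.S0887.result L (χ : G → ℂ) χ.2 (η : ↥L → ℂ) η.2 hχη c (e * t)
    hc hη1
  have hcardQ : Nat.card (↥L ⧸ N.subgroupOf L) = p ^ k := by
    rw [← Subgroup.index_eq_card]
    exact hidx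
  have hzdvd : Nat.card ↥(Subgroup.center (↥L ⧸ N.subgroupOf L)) ∣ p ^ k := by
    rw [← hcardQ]
    exact Subgroup.card_subgroup_dvd_card _
  have hle : e ^ 2 * Nat.card ↥(Subgroup.center (↥L ⧸ N.subgroupOf L)) ≤ p ^ k := by
    have h1 := Cfsg.Agent.Lib.Helper4.DegreeIndex.degree_sq_mul_card_le
      (Subgroup.center (↥L ⧸ N.subgroupOf L)) le_rfl b.2
    rw [he, hcardQ] at h1
    have h2 : ‖((e : ℕ) : ℂ)‖ = (e : ℝ) := by
      rw [Complex.norm_natCast]
    rw [h2] at h1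
    exact_mod_cast h1
  have htp : ¬ p ∣ t := fun hpt => hNp (hpt.trans htN)
  rw [Cfsg.Agent.Lib.Helper8.GSN.charDegree_eq_of_apply_one hc]
  rw [hcardQ] at heQ
  exact arith p hp.out c (e * t) e t _ k L.index hc0 (Nat.pos_of_ne_zero Subgroup.index_ne_zero_of_finite)
    hdc hcd rfl ht0 htp heQ hzdvd hle

end Cfsg.Agent.Lib.helper3.FongDeg
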