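import Mathlib
import Cfsg.Prelude.Def_Blocks
import Cfsg.Agent.Lib.helper3.SecMain5
import Cfsg.Agent.Lib.helper3.PrincSection2
import Cfsg.Agent.Lib.helper3.ClassMul

/-!
# Column relations for a block: vanishing of block parts of class functions
-/

set_option autoImplicit false
set_option linter.style.haveILetI false
set_option linter.unusedSectionVars false

namespace Cfsg.Agent.Lib.helper3.Block

open Cfsg Module Cfsg.Agent.Lib.helper3.CharBasic Cfsg.Agent.Lib.helper3.Irr
open Cfsg.Agent.Lib.helper3.Central Cfsg.Agent.Lib.helper3.LocalM Cfsg.Agent.Lib.helper3.IndFun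
open Cfsg.Agent.Lib.helper3.Lin Cfsg.Agent.Lib.helper3.HallNilp
open scoped ComplexConjugate

universe u

/-- An element inverting `g` inverts the `p`-part of `g`. -/
theorem inverts_pPart {X : Type u} [Group X] [Fintype X] {p : ℕ} (hp : p.Prime) (g x a : X)
    (hx : IsPPart p g x) (ha : a * g * a⁻¹ = g⁻¹) : a * x * a⁻¹ = x⁻¹ := by
  obtain ⟨y', hxy, hc, ⟨k, hk⟩, hy'⟩ := hx
  obtain ⟨m, hm⟩ := exists_zpow_eq_of_commute hp x k hk (orderOf y') hy'
  have h1 : g ^ m = x := by
    rw [← hxy]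
    exact hm y' hc (pow_orderOf_eq_one y')
  rw [← h1, ← conj_zpow, ha, inv_zpow]

variable {G : Type u} [Group G] [Fintype G] {M : Ideal AlgInt}

open Classical in
/-- The `B`-part of a function vanishing on the `p`-section of the `p`-element `y` vanishes
at `y`. -/
theorem block_part_eq_zero_of_section {p : ℕ} (hM : IsPModular p M) (B : Set (IrrCharacter G))
    (hB : IsPBlock M B) (f : G → ℂ) (y : G) (k : ℕ) (hy : orderOf y = p ^ k)
    (hf : ∀ g x : G, IsPPart p g x → IsConj x y → f g = 0) :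
    ∑ χ : IrrCharacter G, (if χ ∈ B then (1 : ℂ) else 0)
      * (classInner f (χ : G → ℂ) * (χ : G → ℂ) y) = 0 := by
  have hp : p.Prime := hM.1
  simp_rw [classInner_apply]
  have h1 : ∀ χ : IrrCharacter G, (if χ ∈ B then (1 : ℂ) else 0)
      * ((Nat.card G : ℂ)⁻¹ * (∑ g : G, f g * conj ((χ : G → ℂ) g)) * (χ : G → ℂ) y)
      = (Nat.card G : ℂ)⁻¹ * ∑ g : G, f g * ((if χ ∈ B then (1 : ℂ) else 0)
        * ((χ : G → ℂ) y * conj ((χ : G → ℂ) g))) := by
    intro χ
    rw [Finset.mul_sum, Finset.sum_mul, Finset.mul_sum, Finset.mul_sum]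
    apply Finset.sum_congr rfl
    intro g _
    ring
  rw [Finset.sum_congr rfl (fun χ _ => h1 χ), ← Finset.mul_sum, Finset.sum_comm]
  have h2 : ∀ g : G, ∑ χ : IrrCharacter G, f g * ((if χ ∈ B then (1 : ℂ) else 0)
        * ((χ : G → ℂ) y * conj ((χ : G → ℂ) g))) = 0 := by
    intro g
    rw [← Finset.mul_sum]
    obtain ⟨x, hx⟩ := exists_isPPart p hp g
    by_cases hconj : IsConj x y
    · rw [hf g x hx hconj, zero_mul]
    · have h3 := block_orthogonality hM B hB y g y x
        ⟨1, mul_one y, Commute.one_right y, ⟨k, hy⟩, by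
          rw [orderOf_one]
          exact fun h => hp.one_lt.ne' (Nat.dvd_one.1 h)⟩ hx
        (fun h => hconj h.symm)
      have h4 : ∀ χ : IrrCharacter G, (if χ ∈ B then (1 : ℂ) else 0)
          * ((χ : G → ℂ) y * conj ((χ : G → ℂ) g))
          = (if χ ∈ B then (1 : ℂ) else 0) * ((χ : G → ℂ) y * (χ : G → ℂ) g⁻¹) := by
        intro χ
        rw [isCharacter_apply_inv (isCharacter_of_isIrrCharacter χ.2) g]
      rw [Finset.sum_congr rfl (fun χ _ => h4 χ), h3, mul_zero]
  rw [Finset.sum_congr rfl (fun g _ => h2 g), Finset.sum_const_zero, mul_zero]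

end Cfsg.Agent.Lib.helper3.Block
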