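import Mathlib
import Cfsg.Prelude.Def_Blocks
import Cfsg.Agent.Lib.helper3.ColRel1

/-!
# Column relations for the principal `2`-block: three identities
-/

set_option autoImplicit false
set_option linter.style.haveILetI false
set_option linter.unusedSectionVars false

namespace Cfsg.Agent.Lib.helper3.Block

open Cfsg Module Cfsg.Agent.Lib.helper3.CharBasic Cfsg.Agent.Lib.helper3.Irr
open Cfsg.Agent.Lib.helper3.Central Cfsg.Agent.Lib.helper3.LocalM Cfsg.Agent.Lib.helper3.IndFun
open Cfsg.Agent.Lib.helper3.Lin Cfsg.Agent.Lib.helper3.HallNilp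
open scoped ComplexConjugate

universe u

variable {G : Type u} [Group G] [Fintype G] {M : Ideal AlgInt}

open Classical in
/-- Reduction of a column relation to the single elements. -/
theorem sum_coeff_mul_eq_zero (B : Set (IrrCharacter G)) (P : Subgroup G) [Fintype P]
    (θ : P → ℂ) (c : IrrCharacter G → ℂ)
    (h : ∀ y : P, θ y⁻¹ ≠ 0 → ∑ χ : IrrCharacter G, (if χ ∈ B then (1 : ℂ) else 0)
      * ((χ : G → ℂ) (y : G) * c χ) = 0) :
    ∑ χ : IrrCharacter G, (if χ ∈ B then (1 : ℂ) else 0)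
      * (((Nat.card P : ℂ)⁻¹ * ∑ y : P, (χ : G → ℂ) (y : G) * θ y⁻¹) * c χ) = 0 := by
  have h1 : ∀ χ : IrrCharacter G, (if χ ∈ B then (1 : ℂ) else 0)
      * (((Nat.card P : ℂ)⁻¹ * ∑ y : P, (χ : G → ℂ) (y : G) * θ y⁻¹) * c χ)
      = (Nat.card P : ℂ)⁻¹ * ∑ y : P, θ y⁻¹ * ((if χ ∈ B then (1 : ℂ) else 0)
        * ((χ : G → ℂ) (y : G) * c χ)) := by
    intro χ
    rw [Finset.mul_sum, Finset.sum_mul, Finset.mul_sum, Finset.mul_sum]
    apply Finset.sum_congr rfl
    intro y _
    ring
  rw [Finset.sum_congr rfl (fun χ _ => h1 χ), ← Finset.mul_sum, Finset.sum_comm]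
  have h2 : ∀ y : P, ∑ χ : IrrCharacter G, θ y⁻¹ * ((if χ ∈ B then (1 : ℂ) else 0)
        * ((χ : G → ℂ) (y : G) * c χ)) = 0 := by
    intro y
    rw [← Finset.mul_sum]
    by_cases hy : θ y⁻¹ = 0
    · rw [hy, zero_mul]
    · rw [h y hy, mul_zero]
  rw [Finset.sum_congr rfl (fun y _ => h2 y), Finset.sum_const_zero, mul_zero]

open Classical in
/-- The three column relations. -/
theorem col_rel_three (hM : IsPModular 2 M) (P : Subgroup G) [Fintype P] (hP : IsPGroup 2 P)
    (U : Set G) (t : G) (ht : orderOf t = 2)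
    (hinv : ∀ u ∈ U, ∀ g : G, (g * t * g⁻¹) * u * (g * t * g⁻¹)⁻¹ ≠ u⁻¹)
    (θ : P → ℂ) (hθU : ∀ y : P, (y : G) ∉ U → θ y = 0) :
    (∑ χ : IrrCharacter G, (if χ ∈ principalBlock M G then (1 : ℂ) else 0)
      * (((Nat.card P : ℂ)⁻¹ * ∑ y : P, (χ : G → ℂ) (y : G) * θ y⁻¹)
        * ((χ : G → ℂ) t ^ 2 / (χ : G → ℂ) 1)) = 0) ∧
    (∑ χ : IrrCharacter G, (if χ ∈ principalBlock M G then (1 : ℂ) else 0)
      * (((Nat.card P : ℂ)⁻¹ * ∑ y : P, (χ : G → ℂ) (y : G) * θ y⁻¹)
        * (χ : G → ℂ) 1) = 0) ∧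
    (∑ χ : IrrCharacter G, (if χ ∈ principalBlock M G then (1 : ℂ) else 0)
      * (((Nat.card P : ℂ)⁻¹ * ∑ y : P, (χ : G → ℂ) (y : G) * θ y⁻¹)
        * (χ : G → ℂ) t) = 0) := by
  have hBG : IsPBlock M (principalBlock M G) := ⟨Cfsg.Agent.Lib.helper3.PrincOnly.one G, rfl⟩
  have htt : t * t = 1 := by
    have := pow_orderOf_eq_one t
    rw [ht, pow_two] at this
    exact this
  have htinv : t⁻¹ = t := inv_eq_of_mul_eq_one_left htt
  have h1U : (1 : G) ∉ U := by
    intro h
    apply hinv 1 h 1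
    simp
  -- the data of an element in the support
  have hdata : ∀ y : P, θ y⁻¹ ≠ 0 → ((y : G)⁻¹ ∈ U) ∧ (y : G) ≠ 1
      ∧ ∃ k : ℕ, orderOf (y : G) = 2 ^ k := by
    intro y hy
    have hu : ((y⁻¹ : P) : G) ∈ U := by
      by_contra h
      exact hy (hθU y⁻¹ h)
    rw [Subgroup.coe_inv] at hu
    refine ⟨hu, ?_, ?_⟩
    · intro h
      rw [h, inv_one] at hu
      exact h1U hu
    · obtain ⟨k, hk⟩ := (IsPGroup.iff_orderOf.1 hP) y
      exact ⟨k, by rw [Subgroup.orderOf_coe]; exact hk⟩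
  have hreg1 : ¬ 2 ∣ orderOf (1 : G) := by
    rw [orderOf_one]
    norm_num
  refine ⟨?_, ?_, ?_⟩
  · -- the class multiplication constants
    apply sum_coeff_mul_eq_zero
    intro y hy
    obtain ⟨hu, hy1, k, hk⟩ := hdata y hy
    have hsec := block_part_eq_zero_of_section hM (principalBlock M G) hBG
      (fun c => mulCount t t c) (y : G) k hk (by
        intro g x hx hconj
        show mulCount t t g = 0
        unfold mulCount
        have hempty : IsEmpty {p : G × G // IsConj t p.1 ∧ IsConj t p.2 ∧ p.1 * p.2 = g} := by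
          constructor
          rintro ⟨⟨a, b⟩, ha, hb, hab⟩
          simp only at ha hb hab
          obtain ⟨d, hd⟩ := isConj_iff.1 ha
          obtain ⟨d', hd'⟩ := isConj_iff.1 hb
          have haa : a * a = 1 := by
            rw [← hd]
            calc d * t * d⁻¹ * (d * t * d⁻¹) = d * (t * t) * d⁻¹ := by group
              _ = 1 := by rw [htt]; group
          have hbb : b * b = 1 := by
            rw [← hd']
            calc d' * t * d'⁻¹ * (d' * t * d'⁻¹) = d' * (t * t) * d'⁻¹ := by group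
              _ = 1 := by rw [htt]; group
          have hainv : a⁻¹ = a := inv_eq_of_mul_eq_one_left haa
          have hbinv : b⁻¹ = b := inv_eq_of_mul_eq_one_left hbb
          have hginv : a * g * a⁻¹ = g⁻¹ := by
            rw [← hab, mul_inv_rev, hainv, hbinv]
            calc a * (a * b) * a = (a * a) * b * a := by group
              _ = b * a := by rw [haa, one_mul]
          have hxinv := inverts_pPart Nat.prime_two g x a hx hginv
          obtain ⟨c, hc⟩ := isConj_iff.1 hconj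
          apply hinv (y : G)⁻¹ hu (c * d)
          have e1 : c * d * t * (c * d)⁻¹ = c * a * c⁻¹ := by
            rw [← hd]
            group
          rw [e1, ← hc]
          calc c * a * c⁻¹ * (c * x * c⁻¹)⁻¹ * (c * a * c⁻¹)⁻¹
              = c * (a * x * a⁻¹)⁻¹ * c⁻¹ := by group
            _ = (c * x * c⁻¹)⁻¹⁻¹ := by rw [hxinv]; group
        rw [Nat.card_of_isEmpty, Nat.cast_zero])
    obtain ⟨cl, hcl⟩ : ∃ cl : ℕ, cl = (cls t).card := ⟨_, rfl⟩
    have hcl0 : (cl : ℂ) ≠ 0 := by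
      have : 0 < cl := by
        rw [hcl]
        exact Finset.card_pos.2 ⟨t, mem_cls.2 (IsConj.refl t)⟩
      exact_mod_cast this.ne'
    have hG0 : (Nat.card G : ℂ) ≠ 0 := card_ne_zero_complex G
    have hterm : ∀ χ : IrrCharacter G, (if χ ∈ principalBlock M G then (1 : ℂ) else 0)
        * (classInner (fun c => mulCount t t c) (χ : G → ℂ) * (χ : G → ℂ) (y : G))
        = ((Nat.card G : ℂ)⁻¹ * (cl : ℂ) * (cl : ℂ))
          * ((if χ ∈ principalBlock M G then (1 : ℂ) else 0)
            * ((χ : G → ℂ) (y : G) * ((χ : G → ℂ) t ^ 2 / (χ : G → ℂ) 1))) := by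
      intro χ
      have hχc := isCharacter_of_isIrrCharacter χ.2
      have hreal : conj ((χ : G → ℂ) t) = (χ : G → ℂ) t := by
        rw [← isCharacter_apply_inv hχc t, htinv]
      have hreal1 : conj ((χ : G → ℂ) 1) = (χ : G → ℂ) 1 := by
        obtain ⟨d, _, hd⟩ := exists_pos_nat_apply_one χ.2
        rw [hd, Complex.conj_natCast]
      rw [classInner_mulCount t t χ.2, ← hcl, map_div₀, map_mul, map_mul, map_mul, hreal, hreal1,
        Complex.conj_natCast]
      ring
    rw [Finset.sum_congr rfl (fun χ _ => hterm χ), ← Finset.mul_sum] at hsec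
    rcases mul_eq_zero.1 hsec with h | h
    · exfalso
      exact (mul_ne_zero (mul_ne_zero (inv_ne_zero hG0) hcl0) hcl0) h
    · exact h
  · apply sum_coeff_mul_eq_zero
    intro y hy
    obtain ⟨hu, hy1, k, hk⟩ := hdata y hy
    have h3 := block_orthogonality hM (principalBlock M G) hBG (y : G) 1 (y : G) 1
      ⟨1, mul_one _, Commute.one_right _, ⟨k, hk⟩, hreg1⟩
      ⟨1, mul_one 1, Commute.one_right 1, ⟨0, by rw [orderOf_one, pow_zero]⟩, hreg1⟩
      (fun h => hy1 (isConj_one_left.1 h))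
    rw [inv_one] at h3
    exact h3
  · apply sum_coeff_mul_eq_zero
    intro y hy
    obtain ⟨hu, hy1, k, hk⟩ := hdata y hy
    have h3 := block_orthogonality hM (principalBlock M G) hBG (y : G) t (y : G) t
      ⟨1, mul_one _, Commute.one_right _, ⟨k, hk⟩, hreg1⟩
      ⟨1, mul_one t, Commute.one_right t, ⟨1, by rw [ht, pow_one]⟩, hreg1⟩
      (by
        intro hconj
        obtain ⟨g, hg⟩ := isConj_iff.1 hconj
        have hyt : (y : G) = g⁻¹ * t * g := by
          rw [← hg]
          group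
        have hyy : (y : G) * (y : G) = 1 := by
          rw [hyt]
          calc g⁻¹ * t * g * (g⁻¹ * t * g) = g⁻¹ * (t * t) * g := by group
            _ = 1 := by rw [htt]; group
        have hyinv : (y : G)⁻¹ = (y : G) := inv_eq_of_mul_eq_one_left hyy
        apply hinv (y : G)⁻¹ hu g⁻¹
        rw [inv_inv, ← hyt, hyinv, hyy, one_mul, hyinv])
    rw [htinv] at h3
    exact h3

end Cfsg.Agent.Lib.helper3.Block
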