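import Mathlib
import Cfsg.Prelude.Def_Blocks
import Cfsg.Prelude.Def_Solvable
import Cfsg.Agent.Lib.helper3.ColRel2
import Cfsg.Agent.Lib.helper3.NormalInv

/-!
# Column relations for the principal `2`-block: the signs of the coefficients
-/

set_option autoImplicit false
set_option linter.style.haveILetI false
set_option linter.unusedSectionVars false

namespace Cfsg.Agent.Lib.helper3.Block

open Cfsg Module Cfsg.Agent.Lib.helper3.CharBasic Cfsg.Agent.Lib.helper3.Irr
open Cfsg.Agent.Lib.helper3.Central Cfsg.Agent.Lib.helper3.LocalM Cfsg.Agent.Lib.helper3.IndFun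
open Cfsg.Agent.Lib.helper3.Lin Cfsg.Agent.Lib.helper3.HallNilp
open scoped ComplexConjugate

universe u

variable {G : Type u} [Group G] [Fintype G] {M : Ideal AlgInt}

/-- The kernel of a non-principal character of the principal block containing `t`. -/
theorem exists_normal_of_mem_ker {p : ℕ} (hM : IsPModular p M) (ξ : IrrCharacter G)
    (hξ : ξ ∈ principalBlock M G) (hne : (ξ : G → ℂ) ≠ fun _ => 1) (t : G)
    (ht : (ξ : G → ℂ) t = (ξ : G → ℂ) 1) :
    ∃ K : Subgroup G, K.Normal ∧ K ≠ ⊤ ∧ pPrimeCore p G ≤ K ∧ t ∈ K := by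
  classical
  obtain ⟨n, ρ, hirr, hρ, hker⟩ := exists_rep_ker_iff ξ.2
  refine ⟨MonoidHom.ker ρ, MonoidHom.normal_ker ρ, ?_, ?_, ?_⟩
  · intro htop
    apply hne
    have hall : ∀ g : G, (ξ : G → ℂ) g = (ξ : G → ℂ) 1 := by
      intro g
      rw [hker g]
      have : g ∈ MonoidHom.ker ρ := by rw [htop]; exact Subgroup.mem_top g
      exact MonoidHom.mem_ker.1 this
    obtain ⟨d, hdpos, hd⟩ := exists_pos_nat_apply_one ξ.2
    have h1 := irr_classInner_self ξ.2
    rw [classInner_apply] at h1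
    have h2 : ∀ g : G, (ξ : G → ℂ) g * conj ((ξ : G → ℂ) g) = (d : ℂ) * (d : ℂ) := by
      intro g
      rw [hall g, hd, Complex.conj_natCast]
    rw [Finset.sum_congr rfl (fun g _ => h2 g), Finset.sum_const, Finset.card_univ,
      nsmul_eq_mul, ← Nat.card_eq_fintype_card] at h1
    have hG0 : (Nat.card G : ℂ) ≠ 0 := card_ne_zero_complex G
    have h3 : (d : ℂ) * (d : ℂ) = 1 := by
      field_simp at h1
      linear_combination h1
    have h4 : d * d = 1 := by exact_mod_cast h3
    have h5 : d = 1 := by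
      rcases Nat.lt_or_ge d 2 with h | h
      · omega
      · nlinarith
    funext g
    rw [hall g, hd, h5, Nat.cast_one]
  · unfold pPrimeCore
    apply sSup_le
    rintro N ⟨hNn, hNp⟩ x hx
    haveI := hNn
    rw [MonoidHom.mem_ker]
    exact (hker x).1 (apply_eq_of_mem_normal_coprime hM N hNp ξ hξ x hx)
  · rw [MonoidHom.mem_ker]
    exact (hker t).1 ht

/-- The rank one argument on the real relations. -/
theorem exists_ratio_of_unique_pos {ι : Type*} (S : Finset ι) (r d s : ι → ℝ)
    (hd : ∀ i ∈ S, 0 < d i)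
    (R1 : ∑ i ∈ S, r i * (s i ^ 2 / d i) = 0) (R2 : ∑ i ∈ S, r i * d i = 0)
    (R3 : ∑ i ∈ S, r i * s i = 0) (i₀ : ι) (hi₀ : i₀ ∈ S) (hr₀ : r i₀ ≠ 0) (hs₀ : s i₀ = d i₀)
    (huniq : ∀ i ∈ S, ∀ j ∈ S, 0 < r i → 0 < r j → i = j) :
    ∃ j ∈ S, j ≠ i₀ ∧ r j ≠ 0 ∧ s j = d j := by
  classical
  -- a positive coefficient
  have hpos : ∃ i ∈ S, 0 < r i := by
    by_contra hcon
    push Not at hcon
    have h1 : ∀ i ∈ S, r i * d i = 0 := by
      have := (Finset.sum_eq_zero_iff_of_nonpos (fun i hi =>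
        mul_nonpos_of_nonpos_of_nonneg (hcon i hi) (hd i hi).le)).1 R2
      exact this
    have h2 := h1 i₀ hi₀
    rcases mul_eq_zero.1 h2 with h | h
    · exact hr₀ h
    · exact (hd i₀ hi₀).ne' h
  obtain ⟨i', hi', hri'⟩ := hpos
  have hothers : ∀ i ∈ S, i ≠ i' → r i ≤ 0 := by
    intro i hi hne
    by_contra h
    push Not at h
    exact hne (huniq i hi i' hi' h hri')
  -- a negative coefficient
  have hneg : ∃ i ∈ S, r i < 0 := by
    by_contra hcon
    push Not at hcon
    have h1 : ∀ i ∈ S, r i * d i = 0 := by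
      have := (Finset.sum_eq_zero_iff_of_nonneg (fun i hi =>
        mul_nonneg (hcon i hi) (hd i hi).le)).1 R2
      exact this
    have h2 := h1 i' hi'
    rcases mul_eq_zero.1 h2 with h | h
    · exact hri'.ne' h
    · exact (hd i' hi').ne' h
  obtain ⟨i₁, hi₁, hri₁⟩ := hneg
  -- the quadratic form
  have hQ : ∑ i ∈ S, r i * ((s i * d i' - s i' * d i) ^ 2 / d i) = 0 := by
    have h1 : ∀ i ∈ S, r i * ((s i * d i' - s i' * d i) ^ 2 / d i)
        = d i' ^ 2 * (r i * (s i ^ 2 / d i)) - 2 * d i' * s i' * (r i * s i)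
          + s i' ^ 2 * (r i * d i) := by
      intro i hi
      have := (hd i hi).ne'
      field_simp
      ring
    rw [Finset.sum_congr rfl h1, Finset.sum_add_distrib, Finset.sum_sub_distrib,
      ← Finset.mul_sum, ← Finset.mul_sum, ← Finset.mul_sum, R1, R2, R3]
    ring
  have hterm : ∀ i ∈ S, r i * ((s i * d i' - s i' * d i) ^ 2 / d i) = 0 := by
    have hnonpos : ∀ i ∈ S, r i * ((s i * d i' - s i' * d i) ^ 2 / d i) ≤ 0 := by
      intro i hi
      by_cases hii : i = i'
      · rw [hii]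
        have : s i' * d i' - s i' * d i' = 0 := by ring
        rw [this]
        simp
      · exact mul_nonpos_of_nonpos_of_nonneg (hothers i hi hii)
          (div_nonneg (sq_nonneg _) (hd i hi).le)
    exact (Finset.sum_eq_zero_iff_of_nonpos hnonpos).1 hQ
  have hratio : ∀ i ∈ S, r i ≠ 0 → s i * d i' = s i' * d i := by
    intro i hi hri
    have := hterm i hi
    rcases mul_eq_zero.1 this with h | h
    · exact absurd h hri
    · have h2 : (s i * d i' - s i' * d i) ^ 2 = 0 := by
        rcases div_eq_zero_iff.1 h with h3 | h3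
        · exact h3
        · exact absurd h3 (hd i hi).ne'
      have h3 := pow_eq_zero_iff (two_ne_zero) |>.1 h2
      linarith
  have h0 := hratio i₀ hi₀ hr₀
  rw [hs₀] at h0
  have hd' : s i' = d i' := by
    have := (hd i₀ hi₀).ne'
    have h4 : d i₀ * (d i' - s i') = 0 := by linarith
    rcases mul_eq_zero.1 h4 with h | h
    · exact absurd h this
    · linarith
  have hconc : ∀ i ∈ S, r i ≠ 0 → s i = d i := by
    intro i hi hri
    have h1 := hratio i hi hri
    rw [hd'] at h1
    have := (hd i' hi').ne'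
    have h4 : d i' * (s i - d i) = 0 := by linarith
    rcases mul_eq_zero.1 h4 with h | h
    · exact absurd h this
    · linarith
  by_cases h : i' = i₀
  · refine ⟨i₁, hi₁, ?_, hri₁.ne, hconc i₁ hi₁ hri₁.ne⟩
    intro h2
    rw [h2, ← h] at hri₁
    linarith
  · exact ⟨i', hi', h, hri'.ne', hconc i' hi' hri'.ne'⟩

end Cfsg.Agent.Lib.helper3.Block
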