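import Mathlib
import Cfsg.Prelude.Def_Blocks
import Cfsg.Prelude.Def_Solvable
import Cfsg.Agent.Lib.helper3.ColRel3

/-!
# Column relations for the principal `2`-block: the statement
-/

set_option autoImplicit false
set_option linter.style.haveILetI false
set_option linter.unusedSectionVars false

namespace Cfsg.Agent.Lib.helper3.Block

open Cfsg Module Cfsg.Agent.Lib.helper3.CharBasic Cfsg.Agent.Lib.helper3.Irr
open Cfsg.Agent.Lib.helper3.Central Cfsg.Agent.Lib.helper3.LocalM Cfsg.Agent.Lib.helper3.IndFun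
open Cfsg.Agent.Lib.helper3.Lin Cfsg.Agent.Lib.helper3.HallNilp
open scoped ComplexConjugate

universe u

variable {G : Type u} [Group G] [Fintype G] {M : Ideal AlgInt}

/-- The average of a generalized character is an integer. -/
theorem exists_int_avg_of_isGeneralizedCharacter {X : Type u} [Group X] [Fintype X] (θ : X → ℂ)
    (hθ : IsGeneralizedCharacter X θ) :
    ∃ n : ℤ, (Nat.card X : ℂ)⁻¹ * ∑ y : X, θ y = (n : ℂ) := by
  obtain ⟨χ, ψ, hχ, hψ, rfl⟩ := hθ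
  obtain ⟨n₁, hn₁⟩ := exists_nat_classInner_of_isCharacter hχ
    (Cfsg.Agent.Lib.helper3.PrincOnly.one X)
  obtain ⟨n₂, hn₂⟩ := exists_nat_classInner_of_isCharacter hψ
    (Cfsg.Agent.Lib.helper3.PrincOnly.one X)
  refine ⟨(n₁ : ℤ) - (n₂ : ℤ), ?_⟩
  rw [classInner_apply] at hn₁ hn₂
  have e1 : ∀ y : X, χ y * conj (((Cfsg.Agent.Lib.helper3.PrincOnly.one X) : X → ℂ) y) = χ y := by
    intro y
    show χ y * conj (1 : ℂ) = χ y
    rw [map_one, mul_one]
  have e2 : ∀ y : X, ψ y * conj (((Cfsg.Agent.Lib.helper3.PrincOnly.one X) : X → ℂ) y) = ψ y := by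
    intro y
    show ψ y * conj (1 : ℂ) = ψ y
    rw [map_one, mul_one]
  rw [Finset.sum_congr rfl (fun y _ => e1 y)] at hn₁
  rw [Finset.sum_congr rfl (fun y _ => e2 y)] at hn₂
  simp only [Pi.sub_apply]
  rw [Finset.sum_sub_distrib, mul_sub, hn₁, hn₂]
  push_cast
  ring

open Classical in
theorem col_rel_full (hM : IsPModular 2 M) (P : Subgroup G) (hP : IsPGroup 2 P)
    (U : Set G) (t : G) (ht : orderOf t = 2)
    (hinv : ∀ u ∈ U, ∀ g : G, (g * t * g⁻¹) * u * (g * t * g⁻¹)⁻¹ ≠ u⁻¹)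
    (θ : P → ℂ) (hθ : IsGeneralizedCharacter P θ) (hθU : ∀ y : P, (y : G) ∉ U → θ y = 0) :
    (∑ᶠ χ ∈ principalBlock M G, ((Nat.card P : ℂ)⁻¹ * ∑ᶠ y : P, (χ : G → ℂ) (y : G) * θ y⁻¹)
      * (χ : G → ℂ) t ^ 2 / (χ : G → ℂ) 1 = 0) ∧
    (∑ᶠ χ ∈ principalBlock M G, ((Nat.card P : ℂ)⁻¹ * ∑ᶠ y : P, (χ : G → ℂ) (y : G) * θ y⁻¹)
      * (χ : G → ℂ) 1 = 0) ∧
    (∑ᶠ χ ∈ principalBlock M G, ((Nat.card P : ℂ)⁻¹ * ∑ᶠ y : P, (χ : G → ℂ) (y : G) * θ y⁻¹)
      * (χ : G → ℂ) t = 0) ∧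
    ((Nat.card P : ℂ)⁻¹ * ∑ᶠ y : P, θ y ≠ 0 →
      (2 ≤ Nat.card {χ : IrrCharacter G // χ ∈ principalBlock M G ∧
          0 < (((Nat.card P : ℂ)⁻¹ * ∑ᶠ y : P, (χ : G → ℂ) (y : G) * θ y⁻¹)).re} ∧
        2 ≤ Nat.card {χ : IrrCharacter G // χ ∈ principalBlock M G ∧
          (((Nat.card P : ℂ)⁻¹ * ∑ᶠ y : P, (χ : G → ℂ) (y : G) * θ y⁻¹)).re < 0}) ∨
      ∃ K : Subgroup G, K.Normal ∧ K ≠ ⊤ ∧ pPrimeCore 2 G ≤ K ∧ t ∈ K) := by
  haveI : Fintype P := Fintype.ofFinite _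
  have hMtop : M ≠ ⊤ := hM.2.1.ne_top
  obtain ⟨A, hA⟩ : ∃ A : IrrCharacter G → ℂ, A = fun χ : IrrCharacter G =>
      (Nat.card P : ℂ)⁻¹ * ∑ y : P, (χ : G → ℂ) (y : G) * θ y⁻¹ := ⟨_, rfl⟩
  have hAfin : ∀ χ : IrrCharacter G,
      (Nat.card P : ℂ)⁻¹ * ∑ᶠ y : P, (χ : G → ℂ) (y : G) * θ y⁻¹ = A χ := by
    intro χ
    rw [hA, finsum_eq_sum_of_fintype]
  simp_rw [hAfin]
  obtain ⟨H1, H2, H3⟩ := col_rel_three hM P hP U t ht hinv θ hθU
  have hAapp : ∀ χ : IrrCharacter G,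
      (Nat.card P : ℂ)⁻¹ * ∑ y : P, (χ : G → ℂ) (y : G) * θ y⁻¹ = A χ := by
    intro χ
    rw [hA]
  simp_rw [hAapp] at H1 H2 H3
  rw [finsum_mem_set_eq_sum_ite, finsum_mem_set_eq_sum_ite, finsum_mem_set_eq_sum_ite]
  simp_rw [mul_div_assoc]
  refine ⟨H1, H2, H3, ?_⟩
  intro hA0
  rw [finsum_eq_sum_of_fintype] at hA0
  -- the principal character
  obtain ⟨χ₀, hχ₀⟩ : ∃ χ₀ : IrrCharacter G, χ₀ = Cfsg.Agent.Lib.helper3.PrincOnly.one G :=
    ⟨_, rfl⟩
  have hχ₀coe : (χ₀ : G → ℂ) = fun _ => (1 : ℂ) := by rw [hχ₀]; rfl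
  have hχ₀mem : χ₀ ∈ principalBlock M G := by
    rw [hχ₀]
    exact sameBlock_refl hMtop _
  have hAχ₀ : A χ₀ = (Nat.card P : ℂ)⁻¹ * ∑ y : P, θ y := by
    rw [hA]
    simp only
    congr 1
    rw [hχ₀coe]
    simp only [one_mul]
    exact Fintype.sum_equiv (Equiv.inv P) _ _ (fun y => rfl)
  obtain ⟨n₀, hn₀⟩ := exists_int_avg_of_isGeneralizedCharacter θ hθ
  have hr₀ : (A χ₀).re ≠ 0 := by
    rw [hAχ₀, hn₀]
    rw [hn₀] at hA0
    simp only [Complex.intCast_re]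
    intro h
    apply hA0
    have : n₀ = 0 := by exact_mod_cast h
    rw [this, Int.cast_zero]
  -- real data
  have htt : t * t = 1 := by
    have := pow_orderOf_eq_one t
    rw [ht, pow_two] at this
    exact this
  have htinv : t⁻¹ = t := inv_eq_of_mul_eq_one_left htt
  obtain ⟨d, hd⟩ : ∃ d : IrrCharacter G → ℝ, d = fun χ : IrrCharacter G => ((χ : G → ℂ) 1).re := ⟨_, rfl⟩
  obtain ⟨s, hs⟩ : ∃ s : IrrCharacter G → ℝ, s = fun χ : IrrCharacter G => ((χ : G → ℂ) t).re := ⟨_, rfl⟩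
  have hdC : ∀ χ : IrrCharacter G, (χ : G → ℂ) 1 = ((d χ : ℝ) : ℂ) := by
    intro χ
    obtain ⟨m, _, hm⟩ := exists_pos_nat_apply_one χ.2
    rw [hd]
    simp only
    rw [hm]
    simp
  have hdpos : ∀ χ : IrrCharacter G, 0 < d χ := by
    intro χ
    obtain ⟨m, hmpos, hm⟩ := exists_pos_nat_apply_one χ.2
    rw [hd]
    simp only
    rw [hm]
    simp only [Complex.natCast_re]
    exact_mod_cast hmpos
  have hsC : ∀ χ : IrrCharacter G, (χ : G → ℂ) t = ((s χ : ℝ) : ℂ) := by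
    intro χ
    have hreal : conj ((χ : G → ℂ) t) = (χ : G → ℂ) t := by
      rw [← isCharacter_apply_inv (isCharacter_of_isIrrCharacter χ.2) t, htinv]
    rw [hs]
    simp only
    exact (Complex.conj_eq_iff_re.1 hreal).symm
  obtain ⟨S, hS⟩ : ∃ S : Finset (IrrCharacter G),
      S = Finset.univ.filter (fun χ => χ ∈ principalBlock M G) := ⟨_, rfl⟩
  have hSmem : ∀ χ, χ ∈ S ↔ χ ∈ principalBlock M G := by
    intro χ
    rw [hS, Finset.mem_filter]
    simp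
  have hrel : ∀ c : IrrCharacter G → ℝ,
      (∑ χ : IrrCharacter G, (if χ ∈ principalBlock M G then (1 : ℂ) else 0)
        * (A χ * ((c χ : ℝ) : ℂ)) = 0) → ∑ χ ∈ S, (A χ).re * c χ = 0 := by
    intro c h
    have h1 := congrArg Complex.re h
    rw [Complex.re_sum, Complex.zero_re] at h1
    rw [hS, Finset.sum_filter]
    refine Eq.trans (Finset.sum_congr rfl ?_) h1
    intro χ _
    by_cases hχ : χ ∈ principalBlock M G
    · rw [if_pos hχ, if_pos hχ, one_mul, Complex.re_mul_ofReal]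
    · rw [if_neg hχ, if_neg hχ, zero_mul, Complex.zero_re]
  have R1 : ∑ χ ∈ S, (A χ).re * (s χ ^ 2 / d χ) = 0 := by
    apply hrel (fun χ => s χ ^ 2 / d χ)
    refine Eq.trans (Finset.sum_congr rfl ?_) H1
    intro χ _
    rw [hsC χ, hdC χ]
    push_cast
    rfl
  have R2 : ∑ χ ∈ S, (A χ).re * d χ = 0 := by
    apply hrel d
    refine Eq.trans (Finset.sum_congr rfl ?_) H2
    intro χ _
    rw [hdC χ]
  have R3 : ∑ χ ∈ S, (A χ).re * s χ = 0 := by
    apply hrel s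
    refine Eq.trans (Finset.sum_congr rfl ?_) H3
    intro χ _
    rw [hsC χ]
  have hs₀ : s χ₀ = d χ₀ := by
    rw [hs, hd]
    simp only
    rw [hχ₀coe]
  -- the conclusion from a character with `t` in the kernel
  have hfinal : (∃ ξ ∈ S, ξ ≠ χ₀ ∧ s ξ = d ξ) →
      ∃ K : Subgroup G, K.Normal ∧ K ≠ ⊤ ∧ pPrimeCore 2 G ≤ K ∧ t ∈ K := by
    rintro ⟨ξ, hξS, hξne, hξ⟩
    apply exists_normal_of_mem_ker hM ξ ((hSmem ξ).1 hξS) _ t
    · rw [hsC ξ, hdC ξ, hξ]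
    · intro h
      apply hξne
      apply Subtype.ext
      rw [h, hχ₀coe]
  by_cases hcount : 2 ≤ Nat.card {χ : IrrCharacter G // χ ∈ principalBlock M G ∧ 0 < (A χ).re}
      ∧ 2 ≤ Nat.card {χ : IrrCharacter G // χ ∈ principalBlock M G ∧ (A χ).re < 0}
  · left
    exact hcount
  · right
    apply hfinal
    rw [not_and_or] at hcount
    rcases hcount with hc | hc
    · have hsub : Subsingleton {χ : IrrCharacter G // χ ∈ principalBlock M G ∧ 0 < (A χ).re} := by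
        apply Finite.card_le_one_iff_subsingleton.1
        omega
      obtain ⟨j, hjS, hjne, -, hj⟩ := exists_ratio_of_unique_pos S (fun χ => (A χ).re) d s
        (fun χ _ => hdpos χ) R1 R2 R3 χ₀ ((hSmem χ₀).2 hχ₀mem) hr₀ hs₀
        (by
          intro i hi j hj hri hrj
          have := hsub.elim ⟨i, (hSmem i).1 hi, hri⟩ ⟨j, (hSmem j).1 hj, hrj⟩
          exact congrArg Subtype.val this)
      exact ⟨j, hjS, hjne, hj⟩
    · have hsub : Subsingleton {χ : IrrCharacter G // χ ∈ principalBlock M G ∧ (A χ).re < 0} := by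
        apply Finite.card_le_one_iff_subsingleton.1
        omega
      obtain ⟨j, hjS, hjne, -, hj⟩ := exists_ratio_of_unique_pos S (fun χ => -(A χ).re) d s
        (fun χ _ => hdpos χ)
        (by
          simp only [neg_mul]
          rw [Finset.sum_neg_distrib, R1, neg_zero])
        (by
          simp only [neg_mul]
          rw [Finset.sum_neg_distrib, R2, neg_zero])
        (by
          simp only [neg_mul]
          rw [Finset.sum_neg_distrib, R3, neg_zero])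
        χ₀ ((hSmem χ₀).2 hχ₀mem) (neg_ne_zero.2 hr₀) hs₀
        (by
          intro i hi j hj hri hrj
          have := hsub.elim ⟨i, (hSmem i).1 hi, neg_pos.1 hri⟩ ⟨j, (hSmem j).1 hj, neg_pos.1 hrj⟩
          exact congrArg Subtype.val this)
      exact ⟨j, hjS, hjne, hj⟩

end Cfsg.Agent.Lib.helper3.Block
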