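import Mathlib
import Cfsg.Prelude.Def_Blocks
import Cfsg.Agent.Lib.helper3.BlockSection

/-!
# Norms of the block parts of the restrictions to a `p`-section
-/

set_option autoImplicit false
set_option linter.style.haveILetI false
set_option linter.unusedSectionVars false

namespace Cfsg.Agent.Lib.helper3.Block

open Cfsg Module Cfsg.Agent.Lib.helper3.CharBasic Cfsg.Agent.Lib.helper3.Irr
open Cfsg.Agent.Lib.helper3.Central Cfsg.Agent.Lib.helper3.LocalM Cfsg.Agent.Lib.helper3.IndFun
open Cfsg.Agent.Lib.helper3.Lin Cfsg.Agent.Lib.helper3.HallNilp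
open scoped ComplexConjugate

universe u

variable {G : Type u} [Group G] [Fintype G] {M : Ideal AlgInt}

open Classical in
/-- **Norms of block parts on a `p`-section.**  For a set `Q` of irreducible characters of the
centralizer of the `p`-element `z` closed under the block relation, the sum over the irreducible
characters `ζ` of `G` of the squared absolute value of the `Q`-part of `c ↦ ζ (z c)` at a
`p`-regular element `y` is the sum over `Q` of `|ψ y|²`. -/
theorem sum_part_section_sq {p : ℕ} [hpf : Fact p.Prime] (hM : IsPModular p M) (z : G)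
    (k : ℕ) (hz : orderOf z = p ^ k) [Fintype (Subgroup.centralizer ({z} : Set G))]
    (Q : Set (IrrCharacter (Subgroup.centralizer ({z} : Set G))))
    (hQ : ∀ θ ∈ Q, blockOf M (θ : Subgroup.centralizer ({z} : Set G) → ℂ) ⊆ Q)
    (y : Subgroup.centralizer ({z} : Set G)) (hy : ¬ p ∣ orderOf y) :
    ∑ ζ : IrrCharacter G,
        (∑ ψ : IrrCharacter (Subgroup.centralizer ({z} : Set G)),
          (if ψ ∈ Q then (1 : ℂ) else 0)
          * (classInner (fun c : Subgroup.centralizer ({z} : Set G) => (ζ : G → ℂ) (z * (c : G)))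
              (ψ : Subgroup.centralizer ({z} : Set G) → ℂ)
            * (ψ : Subgroup.centralizer ({z} : Set G) → ℂ) y))
        * conj (∑ ψ : IrrCharacter (Subgroup.centralizer ({z} : Set G)),
          (if ψ ∈ Q then (1 : ℂ) else 0)
          * (classInner (fun c : Subgroup.centralizer ({z} : Set G) => (ζ : G → ℂ) (z * (c : G)))
              (ψ : Subgroup.centralizer ({z} : Set G) → ℂ)
            * (ψ : Subgroup.centralizer ({z} : Set G) → ℂ) y))
      = ∑ ψ : IrrCharacter (Subgroup.centralizer ({z} : Set G)),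
          (if ψ ∈ Q then (1 : ℂ) else 0)
          * ((ψ : Subgroup.centralizer ({z} : Set G) → ℂ) y
            * conj ((ψ : Subgroup.centralizer ({z} : Set G) → ℂ) y)) := by
  haveI hMp := isPrime_of_isPModular hM
  have hMtop : M ≠ ⊤ := hM.2.1.ne_top
  have hp : p.Prime := hpf.out
  have hHC : (Nat.card (Subgroup.centralizer ({z} : Set G)) : ℂ) ≠ 0 :=
    card_ne_zero_complex _
  obtain ⟨n, hn⟩ : ∃ n : ℂ, n = (Nat.card (Subgroup.centralizer ({z} : Set G)) : ℂ) := ⟨_, rfl⟩
  have hn0 : n ≠ 0 := by rw [hn]; exact hHC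
  obtain ⟨Qi, hQi⟩ : ∃ Qi : IrrCharacter (Subgroup.centralizer ({z} : Set G)) → ℂ,
      Qi = fun ψ : IrrCharacter (Subgroup.centralizer ({z} : Set G)) =>
        if ψ ∈ Q then (1 : ℂ) else 0 := ⟨_, rfl⟩
  have hQiapp : ∀ ψ, Qi ψ = if ψ ∈ Q then (1 : ℂ) else 0 := fun ψ => by rw [hQi]
  have hQisq : ∀ ψ, Qi ψ * Qi ψ = Qi ψ := by
    intro ψ
    rw [hQiapp]
    split_ifs <;> simp
  have hQiconj : ∀ ψ, conj (Qi ψ) = Qi ψ := by
    intro ψ
    rw [hQiapp]
    split_ifs <;> simp
  simp_rw [← hQiapp]
  obtain ⟨W, hW⟩ : ∃ W : Subgroup.centralizer ({z} : Set G) → ℂ,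
      W = fun c : Subgroup.centralizer ({z} : Set G) =>
        ∑ ψ : IrrCharacter (Subgroup.centralizer ({z} : Set G)),
        Qi ψ * ((ψ : Subgroup.centralizer ({z} : Set G) → ℂ) y
          * conj ((ψ : Subgroup.centralizer ({z} : Set G) → ℂ) c)) := ⟨_, rfl⟩
  have hWapp : ∀ c, W c = ∑ ψ : IrrCharacter (Subgroup.centralizer ({z} : Set G)),
        Qi ψ * ((ψ : Subgroup.centralizer ({z} : Set G) → ℂ) y
          * conj ((ψ : Subgroup.centralizer ({z} : Set G) → ℂ) c)) := fun c => by rw [hW]
  have hWsing : ∀ c : Subgroup.centralizer ({z} : Set G), p ∣ orderOf c → W c = 0 := by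
    intro c hc
    rw [hWapp]
    have := weak_block_orthogonality hM Q hQ y c hy hc
    rw [← this]
    apply Finset.sum_congr rfl
    intro ψ _
    rw [hQiapp]
  -- step 1: the `Q`-part in terms of `W`
  have hpart : ∀ ζ : IrrCharacter G,
      ∑ ψ : IrrCharacter (Subgroup.centralizer ({z} : Set G)),
        Qi ψ * (classInner (fun c : Subgroup.centralizer ({z} : Set G) =>
          (ζ : G → ℂ) (z * (c : G))) (ψ : Subgroup.centralizer ({z} : Set G) → ℂ)
            * (ψ : Subgroup.centralizer ({z} : Set G) → ℂ) y)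
      = n⁻¹ * ∑ c : Subgroup.centralizer ({z} : Set G), (ζ : G → ℂ) (z * (c : G)) * W c := by
    intro ζ
    have e1 : ∀ ψ : IrrCharacter (Subgroup.centralizer ({z} : Set G)),
        Qi ψ * (classInner (fun c : Subgroup.centralizer ({z} : Set G) =>
          (ζ : G → ℂ) (z * (c : G))) (ψ : Subgroup.centralizer ({z} : Set G) → ℂ)
            * (ψ : Subgroup.centralizer ({z} : Set G) → ℂ) y)
        = n⁻¹ * ∑ c : Subgroup.centralizer ({z} : Set G), (ζ : G → ℂ) (z * (c : G))
          * (Qi ψ * ((ψ : Subgroup.centralizer ({z} : Set G) → ℂ) y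
            * conj ((ψ : Subgroup.centralizer ({z} : Set G) → ℂ) c))) := by
      intro ψ
      rw [classInner_apply, ← hn, Finset.mul_sum, Finset.mul_sum, Finset.sum_mul, Finset.mul_sum]
      apply Finset.sum_congr rfl
      intro c _
      ring
    rw [Finset.sum_congr rfl (fun ψ _ => e1 ψ), ← Finset.mul_sum, Finset.sum_comm]
    congr 1
    apply Finset.sum_congr rfl
    intro c _
    rw [hWapp, Finset.mul_sum]
  simp_rw [hpart]
  -- step 2
  have hstep2 : ∑ ζ : IrrCharacter G,
      (n⁻¹ * ∑ c : Subgroup.centralizer ({z} : Set G), (ζ : G → ℂ) (z * (c : G)) * W c)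
        * conj (n⁻¹ * ∑ c : Subgroup.centralizer ({z} : Set G), (ζ : G → ℂ) (z * (c : G)) * W c)
      = n⁻¹ * n⁻¹ * ∑ c : Subgroup.centralizer ({z} : Set G),
        ∑ c' : Subgroup.centralizer ({z} : Set G), W c * conj (W c')
          * (Nat.card {t : G // t * (z * (c' : G)) * t⁻¹ = z * (c : G)} : ℂ) := by
    have hnconj : conj n = n := by
      rw [hn]
      exact Complex.conj_natCast _
    have e2 : ∀ ζ : IrrCharacter G,
        (n⁻¹ * ∑ c : Subgroup.centralizer ({z} : Set G), (ζ : G → ℂ) (z * (c : G)) * W c)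
          * conj (n⁻¹ * ∑ c : Subgroup.centralizer ({z} : Set G),
            (ζ : G → ℂ) (z * (c : G)) * W c)
        = n⁻¹ * n⁻¹ * ∑ c : Subgroup.centralizer ({z} : Set G),
          ∑ c' : Subgroup.centralizer ({z} : Set G), W c * conj (W c')
            * ((ζ : G → ℂ) (z * (c : G)) * conj ((ζ : G → ℂ) (z * (c' : G)))) := by
      intro ζ
      rw [map_mul, map_inv₀, hnconj, map_sum]
      have : (n⁻¹ * ∑ c : Subgroup.centralizer ({z} : Set G), (ζ : G → ℂ) (z * (c : G)) * W c)
          * (n⁻¹ * ∑ c : Subgroup.centralizer ({z} : Set G),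
            conj ((ζ : G → ℂ) (z * (c : G)) * W c))
          = n⁻¹ * n⁻¹ * ((∑ c : Subgroup.centralizer ({z} : Set G),
              (ζ : G → ℂ) (z * (c : G)) * W c)
            * (∑ c : Subgroup.centralizer ({z} : Set G),
              conj ((ζ : G → ℂ) (z * (c : G)) * W c))) := by ring
      rw [this, Finset.sum_mul_sum]
      congr 1
      apply Finset.sum_congr rfl
      intro c _
      apply Finset.sum_congr rfl
      intro c' _
      rw [map_mul]
      ring
    rw [Finset.sum_congr rfl (fun ζ _ => e2 ζ), ← Finset.mul_sum, Finset.sum_comm]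
    congr 1
    apply Finset.sum_congr rfl
    intro c _
    rw [Finset.sum_comm]
    apply Finset.sum_congr rfl
    intro c' _
    rw [← Finset.mul_sum, sum_irr_mul_conj]
  rw [hstep2]
  -- step 3
  have hstep3 : ∀ c c' : Subgroup.centralizer ({z} : Set G), W c * conj (W c')
      * (Nat.card {t : G // t * (z * (c' : G)) * t⁻¹ = z * (c : G)} : ℂ)
      = W c * conj (W c')
        * ∑ ψ : IrrCharacter (Subgroup.centralizer ({z} : Set G)),
          (ψ : Subgroup.centralizer ({z} : Set G) → ℂ) c
            * conj ((ψ : Subgroup.centralizer ({z} : Set G) → ℂ) c') := by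
    intro c c'
    by_cases hc : p ∣ orderOf c
    · rw [hWsing c hc]
      simp
    · by_cases hc' : p ∣ orderOf c'
      · rw [hWsing c' hc']
        simp
      · rw [sum_irr_mul_conj, card_conj_section hp z k hz c c' hc hc']
  simp_rw [hstep3]
  -- step 4
  have hWsum : ∀ ψ : IrrCharacter (Subgroup.centralizer ({z} : Set G)),
      ∑ c : Subgroup.centralizer ({z} : Set G),
        W c * (ψ : Subgroup.centralizer ({z} : Set G) → ℂ) c
      = n * (Qi ψ * (ψ : Subgroup.centralizer ({z} : Set G) → ℂ) y) := by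
    intro ψ
    simp_rw [hWapp, Finset.sum_mul]
    rw [Finset.sum_comm]
    have e4 : ∀ ψ' : IrrCharacter (Subgroup.centralizer ({z} : Set G)),
        ∑ c : Subgroup.centralizer ({z} : Set G),
          Qi ψ' * ((ψ' : Subgroup.centralizer ({z} : Set G) → ℂ) y
            * conj ((ψ' : Subgroup.centralizer ({z} : Set G) → ℂ) c))
            * (ψ : Subgroup.centralizer ({z} : Set G) → ℂ) c
        = Qi ψ' * (ψ' : Subgroup.centralizer ({z} : Set G) → ℂ) y
          * (if ψ = ψ' then n else 0) := by
      intro ψ'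
      rw [hn, ← sum_irr_mul_conj_eq ψ ψ', Finset.mul_sum]
      apply Finset.sum_congr rfl
      intro c _
      ring
    rw [Finset.sum_congr rfl (fun ψ' _ => e4 ψ'), Finset.sum_eq_single ψ]
    · rw [if_pos rfl]
      ring
    · intro ψ' _ hne
      rw [if_neg (fun h => hne h.symm), mul_zero]
    · intro h
      exact absurd (Finset.mem_univ _) h
  have e5 : ∑ c : Subgroup.centralizer ({z} : Set G),
      ∑ c' : Subgroup.centralizer ({z} : Set G), W c * conj (W c')
        * ∑ ψ : IrrCharacter (Subgroup.centralizer ({z} : Set G)),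
          (ψ : Subgroup.centralizer ({z} : Set G) → ℂ) c
            * conj ((ψ : Subgroup.centralizer ({z} : Set G) → ℂ) c')
      = ∑ ψ : IrrCharacter (Subgroup.centralizer ({z} : Set G)),
        (∑ c : Subgroup.centralizer ({z} : Set G),
          W c * (ψ : Subgroup.centralizer ({z} : Set G) → ℂ) c)
        * conj (∑ c : Subgroup.centralizer ({z} : Set G),
          W c * (ψ : Subgroup.centralizer ({z} : Set G) → ℂ) c) := by
    have e6 : ∀ ψ : IrrCharacter (Subgroup.centralizer ({z} : Set G)),
        (∑ c : Subgroup.centralizer ({z} : Set G),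
          W c * (ψ : Subgroup.centralizer ({z} : Set G) → ℂ) c)
        * conj (∑ c : Subgroup.centralizer ({z} : Set G),
          W c * (ψ : Subgroup.centralizer ({z} : Set G) → ℂ) c)
        = ∑ c : Subgroup.centralizer ({z} : Set G),
          ∑ c' : Subgroup.centralizer ({z} : Set G), W c * conj (W c')
            * ((ψ : Subgroup.centralizer ({z} : Set G) → ℂ) c
              * conj ((ψ : Subgroup.centralizer ({z} : Set G) → ℂ) c')) := by
      intro ψ
      rw [map_sum, Finset.sum_mul_sum]
      apply Finset.sum_congr rfl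
      intro c _
      apply Finset.sum_congr rfl
      intro c' _
      rw [map_mul]
      ring
    rw [Finset.sum_congr rfl (fun ψ _ => e6 ψ)]
    symm
    rw [Finset.sum_comm]
    apply Finset.sum_congr rfl
    intro c _
    rw [Finset.sum_comm]
    apply Finset.sum_congr rfl
    intro c' _
    rw [Finset.mul_sum]
  rw [e5]
  simp_rw [hWsum]
  have hnconj : conj n = n := by
    rw [hn]
    exact Complex.conj_natCast _
  rw [Finset.mul_sum]
  apply Finset.sum_congr rfl
  intro ψ _
  rw [map_mul, map_mul, hnconj, hQiconj]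
  have := hQisq ψ
  calc n⁻¹ * n⁻¹ * (n * (Qi ψ * (ψ : Subgroup.centralizer ({z} : Set G) → ℂ) y)
        * (n * (Qi ψ * conj ((ψ : Subgroup.centralizer ({z} : Set G) → ℂ) y))))
      = (n⁻¹ * n) * (n⁻¹ * n) * ((Qi ψ * Qi ψ)
        * ((ψ : Subgroup.centralizer ({z} : Set G) → ℂ) y
          * conj ((ψ : Subgroup.centralizer ({z} : Set G) → ℂ) y))) := by ring
    _ = Qi ψ * ((ψ : Subgroup.centralizer ({z} : Set G) → ℂ) y
          * conj ((ψ : Subgroup.centralizer ({z} : Set G) → ℂ) y)) := by
        rw [inv_mul_cancel₀ hn0, this]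
        ring

end Cfsg.Agent.Lib.helper3.Block
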