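import Mathlib
import Cfsg.Prelude.Def_Blocks
import Cfsg.Prelude.Def_BlockRank
import Cfsg.Agent.Lib.helper3.BlockSection3
import Cfsg.Agent.Lib.helper3.ProjVanish8
import Cfsg.Agent.Lib.helper3.Irr13
import Cfsg.Agent.S4667

/-!
# Norms of the subsections of a block
-/

set_option autoImplicit false
set_option linter.style.haveILetI false
set_option linter.unusedSectionVars false

namespace Cfsg.Agent.Lib.helper3.Block

open Cfsg Module Cfsg.Agent.Lib.helper3.CharBasic Cfsg.Agent.Lib.helper3.Irr
open Cfsg.Agent.Lib.helper3.Central Cfsg.Agent.Lib.helper3.LocalM Cfsg.Agent.Lib.helper3.IndFun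
open Cfsg.Agent.Lib.helper3.Lin Cfsg.Agent.Lib.helper3.HallNilp
open scoped ComplexConjugate

universe u

open Classical in
theorem blockPart_apply {H : Type u} [Group H] [Fintype H] (e : Set (IrrCharacter H))
    (ϑ : H → ℂ) (s : H) :
    blockPart e ϑ s = ∑ ψ : IrrCharacter H, (if ψ ∈ e then (1 : ℂ) else 0)
      * (classInner ϑ (ψ : H → ℂ) * (ψ : H → ℂ) s) := by
  rw [← finsum_mem_set_eq_sum_ite]
  unfold blockPart
  congr!

variable {G : Type u} [Group G] [Fintype G] {M : Ideal AlgInt}

open Classical in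
/-- **The norms of the subsections of a block** sum to the local block rank. -/
theorem sum_subsection_norms {p : ℕ} [hpf : Fact p.Prime] (hM : IsPModular p M) (z : G)
    (k : ℕ) (hz : orderOf z = p ^ k) (H : Subgroup G)
    (hH : H = Subgroup.centralizer ({z} : Set G))
    (B : Set (IrrCharacter G)) (e : Set (IrrCharacter H)) (hind : IsInducedBlock M H e B) :
    ∑ᶠ χ ∈ B, ∑ᶠ s : H,
        pRegularPart p (blockPart e (fun c : H => (χ : G → ℂ) (z * c))) s
          * blockPart e (fun c : H => (χ : G → ℂ) (z⁻¹ * c)) s⁻¹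
      = (Nat.card H : ℂ) * (blockRank p e : ℂ) := by
  subst hH
  haveI hMp := isPrime_of_isPModular hM
  have hMtop : M ≠ ⊤ := hM.2.1.ne_top
  obtain ⟨he, hB, hcc⟩ := id hind
  have hclosed : ∀ θ ∈ e, blockOf M (θ : Subgroup.centralizer ({z} : Set G) → ℂ) ⊆ e := by
    obtain ⟨ξ₀, hξ₀⟩ := he
    intro θ hθ ψ hψ
    rw [hξ₀] at hθ ⊢
    exact sameBlock_trans hθ hψ
  have hcomm : ∀ c : Subgroup.centralizer ({z} : Set G), z * (c : G) = (c : G) * z :=
    fun c => (Subgroup.mem_centralizer_singleton_iff.mp c.2).symm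
  obtain ⟨X, hX⟩ : ∃ X : IrrCharacter G → Subgroup.centralizer ({z} : Set G) → ℂ,
      X = fun (χ : IrrCharacter G) (s : Subgroup.centralizer ({z} : Set G)) =>
        ∑ ψ : IrrCharacter (Subgroup.centralizer ({z} : Set G)),
          (if ψ ∈ e then (1 : ℂ) else 0)
          * (classInner (fun c : Subgroup.centralizer ({z} : Set G) => (χ : G → ℂ) (z * (c : G)))
              (ψ : Subgroup.centralizer ({z} : Set G) → ℂ)
            * (ψ : Subgroup.centralizer ({z} : Set G) → ℂ) s) := ⟨_, rfl⟩
  have hXapp : ∀ χ s, X χ s = ∑ ψ : IrrCharacter (Subgroup.centralizer ({z} : Set G)),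
          (if ψ ∈ e then (1 : ℂ) else 0)
          * (classInner (fun c : Subgroup.centralizer ({z} : Set G) => (χ : G → ℂ) (z * (c : G)))
              (ψ : Subgroup.centralizer ({z} : Set G) → ℂ)
            * (ψ : Subgroup.centralizer ({z} : Set G) → ℂ) s) := fun χ s => by rw [hX]
  -- Step A
  have hinner : ∀ (χ : IrrCharacter G) (ψ : IrrCharacter (Subgroup.centralizer ({z} : Set G))),
      classInner (fun c : Subgroup.centralizer ({z} : Set G) => (χ : G → ℂ) (z⁻¹ * (c : G)))
          (ψ : Subgroup.centralizer ({z} : Set G) → ℂ)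
        = conj (classInner (fun c : Subgroup.centralizer ({z} : Set G) =>
            (χ : G → ℂ) (z * (c : G))) (ψ : Subgroup.centralizer ({z} : Set G) → ℂ)) := by
    intro χ ψ
    rw [classInner_apply, classInner_apply, map_mul, map_inv₀, Complex.conj_natCast, map_sum]
    congr 1
    rw [← Equiv.sum_comp (Equiv.inv (Subgroup.centralizer ({z} : Set G)))]
    apply Finset.sum_congr rfl
    intro c _
    rw [map_mul, Complex.conj_conj]
    have e1 : z⁻¹ * (((Equiv.inv (Subgroup.centralizer ({z} : Set G))) c :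
        Subgroup.centralizer ({z} : Set G)) : G) = (z * (c : G))⁻¹ := by
      rw [Equiv.inv_apply, hcomm c]
      push_cast
      group
    rw [e1, isCharacter_apply_inv (isCharacter_of_isIrrCharacter χ.2), Equiv.inv_apply,
      isCharacter_apply_inv (isCharacter_of_isIrrCharacter ψ.2), Complex.conj_conj]
  have hA : ∀ (χ : IrrCharacter G) (s : Subgroup.centralizer ({z} : Set G)),
      blockPart e (fun c : Subgroup.centralizer ({z} : Set G) => (χ : G → ℂ) (z⁻¹ * (c : G))) s⁻¹
        = conj (X χ s) := by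
    intro χ s
    rw [blockPart_apply, hXapp, map_sum]
    apply Finset.sum_congr rfl
    intro ψ _
    rw [hinner, isCharacter_apply_inv (isCharacter_of_isIrrCharacter ψ.2), map_mul, map_mul]
    congr 1
    split_ifs <;> simp
  have hA' : ∀ (χ : IrrCharacter G) (s : Subgroup.centralizer ({z} : Set G)),
      pRegularPart p (blockPart e (fun c : Subgroup.centralizer ({z} : Set G) =>
        (χ : G → ℂ) (z * (c : G)))) s
        = (if p ∣ orderOf s then (0 : ℂ) else 1) * X χ s := by
    intro χ s
    rw [pRegularPart_eq_truncReg, truncReg_apply, blockPart_apply, hXapp]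
  -- Step C
  have hC : ∀ (χ : IrrCharacter G), χ ∉ B → ∀ s : Subgroup.centralizer ({z} : Set G),
      ¬ p ∣ orderOf s → X χ s = 0 := by
    intro χ hχ s hs
    rw [hXapp]
    apply second_main_char hM z k hz (blockOf M (χ : G → ℂ)) ⟨χ, rfl⟩ χ
      (sameBlock_refl hMtop _) e he _ s hs
    intro h'
    apply hχ
    rw [isInducedBlock_unique _ e B _ hind h']
    exact sameBlock_refl hMtop _
  rw [finsum_mem_set_eq_sum_ite]
  have h1 : ∀ χ : IrrCharacter G, (if χ ∈ B then (1 : ℂ) else 0)
      * ∑ᶠ s : Subgroup.centralizer ({z} : Set G),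
        pRegularPart p (blockPart e (fun c : Subgroup.centralizer ({z} : Set G) =>
          (χ : G → ℂ) (z * (c : G)))) s
          * blockPart e (fun c : Subgroup.centralizer ({z} : Set G) =>
            (χ : G → ℂ) (z⁻¹ * (c : G))) s⁻¹
      = ∑ s : Subgroup.centralizer ({z} : Set G), (if p ∣ orderOf s then (0 : ℂ) else 1)
        * (X χ s * conj (X χ s)) := by
    intro χ
    rw [finsum_eq_sum_of_fintype, Finset.mul_sum]
    apply Finset.sum_congr rfl
    intro s _
    rw [hA, hA']
    by_cases hs : p ∣ orderOf s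
    · rw [if_pos hs, zero_mul, zero_mul, zero_mul, mul_zero]
    · rw [if_neg hs, one_mul, one_mul]
      by_cases hχ : χ ∈ B
      · rw [if_pos hχ, one_mul]
      · rw [if_neg hχ, zero_mul, hC χ hχ s hs, zero_mul]
  rw [Finset.sum_congr rfl (fun χ _ => h1 χ), Finset.sum_comm,
    Cfsg.Agent.S4667.result p M hM e he]
  apply Finset.sum_congr rfl
  intro s _
  rw [← Finset.mul_sum, finsum_mem_set_eq_sum_ite]
  by_cases hs : p ∣ orderOf s
  · rw [if_pos hs, zero_mul]
    symm
    apply Finset.sum_eq_zero
    intro ψ _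
    rw [pRegularPart_eq_truncReg, truncReg_apply, if_pos hs, zero_mul, zero_mul, mul_zero]
  · rw [if_neg hs, one_mul]
    simp_rw [hXapp]
    rw [sum_part_section_sq hM z k hz e hclosed s hs]
    apply Finset.sum_congr rfl
    intro ψ _
    rw [pRegularPart_eq_truncReg, truncReg_apply, if_neg hs, one_mul,
      isCharacter_apply_inv (isCharacter_of_isIrrCharacter ψ.2)]

end Cfsg.Agent.Lib.helper3.Block
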