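import Mathlib
import Cfsg.Prelude.Def_Blocks
import Cfsg.Agent.Lib.helper3.RegPairInd
import Cfsg.Agent.Lib.helper3.BlockSection4
import Cfsg.Agent.Lib.helper3.LocalM2
import Cfsg.Agent.Lib.helper3.Irr6
import Cfsg.Agent.Lib.helper3.Irr13
import Cfsg.Agent.Lib.helper3.BlockIdem2
import Cfsg.Agent.Lib.helper3.ExtFirstMain1

/-!
# A height zero character does not vanish on the subsections of its block
-/

set_option autoImplicit false
set_option linter.style.haveILetI false
set_option linter.unusedSectionVars false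

namespace Cfsg.Agent.Lib.helper3.HZSub

open Cfsg Module Cfsg.Agent.Lib.helper3.CharBasic Cfsg.Agent.Lib.helper3.Irr
open Cfsg.Agent.Lib.helper3.Central Cfsg.Agent.Lib.helper3.LocalM Cfsg.Agent.Lib.helper3.IndFun
open Cfsg.Agent.Lib.helper3.Lin Cfsg.Agent.Lib.helper3.Block
open scoped ComplexConjugate

universe u

variable {G : Type u} [Group G] [Fintype G] {M : Ideal AlgInt}

theorem regPair_sum_right (p : ℕ) (χ : G → ℂ) (c : IrrCharacter G → ℂ) :
    regPair p χ (∑ ψ : IrrCharacter G, c ψ • (ψ : G → ℂ))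
      = ∑ ψ : IrrCharacter G, conj (c ψ) * regPair p χ (ψ : G → ℂ) := by
  unfold regPair
  simp_rw [Finset.mul_sum]
  rw [Finset.sum_comm]
  apply Finset.sum_congr rfl
  intro g _
  by_cases hg : p ∣ orderOf g
  · simp [hg]
  · simp only [if_neg hg]
    rw [Finset.sum_apply, map_sum, Finset.mul_sum]
    apply Finset.sum_congr rfl
    intro ψ _
    rw [Pi.smul_apply, smul_eq_mul, map_mul]
    ring

open Classical in
/-- The `p`-regular pairing with a member of the block `b` only sees the `b`-part. -/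
theorem regPair_blockPart {p : ℕ} (hM : IsPModular p M) (b : Set (IrrCharacter G))
    (hb : IsPBlock M b) (ζ : IrrCharacter G) (hζ : ζ ∈ b) (ϑ : G → ℂ)
    (hϑ : IsClassFunction G ϑ) :
    regPair p (ζ : G → ℂ) ϑ = regPair p (ζ : G → ℂ) (blockPart b ϑ) := by
  haveI hMp := isPrime_of_isPModular hM
  have e1 : blockPart b ϑ = ∑ ψ : IrrCharacter G,
      ((if ψ ∈ b then (1 : ℂ) else 0) * classInner ϑ (ψ : G → ℂ)) • (ψ : G → ℂ) := by
    funext s
    rw [blockPart_apply, Finset.sum_apply]
    apply Finset.sum_congr rfl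
    intro ψ _
    rw [Pi.smul_apply, smul_eq_mul]
    ring
  rw [e1, regPair_sum_right]
  conv_lhs => rw [classFunction_eq_sum ϑ hϑ]
  rw [regPair_sum_right]
  apply Finset.sum_congr rfl
  intro ψ _
  by_cases hψ : ψ ∈ b
  · rw [if_pos hψ, one_mul]
  · rw [if_neg hψ, zero_mul, map_zero, zero_mul]
    have h0 : regPair p (ζ : G → ℂ) (ψ : G → ℂ) = 0 := by
      by_contra hne
      apply hψ
      have hs := sameBlock_of_regPair_ne_zero hM ζ ψ hne
      obtain ⟨ζ₀, hζ₀⟩ := hb
      rw [hζ₀] at hζ ⊢
      exact sameBlock_trans hζ hs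
    rw [h0, mul_zero]

open Classical in
/-- A height zero character of `B` has a nonvanishing `b`-part on the `p`-regular elements of
`C_G(x)`, for every block `b` of `C_G(x)` inducing `B`. -/
theorem exists_blockPart_ne_zero {p : ℕ} [hp : Fact p.Prime] (hM : IsPModular p M)
    (B : Set (IrrCharacter G)) (χ : IrrCharacter G) (hχ : χ ∈ B)
    (h0 : blockHeight p B (χ : G → ℂ) = 0) (x : G) (k : ℕ) (hx : orderOf x = p ^ k)
    [Fintype (Subgroup.centralizer ({x} : Set G))]
    (b : Set (IrrCharacter (Subgroup.centralizer ({x} : Set G))))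
    (hind : IsInducedBlock M (Subgroup.centralizer ({x} : Set G)) b B) :
    ∃ y : Subgroup.centralizer ({x} : Set G), ¬ p ∣ orderOf y ∧
      blockPart b (fun c : Subgroup.centralizer ({x} : Set G) => (χ : G → ℂ) (x * (c : G))) y
        ≠ 0 := by
  haveI hMp := isPrime_of_isPModular hM
  have hMtop : M ≠ ⊤ := hM.2.1.ne_top
  have hχc := isCharacter_of_isIrrCharacter χ.2
  have hB : IsPBlock M B := hind.2.1
  have hb : IsPBlock M b := hind.1
  by_contra hcon
  push Not at hcon
  have hhtχ : (charDegree (χ : G → ℂ)).factorization p = minExp p B := by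
    have := minExp_le (p := p) hχ
    rw [blockHeight_eq] at h0
    omega
  obtain ⟨w, hw, hpw⟩ := exists_unit_regPair_self hM B hB χ hχ hhtχ
  obtain ⟨ζ, hζ⟩ : ∃ ζ, ζ ∈ b := by
    obtain ⟨ζ, hζ⟩ := hb
    exact ⟨ζ, by rw [hζ]; exact sameBlock_refl hMtop _⟩
  have hc := memLocalIdeal_regPair_sub_of_induced hM _ b B hind ζ hζ χ hχ hχc
  rw [hw] at hc
  -- the class function `ϑ`
  have hxc : ∀ c : Subgroup.centralizer ({x} : Set G), (c : G) * x = x * (c : G) := by
    intro c
    have := c.2
    rw [Subgroup.mem_centralizer_iff] at this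
    exact (this x rfl).symm
  obtain ⟨ϑ, hϑdef⟩ : ∃ ϑ : Subgroup.centralizer ({x} : Set G) → ℂ,
      ϑ = fun c : Subgroup.centralizer ({x} : Set G) => (χ : G → ℂ) (x * (c : G)) := ⟨_, rfl⟩
  have hϑcf : IsClassFunction (Subgroup.centralizer ({x} : Set G)) ϑ := by
    intro g h
    rw [hϑdef]
    simp only [Subgroup.coe_mul, Subgroup.coe_inv]
    have e : x * ((h : G) * (g : G) * (h : G)⁻¹) = (h : G) * (x * (g : G)) * (h : G)⁻¹ := by
      rw [← mul_assoc, ← mul_assoc, ← hxc h]
      group
    rw [e]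
    exact isClassFunction_of_isCharacter hχc _ _
  rw [← hϑdef] at hcon
  -- the pairing with `ϑ` vanishes
  have h1 : regPair p (ζ : Subgroup.centralizer ({x} : Set G) → ℂ) ϑ = 0 := by
    rw [regPair_blockPart hM b hb ζ hζ ϑ hϑcf]
    unfold regPair
    apply Finset.sum_eq_zero
    intro g _
    by_cases hg : p ∣ orderOf g
    · rw [if_pos hg]
    · rw [if_neg hg, hcon g hg, map_zero, mul_zero]
  -- the pairings with `ϑ` and with the restriction of `χ` are congruent
  have h2 : MemLocalIdeal M (regPair p (ζ : Subgroup.centralizer ({x} : Set G) → ℂ) ϑ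
        / (ζ : Subgroup.centralizer ({x} : Set G) → ℂ) 1
      - regPair p (ζ : Subgroup.centralizer ({x} : Set G) → ℂ)
          (fun h : Subgroup.centralizer ({x} : Set G) => (χ : G → ℂ) h)
        / (ζ : Subgroup.centralizer ({x} : Set G) → ℂ) 1) := by
    have hζc := isCharacter_of_isIrrCharacter ζ.2
    have e : regPair p (ζ : Subgroup.centralizer ({x} : Set G) → ℂ) ϑ
          / (ζ : Subgroup.centralizer ({x} : Set G) → ℂ) 1
        - regPair p (ζ : Subgroup.centralizer ({x} : Set G) → ℂ)
            (fun h : Subgroup.centralizer ({x} : Set G) => (χ : G → ℂ) h)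
          / (ζ : Subgroup.centralizer ({x} : Set G) → ℂ) 1
        = ∑ g : Subgroup.centralizer ({x} : Set G), (if p ∣ orderOf g then (0 : ℂ) else
            (ζ : Subgroup.centralizer ({x} : Set G) → ℂ) g
              / (ζ : Subgroup.centralizer ({x} : Set G) → ℂ) 1
              * conj ((χ : G → ℂ) (x * (g : G)) - (χ : G → ℂ) g)) := by
      unfold regPair
      rw [Finset.sum_div, Finset.sum_div, ← Finset.sum_sub_distrib]
      apply Finset.sum_congr rfl
      intro g _
      by_cases hg : p ∣ orderOf g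
      · simp [hg]
      · simp only [if_neg hg]
        rw [hϑdef, map_sub]
        ring
    rw [e]
    apply memLocalIdeal_sum_class_fun
    · intro g h
      have e1 : orderOf (h * g * h⁻¹) = orderOf g :=
        Cfsg.Agent.Lib.helper3.HallNilp.orderOf_conj' h g
      have e2 : (ζ : Subgroup.centralizer ({x} : Set G) → ℂ) (h * g * h⁻¹)
          = (ζ : Subgroup.centralizer ({x} : Set G) → ℂ) g :=
        isClassFunction_of_isCharacter hζc g h
      have e3 : ϑ (h * g * h⁻¹) = ϑ g := hϑcf g h
      rw [hϑdef] at e3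
      simp only at e3
      have e4 : (χ : G → ℂ) ((h * g * h⁻¹ : Subgroup.centralizer ({x} : Set G)) : G)
          = (χ : G → ℂ) (g : G) := by
        simp only [Subgroup.coe_mul, Subgroup.coe_inv]
        exact isClassFunction_of_isCharacter hχc _ _
      rw [e1, e2, e3, e4]
    · intro g
      by_cases hg : p ∣ orderOf g
      · rw [if_pos hg, mul_zero]
        exact memLocalIdeal_zero hMtop
      · rw [if_neg hg]
        have e5 : ((Subgroup.centralizer ({g} : Set (Subgroup.centralizer ({x} : Set G)))).index : ℂ)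
            * ((ζ : Subgroup.centralizer ({x} : Set G) → ℂ) g
              / (ζ : Subgroup.centralizer ({x} : Set G) → ℂ) 1
              * conj ((χ : G → ℂ) (x * (g : G)) - (χ : G → ℂ) g))
            = centralChar (ζ : Subgroup.centralizer ({x} : Set G) → ℂ) g
              * ((χ : G → ℂ) (x⁻¹ * (g : G)⁻¹) - (χ : G → ℂ) (g : G)⁻¹) := by
          unfold centralChar
          rw [map_sub, ← isCharacter_apply_inv hχc, ← isCharacter_apply_inv hχc]
          have e6 : (x * (g : G))⁻¹ = x⁻¹ * (g : G)⁻¹ := by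
            rw [mul_inv_rev]
            have := hxc g
            have h7 : (g : G)⁻¹ * x⁻¹ = ((x * (g : G)))⁻¹ := (mul_inv_rev _ _).symm
            rw [h7, ← this, mul_inv_rev]
          rw [e6]
          ring
        rw [e5]
        have hxinv : x⁻¹ ^ p ^ k = 1 := by
          rw [inv_pow, ← hx, pow_orderOf_eq_one, inv_one]
        have hcomm : x⁻¹ * (g : G)⁻¹ = (g : G)⁻¹ * x⁻¹ := by
          have := hxc g
          rw [← mul_inv_rev, ← mul_inv_rev, this]
        obtain ⟨w', hw'M, hw'⟩ := exists_mem_sub_eq hχc hM x⁻¹ (g : G)⁻¹ k hxinv hcomm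
        rw [← hw']
        exact memLocalIdeal_mul_integral (memLocalIdeal_of_mem hw'M hMtop)
          (isIntegral_centralChar ζ.2 g)
  rw [h1, zero_div, zero_sub] at h2
  have h3 := memLocalIdeal_add h2 hc
  have e7 : -(regPair p (ζ : Subgroup.centralizer ({x} : Set G) → ℂ)
          (fun h : Subgroup.centralizer ({x} : Set G) => (χ : G → ℂ) h)
        / (ζ : Subgroup.centralizer ({x} : Set G) → ℂ) 1)
      + (regPair p (ζ : Subgroup.centralizer ({x} : Set G) → ℂ)
          (fun h : Subgroup.centralizer ({x} : Set G) => (χ : G → ℂ) h)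
        / (ζ : Subgroup.centralizer ({x} : Set G) → ℂ) 1 - (w : ℂ)) = ((-w : ℤ) : ℂ) := by
    push_cast
    ring
  rw [e7] at h3
  exact not_memLocalIdeal_intCast hM (-w) (by rwa [Int.dvd_neg]) h3

end Cfsg.Agent.Lib.helper3.HZSub
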