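import Mathlib
import Cfsg.Prelude.Def_Blocks
import Cfsg.Agent.Lib.helper3.HZSub1
import Cfsg.Agent.Lib.helper3.CentralDefect4

/-!
# Pairings over the `p`-regular elements: linearity and the shift congruence
-/

set_option autoImplicit false
set_option linter.style.haveILetI false
set_option linter.unusedSectionVars false

namespace Cfsg.Agent.Lib.helper3.Contrib

open Cfsg Module Cfsg.Agent.Lib.helper3.CharBasic Cfsg.Agent.Lib.helper3.Irr
open Cfsg.Agent.Lib.helper3.Central Cfsg.Agent.Lib.helper3.LocalM Cfsg.Agent.Lib.helper3.IndFun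
open Cfsg.Agent.Lib.helper3.Lin Cfsg.Agent.Lib.helper3.Block Cfsg.Agent.Lib.helper3.HZSub
open scoped ComplexConjugate

universe u

variable {G : Type u} [Group G] [Fintype G] {M : Ideal AlgInt}

theorem regPair_sum_left (p : ℕ) (ψ : G → ℂ) (c : IrrCharacter G → ℂ) :
    regPair p (∑ χ : IrrCharacter G, c χ • (χ : G → ℂ)) ψ
      = ∑ χ : IrrCharacter G, c χ * regPair p (χ : G → ℂ) ψ := by
  unfold regPair
  simp_rw [Finset.mul_sum]
  rw [Finset.sum_comm]
  apply Finset.sum_congr rfl
  intro g _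
  by_cases hg : p ∣ orderOf g
  · simp [hg]
  · simp only [if_neg hg]
    rw [Finset.sum_apply, Finset.sum_mul]
    apply Finset.sum_congr rfl
    intro χ _
    rw [Pi.smul_apply, smul_eq_mul]
    ring

open Classical in
theorem blockPart_eq_sum (b : Set (IrrCharacter G)) (ϑ : G → ℂ) :
    blockPart b ϑ = ∑ ψ : IrrCharacter G,
      ((if ψ ∈ b then (1 : ℂ) else 0) * classInner ϑ (ψ : G → ℂ)) • (ψ : G → ℂ) := by
  funext s
  rw [blockPart_apply, Finset.sum_apply]
  apply Finset.sum_congr rfl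
  intro ψ _
  rw [Pi.smul_apply, smul_eq_mul]
  ring

/-- The `p`-regular pairing with a member of the block `b` only sees the `b`-part, on the left. -/
theorem regPair_blockPart_left {p : ℕ} (hM : IsPModular p M) (b : Set (IrrCharacter G))
    (hb : IsPBlock M b) (ζ : IrrCharacter G) (hζ : ζ ∈ b) (ϑ : G → ℂ)
    (hϑ : IsClassFunction G ϑ) :
    regPair p ϑ (ζ : G → ℂ) = regPair p (blockPart b ϑ) (ζ : G → ℂ) := by
  rw [← regPair_conj, regPair_blockPart hM b hb ζ hζ ϑ hϑ, regPair_conj]

/-- **The shift congruence.**  For a `p`-element `x` centralized by the subgroup `H`, the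
`p`-regular pairings of an irreducible character `ζ` of `H` with `c ↦ χ (x c)` and with the
restriction of `χ` are congruent after division by `ζ 1`. -/
theorem memLocalIdeal_regPair_shift {p : ℕ} (hM : IsPModular p M) (H : Subgroup G) [Fintype H]
    (x : G) (k : ℕ) (hx : x ^ p ^ k = 1) (hxc : ∀ c : H, (c : G) * x = x * (c : G))
    (ζ : IrrCharacter H) {χ : G → ℂ} (hχc : IsCharacter G χ) :
    MemLocalIdeal M (regPair p (ζ : H → ℂ) (fun c : H => χ (x * (c : G))) / (ζ : H → ℂ) 1
      - regPair p (ζ : H → ℂ) (fun h : H => χ h) / (ζ : H → ℂ) 1) := by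
  classical
  haveI hMp := isPrime_of_isPModular hM
  have hMtop : M ≠ ⊤ := hM.2.1.ne_top
  have hζc := isCharacter_of_isIrrCharacter ζ.2
  have e : regPair p (ζ : H → ℂ) (fun c : H => χ (x * (c : G))) / (ζ : H → ℂ) 1
      - regPair p (ζ : H → ℂ) (fun h : H => χ h) / (ζ : H → ℂ) 1
      = ∑ g : H, (if p ∣ orderOf g then (0 : ℂ) else
          (ζ : H → ℂ) g / (ζ : H → ℂ) 1 * conj (χ (x * (g : G)) - χ g)) := by
    unfold regPair
    rw [Finset.sum_div, Finset.sum_div, ← Finset.sum_sub_distrib]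
    apply Finset.sum_congr rfl
    intro g _
    by_cases hg : p ∣ orderOf g
    · simp [hg]
    · simp only [if_neg hg]
      rw [map_sub]
      ring
  rw [e]
  apply memLocalIdeal_sum_class_fun
  · intro g h
    have e1 : orderOf (h * g * h⁻¹) = orderOf g :=
      Cfsg.Agent.Lib.helper3.HallNilp.orderOf_conj' h g
    have e2 : (ζ : H → ℂ) (h * g * h⁻¹) = (ζ : H → ℂ) g :=
      isClassFunction_of_isCharacter hζc g h
    have e3 : χ (x * ((h * g * h⁻¹ : H) : G)) = χ (x * (g : G)) := by
      simp only [Subgroup.coe_mul, Subgroup.coe_inv]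
      have e : x * ((h : G) * (g : G) * (h : G)⁻¹) = (h : G) * (x * (g : G)) * (h : G)⁻¹ := by
        rw [← mul_assoc, ← mul_assoc, ← hxc h]
        group
      rw [e]
      exact isClassFunction_of_isCharacter hχc _ _
    have e4 : χ ((h * g * h⁻¹ : H) : G) = χ (g : G) := by
      simp only [Subgroup.coe_mul, Subgroup.coe_inv]
      exact isClassFunction_of_isCharacter hχc _ _
    rw [e1, e2, e3, e4]
  · intro g
    by_cases hg : p ∣ orderOf g
    · rw [if_pos hg, mul_zero]
      exact memLocalIdeal_zero hMtop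
    · rw [if_neg hg]
      have e5 : ((Subgroup.centralizer ({g} : Set H)).index : ℂ)
          * ((ζ : H → ℂ) g / (ζ : H → ℂ) 1 * conj (χ (x * (g : G)) - χ g))
          = centralChar (ζ : H → ℂ) g * (χ (x⁻¹ * (g : G)⁻¹) - χ (g : G)⁻¹) := by
        unfold centralChar
        rw [map_sub, ← isCharacter_apply_inv hχc, ← isCharacter_apply_inv hχc]
        have e6 : (x * (g : G))⁻¹ = x⁻¹ * (g : G)⁻¹ := by
          rw [mul_inv_rev]
          have := hxc g
          have h7 : (g : G)⁻¹ * x⁻¹ = ((x * (g : G)))⁻¹ := (mul_inv_rev _ _).symm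
          rw [h7, ← this, mul_inv_rev]
        rw [e6]
        ring
      rw [e5]
      have hxinv : x⁻¹ ^ p ^ k = 1 := by
        rw [inv_pow, hx, inv_one]
      have hcomm : x⁻¹ * (g : G)⁻¹ = (g : G)⁻¹ * x⁻¹ := by
        have := hxc g
        rw [← mul_inv_rev, ← mul_inv_rev, this]
      obtain ⟨w', hw'M, hw'⟩ := exists_mem_sub_eq hχc hM x⁻¹ (g : G)⁻¹ k hxinv hcomm
      rw [← hw']
      exact memLocalIdeal_mul_integral (memLocalIdeal_of_mem hw'M hMtop)
        (isIntegral_centralChar ζ.2 g)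

/-- The shift congruence combined with the congruence along an induced block. -/
theorem memLocalIdeal_regPair_sec {p : ℕ} (hM : IsPModular p M) (H : Subgroup G) [Fintype H]
    (x : G) (k : ℕ) (hx : x ^ p ^ k = 1) (hxc : ∀ c : H, (c : G) * x = x * (c : G))
    (b : Set (IrrCharacter H)) (B : Set (IrrCharacter G)) (hind : IsInducedBlock M H b B)
    (ζ : IrrCharacter H) (hζ : ζ ∈ b) (χ' : IrrCharacter G) (hχ' : χ' ∈ B) {φ : G → ℂ}
    (hφ : IsCharacter G φ) :
    MemLocalIdeal M (regPair p (ζ : H → ℂ) (fun c : H => φ (x * (c : G))) / (ζ : H → ℂ) 1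
      - regPair p (χ' : G → ℂ) φ / (χ' : G → ℂ) 1) := by
  haveI hMp := isPrime_of_isPModular hM
  have h1 := memLocalIdeal_regPair_shift hM H x k hx hxc ζ hφ
  have h2 := memLocalIdeal_regPair_sub_of_induced hM H b B hind ζ hζ χ' hχ' hφ
  have h3 := memLocalIdeal_add h1 h2
  convert h3 using 1
  ring

end Cfsg.Agent.Lib.helper3.Contrib
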