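import Mathlib
import Cfsg.Prelude.Def_Blocks
import Cfsg.Agent.Lib.helper3.BlockSection4

/-!
# Two point version of the norms of the block parts on a `p`-section
-/

set_option autoImplicit false
set_option linter.style.haveILetI false
set_option linter.unusedSectionVars false

namespace Cfsg.Agent.Lib.helper3.Contrib

open Cfsg Module Cfsg.Agent.Lib.helper3.CharBasic Cfsg.Agent.Lib.helper3.Irr
open Cfsg.Agent.Lib.helper3.Central Cfsg.Agent.Lib.helper3.LocalM Cfsg.Agent.Lib.helper3.IndFun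
open Cfsg.Agent.Lib.helper3.Lin Cfsg.Agent.Lib.helper3.HallNilp Cfsg.Agent.Lib.helper3.Block
open scoped ComplexConjugate

universe u

variable {G : Type u} [Group G] [Fintype G] {M : Ideal AlgInt}

open Classical in
/-- **Block parts on a `p`-section, two point version.**  For a subgroup `H` controlling the
conjugacy of the elements `z c` (`c` a `p`-regular element of `H`), and a set `Q` of irreducible
characters of `H` closed under the block relation, the sum over the irreducible characters `ζ` of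
`G` of the products of the values of the `Q`-part of `c ↦ ζ (z c)` at two `p`-regular elements
`y`, `y'` is the sum over `Q` of `ψ y * conj (ψ y')`. -/
theorem sum_part_mul {p : ℕ} [hpf : Fact p.Prime] (hM : IsPModular p M) (z : G)
    (H : Subgroup G) [Fintype H]
    (hcount : ∀ c y : H, ¬ p ∣ orderOf c → ¬ p ∣ orderOf y →
      Nat.card {t : G // t * (z * (y : G)) * t⁻¹ = z * (c : G)}
        = Nat.card {s : H // s * y * s⁻¹ = c})
    (Q : Set (IrrCharacter H)) (hQ : ∀ θ ∈ Q, blockOf M (θ : H → ℂ) ⊆ Q)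
    (y y' : H) (hy : ¬ p ∣ orderOf y) (hy' : ¬ p ∣ orderOf y') :
    ∑ ζ : IrrCharacter G, blockPart Q (fun c : H => (ζ : G → ℂ) (z * (c : G))) y
        * conj (blockPart Q (fun c : H => (ζ : G → ℂ) (z * (c : G))) y')
      = ∑ ψ : IrrCharacter H, (if ψ ∈ Q then (1 : ℂ) else 0)
          * ((ψ : H → ℂ) y * conj ((ψ : H → ℂ) y')) := by
  haveI hMp := isPrime_of_isPModular hM
  have hMtop : M ≠ ⊤ := hM.2.1.ne_top
  have hp : p.Prime := hpf.out
  have hHC : (Nat.card H : ℂ) ≠ 0 := card_ne_zero_complex _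
  obtain ⟨n, hn⟩ : ∃ n : ℂ, n = (Nat.card H : ℂ) := ⟨_, rfl⟩
  have hn0 : n ≠ 0 := by rw [hn]; exact hHC
  obtain ⟨Qi, hQi⟩ : ∃ Qi : IrrCharacter H → ℂ,
      Qi = fun ψ : IrrCharacter H => if ψ ∈ Q then (1 : ℂ) else 0 := ⟨_, rfl⟩
  have hQiapp : ∀ ψ, Qi ψ = if ψ ∈ Q then (1 : ℂ) else 0 := fun ψ => by rw [hQi]
  have hQisq : ∀ ψ, Qi ψ * Qi ψ = Qi ψ := by
    intro ψ
    rw [hQiapp]
    split_ifs <;> simp
  have hQiconj : ∀ ψ, conj (Qi ψ) = Qi ψ := by
    intro ψ
    rw [hQiapp]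
    split_ifs <;> simp
  simp_rw [← hQiapp]
  obtain ⟨W, hW⟩ : ∃ W : H → H → ℂ, W = fun u c : H =>
      ∑ ψ : IrrCharacter H, Qi ψ * ((ψ : H → ℂ) u * conj ((ψ : H → ℂ) c)) := ⟨_, rfl⟩
  have hWapp : ∀ u c, W u c = ∑ ψ : IrrCharacter H,
      Qi ψ * ((ψ : H → ℂ) u * conj ((ψ : H → ℂ) c)) := fun u c => by rw [hW]
  have hWsing : ∀ u : H, ¬ p ∣ orderOf u → ∀ c : H, p ∣ orderOf c → W u c = 0 := by
    intro u hu c hc
    rw [hWapp]
    have := weak_block_orthogonality hM Q hQ u c hu hc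
    rw [← this]
    apply Finset.sum_congr rfl
    intro ψ _
    rw [hQiapp]
  -- step 1: the `Q`-part in terms of `W`
  have hpart : ∀ (ζ : IrrCharacter G) (u : H),
      blockPart Q (fun c : H => (ζ : G → ℂ) (z * (c : G))) u
      = n⁻¹ * ∑ c : H, (ζ : G → ℂ) (z * (c : G)) * W u c := by
    intro ζ u
    rw [blockPart_apply]
    have e1 : ∀ ψ : IrrCharacter H,
        (if ψ ∈ Q then (1 : ℂ) else 0) * (classInner (fun c : H =>
          (ζ : G → ℂ) (z * (c : G))) (ψ : H → ℂ) * (ψ : H → ℂ) u)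
        = n⁻¹ * ∑ c : H, (ζ : G → ℂ) (z * (c : G))
          * (Qi ψ * ((ψ : H → ℂ) u * conj ((ψ : H → ℂ) c))) := by
      intro ψ
      rw [classInner_apply, ← hn, ← hQiapp, Finset.mul_sum, Finset.mul_sum, Finset.sum_mul,
        Finset.mul_sum]
      apply Finset.sum_congr rfl
      intro c _
      ring
    rw [Finset.sum_congr rfl (fun ψ _ => e1 ψ), ← Finset.mul_sum, Finset.sum_comm]
    congr 1
    apply Finset.sum_congr rfl
    intro c _
    rw [hWapp, Finset.mul_sum]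
  simp_rw [hpart]
  have hnconj : conj n = n := by
    rw [hn]
    exact Complex.conj_natCast _
  -- step 2
  have hstep2 : ∑ ζ : IrrCharacter G,
      (n⁻¹ * ∑ c : H, (ζ : G → ℂ) (z * (c : G)) * W y c)
        * conj (n⁻¹ * ∑ c : H, (ζ : G → ℂ) (z * (c : G)) * W y' c)
      = n⁻¹ * n⁻¹ * ∑ c : H, ∑ c' : H, W y c * conj (W y' c')
          * (Nat.card {t : G // t * (z * (c' : G)) * t⁻¹ = z * (c : G)} : ℂ) := by
    have e2 : ∀ ζ : IrrCharacter G,
        (n⁻¹ * ∑ c : H, (ζ : G → ℂ) (z * (c : G)) * W y c)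
          * conj (n⁻¹ * ∑ c : H, (ζ : G → ℂ) (z * (c : G)) * W y' c)
        = n⁻¹ * n⁻¹ * ∑ c : H, ∑ c' : H, W y c * conj (W y' c')
            * ((ζ : G → ℂ) (z * (c : G)) * conj ((ζ : G → ℂ) (z * (c' : G)))) := by
      intro ζ
      rw [map_mul, map_inv₀, hnconj, map_sum]
      have : (n⁻¹ * ∑ c : H, (ζ : G → ℂ) (z * (c : G)) * W y c)
          * (n⁻¹ * ∑ c : H, conj ((ζ : G → ℂ) (z * (c : G)) * W y' c))
          = n⁻¹ * n⁻¹ * ((∑ c : H, (ζ : G → ℂ) (z * (c : G)) * W y c)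
            * (∑ c : H, conj ((ζ : G → ℂ) (z * (c : G)) * W y' c))) := by ring
      rw [this, Finset.sum_mul_sum]
      congr 1
      apply Finset.sum_congr rfl
      intro c _
      apply Finset.sum_congr rfl
      intro c' _
      rw [map_mul]
      ring
    rw [Finset.sum_congr rfl (fun ζ _ => e2 ζ), ← Finset.mul_sum, Finset.sum_comm]
    congr 1
    apply Finset.sum_congr rfl
    intro c _
    rw [Finset.sum_comm]
    apply Finset.sum_congr rfl
    intro c' _
    rw [← Finset.mul_sum, sum_irr_mul_conj]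
  rw [hstep2]
  -- step 3
  have hstep3 : ∀ c c' : H, W y c * conj (W y' c')
      * (Nat.card {t : G // t * (z * (c' : G)) * t⁻¹ = z * (c : G)} : ℂ)
      = W y c * conj (W y' c')
        * ∑ ψ : IrrCharacter H, (ψ : H → ℂ) c * conj ((ψ : H → ℂ) c') := by
    intro c c'
    by_cases hc : p ∣ orderOf c
    · rw [hWsing y hy c hc]
      simp
    · by_cases hc' : p ∣ orderOf c'
      · rw [hWsing y' hy' c' hc']
        simp
      · rw [sum_irr_mul_conj, hcount c c' hc hc']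
  simp_rw [hstep3]
  -- step 4
  have hWsum : ∀ (u : H) (ψ : IrrCharacter H),
      ∑ c : H, W u c * (ψ : H → ℂ) c = n * (Qi ψ * (ψ : H → ℂ) u) := by
    intro u ψ
    simp_rw [hWapp, Finset.sum_mul]
    rw [Finset.sum_comm]
    have e4 : ∀ ψ' : IrrCharacter H,
        ∑ c : H, Qi ψ' * ((ψ' : H → ℂ) u * conj ((ψ' : H → ℂ) c)) * (ψ : H → ℂ) c
        = Qi ψ' * (ψ' : H → ℂ) u * (if ψ = ψ' then n else 0) := by
      intro ψ'
      rw [hn, ← sum_irr_mul_conj_eq ψ ψ', Finset.mul_sum]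
      apply Finset.sum_congr rfl
      intro c _
      ring
    rw [Finset.sum_congr rfl (fun ψ' _ => e4 ψ'), Finset.sum_eq_single ψ]
    · rw [if_pos rfl]
      ring
    · intro ψ' _ hne
      rw [if_neg (fun h => hne h.symm), mul_zero]
    · intro h
      exact absurd (Finset.mem_univ _) h
  have e5 : ∑ c : H, ∑ c' : H, W y c * conj (W y' c')
        * ∑ ψ : IrrCharacter H, (ψ : H → ℂ) c * conj ((ψ : H → ℂ) c')
      = ∑ ψ : IrrCharacter H, (∑ c : H, W y c * (ψ : H → ℂ) c)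
        * conj (∑ c : H, W y' c * (ψ : H → ℂ) c) := by
    have e6 : ∀ ψ : IrrCharacter H,
        (∑ c : H, W y c * (ψ : H → ℂ) c) * conj (∑ c : H, W y' c * (ψ : H → ℂ) c)
        = ∑ c : H, ∑ c' : H, W y c * conj (W y' c')
            * ((ψ : H → ℂ) c * conj ((ψ : H → ℂ) c')) := by
      intro ψ
      rw [map_sum, Finset.sum_mul_sum]
      apply Finset.sum_congr rfl
      intro c _
      apply Finset.sum_congr rfl
      intro c' _
      rw [map_mul]
      ring
    rw [Finset.sum_congr rfl (fun ψ _ => e6 ψ)]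
    symm
    rw [Finset.sum_comm]
    apply Finset.sum_congr rfl
    intro c _
    rw [Finset.sum_comm]
    apply Finset.sum_congr rfl
    intro c' _
    rw [Finset.mul_sum]
  rw [e5]
  simp_rw [hWsum]
  rw [Finset.mul_sum]
  apply Finset.sum_congr rfl
  intro ψ _
  rw [map_mul, map_mul, hnconj, hQiconj]
  have := hQisq ψ
  calc n⁻¹ * n⁻¹ * (n * (Qi ψ * (ψ : H → ℂ) y) * (n * (Qi ψ * conj ((ψ : H → ℂ) y'))))
      = (n⁻¹ * n) * (n⁻¹ * n) * ((Qi ψ * Qi ψ)
        * ((ψ : H → ℂ) y * conj ((ψ : H → ℂ) y'))) := by ring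
    _ = Qi ψ * ((ψ : H → ℂ) y * conj ((ψ : H → ℂ) y')) := by
        rw [inv_mul_cancel₀ hn0, this]
        ring

end Cfsg.Agent.Lib.helper3.Contrib
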