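import Mathlib
import Cfsg.Prelude.Def_Blocks
import Cfsg.Agent.Lib.helper3.Contrib1
import Cfsg.Agent.Lib.helper3.Contrib2
import Cfsg.Agent.Lib.helper3.PrincSection2

/-!
# The contribution matrix of a subsection is a hermitian idempotent of trace `l(b)`
-/

set_option autoImplicit false
set_option linter.style.haveILetI false
set_option linter.unusedSectionVars false

namespace Cfsg.Agent.Lib.helper3.Contrib

open Cfsg Module Cfsg.Agent.Lib.helper3.CharBasic Cfsg.Agent.Lib.helper3.Irr
open Cfsg.Agent.Lib.helper3.Central Cfsg.Agent.Lib.helper3.LocalM Cfsg.Agent.Lib.helper3.IndFun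
open Cfsg.Agent.Lib.helper3.Lin Cfsg.Agent.Lib.helper3.Block Cfsg.Agent.Lib.helper3.HZSub
open Cfsg.Agent.Lib.helper3.HallNilp
open scoped ComplexConjugate

universe u

variable {G : Type u} [Group G] [Fintype G] {M : Ideal AlgInt}

/-- The `e`-part of the shifted restriction `c ↦ χ (z c)` of `χ` to the subgroup `H`. -/
noncomputable def secPart (H : Subgroup G) (e : Set (IrrCharacter H)) (z : G)
    (χ : IrrCharacter G) : H → ℂ :=
  blockPart e (fun c : H => (χ : G → ℂ) (z * (c : G)))

theorem secPart_def (H : Subgroup G) (e : Set (IrrCharacter H)) (z : G)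
    (χ : IrrCharacter G) :
    secPart H e z χ = blockPart e (fun c : H => (χ : G → ℂ) (z * (c : G))) := rfl

theorem isClassFunction_shift (H : Subgroup G) (z : G)
    (hzc : ∀ c : H, (c : G) * z = z * (c : G)) {χ : G → ℂ} (hχ : IsClassFunction G χ) :
    IsClassFunction H (fun c : H => χ (z * (c : G))) := by
  intro g h
  simp only [Subgroup.coe_mul, Subgroup.coe_inv]
  have e : z * ((h : G) * (g : G) * (h : G)⁻¹) = (h : G) * (z * (g : G)) * (h : G)⁻¹ := by
    rw [← mul_assoc, ← mul_assoc, ← hzc h]
    group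
  rw [e]
  exact hχ _ _

open Classical in
/-- The block part at an inverse element of the inversely shifted restriction. -/
theorem blockPart_inv_shift (H : Subgroup G) [Fintype H] (e : Set (IrrCharacter H)) (z : G)
    (hzc : ∀ c : H, (c : G) * z = z * (c : G)) (χ : IrrCharacter G) (s : H) :
    blockPart e (fun c : H => (χ : G → ℂ) (z⁻¹ * (c : G))) s⁻¹ = conj (secPart H e z χ s) := by
  have hinner : ∀ ψ : IrrCharacter H,
      classInner (fun c : H => (χ : G → ℂ) (z⁻¹ * (c : G))) (ψ : H → ℂ)
        = conj (classInner (fun c : H => (χ : G → ℂ) (z * (c : G))) (ψ : H → ℂ)) := by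
    intro ψ
    rw [classInner_apply, classInner_apply, map_mul, map_inv₀, Complex.conj_natCast, map_sum]
    congr 1
    rw [← Equiv.sum_comp (Equiv.inv H)]
    apply Finset.sum_congr rfl
    intro c _
    rw [map_mul, Complex.conj_conj]
    have e1 : z⁻¹ * (((Equiv.inv H) c : H) : G) = (z * (c : G))⁻¹ := by
      rw [Equiv.inv_apply, ← hzc c]
      push_cast
      group
    rw [e1, isCharacter_apply_inv (isCharacter_of_isIrrCharacter χ.2), Equiv.inv_apply,
      isCharacter_apply_inv (isCharacter_of_isIrrCharacter ψ.2), Complex.conj_conj]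
  rw [secPart_def, blockPart_apply, blockPart_apply, map_sum]
  apply Finset.sum_congr rfl
  intro ψ _
  rw [hinner, isCharacter_apply_inv (isCharacter_of_isIrrCharacter ψ.2), map_mul, map_mul]
  congr 1
  split_ifs <;> simp

open Classical in
/-- The truncated block projection fixes the truncation of a block part. -/
theorem sum_classInner_truncReg_blockPart {H : Type u} [Group H] [Fintype H] {p : ℕ}
    (hM : IsPModular p M) (e : Set (IrrCharacter H))
    (he : ∀ θ ∈ e, blockOf M (θ : H → ℂ) ⊆ e) (ϑ : H → ℂ) (s : H) (hs : ¬ p ∣ orderOf s) :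
    ∑ θ : IrrCharacter H, (if θ ∈ e then (1 : ℂ) else 0)
      * (classInner (truncReg p (blockPart e ϑ)) (θ : H → ℂ) * (θ : H → ℂ) s)
      = blockPart e ϑ s := by
  have h1 : blockT p e (truncReg p (blockPart e ϑ)) = truncReg p (blockPart e ϑ) := by
    rw [blockPart_eq_sum, map_sum, map_sum]
    apply Finset.sum_congr rfl
    intro ψ _
    rw [map_smul, map_smul]
    by_cases hψ : ψ ∈ e
    · rw [blockT_truncReg hM e he ψ hψ]
    · rw [if_neg hψ, zero_mul, zero_smul, zero_smul]
  have h2 := congrFun h1 s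
  rw [blockT_apply, truncReg_apply, if_neg hs, one_mul, Finset.sum_apply] at h2
  rw [← h2]
  apply Finset.sum_congr rfl
  intro θ _
  rw [Pi.smul_apply, Pi.smul_apply, truncReg_apply, if_neg hs, one_mul, smul_eq_mul, smul_eq_mul]

theorem regPair_eq_sum (p : ℕ) {H : Type u} [Group H] [Fintype H] (f g : H → ℂ) :
    regPair p f g = ∑ s : H, (if p ∣ orderOf s then (0 : ℂ) else 1) * (f s * conj (g s)) := by
  unfold regPair
  apply Finset.sum_congr rfl
  intro s _
  split_ifs <;> simp

theorem regPair_eq_card_mul_classInner (p : ℕ) {H : Type u} [Group H] [Fintype H] (f g : H → ℂ) :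
    regPair p f g = (Nat.card H : ℂ) * classInner (truncReg p f) g := by
  classical
  rw [classInner_apply, regPair_eq_sum]
  have hHC : (Nat.card H : ℂ) ≠ 0 := card_ne_zero_complex _
  rw [← mul_assoc, mul_inv_cancel₀ hHC, one_mul]
  apply Finset.sum_congr rfl
  intro s _
  rw [truncReg_apply]
  ring

section main

variable {p : ℕ} [hpf : Fact p.Prime]

open Classical in
/-- The block parts of the characters outside `B` vanish on the `p`-regular elements. -/
theorem secPart_eq_zero (hM : IsPModular p M) (z : G) (k : ℕ) (hz : orderOf z = p ^ k)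
    (H : Subgroup G) [Fintype H] (hH : H = Subgroup.centralizer ({z} : Set G))
    (B : Set (IrrCharacter G)) (e : Set (IrrCharacter H)) (hind : IsInducedBlock M H e B)
    (χ : IrrCharacter G) (hχ : χ ∉ B) (s : H) (hs : ¬ p ∣ orderOf s) :
    secPart H e z χ s = 0 := by
  subst hH
  haveI hMp := isPrime_of_isPModular hM
  have hMtop : M ≠ ⊤ := hM.2.1.ne_top
  obtain ⟨he, hB, hcc⟩ := id hind
  rw [secPart_def, blockPart_apply]
  apply second_main_char hM z k hz (blockOf M (χ : G → ℂ)) ⟨χ, rfl⟩ χ
    (sameBlock_refl hMtop _) e he _ s hs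
  intro h'
  apply hχ
  rw [isInducedBlock_unique _ e B _ hind h']
  exact sameBlock_refl hMtop _

theorem isPBlock_closed {H : Type u} [Group H] [Fintype H] [hMp : M.IsPrime]
    (e : Set (IrrCharacter H)) (he : IsPBlock M e) :
    ∀ θ ∈ e, blockOf M (θ : H → ℂ) ⊆ e := by
  obtain ⟨ξ₀, hξ₀⟩ := he
  intro θ hθ ψ hψ
  rw [hξ₀] at hθ ⊢
  exact sameBlock_trans hθ hψ

open Classical in
/-- Parseval's identity for the block parts on a subsection. -/
theorem sum_secPart_mul (hM : IsPModular p M) (z : G) (k : ℕ) (hz : orderOf z = p ^ k)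
    (H : Subgroup G) [Fintype H] (hH : H = Subgroup.centralizer ({z} : Set G))
    (e : Set (IrrCharacter H)) (he : IsPBlock M e) (s s' : H) (hs : ¬ p ∣ orderOf s)
    (hs' : ¬ p ∣ orderOf s') :
    ∑ ζ : IrrCharacter G, secPart H e z ζ s * conj (secPart H e z ζ s')
      = ∑ ψ : IrrCharacter H, (if ψ ∈ e then (1 : ℂ) else 0)
          * ((ψ : H → ℂ) s * conj ((ψ : H → ℂ) s')) := by
  subst hH
  haveI hMp := isPrime_of_isPModular hM
  exact sum_part_mul hM z _
    (fun c y hc hy => card_conj_section hpf.out z k hz c y hc hy) e (isPBlock_closed e he)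
    s s' hs hs'

open Classical in
/-- **The contribution matrix is idempotent.** -/
theorem sum_regPair_mul_regPair (hM : IsPModular p M) (z : G) (k : ℕ) (hz : orderOf z = p ^ k)
    (H : Subgroup G) [Fintype H] (hH : H = Subgroup.centralizer ({z} : Set G))
    (e : Set (IrrCharacter H)) (he : IsPBlock M e) (χ η : IrrCharacter G) :
    ∑ ψ : IrrCharacter G, regPair p (secPart H e z χ) (secPart H e z ψ)
        * regPair p (secPart H e z ψ) (secPart H e z η)
      = (Nat.card H : ℂ) * regPair p (secPart H e z χ) (secPart H e z η) := by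
  haveI hMp := isPrime_of_isPModular hM
  obtain ⟨r, hr⟩ : ∃ r : H → ℂ, r = fun s => if p ∣ orderOf s then (0 : ℂ) else 1 := ⟨_, rfl⟩
  have hrapp : ∀ s, r s = if p ∣ orderOf s then (0 : ℂ) else 1 := fun s => by rw [hr]
  obtain ⟨δ, hδ⟩ : ∃ δ : IrrCharacter G → H → ℂ, δ = fun ψ => secPart H e z ψ := ⟨_, rfl⟩
  have hδapp : ∀ ψ, secPart H e z ψ = δ ψ := fun ψ => by rw [hδ]
  simp_rw [hδapp, regPair_eq_sum, ← hrapp]
  -- expand the product
  have e1 : ∀ ψ : IrrCharacter G,
      (∑ s : H, r s * (δ χ s * conj (δ ψ s))) * (∑ s' : H, r s' * (δ ψ s' * conj (δ η s')))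
      = ∑ s : H, ∑ s' : H, (r s * r s' * (δ χ s * conj (δ η s')))
          * (δ ψ s' * conj (δ ψ s)) := by
    intro ψ
    rw [Finset.sum_mul_sum]
    apply Finset.sum_congr rfl
    intro s _
    apply Finset.sum_congr rfl
    intro s' _
    ring
  rw [Finset.sum_congr rfl (fun ψ _ => e1 ψ), Finset.sum_comm]
  have e2 : ∀ s : H, ∑ ψ : IrrCharacter G, ∑ s' : H, (r s * r s' * (δ χ s * conj (δ η s')))
          * (δ ψ s' * conj (δ ψ s))
      = ∑ s' : H, (r s * r s' * (δ χ s * conj (δ η s')))
          * ∑ θ : IrrCharacter H, (if θ ∈ e then (1 : ℂ) else 0)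
            * ((θ : H → ℂ) s' * conj ((θ : H → ℂ) s)) := by
    intro s
    rw [Finset.sum_comm]
    apply Finset.sum_congr rfl
    intro s' _
    rw [← Finset.mul_sum]
    by_cases hs : p ∣ orderOf s
    · rw [hrapp s, if_pos hs]
      simp
    · by_cases hs' : p ∣ orderOf s'
      · rw [hrapp s', if_pos hs']
        simp
      · congr 1
        rw [hδ]
        exact sum_secPart_mul hM z k hz H hH e he s' s hs' hs
  rw [Finset.sum_congr rfl (fun s _ => e2 s), Finset.sum_comm]
  rw [Finset.mul_sum]
  apply Finset.sum_congr rfl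
  intro s' _
  by_cases hs' : p ∣ orderOf s'
  · rw [hrapp s', if_pos hs']
    simp
  · have e3' : ∀ θ : IrrCharacter H, regPair p (δ χ) (θ : H → ℂ)
        = ∑ s : H, r s * (δ χ s * conj ((θ : H → ℂ) s)) := by
      intro θ
      rw [regPair_eq_sum]
      simp_rw [← hrapp]
    have e3 : ∑ s : H, (r s * r s' * (δ χ s * conj (δ η s')))
          * ∑ θ : IrrCharacter H, (if θ ∈ e then (1 : ℂ) else 0)
            * ((θ : H → ℂ) s' * conj ((θ : H → ℂ) s))
        = r s' * conj (δ η s') * ∑ θ : IrrCharacter H, (if θ ∈ e then (1 : ℂ) else 0)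
            * (regPair p (δ χ) (θ : H → ℂ) * (θ : H → ℂ) s') := by
      calc ∑ s : H, (r s * r s' * (δ χ s * conj (δ η s')))
          * ∑ θ : IrrCharacter H, (if θ ∈ e then (1 : ℂ) else 0)
            * ((θ : H → ℂ) s' * conj ((θ : H → ℂ) s))
          = ∑ s : H, ∑ θ : IrrCharacter H, (r s * r s' * (δ χ s * conj (δ η s')))
            * ((if θ ∈ e then (1 : ℂ) else 0)
              * ((θ : H → ℂ) s' * conj ((θ : H → ℂ) s))) := by
            apply Finset.sum_congr rfl
            intro s _
            rw [Finset.mul_sum]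
        _ = ∑ θ : IrrCharacter H, ∑ s : H, (r s * r s' * (δ χ s * conj (δ η s')))
            * ((if θ ∈ e then (1 : ℂ) else 0)
              * ((θ : H → ℂ) s' * conj ((θ : H → ℂ) s))) := Finset.sum_comm
        _ = ∑ θ : IrrCharacter H, r s' * conj (δ η s') * ((if θ ∈ e then (1 : ℂ) else 0)
            * (regPair p (δ χ) (θ : H → ℂ) * (θ : H → ℂ) s')) := by
            apply Finset.sum_congr rfl
            intro θ _
            rw [e3' θ, Finset.sum_mul, Finset.mul_sum, Finset.mul_sum]
            apply Finset.sum_congr rfl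
            intro s _
            ring
        _ = r s' * conj (δ η s') * ∑ θ : IrrCharacter H, (if θ ∈ e then (1 : ℂ) else 0)
            * (regPair p (δ χ) (θ : H → ℂ) * (θ : H → ℂ) s') := by
            rw [Finset.mul_sum]
    rw [e3]
    have e4 : ∑ θ : IrrCharacter H, (if θ ∈ e then (1 : ℂ) else 0)
            * (regPair p (δ χ) (θ : H → ℂ) * (θ : H → ℂ) s')
        = (Nat.card H : ℂ) * δ χ s' := by
      rw [hδ]
      simp only
      rw [secPart_def, ← sum_classInner_truncReg_blockPart hM e (isPBlock_closed e he) _ s' hs',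
        Finset.mul_sum]
      apply Finset.sum_congr rfl
      intro θ _
      rw [regPair_eq_card_mul_classInner]
      ring
    rw [e4]
    ring

open Classical in
/-- **The trace of the contribution matrix.** -/
theorem sum_regPair_self (hM : IsPModular p M) (z : G) (k : ℕ) (hz : orderOf z = p ^ k)
    (H : Subgroup G) [Fintype H] (hH : H = Subgroup.centralizer ({z} : Set G))
    (B : Set (IrrCharacter G)) (e : Set (IrrCharacter H)) (hind : IsInducedBlock M H e B) :
    ∑ χ : IrrCharacter G, (if χ ∈ B then (1 : ℂ) else 0)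
        * regPair p (secPart H e z χ) (secPart H e z χ)
      = (Nat.card H : ℂ) * (blockRank p e : ℂ) := by
  have hzc' : ∀ g ∈ H, g * z = z * g := by
    intro g hg
    rw [hH, Subgroup.mem_centralizer_iff] at hg
    exact (hg z rfl).symm
  have hzc : ∀ c : H, (c : G) * z = z * (c : G) := fun c => hzc' c.1 c.2
  rw [← sum_subsection_norms hM z k hz H hH B e hind, finsum_mem_set_eq_sum_ite]
  apply Finset.sum_congr rfl
  intro χ _
  congr 1
  rw [finsum_eq_sum_of_fintype, regPair_eq_sum]
  apply Finset.sum_congr rfl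
  intro s _
  rw [blockPart_inv_shift H e z hzc χ s, pRegularPart_eq_truncReg, truncReg_apply, secPart_def]
  ring

open Classical in
/-- **The sum of the squared absolute values of the contributions.** -/
theorem sum_regPair_normSq (hM : IsPModular p M) (z : G) (k : ℕ) (hz : orderOf z = p ^ k)
    (H : Subgroup G) [Fintype H] (hH : H = Subgroup.centralizer ({z} : Set G))
    (B : Set (IrrCharacter G)) (e : Set (IrrCharacter H)) (hind : IsInducedBlock M H e B) :
    ∑ χ : IrrCharacter G, ∑ ψ : IrrCharacter G,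
        (if χ ∈ B then (1 : ℂ) else 0) * ((if ψ ∈ B then (1 : ℂ) else 0)
          * (regPair p (secPart H e z χ) (secPart H e z ψ)
            * conj (regPair p (secPart H e z χ) (secPart H e z ψ))))
      = (Nat.card H : ℂ) * ((Nat.card H : ℂ) * (blockRank p e : ℂ)) := by
  have he : IsPBlock M e := hind.1
  rw [← sum_regPair_self hM z k hz H hH B e hind, Finset.mul_sum]
  apply Finset.sum_congr rfl
  intro χ _
  rw [← Finset.mul_sum, mul_left_comm]
  congr 1
  rw [← sum_regPair_mul_regPair hM z k hz H hH e he χ χ]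
  apply Finset.sum_congr rfl
  intro ψ _
  rw [regPair_conj]
  by_cases hψ : ψ ∈ B
  · rw [if_pos hψ, one_mul]
  · rw [if_neg hψ, zero_mul]
    have h0 : regPair p (secPart H e z χ) (secPart H e z ψ) = 0 := by
      rw [regPair_eq_sum]
      apply Finset.sum_eq_zero
      intro s _
      by_cases hs : p ∣ orderOf s
      · rw [if_pos hs, zero_mul]
      · rw [secPart_eq_zero hM z k hz H hH B e hind ψ hψ s hs, map_zero, mul_zero, mul_zero]
    rw [h0, zero_mul]

end main

end Cfsg.Agent.Lib.helper3.Contrib
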