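import Mathlib
import Cfsg.Prelude.Def_Blocks
import Cfsg.Agent.Lib.helper3.PrincIdem3
import Cfsg.Agent.Lib.helper3.HeightZero5
import Cfsg.Agent.Lib.helper3.SecMain13

/-!
# The number of characters in a block, and real characters of odd degree

* `card_block_le`: a block has at most `p^(2a)` irreducible characters, `p^a` the order of a
  Sylow `p`-subgroup.
* `mem_principalBlock_of_real_of_odd`: a real-valued irreducible character of odd degree lies in
  the principal `2`-block.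
-/

set_option autoImplicit false
set_option linter.style.haveILetI false
set_option linter.unusedSectionVars false

namespace Cfsg.Agent.Lib.helper3.Block

open Cfsg Module Cfsg.Agent.Lib.helper3.CharBasic Cfsg.Agent.Lib.helper3.Irr
open Cfsg.Agent.Lib.helper3.Central Cfsg.Agent.Lib.helper3.LocalM Cfsg.Agent.Lib.helper3.IndFun
open Cfsg.Agent.Lib.helper3.Lin Cfsg.Agent.Lib.helper3.HallNilp
open scoped ComplexConjugate

universe u

variable {G : Type u} [Group G] [Fintype G] {M : Ideal AlgInt}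

open Classical in
/-- A `p`-block contains at most `p^(2a)` irreducible characters. -/
theorem card_block_le {p : ℕ} [hp : Fact p.Prime] (hM : IsPModular p M)
    (B : Set (IrrCharacter G)) (hB : IsPBlock M B) (Bf : Finset (IrrCharacter G))
    (hBf : ∀ χ ∈ Bf, χ ∈ B) : Bf.card ≤ p ^ (2 * (Nat.card G).factorization p) := by
  haveI hMp := isPrime_of_isPModular hM
  have hMtop : M ≠ ⊤ := hM.2.1.ne_top
  obtain ⟨χ₁, hB'⟩ := id hB
  have hχ₁B : χ₁ ∈ B := by
    rw [hB']
    exact sameBlock_refl hMtop _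
  obtain ⟨χ, hχ, hht⟩ := exists_minExp (p := p) ⟨χ₁, hχ₁B⟩
  obtain ⟨a, ha⟩ : ∃ a : ℕ, a = (Nat.card G).factorization p := ⟨_, rfl⟩
  rw [← ha]
  obtain ⟨z, hz1, hz2, hz3⟩ := exists_regZ p χ
  obtain ⟨n', hn'⟩ : ∃ n' : ℕ, n' = ordCompl[p] (Nat.card G) := ⟨_, rfl⟩
  rw [← hn'] at hz2
  rw [← ha] at hz3 hz1
  have hunits := exists_unit_quot_of_height_zero hM B hB χ hχ hht n' hn' z hz2
    (by rw [← ha]; exact hz3)
  have hz0 : ∀ ξ ∈ B, z ξ ≠ 0 := by
    intro ξ hξ h0
    obtain ⟨w, hw, hpw⟩ := hunits ξ hξ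
    rw [h0, mul_zero] at hw
    have hd : ((charDegree (ξ : G → ℂ) : ℕ) : ℤ) ≠ 0 := by
      exact_mod_cast charDegree_ne_zero ξ
    rcases mul_eq_zero.mp hw.symm with h | h
    · exact hd h
    · apply hpw
      rw [h]
      exact dvd_zero _
  obtain ⟨Φ, hΦ⟩ : ∃ Φ : G → ℂ, Φ = fun y : G => if p ∣ orderOf y then (0 : ℂ)
      else ((p ^ a : ℕ) : ℂ) * (χ : G → ℂ) y := ⟨_, rfl⟩
  have hΦdec : Φ = ∑ ξ : IrrCharacter G, (z ξ : ℂ) • (ξ : G → ℂ) := by
    funext y
    rw [hΦ]
    beta_reduce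
    rw [hz3 y, Finset.sum_apply]
    apply Finset.sum_congr rfl
    intro ξ _
    rw [Pi.smul_apply, smul_eq_mul]
  have hnorm1 : classInner Φ Φ = ((∑ ξ : IrrCharacter G, (z ξ) ^ 2 : ℤ) : ℂ) := by
    rw [hΦdec, classInner_decomposition]
    push_cast
    apply Finset.sum_congr rfl
    intro ξ _
    rw [map_intCast]
    ring
  have hGC : (Nat.card G : ℂ) ≠ 0 := card_ne_zero_complex G
  have hGR : (0 : ℝ) < (Nat.card G : ℝ) := by exact_mod_cast Nat.card_pos
  obtain ⟨r, hr⟩ : ∃ r : ℝ, r = (Nat.card G : ℝ)⁻¹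
      * ∑ g : G, (if p ∣ orderOf g then (0 : ℝ) else Complex.normSq ((χ : G → ℂ) g)) := ⟨_, rfl⟩
  have hnorm2 : classInner Φ Φ = (((((p ^ a : ℕ) : ℝ) ^ 2 * r : ℝ)) : ℂ) := by
    rw [classInner_apply, hΦ, hr]
    push_cast
    rw [Finset.mul_sum, Finset.mul_sum, Finset.mul_sum]
    apply Finset.sum_congr rfl
    intro g _
    by_cases hg : p ∣ orderOf g
    · rw [if_pos hg, if_pos hg]
      simp
    · rw [if_neg hg, if_neg hg, Complex.normSq_eq_conj_mul_self]
      simp only [map_mul, map_pow, map_natCast]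
      ring
  have hone : (1 : ℂ) = (((Nat.card G : ℝ)⁻¹
      * ∑ g : G, Complex.normSq ((χ : G → ℂ) g) : ℝ) : ℂ) := by
    rw [← irr_classInner_self χ.2, classInner_apply]
    push_cast
    congr 1
    apply Finset.sum_congr rfl
    intro g _
    rw [Complex.normSq_eq_conj_mul_self]
    ring
  have hone' : (1 : ℝ) = (Nat.card G : ℝ)⁻¹ * ∑ g : G, Complex.normSq ((χ : G → ℂ) g) := by
    exact_mod_cast hone
  have hle : r ≤ 1 := by
    rw [hone', hr]
    apply mul_le_mul_of_nonneg_left _ (inv_nonneg.mpr hGR.le)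
    apply Finset.sum_le_sum
    intro g _
    split_ifs
    · exact Complex.normSq_nonneg _
    · exact le_rfl
  have hsumR : ((∑ ξ : IrrCharacter G, (z ξ) ^ 2 : ℤ) : ℝ) ≤ ((p ^ a : ℕ) : ℝ) ^ 2 := by
    have h1 : (((∑ ξ : IrrCharacter G, (z ξ) ^ 2 : ℤ) : ℝ) : ℂ)
        = (((((p ^ a : ℕ) : ℝ) ^ 2 * r : ℝ)) : ℂ) := by
      rw [← hnorm2, hnorm1]
      push_cast
      rfl
    have h2 := Complex.ofReal_injective h1
    rw [h2]
    calc ((p ^ a : ℕ) : ℝ) ^ 2 * r
        ≤ ((p ^ a : ℕ) : ℝ) ^ 2 * 1 := mul_le_mul_of_nonneg_left hle (sq_nonneg _)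
      _ = ((p ^ a : ℕ) : ℝ) ^ 2 := mul_one _
  have hsumZ : (∑ ξ : IrrCharacter G, (z ξ) ^ 2 : ℤ) ≤ ((p ^ (2 * a) : ℕ) : ℤ) := by
    have : ((∑ ξ : IrrCharacter G, (z ξ) ^ 2 : ℤ) : ℝ) ≤ (((p ^ (2 * a) : ℕ) : ℤ) : ℝ) := by
      refine le_trans hsumR (le_of_eq ?_)
      push_cast
      ring
    exact_mod_cast this
  have hcard : (Bf.card : ℤ) ≤ ∑ ξ : IrrCharacter G, (z ξ) ^ 2 := by
    calc (Bf.card : ℤ) = ∑ ξ ∈ Bf, (1 : ℤ) := by simp
      _ ≤ ∑ ξ ∈ Bf, (z ξ) ^ 2 := by
          apply Finset.sum_le_sum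
          intro ξ hξ
          have h0 := hz0 ξ (hBf ξ hξ)
          have : 0 < (z ξ) ^ 2 := by positivity
          omega
      _ ≤ ∑ ξ : IrrCharacter G, (z ξ) ^ 2 := by
          apply Finset.sum_le_sum_of_subset_of_nonneg (Finset.subset_univ _)
          intro ξ _ _
          positivity
  have := le_trans hcard hsumZ
  exact_mod_cast this

open Classical in
/-- A sum over a set of group elements closed under inversion and without involutions, of a
function invariant under inversion, is twice a partial sum. -/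
theorem exists_sum_eq_two_mul (T : Finset G) (hT : ∀ g ∈ T, g⁻¹ ∈ T) (hne : ∀ g ∈ T, g⁻¹ ≠ g)
    (f : G → ℂ) (hf : ∀ g, f g⁻¹ = f g) :
    ∃ S : Finset G, ∑ g ∈ T, f g = 2 * ∑ g ∈ S, f g := by
  obtain ⟨e⟩ : Nonempty (G ≃ Fin (Fintype.card G)) := ⟨Fintype.equivFin G⟩
  refine ⟨T.filter (fun g => e g < e g⁻¹), ?_⟩
  rw [← Finset.sum_filter_add_sum_filter_not T (fun g => e g < e g⁻¹), two_mul]
  congr 1
  apply Finset.sum_nbij' (fun g => g⁻¹) (fun g => g⁻¹)
  · intro g hg
    rw [Finset.mem_filter] at hg ⊢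
    refine ⟨hT g hg.1, ?_⟩
    rw [inv_inv]
    have h1 : e g ≠ e g⁻¹ := fun h => hne g hg.1 (e.injective h).symm
    have h2 := hg.2
    omega
  · intro g hg
    rw [Finset.mem_filter] at hg ⊢
    refine ⟨hT g hg.1, ?_⟩
    rw [inv_inv]
    have h2 := hg.2
    omega
  · intro g _
    exact inv_inv g
  · intro g _
    exact inv_inv g
  · intro g _
    exact (hf g).symm

open Classical in
/-- A real-valued irreducible character of odd degree lies in the principal `2`-block. -/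
theorem mem_principalBlock_of_real_of_odd (hM : IsPModular 2 M) (χ : IrrCharacter G)
    (hreal : ∀ g : G, ((χ : G → ℂ) g).im = 0) (hodd : Odd (charDegree (χ : G → ℂ))) :
    χ ∈ principalBlock M G := by
  haveI hMp := isPrime_of_isPModular hM
  have hMtop : M ≠ ⊤ := hM.2.1.ne_top
  have hχc := isCharacter_of_isIrrCharacter χ.2
  apply mem_principalBlock_of_regOmega hM χ
  have hd0 : ((charDegree (χ : G → ℂ) : ℕ) : ℂ) ≠ 0 := by
    exact_mod_cast charDegree_ne_zero χ
  have hinv : ∀ g : G, (χ : G → ℂ) g⁻¹ = (χ : G → ℂ) g := by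
    intro g
    rw [isCharacter_apply_inv hχc]
    exact Complex.conj_eq_iff_im.mpr (hreal g)
  obtain ⟨T, hTdef⟩ : ∃ T : Finset G, T = Finset.univ.filter
      (fun g : G => ¬ 2 ∣ orderOf g ∧ g ≠ 1) := ⟨_, rfl⟩
  have hTinv : ∀ g ∈ T, g⁻¹ ∈ T := by
    intro g hg
    rw [hTdef, Finset.mem_filter] at hg ⊢
    refine ⟨Finset.mem_univ _, ?_, ?_⟩
    · rw [orderOf_inv]
      exact hg.2.1
    · intro h
      exact hg.2.2 (inv_eq_one.mp h)
  have hTne : ∀ g ∈ T, g⁻¹ ≠ g := by
    intro g hg h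
    rw [hTdef, Finset.mem_filter] at hg
    have h1 : g ^ 2 = 1 := by
      rw [pow_two]
      nth_rewrite 1 [← h]
      exact inv_mul_cancel g
    have h2 := orderOf_dvd_of_pow_eq_one h1
    rcases (Nat.dvd_prime Nat.prime_two).mp h2 with h3 | h3
    · exact hg.2.2 (orderOf_eq_one_iff.mp h3)
    · apply hg.2.1
      rw [h3]
  obtain ⟨S, hS⟩ := exists_sum_eq_two_mul T hTinv hTne (χ : G → ℂ) hinv
  have hsplit : ∑ g : G, (if 2 ∣ orderOf g then (0 : ℂ) else 1) * (χ : G → ℂ) g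
      = (χ : G → ℂ) 1 + ∑ g ∈ T, (χ : G → ℂ) g := by
    have h1 : ∀ g : G, (if 2 ∣ orderOf g then (0 : ℂ) else 1) * (χ : G → ℂ) g
        = (if g = 1 then (χ : G → ℂ) 1 else 0)
          + (if ¬ 2 ∣ orderOf g ∧ g ≠ 1 then (χ : G → ℂ) g else 0) := by
      intro g
      by_cases hg1 : g = 1
      · subst hg1
        rw [orderOf_one, if_neg (by norm_num), one_mul, if_pos rfl, if_neg (by simp), add_zero]
      · rw [if_neg hg1, zero_add]
        by_cases h2 : 2 ∣ orderOf g
        · rw [if_pos h2, if_neg (by tauto), zero_mul]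
        · rw [if_neg h2, if_pos ⟨h2, hg1⟩, one_mul]
    rw [Finset.sum_congr rfl (fun g _ => h1 g), Finset.sum_add_distrib,
      Finset.sum_ite_eq' Finset.univ (1 : G), if_pos (Finset.mem_univ _), hTdef,
      Finset.sum_filter]
  have hreg : regOmega 2 (χ : G → ℂ) = 1 + 2 * ((∑ g ∈ S, (χ : G → ℂ) g)
      / ((charDegree (χ : G → ℂ) : ℕ) : ℂ)) := by
    unfold regOmega
    have : ∑ g : G, (if 2 ∣ orderOf g then (0 : ℂ) else 1)
        * ((χ : G → ℂ) g / (χ : G → ℂ) 1)
        = (∑ g : G, (if 2 ∣ orderOf g then (0 : ℂ) else 1) * (χ : G → ℂ) g)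
          / (χ : G → ℂ) 1 := by
      rw [Finset.sum_div]
      apply Finset.sum_congr rfl
      intro g _
      ring
    rw [this, hsplit, hS, apply_one_eq_charDegree]
    field_simp
  intro hmem
  have hlocS : MemLocalRing M ((∑ g ∈ S, (χ : G → ℂ) g)
      / ((charDegree (χ : G → ℂ) : ℕ) : ℂ)) := by
    have h1 : MemLocalRing M (∑ g ∈ S, (χ : G → ℂ) g) :=
      memLocalRing_of_integral (IsIntegral.sum _ (fun g _ => isIntegral_of_isCharacter hχc g))
    have h2 : MemLocalRing M ((1 : ℂ) / ((charDegree (χ : G → ℂ) : ℕ) : ℂ)) := by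
      have := memLocalRing_natCast_div hM 1 (charDegree (χ : G → ℂ)) one_ne_zero
        (charDegree_ne_zero χ) (by
          rw [Nat.factorization_eq_zero_of_not_dvd]
          · exact Nat.zero_le _
          · intro hdvd
            exact (Nat.not_even_iff_odd.mpr hodd) (even_iff_two_dvd.mpr hdvd))
      simpa using this
    have := memLocalRing_mul h1 h2
    convert this using 1
    ring
  have h2M : MemLocalIdeal M (2 : ℂ) := by
    have h2 : ((2 : ℕ) : AlgInt) ∈ M := (natCast_mem_iff hM 2).2 dvd_rfl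
    have := memLocalIdeal_of_mem h2 hMtop
    convert this using 1
    push_cast
    rfl
  have h3 : MemLocalIdeal M (2 * ((∑ g ∈ S, (χ : G → ℂ) g)
      / ((charDegree (χ : G → ℂ) : ℕ) : ℂ))) := by
    have := memLocalIdeal_mul_localRing hlocS h2M
    convert this using 1
    ring
  rw [hreg] at hmem
  have h4 := memLocalIdeal_sub hmem h3
  rw [add_sub_cancel_right] at h4
  exact not_memLocalIdeal_one h4

end Cfsg.Agent.Lib.helper3.Block
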