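import Mathlib
import Cfsg.Prelude.Def_Blocks
import Cfsg.Agent.Lib.helper3.BlockCount
import Cfsg.Agent.Lib.helper3.BlockCount2

/-!
# The weighted Brauer–Feit bound `∑ p^(2h) ≤ p^(2d)/4 + 1`
-/

set_option autoImplicit false
set_option linter.style.haveILetI false
set_option linter.unusedSectionVars false

namespace Cfsg.Agent.Lib.helper3.Block

open Cfsg Module Cfsg.Agent.Lib.helper3.CharBasic Cfsg.Agent.Lib.helper3.Irr
open Cfsg.Agent.Lib.helper3.Central Cfsg.Agent.Lib.helper3.LocalM Cfsg.Agent.Lib.helper3.IndFun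
open Cfsg.Agent.Lib.helper3.Lin Cfsg.Agent.Lib.helper3.HallNilp
open scoped ComplexConjugate

universe u

variable {G : Type u} [Group G] [Fintype G] {M : Ideal AlgInt}

open Classical in
/-- The weighted Brauer–Feit bound. -/
theorem four_mul_sum_height_le {p : ℕ} [hp : Fact p.Prime] (hM : IsPModular p M)
    (B : Set (IrrCharacter G)) (hB : IsPBlock M B) (Bf : Finset (IrrCharacter G))
    (hBf : ∀ χ ∈ Bf, χ ∈ B) :
    4 * ∑ ξ ∈ Bf, p ^ (2 * blockHeight p B (ξ : G → ℂ)) ≤ p ^ (2 * blockDefect p B) + 4 := by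
  haveI hMp := isPrime_of_isPModular hM
  have hMtop : M ≠ ⊤ := hM.2.1.ne_top
  obtain ⟨χ₁, hB'⟩ := id hB
  have hχ₁B : χ₁ ∈ B := by
    rw [hB']
    exact sameBlock_refl hMtop _
  obtain ⟨χ, hχ, hht⟩ := exists_minExp (p := p) ⟨χ₁, hχ₁B⟩
  obtain ⟨a, ha⟩ : ∃ a : ℕ, a = (Nat.card G).factorization p := ⟨_, rfl⟩
  obtain ⟨s, hs⟩ : ∃ s : ℕ, s = minExp p B := ⟨_, rfl⟩
  have hsa : s ≤ a := by
    rw [hs, ha]
    exact minExp_le_factorization_card hχ
  have hd : blockDefect p B = a - s := by rw [blockDefect_eq, ← ha, ← hs]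
  obtain ⟨z, hz1, hz2, hz3⟩ := exists_regZ p χ
  obtain ⟨n', hn'⟩ : ∃ n' : ℕ, n' = ordCompl[p] (Nat.card G) := ⟨_, rfl⟩
  have hpn' : ¬ p ∣ n' := by
    rw [hn']
    exact Nat.not_dvd_ordCompl hp.out Nat.card_pos.ne'
  rw [← hn'] at hz2
  rw [← ha] at hz3 hz1
  have hunits := exists_unit_quot_of_height_zero hM B hB χ hχ hht n' hn' z hz2
    (by rw [← ha]; exact hz3)
  have hy : ∀ ξ ∈ B, ∃ y : ℤ, z ξ = (p : ℤ) ^ s * y ∧ y ≠ 0 ∧
      (p : ℤ) ^ (blockHeight p B (ξ : G → ℂ)) ∣ y := by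
    intro ξ hξ
    obtain ⟨w, hw, hpw⟩ := hunits ξ hξ
    obtain ⟨e, he⟩ : ∃ e : ℕ, e = (charDegree (ξ : G → ℂ)).factorization p := ⟨_, rfl⟩
    have hse : s ≤ e := by
      rw [hs, he]
      exact minExp_le hξ
    have hht' : blockHeight p B (ξ : G → ℂ) = e - s := by
      rw [blockHeight_eq, ← he, ← hs]
    have h1 : (p : ℤ) ^ e ∣ ((charDegree (ξ : G → ℂ) : ℕ) : ℤ) := by
      have : p ^ e ∣ charDegree (ξ : G → ℂ) := by
        rw [he]
        exact Nat.ordProj_dvd _ p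
      exact_mod_cast this
    have h2 : (p : ℤ) ^ e ∣ z ξ * (n' : ℤ) := by
      rw [mul_comm, hw]
      exact Dvd.dvd.mul_right h1 w
    have hcop : IsCoprime ((p : ℤ) ^ e) (n' : ℤ) := by
      apply IsCoprime.pow_left
      exact Nat.isCoprime_iff_coprime.mpr ((Nat.Prime.coprime_iff_not_dvd hp.out).mpr hpn')
    obtain ⟨y', hy'⟩ := hcop.dvd_of_dvd_mul_right h2
    have hes : e = s + (e - s) := by omega
    refine ⟨(p : ℤ) ^ (e - s) * y', ?_, ?_, ?_⟩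
    · rw [hy']
      conv_lhs => rw [hes]
      ring
    · intro h0
      have hz0 : z ξ = 0 := by
        rw [hy']
        rcases mul_eq_zero.mp h0 with h | h
        · exfalso
          have : (p : ℤ) ≠ 0 := by exact_mod_cast hp.out.ne_zero
          exact pow_ne_zero _ this h
        · rw [h, mul_zero]
      rw [hz0, mul_zero] at hw
      have hd0 : ((charDegree (ξ : G → ℂ) : ℕ) : ℤ) ≠ 0 := by
        exact_mod_cast charDegree_ne_zero ξ
      rcases mul_eq_zero.mp hw.symm with h | h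
      · exact hd0 h
      · apply hpw
        rw [h]
        exact dvd_zero _
    · rw [hht']
      exact Dvd.intro _ rfl
  choose! y hy1 hy2 hy3 using hy
  obtain ⟨Φ, hΦ⟩ : ∃ Φ : G → ℂ, Φ = fun y : G => if p ∣ orderOf y then (0 : ℂ)
      else ((p ^ a : ℕ) : ℂ) * (χ : G → ℂ) y := ⟨_, rfl⟩
  have hΦdec : Φ = ∑ ξ : IrrCharacter G, (z ξ : ℂ) • (ξ : G → ℂ) := by
    funext y
    rw [hΦ]
    beta_reduce
    rw [hz3 y, Finset.sum_apply]
    apply Finset.sum_congr rfl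
    intro ξ _
    rw [Pi.smul_apply, smul_eq_mul]
  have hnorm1 : classInner Φ Φ = ((∑ ξ : IrrCharacter G, (z ξ) ^ 2 : ℤ) : ℂ) := by
    rw [hΦdec, classInner_decomposition]
    push_cast
    apply Finset.sum_congr rfl
    intro ξ _
    rw [map_intCast]
    ring
  have hnorm2 : classInner Φ Φ = ((p ^ a : ℕ) : ℂ) * (z χ : ℂ) := by
    have h1 : classInner Φ Φ = ((p ^ a : ℕ) : ℂ) * classInner Φ (χ : G → ℂ) := by
      rw [classInner_apply, classInner_apply]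
      have h2 : ∑ g : G, Φ g * (starRingEnd ℂ) (Φ g)
          = ((p ^ a : ℕ) : ℂ) * ∑ g : G, Φ g * (starRingEnd ℂ) ((χ : G → ℂ) g) := by
        rw [Finset.mul_sum]
        apply Finset.sum_congr rfl
        intro g _
        rw [hΦ]
        beta_reduce
        by_cases hg : p ∣ orderOf g
        · rw [if_pos hg]
          simp
        · rw [if_neg hg, map_mul, map_natCast]
          ring
      rw [h2]
      ring
    rw [h1, hΦ, hz1 χ]
  have hsumZ : (∑ ξ : IrrCharacter G, (z ξ) ^ 2 : ℤ) = (p : ℤ) ^ a * z χ := by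
    have : ((∑ ξ : IrrCharacter G, (z ξ) ^ 2 : ℤ) : ℂ) = (((p : ℤ) ^ a * z χ : ℤ) : ℂ) := by
      rw [← hnorm1, hnorm2]
      push_cast
      rfl
    exact_mod_cast this
  -- enlarge the finset by `χ`
  obtain ⟨Bf', hBf'⟩ : ∃ Bf' : Finset (IrrCharacter G), Bf' = insert χ Bf := ⟨_, rfl⟩
  have hBf'B : ∀ ξ ∈ Bf', ξ ∈ B := by
    intro ξ hξ
    rw [hBf', Finset.mem_insert] at hξ
    rcases hξ with rfl | hξ
    · exact hχ
    · exact hBf ξ hξ
  have hcardle : Bf.card ≤ Bf'.card := by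
    rw [hBf']
    exact Finset.card_le_card (Finset.subset_insert _ _)
  have hχBf' : χ ∈ Bf' := by
    rw [hBf']
    exact Finset.mem_insert_self _ _
  have hpspos : (0 : ℤ) < (p : ℤ) ^ s := by
    have : 0 < p := hp.out.pos
    positivity
  have hsum1 : (p : ℤ) ^ (2 * s) * ∑ ξ ∈ Bf', (y ξ) ^ 2 ≤ (p : ℤ) ^ a * z χ := by
    rw [← hsumZ, Finset.mul_sum]
    calc ∑ ξ ∈ Bf', (p : ℤ) ^ (2 * s) * (y ξ) ^ 2 = ∑ ξ ∈ Bf', (z ξ) ^ 2 := by
          apply Finset.sum_congr rfl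
          intro ξ hξ
          rw [hy1 ξ (hBf'B ξ hξ)]
          ring
      _ ≤ ∑ ξ : IrrCharacter G, (z ξ) ^ 2 := by
          apply Finset.sum_le_sum_of_subset_of_nonneg (Finset.subset_univ _)
          intro ξ _ _
          positivity
  have hzχ : z χ = (p : ℤ) ^ s * y χ := hy1 χ hχ
  have hsum2 : ∑ ξ ∈ Bf', (y ξ) ^ 2 ≤ (p : ℤ) ^ (a - s) * y χ := by
    have h1 : (p : ℤ) ^ a * z χ = (p : ℤ) ^ (2 * s) * ((p : ℤ) ^ (a - s) * y χ) := by
      rw [hzχ]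
      have : a = (a - s) + s := by omega
      conv_lhs => rw [this]
      ring
    rw [h1] at hsum1
    have hpos : (0 : ℤ) < (p : ℤ) ^ (2 * s) := by
      have : 0 < p := hp.out.pos
      positivity
    exact le_of_mul_le_mul_left hsum1 hpos
  have hhχ : blockHeight p B (χ : G → ℂ) = 0 := by
    rw [blockHeight_eq, hht, Nat.sub_self]
  have hterm : ∀ ξ ∈ B, ((p : ℤ) ^ (2 * blockHeight p B (ξ : G → ℂ))) ≤ (y ξ) ^ 2 := by
    intro ξ hξ
    obtain ⟨c, hc⟩ := hy3 ξ hξ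
    have hc0 : c ≠ 0 := by
      rintro rfl
      rw [mul_zero] at hc
      exact hy2 ξ hξ hc
    have hc1 : 1 ≤ c ^ 2 := by
      have : 0 < c ^ 2 := by positivity
      omega
    rw [hc, mul_pow, ← pow_mul, mul_comm (blockHeight p B (ξ : G → ℂ)) 2]
    have hpos : (0 : ℤ) ≤ (p : ℤ) ^ (2 * blockHeight p B (ξ : G → ℂ)) := by positivity
    nlinarith
  have hsum3 : (∑ ξ ∈ Bf', (p : ℤ) ^ (2 * blockHeight p B (ξ : G → ℂ))) - 1 + (y χ) ^ 2
      ≤ ∑ ξ ∈ Bf', (y ξ) ^ 2 := by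
    rw [← Finset.add_sum_erase Bf' (fun ξ => (y ξ) ^ 2) hχBf', ← Finset.add_sum_erase Bf'
      (fun ξ => (p : ℤ) ^ (2 * blockHeight p B (ξ : G → ℂ))) hχBf']
    have h1 : ∑ ξ ∈ Bf'.erase χ, (p : ℤ) ^ (2 * blockHeight p B (ξ : G → ℂ))
        ≤ ∑ ξ ∈ Bf'.erase χ, (y ξ) ^ 2 := by
      apply Finset.sum_le_sum
      intro ξ hξ
      exact hterm ξ (hBf'B ξ (Finset.mem_of_mem_erase hξ))
    rw [hhχ, mul_zero, pow_zero]
    linarith
  obtain ⟨Pd, hPd⟩ : ∃ Pd : ℤ, Pd = (p : ℤ) ^ (a - s) := ⟨_, rfl⟩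
  rw [← hPd] at hsum2
  have hfinal : 4 * (∑ ξ ∈ Bf', (p : ℤ) ^ (2 * blockHeight p B (ξ : G → ℂ))) ≤ Pd ^ 2 + 4 := by
    nlinarith [sq_nonneg (Pd - 2 * y χ)]
  have hle : ∑ ξ ∈ Bf, (p : ℤ) ^ (2 * blockHeight p B (ξ : G → ℂ))
      ≤ ∑ ξ ∈ Bf', (p : ℤ) ^ (2 * blockHeight p B (ξ : G → ℂ)) := by
    apply Finset.sum_le_sum_of_subset_of_nonneg
    · rw [hBf']
      exact Finset.subset_insert _ _
    · intro ξ _ _
      positivity
  have hfinal' : ((4 * ∑ ξ ∈ Bf, p ^ (2 * blockHeight p B (ξ : G → ℂ)) : ℕ) : ℤ)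
      ≤ ((p ^ (2 * blockDefect p B) + 4 : ℕ) : ℤ) := by
    rw [hd]
    push_cast
    have h1 : (p : ℤ) ^ (2 * (a - s)) = Pd ^ 2 := by
      rw [hPd]
      ring
    rw [h1]
    linarith
  exact_mod_cast hfinal'

end Cfsg.Agent.Lib.helper3.Block
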