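import Mathlib
import Cfsg.Prelude.Def_Blocks
import Cfsg.Prelude.Def_BlockRank
import Cfsg.Agent.Lib.helper3.RankDefect
import Cfsg.Agent.Lib.helper3.BlockIdem2
import Cfsg.Agent.S4669

/-!
# The `p`-regular rank of a block and blocks of defect zero, II
-/

set_option autoImplicit false
set_option linter.style.haveILetI false
set_option linter.unusedSectionVars false

namespace Cfsg.Agent.Lib.helper3.Block

open Cfsg Cfsg.Agent.Lib.helper3.LocalM Cfsg.Agent.Lib.helper3.CharBasic
open Cfsg.Agent.Lib.helper3.Irr Cfsg.Agent.Lib.helper3.IndFun Cfsg.Agent.Lib.helper3.Central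
open scoped ComplexConjugate

variable {G : Type*} [Group G] [Fintype G] {M : Ideal AlgInt}

/-- A character vanishing on the `p`-singular elements has degree divisible by the full power of
`p`. -/
theorem pow_dvd_degree_of_vanish (p : ℕ) [hp : Fact p.Prime] {χ : G → ℂ} (hχ : IsCharacter G χ)
    (d : ℕ) (hd : χ 1 = d) (hv : ∀ g : G, p ∣ orderOf g → χ g = 0) :
    p ^ (Nat.card G).factorization p ∣ d := by
  classical
  obtain ⟨P⟩ : Nonempty (Sylow p G) := inferInstance
  haveI : Fintype (P : Subgroup G) := Fintype.ofFinite _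
  have hψ : IsCharacter (P : Subgroup G) (fun x : (P : Subgroup G) => χ x) :=
    isCharacter_restrict hχ _
  have h1 : IsCharacter (P : Subgroup G) (fun _ : (P : Subgroup G) => (1 : ℂ)) :=
    isCharacter_of_isIrrCharacter isIrrCharacter_one
  obtain ⟨n, hn⟩ := exists_nat_classInner_of_isCharacter_of_isCharacter hψ h1
  rw [classInner_apply] at hn
  have hsum : ∑ x : (P : Subgroup G), χ x * conj (1 : ℂ) = χ 1 := by
    rw [Finset.sum_eq_single (1 : (P : Subgroup G))]
    · simp
    · intro x _ hx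
      have hx1 : (x : G) ≠ 1 := fun h => hx (Subtype.ext h)
      obtain ⟨k, hk⟩ := (IsPGroup.iff_orderOf.mp P.isPGroup') x
      have hk' : orderOf (x : G) = p ^ k := by rw [Subgroup.orderOf_coe]; exact hk
      have hk0 : k ≠ 0 := by
        intro h0
        rw [h0, pow_zero, orderOf_eq_one_iff] at hk'
        exact hx1 hk'
      rw [hv (x : G) (by rw [hk']; exact dvd_pow_self p hk0), zero_mul]
    · intro h
      exact absurd (Finset.mem_univ _) h
  rw [hsum, hd] at hn
  have hP0 : (Nat.card (P : Subgroup G) : ℂ) ≠ 0 := by exact_mod_cast Nat.card_pos.ne'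
  have h2 : (d : ℂ) = (n : ℂ) * (Nat.card (P : Subgroup G) : ℂ) := by
    rw [← hn]
    field_simp
  have h3 : d = n * Nat.card (P : Subgroup G) := by exact_mod_cast h2
  rw [← Sylow.card_eq_multiplicity P, h3]
  exact Dvd.intro_left n rfl

/-- An irreducible character whose degree is divisible by the full power of `p` vanishes on the
`p`-singular elements. -/
theorem vanish_of_pow_dvd_degree (p : ℕ) [hp : Fact p.Prime] (χ : IrrCharacter G) (d : ℕ)
    (hd : (χ : G → ℂ) 1 = d) (hdvd : p ^ (Nat.card G).factorization p ∣ d) (g : G)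
    (hg : p ∣ orderOf g) : (χ : G → ℂ) g = 0 := by
  obtain ⟨n, ρ, hirr, hρ⟩ := χ.2
  haveI := hirr
  rw [← hρ]
  apply Cfsg.Agent.Lib.helper3.BrauerInd.character_eq_zero_of_defect_zero ρ p ((Nat.card G).factorization p)
    (Nat.pow_succ_factorization_not_dvd Nat.card_pos.ne' hp.out) ?_ g hg
  have h1 : (χ : G → ℂ) 1 = (Module.finrank ℂ (Fin n → ℂ) : ℂ) := by
    rw [← hρ]; exact Representation.char_one ρ
  have h2 : (d : ℂ) = (Module.finrank ℂ (Fin n → ℂ) : ℂ) := by rw [← hd, h1]
  have h3 : d = Module.finrank ℂ (Fin n → ℂ) := by exact_mod_cast h2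
  rw [← h3]
  exact hdvd

end Cfsg.Agent.Lib.helper3.Block

namespace Cfsg.Agent.Lib.helper3.Block

open Cfsg Cfsg.Agent.Lib.helper3.LocalM Cfsg.Agent.Lib.helper3.CharBasic
open Cfsg.Agent.Lib.helper3.Irr Cfsg.Agent.Lib.helper3.IndFun Cfsg.Agent.Lib.helper3.Central

/-- The `p`-regular rank of a block is at most the number of its characters, with equality exactly
for the blocks of defect zero, which consist of a single character. -/
theorem rank_defect {G : Type*} [Group G] [Finite G] (p : ℕ) [hp : Fact p.Prime]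
    (M : Ideal AlgInt) (hM : IsPModular p M) (B : Set (IrrCharacter G)) (hB : IsPBlock M B) :
    blockRank p B ≤ Nat.card B ∧
      (blockDefect p B = 0 ↔ (Nat.card B = 1 ∧ blockRank p B = 1)) ∧
      (blockDefect p B = 0 ↔ Nat.card B = blockRank p B) := by
  classical
  haveI : Fintype G := Fintype.ofFinite G
  haveI hMp := isPrime_of_isPModular hM
  have hMtop : M ≠ ⊤ := hM.2.1.ne_top
  have hBclosed : ∀ θ ∈ B, blockOf M (θ : G → ℂ) ⊆ B := by
    obtain ⟨χ₀, hχ₀⟩ := hB
    intro θ hθ φ hφ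
    rw [hχ₀] at hθ ⊢
    exact sameBlock_trans hθ hφ
  obtain ⟨χ₀, hχ₀B⟩ : ∃ χ₀, χ₀ ∈ B := by
    obtain ⟨χ₀, hχ₀⟩ := hB
    exact ⟨χ₀, by rw [hχ₀]; exact sameBlock_refl hMtop _⟩
  obtain ⟨a, hadef⟩ : ∃ a : ℕ, a = (Nat.card G).factorization p := ⟨_, rfl⟩
  obtain ⟨S, hS⟩ : ∃ S : Set ℕ, S = (fun χ : IrrCharacter G =>
      (charDegree (χ : G → ℂ)).factorization p) '' B := ⟨_, rfl⟩
  have hSne : S.Nonempty := by
    rw [hS]
    exact ⟨_, ⟨χ₀, hχ₀B, rfl⟩⟩
  have hdef : blockDefect p B = a - sInf S := by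
    unfold blockDefect
    rw [hS, hadef]
  have hdeg : ∀ χ : IrrCharacter G, ∃ d : ℕ, (χ : G → ℂ) 1 = d ∧ charDegree (χ : G → ℂ) = d ∧
      0 < d := by
    intro χ
    obtain ⟨d, hd1, -, hdpos⟩ := irr_degree_dvd_card χ.2
    exact ⟨d, hd1, charDegree_eq hd1, hdpos⟩
  have hdef_iff : blockDefect p B = 0 ↔
      ∀ χ ∈ B, ∀ g : G, p ∣ orderOf g → (χ : G → ℂ) g = 0 := by
    rw [hdef]
    constructor
    · intro h χ hχ g hg
      obtain ⟨d, hd1, hd2, hdpos⟩ := hdeg χ
      have h1 : a ≤ sInf S := Nat.sub_eq_zero_iff_le.mp h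
      have h2 : sInf S ≤ (charDegree (χ : G → ℂ)).factorization p := by
        apply Nat.sInf_le
        rw [hS]
        exact ⟨χ, hχ, rfl⟩
      have h3 : p ^ a ∣ d := by
        rw [hp.out.pow_dvd_iff_le_factorization hdpos.ne', ← hd2]
        exact h1.trans h2
      rw [hadef] at h3
      exact vanish_of_pow_dvd_degree p χ d hd1 h3 g hg
    · intro h
      rw [Nat.sub_eq_zero_iff_le]
      have hmem := Nat.sInf_mem hSne
      rw [hS] at hmem
      obtain ⟨χ, hχB, hχdeg⟩ := hmem
      rw [← hS] at hχdeg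
      beta_reduce at hχdeg
      obtain ⟨d, hd1, hd2, hdpos⟩ := hdeg χ
      have h3 := pow_dvd_degree_of_vanish p (isCharacter_of_isIrrCharacter χ.2) d hd1 (h χ hχB)
      rw [← hadef, hp.out.pow_dvd_iff_le_factorization hdpos.ne', ← hd2, hχdeg] at h3
      exact h3
  have h3 : blockDefect p B = 0 ↔ Nat.card B = blockRank p B := by
    rw [hdef_iff, card_eq_blockRank_iff hM B hBclosed]
  refine ⟨blockRank_le_card hM B hBclosed, ?_, h3⟩
  constructor
  · intro h
    have h4 := h3.mp h
    -- a defect group is trivial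
    obtain ⟨g, hg⟩ := exists_defectClass hM B hB
    obtain ⟨Q⟩ : Nonempty (Sylow p (Subgroup.centralizer ({g} : Set G))) := inferInstance
    have hfac := factorization_centralizer_of_isDefectClass hM B hB g hg
    obtain ⟨P, hPdef⟩ : ∃ P : Subgroup G,
        P = (Q : Subgroup (Subgroup.centralizer ({g} : Set G))).map
          (Subgroup.centralizer ({g} : Set G)).subtype := ⟨_, rfl⟩
    have hcardP : Nat.card P = 1 := by
      rw [hPdef, Subgroup.card_map_of_injective (Subgroup.subtype_injective _),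
        Sylow.card_eq_multiplicity Q, hfac, h, pow_zero]
    have hPbot : P = ⊥ := Subgroup.card_eq_one.mp hcardP
    have hD : IsDefectGroup p M B P := ⟨g, hg, Q, hPdef⟩
    have h5 := Cfsg.Agent.S4669.result p M hM B hB P hD (by rw [hPbot]; exact bot_le)
    exact ⟨by rw [h4, h5], h5⟩
  · rintro ⟨h4, h5⟩
    exact h3.mpr (by rw [h4, h5])

end Cfsg.Agent.Lib.helper3.Block
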