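import Mathlib
import Cfsg.Prelude.Def_Blocks
import Cfsg.Agent.Lib.helper3.Contrib3
import Cfsg.Agent.Lib.helper3.CentralDefect2
import Cfsg.Agent.Lib.helper3.Irr5

/-!
# The multiplicities of the shifted restrictions
-/

set_option autoImplicit false
set_option linter.style.haveILetI false
set_option linter.unusedSectionVars false

namespace Cfsg.Agent.Lib.helper3.Contrib

open Cfsg Module Cfsg.Agent.Lib.helper3.CharBasic Cfsg.Agent.Lib.helper3.Irr
open Cfsg.Agent.Lib.helper3.Central Cfsg.Agent.Lib.helper3.LocalM Cfsg.Agent.Lib.helper3.IndFun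
open Cfsg.Agent.Lib.helper3.Lin Cfsg.Agent.Lib.helper3.Block Cfsg.Agent.Lib.helper3.HZSub
open Cfsg.Agent.Lib.helper3.HallNilp
open scoped ComplexConjugate

universe u

/-- A central element acts on an irreducible character by a root of unity. -/
theorem exists_central_scalar {H : Type u} [Group H] [Fintype H] (θ : IrrCharacter H) (z : H)
    (hz : z ∈ Subgroup.center H) :
    ∃ lam : ℂ, lam ^ orderOf z = 1 ∧ ∀ c : H, (θ : H → ℂ) (z * c) = lam * (θ : H → ℂ) c := by
  obtain ⟨d, ρ, hirr, hρ⟩ := θ.2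
  haveI := hirr
  obtain ⟨c, hc⟩ := exists_scalar_of_central ρ z hz
  refine ⟨c, ?_, ?_⟩
  · have h2 : ρ (z ^ orderOf z) = ρ z ^ orderOf z := map_pow ρ z _
    rw [pow_orderOf_eq_one, map_one, hc, smul_pow] at h2
    have h3 : (LinearMap.id : (Fin d → ℂ) →ₗ[ℂ] (Fin d → ℂ)) ^ orderOf z = 1 := by
      have : (LinearMap.id : (Fin d → ℂ) →ₗ[ℂ] (Fin d → ℂ)) = 1 := rfl
      rw [this, one_pow]
    rw [h3] at h2
    haveI hnt := nontrivial_of_irreducible ρ
    obtain ⟨v, hv⟩ := exists_ne (0 : Fin d → ℂ)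
    have h4 := congrArg (fun f : (Fin d → ℂ) →ₗ[ℂ] (Fin d → ℂ) => f v) h2
    simp only [Module.End.one_apply, LinearMap.smul_apply] at h4
    have h5 : (1 : ℂ) • v = (c ^ orderOf z) • v := by rw [one_smul]; exact h4
    exact (smul_left_injective ℂ hv h5).symm
  · intro g
    rw [← hρ]
    simp only [Representation.character, map_mul, hc]
    rw [smul_mul_assoc, map_smul, smul_eq_mul]
    rfl

variable {G : Type u} [Group G] [Fintype G] {M : Ideal AlgInt}

/-- The multiplicity of `θ` in a shifted restriction. -/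
theorem classInner_shift (H : Subgroup G) [Fintype H] (z : H) (θ : IrrCharacter H) (lam : ℂ)
    (n : ℕ) (hn : 0 < n) (hlam : lam ^ n = 1)
    (hθ : ∀ c : H, (θ : H → ℂ) (z * c) = lam * (θ : H → ℂ) c) (χ : G → ℂ) :
    classInner (fun c : H => χ ((z : G) * (c : G))) (θ : H → ℂ)
      = lam * classInner (fun c : H => χ (c : G)) (θ : H → ℂ) := by
  have hnorm : ‖lam‖ = 1 := Complex.norm_eq_one_of_pow_eq_one hlam hn.ne'
  have hlam0 : lam ≠ 0 := by
    intro h
    rw [h, norm_zero] at hnorm
    exact zero_ne_one hnorm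
  have hconj : conj lam = lam⁻¹ := by
    have h1 : lam * conj lam = 1 := by
      rw [Complex.mul_conj, Complex.normSq_eq_norm_sq, hnorm]
      simp
    field_simp
    rw [mul_comm]
    exact h1
  rw [classInner_apply, classInner_apply, ← Equiv.sum_comp (Equiv.mulLeft z⁻¹)]
  rw [mul_left_comm]
  congr 1
  rw [Finset.mul_sum]
  apply Finset.sum_congr rfl
  intro c _
  rw [Equiv.coe_mulLeft]
  have e1 : (z : G) * ((z⁻¹ * c : H) : G) = (c : G) := by
    push_cast
    group
  have e2 : (θ : H → ℂ) (z⁻¹ * c) = lam⁻¹ * (θ : H → ℂ) c := by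
    have := hθ (z⁻¹ * c)
    rw [mul_inv_cancel_left] at this
    rw [this]
    field_simp
  rw [e1, e2, map_mul, map_inv₀, hconj, inv_inv]
  ring

/-- Powers of a central element act by powers of the scalar. -/
theorem central_scalar_pow {H : Type u} [Group H] (θ : H → ℂ) (z : H) (lam : ℂ)
    (hθ : ∀ c : H, θ (z * c) = lam * θ c) (j : ℕ) (c : H) :
    θ (z ^ j * c) = lam ^ j * θ c := by
  induction j generalizing c with
  | zero => simp
  | succ j ih =>
    rw [pow_succ, mul_assoc, ih, hθ, pow_succ]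
    ring

end Cfsg.Agent.Lib.helper3.Contrib
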