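import Mathlib
import Cfsg.Prelude.Def_Blocks
import Cfsg.Agent.Lib.helper3.Contrib4
import Cfsg.Agent.Lib.helper3.HeightZero5

/-!
# The contributions of two height zero characters do not vanish
-/

set_option autoImplicit false
set_option linter.style.haveILetI false
set_option linter.unusedSectionVars false

namespace Cfsg.Agent.Lib.helper3.Contrib

open Cfsg Module Cfsg.Agent.Lib.helper3.CharBasic Cfsg.Agent.Lib.helper3.Irr
open Cfsg.Agent.Lib.helper3.Central Cfsg.Agent.Lib.helper3.LocalM Cfsg.Agent.Lib.helper3.IndFun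
open Cfsg.Agent.Lib.helper3.Lin Cfsg.Agent.Lib.helper3.Block Cfsg.Agent.Lib.helper3.HZSub
open Cfsg.Agent.Lib.helper3.HallNilp
open scoped ComplexConjugate

universe u

variable {G : Type u} [Group G] [Fintype G] {M : Ideal AlgInt}

/-- The multiplicities of the shifted restriction of a character are algebraic integers. -/
theorem isIntegral_classInner_shift (H : Subgroup G) [Fintype H] (z : G) (hzH : z ∈ H)
    (hzc : ∀ c : H, (c : G) * z = z * (c : G)) {χ : G → ℂ} (hχ : IsCharacter G χ)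
    (θ : IrrCharacter H) :
    IsIntegral ℤ (classInner (fun c : H => χ (z * (c : G))) (θ : H → ℂ)) := by
  have hcen : (⟨z, hzH⟩ : H) ∈ Subgroup.center H := by
    rw [Subgroup.mem_center_iff]
    intro c
    apply Subtype.ext
    exact hzc c
  obtain ⟨lam, hlam, hθ⟩ := exists_central_scalar θ ⟨z, hzH⟩ hcen
  have h1 := classInner_shift H ⟨z, hzH⟩ θ lam _ (orderOf_pos _) hlam hθ χ
  obtain ⟨n, hn⟩ := exists_nat_classInner_of_isCharacter (isCharacter_restrict hχ H) θ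
  rw [h1, hn]
  apply IsIntegral.mul
  · apply IsIntegral.of_pow (orderOf_pos (⟨z, hzH⟩ : H))
    rw [hlam]
    exact isIntegral_one
  · exact isIntegral_natCast n

theorem regPair_shift_swap (p : ℕ) (H : Subgroup G) [Fintype H] (z : G)
    (hzc : ∀ c : H, (c : G) * z = z * (c : G)) {χ : G → ℂ} (hχ : IsCharacter G χ)
    (θ : IrrCharacter H) :
    regPair p (fun c : H => χ (z * (c : G))) (θ : H → ℂ)
      = regPair p (θ : H → ℂ) (fun c : H => χ (z⁻¹ * (c : G))) := by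
  unfold regPair
  rw [← Equiv.sum_comp (Equiv.inv H)]
  apply Finset.sum_congr rfl
  intro s _
  rw [Equiv.inv_apply, orderOf_inv]
  by_cases hs : p ∣ orderOf s
  · rw [if_pos hs, if_pos hs]
  · rw [if_neg hs, if_neg hs]
    have e1 : z * ((s⁻¹ : H) : G) = (z⁻¹ * (s : G))⁻¹ := by
      rw [mul_inv_rev, inv_inv, ← hzc s⁻¹, Subgroup.coe_inv]
    show χ (z * ((s⁻¹ : H) : G)) * conj ((θ : H → ℂ) s⁻¹)
      = (θ : H → ℂ) s * conj (χ (z⁻¹ * (s : G)))
    rw [e1, isCharacter_apply_inv hχ, isCharacter_apply_inv (isCharacter_of_isIrrCharacter θ.2),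
      Complex.conj_conj]
    ring

open Classical in
/-- **The contributions of two height zero characters of `B` to a subsection of `B` do not
vanish.** -/
theorem regPair_secPart_ne_zero {p : ℕ} [hpf : Fact p.Prime] (hM : IsPModular p M) (z : G)
    (k : ℕ) (hz : orderOf z = p ^ k) (H : Subgroup G) [Fintype H]
    (hH : H = Subgroup.centralizer ({z} : Set G))
    (B : Set (IrrCharacter G)) (e : Set (IrrCharacter H)) (hind : IsInducedBlock M H e B)
    (χ ψ : IrrCharacter G) (hχ : χ ∈ B) (hψ : ψ ∈ B)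
    (h0χ : blockHeight p B (χ : G → ℂ) = 0) (h0ψ : blockHeight p B (ψ : G → ℂ) = 0) :
    regPair p (secPart H e z χ) (secPart H e z ψ) ≠ 0 := by
  haveI hMp := isPrime_of_isPModular hM
  have hMtop : M ≠ ⊤ := hM.2.1.ne_top
  have hp : p.Prime := hpf.out
  have hB : IsPBlock M B := hind.2.1
  have he : IsPBlock M e := hind.1
  have hχc := isCharacter_of_isIrrCharacter χ.2
  have hψc := isCharacter_of_isIrrCharacter ψ.2
  have hzc' : ∀ g ∈ H, g * z = z * g := by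
    intro g hg
    rw [hH, Subgroup.mem_centralizer_iff] at hg
    exact (hg z rfl).symm
  have hzc : ∀ c : H, (c : G) * z = z * (c : G) := fun c => hzc' c.1 c.2
  have hzinvc : ∀ c : H, (c : G) * z⁻¹ = z⁻¹ * (c : G) := by
    intro c
    have := hzc c
    calc (c : G) * z⁻¹ = z⁻¹ * (z * (c : G)) * z⁻¹ := by group
      _ = z⁻¹ * ((c : G) * z) * z⁻¹ := by rw [this]
      _ = z⁻¹ * (c : G) := by group
  have hzH : z ∈ H := by
    rw [hH]
    exact Subgroup.mem_centralizer_singleton_iff.mpr rfl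
  have hzpow : z ^ p ^ k = 1 := by rw [← hz, pow_orderOf_eq_one]
  have hzinvpow : z⁻¹ ^ p ^ k = 1 := by rw [inv_pow, hzpow, inv_one]
  -- height zero data
  have hhtχ : (charDegree (χ : G → ℂ)).factorization p = minExp p B := by
    have := minExp_le (p := p) hχ
    rw [blockHeight_eq] at h0χ
    omega
  have hhtψ : (charDegree (ψ : G → ℂ)).factorization p = minExp p B := by
    have := minExp_le (p := p) hψ
    rw [blockHeight_eq] at h0ψ
    omega
  obtain ⟨wχ, hwχ, hpwχ⟩ := exists_unit_regPair_self hM B hB χ hχ hhtχ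
  obtain ⟨wψ, hwψ, hpwψ⟩ := exists_unit_regPair_self hM B hB ψ hψ hhtψ
  have hene : e.Nonempty := by
    obtain ⟨ζ, hζ⟩ := he
    exact ⟨ζ, by rw [hζ]; exact sameBlock_refl hMtop _⟩
  obtain ⟨θ₀, hθ₀, hθ₀ht⟩ := exists_minExp (p := p) hene
  obtain ⟨v₀, hv₀, hpv₀⟩ := exists_unit_regPair_self hM e he θ₀ hθ₀ hθ₀ht
  obtain ⟨μ, hμ⟩ : ∃ μ : ℕ, μ = minExp p e := ⟨_, rfl⟩
  rw [← hμ] at hθ₀ht
  have hpμ : ((p ^ μ : ℕ) : ℂ) ≠ 0 := by
    exact_mod_cast (pow_pos hp.pos μ).ne'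
  obtain ⟨t, ht⟩ : ∃ t : IrrCharacter H → ℕ, ∀ θ ∈ e,
      charDegree (θ : H → ℂ) = p ^ μ * t θ := by
    refine ⟨fun θ => charDegree (θ : H → ℂ) / p ^ μ, ?_⟩
    intro θ hθ
    have := pow_minExp_dvd (p := p) hθ
    rw [← hμ] at this
    exact (Nat.mul_div_cancel' this).symm
  have ht₀ : ¬ (p : ℤ) ∣ (t θ₀ : ℤ) := by
    intro h
    have h' : p ∣ t θ₀ := Int.natCast_dvd_natCast.mp h
    have h1 : p ^ (μ + 1) ∣ charDegree (θ₀ : H → ℂ) := by
      rw [ht θ₀ hθ₀, pow_succ]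
      exact Nat.mul_dvd_mul_left _ h'
    have h2 := (hp.pow_dvd_iff_le_factorization (charDegree_ne_zero θ₀)).1 h1
    omega
  have hdeg : ∀ θ ∈ e, (θ : H → ℂ) 1 = ((p ^ μ : ℕ) : ℂ) * (t θ : ℂ) := by
    intro θ hθ
    rw [apply_one_eq_charDegree, ht θ hθ]
    push_cast
    ring
  have hdeg0 : ∀ θ : IrrCharacter H, (θ : H → ℂ) 1 ≠ 0 := fun θ => apply_one_ne_zero θ.2
  -- the coefficients
  obtain ⟨a, ha⟩ : ∃ a : IrrCharacter H → ℂ, a = fun θ =>
      (if θ ∈ e then (1 : ℂ) else 0)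
        * classInner (fun c : H => (χ : G → ℂ) (z * (c : G))) (θ : H → ℂ) := ⟨_, rfl⟩
  have haapp : ∀ θ, a θ = (if θ ∈ e then (1 : ℂ) else 0)
        * classInner (fun c : H => (χ : G → ℂ) (z * (c : G))) (θ : H → ℂ) := fun θ => by rw [ha]
  have ha0 : ∀ θ, θ ∉ e → a θ = 0 := by
    intro θ hθ
    rw [haapp, if_neg hθ, zero_mul]
  have haint : ∀ θ, IsIntegral ℤ (a θ) := by
    intro θ
    rw [haapp]
    apply IsIntegral.mul
    · split_ifs
      · exact isIntegral_one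
      · exact isIntegral_zero
    · exact isIntegral_classInner_shift H z hzH hzc hχc θ
  have hδχ : secPart H e z χ = ∑ θ : IrrCharacter H, a θ • (θ : H → ℂ) := by
    rw [secPart_def, blockPart_eq_sum]
    apply Finset.sum_congr rfl
    intro θ _
    rw [haapp]
  obtain ⟨D, hD⟩ : ∃ D : ℂ, D = ∑ θ : IrrCharacter H, a θ * (t θ : ℂ) := ⟨_, rfl⟩
  have hϑψcf : IsClassFunction H (fun c : H => (ψ : G → ℂ) (z * (c : G))) :=
    isClassFunction_shift H z hzc (isClassFunction_of_isCharacter hψc)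
  have hϑχcf : IsClassFunction H (fun c : H => (χ : G → ℂ) (z * (c : G))) :=
    isClassFunction_shift H z hzc (isClassFunction_of_isCharacter hχc)
  -- (S1)
  obtain ⟨ε, hε⟩ : ∃ ε : IrrCharacter H → ℂ, ε = fun θ : IrrCharacter H =>
      regPair p (θ : H → ℂ) (fun c : H => (ψ : G → ℂ) (z * (c : G))) / (θ : H → ℂ) 1
        - (wψ : ℂ) := ⟨_, rfl⟩
  have hεapp : ∀ θ, ε θ = regPair p (θ : H → ℂ) (fun c : H => (ψ : G → ℂ) (z * (c : G)))
      / (θ : H → ℂ) 1 - (wψ : ℂ) := fun θ => by rw [hε]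
  have hεM : ∀ θ ∈ e, MemLocalIdeal M (ε θ) := by
    intro θ hθ
    have := memLocalIdeal_regPair_sec hM H z k hzpow hzc e B hind θ hθ ψ hψ hψc
    rw [hwψ] at this
    rw [hεapp]
    exact this
  obtain ⟨E₁, hE₁⟩ : ∃ E₁ : ℂ, E₁ = ∑ θ : IrrCharacter H, a θ * (t θ : ℂ) * ε θ := ⟨_, rfl⟩
  have hE₁M : MemLocalIdeal M E₁ := by
    rw [hE₁]
    apply memLocalIdeal_sum
    intro θ _
    by_cases hθ : θ ∈ e
    · exact memLocalIdeal_mul_integral (hεM θ hθ) ((haint θ).mul (isIntegral_natCast _))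
    · rw [ha0 θ hθ, zero_mul, zero_mul]
      exact memLocalIdeal_zero hMtop
  have hS1 : regPair p (secPart H e z χ) (secPart H e z ψ)
      = ((p ^ μ : ℕ) : ℂ) * ((wψ : ℂ) * D + E₁) := by
    rw [hδχ, regPair_sum_left, hD, hE₁, Finset.mul_sum, mul_add, Finset.mul_sum, Finset.mul_sum,
      ← Finset.sum_add_distrib]
    apply Finset.sum_congr rfl
    intro θ _
    by_cases hθ : θ ∈ e
    · rw [secPart_def, ← regPair_blockPart hM e he θ hθ _ hϑψcf]
      have h1 : regPair p (θ : H → ℂ) (fun c : H => (ψ : G → ℂ) (z * (c : G)))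
          = (θ : H → ℂ) 1 * ((wψ : ℂ) + ε θ) := by
        rw [hεapp]
        have := hdeg0 θ
        field_simp
        ring
      rw [h1, hdeg θ hθ]
      ring
    · rw [ha0 θ hθ]
      ring
  -- (S2)
  have hθ₀c := isCharacter_of_isIrrCharacter θ₀.2
  obtain ⟨ε', hε'⟩ : ∃ ε' : IrrCharacter H → ℂ, ε' = fun θ : IrrCharacter H =>
      regPair p (θ : H → ℂ) (θ₀ : H → ℂ) / (θ : H → ℂ) 1 - (v₀ : ℂ) := ⟨_, rfl⟩
  have hε'app : ∀ θ, ε' θ = regPair p (θ : H → ℂ) (θ₀ : H → ℂ) / (θ : H → ℂ) 1 - (v₀ : ℂ) :=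
    fun θ => by rw [hε']
  have hε'M : ∀ θ ∈ e, MemLocalIdeal M (ε' θ) := by
    intro θ hθ
    have hsame : SameBlock M (θ : H → ℂ) (θ₀ : H → ℂ) := by
      obtain ⟨ζ, hζ⟩ := he
      rw [hζ] at hθ hθ₀
      exact sameBlock_trans (sameBlock_symm hθ) hθ₀
    have := memLocalIdeal_regPair_div_sub hM θ θ₀ hsame hθ₀c
    rw [hv₀] at this
    rw [hε'app]
    exact this
  obtain ⟨E₂, hE₂⟩ : ∃ E₂ : ℂ, E₂ = ∑ θ : IrrCharacter H, a θ * (t θ : ℂ) * ε' θ := ⟨_, rfl⟩
  have hE₂M : MemLocalIdeal M E₂ := by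
    rw [hE₂]
    apply memLocalIdeal_sum
    intro θ _
    by_cases hθ : θ ∈ e
    · exact memLocalIdeal_mul_integral (hε'M θ hθ) ((haint θ).mul (isIntegral_natCast _))
    · rw [ha0 θ hθ, zero_mul, zero_mul]
      exact memLocalIdeal_zero hMtop
  have hS2 : regPair p (secPart H e z χ) (θ₀ : H → ℂ)
      = ((p ^ μ : ℕ) : ℂ) * ((v₀ : ℂ) * D + E₂) := by
    rw [hδχ, regPair_sum_left, hD, hE₂, Finset.mul_sum, mul_add, Finset.mul_sum, Finset.mul_sum,
      ← Finset.sum_add_distrib]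
    apply Finset.sum_congr rfl
    intro θ _
    by_cases hθ : θ ∈ e
    · have h1 : regPair p (θ : H → ℂ) (θ₀ : H → ℂ) = (θ : H → ℂ) 1 * ((v₀ : ℂ) + ε' θ) := by
        rw [hε'app]
        have := hdeg0 θ
        field_simp
        ring
      rw [h1, hdeg θ hθ]
      ring
    · rw [ha0 θ hθ]
      ring
  -- (S3)
  obtain ⟨ε'', hε''⟩ : ∃ ε'' : ℂ, ε'' =
      regPair p (θ₀ : H → ℂ) (fun c : H => (χ : G → ℂ) (z⁻¹ * (c : G))) / (θ₀ : H → ℂ) 1
        - (wχ : ℂ) := ⟨_, rfl⟩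
  have hε''M : MemLocalIdeal M ε'' := by
    have := memLocalIdeal_regPair_sec hM H z⁻¹ k hzinvpow hzinvc e B hind θ₀ hθ₀ χ hχ hχc
    rw [hwχ] at this
    rw [hε'']
    exact this
  have hS3 : regPair p (secPart H e z χ) (θ₀ : H → ℂ)
      = ((p ^ μ : ℕ) : ℂ) * ((t θ₀ : ℂ) * ((wχ : ℂ) + ε'')) := by
    rw [secPart_def, ← regPair_blockPart_left hM e he θ₀ hθ₀ _ hϑχcf,
      regPair_shift_swap p H z hzc hχc θ₀]
    have h1 : regPair p (θ₀ : H → ℂ) (fun c : H => (χ : G → ℂ) (z⁻¹ * (c : G)))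
        = (θ₀ : H → ℂ) 1 * ((wχ : ℂ) + ε'') := by
      rw [hε'']
      have := hdeg0 θ₀
      field_simp
      ring
    rw [h1, hdeg θ₀ hθ₀]
    ring
  -- conclusion
  intro hzero
  rw [hS1] at hzero
  have h1 : (wψ : ℂ) * D + E₁ = 0 := by
    rcases mul_eq_zero.mp hzero with h | h
    · exact absurd h hpμ
    · exact h
  have h2 : (v₀ : ℂ) * D + E₂ = (t θ₀ : ℂ) * ((wχ : ℂ) + ε'') := by
    have := hS2.symm.trans hS3
    exact mul_left_cancel₀ hpμ this
  have h3 : (((wψ * (t θ₀ : ℤ) * wχ : ℤ)) : ℂ)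
      = (v₀ : ℂ) * (-E₁) + (wψ : ℂ) * E₂ - ((wψ : ℂ) * (t θ₀ : ℂ)) * ε'' := by
    have h1' : (wψ : ℂ) * D = -E₁ := by linear_combination h1
    push_cast
    linear_combination (-(wψ : ℂ)) * h2 + (v₀ : ℂ) * h1'
  have h4 : MemLocalIdeal M (((wψ * (t θ₀ : ℤ) * wχ : ℤ)) : ℂ) := by
    rw [h3]
    apply memLocalIdeal_sub
    · apply memLocalIdeal_add
      · exact memLocalIdeal_mul_integral (memLocalIdeal_neg hE₁M) (isIntegral_intCast v₀)
      · exact memLocalIdeal_mul_integral hE₂M (isIntegral_intCast wψ)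
    · exact memLocalIdeal_mul_integral hε''M
        ((isIntegral_intCast wψ).mul (isIntegral_natCast _))
  apply not_memLocalIdeal_intCast hM _ _ h4
  intro hdvd
  have hpi : Prime (p : ℤ) := Nat.prime_iff_prime_int.mp hp
  rcases hpi.dvd_or_dvd hdvd with h | h
  · rcases hpi.dvd_or_dvd h with h | h
    · exact hpwψ h
    · exact ht₀ h
  · exact hpwχ h

end Cfsg.Agent.Lib.helper3.Contrib
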