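import Mathlib
import Cfsg.Prelude.Def_Blocks
import Cfsg.Agent.Lib.helper3.Contrib5

/-!
# The contributions as values of an integral polynomial at roots of unity
-/

set_option autoImplicit false
set_option linter.style.haveILetI false
set_option linter.unusedSectionVars false

namespace Cfsg.Agent.Lib.helper3.Contrib

open Cfsg Module Cfsg.Agent.Lib.helper3.CharBasic Cfsg.Agent.Lib.helper3.Irr
open Cfsg.Agent.Lib.helper3.Central Cfsg.Agent.Lib.helper3.LocalM Cfsg.Agent.Lib.helper3.IndFun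
open Cfsg.Agent.Lib.helper3.Lin Cfsg.Agent.Lib.helper3.Block Cfsg.Agent.Lib.helper3.HZSub
open Cfsg.Agent.Lib.helper3.HallNilp
open scoped ComplexConjugate
open Polynomial

universe u

/-- `p^d` times the `p`-regular pairing of a member of a set `e` of defect `d` with any
irreducible character is an integral multiple of the group order. -/
theorem exists_int_regPair_defect {H : Type u} [Group H] [Fintype H] {p : ℕ} [hp : Fact p.Prime]
    (e : Set (IrrCharacter H)) (θ θ' : IrrCharacter H) (hθ : θ ∈ e) :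
    ∃ u : ℤ, ((p ^ blockDefect p e : ℕ) : ℂ) * regPair p (θ : H → ℂ) (θ' : H → ℂ)
      = (Nat.card H : ℂ) * (u : ℂ) := by
  obtain ⟨z, -, hz2, -⟩ := exists_regZ p θ
  obtain ⟨n', hn'⟩ : ∃ n' : ℕ, n' = ordCompl[p] (Nat.card H) := ⟨_, rfl⟩
  rw [← hn'] at hz2
  have hdvd := (degree_dvd_regZ p θ θ' n' (z θ') (hz2 θ')).1
  obtain ⟨μ, hμ⟩ : ∃ μ : ℕ, μ = minExp p e := ⟨_, rfl⟩
  have h1 : ((p ^ μ : ℕ) : ℤ) ∣ (n' : ℤ) * z θ' := by
    refine dvd_trans ?_ hdvd
    rw [hμ]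
    exact Int.natCast_dvd_natCast.mpr (pow_minExp_dvd hθ)
  have hpn' : ¬ p ∣ n' := by
    rw [hn']
    exact Nat.not_dvd_ordCompl hp.out Nat.card_pos.ne'
  have hcop : IsCoprime ((p ^ μ : ℕ) : ℤ) (n' : ℤ) := by
    rw [Nat.isCoprime_iff_coprime]
    exact Nat.Coprime.pow_left _ ((Nat.Prime.coprime_iff_not_dvd hp.out).2 hpn')
  obtain ⟨z', hz'⟩ := hcop.dvd_of_dvd_mul_left h1
  refine ⟨z', ?_⟩
  have hle : μ ≤ (Nat.card H).factorization p := by
    rw [hμ]
    exact minExp_le_factorization_card hθ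
  have hcard : (Nat.card H : ℂ) = ((p ^ (blockDefect p e) : ℕ) : ℂ) * ((p ^ μ : ℕ) : ℂ)
      * (n' : ℂ) := by
    rw [blockDefect_eq, ← hμ, ← Nat.cast_mul, ← Nat.cast_mul, ← pow_add, Nat.sub_add_cancel hle,
      hn', Nat.ordProj_mul_ordCompl_eq_self]
  rw [hz2 θ', hz', hcard]
  push_cast
  ring

variable {G : Type u} [Group G] [Fintype G]

open Classical in
/-- **The contributions of the subsections `(y^j, e)` are the values of an integral polynomial
at the powers of a root of unity.** -/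
theorem exists_poly_contrib {p : ℕ} [hp : Fact p.Prime] (y : G) (H : Subgroup G) [Fintype H]
    (hyH : y ∈ H) (hyc : ∀ c : H, (c : G) * y = y * (c : G)) (e : Set (IrrCharacter H))
    (q : ℕ) (hq : 0 < q) (hyq : y ^ q = 1) (ω : ℂ) (hω : IsPrimitiveRoot ω q)
    (χ ψ : IrrCharacter G) :
    ∃ F : ℤ[X], ∀ j : ℕ, ((p ^ blockDefect p e : ℕ) : ℂ)
        * regPair p (secPart H e (y ^ j) χ) (secPart H e (y ^ j) ψ)
      = (Nat.card H : ℂ) * aeval (ω ^ j) F := by
  haveI : NeZero q := ⟨hq.ne'⟩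
  have hχc := isCharacter_of_isIrrCharacter χ.2
  have hψc := isCharacter_of_isIrrCharacter ψ.2
  have hcen : (⟨y, hyH⟩ : H) ∈ Subgroup.center H := by
    rw [Subgroup.mem_center_iff]
    intro c
    apply Subtype.ext
    exact hyc c
  have hyHq : (⟨y, hyH⟩ : H) ^ q = 1 := by
    apply Subtype.ext
    rw [Subgroup.coe_pow]
    exact hyq
  have hex : ∀ θ : IrrCharacter H, ∃ lam : ℂ, lam ^ q = 1 ∧
      ∀ c : H, (θ : H → ℂ) ((⟨y, hyH⟩ : H) * c) = lam * (θ : H → ℂ) c := by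
    intro θ
    obtain ⟨lam, h1, h2⟩ := exists_central_scalar θ ⟨y, hyH⟩ hcen
    refine ⟨lam, ?_, h2⟩
    obtain ⟨m, hm⟩ := orderOf_dvd_of_pow_eq_one hyHq
    rw [hm, pow_mul, h1, one_pow]
  choose lam hlamq hθlam using hex
  have hexε : ∀ θ : IrrCharacter H, ∃ i : ℕ, ω ^ i = lam θ := by
    intro θ
    obtain ⟨i, -, hi⟩ := hω.eq_pow_of_pow_eq_one (hlamq θ)
    exact ⟨i, hi⟩
  choose ε hε using hexε
  choose nχ hnχ using fun θ : IrrCharacter H =>
    exists_nat_classInner_of_isCharacter (isCharacter_restrict hχc H) θ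
  choose nψ hnψ using fun θ : IrrCharacter H =>
    exists_nat_classInner_of_isCharacter (isCharacter_restrict hψc H) θ
  choose! u hu using fun (θ : IrrCharacter H) (hθ : θ ∈ e) (θ' : IrrCharacter H) =>
    exists_int_regPair_defect (p := p) e θ θ' hθ
  -- conjugate of `ω`
  have hωnorm : ‖ω‖ = 1 := Complex.norm_eq_one_of_pow_eq_one hω.pow_eq_one hq.ne'
  have hωconj : conj ω = ω ^ (q - 1) := by
    have h1 : ω * conj ω = 1 := by
      rw [Complex.mul_conj, Complex.normSq_eq_norm_sq, hωnorm]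
      simp
    have h2 : ω * ω ^ (q - 1) = 1 := by
      rw [← pow_succ', Nat.sub_add_cancel hq, hω.pow_eq_one]
    have hω0 : ω ≠ 0 := by
      intro h
      rw [h, norm_zero] at hωnorm
      exact zero_ne_one hωnorm
    exact mul_left_cancel₀ hω0 (h1.trans h2.symm)
  -- the multiplicities
  have hmult : ∀ (φ : IrrCharacter G) (j : ℕ) (θ : IrrCharacter H),
      classInner (fun c : H => (φ : G → ℂ) (y ^ j * (c : G))) (θ : H → ℂ)
        = lam θ ^ j * classInner (fun c : H => (φ : G → ℂ) (c : G)) (θ : H → ℂ) := by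
    intro φ j θ
    have h1 := classInner_shift H ((⟨y, hyH⟩ : H) ^ j) θ (lam θ ^ j) q hq
      (by rw [← pow_mul, mul_comm, pow_mul, hlamq, one_pow])
      (fun c => central_scalar_pow (θ : H → ℂ) ⟨y, hyH⟩ (lam θ) (hθlam θ) j c) (φ : G → ℂ)
    rw [Subgroup.coe_pow] at h1
    exact h1
  refine ⟨∑ θ : IrrCharacter H, ∑ θ' : IrrCharacter H,
    C ((if θ ∈ e then (1 : ℤ) else 0) * ((if θ' ∈ e then (1 : ℤ) else 0)
      * ((nχ θ : ℤ) * (nψ θ' : ℤ) * u θ θ'))) * X ^ (ε θ + (q - 1) * ε θ'), ?_⟩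
  intro j
  rw [secPart_def, secPart_def, blockPart_eq_sum, blockPart_eq_sum, regPair_sum_left,
    Finset.mul_sum, map_sum, Finset.mul_sum]
  apply Finset.sum_congr rfl
  intro θ _
  rw [regPair_sum_right, Finset.mul_sum, Finset.mul_sum, map_sum, Finset.mul_sum]
  apply Finset.sum_congr rfl
  intro θ' _
  have eL : aeval (ω ^ j) (C ((if θ ∈ e then (1 : ℤ) else 0) * ((if θ' ∈ e then (1 : ℤ) else 0)
      * ((nχ θ : ℤ) * (nψ θ' : ℤ) * u θ θ'))) * X ^ (ε θ + (q - 1) * ε θ') : ℤ[X])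
      = (((if θ ∈ e then (1 : ℤ) else 0) * ((if θ' ∈ e then (1 : ℤ) else 0)
      * ((nχ θ : ℤ) * (nψ θ' : ℤ) * u θ θ')) : ℤ) : ℂ) * (ω ^ j) ^ (ε θ + (q - 1) * ε θ') := by
    rw [map_mul, aeval_C, map_pow, aeval_X, eq_intCast]
  rw [eL, hmult χ j θ, hmult ψ j θ', hnχ, hnψ]
  by_cases hθ : θ ∈ e
  · have h1 := hu θ hθ θ'
    rw [if_pos hθ, if_pos hθ]
    by_cases hθ' : θ' ∈ e
    · rw [if_pos hθ', if_pos hθ']
      have e1 : conj ((1 : ℂ) * (lam θ' ^ j * (nψ θ' : ℂ)))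
          = (ω ^ j) ^ ((q - 1) * ε θ') * (nψ θ' : ℂ) := by
        rw [one_mul, map_mul, map_pow, Complex.conj_natCast, ← hε θ', map_pow, hωconj]
        congr 1
        rw [← pow_mul, ← pow_mul, ← pow_mul]
        congr 1
        ring
      have e2 : lam θ ^ j = (ω ^ j) ^ ε θ := by
        rw [← hε θ, ← pow_mul, ← pow_mul, mul_comm]
      rw [e1, e2, pow_add]
      calc ((p ^ blockDefect p e : ℕ) : ℂ) * ((1 : ℂ) * ((ω ^ j) ^ ε θ * (nχ θ : ℂ))
            * ((ω ^ j) ^ ((q - 1) * ε θ') * (nψ θ' : ℂ)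
              * regPair p (θ : H → ℂ) (θ' : H → ℂ)))
          = ((ω ^ j) ^ ε θ * (nχ θ : ℂ)) * ((ω ^ j) ^ ((q - 1) * ε θ') * (nψ θ' : ℂ))
            * (((p ^ blockDefect p e : ℕ) : ℂ) * regPair p (θ : H → ℂ) (θ' : H → ℂ)) := by
            ring
        _ = _ := by
            rw [h1]
            push_cast
            ring
    · rw [if_neg hθ', if_neg hθ']
      simp
  · rw [if_neg hθ, if_neg hθ]
    simp

end Cfsg.Agent.Lib.helper3.Contrib
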