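import Mathlib
import Cfsg.Prelude.Def_Blocks
import Cfsg.Agent.Lib.helper3.Contrib6
import Cfsg.Agent.Lib.helper3.RegPairInd
import Cfsg.Agent.Lib.helper3.RankOne2

/-!
# The diagonal contributions as values of a symmetric polynomial expression
-/

set_option autoImplicit false
set_option linter.style.haveILetI false
set_option linter.unusedSectionVars false

namespace Cfsg.Agent.Lib.helper3.Contrib

open Cfsg Module Cfsg.Agent.Lib.helper3.CharBasic Cfsg.Agent.Lib.helper3.Irr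
open Cfsg.Agent.Lib.helper3.Central Cfsg.Agent.Lib.helper3.LocalM Cfsg.Agent.Lib.helper3.IndFun
open Cfsg.Agent.Lib.helper3.Lin Cfsg.Agent.Lib.helper3.Block Cfsg.Agent.Lib.helper3.HZSub
open Cfsg.Agent.Lib.helper3.HallNilp
open scoped ComplexConjugate
open Polynomial

universe u

variable {G : Type u} [Group G] [Fintype G]

open Classical in
/-- The contributions of the subsections `(y^j, e)` are the values of integral polynomial
expressions with a uniform symmetric structure at the powers of a root of unity. -/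
theorem exists_poly_contrib_struct {p : ℕ} [hp : Fact p.Prime] (y : G) (H : Subgroup G)
    [Fintype H]
    (hyH : y ∈ H) (hyc : ∀ c : H, (c : G) * y = y * (c : G)) (e : Set (IrrCharacter H))
    (q : ℕ) (hq : 0 < q) (hyq : y ^ q = 1) (ω : ℂ) (hω : IsPrimitiveRoot ω q) :
    ∃ (ε : IrrCharacter H → ℕ) (n : IrrCharacter G → IrrCharacter H → ℕ)
      (u : IrrCharacter H → IrrCharacter H → ℤ),
      (∀ θ θ', u θ θ' = u θ' θ) ∧ ∀ (χ ψ : IrrCharacter G) (j : ℕ),
        ((p ^ blockDefect p e : ℕ) : ℂ)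
        * regPair p (secPart H e (y ^ j) χ) (secPart H e (y ^ j) ψ)
      = (Nat.card H : ℂ) * aeval (ω ^ j) (∑ θ : IrrCharacter H, ∑ θ' : IrrCharacter H,
          C ((n χ θ : ℤ) * (n ψ θ' : ℤ) * u θ θ') * X ^ (ε θ + (q - 1) * ε θ') : ℤ[X]) := by
  haveI : NeZero q := ⟨hq.ne'⟩
  have hcen : (⟨y, hyH⟩ : H) ∈ Subgroup.center H := by
    rw [Subgroup.mem_center_iff]
    intro c
    apply Subtype.ext
    exact hyc c
  have hyHq : (⟨y, hyH⟩ : H) ^ q = 1 := by
    apply Subtype.ext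
    rw [Subgroup.coe_pow]
    exact hyq
  have hex : ∀ θ : IrrCharacter H, ∃ lam : ℂ, lam ^ q = 1 ∧
      ∀ c : H, (θ : H → ℂ) ((⟨y, hyH⟩ : H) * c) = lam * (θ : H → ℂ) c := by
    intro θ
    obtain ⟨lam, h1, h2⟩ := exists_central_scalar θ ⟨y, hyH⟩ hcen
    refine ⟨lam, ?_, h2⟩
    obtain ⟨m, hm⟩ := orderOf_dvd_of_pow_eq_one hyHq
    rw [hm, pow_mul, h1, one_pow]
  choose lam hlamq hθlam using hex
  have hexε : ∀ θ : IrrCharacter H, ∃ i : ℕ, ω ^ i = lam θ := by
    intro θ
    obtain ⟨i, -, hi⟩ := hω.eq_pow_of_pow_eq_one (hlamq θ)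
    exact ⟨i, hi⟩
  choose ε hε using hexε
  choose n hn using fun (φ : IrrCharacter G) (θ : IrrCharacter H) =>
    exists_nat_classInner_of_isCharacter
      (isCharacter_restrict (isCharacter_of_isIrrCharacter φ.2) H) θ
  choose! u hu using fun (θ : IrrCharacter H) (hθ : θ ∈ e) (θ' : IrrCharacter H) =>
    exists_int_regPair_defect (p := p) e θ θ' hθ
  -- conjugate of `ω`
  have hωnorm : ‖ω‖ = 1 := Complex.norm_eq_one_of_pow_eq_one hω.pow_eq_one hq.ne'
  have hωconj : conj ω = ω ^ (q - 1) := by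
    have h1 : ω * conj ω = 1 := by
      rw [Complex.mul_conj, Complex.normSq_eq_norm_sq, hωnorm]
      simp
    have h2 : ω * ω ^ (q - 1) = 1 := by
      rw [← pow_succ', Nat.sub_add_cancel hq, hω.pow_eq_one]
    have hω0 : ω ≠ 0 := by
      intro h
      rw [h, norm_zero] at hωnorm
      exact zero_ne_one hωnorm
    exact mul_left_cancel₀ hω0 (h1.trans h2.symm)
  -- the multiplicities
  have hmult : ∀ (φ : IrrCharacter G) (j : ℕ) (θ : IrrCharacter H),
      classInner (fun c : H => (φ : G → ℂ) (y ^ j * (c : G))) (θ : H → ℂ)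
        = lam θ ^ j * classInner (fun c : H => (φ : G → ℂ) (c : G)) (θ : H → ℂ) := by
    intro φ j θ
    have h1 := classInner_shift H ((⟨y, hyH⟩ : H) ^ j) θ (lam θ ^ j) q hq
      (by rw [← pow_mul, mul_comm, pow_mul, hlamq, one_pow])
      (fun c => central_scalar_pow (θ : H → ℂ) ⟨y, hyH⟩ (lam θ) (hθlam θ) j c) (φ : G → ℂ)
    rw [Subgroup.coe_pow] at h1
    exact h1
  have hsymm : ∀ θ θ' : IrrCharacter H, θ ∈ e → θ' ∈ e → u θ θ' = u θ' θ := by
    intro θ θ' hθ hθ'
    have h1 := hu θ hθ θ'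
    have h2 := hu θ' hθ' θ
    have h3 : regPair p (θ : H → ℂ) (θ' : H → ℂ) = regPair p (θ' : H → ℂ) (θ : H → ℂ) := by
      obtain ⟨w, hw⟩ := exists_int_regPair_div p θ θ'
      have h0 := apply_one_ne_zero θ.2
      have h4 : regPair p (θ : H → ℂ) (θ' : H → ℂ) = (θ : H → ℂ) 1 * (w : ℂ) := by
        rw [← hw]
        field_simp
      rw [← regPair_conj p (θ : H → ℂ) (θ' : H → ℂ), h4, map_mul, map_intCast,
        apply_one_eq_charDegree, Complex.conj_natCast]
    rw [h3, h2] at h1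
    have hHC : (Nat.card H : ℂ) ≠ 0 := card_ne_zero_complex _
    have h5 := mul_left_cancel₀ hHC h1
    exact_mod_cast h5.symm
  have key : ∀ (χ ψ : IrrCharacter G) (j : ℕ),
        ((p ^ blockDefect p e : ℕ) : ℂ)
        * regPair p (secPart H e (y ^ j) χ) (secPart H e (y ^ j) ψ)
      = (Nat.card H : ℂ) * aeval (ω ^ j) (∑ θ : IrrCharacter H, ∑ θ' : IrrCharacter H,
          C ((n χ θ : ℤ) * (n ψ θ' : ℤ)
            * (if θ ∈ e then (if θ' ∈ e then u θ θ' else 0) else 0))
              * X ^ (ε θ + (q - 1) * ε θ') : ℤ[X]) := by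
    intro χ ψ j
    rw [secPart_def, secPart_def, blockPart_eq_sum, blockPart_eq_sum, regPair_sum_left,
      Finset.mul_sum, map_sum, Finset.mul_sum]
    apply Finset.sum_congr rfl
    intro θ _
    rw [regPair_sum_right, Finset.mul_sum, Finset.mul_sum, map_sum, Finset.mul_sum]
    apply Finset.sum_congr rfl
    intro θ' _
    have eL : aeval (ω ^ j) (C ((n χ θ : ℤ) * (n ψ θ' : ℤ)
            * (if θ ∈ e then (if θ' ∈ e then u θ θ' else 0) else 0))
              * X ^ (ε θ + (q - 1) * ε θ') : ℤ[X])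
        = (((n χ θ : ℤ) * (n ψ θ' : ℤ)
            * (if θ ∈ e then (if θ' ∈ e then u θ θ' else 0) else 0) : ℤ) : ℂ)
            * (ω ^ j) ^ (ε θ + (q - 1) * ε θ') := by
      rw [map_mul, aeval_C, map_pow, aeval_X, eq_intCast]
    rw [eL, hmult χ j θ, hmult ψ j θ', hn, hn]
    by_cases hθ : θ ∈ e
    · have h1 := hu θ hθ θ'
      rw [if_pos hθ, if_pos hθ]
      by_cases hθ' : θ' ∈ e
      · rw [if_pos hθ', if_pos hθ']
        have e1 : conj ((1 : ℂ) * (lam θ' ^ j * (n ψ θ' : ℂ)))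
            = (ω ^ j) ^ ((q - 1) * ε θ') * (n ψ θ' : ℂ) := by
          rw [one_mul, map_mul, map_pow, Complex.conj_natCast, ← hε θ', map_pow, hωconj]
          congr 1
          rw [← pow_mul, ← pow_mul, ← pow_mul]
          congr 1
          ring
        have e2 : lam θ ^ j = (ω ^ j) ^ ε θ := by
          rw [← hε θ, ← pow_mul, ← pow_mul, mul_comm]
        rw [e1, e2, pow_add]
        calc ((p ^ blockDefect p e : ℕ) : ℂ) * ((1 : ℂ) * ((ω ^ j) ^ ε θ * (n χ θ : ℂ))
              * ((ω ^ j) ^ ((q - 1) * ε θ') * (n ψ θ' : ℂ)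
                * regPair p (θ : H → ℂ) (θ' : H → ℂ)))
            = ((ω ^ j) ^ ε θ * (n χ θ : ℂ)) * ((ω ^ j) ^ ((q - 1) * ε θ') * (n ψ θ' : ℂ))
              * (((p ^ blockDefect p e : ℕ) : ℂ) * regPair p (θ : H → ℂ) (θ' : H → ℂ)) := by
              ring
          _ = _ := by
              rw [h1]
              push_cast
              ring
      · rw [if_neg hθ', if_neg hθ']
        simp
    · rw [if_neg hθ, if_neg hθ]
      simp
  refine ⟨ε, n, fun θ θ' => if θ ∈ e then (if θ' ∈ e then u θ θ' else 0) else 0, ?_, key⟩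
  intro θ θ'
  simp only
  by_cases hθ : θ ∈ e
  · by_cases hθ' : θ' ∈ e
    · rw [if_pos hθ, if_pos hθ', if_pos hθ, if_pos hθ', hsymm θ θ' hθ hθ']
    · rw [if_pos hθ, if_neg hθ', if_neg hθ']
  · rw [if_neg hθ]
    by_cases hθ' : θ' ∈ e
    · rw [if_pos hθ', if_neg hθ]
    · rw [if_neg hθ']

end Cfsg.Agent.Lib.helper3.Contrib
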