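import Mathlib
import Cfsg.Prelude.Def_Blocks
import Cfsg.Agent.Lib.helper3.LocalM

/-!
# Averaging over the odd powers of a root of unity of even order
-/

set_option autoImplicit false
set_option linter.style.haveILetI false
set_option linter.unusedSectionVars false

namespace Cfsg.Agent.Lib.helper3.Contrib

open Cfsg Cfsg.Agent.Lib.helper3.LocalM
open scoped ComplexConjugate
open Polynomial

/-- The sign attached to an exponent: `(-1)^(E/m)` if `m ∣ E` and `0` otherwise. -/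
def sgnTwo (m E : ℕ) : ℤ := if m ∣ E then (-1) ^ (E / m) else 0

/-- The averaging functional on integral polynomials. -/
noncomputable def avgTwo (m : ℕ) (F : ℤ[X]) : ℤ := F.sum fun t c => c * sgnTwo m t

theorem pow_half_eq_neg_one (m : ℕ) (hm : 0 < m) (ω : ℂ) (hω : IsPrimitiveRoot ω (2 * m)) :
    ω ^ m = -1 := by
  have h1 : (ω ^ m) ^ 2 = 1 := by rw [← pow_mul, mul_comm, hω.pow_eq_one]
  have h2 : ω ^ m ≠ 1 := by
    intro h
    have h3 := hω.dvd_of_pow_eq_one m h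
    have h4 := Nat.le_of_dvd hm h3
    omega
  rcases sq_eq_one_iff.mp h1 with h | h
  · exact absurd h h2
  · exact h

theorem sum_odd_pow (m : ℕ) (hm : 0 < m) (ω : ℂ) (hω : IsPrimitiveRoot ω (2 * m)) (E : ℕ) :
    ∑ i ∈ Finset.range m, (ω ^ (2 * i + 1)) ^ E = (m : ℂ) * (sgnTwo m E : ℂ) := by
  have hneg := pow_half_eq_neg_one m hm ω hω
  have e1 : ∀ i, (ω ^ (2 * i + 1)) ^ E = ω ^ E * ((ω ^ (2 * E)) ^ i) := by
    intro i
    rw [← pow_mul, ← pow_mul, ← pow_add]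
    congr 1
    ring
  simp_rw [e1]
  rw [← Finset.mul_sum]
  unfold sgnTwo
  by_cases hdvd : m ∣ E
  · rw [if_pos hdvd]
    obtain ⟨k, rfl⟩ := hdvd
    have h1 : ω ^ (2 * (m * k)) = 1 := by
      rw [← mul_assoc, pow_mul, hω.pow_eq_one, one_pow]
    rw [h1]
    simp only [one_pow, Finset.sum_const, Finset.card_range, nsmul_eq_mul, mul_one]
    rw [Nat.mul_div_cancel_left k hm, pow_mul, hneg]
    push_cast
    ring
  · rw [if_neg hdvd]
    have h1 : ω ^ (2 * E) ≠ 1 := by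
      intro h
      have h2 := hω.dvd_of_pow_eq_one _ h
      exact hdvd (Nat.dvd_of_mul_dvd_mul_left (by norm_num) h2)
    have h2 : (ω ^ (2 * E)) ^ m = 1 := by
      rw [← pow_mul, mul_right_comm, pow_mul, hω.pow_eq_one, one_pow]
    rw [geom_sum_eq h1, h2]
    simp

theorem sum_odd_aeval (m : ℕ) (hm : 0 < m) (ω : ℂ) (hω : IsPrimitiveRoot ω (2 * m)) (F : ℤ[X]) :
    ∑ i ∈ Finset.range m, aeval (ω ^ (2 * i + 1)) F = (m : ℂ) * (avgTwo m F : ℂ) := by
  unfold avgTwo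
  rw [Polynomial.sum_def]
  simp_rw [aeval_def, eval₂_eq_sum, Polynomial.sum_def]
  rw [Finset.sum_comm]
  push_cast
  rw [Finset.mul_sum]
  apply Finset.sum_congr rfl
  intro t _
  rw [← Finset.mul_sum, sum_odd_pow m hm ω hω t, eq_intCast]
  ring

theorem sum_odd_aeval_struct (m : ℕ) (hm : 0 < m) (ω : ℂ) (hω : IsPrimitiveRoot ω (2 * m))
    {ι : Type*} [Fintype ι] (c : ι → ι → ℤ) (E : ι → ι → ℕ) :
    ∑ i ∈ Finset.range m, aeval (ω ^ (2 * i + 1))
        (∑ θ : ι, ∑ θ' : ι, C (c θ θ') * X ^ (E θ θ') : ℤ[X])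
      = (m : ℂ) * ((∑ θ : ι, ∑ θ' : ι, c θ θ' * sgnTwo m (E θ θ') : ℤ) : ℂ) := by
  simp_rw [map_sum, map_mul, aeval_C, map_pow, aeval_X, eq_intCast]
  rw [Finset.sum_comm]
  push_cast
  rw [Finset.mul_sum]
  apply Finset.sum_congr rfl
  intro θ _
  rw [Finset.sum_comm, Finset.mul_sum]
  apply Finset.sum_congr rfl
  intro θ' _
  rw [← Finset.mul_sum, sum_odd_pow m hm ω hω]
  ring

theorem conj_aeval_int (z : ℂ) (F : ℤ[X]) : conj (aeval z F) = aeval (conj z) F := by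
  rw [aeval_def, aeval_def, hom_eval₂]
  congr 1
  exact Subsingleton.elim _ _

theorem normSq_aeval (Q : ℕ) (hQ : 0 < Q) (z : ℂ) (hz : z ^ Q = 1) (F : ℤ[X]) :
    ((Complex.normSq (aeval z F) : ℝ) : ℂ) = aeval z (F * F.comp (X ^ (Q - 1))) := by
  have hznorm : ‖z‖ = 1 := Complex.norm_eq_one_of_pow_eq_one hz hQ.ne'
  have hconj : conj z = z ^ (Q - 1) := by
    have h1 : z * conj z = 1 := by
      rw [Complex.mul_conj, Complex.normSq_eq_norm_sq, hznorm]
      simp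
    have h2 : z * z ^ (Q - 1) = 1 := by
      rw [← pow_succ', Nat.sub_add_cancel hQ, hz]
    have hz0 : z ≠ 0 := by
      intro h
      rw [h, norm_zero] at hznorm
      exact zero_ne_one hznorm
    exact mul_left_cancel₀ hz0 (h1.trans h2.symm)
  rw [← Complex.mul_conj, map_mul, aeval_comp, map_pow, aeval_X, conj_aeval_int, hconj]

theorem sgnTwo_eq_of_add (m : ℕ) (hm : 0 < m) (E E' s : ℕ) (h : E + E' = 2 * m * s) :
    sgnTwo m E = sgnTwo m E' := by
  have key : ∀ E E' : ℕ, E + E' = 2 * m * s → m ∣ E →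
      m ∣ E' ∧ (-1 : ℤ) ^ (E / m) = (-1) ^ (E' / m) := by
    intro E E' h hE
    have hsum : m ∣ E + E' := by
      rw [h, mul_assoc, mul_left_comm]
      exact dvd_mul_right _ _
    have hE' : m ∣ E' := (Nat.dvd_add_right hE).mp hsum
    refine ⟨hE', ?_⟩
    obtain ⟨c, rfl⟩ := hE
    obtain ⟨c', rfl⟩ := hE'
    rw [Nat.mul_div_cancel_left c hm, Nat.mul_div_cancel_left c' hm]
    have hcc : c + c' = 2 * s := by
      have h1 : m * (c + c') = m * (2 * s) := by
        rw [mul_add, h]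
        ring
      exact Nat.eq_of_mul_eq_mul_left hm h1
    have h1 : (-1 : ℤ) ^ c * (-1) ^ c' = 1 := by
      rw [← pow_add, hcc, pow_mul]
      simp
    have h2 : (-1 : ℤ) ^ c * (-1) ^ c = 1 := by
      rw [← pow_add, ← two_mul, pow_mul]
      simp
    have h3 : (-1 : ℤ) ^ c ≠ 0 := pow_ne_zero _ (by norm_num)
    exact mul_left_cancel₀ h3 (h2.trans h1.symm)
  unfold sgnTwo
  by_cases hE : m ∣ E
  · obtain ⟨hE', h1⟩ := key E E' h hE
    rw [if_pos hE, if_pos hE', h1]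
  · have hE' : ¬ m ∣ E' := by
      intro hE'
      exact hE (key E' E (by rw [add_comm]; exact h) hE').1
    rw [if_neg hE, if_neg hE']

theorem sgnTwo_symm (m : ℕ) (hm : 0 < m) (a b : ℕ) :
    sgnTwo m (a + (2 * m - 1) * b) = sgnTwo m (b + (2 * m - 1) * a) := by
  apply sgnTwo_eq_of_add m hm _ _ (a + b)
  obtain ⟨k, hk⟩ : ∃ k, 2 * m - 1 = k := ⟨_, rfl⟩
  have hk' : 2 * m = k + 1 := by omega
  rw [hk, hk']
  ring

theorem sgnTwo_diag (m : ℕ) (hm : 0 < m) (a : ℕ) : sgnTwo m (a + (2 * m - 1) * a) = 1 := by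
  obtain ⟨k, hk⟩ : ∃ k, 2 * m - 1 = k := ⟨_, rfl⟩
  have hk' : k + 1 = 2 * m := by omega
  have h1 : a + k * a = m * (2 * a) := by
    calc a + k * a = (k + 1) * a := by ring
      _ = m * (2 * a) := by rw [hk']; ring
  rw [hk, h1]
  unfold sgnTwo
  rw [if_pos (dvd_mul_right _ _), Nat.mul_div_cancel_left _ hm, pow_mul]
  simp

theorem sum_symm_zmod_two {ι : Type*} [Fintype ι] [DecidableEq ι] (f : ι → ι → ZMod 2)
    (hf : ∀ a b, f a b = f b a) : ∑ a, ∑ b, f a b = ∑ a, f a a := by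
  have h0 : ∑ x : ι × ι, (if x.1 = x.2 then (0 : ZMod 2) else f x.1 x.2) = 0 := by
    apply Finset.sum_involution (fun x _ => (x.2, x.1))
    · intro x _
      by_cases h : x.1 = x.2
      · simp only
        rw [if_pos h, if_pos h.symm, add_zero]
      · simp only
        rw [if_neg h, if_neg (Ne.symm h), hf x.2 x.1]
        exact CharTwo.add_self_eq_zero _
    · intro x _ hx heq
      apply hx
      have h1 : x.2 = x.1 := congrArg Prod.fst heq
      rw [if_pos h1.symm]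
    · intro x _
      exact Finset.mem_univ _
    · intro x _
      rfl
  have h1 : ∀ x : ι × ι, f x.1 x.2 = (if x.1 = x.2 then (0 : ZMod 2) else f x.1 x.2)
      + (if x.1 = x.2 then f x.1 x.2 else 0) := by
    intro x
    by_cases h : x.1 = x.2
    · rw [if_pos h, if_pos h, zero_add]
    · rw [if_neg h, if_neg h, add_zero]
  rw [← Fintype.sum_prod_type', Finset.sum_congr rfl (fun x _ => h1 x), Finset.sum_add_distrib,
    h0, zero_add, Fintype.sum_prod_type]
  apply Finset.sum_congr rfl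
  intro a _
  simp

theorem parity_struct (m : ℕ) (hm : 0 < m) {ι : Type*} [Fintype ι] [DecidableEq ι]
    (c : ι → ι → ℤ) (hc : ∀ a b, c a b = c b a) (ε : ι → ℕ) :
    (((∑ θ : ι, ∑ θ' : ι, c θ θ' * sgnTwo m (ε θ + (2 * m - 1) * ε θ') : ℤ)) : ZMod 2)
      = ((∑ θ : ι, ∑ θ' : ι, c θ θ' : ℤ) : ZMod 2) := by
  push_cast
  rw [sum_symm_zmod_two (fun θ θ' => (c θ θ' : ZMod 2)
      * (sgnTwo m (ε θ + (2 * m - 1) * ε θ') : ZMod 2)),
    sum_symm_zmod_two (fun θ θ' => (c θ θ' : ZMod 2))]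
  · apply Finset.sum_congr rfl
    intro θ _
    rw [sgnTwo_diag m hm]
    simp
  · intro a b
    rw [hc]
  · intro a b
    rw [hc, sgnTwo_symm m hm]

variable {M : Ideal AlgInt}

theorem memLocalIdeal_pow_sub_one {p : ℕ} (hM : IsPModular p M) (k : ℕ) (z : ℂ)
    (hz : z ^ (p ^ k) = 1) (t : ℕ) : MemLocalIdeal M (z ^ t - 1) := by
  have hp0 : 0 < p ^ k := pow_pos hM.1.pos k
  have hint : IsIntegral ℤ (z ^ t) := by
    apply IsIntegral.of_pow hp0
    rw [← pow_mul, mul_comm, pow_mul, hz, one_pow]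
    exact isIntegral_one
  have h1 := sub_one_mem_of_pow hM ⟨z ^ t, hint⟩ k (by
    apply Subtype.ext
    simp only [SubmonoidClass.coe_pow, OneMemClass.coe_one]
    rw [← pow_mul, mul_comm, pow_mul, hz, one_pow])
  have := memLocalIdeal_of_mem h1 hM.2.1.ne_top
  exact this

theorem memLocalIdeal_struct_sub {p : ℕ} (hM : IsPModular p M) (k : ℕ) (z : ℂ)
    (hz : z ^ (p ^ k) = 1) {ι : Type*} [Fintype ι] (c : ι → ι → ℤ) (E : ι → ι → ℕ) :
    MemLocalIdeal M (aeval z (∑ θ : ι, ∑ θ' : ι, C (c θ θ') * X ^ (E θ θ') : ℤ[X])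
      - ((∑ θ : ι, ∑ θ' : ι, c θ θ' : ℤ) : ℂ)) := by
  haveI hMp := isPrime_of_isPModular hM
  simp_rw [map_sum, map_mul, aeval_C, map_pow, aeval_X, eq_intCast]
  push_cast
  rw [← Finset.sum_sub_distrib]
  apply memLocalIdeal_sum
  intro θ _
  rw [← Finset.sum_sub_distrib]
  apply memLocalIdeal_sum
  intro θ' _
  have h1 : (c θ θ' : ℂ) * z ^ E θ θ' - (c θ θ' : ℂ) = (c θ θ' : ℂ) * (z ^ E θ θ' - 1) := by ring
  rw [h1]
  apply memLocalIdeal_mul_integral (memLocalIdeal_pow_sub_one hM k z hz _)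
  exact isIntegral_algebraMap (R := ℤ) (A := ℂ) (x := c θ θ') |> fun h => by simpa using h

end Cfsg.Agent.Lib.helper3.Contrib
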