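import Mathlib

/-!
# The conjugates of a nonzero cyclotomic integer have mean square at least one
-/

set_option autoImplicit false
set_option linter.style.haveILetI false
set_option linter.unusedSectionVars false

namespace Cfsg.Agent.Lib.helper3.Contrib

open Polynomial

/-- There is a finite family of exponents `j i` prime to `q` such that for every integral
polynomial `F` not vanishing at the `ω ^ j i`, the mean of the `|F (ω ^ j i)|²` is at least `1`. -/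
theorem exists_conj_family (q : ℕ) (hq : 0 < q) (ω : ℂ) (hω : IsPrimitiveRoot ω q) :
    ∃ (ι : Type) (_ : Fintype ι) (_ : Nonempty ι) (j : ι → ℕ), (∀ i, (j i).Coprime q) ∧
      ∀ F : ℤ[X], (∀ i, aeval (ω ^ j i) F ≠ 0) →
        (Fintype.card ι : ℝ) ≤ ∑ i, Complex.normSq (aeval (ω ^ j i) F) := by
  haveI : NeZero q := ⟨hq.ne'⟩
  haveI h1 : NeZero ((q : ℕ) : ℚ) := inferInstance
  haveI h2 : IsCyclotomicExtension {q} ℚ (CyclotomicField q ℚ) :=
    CyclotomicField.isCyclotomicExtension q ℚ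
  haveI : FiniteDimensional ℚ (CyclotomicField q ℚ) :=
    IsCyclotomicExtension.finiteDimensional {q} ℚ _
  haveI : Algebra.IsSeparable ℚ (CyclotomicField q ℚ) := inferInstance
  have hζ := IsCyclotomicExtension.zeta_spec q ℚ (CyclotomicField q ℚ)
  obtain ⟨ζ, hζdef⟩ : ∃ ζ : CyclotomicField q ℚ,
      ζ = IsCyclotomicExtension.zeta q ℚ (CyclotomicField q ℚ) := ⟨_, rfl⟩
  rw [← hζdef] at hζ
  have hζint : IsIntegral ℤ ζ := hζ.isIntegral hq
  have hex : ∀ σ : CyclotomicField q ℚ →ₐ[ℚ] ℂ, ∃ j : ℕ, j.Coprime q ∧ ω ^ j = σ ζ := by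
    intro σ
    have hσ : IsPrimitiveRoot (σ ζ) q := hζ.map_of_injective σ.toRingHom.injective
    obtain ⟨j, -, hj⟩ := hω.eq_pow_of_pow_eq_one hσ.pow_eq_one
    refine ⟨j, ?_, hj⟩
    rw [← hj] at hσ
    exact (hω.pow_iff_coprime hq j).1 hσ
  choose j hjcop hj using hex
  refine ⟨CyclotomicField q ℚ →ₐ[ℚ] ℂ, inferInstance, ⟨IsAlgClosed.lift⟩, j, hjcop, ?_⟩
  intro F hF
  obtain ⟨x, hx⟩ : ∃ x : CyclotomicField q ℚ, x = aeval ζ F := ⟨_, rfl⟩
  have hσx : ∀ σ : CyclotomicField q ℚ →ₐ[ℚ] ℂ, σ x = aeval (ω ^ j σ) F := by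
    intro σ
    rw [hx, hj σ]
    exact (aeval_algHom_apply (σ.restrictScalars ℤ) ζ F).symm
  have hxint : IsIntegral ℤ x := by
    rw [hx, aeval_eq_sum_range]
    exact IsIntegral.sum _ (fun i _ => (hζint.pow i).smul _)
  have hNint : IsIntegral ℤ (Algebra.norm ℚ x) := Algebra.isIntegral_norm ℚ hxint
  obtain ⟨m, hm⟩ := IsIntegrallyClosed.isIntegral_iff.mp hNint
  have hprod := Algebra.norm_eq_prod_embeddings ℚ ℂ x
  rw [← hm] at hprod
  have hprod' : ((m : ℤ) : ℂ) = ∏ σ : CyclotomicField q ℚ →ₐ[ℚ] ℂ, aeval (ω ^ j σ) F := by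
    rw [← Finset.prod_congr rfl (fun σ _ => hσx σ), ← hprod]
    simp
  have hm0 : m ≠ 0 := by
    intro h
    rw [h, Int.cast_zero] at hprod'
    obtain ⟨σ, -, hσ0⟩ := Finset.prod_eq_zero_iff.mp hprod'.symm
    exact hF σ hσ0
  have hm1 : (1 : ℝ) ≤ (m : ℝ) ^ 2 := by
    have : (1 : ℤ) ≤ m ^ 2 := by
      have := Int.one_le_abs hm0
      nlinarith [sq_abs m]
    exact_mod_cast this
  obtain ⟨zf, hzf⟩ : ∃ zf : (CyclotomicField q ℚ →ₐ[ℚ] ℂ) → ℝ,
      zf = fun σ => Complex.normSq (aeval (ω ^ j σ) F) := ⟨_, rfl⟩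
  have hzfapp : ∀ σ, Complex.normSq (aeval (ω ^ j σ) F) = zf σ := fun σ => by rw [hzf]
  have hz0 : ∀ σ ∈ (Finset.univ : Finset (CyclotomicField q ℚ →ₐ[ℚ] ℂ)), 0 ≤ zf σ := by
    intro σ _
    rw [← hzfapp]
    exact Complex.normSq_nonneg _
  have hprodz : ∏ σ : CyclotomicField q ℚ →ₐ[ℚ] ℂ, zf σ = (m : ℝ) ^ 2 := by
    rw [← Finset.prod_congr rfl (fun σ _ => hzfapp σ), ← map_prod, ← hprod',
      Complex.normSq_intCast]
    ring
  simp_rw [hzfapp]
  have hcardpos : (0 : ℝ) < (Fintype.card (CyclotomicField q ℚ →ₐ[ℚ] ℂ) : ℝ) := by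
    haveI : Nonempty (CyclotomicField q ℚ →ₐ[ℚ] ℂ) := ⟨IsAlgClosed.lift⟩
    exact_mod_cast Fintype.card_pos
  have hamgm := Real.geom_mean_le_arith_mean (Finset.univ : Finset (CyclotomicField q ℚ →ₐ[ℚ] ℂ))
    (fun _ => (1 : ℝ)) zf (fun _ _ => zero_le_one) (by simpa using hcardpos) hz0
  simp only [Real.rpow_one, one_mul, Finset.sum_const, Finset.card_univ, nsmul_eq_mul,
    mul_one] at hamgm
  rw [hprodz] at hamgm
  have h1le : (1 : ℝ) ≤ ((m : ℝ) ^ 2) ^ ((Fintype.card (CyclotomicField q ℚ →ₐ[ℚ] ℂ) : ℝ))⁻¹ :=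
    Real.one_le_rpow hm1 (inv_nonneg.mpr hcardpos.le)
  have := le_trans h1le hamgm
  rwa [le_div_iff₀ hcardpos, one_mul] at this

end Cfsg.Agent.Lib.helper3.Contrib
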