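import Mathlib
import Cfsg.Prelude.Def_Blocks
import Cfsg.Agent.Lib.helper3.Contrib6
import Cfsg.Agent.Lib.helper3.Contrib7

/-!
# The number of height zero characters and the rank of a subsection
-/

set_option autoImplicit false
set_option linter.style.haveILetI false
set_option linter.unusedSectionVars false

namespace Cfsg.Agent.Lib.helper3.Contrib

open Cfsg Module Cfsg.Agent.Lib.helper3.CharBasic Cfsg.Agent.Lib.helper3.Irr
open Cfsg.Agent.Lib.helper3.Central Cfsg.Agent.Lib.helper3.LocalM Cfsg.Agent.Lib.helper3.IndFun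
open Cfsg.Agent.Lib.helper3.Lin Cfsg.Agent.Lib.helper3.Block Cfsg.Agent.Lib.helper3.HZSub
open Cfsg.Agent.Lib.helper3.HallNilp
open scoped ComplexConjugate
open Polynomial

universe u

variable {G : Type u} [Group G] [Fintype G] {M : Ideal AlgInt}

theorem centralizer_pow_eq_of_coprime (y : G) (j : ℕ) (hj : j.Coprime (orderOf y)) :
    Subgroup.centralizer ({y} : Set G) = Subgroup.centralizer ({y ^ j} : Set G) := by
  ext c
  rw [Subgroup.mem_centralizer_singleton_iff, Subgroup.mem_centralizer_singleton_iff]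
  constructor
  · intro h
    have : Commute c y := h
    exact (this.pow_right j).eq
  · intro h
    obtain ⟨m, hm⟩ := exists_pow_eq_self_of_coprime hj
    have : Commute c (y ^ j) := h
    have h2 := (this.pow_right m).eq
    rw [hm] at h2
    exact h2

open Classical in
/-- **Robinson's inequality.**  If `(y, b)` is a subsection of the block `B` with `b` of defect
`d`, then the square of the number of height zero characters of `B` is at most `p^(2d) l(b)`. -/
theorem card_height_zero_sq_le {p : ℕ} [hpf : Fact p.Prime] (hM : IsPModular p M)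
    (B : Set (IrrCharacter G)) (y : G) (n : ℕ) (hy : orderOf y = p ^ n)
    [Fintype (Subgroup.centralizer ({y} : Set G))]
    (b : Set (IrrCharacter (Subgroup.centralizer ({y} : Set G))))
    (hind : IsInducedBlock M (Subgroup.centralizer ({y} : Set G)) b B)
    (S : Finset (IrrCharacter G)) (hSB : ∀ χ ∈ S, χ ∈ B)
    (hS0 : ∀ χ ∈ S, blockHeight p B (χ : G → ℂ) = 0) :
    S.card ^ 2 ≤ p ^ (2 * blockDefect p b) * blockRank p b := by
  have hp : p.Prime := hpf.out
  obtain ⟨H, hH⟩ : ∃ H : Subgroup G, H = Subgroup.centralizer ({y} : Set G) := ⟨_, rfl⟩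
  obtain ⟨q, hq⟩ : ∃ q : ℕ, q = p ^ n := ⟨_, rfl⟩
  have hq0 : 0 < q := by rw [hq]; exact pow_pos hp.pos n
  obtain ⟨ω, hω⟩ : ∃ ω : ℂ, IsPrimitiveRoot ω q := ⟨_, Complex.isPrimitiveRoot_exp q hq0.ne'⟩
  obtain ⟨ι, hι, hιne, j, hjcop, hfam⟩ := exists_conj_family q hq0 ω hω
  have hyH : y ∈ Subgroup.centralizer ({y} : Set G) :=
    Subgroup.mem_centralizer_singleton_iff.mpr rfl
  have hyc : ∀ c : Subgroup.centralizer ({y} : Set G), (c : G) * y = y * (c : G) := by
    intro c
    have := c.2
    rw [Subgroup.mem_centralizer_singleton_iff] at this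
    exact this
  have hyq : y ^ q = 1 := by rw [hq, ← hy, pow_orderOf_eq_one]
  have hord : ∀ i, orderOf (y ^ j i) = p ^ n := by
    intro i
    have h1 : (orderOf y).Coprime (j i) := by
      rw [hy, ← hq]
      exact (hjcop i).symm
    rw [Nat.Coprime.orderOf_pow h1, hy]
  have hHi : ∀ i, Subgroup.centralizer ({y} : Set G)
      = Subgroup.centralizer ({y ^ j i} : Set G) := by
    intro i
    apply centralizer_pow_eq_of_coprime
    rw [hy, ← hq]
    exact hjcop i
  choose F hF using fun χ ψ : IrrCharacter G =>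
    exists_poly_contrib (p := p) y (Subgroup.centralizer ({y} : Set G)) hyH hyc b q hq0 hyq ω hω
      χ ψ
  obtain ⟨d, hd⟩ : ∃ d : ℕ, d = blockDefect p b := ⟨_, rfl⟩
  rw [← hd]
  simp_rw [← hd] at hF
  have hHC : (Nat.card (Subgroup.centralizer ({y} : Set G)) : ℂ) ≠ 0 := card_ne_zero_complex _
  have hpd : ((p ^ d : ℕ) : ℂ) ≠ 0 := by
    exact_mod_cast (pow_pos hp.pos d).ne'
  -- nonvanishing
  have hne : ∀ χ ∈ S, ∀ ψ ∈ S, ∀ i, aeval (ω ^ j i) (F χ ψ) ≠ 0 := by
    intro χ hχ ψ hψ i h0
    have h1 := hF χ ψ (j i)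
    rw [h0, mul_zero] at h1
    have h2 := regPair_secPart_ne_zero hM (y ^ j i) n (hord i) _ (hHi i) B b hind χ ψ
      (hSB χ hχ) (hSB ψ hψ) (hS0 χ hχ) (hS0 ψ hψ)
    rcases mul_eq_zero.mp h1 with h | h
    · exact hpd h
    · exact h2 h
  have hB' : ∀ χ ∈ S, ∀ ψ ∈ S,
      (Fintype.card ι : ℝ) ≤ ∑ i, Complex.normSq (aeval (ω ^ j i) (F χ ψ)) :=
    fun χ hχ ψ hψ => hfam (F χ ψ) (hne χ hχ ψ hψ)
  -- the sums of the squares
  have hA : ∀ i, ∑ χ ∈ S, ∑ ψ ∈ S, Complex.normSq (aeval (ω ^ j i) (F χ ψ))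
      ≤ ((p ^ (2 * d) : ℕ) : ℝ) * (blockRank p b : ℝ) := by
    intro i
    have h1 := sum_regPair_normSq hM (y ^ j i) n (hord i) _ (hHi i) B b hind
    -- rewrite the pairings in terms of the polynomial values
    have h2 : ∀ χ ψ : IrrCharacter G,
        ((p ^ (2 * d) : ℕ) : ℂ) * (regPair p (secPart _ b (y ^ j i) χ) (secPart _ b (y ^ j i) ψ)
          * conj (regPair p (secPart _ b (y ^ j i) χ) (secPart _ b (y ^ j i) ψ)))
        = (Nat.card (Subgroup.centralizer ({y} : Set G)) : ℂ)
          * ((Nat.card (Subgroup.centralizer ({y} : Set G)) : ℂ)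
            * ((Complex.normSq (aeval (ω ^ j i) (F χ ψ)) : ℝ) : ℂ)) := by
      intro χ ψ
      have h3 := hF χ ψ (j i)
      have h4 := congrArg conj h3
      rw [map_mul, map_mul, Complex.conj_natCast, Complex.conj_natCast] at h4
      rw [← Complex.mul_conj]
      calc ((p ^ (2 * d) : ℕ) : ℂ) * (regPair p (secPart _ b (y ^ j i) χ)
              (secPart _ b (y ^ j i) ψ)
            * conj (regPair p (secPart _ b (y ^ j i) χ) (secPart _ b (y ^ j i) ψ)))
          = (((p ^ d : ℕ) : ℂ) * regPair p (secPart _ b (y ^ j i) χ) (secPart _ b (y ^ j i) ψ))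
            * (((p ^ d : ℕ) : ℂ)
              * conj (regPair p (secPart _ b (y ^ j i) χ) (secPart _ b (y ^ j i) ψ))) := by
            push_cast
            ring
        _ = _ := by
            rw [h3, h4]
            ring
    have h5 : ((p ^ (2 * d) : ℕ) : ℂ) * ((Nat.card (Subgroup.centralizer ({y} : Set G)) : ℂ)
          * ((Nat.card (Subgroup.centralizer ({y} : Set G)) : ℂ) * (blockRank p b : ℂ)))
        = (Nat.card (Subgroup.centralizer ({y} : Set G)) : ℂ)
          * ((Nat.card (Subgroup.centralizer ({y} : Set G)) : ℂ)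
          * ∑ χ : IrrCharacter G, ∑ ψ : IrrCharacter G,
          (if χ ∈ B then (1 : ℂ) else 0) * ((if ψ ∈ B then (1 : ℂ) else 0)
            * ((Complex.normSq (aeval (ω ^ j i) (F χ ψ)) : ℝ) : ℂ))) := by
      rw [← h1, Finset.mul_sum, Finset.mul_sum, Finset.mul_sum]
      apply Finset.sum_congr rfl
      intro χ _
      rw [Finset.mul_sum, Finset.mul_sum, Finset.mul_sum]
      apply Finset.sum_congr rfl
      intro ψ _
      rw [mul_left_comm, mul_left_comm ((p ^ (2 * d) : ℕ) : ℂ), h2]
      ring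
    have h6 := mul_left_cancel₀ hHC (mul_left_cancel₀ hHC
      (by rw [← h5]; ring : (Nat.card (Subgroup.centralizer ({y} : Set G)) : ℂ)
          * ((Nat.card (Subgroup.centralizer ({y} : Set G)) : ℂ)
            * (((p ^ (2 * d) : ℕ) : ℂ) * (blockRank p b : ℂ)))
        = (Nat.card (Subgroup.centralizer ({y} : Set G)) : ℂ)
          * ((Nat.card (Subgroup.centralizer ({y} : Set G)) : ℂ)
          * ∑ χ : IrrCharacter G, ∑ ψ : IrrCharacter G,
          (if χ ∈ B then (1 : ℂ) else 0) * ((if ψ ∈ B then (1 : ℂ) else 0)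
            * ((Complex.normSq (aeval (ω ^ j i) (F χ ψ)) : ℝ) : ℂ)))))
    have h7 : ((p ^ (2 * d) : ℕ) : ℝ) * (blockRank p b : ℝ)
        = ∑ χ : IrrCharacter G, ∑ ψ : IrrCharacter G,
          (if χ ∈ B then (1 : ℝ) else 0) * ((if ψ ∈ B then (1 : ℝ) else 0)
            * Complex.normSq (aeval (ω ^ j i) (F χ ψ))) := by
      apply Complex.ofReal_injective
      push_cast
      push_cast at h6
      rw [h6]
      apply Finset.sum_congr rfl
      intro χ _
      apply Finset.sum_congr rfl
      intro ψ _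
      split_ifs <;> simp
    rw [h7]
    calc ∑ χ ∈ S, ∑ ψ ∈ S, Complex.normSq (aeval (ω ^ j i) (F χ ψ))
        = ∑ χ ∈ S, ∑ ψ ∈ S, (if χ ∈ B then (1 : ℝ) else 0) * ((if ψ ∈ B then (1 : ℝ) else 0)
            * Complex.normSq (aeval (ω ^ j i) (F χ ψ))) := by
          apply Finset.sum_congr rfl
          intro χ hχ
          apply Finset.sum_congr rfl
          intro ψ hψ
          rw [if_pos (hSB χ hχ), if_pos (hSB ψ hψ), one_mul, one_mul]
      _ ≤ ∑ χ ∈ S, ∑ ψ : IrrCharacter G, (if χ ∈ B then (1 : ℝ) else 0)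
            * ((if ψ ∈ B then (1 : ℝ) else 0)
              * Complex.normSq (aeval (ω ^ j i) (F χ ψ))) := by
          apply Finset.sum_le_sum
          intro χ _
          apply Finset.sum_le_sum_of_subset_of_nonneg (Finset.subset_univ _)
          intro ψ _ _
          apply mul_nonneg
          · split_ifs <;> norm_num
          · apply mul_nonneg
            · split_ifs <;> norm_num
            · exact Complex.normSq_nonneg _
      _ ≤ _ := by
          apply Finset.sum_le_sum_of_subset_of_nonneg (Finset.subset_univ _)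
          intro χ _ _
          apply Finset.sum_nonneg
          intro ψ _
          apply mul_nonneg
          · split_ifs <;> norm_num
          · apply mul_nonneg
            · split_ifs <;> norm_num
            · exact Complex.normSq_nonneg _
  -- conclusion
  have hcardpos : (0 : ℝ) < (Fintype.card ι : ℝ) := by
    exact_mod_cast Fintype.card_pos
  have h8 : (Fintype.card ι : ℝ) * ((S.card : ℝ) ^ 2)
      ≤ (Fintype.card ι : ℝ) * (((p ^ (2 * d) : ℕ) : ℝ) * (blockRank p b : ℝ)) := by
    calc (Fintype.card ι : ℝ) * ((S.card : ℝ) ^ 2)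
        = ∑ χ ∈ S, ∑ ψ ∈ S, (Fintype.card ι : ℝ) := by
          rw [Finset.sum_const, Finset.sum_const, nsmul_eq_mul, nsmul_eq_mul]
          ring
      _ ≤ ∑ χ ∈ S, ∑ ψ ∈ S, ∑ i, Complex.normSq (aeval (ω ^ j i) (F χ ψ)) := by
          apply Finset.sum_le_sum
          intro χ hχ
          apply Finset.sum_le_sum
          intro ψ hψ
          exact hB' χ hχ ψ hψ
      _ = ∑ i, ∑ χ ∈ S, ∑ ψ ∈ S, Complex.normSq (aeval (ω ^ j i) (F χ ψ)) := by
          have e1 : ∀ χ ∈ S, ∑ ψ ∈ S, ∑ i, Complex.normSq (aeval (ω ^ j i) (F χ ψ))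
              = ∑ i, ∑ ψ ∈ S, Complex.normSq (aeval (ω ^ j i) (F χ ψ)) :=
            fun χ _ => Finset.sum_comm
          rw [Finset.sum_congr rfl e1, Finset.sum_comm]
      _ ≤ ∑ _i : ι, ((p ^ (2 * d) : ℕ) : ℝ) * (blockRank p b : ℝ) :=
          Finset.sum_le_sum (fun i _ => hA i)
      _ = _ := by
          rw [Finset.sum_const, Finset.card_univ, nsmul_eq_mul]
  have h9 := le_of_mul_le_mul_left h8 hcardpos
  exact_mod_cast h9

end Cfsg.Agent.Lib.helper3.Contrib
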