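import Mathlib
import Cfsg.Prelude.Def_Blocks
import Cfsg.Agent.Lib.helper3.Contrib8
import Cfsg.Agent.Lib.helper3.Contrib9
import Cfsg.Agent.Lib.helper3.Contrib10
import Cfsg.Agent.Lib.helper3.Contrib11

/-!
# Odd weights attached to the height zero characters of a 2-block and a subsection
-/

set_option autoImplicit false
set_option linter.style.haveILetI false
set_option linter.unusedSectionVars false

namespace Cfsg.Agent.Lib.helper3.Contrib

open Cfsg Module Cfsg.Agent.Lib.helper3.CharBasic Cfsg.Agent.Lib.helper3.Irr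
open Cfsg.Agent.Lib.helper3.Central Cfsg.Agent.Lib.helper3.LocalM Cfsg.Agent.Lib.helper3.IndFun
open Cfsg.Agent.Lib.helper3.Lin Cfsg.Agent.Lib.helper3.Block Cfsg.Agent.Lib.helper3.HZSub
open Cfsg.Agent.Lib.helper3.HallNilp
open scoped ComplexConjugate
open Polynomial

universe u

variable {G : Type u} [Group G] [Fintype G] {M : Ideal AlgInt}

set_option maxHeartbeats 1600000 in
open Classical in
/-- **Odd weights.**  For a subsection `(y, b)` of the 2-block `B` with `b` of defect `d`, there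
are odd natural numbers `a χ` attached to the height zero characters `χ` of `B` whose sum is
at most `2^d l(b)` and with `k₀ ≤ 2^d a χ` for all of them. -/
theorem exists_odd_weights (hM : IsPModular 2 M)
    (B : Set (IrrCharacter G)) (y : G) (n : ℕ) (hy : orderOf y = 2 ^ n)
    [Fintype (Subgroup.centralizer ({y} : Set G))]
    (b : Set (IrrCharacter (Subgroup.centralizer ({y} : Set G))))
    (hind : IsInducedBlock M (Subgroup.centralizer ({y} : Set G)) b B)
    (S : Finset (IrrCharacter G)) (hSB : ∀ χ ∈ S, χ ∈ B)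
    (hS0 : ∀ χ ∈ S, blockHeight 2 B (χ : G → ℂ) = 0) :
    ∃ a : IrrCharacter G → ℕ, (∀ χ ∈ S, Odd (a χ)) ∧
      ∑ χ ∈ S, a χ ≤ 2 ^ blockDefect 2 b * blockRank 2 b ∧
      ∀ χ ∈ S, S.card ≤ 2 ^ blockDefect 2 b * a χ := by
  haveI hpf : Fact (Nat.Prime 2) := ⟨Nat.prime_two⟩
  haveI hMp := isPrime_of_isPModular hM
  have hMtop : M ≠ ⊤ := hM.2.1.ne_top
  have he : IsPBlock M b := hind.1
  obtain ⟨m, hm⟩ : ∃ m : ℕ, m = 2 ^ n := ⟨_, rfl⟩
  have hm0 : 0 < m := by rw [hm]; positivity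
  have hQ0 : 0 < 2 * m := by omega
  obtain ⟨ω, hω⟩ : ∃ ω : ℂ, IsPrimitiveRoot ω (2 * m) :=
    ⟨_, Complex.isPrimitiveRoot_exp (2 * m) hQ0.ne'⟩
  have hyH : y ∈ Subgroup.centralizer ({y} : Set G) :=
    Subgroup.mem_centralizer_singleton_iff.mpr rfl
  have hyc : ∀ c : Subgroup.centralizer ({y} : Set G), (c : G) * y = y * (c : G) := by
    intro c
    have := c.2
    rw [Subgroup.mem_centralizer_singleton_iff] at this
    exact this
  have hyQ : y ^ (2 * m) = 1 := by
    rw [mul_comm, pow_mul, hm, ← hy, pow_orderOf_eq_one, one_pow]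
  have hcop : ∀ i : ℕ, (2 * i + 1).Coprime (orderOf y) := by
    intro i
    rw [hy]
    apply Nat.Coprime.pow_right
    rw [Nat.coprime_two_right]
    exact ⟨i, rfl⟩
  have hord : ∀ i : ℕ, orderOf (y ^ (2 * i + 1)) = 2 ^ n := by
    intro i
    rw [Nat.Coprime.orderOf_pow (hcop i).symm, hy]
  have hHi : ∀ i : ℕ, Subgroup.centralizer ({y} : Set G)
      = Subgroup.centralizer ({y ^ (2 * i + 1)} : Set G) :=
    fun i => centralizer_pow_eq_of_coprime y _ (hcop i)
  obtain ⟨ε, nn, u, husymm, hF⟩ := exists_poly_contrib_struct (p := 2) y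
    (Subgroup.centralizer ({y} : Set G)) hyH hyc b (2 * m) hQ0 hyQ ω hω
  obtain ⟨d, hd⟩ : ∃ d : ℕ, d = blockDefect 2 b := ⟨_, rfl⟩
  rw [← hd]
  simp_rw [← hd] at hF
  obtain ⟨F, hFdef⟩ : ∃ F : IrrCharacter G → IrrCharacter G → ℤ[X], F = fun χ ψ =>
      ∑ θ : IrrCharacter (Subgroup.centralizer ({y} : Set G)),
        ∑ θ' : IrrCharacter (Subgroup.centralizer ({y} : Set G)),
          C ((nn χ θ : ℤ) * (nn ψ θ' : ℤ) * u θ θ') * X ^ (ε θ + (2 * m - 1) * ε θ') :=
    ⟨_, rfl⟩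
  have hFapp : ∀ χ ψ : IrrCharacter G,
      (∑ θ : IrrCharacter (Subgroup.centralizer ({y} : Set G)),
        ∑ θ' : IrrCharacter (Subgroup.centralizer ({y} : Set G)),
          C ((nn χ θ : ℤ) * (nn ψ θ' : ℤ) * u θ θ') * X ^ (ε θ + (2 * m - 1) * ε θ') : ℤ[X])
      = F χ ψ := fun χ ψ => by rw [hFdef]
  simp_rw [hFapp] at hF
  have hHC : (Nat.card (Subgroup.centralizer ({y} : Set G)) : ℂ) ≠ 0 := card_ne_zero_complex _
  have hmC : (m : ℂ) ≠ 0 := by exact_mod_cast hm0.ne'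
  obtain ⟨a', ha'⟩ : ∃ a' : IrrCharacter G → ℤ, a' = fun χ =>
      ∑ θ : IrrCharacter (Subgroup.centralizer ({y} : Set G)),
        ∑ θ' : IrrCharacter (Subgroup.centralizer ({y} : Set G)),
          ((nn χ θ : ℤ) * (nn χ θ' : ℤ) * u θ θ') * sgnTwo m (ε θ + (2 * m - 1) * ε θ') :=
    ⟨_, rfl⟩
  obtain ⟨N, hN⟩ : ∃ N : IrrCharacter G → IrrCharacter G → ℤ, N = fun χ ψ =>
      avgTwo m (F χ ψ * (F χ ψ).comp (X ^ (2 * m - 1))) := ⟨_, rfl⟩
  -- (A)
  have hA : ∀ χ : IrrCharacter G,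
      ∑ i ∈ Finset.range m, aeval (ω ^ (2 * i + 1)) (F χ χ) = (m : ℂ) * (a' χ : ℂ) := by
    intro χ
    rw [hFdef, ha']
    exact sum_odd_aeval_struct m hm0 ω hω
      (fun θ θ' => (nn χ θ : ℤ) * (nn χ θ' : ℤ) * u θ θ') (fun θ θ' => ε θ + (2 * m - 1) * ε θ')
  -- (B)
  have hBB : ∀ χ ψ : IrrCharacter G,
      ∑ i ∈ Finset.range m, ((Complex.normSq (aeval (ω ^ (2 * i + 1)) (F χ ψ)) : ℝ) : ℂ)
        = (m : ℂ) * (N χ ψ : ℂ) := by
    intro χ ψ
    rw [hN]
    simp only
    rw [← sum_odd_aeval m hm0 ω hω]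
    apply Finset.sum_congr rfl
    intro i _
    apply normSq_aeval (2 * m) hQ0
    rw [← pow_mul, mul_comm, pow_mul, hω.pow_eq_one, one_pow]
  -- (I)
  have hI : ∀ (i : ℕ) (χ : IrrCharacter G), ∑ ψ : IrrCharacter G,
      ((Complex.normSq (aeval (ω ^ (2 * i + 1)) (F χ ψ)) : ℝ) : ℂ)
        = ((2 ^ d : ℕ) : ℂ) * aeval (ω ^ (2 * i + 1)) (F χ χ) := by
    intro i χ
    have h1 := sum_regPair_mul_regPair hM (y ^ (2 * i + 1)) n (hord i) _ (hHi i) b he χ χ
    have h2 : ∀ ψ : IrrCharacter G, ((2 ^ d : ℕ) : ℂ) * ((2 ^ d : ℕ) : ℂ)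
        * (regPair 2 (secPart _ b (y ^ (2 * i + 1)) χ) (secPart _ b (y ^ (2 * i + 1)) ψ)
          * regPair 2 (secPart _ b (y ^ (2 * i + 1)) ψ) (secPart _ b (y ^ (2 * i + 1)) χ))
        = (Nat.card (Subgroup.centralizer ({y} : Set G)) : ℂ)
          * ((Nat.card (Subgroup.centralizer ({y} : Set G)) : ℂ)
            * ((Complex.normSq (aeval (ω ^ (2 * i + 1)) (F χ ψ)) : ℝ) : ℂ)) := by
      intro ψ
      have h3 := hF χ ψ (2 * i + 1)
      have h4 := congrArg conj h3
      rw [map_mul, map_mul, Complex.conj_natCast, Complex.conj_natCast, regPair_conj] at h4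
      rw [← Complex.mul_conj]
      calc ((2 ^ d : ℕ) : ℂ) * ((2 ^ d : ℕ) : ℂ)
        * (regPair 2 (secPart _ b (y ^ (2 * i + 1)) χ) (secPart _ b (y ^ (2 * i + 1)) ψ)
          * regPair 2 (secPart _ b (y ^ (2 * i + 1)) ψ) (secPart _ b (y ^ (2 * i + 1)) χ))
          = (((2 ^ d : ℕ) : ℂ)
              * regPair 2 (secPart _ b (y ^ (2 * i + 1)) χ) (secPart _ b (y ^ (2 * i + 1)) ψ))
            * (((2 ^ d : ℕ) : ℂ)
              * regPair 2 (secPart _ b (y ^ (2 * i + 1)) ψ) (secPart _ b (y ^ (2 * i + 1)) χ)) := by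
            ring
        _ = _ := by
            rw [h3, h4]
            ring
    have h5 : (Nat.card (Subgroup.centralizer ({y} : Set G)) : ℂ)
        * ((Nat.card (Subgroup.centralizer ({y} : Set G)) : ℂ)
          * ∑ ψ : IrrCharacter G,
            ((Complex.normSq (aeval (ω ^ (2 * i + 1)) (F χ ψ)) : ℝ) : ℂ))
        = (Nat.card (Subgroup.centralizer ({y} : Set G)) : ℂ)
          * ((Nat.card (Subgroup.centralizer ({y} : Set G)) : ℂ)
            * (((2 ^ d : ℕ) : ℂ) * aeval (ω ^ (2 * i + 1)) (F χ χ))) := by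
      calc (Nat.card (Subgroup.centralizer ({y} : Set G)) : ℂ)
        * ((Nat.card (Subgroup.centralizer ({y} : Set G)) : ℂ)
          * ∑ ψ : IrrCharacter G,
            ((Complex.normSq (aeval (ω ^ (2 * i + 1)) (F χ ψ)) : ℝ) : ℂ))
          = ∑ ψ : IrrCharacter G, (Nat.card (Subgroup.centralizer ({y} : Set G)) : ℂ)
          * ((Nat.card (Subgroup.centralizer ({y} : Set G)) : ℂ)
            * ((Complex.normSq (aeval (ω ^ (2 * i + 1)) (F χ ψ)) : ℝ) : ℂ)) := by
            rw [Finset.mul_sum, Finset.mul_sum]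
        _ = ∑ ψ : IrrCharacter G, ((2 ^ d : ℕ) : ℂ) * ((2 ^ d : ℕ) : ℂ)
        * (regPair 2 (secPart _ b (y ^ (2 * i + 1)) χ) (secPart _ b (y ^ (2 * i + 1)) ψ)
          * regPair 2 (secPart _ b (y ^ (2 * i + 1)) ψ) (secPart _ b (y ^ (2 * i + 1)) χ)) :=
            Finset.sum_congr rfl (fun ψ _ => (h2 ψ).symm)
        _ = ((2 ^ d : ℕ) : ℂ) * ((2 ^ d : ℕ) : ℂ)
            * ((Nat.card (Subgroup.centralizer ({y} : Set G)) : ℂ)
              * regPair 2 (secPart _ b (y ^ (2 * i + 1)) χ)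
                (secPart _ b (y ^ (2 * i + 1)) χ)) := by
            rw [← Finset.mul_sum, h1]
        _ = (Nat.card (Subgroup.centralizer ({y} : Set G)) : ℂ) * ((2 ^ d : ℕ) : ℂ)
            * (((2 ^ d : ℕ) : ℂ) * regPair 2 (secPart _ b (y ^ (2 * i + 1)) χ)
                (secPart _ b (y ^ (2 * i + 1)) χ)) := by
            ring
        _ = (Nat.card (Subgroup.centralizer ({y} : Set G)) : ℂ) * ((2 ^ d : ℕ) : ℂ)
            * ((Nat.card (Subgroup.centralizer ({y} : Set G)) : ℂ)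
              * aeval (ω ^ (2 * i + 1)) (F χ χ)) := by
            rw [hF χ χ (2 * i + 1)]
        _ = _ := by
            ring
    exact mul_left_cancel₀ hHC (mul_left_cancel₀ hHC h5)
  -- (II)
  have hII : ∀ i : ℕ, ∑ χ : IrrCharacter G, (if χ ∈ B then (1 : ℂ) else 0)
      * aeval (ω ^ (2 * i + 1)) (F χ χ) = ((2 ^ d : ℕ) : ℂ) * (blockRank 2 b : ℂ) := by
    intro i
    have h1 := sum_regPair_self hM (y ^ (2 * i + 1)) n (hord i) _ (hHi i) B b hind
    have h2 : (Nat.card (Subgroup.centralizer ({y} : Set G)) : ℂ)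
        * ∑ χ : IrrCharacter G, (if χ ∈ B then (1 : ℂ) else 0)
          * aeval (ω ^ (2 * i + 1)) (F χ χ)
        = (Nat.card (Subgroup.centralizer ({y} : Set G)) : ℂ)
          * (((2 ^ d : ℕ) : ℂ) * (blockRank 2 b : ℂ)) := by
      calc (Nat.card (Subgroup.centralizer ({y} : Set G)) : ℂ)
        * ∑ χ : IrrCharacter G, (if χ ∈ B then (1 : ℂ) else 0)
          * aeval (ω ^ (2 * i + 1)) (F χ χ)
          = ∑ χ : IrrCharacter G, (if χ ∈ B then (1 : ℂ) else 0)
            * ((Nat.card (Subgroup.centralizer ({y} : Set G)) : ℂ)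
              * aeval (ω ^ (2 * i + 1)) (F χ χ)) := by
            rw [Finset.mul_sum]
            apply Finset.sum_congr rfl
            intro χ _
            ring
        _ = ∑ χ : IrrCharacter G, (if χ ∈ B then (1 : ℂ) else 0)
            * (((2 ^ d : ℕ) : ℂ) * regPair 2 (secPart _ b (y ^ (2 * i + 1)) χ)
                (secPart _ b (y ^ (2 * i + 1)) χ)) := by
            apply Finset.sum_congr rfl
            intro χ _
            rw [hF χ χ (2 * i + 1)]
        _ = ((2 ^ d : ℕ) : ℂ) * ∑ χ : IrrCharacter G, (if χ ∈ B then (1 : ℂ) else 0)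
            * regPair 2 (secPart _ b (y ^ (2 * i + 1)) χ)
                (secPart _ b (y ^ (2 * i + 1)) χ) := by
            rw [Finset.mul_sum]
            apply Finset.sum_congr rfl
            intro χ _
            ring
        _ = _ := by
            rw [h1]
            ring
    exact mul_left_cancel₀ hHC h2
  -- (C)
  have hC : ∀ χ : IrrCharacter G, ∑ ψ : IrrCharacter G, N χ ψ = (2 ^ d : ℤ) * a' χ := by
    intro χ
    have h1 : (m : ℂ) * ((∑ ψ : IrrCharacter G, N χ ψ : ℤ) : ℂ)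
        = (m : ℂ) * (((2 ^ d : ℤ) * a' χ : ℤ) : ℂ) := by
      push_cast
      rw [Finset.mul_sum]
      calc ∑ ψ : IrrCharacter G, (m : ℂ) * (N χ ψ : ℂ)
          = ∑ ψ : IrrCharacter G, ∑ i ∈ Finset.range m,
              ((Complex.normSq (aeval (ω ^ (2 * i + 1)) (F χ ψ)) : ℝ) : ℂ) :=
            Finset.sum_congr rfl (fun ψ _ => (hBB χ ψ).symm)
        _ = ∑ i ∈ Finset.range m, ∑ ψ : IrrCharacter G,
              ((Complex.normSq (aeval (ω ^ (2 * i + 1)) (F χ ψ)) : ℝ) : ℂ) := Finset.sum_comm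
        _ = ∑ i ∈ Finset.range m, ((2 ^ d : ℕ) : ℂ) * aeval (ω ^ (2 * i + 1)) (F χ χ) :=
            Finset.sum_congr rfl (fun i _ => hI i χ)
        _ = ((2 ^ d : ℕ) : ℂ) * ((m : ℂ) * (a' χ : ℂ)) := by
            rw [← Finset.mul_sum, hA]
        _ = _ := by
            push_cast
            ring
    have h2 := mul_left_cancel₀ hmC h1
    exact_mod_cast h2
  -- (D)
  have hD : ∑ χ : IrrCharacter G, (if χ ∈ B then a' χ else 0)
      = (2 ^ d : ℤ) * (blockRank 2 b : ℤ) := by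
    have h1 : (m : ℂ) * ((∑ χ : IrrCharacter G, (if χ ∈ B then a' χ else 0) : ℤ) : ℂ)
        = (m : ℂ) * (((2 ^ d : ℤ) * (blockRank 2 b : ℤ) : ℤ) : ℂ) := by
      push_cast
      rw [Finset.mul_sum]
      calc ∑ χ : IrrCharacter G, (m : ℂ) * (if χ ∈ B then (a' χ : ℂ) else 0)
          = ∑ χ : IrrCharacter G, ∑ i ∈ Finset.range m, (if χ ∈ B then (1 : ℂ) else 0)
              * aeval (ω ^ (2 * i + 1)) (F χ χ) := by
            apply Finset.sum_congr rfl
            intro χ _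
            rw [← Finset.mul_sum, hA]
            by_cases hχ : χ ∈ B
            · rw [if_pos hχ, if_pos hχ, one_mul]
            · rw [if_neg hχ, if_neg hχ, mul_zero, zero_mul]
        _ = ∑ i ∈ Finset.range m, ∑ χ : IrrCharacter G, (if χ ∈ B then (1 : ℂ) else 0)
              * aeval (ω ^ (2 * i + 1)) (F χ χ) := Finset.sum_comm
        _ = ∑ _i ∈ Finset.range m, ((2 ^ d : ℕ) : ℂ) * (blockRank 2 b : ℂ) :=
            Finset.sum_congr rfl (fun i _ => hII i)
        _ = _ := by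
            rw [Finset.sum_const, Finset.card_range, nsmul_eq_mul]
            push_cast
            ring
    have h2 := mul_left_cancel₀ hmC h1
    exact_mod_cast h2
  -- (E)
  have hBR : ∀ χ ψ : IrrCharacter G,
      ∑ i ∈ Finset.range m, Complex.normSq (aeval (ω ^ (2 * i + 1)) (F χ ψ))
        = (m : ℝ) * (N χ ψ : ℝ) := by
    intro χ ψ
    apply Complex.ofReal_injective
    push_cast
    exact hBB χ ψ
  have hmR : (0 : ℝ) < (m : ℝ) := by exact_mod_cast hm0
  have hN0 : ∀ χ ψ : IrrCharacter G, 0 ≤ N χ ψ := by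
    intro χ ψ
    have h1 : (0 : ℝ) ≤ (m : ℝ) * (N χ ψ : ℝ) := by
      rw [← hBR]
      exact Finset.sum_nonneg (fun i _ => Complex.normSq_nonneg _)
    have h2 : (0 : ℝ) ≤ (N χ ψ : ℝ) := by
      by_contra hneg
      push Not at hneg
      have := mul_neg_of_pos_of_neg hmR hneg
      linarith
    exact_mod_cast h2
  have hN1 : ∀ χ ∈ S, ∀ ψ ∈ S, 1 ≤ N χ ψ := by
    intro χ hχ ψ hψ
    have hne : ∀ i : ℕ, aeval (ω ^ (2 * i + 1)) (F χ ψ) ≠ 0 := by
      intro i h0
      have h1 := hF χ ψ (2 * i + 1)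
      rw [h0, mul_zero] at h1
      have h2 := regPair_secPart_ne_zero hM (y ^ (2 * i + 1)) n (hord i) _ (hHi i) B b hind χ ψ
        (hSB χ hχ) (hSB ψ hψ) (hS0 χ hχ) (hS0 ψ hψ)
      rcases mul_eq_zero.mp h1 with h | h
      · have : ((2 ^ d : ℕ) : ℂ) ≠ 0 := by
          exact_mod_cast (pow_pos (by norm_num : 0 < 2) d).ne'
        exact this h
      · exact h2 h
    have h1 : (0 : ℝ) < (m : ℝ) * (N χ ψ : ℝ) := by
      rw [← hBR]
      calc (0 : ℝ) < (fun i => Complex.normSq (aeval (ω ^ (2 * i + 1)) (F χ ψ))) 0 :=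
            Complex.normSq_pos.mpr (hne 0)
        _ ≤ _ := Finset.single_le_sum
            (f := fun i => Complex.normSq (aeval (ω ^ (2 * i + 1)) (F χ ψ)))
            (fun i _ => Complex.normSq_nonneg _) (Finset.mem_range.mpr hm0)
    have h2 : (0 : ℝ) < (N χ ψ : ℝ) := by
      by_contra hneg
      push Not at hneg
      have := mul_nonpos_of_nonneg_of_nonpos hmR.le hneg
      linarith
    have h3 : 0 < N χ ψ := by exact_mod_cast h2
    omega
  have h2d : (0 : ℤ) < 2 ^ d := by positivity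
  -- (F)
  have hapos : ∀ χ : IrrCharacter G, 0 ≤ a' χ := by
    intro χ
    have h1 : 0 ≤ (2 ^ d : ℤ) * a' χ := by
      rw [← hC]
      exact Finset.sum_nonneg (fun ψ _ => hN0 χ ψ)
    by_contra hneg
    push Not at hneg
    have := mul_neg_of_pos_of_neg h2d hneg
    omega
  -- (G)
  have hodd : ∀ χ ∈ S, Odd (a' χ) := by
    intro χ hχ
    rw [← ZMod.intCast_eq_one_iff_odd]
    have h1 : ((a' χ : ℤ) : ZMod 2)
        = ((∑ θ : IrrCharacter (Subgroup.centralizer ({y} : Set G)),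
            ∑ θ' : IrrCharacter (Subgroup.centralizer ({y} : Set G)),
              (nn χ θ : ℤ) * (nn χ θ' : ℤ) * u θ θ' : ℤ) : ZMod 2) := by
      rw [ha']
      exact parity_struct m hm0 (fun θ θ' => (nn χ θ : ℤ) * (nn χ θ' : ℤ) * u θ θ')
        (fun θ θ' => by
          rw [husymm θ θ']
          ring) ε
    rw [h1, ZMod.intCast_eq_one_iff_odd, ← Int.not_even_iff_odd]
    intro heven
    obtain ⟨r, hr⟩ := heven
    have hnot : ∀ i : ℕ, ¬ MemLocalIdeal M (aeval (ω ^ (2 * i + 1)) (F χ χ)) := by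
      intro i
      have h2 := hF χ χ (2 * i + 1)
      exact not_memLocalIdeal_contrib hM (y ^ (2 * i + 1)) n (hord i) _ (hHi i) B b hind χ χ
        (hSB χ hχ) (hSB χ hχ) (hS0 χ hχ) (hS0 χ hχ) (aeval (ω ^ (2 * i + 1)) (F χ χ))
        (by rw [← hd]; exact h2)
    apply hnot 0
    have hpow : 2 ^ (n + 1) = 2 * m := by
      rw [hm]
      exact pow_succ' 2 n
    have h4 : ∀ i : ℕ, MemLocalIdeal M (aeval (ω ^ (2 * i + 1)) (F χ χ)
        - ((∑ θ : IrrCharacter (Subgroup.centralizer ({y} : Set G)),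
            ∑ θ' : IrrCharacter (Subgroup.centralizer ({y} : Set G)),
              (nn χ θ : ℤ) * (nn χ θ' : ℤ) * u θ θ' : ℤ) : ℂ)) := by
      intro i
      rw [hFdef]
      exact memLocalIdeal_struct_sub hM (n + 1) (ω ^ (2 * i + 1))
        (by rw [← pow_mul, mul_comm, pow_mul, hpow, hω.pow_eq_one, one_pow])
        (fun θ θ' => (nn χ θ : ℤ) * (nn χ θ' : ℤ) * u θ θ')
        (fun θ θ' => ε θ + (2 * m - 1) * ε θ')
    have h4' := h4 0
    rw [hr] at h4'
    have h5 : MemLocalIdeal M (((r + r : ℤ) : ℂ)) := by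
      have h6 : ((2 : ℕ) : AlgInt) ∈ M := hM.2.2
      have h7 := memLocalIdeal_of_mem h6 hMtop
      have h8 := memLocalIdeal_mul_integral h7 (c := (r : ℂ))
        (by
          have := isIntegral_algebraMap (R := ℤ) (A := ℂ) (x := r)
          simpa using this)
      have h10 : ((((2 : ℕ) : AlgInt)) : ℂ) = 2 := by
        push_cast
        rfl
      have h9 : ((r + r : ℤ) : ℂ) = (r : ℂ) * (((2 : ℕ) : AlgInt) : ℂ) := by
        rw [h10]
        push_cast
        ring
      rw [h9]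
      exact h8
    have h6 := memLocalIdeal_add h4' h5
    rw [sub_add_cancel] at h6
    exact h6
  -- conclusion
  obtain ⟨an, han⟩ : ∃ an : IrrCharacter G → ℕ, ∀ χ, a' χ = (an χ : ℤ) :=
    ⟨fun χ => (a' χ).toNat, fun χ => (Int.toNat_of_nonneg (hapos χ)).symm⟩
  refine ⟨an, ?_, ?_, ?_⟩
  · intro χ hχ
    have := hodd χ hχ
    rw [han, Int.odd_coe_nat] at this
    exact this
  · have h1 : ∑ χ ∈ S, a' χ ≤ (2 ^ d : ℤ) * (blockRank 2 b : ℤ) := by
      rw [← hD]
      calc ∑ χ ∈ S, a' χ = ∑ χ ∈ S, (if χ ∈ B then a' χ else 0) := by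
            apply Finset.sum_congr rfl
            intro χ hχ
            rw [if_pos (hSB χ hχ)]
        _ ≤ _ := by
            apply Finset.sum_le_sum_of_subset_of_nonneg (Finset.subset_univ _)
            intro χ _ _
            split_ifs
            · exact hapos χ
            · exact le_refl _
    simp_rw [han] at h1
    exact_mod_cast h1
  · intro χ hχ
    have h1 : (S.card : ℤ) ≤ (2 ^ d : ℤ) * a' χ := by
      rw [← hC]
      calc (S.card : ℤ) = ∑ _ψ ∈ S, (1 : ℤ) := by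
            rw [Finset.sum_const, nsmul_eq_mul, mul_one]
        _ ≤ ∑ ψ ∈ S, N χ ψ := Finset.sum_le_sum (fun ψ hψ => hN1 χ hχ ψ hψ)
        _ ≤ _ := by
            apply Finset.sum_le_sum_of_subset_of_nonneg (Finset.subset_univ _)
            intro ψ _ _
            exact hN0 χ ψ
    rw [han] at h1
    exact_mod_cast h1

end Cfsg.Agent.Lib.helper3.Contrib
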