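import Cfsg.Agent.H2.SidkiT

/-!
# S3048 piece (P4): a minimal normal subgroup of the minimal counterexample is simple
-/

set_option autoImplicit false
set_option linter.style.haveILetI false

namespace Cfsg.Agent.Lib.helper3.SidkiP4

open Cfsg.Agent.H2.Sidki

universe u
variable {G : Type u} [Group G]

/-- conjugate subgroup `g A g⁻¹` -/
def cj (g : G) (A : Subgroup G) : Subgroup G := A.map (MulAut.conj g).toMonoidHom

lemma mem_cj {g : G} {A : Subgroup G} {y : G} : y ∈ cj g A ↔ g⁻¹ * y * g ∈ A := by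
  unfold cj
  rw [Subgroup.mem_map]
  constructor
  · rintro ⟨a, ha, rfl⟩
    simp only [MulEquiv.coe_toMonoidHom, MulAut.conj_apply]
    have : g⁻¹ * (g * a * g⁻¹) * g = a := by group
    rwa [this]
  · intro h
    refine ⟨g⁻¹ * y * g, h, ?_⟩
    simp only [MulEquiv.coe_toMonoidHom, MulAut.conj_apply]
    group

lemma conj_mem_cj {g : G} {A : Subgroup G} {a : G} (ha : a ∈ A) : g * a * g⁻¹ ∈ cj g A := by
  rw [mem_cj]
  have : g⁻¹ * (g * a * g⁻¹) * g = a := by group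
  rwa [this]

lemma card_cj (g : G) (A : Subgroup G) : Nat.card (cj g A) = Nat.card A := by
  unfold cj
  exact Subgroup.card_map_of_injective (MulAut.conj g).injective

/-- `N` normalizes `A`, in one-directional form -/
def Nz (N A : Subgroup G) : Prop := ∀ n ∈ N, ∀ a ∈ A, n * a * n⁻¹ ∈ A

lemma Nz_of_le_normalizer {N A : Subgroup G} (h : N ≤ Subgroup.normalizer (A : Set G)) :
    Nz N A :=
  fun n hn a ha => (Subgroup.mem_normalizer_iff.1 (h hn) a).1 ha

lemma le_normalizer_of_Nz {N A : Subgroup G} (h : Nz N A) :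
    N ≤ Subgroup.normalizer (A : Set G) := by
  intro n hn
  rw [Subgroup.mem_normalizer_iff]
  intro a
  refine ⟨h n hn a, fun ha => ?_⟩
  have := h n⁻¹ (N.inv_mem hn) _ ha
  have e : n⁻¹ * (n * a * n⁻¹) * n⁻¹⁻¹ = a := by group
  rwa [e] at this

/-- nontrivial subgroup of `N` normalized by `N` -/
def P (N A : Subgroup G) : Prop := A ≤ N ∧ Nz N A ∧ A ≠ ⊥

/-- of minimal order among those -/
def M (N A : Subgroup G) : Prop := P N A ∧ ∀ B, P N B → Nat.card A ≤ Nat.card B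

lemma P_cj {N A : Subgroup G} (hN : N.Normal) (h : P N A) (g : G) : P N (cj g A) := by
  obtain ⟨h1, h2, h3⟩ := h
  refine ⟨?_, ?_, ?_⟩
  · intro y hy
    rw [mem_cj] at hy
    have := hN.conj_mem _ (h1 hy) g
    have e : g * (g⁻¹ * y * g) * g⁻¹ = y := by group
    rwa [e] at this
  · intro n hn y hy
    rw [mem_cj] at hy ⊢
    have hn' : g⁻¹ * n * g ∈ N := by
      have := hN.conj_mem n hn g⁻¹
      simpa using this
    have := h2 _ hn' _ hy
    have e : g⁻¹ * n * g * (g⁻¹ * y * g) * (g⁻¹ * n * g)⁻¹ = g⁻¹ * (n * y * n⁻¹) * g := by group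
    rwa [e] at this
  · intro hbot
    apply h3
    rw [Subgroup.eq_bot_iff_forall] at hbot ⊢
    intro a ha
    have := hbot _ (conj_mem_cj (g := g) ha)
    have e : a = g⁻¹ * (g * a * g⁻¹) * g := by group
    rw [e, this]; group

lemma M_cj {N A : Subgroup G} (hN : N.Normal) (h : M N A) (g : G) : M N (cj g A) :=
  ⟨P_cj hN h.1 g, fun B hB => by rw [card_cj]; exact h.2 B hB⟩

lemma dichotomy [Finite G] {N A B : Subgroup G} (hA : M N A) (hB : M N B) :
    A = B ∨ (A ⊓ B = ⊥ ∧ ∀ a ∈ A, ∀ b ∈ B, a * b = b * a) := by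
  by_cases h : A ⊓ B = ⊥
  · right
    refine ⟨h, fun a ha b hb => ?_⟩
    have hmem : a * b * a⁻¹ * b⁻¹ ∈ A ⊓ B := by
      constructor
      · have h1 : b * a⁻¹ * b⁻¹ ∈ A := hA.1.2.1 b (hB.1.1 hb) _ (A.inv_mem ha)
        have e : a * b * a⁻¹ * b⁻¹ = a * (b * a⁻¹ * b⁻¹) := by group
        rw [e]; exact A.mul_mem ha h1
      · have h1 : a * b * a⁻¹ ∈ B := hB.1.2.1 a (hA.1.1 ha) _ hb
        exact B.mul_mem h1 (B.inv_mem hb)
    rw [h, Subgroup.mem_bot] at hmem
    calc a * b = (a * b * a⁻¹ * b⁻¹) * (b * a) := by group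
      _ = b * a := by rw [hmem, one_mul]
  · left
    have hP : P N (A ⊓ B) :=
      ⟨inf_le_left.trans hA.1.1,
        fun n hn y hy => ⟨hA.1.2.1 n hn y hy.1, hB.1.2.1 n hn y hy.2⟩, h⟩
    have h1 : A ⊓ B = A := Subgroup.eq_of_le_of_card_ge inf_le_left (hA.2 _ hP)
    have h2 : A ⊓ B = B := Subgroup.eq_of_le_of_card_ge inf_le_right (hB.2 _ hP)
    exact h1.symm.trans h2

lemma exists_M [Finite G] {N A : Subgroup G} (h : P N A) :
    ∃ L, M N L ∧ Nat.card L ≤ Nat.card A := by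
  classical
  have hex : ∃ n, ∃ B, P N B ∧ Nat.card B = n := ⟨_, A, h, rfl⟩
  obtain ⟨L, hL, hLn⟩ := Nat.find_spec hex
  refine ⟨L, ⟨hL, fun B hB => ?_⟩, ?_⟩
  · rw [hLn]; exact Nat.find_min' hex ⟨B, hB, rfl⟩
  · rw [hLn]; exact Nat.find_min' hex ⟨A, h, rfl⟩

lemma closure_comm {S : Set G} (hS : ∀ a ∈ S, ∀ b ∈ S, a * b = b * a) :
    ∀ a ∈ Subgroup.closure S, ∀ b ∈ Subgroup.closure S, a * b = b * a := by
  have h2 : Subgroup.closure S ≤ Subgroup.centralizer S := by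
    rw [Subgroup.closure_le]
    intro a ha
    rw [SetLike.mem_coe, Subgroup.mem_centralizer_iff]
    intro b hb
    exact hS b hb a ha
  have h3 : Subgroup.closure S ≤ Subgroup.centralizer (Subgroup.closure S : Set G) := by
    rw [Subgroup.closure_le]
    intro a ha
    rw [SetLike.mem_coe, Subgroup.mem_centralizer_iff]
    intro b hb
    exact (Subgroup.mem_centralizer_iff.1 (h2 hb) a ha).symm
  intro a ha b hb
  exact (Subgroup.mem_centralizer_iff.1 (h3 ha) b hb).symm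

lemma exists_odd_of_not_two_group [Finite G] {L : Subgroup G} (h : ¬ IsPGroup 2 L) :
    ∃ x ∈ L, x ≠ 1 ∧ Odd (orderOf x) := by
  unfold IsPGroup at h
  push_neg at h
  obtain ⟨g, hg⟩ := h
  have hpos : orderOf (g : G) ≠ 0 := (orderOf_pos (g : G)).ne'
  obtain ⟨k, m, hm, hkm⟩ := Nat.exists_eq_two_pow_mul_odd hpos
  refine ⟨(g : G) ^ (2 ^ k), L.pow_mem g.2 _, ?_, ?_⟩
  · intro h1
    apply hg k
    ext
    simpa using h1
  · have : ((g : G) ^ (2 ^ k)) ^ m = 1 := by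
      rw [← pow_mul, ← hkm, pow_orderOf_eq_one]
    exact Odd.of_dvd_nat hm (orderOf_dvd_of_pow_eq_one this)

lemma mem_of_sq_mem_of_odd {L : Subgroup G} {y : G} (hodd : Odd (orderOf y)) (h : y * y ∈ L) :
    y ∈ L := by
  obtain ⟨k, hk⟩ := hodd
  have : y = (y * y) ^ (k + 1) := by
    rw [← pow_two, ← pow_mul]
    have : 2 * (k + 1) = orderOf y + 1 := by omega
    rw [this, pow_succ, pow_orderOf_eq_one, one_mul]
  rw [this]; exact L.pow_mem h _

lemma eq_one_of_sq_of_odd {y : G} (hodd : Odd (orderOf y)) (h : y * y = 1) : y = 1 := by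
  have := mem_of_sq_mem_of_odd (L := ⊥) hodd (by rw [h]; exact Subgroup.one_mem _)
  simpa using this


theorem main [Finite G] {V : Subgroup G} (c : Ctx V)
    (hab : ∀ N : Subgroup G, N.Normal → (∀ a ∈ N, ∀ b ∈ N, a * b = b * a) → N = ⊥)
    (N₁ : Subgroup G) (hN : N₁.Normal) (hN1 : N₁ ≠ ⊥)
    (hmin : ∀ N' : Subgroup G, N'.Normal → N' ≤ N₁ → N' = ⊥ ∨ N' = N₁)
    (hC : Subgroup.centralizer (N₁ : Set G) = ⊥) (hNV : N₁ ⊔ V = ⊤) :
    ∀ L : Subgroup G, L ≤ N₁ → N₁ ≤ Subgroup.normalizer (L : Set G) → L = ⊥ ∨ L = N₁ := by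
  intro L₀ hL₀le hL₀n
  by_contra hcon
  push_neg at hcon
  obtain ⟨hL₀1, hL₀N⟩ := hcon
  have hP₀ : P N₁ L₀ := ⟨hL₀le, Nz_of_le_normalizer hL₀n, hL₀1⟩
  obtain ⟨L, hM, hcard⟩ := exists_M hP₀
  have hLle : L ≤ N₁ := hM.1.1
  have hLn : Nz N₁ L := hM.1.2.1
  have hL1 : L ≠ ⊥ := hM.1.2.2
  have hLN : L ≠ N₁ := by
    intro h
    apply hL₀N
    apply Subgroup.eq_of_le_of_card_ge hL₀le
    rw [← h]; exact hcard
  have hLnn : ¬ L.Normal := fun h => by
    rcases hmin L h hLle with h' | h'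
    · exact hL1 h'
    · exact hLN h'
  -- (2) `L` has trivial centre
  have hZ : L ⊓ Subgroup.centralizer (L : Set G) = ⊥ := by
    by_contra hne
    have hPZ : P N₁ (L ⊓ Subgroup.centralizer (L : Set G)) := by
      refine ⟨inf_le_left.trans hLle, ?_, hne⟩
      intro n hn y hy
      refine ⟨hLn n hn y hy.1, ?_⟩
      show n * y * n⁻¹ ∈ Subgroup.centralizer (L : Set G)
      rw [Subgroup.mem_centralizer_iff]
      intro l hl
      have hl' : n⁻¹ * l * n ∈ L := by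
        have := hLn n⁻¹ (N₁.inv_mem hn) l hl
        simpa using this
      have hc := Subgroup.mem_centralizer_iff.1 hy.2 _ hl'
      calc l * (n * y * n⁻¹) = n * ((n⁻¹ * l * n) * y) * n⁻¹ := by group
        _ = n * (y * (n⁻¹ * l * n)) * n⁻¹ := by rw [hc]
        _ = n * y * n⁻¹ * l := by group
    have hLZ : L ⊓ Subgroup.centralizer (L : Set G) = L :=
      Subgroup.eq_of_le_of_card_ge inf_le_left (hM.2 _ hPZ)
    have hLab : ∀ a ∈ L, ∀ b ∈ L, a * b = b * a := by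
      intro a ha b hb
      have hb' : b ∈ Subgroup.centralizer (L : Set G) := by
        rw [← hLZ] at hb; exact hb.2
      exact Subgroup.mem_centralizer_iff.1 hb' a ha
    have hT : ∀ a ∈ Subgroup.normalClosure (L : Set G),
        ∀ b ∈ Subgroup.normalClosure (L : Set G), a * b = b * a := by
      unfold Subgroup.normalClosure
      apply closure_comm
      intro a ha b hb
      rw [Group.mem_conjugatesOfSet_iff] at ha hb
      obtain ⟨l, hl, hla⟩ := ha
      obtain ⟨l', hl', hlb⟩ := hb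
      rw [isConj_iff] at hla hlb
      obtain ⟨g, rfl⟩ := hla
      obtain ⟨g', rfl⟩ := hlb
      have h1 : g * l * g⁻¹ ∈ cj g L := conj_mem_cj hl
      have h2 : g' * l' * g'⁻¹ ∈ cj g' L := conj_mem_cj hl'
      rcases dichotomy (M_cj hN hM g) (M_cj hN hM g') with h | h
      · rw [← h] at h2
        rw [mem_cj] at h1 h2
        have key : ∀ a b : G, (g⁻¹ * a * g) * (g⁻¹ * b * g) = (g⁻¹ * b * g) * (g⁻¹ * a * g) →
            a * b = b * a := by
          intro a b hab'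
          calc a * b = g * ((g⁻¹ * a * g) * (g⁻¹ * b * g)) * g⁻¹ := by group
            _ = g * ((g⁻¹ * b * g) * (g⁻¹ * a * g)) * g⁻¹ := by rw [hab']
            _ = b * a := by group
        exact key _ _ (hLab _ h1 _ h2)
      · exact h.2 _ h1 _ h2
    have := hab _ Subgroup.normalClosure_normal hT
    apply hL1
    rw [eq_bot_iff, ← this]
    exact Subgroup.le_normalClosure
  -- (3) an element of odd order
  haveI : Fact (Nat.Prime 2) := ⟨Nat.prime_two⟩
  have hLsn : L.IsSubnormal := by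
    refine Subgroup.IsSubnormal.step L N₁ hLle hN.isSubnormal ?_
    constructor
    intro n hn g
    rw [Subgroup.mem_subgroupOf] at hn ⊢
    exact hLn g.1 g.2 n.1 hn
  have hL2 : ¬ IsPGroup 2 L := fun h2 => by
    have := Cfsg.Agent.H1.le_pCore_of_isSubnormal hLsn h2
    rw [c.o2] at this
    exact hL1 (le_bot_iff.1 this)
  obtain ⟨x, hxL, hx1, hxodd⟩ := exists_odd_of_not_two_group hL2
  -- (4) the normalizer of `L` in `V`
  obtain ⟨V₀, hV₀⟩ : ∃ V₀ : Subgroup G, V₀ = V ⊓ Subgroup.normalizer (L : Set G) := ⟨_, rfl⟩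
  have hV₀V : V₀ ≤ V := by rw [hV₀]; exact inf_le_left
  have hV₀n : V₀ ≤ Subgroup.normalizer (L : Set G) := by rw [hV₀]; exact inf_le_right
  have hcjV : ∀ w ∈ V, cj w L = L → w ∈ V₀ := by
    intro w hw h
    rw [hV₀]
    refine ⟨hw, ?_⟩
    show w ∈ Subgroup.normalizer (L : Set G)
    rw [Subgroup.mem_normalizer_iff]
    intro a
    constructor
    · intro ha; rw [← h]; exact conj_mem_cj ha
    · intro ha
      rw [← h, mem_cj] at ha
      have e : w⁻¹ * (w * a * w⁻¹) * w = a := by group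
      rwa [e] at ha
  have hdis : ∀ w ∈ V, w ∉ V₀ →
      L ⊓ cj w L = ⊥ ∧ ∀ a ∈ L, ∀ b ∈ cj w L, a * b = b * a := by
    intro w hw hw0
    rcases dichotomy hM (M_cj hN hM w) with h | h
    · exact absurd (hcjV w hw h.symm) hw0
    · exact h
  -- (5) `V₀` is nontrivial
  have hV₀1 : V₀ ≠ ⊥ := by
    intro hbot
    have hnot : ∀ w ∈ V, w ≠ 1 → w ∉ V₀ := fun w _ hw1 hw0 =>
      hw1 (by rw [hbot] at hw0; exact Subgroup.mem_bot.1 hw0)
    obtain ⟨v, hvV, hv1⟩ : ∃ v ∈ V, v ≠ 1 := by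
      by_contra hcon
      push_neg at hcon
      exact c.ne ((Subgroup.eq_bot_iff_forall V).2 hcon)
    obtain ⟨cc, hcc⟩ : ∃ cc : G, cc = v * x * v⁻¹ := ⟨_, rfl⟩
    have hccL : cc ∈ cj v L := by rw [hcc]; exact conj_mem_cj hxL
    obtain ⟨hdv, hcv⟩ := hdis v hvV (hnot v hvV hv1)
    have hxc : x * cc = cc * x := hcv x hxL cc hccL
    have hvv : v * v = 1 := c.sq v hvV
    have hvinv : v⁻¹ = v := inv_eq_of_mul_eq_one_right hvv
    obtain ⟨h, hh⟩ : ∃ h : G, h = x⁻¹ * cc := ⟨_, rfl⟩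
    have hinv : v * h * v⁻¹ = h⁻¹ := by
      have e1 : v * (x⁻¹ * (v * x * v⁻¹)) * v⁻¹ = v * x⁻¹ * v * x * (v * v)⁻¹ := by group
      have e2 : (x⁻¹ * (v * x * v⁻¹))⁻¹ = v * x⁻¹ * v⁻¹ * x := by group
      rw [hh, hcc, e1, e2, hvv, hvinv, inv_one, mul_one]
    have hodd : Odd (orderOf h) := by
      have hcomm : Commute x⁻¹ cc := by
        have : Commute x cc := hxc
        exact this.inv_left
      have : h ^ orderOf x = 1 := by
        rw [hh, hcomm.mul_pow, inv_pow, pow_orderOf_eq_one, inv_one, one_mul, hcc, conj_pow,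
          pow_orderOf_eq_one, mul_one, mul_inv_cancel]
      exact Odd.of_dvd_nat hxodd (orderOf_dvd_of_pow_eq_one this)
    obtain ⟨w, hwV, hw1, hwh⟩ := c.sidki h v hvV hodd hinv
    by_cases hwv : w = v
    · have e2 : h = h⁻¹ := by
        rw [← hinv, ← hwv, hwh]; group
      have h2 : h * h = 1 := mul_eq_one_iff_eq_inv.2 e2
      have h1 : h = 1 := eq_one_of_sq_of_odd hodd h2
      rw [hh, inv_mul_eq_one] at h1
      have : x ∈ L ⊓ cj v L := ⟨hxL, by rw [h1]; exact hccL⟩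
      rw [hdv, Subgroup.mem_bot] at this
      exact hx1 this
    · have hwv1 : w * v ≠ 1 := by
        intro h1
        apply hwv
        rw [← hvinv]; exact eq_inv_of_mul_eq_one_left h1
      have hwvV : w * v ∈ V := V.mul_mem hwV hvV
      obtain ⟨_, hcw⟩ := hdis w hwV (hnot w hwV hw1)
      obtain ⟨_, hcwv⟩ := hdis (w * v) hwvV (hnot _ hwvV hwv1)
      have hx' : x⁻¹ = (w * x⁻¹ * w⁻¹) * ((w * v) * x * (w * v)⁻¹) * cc⁻¹ := by
        have e : w * h * w⁻¹ = h := by rw [hwh]; group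
        rw [hh, hcc] at e
        rw [hcc]
        calc x⁻¹ = (x⁻¹ * (v * x * v⁻¹)) * (v * x * v⁻¹)⁻¹ := by group
          _ = (w * (x⁻¹ * (v * x * v⁻¹)) * w⁻¹) * (v * x * v⁻¹)⁻¹ := by rw [e]
          _ = _ := by group
      have hxc' : x⁻¹ ∈ Subgroup.centralizer (L : Set G) := by
        rw [hx']
        refine Subgroup.mul_mem _ (Subgroup.mul_mem _ ?_ ?_) ?_
        · rw [Subgroup.mem_centralizer_iff]; intro l hl
          exact hcw l hl _ (conj_mem_cj (L.inv_mem hxL))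
        · rw [Subgroup.mem_centralizer_iff]; intro l hl
          exact hcwv l hl _ (conj_mem_cj hxL)
        · rw [Subgroup.mem_centralizer_iff]; intro l hl
          exact hcv l hl _ ((cj v L).inv_mem hccL)
      have : x⁻¹ ∈ L ⊓ Subgroup.centralizer (L : Set G) := ⟨L.inv_mem hxL, hxc'⟩
      rw [hZ, Subgroup.mem_bot, inv_eq_one] at this
      exact hx1 this
  -- (6) the Sidki condition for `V₀` in `L V₀`
  have hS6 : SidkiIn V₀ (L ⊔ V₀) := by
    intro y hy u hu hyodd hinv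
    have hyL : y ∈ L := by
      apply mem_of_sq_mem_of_odd hyodd
      rw [← SetLike.mem_coe, Subgroup.coe_mul_of_right_le_normalizer_left L V₀ hV₀n] at hy
      obtain ⟨l, hl, v₀, hv₀, rfl⟩ := Set.mem_mul.1 hy
      have hv2 : v₀ * v₀ = 1 := c.sq v₀ (hV₀V hv₀)
      have hl' : v₀ * l * v₀⁻¹ ∈ L := (Subgroup.mem_normalizer_iff.1 (hV₀n hv₀) l).1 hl
      have e : l * v₀ * (l * v₀) = l * (v₀ * l * v₀⁻¹) * (v₀ * v₀) := by group
      rw [e, hv2, mul_one]; exact L.mul_mem hl hl'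
    by_cases hy1 : y = 1
    · obtain ⟨w, hw, hw1⟩ : ∃ w ∈ V₀, w ≠ 1 := by
        by_contra hcon
        push_neg at hcon
        exact hV₀1 ((Subgroup.eq_bot_iff_forall V₀).2 hcon)
      exact ⟨w, hw, hw1, by rw [hy1, mul_one, one_mul]⟩
    · obtain ⟨w, hwV, hw1, hwy⟩ := c.sidki y u (hV₀V hu) hyodd hinv
      refine ⟨w, ?_, hw1, hwy⟩
      by_contra hw0
      obtain ⟨hd, _⟩ := hdis w hwV hw0
      have : y ∈ L ⊓ cj w L := by
        refine ⟨hyL, ?_⟩
        have e : y = w * y * w⁻¹ := by rw [hwy]; group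
        rw [e]; exact conj_mem_cj hyL
      rw [hd, Subgroup.mem_bot] at this
      exact hy1 this
  have hLV₀ : L ⊔ V₀ ≠ ⊤ := by
    intro htop
    apply hLnn
    rw [← Subgroup.normalizer_eq_top_iff]
    apply top_le_iff.1
    rw [← htop]
    exact sup_le (hLle.trans (le_normalizer_of_Nz hLn)) hV₀n
  obtain ⟨w₀, hw₀, hw₀1, hw₀c⟩ :=
    c.exists_centralizing L V₀ hLsn hV₀V hV₀1 hV₀n hLV₀ hS6
  -- (7) `w₀` centralizes the normal closure of `L`, which is `N₁`
  have hnc : Subgroup.normalClosure (L : Set G) = N₁ := by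
    haveI := hN
    rcases hmin _ Subgroup.normalClosure_normal (Subgroup.normalClosure_le_normal hLle) with h | h
    · exact absurd (le_bot_iff.1 (h ▸ Subgroup.le_normalClosure)) hL1
    · exact h
  have hcen : Subgroup.normalClosure (L : Set G) ≤ Subgroup.centralizer ({w₀} : Set G) := by
    unfold Subgroup.normalClosure
    rw [Subgroup.closure_le]
    intro a ha
    rw [Group.mem_conjugatesOfSet_iff] at ha
    obtain ⟨l, hl, hla⟩ := ha
    rw [isConj_iff] at hla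
    obtain ⟨g, rfl⟩ := hla
    have hg : g ∈ V ⊔ N₁ := by rw [sup_comm, hNV]; trivial
    haveI := hN
    rw [← SetLike.mem_coe, Subgroup.mul_normal V N₁] at hg
    obtain ⟨v, hv, n, hn, rfl⟩ := Set.mem_mul.1 hg
    rw [SetLike.mem_coe, Subgroup.mem_centralizer_iff]
    intro z hz
    rw [Set.mem_singleton_iff] at hz
    subst hz
    have hl' : n * l * n⁻¹ ∈ L := hLn n hn l hl
    have h1 := hw₀c _ hl'
    have h2 : z * v = v * z := c.comm z (hV₀V hw₀) v hv
    have h2' : z * v⁻¹ = v⁻¹ * z := c.comm z (hV₀V hw₀) v⁻¹ (V.inv_mem hv)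
    calc z * (v * n * l * (v * n)⁻¹) = (z * v) * (n * l * n⁻¹) * v⁻¹ := by group
      _ = v * (z * (n * l * n⁻¹)) * v⁻¹ := by rw [h2]; group
      _ = v * ((n * l * n⁻¹) * (z * v⁻¹)) := by rw [h1]; group
      _ = v * ((n * l * n⁻¹) * (v⁻¹ * z)) := by rw [h2']
      _ = v * n * l * (v * n)⁻¹ * z := by group
  have : w₀ ∈ Subgroup.centralizer (N₁ : Set G) := by
    rw [Subgroup.mem_centralizer_iff]
    intro n hn
    rw [SetLike.mem_coe, ← hnc] at hn
    exact (Subgroup.mem_centralizer_iff.1 (hcen hn) w₀ (Set.mem_singleton _)).symm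
  rw [hC, Subgroup.mem_bot] at this
  exact hw₀1 this

end Cfsg.Agent.Lib.helper3.SidkiP4

namespace Cfsg.Agent.H2.Sidki

universe u
variable {G : Type u} [Group G] [Finite G] {V : Subgroup G}

/-- (P4) a minimal normal subgroup is simple. -/
theorem Ctx.minimal_normal_simple (c : Ctx V)
    (hab : ∀ N : Subgroup G, N.Normal → (∀ a ∈ N, ∀ b ∈ N, a * b = b * a) → N = ⊥)
    (N₁ : Subgroup G) (hN : N₁.Normal) (hN1 : N₁ ≠ ⊥)
    (hmin : ∀ N' : Subgroup G, N'.Normal → N' ≤ N₁ → N' = ⊥ ∨ N' = N₁)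
    (hC : Subgroup.centralizer (N₁ : Set G) = ⊥) (hNV : N₁ ⊔ V = ⊤) :
    ∀ L : Subgroup G, L ≤ N₁ → N₁ ≤ Subgroup.normalizer (L : Set G) → L = ⊥ ∨ L = N₁ :=
  Cfsg.Agent.Lib.helper3.SidkiP4.main c hab N₁ hN hN1 hmin hC hNV

end Cfsg.Agent.H2.Sidki
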