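import Cfsg.Agent.H2.LESBasic
import Cfsg.Agent.H2.Layer
import Cfsg.Agent.S0542
import Cfsg.Agent.Lib.helper3.SidkiP4

/-!
# S5426 piece (R4b): `Q` is transitive on the components
-/

set_option autoImplicit false
set_option linter.style.haveILetI false

namespace Cfsg.Agent.Lib.helper3.LESR4b

open Cfsg.Agent.H2.LES Cfsg.Agent.Lib.helper3.SidkiP4

universe u
variable {G : Type u} [Group G]

lemma cj_cj (v w : G) (K : Subgroup G) : cj v (cj w K) = cj (v * w) K := by
  ext x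
  rw [mem_cj, mem_cj, mem_cj]
  have e : w⁻¹ * (v⁻¹ * x * v) * w = (v * w)⁻¹ * x * (v * w) := by group
  rw [e]

lemma cj_one (K : Subgroup G) : cj 1 K = K := by
  ext x
  rw [mem_cj]
  simp

lemma Nz_orbit (Q K : Subgroup G) : Nz Q (⨆ u : ↥Q, cj (u : G) K) := by
  intro v hv a ha
  have hle : (⨆ u : ↥Q, cj (u : G) K) ≤
      (⨆ u : ↥Q, cj (u : G) K).comap (MulAut.conj v).toMonoidHom := by
    apply iSup_le
    intro w x hx
    rw [Subgroup.mem_comap]
    have h1 : (MulAut.conj v).toMonoidHom x ∈ cj v (cj (w : G) K) :=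
      Subgroup.mem_map_of_mem _ hx
    rw [cj_cj] at h1
    exact (le_iSup (fun u : ↥Q => cj (u : G) K) ⟨v * w, Q.mul_mem hv w.2⟩) h1
  have := hle ha
  rw [Subgroup.mem_comap] at this
  simpa [MulAut.conj_apply] using this

theorem z_mem_orbit [Finite G] {Q : Subgroup G} {z : G} (c : Ctx Q z) (K : Subgroup G)
    (hK : Cfsg.IsComponent K) : z ∈ ⨆ u : ↥Q, cj (u : G) K := by
  classical
  haveI : Fact (Nat.Prime 2) := ⟨Nat.prime_two⟩
  obtain ⟨T, hQT⟩ := c.pgrp.exists_le_sylow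
  have hKN : K ≤ ⨆ u : ↥Q, cj (u : G) K := by
    have := le_iSup (fun u : ↥Q => cj (u : G) K) ⟨1, Q.one_mem⟩
    simpa [cj_one] using this
  have heven : 2 ∣ Nat.card K := by
    by_contra hnd
    have hodd : Odd (Nat.card K) := by
      rcases Nat.even_or_odd (Nat.card K) with he | ho
      · exact absurd (even_iff_two_dvd.1 he) hnd
      · exact ho
    exact Cfsg.Agent.H2.quasisimple_ne_bot hK.2 (c.eq_bot_of_isSubnormal_of_odd K hK.1 hodd)
  obtain ⟨R, hR⟩ := Cfsg.Agent.S0542.result 2 K hK.1 T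
  have hRne : (R : Subgroup K) ≠ ⊥ := R.ne_bot_of_dvd_card heven
  have hX1 : (T : Subgroup G) ⊓ (⨆ u : ↥Q, cj (u : G) K) ≠ ⊥ := by
    intro hbot
    apply hRne
    rw [hR, Subgroup.eq_bot_iff_forall]
    intro x hx
    rw [Subgroup.mem_subgroupOf] at hx
    have : (x : G) ∈ (T : Subgroup G) ⊓ (⨆ u : ↥Q, cj (u : G) K) := ⟨hx, hKN x.2⟩
    rw [hbot, Subgroup.mem_bot] at this
    exact Subtype.ext this
  have hX2 : IsPGroup 2 ↥((T : Subgroup G) ⊓ (⨆ u : ↥Q, cj (u : G) K)) :=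
    T.isPGroup'.to_le inf_le_left
  have hQX : Q ≤ Subgroup.normalizer
      (((T : Subgroup G) ⊓ (⨆ u : ↥Q, cj (u : G) K) : Subgroup G) : Set G) := by
    apply le_normalizer_of_Nz
    intro v hv a ha
    refine ⟨?_, Nz_orbit Q K v hv a ha.2⟩
    exact (T : Subgroup G).mul_mem ((T : Subgroup G).mul_mem (hQT hv) ha.1)
      ((T : Subgroup G).inv_mem (hQT hv))
  exact (c.z_mem_of_two_group _ hX2 hX1 hQX).2

theorem not_cent_all [Finite G] {Q : Subgroup G} {z : G} (c : Ctx Q z)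
    (h : Cfsg.pCore 2 G = ⊥) :
    ¬ ∀ K : Subgroup G, Cfsg.IsComponent K → ∀ k ∈ K, z * k = k * z := by
  intro hall
  have hF : Cfsg.fittingSubgroup G = ⊥ := c.fitting_eq.trans h
  have hFs : Cfsg.generalizedFittingSubgroup G = Cfsg.layer G := by
    unfold Cfsg.generalizedFittingSubgroup
    rw [hF, sup_bot_eq]
  have h1 : Cfsg.layer G ≤ Subgroup.centralizer ({z} : Set G) := by
    apply Cfsg.Agent.H2.layer_le_centralizer_of_forall
    intro L hL k hk
    rw [Subgroup.mem_centralizer_iff]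
    intro y hy
    rw [Set.mem_singleton_iff] at hy
    rw [hy]
    exact hall L hL k hk
  have h2 : z ∈ Subgroup.centralizer (Cfsg.generalizedFittingSubgroup G : Set G) := by
    rw [hFs, Subgroup.mem_centralizer_iff]
    intro y hy
    exact (Subgroup.mem_centralizer_iff.1 (h1 hy) z (Set.mem_singleton z)).symm
  have h3 : z ∈ Cfsg.layer G := by
    have := Cfsg.Agent.H2.centralizer_generalizedFittingSubgroup_le h2
    rwa [hFs] at this
  have h4 : z ∈ (Subgroup.center (Cfsg.layer G)).map (Cfsg.layer G).subtype := by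
    rw [Cfsg.Agent.H2.mem_map_subtype_center_iff]
    refine ⟨h3, fun y hy => ?_⟩
    exact (Subgroup.mem_centralizer_iff.1 (h1 hy) z (Set.mem_singleton z)).symm
  rw [Cfsg.Agent.H2.center_layer_eq, hF, bot_inf_eq, Subgroup.mem_bot] at h4
  exact c.z1 h4

theorem cent_of_not_conj [Finite G] {Q : Subgroup G} {z : G} (c : Ctx Q z)
    (K K'' : Subgroup G) (hK : Cfsg.IsComponent K) (hK'' : Cfsg.IsComponent K'')
    (hne : ∀ u ∈ Q, K'' ≠ cj u K) : ∀ k ∈ K'', z * k = k * z := by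
  have hz := z_mem_orbit c K hK
  have hle : (⨆ u : ↥Q, cj (u : G) K) ≤ Subgroup.centralizer (K'' : Set G) := by
    apply iSup_le
    intro w
    rw [← Subgroup.commutator_eq_bot_iff_le_centralizer]
    exact Cfsg.Agent.H2.components_commute (Cfsg.Agent.H2.component_conj hK (w : G)) hK''
      (fun e => hne w w.2 e.symm)
  intro k hk
  exact (Subgroup.mem_centralizer_iff.1 (hle hz) k hk).symm

theorem transitive' [Finite G] {Q : Subgroup G} {z : G} (c : Ctx Q z)
    (h : Cfsg.pCore 2 G = ⊥) (K K' : Subgroup G)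
    (hK : Cfsg.IsComponent K) (hK' : Cfsg.IsComponent K') : ∃ u ∈ Q, K' = cj u K := by
  by_contra hcon
  push_neg at hcon
  apply not_cent_all c h
  intro K'' hK''
  by_cases hA : ∃ u ∈ Q, K'' = cj u K
  · obtain ⟨u, hu, hKu⟩ := hA
    apply cent_of_not_conj c K' K'' hK' hK''
    intro v hv hKv
    apply hcon (v⁻¹ * u) (Q.mul_mem (Q.inv_mem hv) hu)
    have : cj v⁻¹ (cj v K') = cj v⁻¹ (cj u K) := by rw [← hKv, ← hKu]
    rw [cj_cj, cj_cj, inv_mul_cancel, cj_one] at this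
    exact this
  · push_neg at hA
    exact cent_of_not_conj c K K'' hK hK'' hA

end Cfsg.Agent.Lib.helper3.LESR4b

namespace Cfsg.Agent.H2.LES

universe u
variable {G : Type u} [Group G] [Finite G] {Q : Subgroup G} {z : G}

/-- (R4b-1) `z` lies in the join of the `Q`-conjugates of any component. -/
theorem Ctx.z_mem_orbit_join (c : Ctx Q z) (h : Cfsg.pCore 2 G = ⊥) (K : Subgroup G)
    (hK : Cfsg.IsComponent K) : z ∈ ⨆ u : ↥Q, K.map (MulAut.conj (u : G)).toMonoidHom :=
  Cfsg.Agent.Lib.helper3.LESR4b.z_mem_orbit c K hK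

/-- (R4b-2) `z` does not centralize all components. -/
theorem Ctx.not_centralizes_all (c : Ctx Q z) (h : Cfsg.pCore 2 G = ⊥) :
    ¬ ∀ K : Subgroup G, Cfsg.IsComponent K → ∀ k ∈ K, z * k = k * z :=
  Cfsg.Agent.Lib.helper3.LESR4b.not_cent_all c h

/-- (R4b-3) `Q` is transitive on the components. -/
theorem Ctx.transitive (c : Ctx Q z) (h : Cfsg.pCore 2 G = ⊥) (K K' : Subgroup G)
    (hK : Cfsg.IsComponent K) (hK' : Cfsg.IsComponent K') :
    ∃ u ∈ Q, K' = K.map (MulAut.conj u).toMonoidHom :=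
  Cfsg.Agent.Lib.helper3.LESR4b.transitive' c h K K' hK hK'

end Cfsg.Agent.H2.LES
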