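import Mathlib
import Cfsg.Prelude.Def_OddOrderChar
import Cfsg.Agent.Lib.helper3.Coh14

set_option autoImplicit false
set_option linter.style.haveILetI false
set_option linter.unusedSectionVars false

/-!
# The coherence extension criterion: the key computation
-/

namespace Cfsg.Agent.Lib.helper3.Coh

open Cfsg Module Cfsg.Agent.Lib.helper3.CharBasic Cfsg.Agent.Lib.helper3.IndFun
open Cfsg.Agent.Lib.helper3.Irr
open scoped ComplexConjugate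

section sys

variable {L : Type*} [Group L] [Fintype L] {G : Type*} [Group G] [Fintype G]
variable {S : Set (L → ℂ)} {τ : (L → ℂ) → (G → ℂ)} {R : (L → ℂ) → Finset (G → ℂ)}

/-- The arithmetic heart of the extension criterion. -/
theorem extend_arith (e : ℤ) (a : ℕ) (D T₀ : ℝ) (hD : 0 < D) (hlt : 2 * a * D ^ 2 < T₀)
    (hle : (e : ℝ) ^ 2 / D ^ 2 * T₀ - 2 * e * a ≤ 0) : e = 0 := by
  by_contra he
  have hT : 0 < T₀ := by
    have : (0 : ℝ) ≤ 2 * a * D ^ 2 := by positivity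
    linarith
  have hD2 : 0 < D ^ 2 := by positivity
  have h1 : (e : ℝ) ^ 2 * T₀ ≤ 2 * e * a * D ^ 2 := by
    have h2 : (e : ℝ) ^ 2 / D ^ 2 * T₀ ≤ 2 * e * a := by linarith
    have h3 : (e : ℝ) ^ 2 / D ^ 2 * T₀ * D ^ 2 ≤ 2 * e * a * D ^ 2 :=
      mul_le_mul_of_nonneg_right h2 hD2.le
    have h4 : (e : ℝ) ^ 2 / D ^ 2 * T₀ * D ^ 2 = (e : ℝ) ^ 2 * T₀ := by field_simp
    linarith
  rcases lt_or_gt_of_ne he with hneg | hpos
  · have he' : (e : ℝ) < 0 := by exact_mod_cast hneg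
    have h5 : 2 * (e : ℝ) * a * D ^ 2 ≤ 0 := by
      have : (0 : ℝ) ≤ a * D ^ 2 := by positivity
      nlinarith
    have h6 : 0 < (e : ℝ) ^ 2 * T₀ := by
      have : 0 < (e : ℝ) ^ 2 := by positivity
      positivity
    linarith
  · have he1 : (1 : ℤ) ≤ e := hpos
    have he' : (1 : ℝ) ≤ e := by exact_mod_cast he1
    have h5 : 2 * (e : ℝ) * a * D ^ 2 < e * T₀ := by nlinarith
    have h6 : (e : ℝ) ^ 2 * T₀ < e * T₀ := by linarith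
    have h7 : (e : ℝ) * T₀ ≤ (e : ℝ) ^ 2 * T₀ := by
      have : (e : ℝ) ≤ (e : ℝ) ^ 2 := by nlinarith
      exact mul_le_mul_of_nonneg_right this hT.le
    linarith

/-- The key computation for the extension criterion. -/
theorem CS.extend_key (hS : IsCoherenceSystem S τ R) (d n : (L → ℂ) → ℕ)
    (hd : ∀ φ ∈ S, φ 1 = (d φ : ℂ)) (hn : ∀ φ ∈ S, classInner φ φ = (n φ : ℂ))
    (S₁ : Finset (L → ℂ)) (hS₁ : (↑S₁ : Set (L → ℂ)) ⊆ S) (hS₁c : ∀ φ ∈ S₁, conjFun φ ∈ S₁)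
    (τ₁ : (L → ℂ) → (G → ℂ)) (hτ₁ : IsLinearIsometryOn (zspan (↑S₁ : Set (L → ℂ))) τ₁)
    (hext : ∀ α ∈ zspanOn (↑S₁ : Set (L → ℂ)) ({1}ᶜ : Set L), τ₁ α = τ α)
    (χ : L → ℂ) (hχ : χ ∈ S) (hχ₁ : χ ∉ S₁) (hχ₂ : conjFun χ ∉ S₁) (χ₁ : L → ℂ)
    (hχ₁S : χ₁ ∈ S₁) (a : ℕ) (ha : d χ = a * d χ₁)
    (hineq : (2 * d χ * d χ₁ : ℝ) < ∑ φ ∈ S₁, ((d φ : ℝ) ^ 2 / (n φ : ℝ))) :
    ∃ X : G → ℂ, IsGeneralizedCharacter G X ∧ classInner X X = (n χ : ℂ) ∧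
      classInner X (∑ γ ∈ R χ, γ) = (n χ : ℂ) ∧ (∀ φ ∈ S₁, classInner X (τ₁ φ) = 0) ∧
      τ (χ - (a : ℤ) • χ₁) = X - (a : ℤ) • τ₁ χ₁ := by
  classical
  have hχ₁SS : χ₁ ∈ S := hS₁ (Finset.mem_coe.mpr hχ₁S)
  have hmemS : ∀ φ ∈ S₁, φ ∈ S := fun φ hφ => hS₁ (Finset.mem_coe.mpr hφ)
  have hspan : ∀ φ ∈ S₁, φ ∈ zspan (↑S₁ : Set (L → ℂ)) :=
    fun φ hφ => mem_zspan_of_mem (Finset.mem_coe.mpr hφ)
  have hne_χ : ∀ φ ∈ S₁, φ ≠ χ := fun φ hφ h => hχ₁ (h ▸ hφ)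
  have hne_χc : ∀ φ ∈ S₁, φ ≠ conjFun χ := fun φ hφ h => hχ₂ (h ▸ hφ)
  have hnpos : ∀ φ ∈ S, 0 < n φ := by
    intro φ hφ
    obtain ⟨k, hk0, hk⟩ := CS.exists_norm hS hφ
    have : (n φ : ℂ) = (k : ℂ) := by rw [← hn φ hφ, hk]
    have : n φ = k := by exact_mod_cast this
    omega
  have hdpos : 0 < d χ₁ := by
    rcases Nat.eq_zero_or_pos (d χ₁) with h0 | h0
    · exfalso
      have h1 : χ₁ 1 = 0 := by rw [hd χ₁ hχ₁SS, h0, Nat.cast_zero]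
      have hne0 : χ₁ ≠ 0 := by
        intro h
        apply hS.conj_ne χ₁ hχ₁SS
        rw [h]; funext x; simp [conjFun]
      exact apply_one_ne_zero_of_ne_zero (hS.isCharacter χ₁ hχ₁SS) hne0 h1
    · exact h0
  -- β
  set β := χ - (a : ℤ) • χ₁ with hβdef
  have hβ : β ∈ zspanOn S ({1}ᶜ : Set L) := by
    rw [mem_zspanOn_one_iff]
    refine ⟨zspan_sub (mem_zspan_of_mem hχ) (zspan_zsmul _ (mem_zspan_of_mem hχ₁SS)), ?_⟩
    rw [hβdef, Pi.sub_apply, Pi.smul_apply, zsmul_eq_mul, hd χ hχ, hd χ₁ hχ₁SS, ha]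
    push_cast
    ring
  set v := τ β with hv
  have hvg : IsGeneralizedCharacter G v := hS.isometry.2.2.2 β hβ
  have hχχ₁ : classInner χ χ₁ = 0 := hS.orthogonal χ hχ χ₁ hχ₁SS (hne_χ χ₁ hχ₁S).symm
  have hχ₁χ : classInner χ₁ χ = 0 := hS.orthogonal χ₁ hχ₁SS χ hχ (hne_χ χ₁ hχ₁S)
  have hχ₁χc : classInner χ₁ (conjFun χ) = 0 :=
    hS.orthogonal χ₁ hχ₁SS _ (hS.conj_mem χ hχ) (hne_χc χ₁ hχ₁S)
  -- norm of v
  have hvv : classInner v v = (n χ : ℂ) + (a : ℂ) ^ 2 * (n χ₁ : ℂ) := by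
    rw [hv, hS.isometry.2.2.1 β hβ β hβ, hβdef, classInner_sub_left, classInner_sub_right,
      classInner_sub_right, classInner_zsmul_left, classInner_zsmul_left, classInner_zsmul_right,
      classInner_zsmul_right, hn χ hχ, hn χ₁ hχ₁SS, hχχ₁, hχ₁χ]
    push_cast
    ring
  -- coefficients on R χ
  have hex : ∀ j : G → ℂ, ∃ z : ℤ, j ∈ R χ → classInner v j = (z : ℂ) := by
    intro j
    by_cases hj : j ∈ R χ
    · obtain ⟨z, hz⟩ := exists_int_classInner hvg (hS.virtual χ hχ j hj)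
      exact ⟨z, fun _ => hz⟩
    · exact ⟨0, fun h => absurd h hj⟩
  choose x hx using hex
  have hu' : ∀ i ∈ R χ, ∀ j ∈ R χ,
      classInner ((fun y : G → ℂ => y) i) ((fun y : G → ℂ => y) j) = if i = j then 1 else 0 :=
    fun i hi j hj => hS.orthonormal χ hχ i hi j hj
  obtain ⟨hperp, hb⟩ := bessel (R χ) (fun y : G → ℂ => y) hu' v x (fun i hi => hx i hi)
  set X := ∑ j ∈ R χ, x j • (fun y : G → ℂ => y) j with hX
  have hXg : IsGeneralizedCharacter G X := by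
    apply GenChar.sum
    intro j hj
    exact GenChar.zsmul (hS.virtual χ hχ j hj) _
  -- sum of the x
  have hsumx : ∑ γ ∈ R χ, x γ = (n χ : ℤ) := by
    have h1 : classInner v (∑ γ ∈ R χ, γ) = (n χ : ℂ) := by
      rw [← hS.sum_eq χ hχ, hv, hS.isometry.2.2.1 β hβ _ (CS.sub_conj_mem hS hχ), hβdef,
        classInner_sub_left, classInner_sub_right, classInner_sub_right, classInner_zsmul_left,
        classInner_zsmul_left, hn χ hχ, CS.ortho_conj hS hχ, hχ₁χ, hχ₁χc]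
      ring
    have : ((∑ γ ∈ R χ, x γ : ℤ) : ℂ) = ((n χ : ℤ) : ℂ) := by
      push_cast
      rw [← h1, classInner_sum_right]
      apply Finset.sum_congr rfl
      intro γ hγ
      rw [hx γ hγ]
    exact_mod_cast this
  have hsumx2 : (n χ : ℤ) ≤ ∑ γ ∈ R χ, x γ ^ 2 := by
    rw [← hsumx]
    exact Finset.sum_le_sum (fun γ _ => int_sq_ge (x γ))
  -- X inner products
  have hXX : classInner X X = ((∑ γ ∈ R χ, x γ ^ 2 : ℤ) : ℂ) := by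
    rw [hX, inner_orth_comb (R χ) (fun y : G → ℂ => y) (fun _ => (1 : ℂ)) hu' x x]
    push_cast
    apply Finset.sum_congr rfl
    intro γ _
    ring
  have hXsum : classInner X (∑ γ ∈ R χ, γ) = (n χ : ℂ) := by
    have h1 : (∑ γ ∈ R χ, γ) = ∑ γ ∈ R χ, (fun _ => (1 : ℤ)) γ • (fun y : G → ℂ => y) γ := by
      apply Finset.sum_congr rfl
      intro γ _
      simp
    rw [h1, hX, inner_orth_comb (R χ) (fun y : G → ℂ => y) (fun _ => (1 : ℂ)) hu' x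
      (fun _ => (1 : ℤ))]
    have : ((n χ : ℤ) : ℂ) = (n χ : ℂ) := by push_cast; rfl
    rw [← this, ← hsumx]
    push_cast
    apply Finset.sum_congr rfl
    intro γ _
    ring
  have hXτ₁ : ∀ φ ∈ S₁, classInner X (τ₁ φ) = 0 := by
    intro φ hφ
    rw [hX, classInner_sum_left]
    apply Finset.sum_eq_zero
    intro γ hγ
    rw [classInner_zsmul_left, ← classInner_conj_symm,
      CS.ext_orth_R hS S₁ hS₁ hS₁c τ₁ hτ₁ hext hφ hχ hχ₁ hχ₂ γ hγ, map_zero, mul_zero]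
  -- coefficients against τ₁ φ
  have hexw : ∀ φ : L → ℂ, ∃ z : ℤ, φ ∈ S₁ → classInner v (τ₁ φ) = (z : ℂ) := by
    intro φ
    by_cases hφ : φ ∈ S₁
    · obtain ⟨z, hz⟩ := exists_int_classInner hvg (hτ₁.2.2.2 φ (hspan φ hφ))
      exact ⟨z, fun _ => hz⟩
    · exact ⟨0, fun h => absurd h hφ⟩
  choose w hw using hexw
  -- the relation
  have hrel : ∀ φ ∈ S₁, φ ≠ χ₁ →
      (d χ₁ : ℤ) * w φ = (d φ : ℤ) * (w χ₁ + (a : ℤ) * (n χ₁ : ℤ)) := by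
    intro φ hφ hφne
    have hφS := hmemS φ hφ
    set ζ := (d χ₁ : ℤ) • φ - (d φ : ℤ) • χ₁ with hζ
    have hζ1 : ζ ∈ zspanOn (↑S₁ : Set (L → ℂ)) ({1}ᶜ : Set L) := by
      rw [mem_zspanOn_one_iff]
      refine ⟨zspan_sub (zspan_zsmul _ (hspan φ hφ)) (zspan_zsmul _ (hspan χ₁ hχ₁S)), ?_⟩
      rw [hζ, Pi.sub_apply, Pi.smul_apply, Pi.smul_apply, zsmul_eq_mul, zsmul_eq_mul, hd φ hφS,
        hd χ₁ hχ₁SS]
      push_cast
      ring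
    have hζ2 : ζ ∈ zspanOn S ({1}ᶜ : Set L) := zspanOn_mono _ hS₁ hζ1
    have h1 : τ₁ ζ = (d χ₁ : ℤ) • τ₁ φ - (d φ : ℤ) • τ₁ χ₁ := by
      rw [hζ, isom_map_sub hτ₁ (fun n x hx => zspan_zsmul n hx) (zspan_zsmul _ (hspan φ hφ))
        (zspan_zsmul _ (hspan χ₁ hχ₁S)), hτ₁.2.1 φ (hspan φ hφ), hτ₁.2.1 χ₁ (hspan χ₁ hχ₁S)]
    have h2 : classInner v (τ₁ ζ) = classInner β ζ := by
      rw [hext ζ hζ1, hv, hS.isometry.2.2.1 β hβ ζ hζ2]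
    have h3 : classInner β ζ = (a : ℂ) * (d φ : ℂ) * (n χ₁ : ℂ) := by
      rw [hβdef, hζ, classInner_sub_left, classInner_sub_right, classInner_sub_right,
        classInner_zsmul_left, classInner_zsmul_left, classInner_zsmul_right,
        classInner_zsmul_right, classInner_zsmul_right, classInner_zsmul_right,
        hS.orthogonal χ hχ φ hφS (hne_χ φ hφ).symm, hχχ₁,
        hS.orthogonal χ₁ hχ₁SS φ hφS (Ne.symm hφne), hn χ₁ hχ₁SS]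
      push_cast
      ring
    rw [h1, classInner_sub_right, classInner_zsmul_right, classInner_zsmul_right, hw φ hφ,
      hw χ₁ hχ₁S, h3] at h2
    have h4 : (((d χ₁ : ℤ) * w φ : ℤ) : ℂ) =
        (((d φ : ℤ) * (w χ₁ + (a : ℤ) * (n χ₁ : ℤ)) : ℤ) : ℂ) := by
      push_cast
      push_cast at h2
      linear_combination h2
    exact_mod_cast h4
  set e : ℤ := w χ₁ + (a : ℤ) * (n χ₁ : ℤ) with he
  -- Y
  set Y := X - v with hY
  have hYτ₁ : ∀ φ ∈ S₁, classInner Y (τ₁ φ) = ((-(w φ : ℝ) : ℝ) : ℂ) := by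
    intro φ hφ
    rw [hY, classInner_sub_left, hXτ₁ φ hφ, hw φ hφ]
    push_cast
    ring
  have hYY : classInner Y Y =
      (((n χ : ℝ) + (a : ℝ) ^ 2 * (n χ₁ : ℝ) - ((∑ γ ∈ R χ, x γ ^ 2 : ℤ) : ℝ) : ℝ) : ℂ) := by
    have h1 : classInner Y Y = classInner (v - X) (v - X) := by
      have : Y = -(v - X) := by rw [hY]; abel
      rw [this, classInner_neg_left, classInner_neg_right, neg_neg]
    rw [h1]
    rw [hvv] at hb
    push_cast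
    push_cast at hb
    linear_combination -hb
  have horthτ₁ : ∀ i ∈ S₁, ∀ j ∈ S₁,
      classInner (τ₁ i) (τ₁ j) = if i = j then (((n i : ℝ) : ℝ) : ℂ) else 0 := by
    intro i hi j hj
    rw [hτ₁.2.2.1 i (hspan i hi) j (hspan j hj)]
    by_cases hij : i = j
    · rw [if_pos hij, ← hij, hn i (hmemS i hi)]
      push_cast; rfl
    · rw [if_neg hij]
      exact hS.orthogonal i (hmemS i hi) j (hmemS j hj) hij
  obtain ⟨hbes, hbeseq⟩ := bessel_orth S₁ (fun φ => τ₁ φ) (fun φ => (n φ : ℝ))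
    (fun φ hφ => by exact_mod_cast hnpos φ (hmemS φ hφ)) horthτ₁ Y (fun φ => -(w φ : ℝ)) hYτ₁
    _ hYY
  -- evaluate the sum
  have hD : (0 : ℝ) < (d χ₁ : ℝ) := by exact_mod_cast hdpos
  have hwφ : ∀ φ ∈ S₁, φ ≠ χ₁ → (w φ : ℝ) = (d φ : ℝ) * (e : ℝ) / (d χ₁ : ℝ) := by
    intro φ hφ hφne
    have h1 := hrel φ hφ hφne
    have h2 : ((d χ₁ : ℝ)) * (w φ : ℝ) = (d φ : ℝ) * (e : ℝ) := by
      rw [he]
      exact_mod_cast h1
    field_simp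
    linarith
  have hwχ₁ : (w χ₁ : ℝ) = (d χ₁ : ℝ) * (e : ℝ) / (d χ₁ : ℝ) - (a : ℝ) * (n χ₁ : ℝ) := by
    rw [he]
    push_cast
    field_simp
    ring
  have hnχ₁ : (0 : ℝ) < (n χ₁ : ℝ) := by exact_mod_cast hnpos χ₁ hχ₁SS
  have hsumw : ∑ φ ∈ S₁, (-(w φ : ℝ)) ^ 2 / (n φ : ℝ) =
      (e : ℝ) ^ 2 / (d χ₁ : ℝ) ^ 2 * (∑ φ ∈ S₁, ((d φ : ℝ) ^ 2 / (n φ : ℝ))) - 2 * e * a
        + (a : ℝ) ^ 2 * (n χ₁ : ℝ) := by
    rw [← Finset.add_sum_erase S₁ _ hχ₁S, ← Finset.add_sum_erase S₁ (fun φ => (d φ : ℝ) ^ 2 / (n φ : ℝ)) hχ₁S]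
    have h1 : ∑ φ ∈ S₁.erase χ₁, (-(w φ : ℝ)) ^ 2 / (n φ : ℝ) =
        (e : ℝ) ^ 2 / (d χ₁ : ℝ) ^ 2 * ∑ φ ∈ S₁.erase χ₁, ((d φ : ℝ) ^ 2 / (n φ : ℝ)) := by
      rw [Finset.mul_sum]
      apply Finset.sum_congr rfl
      intro φ hφ
      rw [hwφ φ (Finset.mem_of_mem_erase hφ) (Finset.ne_of_mem_erase hφ)]
      have : (0 : ℝ) < (n φ : ℝ) := by
        exact_mod_cast hnpos φ (hmemS φ (Finset.mem_of_mem_erase hφ))
      field_simp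
    rw [h1, hwχ₁]
    field_simp
    ring
  rw [hsumw] at hbes hbeseq
  have hsumx2R : (n χ : ℝ) ≤ ((∑ γ ∈ R χ, x γ ^ 2 : ℤ) : ℝ) := by exact_mod_cast hsumx2
  have hineq' : 2 * (a : ℝ) * (d χ₁ : ℝ) ^ 2 < ∑ φ ∈ S₁, ((d φ : ℝ) ^ 2 / (n φ : ℝ)) := by
    have : (d χ : ℝ) = (a : ℝ) * (d χ₁ : ℝ) := by exact_mod_cast ha
    rw [this] at hineq
    linarith
  have he0 : e = 0 := by
    apply extend_arith e a (d χ₁ : ℝ) _ hD hineq'
    linarith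
  -- consequences
  have he0R : (e : ℝ) = 0 := by exact_mod_cast he0
  rw [he0R] at hbes hbeseq
  have hxeq : ((∑ γ ∈ R χ, x γ ^ 2 : ℤ) : ℝ) = (n χ : ℝ) := by
    have : (0 : ℝ) ^ 2 / (d χ₁ : ℝ) ^ 2 * (∑ φ ∈ S₁, ((d φ : ℝ) ^ 2 / (n φ : ℝ))) = 0 := by
      rw [zero_pow (by norm_num), zero_div, zero_mul]
    rw [this] at hbes
    linarith
  have hYeq := hbeseq (by
    have : (0 : ℝ) ^ 2 / (d χ₁ : ℝ) ^ 2 * (∑ φ ∈ S₁, ((d φ : ℝ) ^ 2 / (n φ : ℝ))) = 0 := by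
      rw [zero_pow (by norm_num), zero_div, zero_mul]
    rw [this, hxeq]
    ring)
  have hYfinal : Y = (a : ℤ) • τ₁ χ₁ := by
    rw [hYeq, Finset.sum_eq_single χ₁]
    · rw [hwχ₁, he0R]
      have : ((-((d χ₁ : ℝ) * 0 / (d χ₁ : ℝ) - (a : ℝ) * (n χ₁ : ℝ)) / (n χ₁ : ℝ) : ℝ) : ℂ)
          = (a : ℂ) := by
        have : (-((d χ₁ : ℝ) * 0 / (d χ₁ : ℝ) - (a : ℝ) * (n χ₁ : ℝ)) / (n χ₁ : ℝ) : ℝ)
            = (a : ℝ) := by
          field_simp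
          ring
        rw [this]
        push_cast
        rfl
      rw [this, zsmul_eq_smul]
      push_cast
      rfl
    · intro φ hφ hφne
      rw [hwφ φ hφ hφne, he0R]
      simp
    · intro h; exact absurd hχ₁S h
  refine ⟨X, hXg, ?_, hXsum, hXτ₁, ?_⟩
  · rw [hXX]
    have : ((∑ γ ∈ R χ, x γ ^ 2 : ℤ) : ℂ) = (((∑ γ ∈ R χ, x γ ^ 2 : ℤ) : ℝ) : ℂ) := by
      push_cast; rfl
    rw [this, hxeq]
    push_cast; rfl
  · rw [← hYfinal, hY]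
    abel

end sys

end Cfsg.Agent.Lib.helper3.Coh
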