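import Mathlib
import Cfsg.Prelude.Def_OddOrderChar
import Cfsg.Agent.Lib.helper3.Coh15

set_option autoImplicit false
set_option linter.style.haveILetI false
set_option linter.unusedSectionVars false

/-!
# The coherence extension criterion
-/

namespace Cfsg.Agent.Lib.helper3.Coh

open Cfsg Module Cfsg.Agent.Lib.helper3.CharBasic Cfsg.Agent.Lib.helper3.IndFun
open Cfsg.Agent.Lib.helper3.Irr
open scoped ComplexConjugate

section sys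

variable {L : Type*} [Group L] [Fintype L] {G : Type*} [Group G] [Fintype G]
variable {S : Set (L → ℂ)} {τ : (L → ℂ) → (G → ℂ)} {R : (L → ℂ) → Finset (G → ℂ)}

/-- Peterfalvi (5.5)/(5.6): the coherence extension criterion. -/
theorem CS.extend_coherent (hS : IsCoherenceSystem S τ R) (d n : (L → ℂ) → ℕ)
    (hd : ∀ φ ∈ S, φ 1 = (d φ : ℂ)) (hn : ∀ φ ∈ S, classInner φ φ = (n φ : ℂ))
    (S₁ : Finset (L → ℂ)) (hS₁ : (↑S₁ : Set (L → ℂ)) ⊆ S) (hS₁c : ∀ φ ∈ S₁, conjFun φ ∈ S₁)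
    (hcoh : IsCoherent (↑S₁ : Set (L → ℂ)) ({1}ᶜ : Set L) τ)
    (χ : L → ℂ) (hχ : χ ∈ S) (hχ₁ : χ ∉ S₁) (hχ₂ : conjFun χ ∉ S₁) (χ₁ : L → ℂ)
    (hχ₁S : χ₁ ∈ S₁) (hdvd : d χ₁ ∣ d χ)
    (hineq : (2 * d χ * d χ₁ : ℝ) < ∑ φ ∈ S₁, ((d φ : ℝ) ^ 2 / (n φ : ℝ))) :
    IsCoherent (↑S₁ ∪ {χ, conjFun χ} : Set (L → ℂ)) ({1}ᶜ : Set L) τ := by
  classical
  obtain ⟨-, τ₁, hτ₁, hext⟩ := hcoh
  obtain ⟨a, ha0⟩ := hdvd
  have ha : d χ = a * d χ₁ := by rw [ha0, mul_comm]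
  obtain ⟨X, hXg, hXX, hXsum, hXτ₁, hXβ⟩ := CS.extend_key hS d n hd hn S₁ hS₁ hS₁c τ₁ hτ₁ hext χ hχ
    hχ₁ hχ₂ χ₁ hχ₁S a ha hineq
  have hχc : conjFun χ ∈ S := hS.conj_mem χ hχ
  have hχ₁SS : χ₁ ∈ S := hS₁ (Finset.mem_coe.mpr hχ₁S)
  have hmemS : ∀ φ ∈ S₁, φ ∈ S := fun φ hφ => hS₁ (Finset.mem_coe.mpr hφ)
  have hspan : ∀ φ ∈ S₁, φ ∈ zspan (↑S₁ : Set (L → ℂ)) :=
    fun φ hφ => mem_zspan_of_mem (Finset.mem_coe.mpr hφ)
  have hne_χ : ∀ φ ∈ S₁, φ ≠ χ := fun φ hφ h => hχ₁ (h ▸ hφ)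
  have hne_χc : ∀ φ ∈ S₁, φ ≠ conjFun χ := fun φ hφ h => hχ₂ (h ▸ hφ)
  have hχne : conjFun χ ≠ χ := hS.conj_ne χ hχ
  set Sg : G → ℂ := ∑ γ ∈ R χ, γ with hSg
  have hSgSg : classInner Sg Sg = 2 * (n χ : ℂ) := by
    rw [hSg, inner_sum_subsets (R χ) (hS.orthonormal χ hχ) (R χ) (R χ) (Finset.Subset.refl _)
      (Finset.Subset.refl _), Finset.inter_self, CS.card_R hS hχ (n χ) (hn χ hχ)]
    push_cast; ring
  have hSgX : classInner Sg X = (n χ : ℂ) := by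
    rw [← classInner_conj_symm, hXsum, Complex.conj_natCast]
  have hτ₁Sg : ∀ φ ∈ S₁, classInner (τ₁ φ) Sg = 0 := by
    intro φ hφ
    rw [hSg, classInner_sum_right]
    apply Finset.sum_eq_zero
    intro γ hγ
    exact CS.ext_orth_R hS S₁ hS₁ hS₁c τ₁ hτ₁ hext hφ hχ hχ₁ hχ₂ γ hγ
  have hSgτ₁ : ∀ φ ∈ S₁, classInner Sg (τ₁ φ) = 0 := by
    intro φ hφ
    rw [← classInner_conj_symm, hτ₁Sg φ hφ, map_zero]
  have hτ₁X : ∀ φ ∈ S₁, classInner (τ₁ φ) X = 0 := by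
    intro φ hφ
    rw [← classInner_conj_symm, hXτ₁ φ hφ, map_zero]
  have hSgg : IsGeneralizedCharacter G Sg := by
    apply GenChar.sum
    intro γ hγ
    exact hS.virtual χ hχ γ hγ
  -- the family
  set F₂ : Finset (L → ℂ) := insert χ (insert (conjFun χ) S₁) with hF₂
  have hF₂set : (↑F₂ : Set (L → ℂ)) = ↑S₁ ∪ {χ, conjFun χ} := by
    ext φ
    simp only [hF₂, Finset.coe_insert, Set.mem_insert_iff, Finset.mem_coe, Set.mem_union,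
      Set.mem_singleton_iff]
    tauto
  have hF₂S : ∀ φ ∈ F₂, φ ∈ S := by
    intro φ hφ
    rcases Finset.mem_insert.mp hφ with rfl | hφ
    · exact hχ
    rcases Finset.mem_insert.mp hφ with rfl | hφ
    · exact hχc
    · exact hmemS φ hφ
  have hF₂cases : ∀ φ ∈ F₂, φ = χ ∨ φ = conjFun χ ∨ φ ∈ S₁ := by
    intro φ hφ
    rcases Finset.mem_insert.mp hφ with h | hφ
    · left; exact h
    rcases Finset.mem_insert.mp hφ with h | hφ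
    · right; left; exact h
    · right; right; exact hφ
  set T : (L → ℂ) → (G → ℂ) :=
    fun φ => if φ = χ then X else if φ = conjFun χ then X - Sg else τ₁ φ with hT
  have hTχ : T χ = X := by rw [hT]; simp
  have hTχc : T (conjFun χ) = X - Sg := by
    rw [hT]; simp only; rw [if_neg hχne]; simp
  have hTS₁ : ∀ φ ∈ S₁, T φ = τ₁ φ := by
    intro φ hφ
    rw [hT]; simp only; rw [if_neg (hne_χ φ hφ), if_neg (hne_χc φ hφ)]
  have hF : ∀ φ ∈ F₂, ∀ ψ ∈ F₂, classInner φ ψ = if φ = ψ then classInner φ φ else 0 := by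
    intro φ hφ ψ hψ
    by_cases h : φ = ψ
    · rw [if_pos h, h]
    · rw [if_neg h]; exact hS.orthogonal φ (hF₂S φ hφ) ψ (hF₂S ψ hψ) h
  have hnorm_ne : ∀ φ ∈ F₂, classInner φ φ ≠ 0 := by
    intro φ hφ
    obtain ⟨k, hk0, hk⟩ := CS.exists_norm hS (hF₂S φ hφ)
    rw [hk]; exact_mod_cast hk0.ne'
  have hXmS : classInner X (X - Sg) = 0 := by
    rw [classInner_sub_right, hXX, hXsum, sub_self]
  have hmSX : classInner (X - Sg) X = 0 := by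
    rw [← classInner_conj_symm, hXmS, map_zero]
  have hmSmS : classInner (X - Sg) (X - Sg) = (n χ : ℂ) := by
    rw [classInner_sub_left, classInner_sub_right, classInner_sub_right, hXX, hXsum, hSgX, hSgSg]
    ring
  have hTT : ∀ φ ∈ F₂, ∀ ψ ∈ F₂,
      classInner (T φ) (T ψ) = if φ = ψ then classInner φ φ else 0 := by
    intro φ hφ ψ hψ
    rcases hF₂cases φ hφ with rfl | rfl | hφ₁ <;> rcases hF₂cases ψ hψ with rfl | rfl | hψ₁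
    · rw [if_pos rfl, hTχ, hXX, hn _ hχ]
    · rw [if_neg (Ne.symm hχne), hTχ, hTχc, hXmS]
    · rw [if_neg (hne_χ ψ hψ₁).symm, hTχ, hTS₁ ψ hψ₁, hXτ₁ ψ hψ₁]
    · rw [if_neg hχne, hTχ, hTχc, hmSX]
    · rw [if_pos rfl, hTχc, hmSmS, CS.norm_conj hS hχ, hn _ hχ]
    · rw [if_neg (hne_χc ψ hψ₁).symm, hTχc, hTS₁ ψ hψ₁, classInner_sub_left, hXτ₁ ψ hψ₁,
        hSgτ₁ ψ hψ₁, sub_zero]
    · rw [if_neg (hne_χ φ hφ₁), hTχ, hTS₁ φ hφ₁, hτ₁X φ hφ₁]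
    · rw [if_neg (hne_χc φ hφ₁), hTχc, hTS₁ φ hφ₁, classInner_sub_right, hτ₁X φ hφ₁,
        hτ₁Sg φ hφ₁, sub_zero]
    · rw [hTS₁ φ hφ₁, hTS₁ ψ hψ₁, hτ₁.2.2.1 φ (hspan φ hφ₁) ψ (hspan ψ hψ₁)]
      exact hF φ hφ ψ hψ
  have hTg : ∀ φ ∈ F₂, IsGeneralizedCharacter G (T φ) := by
    intro φ hφ
    rcases hF₂cases φ hφ with rfl | rfl | hφ₁
    · rw [hTχ]; exact hXg
    · rw [hTχc]; exact GenChar.sub hXg hSgg
    · rw [hTS₁ φ hφ₁]; exact hτ₁.2.2.2 φ (hspan φ hφ₁)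
  obtain ⟨τ₂, hτ₂iso, hτ₂comb⟩ := exists_isometry_of_gram F₂ T hF hnorm_ne hTT hTg
  rw [hF₂set] at hτ₂iso
  refine ⟨⟨χ - conjFun χ, ?_, ?_⟩, τ₂, hτ₂iso, ?_⟩
  · rw [mem_zspanOn_one_iff]
    refine ⟨zspan_sub (mem_zspan_of_mem (Or.inr (by simp))) (mem_zspan_of_mem (Or.inr (by simp))), ?_⟩
    rw [Pi.sub_apply, conjFun_apply_one_of_isCharacter (hS.isCharacter χ hχ), sub_self]
  · intro h
    exact hχne (sub_eq_zero.mp h).symm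
  -- agreement
  intro α hα
  rw [mem_zspanOn_one_iff] at hα
  have hFmem : ∀ φ, φ ∈ F₂ ↔ φ ∈ (↑S₁ ∪ {χ, conjFun χ} : Set (L → ℂ)) := by
    intro φ
    rw [← hF₂set]
    exact Finset.mem_coe.symm
  obtain ⟨z, hz⟩ := exists_coeff_finset F₂ hFmem hα.1
  have hχnotin : χ ∉ insert (conjFun χ) S₁ := by
    intro h
    rcases Finset.mem_insert.mp h with h | h
    · exact hχne h.symm
    · exact hχ₁ h
  have hαexp : α = z χ • χ + (z (conjFun χ) • conjFun χ + ∑ φ ∈ S₁, z φ • φ) := by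
    rw [hz, hF₂, Finset.sum_insert hχnotin, Finset.sum_insert hχ₂]
  have hτ₂α : τ₂ α = z χ • X + (z (conjFun χ) • (X - Sg) + ∑ φ ∈ S₁, z φ • τ₁ φ) := by
    rw [hz, hτ₂comb z, hF₂, Finset.sum_insert hχnotin, Finset.sum_insert hχ₂, hTχ, hTχc]
    congr 2
    exact Finset.sum_congr rfl (fun φ hφ => by rw [hTS₁ φ hφ])
  set u := z χ with hu
  set w := z (conjFun χ) with hw
  set β := χ - (a : ℤ) • χ₁ with hβdef
  set α₁ := (∑ φ ∈ S₁, z φ • φ) + ((u + w) * (a : ℤ)) • χ₁ with hα₁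
  have hαdecomp : α = α₁ + (u + w) • β + (-w) • (χ - conjFun χ) := by
    rw [hαexp, hα₁, hβdef]
    simp only [smul_sub, add_smul, mul_smul, neg_smul]
    abel
  have hβ1 : β 1 = 0 := by
    rw [hβdef, Pi.sub_apply, Pi.smul_apply, zsmul_eq_mul, hd χ hχ, hd χ₁ hχ₁SS, ha]
    push_cast; ring
  have hcc1 : (χ - conjFun χ) 1 = 0 := by
    rw [Pi.sub_apply, conjFun_apply_one_of_isCharacter (hS.isCharacter χ hχ), sub_self]
  have hα₁span : α₁ ∈ zspan (↑S₁ : Set (L → ℂ)) := by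
    rw [hα₁]
    apply zspan_add
    · apply zspan_sum
      intro φ hφ
      exact zspan_zsmul _ (hspan φ hφ)
    · exact zspan_zsmul _ (hspan χ₁ hχ₁S)
  have hα₁1 : α₁ 1 = 0 := by
    have h1 := congrFun hαdecomp 1
    rw [hα.2] at h1
    simp only [Pi.add_apply, Pi.smul_apply, hβ1, hcc1, smul_zero, add_zero] at h1
    exact h1.symm
  have hα₁on : α₁ ∈ zspanOn (↑S₁ : Set (L → ℂ)) ({1}ᶜ : Set L) :=
    mem_zspanOn_one_iff.mpr ⟨hα₁span, hα₁1⟩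
  have hα₁E : α₁ ∈ zspanOn S ({1}ᶜ : Set L) := zspanOn_mono _ hS₁ hα₁on
  have hβE : β ∈ zspanOn S ({1}ᶜ : Set L) :=
    mem_zspanOn_one_iff.mpr
      ⟨zspan_sub (mem_zspan_of_mem hχ) (zspan_zsmul _ (mem_zspan_of_mem hχ₁SS)), hβ1⟩
  have hccE : χ - conjFun χ ∈ zspanOn S ({1}ᶜ : Set L) := CS.sub_conj_mem hS hχ
  have hτα : τ α = τ α₁ + (u + w) • τ β + (-w) • τ (χ - conjFun χ) := by
    rw [hαdecomp, hS.isometry.1 _ (zspanOn_add hα₁E (zspanOn_zsmul _ hβE)) _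
      (zspanOn_zsmul _ hccE), hS.isometry.1 _ hα₁E _ (zspanOn_zsmul _ hβE),
      hS.isometry.2.1 _ hβE, hS.isometry.2.1 _ hccE]
  have hτ₁α₁ : τ₁ α₁ = (∑ φ ∈ S₁, z φ • τ₁ φ) + ((u + w) * (a : ℤ)) • τ₁ χ₁ := by
    have hmap := map_sum_zsmul hτ₁ (zspan_zero _) (fun x hx y hy => zspan_add hx hy)
      (fun n x hx => zspan_zsmul n hx) S₁ z (fun φ => φ) (fun φ hφ => hspan φ hφ)
    rw [hα₁, hτ₁.1 _ hmap.1 _ (zspan_zsmul _ (hspan χ₁ hχ₁S)), hmap.2,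
      hτ₁.2.1 _ (hspan χ₁ hχ₁S)]
  rw [hτ₂α, hτα, ← hext α₁ hα₁on, hτ₁α₁, hXβ, hS.sum_eq χ hχ]
  simp only [smul_sub, add_smul, mul_smul, neg_smul]
  abel

end sys

end Cfsg.Agent.Lib.helper3.Coh
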