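import Mathlib
import Cfsg.Prelude.Def_OddOrderChar
import Cfsg.Agent.S1498

set_option autoImplicit false
open Cfsg

namespace Cfsg.Agent.Lib.helper3.Dade

variable {G : Type*} [Group G]

theorem mem_centralizer_singleton (a c : G) :
    c ∈ Subgroup.centralizer ({a} : Set G) ↔ a * c = c * a := by
  rw [Subgroup.mem_centralizer_iff]
  constructor
  · intro h; exact h a rfl
  · intro h w hw
    rw [Set.mem_singleton_iff] at hw
    rw [hw]; exact h

theorem power_trick (a u : G) (n m : ℕ) (s t : ℤ) (hc : a * u = u * a) (han : a ^ n = 1)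
    (hum : u ^ m = 1) (hst : (1 : ℤ) = (n : ℤ) * s + (m : ℤ) * t) :
    (a * u) ^ ((m : ℤ) * t) = a := by
  have hcm : Commute a u := hc
  rw [hcm.mul_zpow, zpow_mul u, zpow_natCast, hum, one_zpow, mul_one]
  have : (m : ℤ) * t = 1 - (n : ℤ) * s := by linarith
  rw [this, zpow_sub, zpow_one, zpow_mul, zpow_natCast, han, one_zpow, inv_one, mul_one]

section
variable [Finite G] {A : Set G} {L : Subgroup G} {H : G → Subgroup G}

theorem pow_card_H (c u : G) (hu : u ∈ H c) : u ^ Nat.card (H c) = 1 := by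
  have : (⟨u, hu⟩ : H c) ^ (Nat.card (H c)) = 1 := pow_card_eq_one'
  have h := congrArg Subtype.val this
  rw [Subgroup.coe_pow, Subgroup.coe_one] at h
  exact h

theorem coprime_order (hD : DadeHypothesis A L H) {a c : G} (ha : a ∈ A) (hc : c ∈ A) :
    Nat.Coprime (orderOf a) (Nat.card (H c)) := by
  have h1 := hD.coprime c hc a ha
  have ha2 : a ∈ L ⊓ Subgroup.centralizer ({a} : Set G) :=
    ⟨hD.subset ha, (mem_centralizer_singleton a a).mpr rfl⟩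
  have h2 : orderOf a ∣ Nat.card ↥(L ⊓ Subgroup.centralizer ({a} : Set G)) :=
    Subgroup.orderOf_dvd_natCard _ ha2
  exact (Nat.Coprime.coprime_dvd_right h2 h1).symm

/-- If `z` conjugates `a u` to `b v` then it conjugates `a` to `b`. -/
theorem conj_base (hD : DadeHypothesis A L H) {a b u v z : G} (ha : a ∈ A) (hb : b ∈ A)
    (hu : u ∈ H a) (hv : v ∈ H b) (hg : z * (a * u) * z⁻¹ = b * v) : z * a * z⁻¹ = b := by
  obtain ⟨n, hn⟩ : ∃ n, n = orderOf a * orderOf b := ⟨_, rfl⟩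
  obtain ⟨m, hm⟩ : ∃ m, m = Nat.card (H a) * Nat.card (H b) := ⟨_, rfl⟩
  have hnm : Nat.Coprime n m := by
    rw [hn, hm]
    apply Nat.Coprime.mul_left
    · exact Nat.Coprime.mul_right (coprime_order hD ha ha) (coprime_order hD ha hb)
    · exact Nat.Coprime.mul_right (coprime_order hD hb ha) (coprime_order hD hb hb)
  have hbez : (1 : ℤ) = (n : ℤ) * Nat.gcdA n m + (m : ℤ) * Nat.gcdB n m := by
    have := Nat.gcd_eq_gcd_ab n m
    rw [hnm] at this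
    exact_mod_cast this
  have hau : a * u = u * a := (mem_centralizer_singleton a u).mp (hD.le_centralizer a ha hu)
  have hbv : b * v = v * b := (mem_centralizer_singleton b v).mp (hD.le_centralizer b hb hv)
  have h1 : (a * u) ^ ((m : ℤ) * Nat.gcdB n m) = a := by
    apply power_trick a u n m _ _ hau _ _ hbez
    · rw [hn, pow_mul, pow_orderOf_eq_one, one_pow]
    · rw [hm, pow_mul, pow_card_H a u hu, one_pow]
  have h2 : (b * v) ^ ((m : ℤ) * Nat.gcdB n m) = b := by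
    apply power_trick b v n m _ _ hbv _ _ hbez
    · rw [hn, mul_comm, pow_mul, pow_orderOf_eq_one, one_pow]
    · rw [hm, mul_comm, pow_mul, pow_card_H b v hv, one_pow]
  rw [← h2, ← hg, conj_zpow, h1]

theorem mem_H_conj (hD : DadeHypothesis A L H) {a x u : G} (ha : a ∈ A) (hx : x ∈ L)
    (hu : u ∈ H a) : x * u * x⁻¹ ∈ H (x * a * x⁻¹) := by
  rw [Cfsg.Agent.S1498.result A L H hD a ha x hx]
  exact ⟨u, hu, by simp [MulAut.conj_apply]⟩

theorem card_H_conj (hD : DadeHypothesis A L H) {a x : G} (ha : a ∈ A) (hx : x ∈ L) :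
    Nat.card (H (x * a * x⁻¹)) = Nat.card (H a) := by
  rw [Cfsg.Agent.S1498.result A L H hD a ha x hx]
  exact Subgroup.card_map_of_injective (MulAut.conj x).injective

/-- The elements conjugating `a₀ u₀` into some coset `a H(a)` are exactly those of `L · H(a₀)`. -/
theorem conj_mem_coset_iff (hD : DadeHypothesis A L H) {a₀ u₀ : G} (ha₀ : a₀ ∈ A)
    (hu₀ : u₀ ∈ H a₀) (z : G) :
    (∃ a ∈ A, ∃ u ∈ H a, z * (a₀ * u₀) * z⁻¹ = a * u) ↔ ∃ y ∈ L, ∃ v ∈ H a₀, z = y * v := by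
  constructor
  · rintro ⟨a, ha, u, hu, h⟩
    have h1 : z * a₀ * z⁻¹ = a := conj_base hD ha₀ ha hu₀ hu h
    obtain ⟨y, hyL, hy⟩ := hD.fusion a₀ ha₀ z (by rw [h1]; exact ha)
    have h2 : y⁻¹ * z ∈ Subgroup.centralizer ({a₀} : Set G) := by
      rw [mem_centralizer_singleton]
      have : y⁻¹ * (z * a₀ * z⁻¹) * y = a₀ := by rw [← hy]; group
      calc a₀ * (y⁻¹ * z) = (y⁻¹ * (z * a₀ * z⁻¹) * y) * (y⁻¹ * z) := by rw [this]
        _ = y⁻¹ * z * a₀ := by group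
    rw [← hD.sup_eq a₀ ha₀, sup_comm] at h2
    have hQN : (L ⊓ Subgroup.centralizer ({a₀} : Set G)) ≤ Subgroup.normalizer ((H a₀ : Subgroup G) : Set G) := by
      rw [Subgroup.le_normalizer_iff]
      intro q hq n hn
      exact hD.conj_mem_H a₀ ha₀ q hq.2 n hn
    have h3 : y⁻¹ * z ∈ (↑((L ⊓ Subgroup.centralizer ({a₀} : Set G)) ⊔ H a₀) : Set G) := h2
    rw [Subgroup.coe_mul_of_left_le_normalizer_right _ _ hQN] at h3
    obtain ⟨q, hq, v, hv, hqv⟩ := h3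
    have hqv' : q * v = y⁻¹ * z := hqv
    refine ⟨y * q, L.mul_mem hyL hq.1, v, hv, ?_⟩
    rw [mul_assoc, hqv']; group
  · rintro ⟨y, hy, v, hv, rfl⟩
    have hva : a₀ * v = v * a₀ :=
      (mem_centralizer_singleton a₀ v).mp (hD.le_centralizer a₀ ha₀ hv)
    have hvu : v * u₀ * v⁻¹ ∈ H a₀ := (H a₀).mul_mem ((H a₀).mul_mem hv hu₀) ((H a₀).inv_mem hv)
    refine ⟨y * a₀ * y⁻¹, hD.conj_mem y hy a₀ ha₀, y * (v * u₀ * v⁻¹) * y⁻¹,
      mem_H_conj hD ha₀ hy hvu, ?_⟩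
    calc y * v * (a₀ * u₀) * (y * v)⁻¹ = y * ((v * a₀) * u₀ * v⁻¹) * y⁻¹ := by group
      _ = y * ((a₀ * v) * u₀ * v⁻¹) * y⁻¹ := by rw [hva]
      _ = y * a₀ * y⁻¹ * (y * (v * u₀ * v⁻¹) * y⁻¹) := by group

/-- For `z = y v ∈ L · H(a₀)`, the group attached to `z a₀ z⁻¹` has the order of `H(a₀)`. -/
theorem card_H_conj' (hD : DadeHypothesis A L H) {a₀ y v : G} (ha₀ : a₀ ∈ A) (hy : y ∈ L)
    (hv : v ∈ H a₀) : Nat.card (H ((y * v) * a₀ * (y * v)⁻¹)) = Nat.card (H a₀) := by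
  have hva : a₀ * v = v * a₀ :=
    (mem_centralizer_singleton a₀ v).mp (hD.le_centralizer a₀ ha₀ hv)
  have : (y * v) * a₀ * (y * v)⁻¹ = y * a₀ * y⁻¹ := by
    calc (y * v) * a₀ * (y * v)⁻¹ = y * (v * a₀) * v⁻¹ * y⁻¹ := by group
      _ = y * (a₀ * v) * v⁻¹ * y⁻¹ := by rw [hva]
      _ = y * a₀ * y⁻¹ := by group
  rw [this]
  exact card_H_conj hD ha₀ hy

/-- `L · H(a₀)` has `|L| · |H(a₀)|` elements. -/
theorem card_LH (hD : DadeHypothesis A L H) {a₀ : G} (ha₀ : a₀ ∈ A) :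
    Nat.card {z : G // ∃ y ∈ L, ∃ v ∈ H a₀, z = y * v} = Nat.card L * Nat.card (H a₀) := by
  rw [← Nat.card_prod]
  symm
  apply Nat.card_congr
  refine Equiv.ofBijective (fun p : ↥L × ↥(H a₀) => ⟨(p.1 : G) * (p.2 : G), p.1, p.1.2, p.2, p.2.2, rfl⟩) ⟨?_, ?_⟩
  · rintro ⟨⟨y, hy⟩, ⟨v, hv⟩⟩ ⟨⟨y', hy'⟩, ⟨v', hv'⟩⟩ h
    have h1 : y * v = y' * v' := congrArg Subtype.val h
    have h2 : y'⁻¹ * y = v' * v⁻¹ := by
      calc y'⁻¹ * y = y'⁻¹ * (y * v) * v⁻¹ := by group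
        _ = y'⁻¹ * (y' * v') * v⁻¹ := by rw [h1]
        _ = v' * v⁻¹ := by group
    have h3 : v' * v⁻¹ ∈ H a₀ ⊓ (L ⊓ Subgroup.centralizer ({a₀} : Set G)) := by
      have hm : v' * v⁻¹ ∈ H a₀ := (H a₀).mul_mem hv' ((H a₀).inv_mem hv)
      refine ⟨hm, ?_, hD.le_centralizer a₀ ha₀ hm⟩
      rw [← h2]
      exact L.mul_mem (L.inv_mem hy') hy
    rw [hD.inf_eq_bot a₀ ha₀, Subgroup.mem_bot] at h3
    have hv2 : v' = v := by
      calc v' = (v' * v⁻¹) * v := by group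
        _ = v := by rw [h3, one_mul]
    have hy2 : y' = y := by
      rw [h3] at h2
      calc y' = y' * (y'⁻¹ * y) := by rw [h2, mul_one]
        _ = y := by group
    subst hv2; subst hy2; rfl
  · rintro ⟨z, y, hy, v, hv, rfl⟩
    exact ⟨⟨⟨y, hy⟩, ⟨v, hv⟩⟩, rfl⟩

end

end Cfsg.Agent.Lib.helper3.Dade
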