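import Mathlib
import Cfsg.Agent.Lib.helper3.Dade1

set_option autoImplicit false
set_option linter.unusedSectionVars false
open Cfsg

namespace Cfsg.Agent.Lib.helper3.Dade

variable {G : Type*} [Group G] [Fintype G] {A : Set G} {L : Subgroup G} {H : G → Subgroup G}
variable {K : Type*} [Field K] [CharZero K]

open Classical in
/-- The weight attached to the conjugating element `x`, the element `g` and the base point `a`. -/
noncomputable def wt (A : Set G) (H : G → Subgroup G) (K : Type*) [Field K] (x g a : G) : K :=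
  if (a ∈ A ∧ ∃ u ∈ H a, x * g * x⁻¹ = a * u) then ((Nat.card (H a) : K))⁻¹ else 0

/-- Membership in the Dade support. -/
def inD (A : Set G) (H : G → Subgroup G) (g : G) : Prop :=
  ∃ a ∈ A, ∃ x : G, ∃ u ∈ H a, x * g * x⁻¹ = a * u

open Classical in
theorem sum_wt_base (hD : DadeHypothesis A L H) {a₀ u₀ : G} (ha₀ : a₀ ∈ A) (hu₀ : u₀ ∈ H a₀)
    (z : G) :
    ∑ a : G, wt A H K z (a₀ * u₀) a =
      if (∃ y ∈ L, ∃ v ∈ H a₀, z = y * v) then ((Nat.card (H a₀) : K))⁻¹ else 0 := by
  by_cases hz : ∃ y ∈ L, ∃ v ∈ H a₀, z = y * v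
  · rw [if_pos hz]
    obtain ⟨a, ha, u, hu, h⟩ := (conj_mem_coset_iff hD ha₀ hu₀ z).mpr hz
    have h1 : z * a₀ * z⁻¹ = a := conj_base hD ha₀ ha hu₀ hu h
    rw [Finset.sum_eq_single a]
    · unfold wt
      rw [if_pos ⟨ha, u, hu, h⟩]
      obtain ⟨y, hy, v, hv, rfl⟩ := hz
      rw [← h1, card_H_conj' hD ha₀ hy hv]
    · intro b _ hb
      unfold wt
      rw [if_neg]
      rintro ⟨hbA, u', hu', h'⟩
      exact hb ((conj_base hD ha₀ hbA hu₀ hu' h').symm.trans h1)
    · intro h; exact absurd (Finset.mem_univ _) h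
  · rw [if_neg hz]
    apply Finset.sum_eq_zero
    intro a _
    unfold wt
    rw [if_neg]
    rintro ⟨haA, u, hu, h⟩
    exact hz ((conj_mem_coset_iff hD ha₀ hu₀ z).mp ⟨a, haA, u, hu, h⟩)

/-- The total weight of `g`. -/
noncomputable def wsum (A : Set G) (H : G → Subgroup G) (K : Type*) [Field K] (g : G) : K :=
  ∑ x : G, ∑ a : G, wt A H K x g a

theorem wsum_conj (g x₀ : G) : wsum A H K (x₀⁻¹ * g * x₀) = wsum A H K g := by
  unfold wsum
  apply Fintype.sum_equiv (Equiv.mulRight x₀⁻¹)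
  intro x
  apply Finset.sum_congr rfl
  intro a _
  have : x * (x₀⁻¹ * g * x₀) * x⁻¹ = (x * x₀⁻¹) * g * (x * x₀⁻¹)⁻¹ := by group
  show wt A H K x (x₀⁻¹ * g * x₀) a = wt A H K (x * x₀⁻¹) g a
  unfold wt
  rw [this]

theorem wsum_base (hD : DadeHypothesis A L H) {a₀ u₀ : G} (ha₀ : a₀ ∈ A) (hu₀ : u₀ ∈ H a₀) :
    wsum A H K (a₀ * u₀) = (Nat.card L : K) := by
  classical
  unfold wsum
  simp_rw [sum_wt_base (K := K) hD ha₀ hu₀]
  rw [← Finset.sum_filter, Finset.sum_const, nsmul_eq_mul]
  have hcard : (Finset.univ.filter (fun z : G => ∃ y ∈ L, ∃ v ∈ H a₀, z = y * v)).card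
      = Nat.card L * Nat.card (H a₀) := by
    rw [← card_LH hD ha₀]
    symm
    apply Nat.subtype_card
    intro x
    simp
  rw [hcard]
  have hne : (Nat.card (H a₀) : K) ≠ 0 := by
    have : 0 < Nat.card (H a₀) := Nat.card_pos
    exact_mod_cast this.ne'
  push_cast
  field_simp

open Classical in
theorem wsum_eq (hD : DadeHypothesis A L H) (g : G) :
    wsum A H K g = if inD A H g then (Nat.card L : K) else 0 := by
  by_cases hg : inD A H g
  · rw [if_pos hg]
    obtain ⟨a₀, ha₀, x₀, u₀, hu₀, h⟩ := hg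
    have : g = x₀⁻¹ * (a₀ * u₀) * x₀ := by rw [← h]; group
    rw [this, wsum_conj, wsum_base hD ha₀ hu₀]
  · rw [if_neg hg]
    unfold wsum
    apply Finset.sum_eq_zero
    intro x _
    apply Finset.sum_eq_zero
    intro a _
    unfold wt
    rw [if_neg]
    rintro ⟨haA, u, hu, h⟩
    exact hg ⟨a, haA, x, u, hu, h⟩

open Classical in
/-- Auxiliary weight: membership of `h` in the coset `a H(a)`. -/
noncomputable def wt0 (H : G → Subgroup G) (K : Type*) [Field K] (h a : G) : K :=
  if (∃ u ∈ H a, h = a * u) then ((Nat.card (H a) : K))⁻¹ else 0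

open Classical in
/-- Auxiliary weight: membership of `u` in `H(a)`. -/
noncomputable def wt1 (H : G → Subgroup G) (K : Type*) [Field K] (u a : G) : K :=
  if u ∈ H a then ((Nat.card (H a) : K))⁻¹ else 0

theorem wt_eq_wt0 {a : G} (ha : a ∈ A) (x g : G) :
    wt A H K x g a = wt0 H K (x * g * x⁻¹) a := by
  unfold wt wt0
  by_cases hc : ∃ u ∈ H a, x * g * x⁻¹ = a * u
  · rw [if_pos ⟨ha, hc⟩, if_pos hc]
  · rw [if_neg (fun h => hc h.2), if_neg hc]

theorem wt0_eq_wt1 (a u : G) : wt0 H K (a * u) a = wt1 H K u a := by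
  unfold wt0 wt1
  by_cases hu : u ∈ H a
  · rw [if_pos ⟨u, hu, rfl⟩, if_pos hu]
  · rw [if_neg hu, if_neg]
    rintro ⟨u', hu', h⟩
    rw [mul_left_cancel h] at hu
    exact hu hu'

open Classical in
theorem inner_sum (F : G → K) (hF : ∀ g x : G, F (x * g * x⁻¹) = F g) (x a : G) :
    ∑ g : G, F g * wt A H K x g a =
      if a ∈ A then ((Nat.card (H a) : K))⁻¹ * ∑ u : G, (if u ∈ H a then F (a * u) else 0)
      else 0 := by
  by_cases ha : a ∈ A
  · rw [if_pos ha]
    have h1 : ∑ g : G, F g * wt A H K x g a = ∑ h : G, F h * wt0 H K h a := by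
      apply Fintype.sum_equiv (MulAut.conj x).toEquiv
      intro g
      show F g * wt A H K x g a = F (x * g * x⁻¹) * wt0 H K (x * g * x⁻¹) a
      rw [hF, wt_eq_wt0 ha]
    rw [h1]
    have h2 : ∑ h : G, F h * wt0 H K h a = ∑ u : G, F (a * u) * wt1 H K u a := by
      symm
      apply Fintype.sum_equiv (Equiv.mulLeft a)
      intro u
      show F (a * u) * wt1 H K u a = F (a * u) * wt0 H K (a * u) a
      rw [wt0_eq_wt1]
    rw [h2, Finset.mul_sum]
    apply Finset.sum_congr rfl
    intro u _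
    unfold wt1
    by_cases hu : u ∈ H a
    · simp only [if_pos hu]; ring
    · simp only [if_neg hu]; ring
  · rw [if_neg ha]
    apply Finset.sum_eq_zero
    intro g _
    unfold wt
    rw [if_neg (fun h => ha h.1), mul_zero]

open Classical in
/-- The counting identity behind the Dade isometry. -/
theorem counting (hD : DadeHypothesis A L H) (F : G → K)
    (hF : ∀ g x : G, F (x * g * x⁻¹) = F g) :
    (Nat.card L : K) * ∑ g : G, (if inD A H g then F g else 0) =
      (Nat.card G : K) * ∑ a : G, (if a ∈ A then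
        ((Nat.card (H a) : K))⁻¹ * ∑ u : G, (if u ∈ H a then F (a * u) else 0) else 0) := by
  have h1 : ∑ g : G, F g * wsum A H K g =
      (Nat.card L : K) * ∑ g : G, (if inD A H g then F g else 0) := by
    rw [Finset.mul_sum]
    apply Finset.sum_congr rfl
    intro g _
    rw [wsum_eq hD]
    by_cases hg : inD A H g
    · simp only [if_pos hg]; ring
    · simp only [if_neg hg]; ring
  rw [← h1]
  have h3 : ∑ g : G, F g * wsum A H K g = ∑ x : G, ∑ g : G, ∑ a : G, F g * wt A H K x g a := by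
    unfold wsum
    simp_rw [Finset.mul_sum]
    rw [Finset.sum_comm]
  rw [h3]
  have h2 : ∀ x : G, ∑ g : G, ∑ a : G, F g * wt A H K x g a =
      ∑ a : G, (if a ∈ A then
        ((Nat.card (H a) : K))⁻¹ * ∑ u : G, (if u ∈ H a then F (a * u) else 0) else 0) := by
    intro x
    rw [Finset.sum_comm]
    apply Finset.sum_congr rfl
    intro a _
    exact inner_sum F hF x a
  rw [Finset.sum_congr rfl (fun x _ => h2 x)]
  rw [Finset.sum_const, nsmul_eq_mul, Finset.card_univ, Nat.card_eq_fintype_card]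

end Cfsg.Agent.Lib.helper3.Dade
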