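import Mathlib
import Cfsg.Agent.Lib.helper3.Dade2

set_option autoImplicit false
set_option linter.unusedSectionVars false
open Cfsg

namespace Cfsg.Agent.Lib.helper3.Dade

variable {G : Type*} [Group G] [Fintype G] {A : Set G} {L : Subgroup G} {H : G → Subgroup G}

theorem inD_iff (hD : DadeHypothesis A L H) (g : G) :
    inD A H g ↔ ∃ a : ↥L, (a : G) ∈ A ∧ ∃ x : G, ∃ u ∈ H (a : G), x * g * x⁻¹ = (a : G) * u := by
  constructor
  · rintro ⟨a, ha, x, u, hu, h⟩
    exact ⟨⟨a, hD.subset ha⟩, ha, x, u, hu, h⟩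
  · rintro ⟨a, ha, x, u, hu, h⟩
    exact ⟨a, ha, x, u, hu, h⟩

theorem inD_conj (g h : G) : inD A H (h * g * h⁻¹) ↔ inD A H g := by
  constructor
  · rintro ⟨a, ha, x, u, hu, hx⟩
    refine ⟨a, ha, x * h, u, hu, ?_⟩
    rw [← hx]; group
  · rintro ⟨a, ha, x, u, hu, hx⟩
    refine ⟨a, ha, x * h⁻¹, u, hu, ?_⟩
    rw [← hx]; group

theorem dade_apply (hD : DadeHypothesis A L H) (α : ↥L → ℂ) (hα : IsClassFunction ↥L α)
    (a : ↥L) (ha : (a : G) ∈ A) {g x u : G} (hu : u ∈ H (a : G))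
    (hx : x * g * x⁻¹ = (a : G) * u) : dadeIsometry A L H α g = α a := by
  have h : ∃ a : ↥L, (a : G) ∈ A ∧ ∃ x : G, ∃ u ∈ H (a : G), x * g * x⁻¹ = (a : G) * u :=
    ⟨a, ha, x, u, hu, hx⟩
  unfold dadeIsometry
  rw [dif_pos h]
  obtain ⟨ha', x', u', hu', hx'⟩ := Classical.choose_spec h
  obtain ⟨a', ha'def⟩ : ∃ a', a' = Classical.choose h := ⟨_, rfl⟩
  rw [← ha'def] at ha' hu' hx' ⊢
  have h1 : (x * x'⁻¹) * ((a' : G) * u') * (x * x'⁻¹)⁻¹ = (a : G) * u := by
    rw [← hx', ← hx]; group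
  have h2 : (x * x'⁻¹) * (a' : G) * (x * x'⁻¹)⁻¹ = (a : G) := conj_base hD ha' ha hu' hu h1
  obtain ⟨y, hyL, hy⟩ := hD.fusion (a' : G) ha' (x * x'⁻¹) (by rw [h2]; exact ha)
  have h3 : a = ⟨y, hyL⟩ * a' * ⟨y, hyL⟩⁻¹ := by
    apply Subtype.ext
    simp only [Subgroup.coe_mul, Subgroup.coe_inv]
    rw [hy, h2]
  rw [h3, hα]

theorem dade_zero (α : ↥L → ℂ) {g : G}
    (h : ¬ ∃ a : ↥L, (a : G) ∈ A ∧ ∃ x : G, ∃ u ∈ H (a : G), x * g * x⁻¹ = (a : G) * u) :
    dadeIsometry A L H α g = 0 := by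
  unfold dadeIsometry
  rw [dif_neg h]

theorem dade_zero' (hD : DadeHypothesis A L H) (α : ↥L → ℂ) {g : G} (h : ¬ inD A H g) :
    dadeIsometry A L H α g = 0 :=
  dade_zero α (fun h' => h ((inD_iff hD g).mpr h'))

theorem dade_mul (hD : DadeHypothesis A L H) (α : ↥L → ℂ) (hα : IsClassFunction ↥L α)
    (a : ↥L) (ha : (a : G) ∈ A) {u : G} (hu : u ∈ H (a : G)) :
    dadeIsometry A L H α ((a : G) * u) = α a :=
  dade_apply hD α hα a ha hu (x := 1) (by group)

theorem dade_classFunction (hD : DadeHypothesis A L H) (α : ↥L → ℂ) (hα : IsClassFunction ↥L α) :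
    IsClassFunction G (dadeIsometry A L H α) := by
  intro g h
  by_cases hg : inD A H g
  · obtain ⟨a, ha, x, u, hu, hx⟩ := (inD_iff hD g).mp hg
    rw [dade_apply hD α hα a ha hu hx]
    apply dade_apply hD α hα a ha hu (x := x * h⁻¹)
    rw [← hx]; group
  · rw [dade_zero' hD α hg, dade_zero' hD α]
    rw [inD_conj]; exact hg

/-- A sum over `G` of a function vanishing off `L` is a sum over `L`. -/
theorem sum_eq_sum_subgroup {M : Type*} [AddCommMonoid M] [Fintype L] (T : G → M)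
    (hT : ∀ g : G, g ∉ L → T g = 0) :
    ∑ g : G, T g = ∑ a : ↥L, T (a : G) := by
  classical
  have h1 : ∑ g : G, T g = ∑ g ∈ Finset.univ.filter (fun g : G => g ∈ L), T g := by
    symm
    apply Finset.sum_subset (Finset.filter_subset _ _)
    intro g _ hg
    have : g ∉ L := by simpa using hg
    exact hT g this
  rw [h1, Finset.sum_subtype (p := fun g : G => g ∈ L) _ (by simp)]

open Classical in
/-- The second Dade identity. -/
theorem dade_inner (hD : DadeHypothesis A L H) [Fintype L] (α : ↥L → ℂ)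
    (hα : IsClassFunction ↥L α) (hαA : ∀ x : ↥L, (x : G) ∉ A → α x = 0)
    (χ : G → ℂ) (ψ : ↥L → ℂ) (hχ : IsClassFunction G χ)
    (hψ : ∀ a : ↥L, (a : G) ∈ A →
      ψ a = (Nat.card (H a) : ℂ)⁻¹ * ∑ u : G, (if u ∈ H (a : G) then χ ((a : G) * u) else 0)) :
    classInner (dadeIsometry A L H α) χ = classInner α ψ := by
  have hcl := dade_classFunction hD α hα
  obtain ⟨F, hFdef⟩ : ∃ F : G → ℂ, F = fun g => dadeIsometry A L H α g * (starRingEnd ℂ) (χ g) :=
    ⟨_, rfl⟩
  have hF : ∀ g x : G, F (x * g * x⁻¹) = F g := by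
    intro g x
    rw [hFdef]
    simp only
    rw [hcl g x, hχ g x]
  have hc := counting (K := ℂ) hD F hF
  have hlhs : ∑ g : G, (if inD A H g then F g else 0) = ∑ g : G, F g := by
    apply Finset.sum_congr rfl
    intro g _
    by_cases hg : inD A H g
    · rw [if_pos hg]
    · rw [if_neg hg, hFdef]
      simp only
      rw [dade_zero' hD α hg, zero_mul]
  rw [hlhs] at hc
  obtain ⟨T, hTdef⟩ : ∃ T : G → ℂ, T = fun a => (if a ∈ A then
        ((Nat.card (H a) : ℂ))⁻¹ * ∑ u : G, (if u ∈ H a then F (a * u) else 0) else 0) :=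
    ⟨_, rfl⟩
  have hT0 : ∀ g : G, g ∉ L → T g = 0 := by
    intro g hg
    rw [hTdef]
    simp only
    rw [if_neg (fun h => hg (hD.subset h))]
  have hTa : ∀ a : ↥L, T (a : G) = α a * (starRingEnd ℂ) (ψ a) := by
    intro a
    rw [hTdef]
    simp only
    by_cases ha : (a : G) ∈ A
    · rw [if_pos ha, hψ a ha, map_mul, map_inv₀, map_natCast, map_sum, Finset.mul_sum,
        Finset.mul_sum, Finset.mul_sum]
      apply Finset.sum_congr rfl
      intro u _
      by_cases hu : u ∈ H (a : G)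
      · rw [if_pos hu, if_pos hu, hFdef]
        simp only
        rw [dade_mul hD α hα a ha hu]
        ring
      · rw [if_neg hu, if_neg hu, map_zero, mul_zero, mul_zero]
    · rw [if_neg ha, hαA a ha, zero_mul]
  have hrhs : ∑ a : G, T a = ∑ a : ↥L, α a * (starRingEnd ℂ) (ψ a) := by
    rw [sum_eq_sum_subgroup T hT0]
    exact Finset.sum_congr rfl (fun a _ => hTa a)
  rw [hTdef] at hrhs
  rw [hrhs] at hc
  unfold classInner
  have hG : (Nat.card G : ℂ) ≠ 0 := by
    have : 0 < Nat.card G := Nat.card_pos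
    exact_mod_cast this.ne'
  have hL : (Nat.card L : ℂ) ≠ 0 := by
    have : 0 < Nat.card L := Nat.card_pos
    exact_mod_cast this.ne'
  have hsum : ∑ g : G, dadeIsometry A L H α g * (starRingEnd ℂ) (χ g) = ∑ g : G, F g := by
    rw [hFdef]
  rw [hsum]
  field_simp
  linear_combination hc

open Classical in
theorem finsum_mem_eq_sum_ite {M : Type*} [AddCommMonoid M] (S : Subgroup G) (f : G → M) :
    ∑ᶠ u ∈ (S : Set G), f u = ∑ u : G, (if u ∈ S then f u else 0) := by
  rw [finsum_mem_def, finsum_eq_sum_of_fintype]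
  apply Finset.sum_congr rfl
  intro u _
  rw [Set.indicator_apply]
  by_cases hu : u ∈ S
  · rw [if_pos hu, if_pos (show u ∈ (S : Set G) from hu)]
  · rw [if_neg hu, if_neg (show u ∉ (S : Set G) from hu)]

open Classical in
theorem sum_ite_mem_const (S : Subgroup G) (c : ℂ) :
    ∑ u : G, (if u ∈ S then c else 0) = (Nat.card S : ℂ) * c := by
  rw [← Finset.sum_filter, Finset.sum_const, nsmul_eq_mul]
  congr 2
  symm
  apply Nat.subtype_card
  intro x
  simp

open Classical in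
/-- The first Dade identity. -/
theorem dade_isometry (hD : DadeHypothesis A L H) [Fintype L] (α β : ↥L → ℂ)
    (hα : IsClassFunction ↥L α) (hαA : ∀ x : ↥L, (x : G) ∉ A → α x = 0)
    (hβ : IsClassFunction ↥L β) :
    classInner (dadeIsometry A L H α) (dadeIsometry A L H β) = classInner α β := by
  apply dade_inner hD α hα hαA _ β (dade_classFunction hD β hβ)
  intro a ha
  have h1 : ∑ u : G, (if u ∈ H (a : G) then dadeIsometry A L H β ((a : G) * u) else 0)
      = ∑ u : G, (if u ∈ H (a : G) then β a else 0) := by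
    apply Finset.sum_congr rfl
    intro u _
    by_cases hu : u ∈ H (a : G)
    · rw [if_pos hu, if_pos hu, dade_mul hD β hβ a ha hu]
    · rw [if_neg hu, if_neg hu]
  rw [h1, sum_ite_mem_const]
  have hne : (Nat.card (H (a : G)) : ℂ) ≠ 0 := by
    have : 0 < Nat.card (H (a : G)) := Nat.card_pos
    exact_mod_cast this.ne'
  field_simp

end Cfsg.Agent.Lib.helper3.Dade
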