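import Mathlib
import Cfsg.Agent.Lib.helper3.Dade3

set_option autoImplicit false
set_option linter.unusedSectionVars false
open Cfsg

namespace Cfsg.Agent.Lib.helper3.Dade

variable {G : Type*} [Group G] [Fintype G] {A : Set G} {L : Subgroup G} {H : G → Subgroup G}

open Classical in
theorem card_filter_mem (S : Subgroup G) :
    (Finset.univ.filter (fun u : G => u ∈ S)).card = Nat.card S := by
  symm
  apply Nat.subtype_card
  intro x
  simp

open Classical in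
/-- Jensen's inequality for the average over a subgroup coset. -/
theorem norm_avg_sq_le (S : Subgroup G) (f : G → ℂ) :
    ‖(Nat.card S : ℂ)⁻¹ * ∑ u : G, (if u ∈ S then f u else 0)‖ ^ 2 ≤
      (Nat.card S : ℝ)⁻¹ * ∑ u : G, (if u ∈ S then ‖f u‖ ^ 2 else 0) := by
  have hpos : (0 : ℝ) < (Nat.card S : ℝ) := by
    have : 0 < Nat.card S := Nat.card_pos
    exact_mod_cast this
  rw [← Finset.sum_filter, ← Finset.sum_filter, norm_mul, norm_inv, Complex.norm_natCast, mul_pow]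
  have h1 : ‖∑ u ∈ Finset.univ.filter (fun u : G => u ∈ S), f u‖ ≤
      ∑ u ∈ Finset.univ.filter (fun u : G => u ∈ S), ‖f u‖ := norm_sum_le _ _
  have h2 : (∑ u ∈ Finset.univ.filter (fun u : G => u ∈ S), ‖f u‖) ^ 2 ≤
      ((Finset.univ.filter (fun u : G => u ∈ S)).card : ℝ) *
        ∑ u ∈ Finset.univ.filter (fun u : G => u ∈ S), ‖f u‖ ^ 2 :=
    sq_sum_le_card_mul_sum_sq
  rw [card_filter_mem] at h2
  have h3 : ‖∑ u ∈ Finset.univ.filter (fun u : G => u ∈ S), f u‖ ^ 2 ≤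
      (Nat.card S : ℝ) * ∑ u ∈ Finset.univ.filter (fun u : G => u ∈ S), ‖f u‖ ^ 2 := by
    refine le_trans ?_ h2
    exact pow_le_pow_left₀ (norm_nonneg _) h1 2
  calc ((Nat.card S : ℝ))⁻¹ ^ 2 * ‖∑ u ∈ Finset.univ.filter (fun u : G => u ∈ S), f u‖ ^ 2
      ≤ ((Nat.card S : ℝ))⁻¹ ^ 2 *
        ((Nat.card S : ℝ) * ∑ u ∈ Finset.univ.filter (fun u : G => u ∈ S), ‖f u‖ ^ 2) :=
        mul_le_mul_of_nonneg_left h3 (by positivity)
    _ = (Nat.card S : ℝ)⁻¹ * ∑ u ∈ Finset.univ.filter (fun u : G => u ∈ S), ‖f u‖ ^ 2 := by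
        field_simp

open Classical in
/-- The norm inequality for the Dade support. -/
theorem dade_norm_le (hD : DadeHypothesis A L H) [Fintype L] (χ : G → ℂ)
    (hχ : IsClassFunction G χ) (ψ : ↥L → ℂ)
    (hψ : ∀ a : ↥L, (a : G) ∈ A →
      ψ a = (Nat.card (H a) : ℂ)⁻¹ * ∑ u : G, (if u ∈ H (a : G) then χ ((a : G) * u) else 0)) :
    (Nat.card L : ℝ)⁻¹ * ∑ a : ↥L, (if (a : G) ∈ A then ‖ψ a‖ ^ 2 else 0) ≤
      (Nat.card G : ℝ)⁻¹ * ∑ g : G, (if inD A H g then ‖χ g‖ ^ 2 else 0) := by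
  have hF : ∀ g x : G, (fun g => ‖χ g‖ ^ 2) (x * g * x⁻¹) = (fun g => ‖χ g‖ ^ 2) g := by
    intro g x
    simp only
    rw [hχ g x]
  have hc := counting (K := ℝ) hD (fun g => ‖χ g‖ ^ 2) hF
  obtain ⟨T, hTdef⟩ : ∃ T : G → ℝ, T = fun a => (if a ∈ A then
        ((Nat.card (H a) : ℝ))⁻¹ * ∑ u : G, (if u ∈ H a then ‖χ (a * u)‖ ^ 2 else 0) else 0) :=
    ⟨_, rfl⟩
  have hT0 : ∀ g : G, g ∉ L → T g = 0 := by
    intro g hg
    rw [hTdef]
    simp only
    rw [if_neg (fun h => hg (hD.subset h))]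
  have hle : ∀ a : ↥L, (if (a : G) ∈ A then ‖ψ a‖ ^ 2 else 0) ≤ T (a : G) := by
    intro a
    rw [hTdef]
    simp only
    by_cases ha : (a : G) ∈ A
    · rw [if_pos ha, if_pos ha, hψ a ha]
      exact norm_avg_sq_le (H (a : G)) (fun u => χ ((a : G) * u))
    · rw [if_neg ha, if_neg ha]
  have hsum : ∑ a : ↥L, (if (a : G) ∈ A then ‖ψ a‖ ^ 2 else 0) ≤ ∑ a : G, T a := by
    rw [sum_eq_sum_subgroup T hT0]
    exact Finset.sum_le_sum (fun a _ => hle a)
  rw [hTdef] at hsum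
  have hG : (0 : ℝ) < (Nat.card G : ℝ) := by
    have : 0 < Nat.card G := Nat.card_pos
    exact_mod_cast this
  have hL : (0 : ℝ) < (Nat.card L : ℝ) := by
    have : 0 < Nat.card L := Nat.card_pos
    exact_mod_cast this
  have h5 : (Nat.card G : ℝ)⁻¹ * ∑ g : G, (if inD A H g then ‖χ g‖ ^ 2 else 0) =
      (Nat.card L : ℝ)⁻¹ * ∑ a : G, (if a ∈ A then
        ((Nat.card (H a) : ℝ))⁻¹ * ∑ u : G, (if u ∈ H a then ‖χ (a * u)‖ ^ 2 else 0) else 0) := by
    generalize (∑ g : G, (if inD A H g then ‖χ g‖ ^ 2 else 0)) = S1 at hc ⊢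
    generalize (∑ a : G, (if a ∈ A then
        ((Nat.card (H a) : ℝ))⁻¹ * ∑ u : G, (if u ∈ H a then ‖χ (a * u)‖ ^ 2 else 0) else 0)) = S2
      at hc ⊢
    field_simp
    linear_combination hc
  rw [h5]
  exact mul_le_mul_of_nonneg_left hsum (by positivity)

open Classical in
theorem finsum_mem_setOf_eq_sum_ite {X M : Type*} [Fintype X] [AddCommMonoid M] (p q : X → Prop)
    (hpq : ∀ x, p x ↔ q x) (f : X → M) :
    ∑ᶠ x ∈ {x | p x}, f x = ∑ x : X, (if q x then f x else 0) := by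
  rw [finsum_mem_def, finsum_eq_sum_of_fintype]
  apply Finset.sum_congr rfl
  intro x _
  rw [Set.indicator_apply]
  by_cases hx : q x
  · rw [if_pos hx, if_pos (show x ∈ {x | p x} from (hpq x).mpr hx)]
  · rw [if_neg hx, if_neg (show x ∉ {x | p x} from fun h => hx ((hpq x).mp h))]

end Cfsg.Agent.Lib.helper3.Dade
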