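import Mathlib
import Cfsg.Prelude.Def_Characters
import Cfsg.Agent.Lib.helper3.GalPow
import Cfsg.Agent.Lib.helper3.Lin
import Cfsg.Agent.Lib.helper3.AlgInt

set_option autoImplicit false
set_option linter.style.haveILetI false
set_option linter.unusedSectionVars false

/-!
# Free actions and sums; integrality of power-invariant character values
-/

namespace Cfsg.Agent.Lib.helper3.Pf6

open Cfsg Cfsg.Agent.Lib.helper3.Irr Cfsg.Agent.Lib.helper3.Cyclo

/-- A sum of an invariant function over a finite set on which a finite group acts freely is the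
group order times a partial sum. -/
theorem free_sum {Γ X : Type*} [Group Γ] [Fintype Γ] [DecidableEq X] (act : Γ → X → X)
    (act_one : ∀ x, act 1 x = x) (act_mul : ∀ a b x, act (a * b) x = act a (act b x))
    (f : X → ℂ) (s : Finset X)
    (hs : ∀ γ, ∀ x ∈ s, act γ x ∈ s)
    (hfree : ∀ γ, ∀ x ∈ s, act γ x = x → γ = 1)
    (hf : ∀ γ, ∀ x ∈ s, f (act γ x) = f x) :
    ∃ t : Finset X, t ⊆ s ∧ ∑ x ∈ s, f x = (Fintype.card Γ : ℂ) * ∑ x ∈ t, f x := by
  classical
  induction s using Finset.strongInduction with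
  | H s ih =>
    rcases s.eq_empty_or_nonempty with rfl | ⟨x₀, hx₀⟩
    · exact ⟨∅, Finset.Subset.refl _, by simp⟩
    · set O : Finset X := Finset.univ.image (fun γ : Γ => act γ x₀) with hO
      have hOs : O ⊆ s := by
        intro x hx
        obtain ⟨γ, -, rfl⟩ := Finset.mem_image.mp hx
        exact hs γ x₀ hx₀
      have hinj : Function.Injective (fun γ : Γ => act γ x₀) := by
        intro a b hab
        have hab' : act a x₀ = act b x₀ := hab
        have h1 : act (b⁻¹ * a) x₀ = x₀ := by
          rw [act_mul, hab', ← act_mul, inv_mul_cancel, act_one]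
        have h2 := hfree _ x₀ hx₀ h1
        have : a = b * (b⁻¹ * a) := by group
        rw [this, h2, mul_one]
      have hsumO : ∑ x ∈ O, f x = (Fintype.card Γ : ℂ) * f x₀ := by
        rw [hO, Finset.sum_image (fun a _ b _ h => hinj h)]
        rw [Finset.sum_congr rfl (fun γ _ => hf γ x₀ hx₀)]
        simp
      have hx₀O : x₀ ∈ O := by
        rw [hO]
        exact Finset.mem_image.mpr ⟨1, Finset.mem_univ _, act_one x₀⟩
      have hss : s \ O ⊂ s := by
        refine ⟨Finset.sdiff_subset, ?_⟩
        intro h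
        have := h hx₀
        rw [Finset.mem_sdiff] at this
        exact this.2 hx₀O
      have hs' : ∀ γ, ∀ x ∈ s \ O, act γ x ∈ s \ O := by
        intro γ x hx
        rw [Finset.mem_sdiff] at hx ⊢
        refine ⟨hs γ x hx.1, ?_⟩
        intro hmem
        apply hx.2
        obtain ⟨δ, -, hδ⟩ := Finset.mem_image.mp hmem
        have hδ' : act δ x₀ = act γ x := hδ
        refine Finset.mem_image.mpr ⟨γ⁻¹ * δ, Finset.mem_univ _, ?_⟩
        show act (γ⁻¹ * δ) x₀ = x
        rw [act_mul, hδ', ← act_mul, inv_mul_cancel, act_one]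
      obtain ⟨t', ht's, ht'⟩ := ih (s \ O) hss hs'
        (fun γ x hx => hfree γ x (Finset.mem_sdiff.mp hx).1)
        (fun γ x hx => hf γ x (Finset.mem_sdiff.mp hx).1)
      have hx₀t' : x₀ ∉ t' := by
        intro h
        exact (Finset.mem_sdiff.mp (ht's h)).2 hx₀O
      refine ⟨insert x₀ t', ?_, ?_⟩
      · intro x hx
        rcases Finset.mem_insert.mp hx with rfl | hx
        · exact hx₀
        · exact (Finset.mem_sdiff.mp (ht's hx)).1
      · rw [Finset.sum_insert hx₀t', mul_add, ← hsumO, ← ht', add_comm]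
        exact (Finset.sum_sdiff hOs).symm

/-- A character value at `z` fixed under all coprime powers of `z` is a rational integer. -/
theorem exists_int_of_pow_invariant {G : Type*} [Group G] [Finite G] {ψ : G → ℂ}
    (hψ : IsCharacter G ψ) (z : G)
    (h : ∀ t : ℕ, t.Coprime (Nat.card G) → ψ (z ^ t) = ψ z) : ∃ n : ℤ, ψ z = n := by
  classical
  obtain ⟨m, ρ, rfl⟩ := hψ
  haveI : NeZero (Nat.card G) := ⟨Nat.card_pos.ne'⟩
  have hexp : ∀ g : G, g ^ Nat.card G = 1 := fun g => pow_card_eq_one'
  obtain ⟨a, haint, hemb, hσ⟩ := exists_cyclo_lift (Nat.card G) hexp ρ z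
  have hfix : ∀ σ : CyclotomicField (Nat.card G) ℚ ≃ₐ[ℚ] CyclotomicField (Nat.card G) ℚ,
      σ a = a := by
    intro σ
    obtain ⟨t, htc, ht⟩ := aut_zeta (Nat.card G) σ
    apply emb_injective (Nat.card G)
    rw [hσ σ t ht, h t htc, hemb]
  obtain ⟨q, hq⟩ := exists_rat_of_fixed (Nat.card G) a hfix
  have hval : ρ.character z = (q : ℂ) := by
    rw [← hemb, hq]
    simp
  have hint : IsIntegral ℤ (q : ℂ) := by
    rw [← hval, ← hemb]
    exact map_isIntegral_int (emb (Nat.card G)).toRingHom haint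
  obtain ⟨n, hn⟩ := Cfsg.Agent.Lib.helper3.AlgInt.exists_int_of_isIntegral_ratCast hint
  refine ⟨n, ?_⟩
  rw [hval, ← hn]
  simp

end Cfsg.Agent.Lib.helper3.Pf6
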