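import Mathlib
import Cfsg.Prelude.Def_OddOrderLocal

set_option autoImplicit false

namespace Cfsg.Agent.Lib.helper3.TICount

open Cfsg

variable {G : Type*} [Group G]

/-- the set of non-identity elements conjugate into `H` -/
def conjInto (H : Subgroup G) : Set G := {g | g ≠ 1 ∧ ∃ x : G, x * g * x⁻¹ ∈ H}

/-- a chosen conjugating element -/
noncomputable def conjElt (H : Subgroup G) (g : conjInto H) : G := Classical.choose g.2.2

theorem conjElt_spec (H : Subgroup G) (g : conjInto H) :
    conjElt H g * (g : G) * (conjElt H g)⁻¹ ∈ H := Classical.choose_spec g.2.2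

theorem mem_normalizer_of_TI (H : Subgroup G) (hTI : IsTISubset (H : Set G)) {n h : G}
    (hh : h ∈ H) (hh1 : h ≠ 1) (hn : n * h * n⁻¹ ∈ H) : n ∈ Subgroup.normalizer (H : Set G) := by
  by_contra hcon
  exact hh1 (hTI n hcon h hh hn)

/-- pairs `(x, h)` with `h ∈ H`, `h ≠ 1` correspond to pairs (conjugate, normalizer element) -/
noncomputable def pairEquiv (H : Subgroup G) (hTI : IsTISubset (H : Set G)) :
    G × {h : H // h ≠ 1} ≃ conjInto H × Subgroup.normalizer (H : Set G) where
  toFun t :=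
    let g : conjInto H := ⟨t.1⁻¹ * (t.2 : H) * t.1, by
      refine ⟨?_, t.1, ?_⟩
      · intro h
        apply t.2.2
        have : ((t.2 : H) : G) = 1 := by
          have h2 : t.1 * (t.1⁻¹ * ((t.2 : H) : G) * t.1) * t.1⁻¹ = t.1 * 1 * t.1⁻¹ := by rw [h]
          simpa [mul_assoc] using h2
        exact Subtype.ext this
      · have : t.1 * (t.1⁻¹ * ((t.2 : H) : G) * t.1) * t.1⁻¹ = ((t.2 : H) : G) := by group
        rw [this]; exact (t.2 : H).2⟩
    (g, ⟨t.1 * (conjElt H g)⁻¹, by
      have h0 := conjElt_spec H g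
      have h01 : conjElt H g * (g : G) * (conjElt H g)⁻¹ ≠ 1 := by
        intro h
        apply g.2.1
        have h2 : (conjElt H g)⁻¹ * (conjElt H g * (g : G) * (conjElt H g)⁻¹) * conjElt H g
            = (conjElt H g)⁻¹ * 1 * conjElt H g := by rw [h]
        simpa [mul_assoc] using h2
      refine mem_normalizer_of_TI H hTI h0 h01 ?_
      have : t.1 * (conjElt H g)⁻¹ * (conjElt H g * (g : G) * (conjElt H g)⁻¹) *
          (t.1 * (conjElt H g)⁻¹)⁻¹ = ((t.2 : H) : G) := by
        show t.1 * (conjElt H g)⁻¹ * (conjElt H g * (t.1⁻¹ * ((t.2 : H) : G) * t.1) *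
          (conjElt H g)⁻¹) * (t.1 * (conjElt H g)⁻¹)⁻¹ = ((t.2 : H) : G)
        group
      rw [this]; exact (t.2 : H).2⟩)
  invFun s :=
    (s.2 * conjElt H s.1, ⟨⟨(s.2 : G) * conjElt H s.1 * (s.1 : G) * ((s.2 : G) * conjElt H s.1)⁻¹, by
      have h0 := conjElt_spec H s.1
      have := (Subgroup.mem_normalizer_iff.1 s.2.2 _).1 h0
      have e : (s.2 : G) * conjElt H s.1 * (s.1 : G) * ((s.2 : G) * conjElt H s.1)⁻¹ =
          (s.2 : G) * (conjElt H s.1 * (s.1 : G) * (conjElt H s.1)⁻¹) * (s.2 : G)⁻¹ := by group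
      rw [e]; exact this⟩, by
      intro h
      apply s.1.2.1
      have h1 : (s.2 : G) * conjElt H s.1 * (s.1 : G) * ((s.2 : G) * conjElt H s.1)⁻¹ = 1 :=
        congrArg Subtype.val h
      have h2 : ((s.2 : G) * conjElt H s.1)⁻¹ * ((s.2 : G) * conjElt H s.1 * (s.1 : G) *
          ((s.2 : G) * conjElt H s.1)⁻¹) * ((s.2 : G) * conjElt H s.1) =
          ((s.2 : G) * conjElt H s.1)⁻¹ * 1 * ((s.2 : G) * conjElt H s.1) := by rw [h1]
      have h3 : ((s.2 : G) * conjElt H s.1)⁻¹ * ((s.2 : G) * conjElt H s.1 * (s.1 : G) *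
          ((s.2 : G) * conjElt H s.1)⁻¹) * ((s.2 : G) * conjElt H s.1) = (s.1 : G) := by group
      rw [h3] at h2
      simpa using h2⟩)
  left_inv t := by
    apply Prod.ext
    · simp
    · apply Subtype.ext
      apply Subtype.ext
      simp only
      group
  right_inv s := by
    have hg : (⟨((s.2 : G) * conjElt H s.1)⁻¹ * ((s.2 : G) * conjElt H s.1 * (s.1 : G) *
        ((s.2 : G) * conjElt H s.1)⁻¹) * ((s.2 : G) * conjElt H s.1), by
          have h3 : ((s.2 : G) * conjElt H s.1)⁻¹ * ((s.2 : G) * conjElt H s.1 * (s.1 : G) *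
            ((s.2 : G) * conjElt H s.1)⁻¹) * ((s.2 : G) * conjElt H s.1) = (s.1 : G) := by group
          rw [h3]; exact s.1.2⟩ : conjInto H) = s.1 := by
      apply Subtype.ext
      simp only
      group
    apply Prod.ext
    · exact hg
    · apply Subtype.ext
      simp only
      rw [hg]
      group

theorem card_conjInto_mul [Finite G] (H : Subgroup G) (hTI : IsTISubset (H : Set G)) :
    Nat.card (conjInto H) * Nat.card (Subgroup.normalizer (H : Set G)) =
      Nat.card G * (Nat.card H - 1) := by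
  have h1 := Nat.card_congr (pairEquiv H hTI)
  rw [Nat.card_prod, Nat.card_prod] at h1
  rw [← h1]
  congr 1
  classical
  have : Nat.card {h : H // h ≠ 1} = Nat.card H - 1 := by
    have := Fintype.ofFinite H
    rw [Nat.card_eq_fintype_card, Nat.card_eq_fintype_card, Fintype.card_subtype_compl,
      Fintype.card_subtype_eq]
  exact this

end Cfsg.Agent.Lib.helper3.TICount
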