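import Mathlib
import Cfsg.Prelude.Def_OddOrderLocal
import Cfsg.Agent.Lib.helper3.TICount

set_option autoImplicit false
set_option linter.unusedSectionVars false
set_option linter.style.haveILetI false

/-!
# Sums over a group partitioned by the conjugates of TI-subgroups
-/

namespace Cfsg.Agent.Lib.helper3.FP

open Cfsg Cfsg.Agent.Lib.helper3.TICount

variable {G : Type*} [Group G] [Fintype G]

open Classical in
/-- Summing a class function over the nonidentity elements conjugate into a TI-subgroup. -/
theorem sum_conjInto (H : Subgroup G) (hTI : IsTISubset (H : Set G)) (F : G → ℂ)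
    (hF : ∀ g x : G, F (x * g * x⁻¹) = F g) :
    (Nat.card (Subgroup.normalizer (H : Set G)) : ℂ) *
        ∑ g : G, (if g ∈ conjInto H then F g else 0) =
      (Nat.card G : ℂ) * ∑ g : G, (if g ∈ H ∧ g ≠ 1 then F g else 0) := by
  haveI : Fintype (conjInto H) := Fintype.ofFinite _
  haveI : Fintype (Subgroup.normalizer (H : Set G)) := Fintype.ofFinite _
  haveI : Fintype {h : H // h ≠ 1} := Fintype.ofFinite _
  have h1 : ∑ g : G, (if g ∈ conjInto H then F g else 0) = ∑ g : conjInto H, F (g : G) := by
    rw [← Finset.sum_filter]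
    exact (Finset.sum_subtype (Finset.univ.filter (fun g : G => g ∈ conjInto H))
      (by simp) F)
  have h2 : ∑ g : G, (if g ∈ H ∧ g ≠ 1 then F g else 0) =
      ∑ h : {h : H // h ≠ 1}, F ((h : H) : G) := by
    rw [← Finset.sum_filter]
    let e : {h : H // h ≠ 1} ≃ {g : G // g ∈ H ∧ g ≠ 1} :=
      { toFun := fun h => ⟨((h : H) : G), (h : H).2, fun h1 => h.2 (Subtype.ext h1)⟩
        invFun := fun g => ⟨⟨g.1, g.2.1⟩, fun h1 => g.2.2 (congrArg Subtype.val h1)⟩
        left_inv := fun h => rfl
        right_inv := fun g => rfl }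
    haveI : Fintype {g : G // g ∈ H ∧ g ≠ 1} := Fintype.ofFinite _
    rw [Fintype.sum_equiv e (fun h => F ((h : H) : G)) (fun g => F (g : G)) (fun h => rfl)]
    exact (Finset.sum_subtype (Finset.univ.filter (fun g : G => g ∈ H ∧ g ≠ 1))
      (by simp) F)
  rw [h1, h2]
  have h3 : ∑ t : G × {h : H // h ≠ 1}, F ((t.2 : H) : G) =
      ∑ s : conjInto H × Subgroup.normalizer (H : Set G), F (s.1 : G) := by
    apply Fintype.sum_equiv (pairEquiv H hTI)
    intro t
    show F ((t.2 : H) : G) = F (t.1⁻¹ * ((t.2 : H) : G) * t.1)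
    have := hF ((t.2 : H) : G) t.1⁻¹
    rw [inv_inv] at this
    rw [this]
  rw [Fintype.sum_prod_type, Fintype.sum_prod_type] at h3
  simp only [Finset.sum_const, Finset.card_univ, nsmul_eq_mul] at h3
  rw [Nat.card_eq_fintype_card, Nat.card_eq_fintype_card, Finset.mul_sum]
  exact h3.symm


/-- An element conjugate into two subgroups of coprime orders is trivial. -/
theorem eq_one_of_conj_mem_of_coprime {H₁ H₂ : Subgroup G}
    (hcop : Nat.Coprime (Nat.card H₁) (Nat.card H₂)) {g x y : G} (hx : x * g * x⁻¹ ∈ H₁)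
    (hy : y * g * y⁻¹ ∈ H₂) : g = 1 := by
  have ho : ∀ (K : Subgroup G) (z : G), z * g * z⁻¹ ∈ K → orderOf g ∣ Nat.card K := by
    intro K z hz
    have h1 : orderOf (z * g * z⁻¹) = orderOf g := by
      have := (MulAut.conj z).orderOf_eq g
      simpa using this
    rw [← h1]
    have := orderOf_dvd_natCard (⟨_, hz⟩ : K)
    rwa [Subgroup.orderOf_mk] at this
  have := Nat.eq_one_of_dvd_coprimes hcop (ho _ x hx) (ho _ y hy)
  exact orderOf_eq_one_iff.1 this

variable {ι : Type*} [Fintype ι]

open Classical in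
/-- Decomposition of a sum over the group along the partition into the identity and the
nonidentity elements conjugate into the members of the family. -/
theorem sum_eq_add_sum_conjInto (H : ι → Subgroup G)
    (hcop : ∀ i j, i ≠ j → Nat.Coprime (Nat.card (H i)) (Nat.card (H j)))
    (hcover : ∀ g : G, g ≠ 1 → ∃ i, ∃ x : G, x * g * x⁻¹ ∈ H i) (F : G → ℂ) :
    ∑ g : G, F g = F 1 + ∑ i, ∑ g : G, (if g ∈ conjInto (H i) then F g else 0) := by
  rw [Finset.sum_comm]
  have hpt : ∀ g : G, F g = (if g = 1 then F 1 else 0) +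
      ∑ i, (if g ∈ conjInto (H i) then F g else 0) := by
    intro g
    by_cases hg : g = 1
    · subst hg
      rw [if_pos rfl]
      have : ∀ i, (if (1 : G) ∈ conjInto (H i) then F 1 else 0) = 0 := by
        intro i
        rw [if_neg]
        intro h
        exact h.1 rfl
      simp only [this, Finset.sum_const_zero, add_zero]
    · rw [if_neg hg, zero_add]
      obtain ⟨i, x, hx⟩ := hcover g hg
      rw [Finset.sum_eq_single i]
      · rw [if_pos ⟨hg, x, hx⟩]
      · intro j _ hji
        rw [if_neg]
        rintro ⟨-, y, hy⟩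
        exact hg (eq_one_of_conj_mem_of_coprime (hcop i j (Ne.symm hji)) hx hy)
      · intro h
        exact absurd (Finset.mem_univ i) h
  calc ∑ g : G, F g = ∑ g : G, ((if g = 1 then F 1 else 0) +
      ∑ i, (if g ∈ conjInto (H i) then F g else 0)) := Finset.sum_congr rfl (fun g _ => hpt g)
    _ = F 1 + ∑ g : G, ∑ i, (if g ∈ conjInto (H i) then F g else 0) := by
        rw [Finset.sum_add_distrib, Finset.sum_ite_eq' Finset.univ (1 : G) (fun _ => F 1)]
        simp

open Classical in
/-- The partition formula: a class function summed over a group which is the union of the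
conjugates of TI-subgroups of pairwise coprime orders. -/
theorem sum_partition (H : ι → Subgroup G)
    (hcop : ∀ i j, i ≠ j → Nat.Coprime (Nat.card (H i)) (Nat.card (H j)))
    (hTI : ∀ i, IsTISubset (H i : Set G))
    (hcover : ∀ g : G, g ≠ 1 → ∃ i, ∃ x : G, x * g * x⁻¹ ∈ H i) (F : G → ℂ)
    (hF : ∀ g x : G, F (x * g * x⁻¹) = F g) :
    ∑ g : G, F g = F 1 + ∑ i, (Nat.card G : ℂ) /
      (Nat.card (Subgroup.normalizer (H i : Set G)) : ℂ) *
        ∑ g : G, (if g ∈ H i ∧ g ≠ 1 then F g else 0) := by
  rw [sum_eq_add_sum_conjInto H hcop hcover F]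
  congr 1
  apply Finset.sum_congr rfl
  intro i _
  have h := sum_conjInto (H i) (hTI i) F hF
  have hN : (Nat.card (Subgroup.normalizer (H i : Set G)) : ℂ) ≠ 0 := by
    have : Nat.card (Subgroup.normalizer (H i : Set G)) ≠ 0 := Nat.card_pos.ne'
    exact_mod_cast this
  field_simp
  linear_combination h

end Cfsg.Agent.Lib.helper3.FP
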