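import Mathlib
import Cfsg.Prelude.Def_OddOrderChar
import Cfsg.Agent.Lib.helper3.Tifn5

set_option autoImplicit false
set_option linter.style.haveILetI false
set_option linter.unusedSectionVars false

/-!
# A trivial-intersection subgroup with Frobenius normalizer: the exceptional characters
-/

namespace Cfsg.Agent.Lib.helper3.Tifn

open Cfsg Module Cfsg.Agent.Lib.helper3.CharBasic Cfsg.Agent.Lib.helper3.IndFun
open Cfsg.Agent.Lib.helper3.Irr Cfsg.Agent.Lib.helper3.Coh Cfsg.Agent.Lib.helper3.IndFunTI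
open scoped ComplexConjugate

section nlevel

variable {N : Type*} [Group N] [Fintype N] (K : Subgroup N) [hKn : K.Normal]
  (hC : ∀ n ∈ K, n ≠ 1 → Subgroup.centralizer ({n} : Set N) ≤ K)

include hC in
/-- With at least two relevant characters, none is constant on the nonidentity elements of the
subgroup. -/
theorem exists_ne_apply {χ ξ : N → ℂ} (hχ : χ ∈ relSet K) (hξ : ξ ∈ relSet K) (hne : ξ ≠ χ) :
    ∃ a b : N, a ∈ K ∧ b ∈ K ∧ a ≠ 1 ∧ b ≠ 1 ∧ χ a ≠ χ b := by
  classical
  letI : Fintype K := Fintype.ofFinite K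
  by_contra hcon
  push Not at hcon
  obtain ⟨k₁, hk₁, hk₁ne⟩ := hχ.2
  have hk₁1 : k₁ ≠ 1 := fun h => hk₁ne (by rw [h])
  obtain ⟨a₀, ha₀⟩ : ∃ a₀ : ℂ, a₀ = χ k₁ := ⟨_, rfl⟩
  have hconst : ∀ k ∈ K, k ≠ 1 → χ k = a₀ := by
    intro k hk hk1
    rw [ha₀]
    exact hcon k k₁ hk hk₁ hk1 hk₁1
  have hortho : classInner χ ξ = 0 := by
    rw [irr_classInner_eq hχ.1 hξ.1, if_neg (fun h => hne h.symm)]
  rw [classInner_apply] at hortho
  have hN : (Nat.card N : ℂ) ≠ 0 := card_ne_zero_complex N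
  have hsum : ∑ n : N, χ n * conj (ξ n) = 0 := by
    rcases mul_eq_zero.mp hortho with h | h
    · exact absurd (inv_eq_zero.mp h) hN
    · exact h
  have hterm : ∀ n : N, χ n * conj (ξ n) =
      (if n ∈ K then a₀ * conj (ξ n) else 0) +
        (if n = 1 then (χ 1 - a₀) * conj (ξ 1) else 0) := by
    intro n
    by_cases hn : n ∈ K
    · rw [if_pos hn]
      by_cases hn1 : n = 1
      · rw [if_pos hn1, hn1]; ring
      · rw [if_neg hn1, hconst n hn hn1, add_zero]
    · have hn1 : n ≠ 1 := fun h => hn (h ▸ K.one_mem)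
      rw [if_neg hn, if_neg hn1, apply_eq_zero_of_not_mem K hC hχ hn, zero_mul, add_zero]
  have hK0 : ∑ n : N, (if n ∈ K then a₀ * conj (ξ n) else 0) = 0 := by
    rw [← Finset.sum_filter]
    rw [Finset.sum_subtype (Finset.univ.filter (fun n : N => n ∈ K)) (p := fun n => n ∈ K)
      (by simp) (fun n => a₀ * conj (ξ n))]
    rw [← Finset.mul_sum]
    have h0 := sum_subgroup_eq_zero K hC hξ
    have h1 : ∑ k : K, conj (ξ (k : N)) = conj (∑ k : K, ξ (k : N)) := by rw [map_sum]
    have h2 : ∑ a : {n : N // n ∈ K}, conj (ξ (a : N)) = ∑ k : K, conj (ξ (k : N)) := rfl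
    rw [h2, h1, h0, map_zero, mul_zero]
  rw [Finset.sum_congr rfl (fun n _ => hterm n), Finset.sum_add_distrib, hK0, zero_add,
    Finset.sum_ite_eq' Finset.univ (1 : N), if_pos (Finset.mem_univ _)] at hsum
  have hξ1 : conj (ξ 1) ≠ 0 := by
    intro h
    apply apply_one_ne_zero hξ.1
    have := congrArg conj h
    rwa [Complex.conj_conj, map_zero] at this
  rcases mul_eq_zero.mp hsum with h | h
  · apply hk₁ne
    rw [← ha₀]
    exact (sub_eq_zero.mp h).symm
  · exact hξ1 h

end nlevel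

variable {G : Type*} [Group G] [Fintype G] (K : Subgroup G)

section main

variable (hTI : ∀ g : G, g ∉ Subgroup.normalizer (K : Set G) → ∀ k ∈ K, g * k * g⁻¹ ∈ K → k = 1)
  (hC : ∀ k ∈ K, k ≠ 1 → Subgroup.centralizer ({k} : Set G) ≤ K)
  [Fintype ↥(Subgroup.normalizer (K : Set G))]
  (star : (↥(Subgroup.normalizer (K : Set G)) → ℂ) → (G → ℂ))
  (hstar : IsLinearIsometryOn
    (zspan (relSet (K.subgroupOf (Subgroup.normalizer (K : Set G))))) star)
  (hext : ∀ α ∈ zspanOn (relSet (K.subgroupOf (Subgroup.normalizer (K : Set G))))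
    ({1}ᶜ : Set ↥(Subgroup.normalizer (K : Set G))),
    star α = indFun (Subgroup.normalizer (K : Set G)) α)

include hC hstar hext in
/-- The exceptional characters are exactly the irreducible characters not constant on the
nonidentity elements of the subgroup. -/
theorem exceptional_iff
    (htwo : ∃ χ ∈ relSet (K.subgroupOf (Subgroup.normalizer (K : Set G))),
      ∃ ξ ∈ relSet (K.subgroupOf (Subgroup.normalizer (K : Set G))), χ ≠ ξ)
    (ψ : G → ℂ) (hψ : IsIrrCharacter G ψ) :
    (∃ χ ∈ relSet (K.subgroupOf (Subgroup.normalizer (K : Set G))),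
      ψ = star χ ∨ ψ = -star χ) ↔
      ∃ a ∈ K, ∃ b ∈ K, a ≠ 1 ∧ b ≠ 1 ∧ ψ a ≠ ψ b := by
  have hCn := centralizer_le_subgroupOf K hC
  constructor
  · rintro ⟨χ, hχ, hψχ⟩
    -- another relevant character
    have hother : ∃ ξ ∈ relSet (K.subgroupOf (Subgroup.normalizer (K : Set G))), ξ ≠ χ := by
      obtain ⟨χ₁, hχ₁, ξ₁, hξ₁, hne⟩ := htwo
      by_cases h : χ₁ = χ
      · exact ⟨ξ₁, hξ₁, fun h' => hne (h.trans h'.symm)⟩
      · exact ⟨χ₁, hχ₁, h⟩
    obtain ⟨ξ, hξ, hξχ⟩ := hother
    obtain ⟨a, b, ha, hb, ha1, hb1, hab⟩ :=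
      exists_ne_apply (K.subgroupOf (Subgroup.normalizer (K : Set G))) hCn hχ hξ hξχ
    obtain ⟨M, hM⟩ := exists_int_const K star hstar hext hχ
    have hMa := hM a (Subgroup.mem_subgroupOf.mp ha) ha1
    have hMb := hM b (Subgroup.mem_subgroupOf.mp hb) hb1
    have hstarne : star χ (a : G) ≠ star χ (b : G) := by
      intro h
      apply hab
      rw [h, ← hMb] at hMa
      linear_combination -hMa
    refine ⟨(a : G), Subgroup.mem_subgroupOf.mp ha, (b : G), Subgroup.mem_subgroupOf.mp hb,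
      fun h => ha1 (Subtype.ext h), fun h => hb1 (Subtype.ext h), ?_⟩
    rcases hψχ with h | h
    · rw [h]; exact hstarne
    · rw [h, Pi.neg_apply, Pi.neg_apply]
      intro h'
      exact hstarne (neg_injective h')
  · rintro ⟨a, ha, b, hb, ha1, hb1, hab⟩
    by_contra hcon
    push Not at hcon
    apply hab
    -- `ψ` is orthogonal to every `star ξ`
    have hzero : ∀ ξ ∈ relSet (K.subgroupOf (Subgroup.normalizer (K : Set G))),
        classInner (star ξ) ψ = 0 := by
      intro ξ hξ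
      have hgen := hstar.2.2.2 ξ (mem_zspan_of_mem hξ)
      have hnorm : classInner (star ξ) (star ξ) = 1 := by
        rw [hstar.2.2.1 ξ (mem_zspan_of_mem hξ) ξ (mem_zspan_of_mem hξ),
          irr_classInner_eq hξ.1 hξ.1, if_pos rfl]
      obtain ⟨c, hc⟩ := exists_irr_of_norm_one hgen hnorm
      have hcψ : (c : G → ℂ) ≠ ψ := by
        intro h
        rcases hc with hc | hc
        · exact (hcon ξ hξ).1 (by rw [hc, h])
        · exact (hcon ξ hξ).2 (by rw [hc, h, neg_neg])
      have h0 : classInner (c : G → ℂ) ψ = 0 := by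
        rw [irr_classInner_eq c.2 hψ, if_neg hcψ]
      rcases hc with hc | hc
      · rw [hc, h0]
      · rw [hc, classInner_neg_left, h0, neg_zero]
    have hortho : ∀ ξ ∈ relSet (K.subgroupOf (Subgroup.normalizer (K : Set G))),
        ∀ ξ' ∈ relSet (K.subgroupOf (Subgroup.normalizer (K : Set G))), ∀ a b : ℤ,
        (a : ℂ) * ξ 1 + (b : ℂ) * ξ' 1 = 0 →
          classInner (star (a • ξ + b • ξ')) ψ =
            classInner (a • ξ + b • ξ') (0 : ↥(Subgroup.normalizer (K : Set G)) → ℂ) := by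
      intro ξ hξ ξ' hξ' a b _
      rw [star_comb K star hstar hξ hξ', classInner_add_left, classInner_zsmul_left,
        classInner_zsmul_left, hzero ξ hξ, hzero ξ' hξ', classInner_zero_right]
      ring
    obtain ⟨χ₀, hχ₀, -⟩ := htwo
    have hmain := restrict_const K star hext ψ
      (isClassFunction_of_isCharacter (isCharacter_of_isIrrCharacter hψ)) 0
      (fun _ _ => rfl) hortho hχ₀
    have haN : a ∈ Subgroup.normalizer (K : Set G) := Subgroup.le_normalizer ha
    have hbN : b ∈ Subgroup.normalizer (K : Set G) := Subgroup.le_normalizer hb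
    have h1 := hmain ⟨a, haN⟩ ha (fun h => ha1 (congrArg Subtype.val h))
    have h2 := hmain ⟨b, hbN⟩ hb (fun h => hb1 (congrArg Subtype.val h))
    simp only [Pi.zero_apply, sub_zero] at h1 h2
    rw [h1, h2]

end main

end Cfsg.Agent.Lib.helper3.Tifn
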