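import Mathlib
import Cfsg.Prelude.Def_OddOrderChar
import Cfsg.Agent.Lib.helper3.FP3
import Cfsg.Agent.Lib.helper3.Tifn6
import Cfsg.Agent.Lib.helper3.Irr14
import Cfsg.Agent.Lib.helper3.Irr15
import Cfsg.Agent.Lib.helper3.Coh14
import Cfsg.Agent.S1529

set_option autoImplicit false
set_option linter.style.haveILetI false
set_option linter.unusedSectionVars false

/-!
# A trivial-intersection subgroup with Frobenius normalizer and a coherent isometry:
signs, complex conjugation, supports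
-/

namespace Cfsg.Agent.Lib.helper3.FP

open Cfsg Module Cfsg.Agent.Lib.helper3.CharBasic Cfsg.Agent.Lib.helper3.IndFun
open Cfsg.Agent.Lib.helper3.Irr Cfsg.Agent.Lib.helper3.Coh Cfsg.Agent.Lib.helper3.Tifn
open Cfsg.Agent.Lib.helper3.IndFunTI
open scoped ComplexConjugate

section nlevel

variable {N : Type*} [Group N] [Fintype N] (K : Subgroup N)

theorem conjFun_mem_relSet {ξ : N → ℂ} (hξ : ξ ∈ relSet K) : Cfsg.conjFun ξ ∈ relSet K := by
  obtain ⟨hirr, k, hk, hne⟩ := hξ
  refine ⟨isIrrCharacter_conj hirr, k, hk, ?_⟩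
  intro h
  apply hne
  have h2 := congrArg conj h
  simpa [Cfsg.conjFun] using h2

theorem conjFun_ne_of_odd (hodd : Odd (Nat.card N)) {ξ : N → ℂ} (hξ : ξ ∈ relSet K) :
    Cfsg.conjFun ξ ≠ ξ := by
  intro h
  have hreal : ∀ g : N, (ξ g).im = 0 := by
    intro g
    have h2 : conj (ξ g) = ξ g := congrFun h g
    exact Complex.conj_eq_iff_im.mp h2
  have h1 : ξ = fun _ => 1 := eq_one_of_real_of_odd hodd ⟨ξ, hξ.1⟩ hreal
  obtain ⟨-, k, hk, hne⟩ := hξ
  apply hne
  rw [h1]

end nlevel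

section supp

variable {G : Type*} [Group G] [Fintype G]

/-- A function induced from a function supported on the nonidentity elements of `K` vanishes at
the elements not conjugate into `K ∖ 1`. -/
theorem indFun_eq_zero_of_forall (K N : Subgroup G) (θ : N → ℂ)
    (hθK : ∀ n : N, (n : G) ∉ K → θ n = 0) (hθ1 : θ 1 = 0) (g : G)
    (hg : ∀ x : G, x * g * x⁻¹ ∈ K → g = 1) : indFun N θ g = 0 := by
  rw [indFun_apply]
  have h0 : ∀ x : G, extendByZero N θ (x⁻¹ * g * x) = 0 := by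
    intro x
    by_cases hmem : x⁻¹ * g * x ∈ N
    · rw [extendByZero_mem N θ hmem]
      by_cases hK : x⁻¹ * g * x ∈ K
      · have h1 : g = 1 := hg x⁻¹ (by rwa [inv_inv])
        have h2 : (⟨x⁻¹ * g * x, hmem⟩ : N) = 1 := by
          apply Subtype.ext
          show x⁻¹ * g * x = 1
          rw [h1]
          simp
        rw [h2, hθ1]
      · exact hθK _ hK
    · exact extendByZero_not_mem N θ hmem
  rw [Finset.sum_congr rfl (fun x _ => h0 x), Finset.sum_const_zero, mul_zero]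

end supp

section main

variable {G : Type*} [Group G] [Fintype G] (K : Subgroup G)
  (hTI : ∀ g : G, g ∉ Subgroup.normalizer (K : Set G) → ∀ k ∈ K, g * k * g⁻¹ ∈ K → k = 1)
  (hC : ∀ k ∈ K, k ≠ 1 → Subgroup.centralizer ({k} : Set G) ≤ K)
  [Fintype ↥(Subgroup.normalizer (K : Set G))]
  (star : (↥(Subgroup.normalizer (K : Set G)) → ℂ) → (G → ℂ))
  (hstar : IsLinearIsometryOn
    (zspan (relSet (K.subgroupOf (Subgroup.normalizer (K : Set G))))) star)
  (hext : ∀ α ∈ zspanOn (relSet (K.subgroupOf (Subgroup.normalizer (K : Set G))))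
    ({1}ᶜ : Set ↥(Subgroup.normalizer (K : Set G))),
    star α = indFun (Subgroup.normalizer (K : Set G)) α)
  (hodd : Odd (Nat.card G))

include hodd in
theorem odd_card_normalizer : Odd (Nat.card ↥(Subgroup.normalizer (K : Set G))) :=
  hodd.of_dvd_nat (Subgroup.card_subgroup_dvd_card _)

include hodd in
/-- With odd order, a nonempty relevant set has two members. -/
theorem exists_two
    {ξ : ↥(Subgroup.normalizer (K : Set G)) → ℂ}
    (hξ : ξ ∈ relSet (K.subgroupOf (Subgroup.normalizer (K : Set G)))) :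
    ∃ χ ∈ relSet (K.subgroupOf (Subgroup.normalizer (K : Set G))),
      ∃ ψ ∈ relSet (K.subgroupOf (Subgroup.normalizer (K : Set G))), χ ≠ ψ :=
  ⟨_, conjFun_mem_relSet _ hξ, ξ, hξ, conjFun_ne_of_odd _ (odd_card_normalizer K hodd) hξ⟩

/-- The difference of a relevant character and its conjugate lies in the domain of induction. -/
theorem sub_conj_mem_zspanOn {ξ : ↥(Subgroup.normalizer (K : Set G)) → ℂ}
    (hξ : ξ ∈ relSet (K.subgroupOf (Subgroup.normalizer (K : Set G)))) :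
    ξ - Cfsg.conjFun ξ ∈ zspanOn (relSet (K.subgroupOf (Subgroup.normalizer (K : Set G))))
      ({1}ᶜ : Set ↥(Subgroup.normalizer (K : Set G))) := by
  rw [mem_zspanOn_one_iff]
  refine ⟨zspan_sub (mem_zspan_of_mem hξ) (mem_zspan_of_mem (conjFun_mem_relSet _ hξ)), ?_⟩
  rw [Pi.sub_apply, conjFun_apply_one_of_isCharacter (isCharacter_of_isIrrCharacter hξ.1),
    sub_self]

include hstar hext in
theorem star_sub_conj {ξ : ↥(Subgroup.normalizer (K : Set G)) → ℂ}
    (hξ : ξ ∈ relSet (K.subgroupOf (Subgroup.normalizer (K : Set G)))) :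
    star ξ - star (Cfsg.conjFun ξ) =
      indFun (Subgroup.normalizer (K : Set G)) (ξ - Cfsg.conjFun ξ) := by
  rw [← hext _ (sub_conj_mem_zspanOn K hξ)]
  exact (isom_map_sub hstar (fun n x hx => zspan_zsmul n hx) (mem_zspan_of_mem hξ)
    (mem_zspan_of_mem (conjFun_mem_relSet _ hξ))).symm

include hstar hext hodd in
/-- The uniform sign. -/
theorem exists_sign {ξ₁ : ↥(Subgroup.normalizer (K : Set G)) → ℂ}
    (hξ₁ : ξ₁ ∈ relSet (K.subgroupOf (Subgroup.normalizer (K : Set G)))) :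
    ∃ ε : ℂ, (ε = 1 ∨ ε = -1) ∧
      (∀ χ ∈ relSet (K.subgroupOf (Subgroup.normalizer (K : Set G))),
        IsIrrCharacter G (ε • star χ)) ∧
      (∀ χ ∈ relSet (K.subgroupOf (Subgroup.normalizer (K : Set G))),
        ∀ ψ ∈ relSet (K.subgroupOf (Subgroup.normalizer (K : Set G))),
          star χ = star ψ → χ = ψ) := by
  apply Cfsg.Agent.S1529.result (Subgroup.normalizer (K : Set G))
    (relSet (K.subgroupOf (Subgroup.normalizer (K : Set G)))) (fun χ hχ => hχ.1)
    (exists_two K hodd hξ₁) star hstar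
  intro α hα h1
  have hmem : α ∈ zspanOn (relSet (K.subgroupOf (Subgroup.normalizer (K : Set G))))
      ({1}ᶜ : Set ↥(Subgroup.normalizer (K : Set G))) := mem_zspanOn_one_iff.mpr ⟨hα, h1⟩
  rw [hext α hmem]
  exact indFun_one_of_apply_one_eq_zero _ α h1

theorem conjFun_smul_real {X : Type*} {ε : ℂ} (hε : conj ε = ε) (f : X → ℂ) :
    Cfsg.conjFun (ε • f) = ε • Cfsg.conjFun f := by
  funext x
  show conj (ε * f x) = ε * conj (f x)
  rw [map_mul, hε]

theorem conjFun_indFun (H : Subgroup G) (θ : H → ℂ) :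
    Cfsg.conjFun (indFun H θ) = indFun H (Cfsg.conjFun θ) := by
  funext g
  exact (indFun_conj H θ g).symm

include hstar hext hodd in
/-- The isometry commutes with complex conjugation on the relevant characters. -/
theorem conj_star {ε : ℂ} (hε : ε = 1 ∨ ε = -1)
    (hirr : ∀ χ ∈ relSet (K.subgroupOf (Subgroup.normalizer (K : Set G))),
      IsIrrCharacter G (ε • star χ))
    (hinj : ∀ χ ∈ relSet (K.subgroupOf (Subgroup.normalizer (K : Set G))),
      ∀ ψ ∈ relSet (K.subgroupOf (Subgroup.normalizer (K : Set G))), star χ = star ψ → χ = ψ)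
    {ξ : ↥(Subgroup.normalizer (K : Set G)) → ℂ}
    (hξ : ξ ∈ relSet (K.subgroupOf (Subgroup.normalizer (K : Set G)))) :
    Cfsg.conjFun (star ξ) = star (Cfsg.conjFun ξ) := by
  have hξ' := conjFun_mem_relSet _ hξ
  have hne : Cfsg.conjFun ξ ≠ ξ := conjFun_ne_of_odd _ (odd_card_normalizer K hodd) hξ
  have hΔ := star_sub_conj K star hstar hext hξ
  have hε0 : ε ≠ 0 := by
    rcases hε with h | h <;> rw [h] <;> norm_num
  have hεc : conj ε = ε := by
    rcases hε with h | h <;> rw [h] <;> simp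
  have hconjΔ : Cfsg.conjFun (star ξ) - Cfsg.conjFun (star (Cfsg.conjFun ξ)) =
      star (Cfsg.conjFun ξ) - star ξ := by
    have h1 : Cfsg.conjFun (star ξ) - Cfsg.conjFun (star (Cfsg.conjFun ξ)) =
        Cfsg.conjFun (star ξ - star (Cfsg.conjFun ξ)) := by
      funext g
      simp [Cfsg.conjFun]
    rw [h1, hΔ, conjFun_indFun]
    have h2 : Cfsg.conjFun (ξ - Cfsg.conjFun ξ) = Cfsg.conjFun ξ - ξ := by
      funext n
      simp [Cfsg.conjFun]
    rw [h2]
    have h3 := star_sub_conj K star hstar hext hξ'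
    rw [conjFun_conjFun] at h3
    exact h3.symm
  obtain ⟨χ₁, hχ₁⟩ : ∃ χ₁ : G → ℂ, χ₁ = ε • star ξ := ⟨_, rfl⟩
  obtain ⟨χ₂, hχ₂⟩ : ∃ χ₂ : G → ℂ, χ₂ = ε • star (Cfsg.conjFun ξ) := ⟨_, rfl⟩
  have h1irr : IsIrrCharacter G χ₁ := hχ₁ ▸ hirr ξ hξ
  have h2irr : IsIrrCharacter G χ₂ := hχ₂ ▸ hirr _ hξ'
  have hne12 : χ₁ ≠ χ₂ := by
    intro h
    apply hne
    apply hinj _ hξ' _ hξ
    rw [hχ₁, hχ₂] at h
    have h4 := congrArg (fun f => ε⁻¹ • f) h
    simp only [smul_smul, inv_mul_cancel₀ hε0, one_smul] at h4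
    exact h4.symm
  have hrel : Cfsg.conjFun χ₁ + χ₁ = χ₂ + Cfsg.conjFun χ₂ := by
    rw [hχ₁, hχ₂, conjFun_smul_real hεc, conjFun_smul_real hεc]
    have h5 : ε • Cfsg.conjFun (star ξ) - ε • Cfsg.conjFun (star (Cfsg.conjFun ξ)) =
        ε • star (Cfsg.conjFun ξ) - ε • star ξ := by
      rw [← smul_sub, ← smul_sub, hconjΔ]
    linear_combination (exp := 1) h5
  have hcirr : IsIrrCharacter G (Cfsg.conjFun χ₁) := isIrrCharacter_conj h1irr
  have hkey : χ₂ = Cfsg.conjFun χ₁ := by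
    by_contra hcon
    have h6 : classInner (Cfsg.conjFun χ₁ + χ₁) (Cfsg.conjFun χ₁) =
        classInner (χ₂ + Cfsg.conjFun χ₂) (Cfsg.conjFun χ₁) := by rw [hrel]
    have e1 : classInner χ₂ (Cfsg.conjFun χ₁) = 0 := by
      rw [irr_classInner_eq h2irr hcirr, if_neg hcon]
    have e2 : classInner (Cfsg.conjFun χ₂) (Cfsg.conjFun χ₁) = 0 := by
      rw [classInner_conjFun, irr_classInner_eq h2irr h1irr, if_neg (fun h => hne12 h.symm),
        map_zero]
    have e3 : classInner χ₁ (Cfsg.conjFun χ₁) = if χ₁ = Cfsg.conjFun χ₁ then 1 else 0 :=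
      irr_classInner_eq h1irr hcirr
    rw [classInner_add_left, classInner_add_left, irr_classInner_self hcirr, e1, e2, e3] at h6
    split_ifs at h6
    · norm_num at h6
    · norm_num at h6
  rw [hχ₁, hχ₂, conjFun_smul_real hεc] at hkey
  have h7 := congrArg (fun f => ε⁻¹ • f) hkey
  simp only [smul_smul, inv_mul_cancel₀ hε0, one_smul] at h7
  exact h7.symm

/-- The generalized character `ψ` induced from the test function. -/
noncomputable def psi (ξ₀ : ↥(Subgroup.normalizer (K : Set G)) → ℂ) : G → ℂ :=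
  indFun (Subgroup.normalizer (K : Set G))
    (alpha0 (K.subgroupOf (Subgroup.normalizer (K : Set G))) ξ₀)

theorem isGeneralizedCharacter_psi {ξ₀ : ↥(Subgroup.normalizer (K : Set G)) → ℂ}
    (hξ₀ : ξ₀ ∈ relSet (K.subgroupOf (Subgroup.normalizer (K : Set G)))) :
    IsGeneralizedCharacter G (psi K ξ₀) :=
  isGeneralizedCharacter_indFun _ (isGeneralizedCharacter_alpha0 _ hξ₀.1)

theorem classInner_psi {ξ₀ : ↥(Subgroup.normalizer (K : Set G)) → ℂ} (θ : G → ℂ)
    (hθ : IsClassFunction G θ) :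
    classInner (psi K ξ₀) θ =
      classInner (alpha0 (K.subgroupOf (Subgroup.normalizer (K : Set G))) ξ₀)
        (fun n : ↥(Subgroup.normalizer (K : Set G)) => θ (n : G)) :=
  frobenius_reciprocity _ _ θ hθ

include hC in
theorem classInner_psi_one {ξ₀ : ↥(Subgroup.normalizer (K : Set G)) → ℂ}
    (hξ₀ : ξ₀ ∈ relSet (K.subgroupOf (Subgroup.normalizer (K : Set G)))) :
    classInner (psi K ξ₀) (fun _ => (1 : ℂ)) = 1 := by
  rw [classInner_psi K _ (isClassFunction_of_isCharacter isCharacter_one)]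
  exact classInner_alpha0_one _ (centralizer_le_subgroupOf K hC) hξ₀

include hC in
theorem classInner_psi_const {ξ₀ : ↥(Subgroup.normalizer (K : Set G)) → ℂ}
    (hξ₀ : ξ₀ ∈ relSet (K.subgroupOf (Subgroup.normalizer (K : Set G))))
    (h1 : ξ₀ 1 = ((K.subgroupOf (Subgroup.normalizer (K : Set G))).index : ℂ))
    (θ : G → ℂ) (hθ : IsClassFunction G θ) (c : ℂ) (hc : ∀ k ∈ K, k ≠ 1 → θ k = c) :
    classInner (psi K ξ₀) θ = conj c := by
  rw [classInner_psi K _ hθ]
  apply classInner_alpha0_const _ (centralizer_le_subgroupOf K hC) hξ₀ h1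
  intro k hk hk1
  exact hc _ (Subgroup.mem_subgroupOf.mp hk) (fun h => hk1 (Subtype.ext h))

include hTI hC in
theorem classInner_psi_self {ξ₀ : ↥(Subgroup.normalizer (K : Set G)) → ℂ}
    (hξ₀ : ξ₀ ∈ relSet (K.subgroupOf (Subgroup.normalizer (K : Set G))))
    (h1 : ξ₀ 1 = ((K.subgroupOf (Subgroup.normalizer (K : Set G))).index : ℂ)) :
    classInner (psi K ξ₀) (psi K ξ₀) =
      ((K.subgroupOf (Subgroup.normalizer (K : Set G))).index : ℂ) + 1 := by
  have hCn := centralizer_le_subgroupOf K hC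
  unfold psi
  rw [classInner_indFun_TI (K : Set G) hTI _ _ (isClassFunction_alpha0 _ hξ₀.1)
    (fun x hx => alpha0_apply_of_not_mem _ hCn hξ₀ (fun h => hx (Subgroup.mem_subgroupOf.mp h)))
    (fun x hx => alpha0_apply_of_not_mem _ hCn hξ₀ (fun h => hx (Subgroup.mem_subgroupOf.mp h)))
    (alpha0_one _ h1)]
  exact classInner_alpha0_self _ hCn hξ₀

include hC in
/-- `ψ` vanishes at the elements not conjugate to a nonidentity element of the subgroup. -/
theorem psi_eq_zero_of_forall {ξ₀ : ↥(Subgroup.normalizer (K : Set G)) → ℂ}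
    (hξ₀ : ξ₀ ∈ relSet (K.subgroupOf (Subgroup.normalizer (K : Set G))))
    (h1 : ξ₀ 1 = ((K.subgroupOf (Subgroup.normalizer (K : Set G))).index : ℂ)) (g : G)
    (hg : ∀ x : G, x * g * x⁻¹ ∈ K → g = 1) : psi K ξ₀ g = 0 := by
  have hCn := centralizer_le_subgroupOf K hC
  exact indFun_eq_zero_of_forall K _ _
    (fun x hx => alpha0_apply_of_not_mem _ hCn hξ₀ (fun h => hx (Subgroup.mem_subgroupOf.mp h)))
    (alpha0_one _ h1) g hg

end main

end Cfsg.Agent.Lib.helper3.FP
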