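import Mathlib
import Cfsg.Prelude.Def_OddOrderChar
import Cfsg.Agent.Lib.helper3.FP4
import Cfsg.Agent.Lib.helper3.Dade3

set_option autoImplicit false
set_option linter.style.haveILetI false
set_option linter.unusedSectionVars false

/-!
# A trivial-intersection subgroup with Frobenius normalizer and a coherent isometry:
the inner products with the test character
-/

namespace Cfsg.Agent.Lib.helper3.FP

open Cfsg Module Cfsg.Agent.Lib.helper3.CharBasic Cfsg.Agent.Lib.helper3.IndFun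
open Cfsg.Agent.Lib.helper3.Irr Cfsg.Agent.Lib.helper3.Coh Cfsg.Agent.Lib.helper3.Tifn
open Cfsg.Agent.Lib.helper3.IndFunTI
open scoped ComplexConjugate

section nlevel

variable {N : Type*} [Group N] [Fintype N] (K : Subgroup N)

theorem conjFun_alpha0 (ξ₀ : N → ℂ) :
    Cfsg.conjFun (alpha0 K ξ₀) = alpha0 K (Cfsg.conjFun ξ₀) := by
  unfold alpha0
  have h1 : Cfsg.conjFun (indFun K (fun _ => (1 : ℂ)) - ξ₀) =
      Cfsg.conjFun (indFun K (fun _ => (1 : ℂ))) - Cfsg.conjFun ξ₀ := by
    funext n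
    simp [Cfsg.conjFun]
  rw [h1, conjFun_indFun]
  have h2 : Cfsg.conjFun (fun _ : K => (1 : ℂ)) = fun _ => 1 := by
    funext k
    simp [Cfsg.conjFun]
  rw [h2]

theorem alpha0_sub_alpha0 (ξ₀ ξ₁ : N → ℂ) : alpha0 K ξ₀ - alpha0 K ξ₁ = ξ₁ - ξ₀ := by
  unfold alpha0
  funext n
  simp only [Pi.sub_apply]
  ring

end nlevel

section main

variable {G : Type*} [Group G] [Fintype G] (K : Subgroup G)
  (hTI : ∀ g : G, g ∉ Subgroup.normalizer (K : Set G) → ∀ k ∈ K, g * k * g⁻¹ ∈ K → k = 1)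
  (hC : ∀ k ∈ K, k ≠ 1 → Subgroup.centralizer ({k} : Set G) ≤ K)
  [Fintype ↥(Subgroup.normalizer (K : Set G))]
  (star : (↥(Subgroup.normalizer (K : Set G)) → ℂ) → (G → ℂ))
  (hstar : IsLinearIsometryOn
    (zspan (relSet (K.subgroupOf (Subgroup.normalizer (K : Set G))))) star)
  (hext : ∀ α ∈ zspanOn (relSet (K.subgroupOf (Subgroup.normalizer (K : Set G))))
    ({1}ᶜ : Set ↥(Subgroup.normalizer (K : Set G))),
    star α = indFun (Subgroup.normalizer (K : Set G)) α)
  (hodd : Odd (Nat.card G))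

theorem conjFun_psi (ξ₀ : ↥(Subgroup.normalizer (K : Set G)) → ℂ) :
    Cfsg.conjFun (psi K ξ₀) = psi K (Cfsg.conjFun ξ₀) := by
  unfold psi
  rw [conjFun_indFun, conjFun_alpha0]

include hstar hext in
theorem psi_sub_psi_conj {ξ₀ : ↥(Subgroup.normalizer (K : Set G)) → ℂ}
    (hξ₀ : ξ₀ ∈ relSet (K.subgroupOf (Subgroup.normalizer (K : Set G)))) :
    psi K ξ₀ - psi K (Cfsg.conjFun ξ₀) = star (Cfsg.conjFun ξ₀) - star ξ₀ := by
  unfold psi
  rw [← Cfsg.Agent.Lib.helper3.BrauerInd.indFun_sub', alpha0_sub_alpha0]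
  have h := star_sub_conj K star hstar hext (conjFun_mem_relSet _ hξ₀)
  rw [conjFun_conjFun] at h
  exact h.symm

include hstar hext in
/-- The inner products of `ψ` with an irreducible character and with its conjugate. -/
theorem classInner_psi_sub {ξ₀ : ↥(Subgroup.normalizer (K : Set G)) → ℂ}
    (hξ₀ : ξ₀ ∈ relSet (K.subgroupOf (Subgroup.normalizer (K : Set G))))
    {θ : G → ℂ} (hθ : IsIrrCharacter G θ) :
    classInner (psi K ξ₀) θ - classInner (psi K ξ₀) (Cfsg.conjFun θ) =
      classInner (star (Cfsg.conjFun ξ₀)) θ - classInner (star ξ₀) θ := by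
  have h1 : classInner (psi K ξ₀) (Cfsg.conjFun θ) =
      classInner (psi K (Cfsg.conjFun ξ₀)) θ := by
    have h2 : classInner (psi K ξ₀) (Cfsg.conjFun θ) =
        conj (classInner (Cfsg.conjFun (psi K ξ₀)) θ) := by
      rw [← classInner_conjFun, conjFun_conjFun]
    rw [h2, conjFun_psi]
    obtain ⟨z, hz⟩ := exists_int_classInner
      (isGeneralizedCharacter_psi K (conjFun_mem_relSet _ hξ₀)) (GenChar.of_isIrrCharacter hθ)
    rw [hz, map_intCast]
  rw [h1, ← classInner_sub_left, psi_sub_psi_conj K star hstar hext hξ₀, classInner_sub_left]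

include hC hstar hext in
/-- Proportionality of the inner products with a class function vanishing on the nonidentity
elements of the subgroup. -/
theorem classInner_star_of_vanish {ξ ξ₀ : ↥(Subgroup.normalizer (K : Set G)) → ℂ}
    (hξ : ξ ∈ relSet (K.subgroupOf (Subgroup.normalizer (K : Set G))))
    (hξ₀ : ξ₀ ∈ relSet (K.subgroupOf (Subgroup.normalizer (K : Set G))))
    (h1 : ξ₀ 1 = ((K.subgroupOf (Subgroup.normalizer (K : Set G))).index : ℂ)) (m : ℕ)
    (hm : ξ 1 = ((K.subgroupOf (Subgroup.normalizer (K : Set G))).index : ℂ) * (m : ℂ))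
    (Φ : G → ℂ) (hΦ : IsClassFunction G Φ) (hvan : ∀ k ∈ K, k ≠ 1 → Φ k = 0) :
    classInner (star ξ) Φ = (m : ℂ) * classInner (star ξ₀) Φ := by
  have hdeg : ((1 : ℤ) : ℂ) * ξ 1 + ((-(m : ℤ) : ℤ) : ℂ) * ξ₀ 1 = 0 := by
    rw [hm, h1]
    push_cast
    ring
  have hmem := comb_mem_zspanOn K hξ hξ₀ 1 (-(m : ℤ)) hdeg
  have h2 := hext _ hmem
  rw [star_comb K star hstar hξ hξ₀] at h2
  have h3 : classInner (indFun (Subgroup.normalizer (K : Set G))
      ((1 : ℤ) • ξ + (-(m : ℤ)) • ξ₀)) Φ = 0 := by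
    rw [frobenius_reciprocity _ _ Φ hΦ, classInner_apply]
    have h0 : ∀ n : ↥(Subgroup.normalizer (K : Set G)),
        ((1 : ℤ) • ξ + (-(m : ℤ)) • ξ₀) n * conj (Φ (n : G)) = 0 := by
      intro n
      by_cases hn : (n : G) ∈ K
      · by_cases hn1 : n = 1
        · rw [hn1, hmem.2 1 (fun h => h rfl), zero_mul]
        · rw [hvan _ hn (fun h => hn1 (Subtype.ext h)), map_zero, mul_zero]
      · rw [comb_apply_eq_zero K hC hξ hξ₀ _ _ n hn, zero_mul]
    rw [Finset.sum_congr rfl (fun n _ => h0 n), Finset.sum_const_zero, mul_zero]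
  rw [← h2, classInner_add_left, classInner_zsmul_left, classInner_zsmul_left] at h3
  push_cast at h3
  linear_combination h3

include hC hstar hext in
/-- An irreducible character that is not exceptional is constant on the nonidentity elements of
the subgroup, with value its inner product with `ψ`. -/
theorem const_of_not_exceptional
    {ξ₀ : ↥(Subgroup.normalizer (K : Set G)) → ℂ}
    (hξ₀ : ξ₀ ∈ relSet (K.subgroupOf (Subgroup.normalizer (K : Set G))))
    (h1 : ξ₀ 1 = ((K.subgroupOf (Subgroup.normalizer (K : Set G))).index : ℂ))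
    (htwo : ∃ χ ∈ relSet (K.subgroupOf (Subgroup.normalizer (K : Set G))),
      ∃ ξ ∈ relSet (K.subgroupOf (Subgroup.normalizer (K : Set G))), χ ≠ ξ)
    {θ : G → ℂ} (hθ : IsIrrCharacter G θ)
    (hnot : ¬ ∃ χ ∈ relSet (K.subgroupOf (Subgroup.normalizer (K : Set G))),
      θ = star χ ∨ θ = -star χ) :
    ∀ k ∈ K, k ≠ 1 → θ k = classInner (psi K ξ₀) θ := by
  have hiff := exceptional_iff K hC star hstar hext htwo θ hθ
  have hconst : ∀ a ∈ K, ∀ b ∈ K, a ≠ 1 → b ≠ 1 → θ a = θ b := by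
    intro a ha b hb ha1 hb1
    by_contra hne
    exact hnot (hiff.mpr ⟨a, ha, b, hb, ha1, hb1, hne⟩)
  have hξ₀' := hξ₀
  obtain ⟨-, k₀, hk₀, hk₀ne⟩ := hξ₀
  have hk₀K : (k₀ : G) ∈ K := Subgroup.mem_subgroupOf.mp hk₀
  have hk₀1 : (k₀ : G) ≠ 1 := by
    intro h
    apply hk₀ne
    have : k₀ = 1 := Subtype.ext h
    rw [this]
  have hcf := isClassFunction_of_isCharacter (isCharacter_of_isIrrCharacter hθ)
  have hpsi := classInner_psi_const K hC hξ₀' h1 θ hcf (θ (k₀ : G))
    (fun k hk hk1 => hconst k hk _ hk₀K hk1 hk₀1)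
  obtain ⟨z, hz⟩ := exists_int_classInner (isGeneralizedCharacter_psi K hξ₀')
    (GenChar.of_isIrrCharacter hθ)
  intro k hk hk1
  rw [hconst k hk _ hk₀K hk1 hk₀1, hz]
  rw [hz] at hpsi
  have := congrArg conj hpsi
  rw [Complex.conj_conj, map_intCast] at this
  exact this.symm

include hC hstar hext hodd in
/-- An exceptional character is real valued at the elements not conjugate to a nonidentity element
of the subgroup. -/
theorem exceptional_real {ε : ℂ} (hε : ε = 1 ∨ ε = -1)
    (hirr : ∀ χ ∈ relSet (K.subgroupOf (Subgroup.normalizer (K : Set G))),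
      IsIrrCharacter G (ε • star χ))
    (hinj : ∀ χ ∈ relSet (K.subgroupOf (Subgroup.normalizer (K : Set G))),
      ∀ ψ ∈ relSet (K.subgroupOf (Subgroup.normalizer (K : Set G))), star χ = star ψ → χ = ψ)
    {ξ : ↥(Subgroup.normalizer (K : Set G)) → ℂ}
    (hξ : ξ ∈ relSet (K.subgroupOf (Subgroup.normalizer (K : Set G)))) (g : G)
    (hg : ∀ x : G, x * g * x⁻¹ ∈ K → g = 1) :
    conj ((ε • star ξ) g) = (ε • star ξ) g := by
  have hCn := centralizer_le_subgroupOf K hC
  have hεc : conj ε = ε := by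
    rcases hε with h | h <;> rw [h] <;> simp
  have h1 := conj_star K star hstar hext hodd hε hirr hinj hξ
  have h2 := star_sub_conj K star hstar hext hξ
  have h3 : indFun (Subgroup.normalizer (K : Set G)) (ξ - Cfsg.conjFun ξ) g = 0 := by
    apply indFun_eq_zero_of_forall K _ _ _ _ g hg
    · intro n hn
      have hn' : n ∉ K.subgroupOf (Subgroup.normalizer (K : Set G)) :=
        fun h => hn (Subgroup.mem_subgroupOf.mp h)
      rw [Pi.sub_apply, apply_eq_zero_of_not_mem _ hCn hξ hn',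
        apply_eq_zero_of_not_mem _ hCn (conjFun_mem_relSet _ hξ) hn', sub_self]
    · rw [Pi.sub_apply, conjFun_apply_one_of_isCharacter (isCharacter_of_isIrrCharacter hξ.1),
        sub_self]
  have h4 := congrFun h2 g
  rw [h3, Pi.sub_apply, ← h1] at h4
  have h5 : conj (star ξ g) = star ξ g := by
    have : Cfsg.conjFun (star ξ) g = conj (star ξ g) := rfl
    rw [← this]
    exact (sub_eq_zero.mp h4).symm
  show conj (ε * star ξ g) = ε * star ξ g
  rw [map_mul, hεc, h5]

end main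

end Cfsg.Agent.Lib.helper3.FP
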