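import Mathlib
import Cfsg.Prelude.Def_OddOrderChar
import Cfsg.Agent.Lib.helper3.FP5

set_option autoImplicit false
set_option linter.style.haveILetI false
set_option linter.unusedSectionVars false

/-!
# A trivial-intersection subgroup with Frobenius normalizer and a coherent isometry:
numerical facts and the local norm bound
-/

namespace Cfsg.Agent.Lib.helper3.FP

open Cfsg Module Cfsg.Agent.Lib.helper3.CharBasic Cfsg.Agent.Lib.helper3.IndFun
open Cfsg.Agent.Lib.helper3.Irr Cfsg.Agent.Lib.helper3.Coh Cfsg.Agent.Lib.helper3.Tifn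
open Cfsg.Agent.Lib.helper3.IndFunTI
open scoped ComplexConjugate

section generic

variable {G : Type*} [Group G] [Fintype G]

/-- An irreducible character is not the negative of an irreducible character. -/
theorem irr_ne_neg_irr {θ φ : G → ℂ} (hθ : IsIrrCharacter G θ) (hφ : IsIrrCharacter G φ) :
    θ ≠ -φ := by
  intro h
  obtain ⟨n, hn, hn1⟩ := exists_pos_nat_apply_one hθ
  obtain ⟨n', hn', hn1'⟩ := exists_pos_nat_apply_one hφ
  have h1 := congrFun h 1
  rw [Pi.neg_apply, hn1, hn1'] at h1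
  have h2 : ((n + n' : ℕ) : ℂ) = 0 := by
    push_cast
    rw [h1]
    ring
  have h3 : n + n' = 0 := by exact_mod_cast h2
  omega

/-- Complex conjugation on the irreducible characters. -/
noncomputable def cIrr (θ : IrrCharacter G) : IrrCharacter G :=
  ⟨Cfsg.conjFun (θ : G → ℂ), isIrrCharacter_conj θ.2⟩

theorem cIrr_cIrr (θ : IrrCharacter G) : cIrr (cIrr θ) = θ :=
  Subtype.ext (conjFun_conjFun _)

theorem cIrr_coe (θ : IrrCharacter G) : (cIrr θ : G → ℂ) = Cfsg.conjFun (θ : G → ℂ) := rfl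

/-- The principal character. -/
noncomputable def oneI : IrrCharacter G := ⟨fun _ => 1, isIrrCharacter_one⟩

theorem oneI_coe : ((oneI : IrrCharacter G) : G → ℂ) = fun _ => 1 := rfl

theorem cIrr_oneI : cIrr (oneI : IrrCharacter G) = oneI := by
  apply Subtype.ext
  funext g
  show conj (1 : ℂ) = 1
  exact map_one _

theorem cIrr_eq_self_iff (hodd : Odd (Nat.card G)) (θ : IrrCharacter G) :
    cIrr θ = θ ↔ θ = oneI := by
  constructor
  · intro h
    apply Subtype.ext
    apply eq_one_of_real_of_odd hodd θ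
    intro g
    have h2 : conj ((θ : G → ℂ) g) = (θ : G → ℂ) g := congrFun (congrArg Subtype.val h) g
    exact Complex.conj_eq_iff_im.mp h2
  · intro h
    rw [h, cIrr_oneI]

end generic

section main

variable {G : Type*} [Group G] [Fintype G] (K : Subgroup G)
  (hTI : ∀ g : G, g ∉ Subgroup.normalizer (K : Set G) → ∀ k ∈ K, g * k * g⁻¹ ∈ K → k = 1)
  (hC : ∀ k ∈ K, k ≠ 1 → Subgroup.centralizer ({k} : Set G) ≤ K)
  [Fintype ↥(Subgroup.normalizer (K : Set G))]
  (star : (↥(Subgroup.normalizer (K : Set G)) → ℂ) → (G → ℂ))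
  (hstar : IsLinearIsometryOn
    (zspan (relSet (K.subgroupOf (Subgroup.normalizer (K : Set G))))) star)
  (hext : ∀ α ∈ zspanOn (relSet (K.subgroupOf (Subgroup.normalizer (K : Set G))))
    ({1}ᶜ : Set ↥(Subgroup.normalizer (K : Set G))),
    star α = indFun (Subgroup.normalizer (K : Set G)) α)
  (hodd : Odd (Nat.card G))

theorem card_subgroupOf_normalizer :
    Nat.card ↥(K.subgroupOf (Subgroup.normalizer (K : Set G))) = Nat.card K :=
  Nat.card_congr (Subgroup.subgroupOfEquivOfLe Subgroup.le_normalizer).toEquiv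

include hC hodd in
/-- The numerical facts: `e ≥ 2`, `|K| ≥ 2e + 1`, `|N| = e |K|`, `e t = |K| - 1`. -/
theorem numerics (hlt : Subgroup.normalizer (K : Set G) ≠ K)
    {ξ₀ : ↥(Subgroup.normalizer (K : Set G)) → ℂ}
    (hξ₀ : ξ₀ ∈ relSet (K.subgroupOf (Subgroup.normalizer (K : Set G)))) :
    2 ≤ (K.subgroupOf (Subgroup.normalizer (K : Set G))).index ∧
    2 * (K.subgroupOf (Subgroup.normalizer (K : Set G))).index + 1 ≤ Nat.card K ∧
    Nat.card ↥(Subgroup.normalizer (K : Set G)) =
      (K.subgroupOf (Subgroup.normalizer (K : Set G))).index * Nat.card K ∧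
    (K.subgroupOf (Subgroup.normalizer (K : Set G))).index *
      ∑ χ ∈ relFin (K.subgroupOf (Subgroup.normalizer (K : Set G))),
        (mult (K.subgroupOf (Subgroup.normalizer (K : Set G)))
          (χ : ↥(Subgroup.normalizer (K : Set G)) → ℂ)) ^ 2 = Nat.card K - 1 := by
  have hCn := centralizer_le_subgroupOf K hC
  have hcard := card_subgroupOf_normalizer K
  have hmul := (K.subgroupOf (Subgroup.normalizer (K : Set G))).card_mul_index
  rw [hcard] at hmul
  have hsum := index_mul_sum_mult_sq (K.subgroupOf (Subgroup.normalizer (K : Set G))) hCn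
  rw [hcard] at hsum
  obtain ⟨e, he⟩ : ∃ e : ℕ, e = (K.subgroupOf (Subgroup.normalizer (K : Set G))).index :=
    ⟨_, rfl⟩
  obtain ⟨t, ht⟩ : ∃ t : ℕ, t = ∑ χ ∈ relFin (K.subgroupOf (Subgroup.normalizer (K : Set G))),
        (mult (K.subgroupOf (Subgroup.normalizer (K : Set G)))
          (χ : ↥(Subgroup.normalizer (K : Set G)) → ℂ)) ^ 2 := ⟨_, rfl⟩
  rw [← he] at hmul hsum ⊢
  rw [← ht] at hsum ⊢
  have hoddN := odd_card_normalizer K hodd
  have hodde : Odd e := by
    apply hoddN.of_dvd_nat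
    exact ⟨_, by rw [← hmul, mul_comm]⟩
  have hoddK : Odd (Nat.card K) := hoddN.of_dvd_nat ⟨_, hmul.symm⟩
  have he1 : e ≠ 1 := by
    intro h
    rw [he, Subgroup.index_eq_one, Subgroup.subgroupOf_eq_top] at h
    exact hlt (le_antisymm h Subgroup.le_normalizer)
  have he0 : e ≠ 0 := by
    rw [he]
    exact Subgroup.index_ne_zero_of_finite
  have hK1 : 1 < Nat.card K := by
    rw [Subgroup.one_lt_card_iff_ne_bot]
    intro hbot
    obtain ⟨-, k₀, hk₀, hk₀ne⟩ := hξ₀
    apply hk₀ne
    have h1 : (k₀ : G) ∈ K := Subgroup.mem_subgroupOf.mp hk₀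
    have h2 : (k₀ : G) ∈ (⊥ : Subgroup G) := hbot ▸ h1
    rw [Subgroup.mem_bot] at h2
    have : k₀ = 1 := Subtype.ext h2
    rw [this]
  have hev : Even (e * t) := by
    rw [hsum]
    exact Nat.Odd.sub_odd hoddK odd_one
  have hevt : Even t := by
    rcases Nat.even_mul.mp hev with h | h
    · exact absurd h (Nat.not_even_iff_odd.mpr hodde)
    · exact h
  have ht0 : t ≠ 0 := by
    intro h
    rw [h, mul_zero] at hsum
    omega
  have ht2 : 2 ≤ t := by
    obtain ⟨r, hr⟩ := hevt
    omega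
  have h2e : 2 * e ≤ e * t := by
    rw [mul_comm 2 e]
    exact Nat.mul_le_mul_left e ht2
  refine ⟨by omega, by omega, by rw [← hmul, mul_comm], hsum⟩

open Classical in
include hstar hext hC in
/-- The local norm bound for the exceptional character of minimal degree. -/
theorem row_local {ε : ℂ} (hε : ε = 1 ∨ ε = -1)
    {ξ₀ : ↥(Subgroup.normalizer (K : Set G)) → ℂ}
    (hξ₀ : ξ₀ ∈ relSet (K.subgroupOf (Subgroup.normalizer (K : Set G))))
    (h1 : ξ₀ 1 = ((K.subgroupOf (Subgroup.normalizer (K : Set G))).index : ℂ))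
    (hge : 2 * (K.subgroupOf (Subgroup.normalizer (K : Set G))).index + 1 ≤ Nat.card K) :
    (Nat.card ↥(Subgroup.normalizer (K : Set G)) : ℝ) -
        ((K.subgroupOf (Subgroup.normalizer (K : Set G))).index : ℝ) ^ 2 ≤
      ∑ g : G, if g ∈ K ∧ g ≠ 1 then Complex.normSq ((ε • star ξ₀) g) else 0 := by
  have hCn := centralizer_le_subgroupOf K hC
  obtain ⟨M, hM⟩ := exists_int_const K star hstar hext hξ₀
  have hεn : Complex.normSq ε = 1 := by
    rcases hε with h | h <;> rw [h] <;> simp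
  -- step 1: restrict the sum to the normalizer
  have hstep1 : (∑ g : G, if g ∈ K ∧ g ≠ 1 then Complex.normSq ((ε • star ξ₀) g) else 0) =
      ∑ n : ↥(Subgroup.normalizer (K : Set G)),
        if (n : G) ∈ K ∧ (n : G) ≠ 1 then Complex.normSq ((ε • star ξ₀) (n : G)) else 0 := by
    apply Cfsg.Agent.Lib.helper3.Dade.sum_eq_sum_subgroup
      (fun g : G => if g ∈ K ∧ g ≠ 1 then Complex.normSq ((ε • star ξ₀) g) else 0)
    intro g hg
    rw [if_neg]
    intro h
    exact hg (Subgroup.le_normalizer h.1)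
  -- step 2: the values
  have hstep2 : ∀ n : ↥(Subgroup.normalizer (K : Set G)),
      (if (n : G) ∈ K ∧ (n : G) ≠ 1 then Complex.normSq ((ε • star ξ₀) (n : G)) else 0) =
        if n ∈ K.subgroupOf (Subgroup.normalizer (K : Set G)) ∧ n ≠ 1 then
          Complex.normSq (ξ₀ n + (M : ℂ)) else 0 := by
    intro n
    by_cases hn : (n : G) ∈ K ∧ (n : G) ≠ 1
    · have hn1 : n ≠ 1 := fun h => hn.2 (by rw [h]; rfl)
      rw [if_pos hn, if_pos ⟨Subgroup.mem_subgroupOf.mpr hn.1, hn1⟩]
      have hv : (ε • star ξ₀) (n : G) = ε * (ξ₀ n + (M : ℂ)) := by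
        rw [← hM n hn.1 hn1]
        show ε * star ξ₀ (n : G) = _
        ring
      rw [hv, Complex.normSq_mul, hεn, one_mul]
    · rw [if_neg hn, if_neg]
      rintro ⟨h2, h3⟩
      exact hn ⟨Subgroup.mem_subgroupOf.mp h2, fun h => h3 (Subtype.ext h)⟩
  rw [hstep1, Finset.sum_congr rfl (fun n _ => hstep2 n)]
  -- step 3: the complex identity
  have hshift := sum_mul_conj_shift (K.subgroupOf (Subgroup.normalizer (K : Set G))) hCn hξ₀ h1
    (M : ℂ) (map_intCast _ M)
  rw [card_subgroupOf_normalizer] at hshift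
  have hcast : ((∑ n : ↥(Subgroup.normalizer (K : Set G)),
      (if n ∈ K.subgroupOf (Subgroup.normalizer (K : Set G)) ∧ n ≠ 1 then
          Complex.normSq (ξ₀ n + (M : ℂ)) else 0) : ℝ) : ℂ) =
      (((Nat.card ↥(Subgroup.normalizer (K : Set G)) : ℝ) -
        ((K.subgroupOf (Subgroup.normalizer (K : Set G))).index : ℝ) ^ 2 +
        (M : ℝ) ^ 2 * ((Nat.card K : ℝ) - 1) -
        2 * ((K.subgroupOf (Subgroup.normalizer (K : Set G))).index : ℝ) * (M : ℝ) : ℝ) : ℂ) := by
    push_cast
    rw [← hshift]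
    apply Finset.sum_congr rfl
    intro n _
    split_ifs
    · rw [Complex.mul_conj]
    · rfl
  have hreal := Complex.ofReal_injective hcast
  rw [hreal]
  have hM2 : (M : ℝ) ≤ (M : ℝ) ^ 2 := by exact_mod_cast Int.le_self_sq M
  have hge' : 2 * ((K.subgroupOf (Subgroup.normalizer (K : Set G))).index : ℝ) + 1 ≤
      (Nat.card K : ℝ) := by exact_mod_cast hge
  have he0 : (0 : ℝ) ≤ ((K.subgroupOf (Subgroup.normalizer (K : Set G))).index : ℝ) :=
    Nat.cast_nonneg _
  nlinarith [mul_nonneg he0 (sub_nonneg.mpr hM2), mul_nonneg (sq_nonneg (M : ℝ))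
    (sub_nonneg.mpr hge')]

end main

end Cfsg.Agent.Lib.helper3.FP
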