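import Mathlib
import Cfsg.Prelude.Def_OddOrderChar
import Cfsg.Agent.Lib.helper3.FP6

set_option autoImplicit false
set_option linter.style.haveILetI false
set_option linter.unusedSectionVars false

/-!
# The exceptional data attached to a trivial-intersection subgroup with Frobenius normalizer and a
coherent isometry
-/

namespace Cfsg.Agent.Lib.helper3.FP

open Cfsg Module Cfsg.Agent.Lib.helper3.CharBasic Cfsg.Agent.Lib.helper3.IndFun
open Cfsg.Agent.Lib.helper3.Irr Cfsg.Agent.Lib.helper3.Coh Cfsg.Agent.Lib.helper3.Tifn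
open Cfsg.Agent.Lib.helper3.IndFunTI
open scoped ComplexConjugate

open Classical in
/-- The data extracted from a coherent isometry, expressed in the big group only. -/
structure ExcData {G : Type*} [Group G] [Fintype G] (K : Subgroup G) where
  e : ℕ
  t : ℕ
  ε : ℤ
  ψ : G → ℂ
  X : Finset (IrrCharacter G)
  χ : IrrCharacter G
  m : IrrCharacter G → ℕ
  two_le_e : 2 ≤ e
  e_mul_t : e * t = Nat.card K - 1
  card_ge : 2 * e + 1 ≤ Nat.card K
  card_normalizer : Nat.card ↥(Subgroup.normalizer (K : Set G)) = e * Nat.card K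
  eps : ε = 1 ∨ ε = -1
  psi_gen : IsGeneralizedCharacter G ψ
  psi_one : classInner ψ (fun _ => (1 : ℂ)) = 1
  psi_self : classInner ψ ψ = (e : ℂ) + 1
  psi_supp : ∀ g : G, (∀ x : G, x * g * x⁻¹ ∈ K → g = 1) → ψ g = 0
  chi_mem : χ ∈ X
  cchi_mem : cIrr χ ∈ X
  one_not_mem : oneI ∉ X
  const : ∀ θ : IrrCharacter G, θ ∉ X → ∀ k ∈ K, k ≠ 1 →
    (θ : G → ℂ) k = classInner ψ (θ : G → ℂ)
  diff : ∀ θ : IrrCharacter G, classInner ψ (θ : G → ℂ) - classInner ψ (cIrr θ : G → ℂ) =
    (ε : ℂ) * ((if cIrr χ = θ then 1 else 0) - (if χ = θ then 1 else 0))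
  real : ∀ θ ∈ X, ∀ g : G, (∀ x : G, x * g * x⁻¹ ∈ K → g = 1) →
    conj ((θ : G → ℂ) g) = (θ : G → ℂ) g
  prop : ∀ θ ∈ X, ∀ Φ : G → ℂ, IsClassFunction G Φ → (∀ k ∈ K, k ≠ 1 → Φ k = 0) →
    classInner (θ : G → ℂ) Φ = (m θ : ℂ) * classInner (χ : G → ℂ) Φ
  sum_m : ∑ θ ∈ X, (m θ) ^ 2 = t
  row : ((e * Nat.card K : ℕ) : ℝ) - (e : ℝ) ^ 2 ≤
    ∑ g : G, if g ∈ K ∧ g ≠ 1 then Complex.normSq ((χ : G → ℂ) g) else 0

section main

variable {G : Type*} [Group G] [Fintype G] (K : Subgroup G)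
  (hTI : ∀ g : G, g ∉ Subgroup.normalizer (K : Set G) → ∀ k ∈ K, g * k * g⁻¹ ∈ K → k = 1)
  (hC : ∀ k ∈ K, k ≠ 1 → Subgroup.centralizer ({k} : Set G) ≤ K)
  [Fintype ↥(Subgroup.normalizer (K : Set G))]
  (star : (↥(Subgroup.normalizer (K : Set G)) → ℂ) → (G → ℂ))
  (hstar : IsLinearIsometryOn
    (zspan (relSet (K.subgroupOf (Subgroup.normalizer (K : Set G))))) star)
  (hext : ∀ α ∈ zspanOn (relSet (K.subgroupOf (Subgroup.normalizer (K : Set G))))
    ({1}ᶜ : Set ↥(Subgroup.normalizer (K : Set G))),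
    star α = indFun (Subgroup.normalizer (K : Set G)) α)
  (hodd : Odd (Nat.card G))

open Classical in
include hTI hC hstar hext hodd in
/-- The exceptional data exist. -/
theorem nonempty_excData (hlt : Subgroup.normalizer (K : Set G) ≠ K)
    {ξ₀ : ↥(Subgroup.normalizer (K : Set G)) → ℂ}
    (hξ₀ : ξ₀ ∈ relSet (K.subgroupOf (Subgroup.normalizer (K : Set G))))
    (h1 : ξ₀ 1 = ((K.subgroupOf (Subgroup.normalizer (K : Set G))).index : ℂ)) :
    Nonempty (ExcData K) := by
  have hCn := centralizer_le_subgroupOf K hC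
  obtain ⟨ε, hε, hirr, hinj⟩ := exists_sign K star hstar hext hodd hξ₀
  obtain ⟨hnum1, hnum2, hnum3, hnum4⟩ := numerics K hC hodd hlt hξ₀
  have hε0 : ε ≠ 0 := by
    rcases hε with h | h <;> rw [h] <;> norm_num
  have hεε : ε * ε = 1 := by
    rcases hε with h | h <;> rw [h] <;> norm_num
  have hεc : conj ε = ε := by
    rcases hε with h | h <;> rw [h] <;> simp
  have htwo := exists_two K hodd hξ₀
  -- the map to the irreducible characters of the big group
  obtain ⟨f, hf⟩ : ∃ f : IrrCharacter ↥(Subgroup.normalizer (K : Set G)) → IrrCharacter G,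
      ∀ ξ : IrrCharacter ↥(Subgroup.normalizer (K : Set G)),
        (ξ : ↥(Subgroup.normalizer (K : Set G)) → ℂ) ∈
          relSet (K.subgroupOf (Subgroup.normalizer (K : Set G))) →
        (f ξ : G → ℂ) = ε • star (ξ : ↥(Subgroup.normalizer (K : Set G)) → ℂ) := by
    refine ⟨fun ξ => if h : (ξ : ↥(Subgroup.normalizer (K : Set G)) → ℂ) ∈
          relSet (K.subgroupOf (Subgroup.normalizer (K : Set G))) then
        ⟨ε • star (ξ : ↥(Subgroup.normalizer (K : Set G)) → ℂ), hirr _ h⟩ else oneI, ?_⟩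
    intro ξ hξ
    simp only [dif_pos hξ]
  have hfinj : ∀ ξ ∈ relFin (K.subgroupOf (Subgroup.normalizer (K : Set G))),
      ∀ ξ' ∈ relFin (K.subgroupOf (Subgroup.normalizer (K : Set G))), f ξ = f ξ' → ξ = ξ' := by
    intro ξ hξ ξ' hξ' h
    rw [mem_relFin] at hξ hξ'
    have h2 : (f ξ : G → ℂ) = (f ξ' : G → ℂ) := by rw [h]
    rw [hf ξ hξ, hf ξ' hξ'] at h2
    have h3 := congrArg (fun g => ε⁻¹ • g) h2
    simp only [smul_smul, inv_mul_cancel₀ hε0, one_smul] at h3
    exact Subtype.ext (hinj _ hξ _ hξ' h3)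
  -- the multiplicity function
  obtain ⟨m, hm⟩ : ∃ m : IrrCharacter G → ℕ,
      ∀ ξ ∈ relFin (K.subgroupOf (Subgroup.normalizer (K : Set G))),
        m (f ξ) = mult (K.subgroupOf (Subgroup.normalizer (K : Set G)))
          (ξ : ↥(Subgroup.normalizer (K : Set G)) → ℂ) := by
    refine ⟨fun θ => if h : ∃ ξ ∈ relFin (K.subgroupOf (Subgroup.normalizer (K : Set G))),
        f ξ = θ then mult (K.subgroupOf (Subgroup.normalizer (K : Set G)))
          ((Classical.choose h : IrrCharacter ↥(Subgroup.normalizer (K : Set G))) :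
            ↥(Subgroup.normalizer (K : Set G)) → ℂ) else 0, ?_⟩
    intro ξ hξ
    have hex : ∃ ξ' ∈ relFin (K.subgroupOf (Subgroup.normalizer (K : Set G))), f ξ' = f ξ :=
      ⟨ξ, hξ, rfl⟩
    simp only [dif_pos hex]
    have hspec := Classical.choose_spec hex
    rw [hfinj _ hspec.1 _ hξ hspec.2]
  -- the two distinguished characters
  obtain ⟨x₀, hx₀⟩ : ∃ x₀ : IrrCharacter ↥(Subgroup.normalizer (K : Set G)),
      x₀ = ⟨ξ₀, hξ₀.1⟩ := ⟨_, rfl⟩
  have hx₀rel : x₀ ∈ relFin (K.subgroupOf (Subgroup.normalizer (K : Set G))) := by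
    rw [mem_relFin, hx₀]
    exact hξ₀
  have hξ₀c := conjFun_mem_relSet _ hξ₀
  obtain ⟨x₁, hx₁⟩ : ∃ x₁ : IrrCharacter ↥(Subgroup.normalizer (K : Set G)),
      x₁ = ⟨Cfsg.conjFun ξ₀, hξ₀c.1⟩ := ⟨_, rfl⟩
  have hx₁rel : x₁ ∈ relFin (K.subgroupOf (Subgroup.normalizer (K : Set G))) := by
    rw [mem_relFin, hx₁]
    exact hξ₀c
  have hχ : (f x₀ : G → ℂ) = ε • star ξ₀ := by
    rw [hf x₀ ((mem_relFin _).mp hx₀rel), hx₀]
  have hcχ : cIrr (f x₀) = f x₁ := by
    apply Subtype.ext
    rw [cIrr_coe, hχ, hf x₁ ((mem_relFin _).mp hx₁rel), hx₁, conjFun_smul_real hεc,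
      conj_star K star hstar hext hodd hε hirr hinj hξ₀]
  have hstar₀ : star ξ₀ = ε • (f x₀ : G → ℂ) := by
    rw [hχ, smul_smul, hεε, one_smul]
  have hstar₁ : star (Cfsg.conjFun ξ₀) = ε • (cIrr (f x₀) : G → ℂ) := by
    rw [hcχ, hf x₁ ((mem_relFin _).mp hx₁rel), hx₁, smul_smul, hεε, one_smul]
  have hmem : ∀ θ ∈ (relFin (K.subgroupOf (Subgroup.normalizer (K : Set G)))).image f,
      ∃ ξ : ↥(Subgroup.normalizer (K : Set G)) → ℂ,
        ξ ∈ relSet (K.subgroupOf (Subgroup.normalizer (K : Set G))) ∧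
        (θ : G → ℂ) = ε • star ξ ∧
        m θ = mult (K.subgroupOf (Subgroup.normalizer (K : Set G))) ξ := by
    intro θ hθ
    obtain ⟨ξ, hξ, rfl⟩ := Finset.mem_image.mp hθ
    exact ⟨ξ, (mem_relFin _).mp hξ, hf ξ ((mem_relFin _).mp hξ), hm ξ hξ⟩
  refine ⟨{
    e := (K.subgroupOf (Subgroup.normalizer (K : Set G))).index
    t := ∑ χ ∈ relFin (K.subgroupOf (Subgroup.normalizer (K : Set G))),
        (mult (K.subgroupOf (Subgroup.normalizer (K : Set G)))
          (χ : ↥(Subgroup.normalizer (K : Set G)) → ℂ)) ^ 2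
    ε := if ε = 1 then 1 else -1
    ψ := psi K ξ₀
    X := (relFin (K.subgroupOf (Subgroup.normalizer (K : Set G)))).image f
    χ := f x₀
    m := m
    two_le_e := hnum1
    e_mul_t := hnum4
    card_ge := hnum2
    card_normalizer := hnum3
    eps := by
      by_cases h : ε = 1
      · left; rw [if_pos h]
      · right; rw [if_neg h]
    psi_gen := isGeneralizedCharacter_psi K hξ₀
    psi_one := classInner_psi_one K hC hξ₀
    psi_self := classInner_psi_self K hTI hC hξ₀ h1
    psi_supp := psi_eq_zero_of_forall K hC hξ₀ h1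
    chi_mem := Finset.mem_image_of_mem f hx₀rel
    cchi_mem := by
      rw [hcχ]
      exact Finset.mem_image_of_mem f hx₁rel
    one_not_mem := ?_
    const := ?_
    diff := ?_
    real := ?_
    prop := ?_
    sum_m := ?_
    row := ?_ }⟩
  · -- the principal character is not exceptional
    intro hone
    obtain ⟨ξ, hξ, hθ, -⟩ := hmem _ hone
    have hex : ∃ χ ∈ relSet (K.subgroupOf (Subgroup.normalizer (K : Set G))),
        ((oneI : IrrCharacter G) : G → ℂ) = star χ ∨
          ((oneI : IrrCharacter G) : G → ℂ) = -star χ := by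
      refine ⟨ξ, hξ, ?_⟩
      rcases hε with h | h
      · left; rw [hθ, h, one_smul]
      · right; rw [hθ, h, neg_one_smul]
    obtain ⟨a, -, b, -, -, -, hab⟩ :=
      (exceptional_iff K hC star hstar hext htwo _ (oneI : IrrCharacter G).2).mp hex
    exact hab rfl
  · -- non-exceptional characters are constant
    intro θ hθ
    apply const_of_not_exceptional K hC star hstar hext hξ₀ h1 htwo θ.2
    rintro ⟨χ', hχ', hor⟩
    have hirr' := hirr χ' hχ'
    obtain ⟨x', hx'⟩ : ∃ x' : IrrCharacter ↥(Subgroup.normalizer (K : Set G)),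
        x' = ⟨χ', hχ'.1⟩ := ⟨_, rfl⟩
    have hx'rel : x' ∈ relFin (K.subgroupOf (Subgroup.normalizer (K : Set G))) := by
      rw [mem_relFin, hx']
      exact hχ'
    have hfx' : (f x' : G → ℂ) = ε • star χ' := by
      rw [hf x' ((mem_relFin _).mp hx'rel), hx']
    have hgood : (θ : G → ℂ) = ε • star χ' → False := by
      intro h
      apply hθ
      have : θ = f x' := Subtype.ext (h.trans hfx'.symm)
      rw [this]
      exact Finset.mem_image_of_mem f hx'rel
    have hbad : (θ : G → ℂ) = -(ε • star χ') → False := fun h => irr_ne_neg_irr θ.2 hirr' h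
    rcases hε with h | h <;> rcases hor with h' | h'
    · exact hgood (by rw [h', h, one_smul])
    · exact hbad (by rw [h', h, one_smul])
    · exact hbad (by rw [h', h, neg_one_smul, neg_neg])
    · exact hgood (by rw [h', h, neg_one_smul])
  · -- the difference formula
    intro θ
    have hcast : (((if ε = 1 then 1 else -1 : ℤ)) : ℂ) = ε := by
      rcases hε with h | h
      · rw [if_pos h, h]; norm_num
      · rw [if_neg (by rw [h]; norm_num), h]; norm_num
    rw [hcast]
    have hθc : (cIrr θ : G → ℂ) = Cfsg.conjFun (θ : G → ℂ) := rfl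
    rw [hθc, classInner_psi_sub K star hstar hext hξ₀ θ.2, hstar₀, hstar₁,
      classInner_smul_left, classInner_smul_left, irr_classInner_eq (cIrr (f x₀)).2 θ.2,
      irr_classInner_eq (f x₀).2 θ.2]
    have e1 : ((cIrr (f x₀) : IrrCharacter G) : G → ℂ) = (θ : G → ℂ) ↔ cIrr (f x₀) = θ :=
      ⟨fun h => Subtype.ext h, fun h => by rw [h]⟩
    have e2 : ((f x₀ : IrrCharacter G) : G → ℂ) = (θ : G → ℂ) ↔ f x₀ = θ :=
      ⟨fun h => Subtype.ext h, fun h => by rw [h]⟩
    simp only [e1, e2]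
    ring
  · -- exceptional characters are real off the conjugates
    intro θ hθ g hg
    obtain ⟨ξ, hξ, hθe, -⟩ := hmem θ hθ
    rw [hθe]
    exact exceptional_real K hC star hstar hext hodd hε hirr hinj hξ g hg
  · -- proportionality
    intro θ hθ Φ hΦ hvan
    obtain ⟨ξ, hξ, hθe, hmθ⟩ := hmem θ hθ
    rw [hθe, hχ, hmθ, classInner_smul_left, classInner_smul_left,
      classInner_star_of_vanish K hC star hstar hext hξ hξ₀ h1 _
        (mult_spec _ hCn hξ).2 Φ hΦ hvan]
    ring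
  · -- the sum of the squares of the multiplicities
    rw [Finset.sum_image hfinj]
    apply Finset.sum_congr rfl
    intro ξ hξ
    rw [hm ξ hξ]
  · -- the local norm bound
    have hrow := row_local K hC star hstar hext hε hξ₀ h1 hnum2
    rw [hχ]
    rw [hnum3] at hrow
    convert hrow using 2

end main

end Cfsg.Agent.Lib.helper3.FP
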