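import Mathlib
import Cfsg.Prelude.Def_OddOrderChar
import Cfsg.Agent.Lib.helper3.FP7
import Cfsg.Agent.Lib.helper3.FP1

set_option autoImplicit false
set_option linter.style.haveILetI false
set_option linter.unusedSectionVars false

/-!
# Generic lemmas for the global counting argument
-/

namespace Cfsg.Agent.Lib.helper3.FP

open Cfsg Module Cfsg.Agent.Lib.helper3.CharBasic Cfsg.Agent.Lib.helper3.IndFun
open Cfsg.Agent.Lib.helper3.Irr Cfsg.Agent.Lib.helper3.Coh Cfsg.Agent.Lib.helper3.Tifn
open Cfsg.Agent.Lib.helper3.IndFunTI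
open scoped ComplexConjugate

section comb

variable {T : Type*} [Fintype T] [DecidableEq T]

/-- A function invariant under an involution with a single fixed point sums, modulo two, to its
value at the fixed point. -/
theorem sum_invol_zmod2 (c : T → T) (hc : ∀ x, c (c x) = x) (o : T) (ho : ∀ x, c x = x ↔ x = o)
    (F : T → ZMod 2) (hF : ∀ x, F (c x) = F x) : ∑ x, F x = F o := by
  rw [← Finset.add_sum_erase Finset.univ F (Finset.mem_univ o)]
  have h0 : ∑ x ∈ Finset.univ.erase o, F x = 0 := by
    apply Finset.sum_involution (fun x _ => c x)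
    · intro x _
      rw [hF x]
      exact CharTwo.add_self_eq_zero (F x)
    · intro x hx _ h
      exact (Finset.mem_erase.mp hx).1 ((ho x).mp h)
    · intro x hx
      rw [Finset.mem_erase]
      refine ⟨?_, Finset.mem_univ _⟩
      intro h
      apply (Finset.mem_erase.mp hx).1
      have h2 : c (c x) = c o := by rw [h]
      rw [hc, (ho o).mpr rfl] at h2
      exact h2
    · intro x _
      exact hc x
  rw [h0, add_zero]

/-- The parity computation. -/
theorem parity_core (c : T → T) (hc : ∀ x, c (c x) = x) (o : T) (ho : ∀ x, c x = x ↔ x = o)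
    (a b : T → ZMod 2) (p q : T) (hpq : p ≠ q) (hp : p ≠ o) (hq : q ≠ o)
    (ha : ∀ x, a (c x) + (if p = c x then 1 else 0) = a x + (if p = x then 1 else 0))
    (hb : ∀ x, b (c x) + (if q = c x then 1 else 0) = b x + (if q = x then 1 else 0)) :
    ∑ x, a x * b x = a o * b o + a q + b p := by
  obtain ⟨A, hA⟩ : ∃ A : T → ZMod 2, A = fun x => a x + (if p = x then 1 else 0) := ⟨_, rfl⟩
  obtain ⟨B, hB⟩ : ∃ B : T → ZMod 2, B = fun x => b x + (if q = x then 1 else 0) := ⟨_, rfl⟩
  have hAc : ∀ x, A (c x) = A x := by
    intro x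
    rw [hA]
    exact ha x
  have hBc : ∀ x, B (c x) = B x := by
    intro x
    rw [hB]
    exact hb x
  have ha' : ∀ x, a x = A x + (if p = x then 1 else 0) := by
    intro x
    rw [hA]
    simp only
    rw [add_assoc, CharTwo.add_self_eq_zero, add_zero]
  have hb' : ∀ x, b x = B x + (if q = x then 1 else 0) := by
    intro x
    rw [hB]
    simp only
    rw [add_assoc, CharTwo.add_self_eq_zero, add_zero]
  have hexp : ∀ x, a x * b x = A x * B x + (if q = x then A x else 0) +
      (if p = x then B x else 0) + (if p = x then (if q = x then 1 else 0) else 0) := by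
    intro x
    rw [ha' x, hb' x]
    by_cases h1 : p = x <;> by_cases h2 : q = x <;> simp [h1, h2] <;> ring
  rw [Finset.sum_congr rfl (fun x _ => hexp x), Finset.sum_add_distrib, Finset.sum_add_distrib,
    Finset.sum_add_distrib, Finset.sum_ite_eq Finset.univ q A, Finset.sum_ite_eq Finset.univ p B,
    Finset.sum_ite_eq Finset.univ p (fun x => if q = x then (1 : ZMod 2) else 0),
    if_pos (Finset.mem_univ _), if_pos (Finset.mem_univ _), if_pos (Finset.mem_univ _),
    if_neg (fun h => hpq h.symm), add_zero]
  have hsum := sum_invol_zmod2 c hc o ho (fun x => A x * B x) (fun x => by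
    show A (c x) * B (c x) = A x * B x
    rw [hAc, hBc])
  rw [hsum]
  have e1 : A o = a o := by
    rw [hA]
    simp only
    rw [if_neg hp, add_zero]
  have e2 : B o = b o := by
    rw [hB]
    simp only
    rw [if_neg hq, add_zero]
  have e3 : A q = a q := by
    rw [hA]
    simp only
    rw [if_neg hpq, add_zero]
  have e4 : B p = b p := by
    rw [hB]
    simp only
    rw [if_neg (fun h => hpq h.symm), add_zero]
  rw [e1, e2, e3, e4]

end comb

section generic

variable {G : Type*} [Group G] [Fintype G]

/-- Parseval for two class functions. -/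
theorem classInner_eq_sum (u v : G → ℂ) (hu : IsClassFunction G u) (hv : IsClassFunction G v) :
    classInner u v = ∑ θ : IrrCharacter G,
      classInner u (θ : G → ℂ) * conj (classInner v (θ : G → ℂ)) := by
  conv_lhs => rw [classFunction_eq_sum u hu, classFunction_eq_sum v hv]
  rw [classInner_decomposition]

open Classical in
/-- Counting the nonidentity elements of a subgroup. -/
theorem sum_ite_mem_ne_one {M : Type*} [Field M] (H : Subgroup G) (c : M) :
    ∑ g : G, (if g ∈ H ∧ g ≠ 1 then c else 0) = ((Nat.card H : M) - 1) * c := by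
  have hsplit : ∀ g : G, (if g ∈ H ∧ g ≠ 1 then c else 0) =
      (if g ∈ H then c else 0) - (if g = 1 then c else 0) := by
    intro g
    by_cases hg : g ∈ H
    · by_cases hg1 : g = 1
      · rw [if_neg (fun h => h.2 hg1), if_pos hg, if_pos hg1, sub_self]
      · rw [if_pos ⟨hg, hg1⟩, if_pos hg, if_neg hg1, sub_zero]
    · have hg1 : g ≠ 1 := fun h => hg (h ▸ H.one_mem)
      rw [if_neg (fun h => hg h.1), if_neg hg, if_neg hg1, sub_zero]
  rw [Finset.sum_congr rfl (fun g _ => hsplit g), Finset.sum_sub_distrib,
    Finset.sum_ite_eq' Finset.univ (1 : G), if_pos (Finset.mem_univ _)]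
  have h1 : ∑ g : G, (if g ∈ H then c else 0) = (Nat.card H : M) * c := by
    rw [Finset.sum_ite, Finset.sum_const_zero, add_zero, Finset.sum_const, nsmul_eq_mul]
    congr 2
    rw [Nat.card_eq_fintype_card, Fintype.card_subtype]
  rw [h1]
  ring

end generic

end Cfsg.Agent.Lib.helper3.FP
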