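import Mathlib
import Cfsg.Prelude.Def_OddOrderChar
import Cfsg.Agent.Lib.helper3.FP8

set_option autoImplicit false
set_option linter.style.haveILetI false
set_option linter.unusedSectionVars false

/-!
# The global counting argument: inner products, disjointness, parity, the column bound
-/

namespace Cfsg.Agent.Lib.helper3.FP

open Cfsg Module Cfsg.Agent.Lib.helper3.CharBasic Cfsg.Agent.Lib.helper3.IndFun
open Cfsg.Agent.Lib.helper3.Irr Cfsg.Agent.Lib.helper3.Coh Cfsg.Agent.Lib.helper3.Tifn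
open Cfsg.Agent.Lib.helper3.IndFunTI
open scoped ComplexConjugate

section global

variable {G : Type*} [Group G] [Fintype G] (hodd : Odd (Nat.card G))
  {ι : Type*} [Fintype ι] {H : ι → Subgroup G}
  (hcop : ∀ i j, i ≠ j → Nat.Coprime (Nat.card (H i)) (Nat.card (H j)))
  (D : ∀ i, ExcData (H i))

/-- The integer inner product of the `i`-th test character with an irreducible character. -/
noncomputable def aCoef (i : ι) (θ : IrrCharacter G) : ℤ :=
  Classical.choose (exists_int_classInner (D i).psi_gen (GenChar.of_isIrrCharacter θ.2))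

theorem aCoef_spec (i : ι) (θ : IrrCharacter G) :
    classInner (D i).ψ (θ : G → ℂ) = (aCoef D i θ : ℂ) :=
  Classical.choose_spec (exists_int_classInner (D i).psi_gen (GenChar.of_isIrrCharacter θ.2))

include hcop in
theorem psi_vanish {i j : ι} (hij : i ≠ j) : ∀ k ∈ H j, k ≠ 1 → (D i).ψ k = 0 := by
  intro k hk hk1
  apply (D i).psi_supp
  intro x hx
  exact eq_one_of_conj_mem_of_coprime (hcop i j hij) hx
    (show 1 * k * 1⁻¹ ∈ H j by simpa using hk)

include hcop in
theorem classInner_psi_psi {i j : ι} (hij : i ≠ j) : classInner (D i).ψ (D j).ψ = 0 := by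
  rw [classInner_apply]
  have h0 : ∀ g : G, (D i).ψ g * conj ((D j).ψ g) = 0 := by
    intro g
    by_cases h : ∀ x : G, x * g * x⁻¹ ∈ H i → g = 1
    · rw [(D i).psi_supp g h, zero_mul]
    · push Not at h
      obtain ⟨x, hx, hg1⟩ := h
      have : (D j).ψ g = 0 := by
        apply (D j).psi_supp
        intro y hy
        exact eq_one_of_conj_mem_of_coprime (hcop i j hij) hx hy
      rw [this, map_zero, mul_zero]
  rw [Finset.sum_congr rfl (fun g _ => h0 g), Finset.sum_const_zero, mul_zero]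

include hcop in
theorem sum_aCoef_mul {i j : ι} (hij : i ≠ j) :
    ∑ θ : IrrCharacter G, aCoef D i θ * aCoef D j θ = 0 := by
  have h := classInner_eq_sum (D i).ψ (D j).ψ
    (isClassFunction_of_isGeneralizedCharacter (D i).psi_gen)
    (isClassFunction_of_isGeneralizedCharacter (D j).psi_gen)
  rw [classInner_psi_psi hcop D hij] at h
  have h2 : ((∑ θ : IrrCharacter G, aCoef D i θ * aCoef D j θ : ℤ) : ℂ) = 0 := by
    push_cast
    rw [h]
    apply Finset.sum_congr rfl
    intro θ _
    rw [aCoef_spec, aCoef_spec, map_intCast]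
  exact_mod_cast h2

theorem sum_aCoef_sq (i : ι) :
    ∑ θ : IrrCharacter G, aCoef D i θ ^ 2 = ((D i).e : ℤ) + 1 := by
  have h := classInner_eq_sum (D i).ψ (D i).ψ
    (isClassFunction_of_isGeneralizedCharacter (D i).psi_gen)
    (isClassFunction_of_isGeneralizedCharacter (D i).psi_gen)
  rw [(D i).psi_self] at h
  have h2 : ((∑ θ : IrrCharacter G, aCoef D i θ ^ 2 : ℤ) : ℂ) = ((((D i).e : ℤ) + 1 : ℤ) : ℂ) := by
    push_cast
    rw [h]
    apply Finset.sum_congr rfl
    intro θ _
    rw [aCoef_spec, map_intCast]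
    ring
  exact_mod_cast h2

theorem aCoef_one (i : ι) : aCoef D i oneI = 1 := by
  have h := aCoef_spec D i oneI
  rw [oneI_coe, (D i).psi_one] at h
  exact_mod_cast h.symm

include hodd hcop in
theorem X_disjoint {i j : ι} (hij : i ≠ j) : Disjoint (D i).X (D j).X := by
  rw [Finset.disjoint_left]
  intro θ hθi hθj
  have hreal : ∀ g, conj ((θ : G → ℂ) g) = (θ : G → ℂ) g := by
    intro g
    by_cases h : ∀ x : G, x * g * x⁻¹ ∈ H i → g = 1
    · exact (D i).real θ hθi g h
    · push Not at h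
      obtain ⟨x, hx, hg1⟩ := h
      exact (D j).real θ hθj g
        (fun y hy => eq_one_of_conj_mem_of_coprime (hcop i j hij) hx hy)
  have h1 : cIrr θ = θ := Subtype.ext (funext hreal)
  rw [cIrr_eq_self_iff hodd] at h1
  exact (D i).one_not_mem (h1 ▸ hθi)

include hcop in
theorem aCoef_of_mem {i j : ι} (hij : i ≠ j) {θ : IrrCharacter G} (hθ : θ ∈ (D j).X) :
    aCoef D i θ = ((D j).m θ : ℤ) * aCoef D i (D j).χ := by
  have h := (D j).prop θ hθ (D i).ψ (isClassFunction_of_isGeneralizedCharacter (D i).psi_gen)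
    (psi_vanish hcop D hij)
  have h2 := congrArg conj h
  rw [classInner_conj_symm, map_mul, classInner_conj_symm, map_natCast, aCoef_spec,
    aCoef_spec] at h2
  exact_mod_cast h2

open Classical in
theorem aCoef_diff (i : ι) (θ : IrrCharacter G) :
    aCoef D i θ - aCoef D i (cIrr θ) =
      (D i).ε * ((if cIrr (D i).χ = θ then 1 else 0) - (if (D i).χ = θ then 1 else 0)) := by
  have h := (D i).diff θ
  rw [aCoef_spec, aCoef_spec] at h
  exact_mod_cast h

open Classical in
theorem aCoef_parity_hyp (i : ι) (θ : IrrCharacter G) :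
    ((aCoef D i (cIrr θ) : ℤ) : ZMod 2) + (if (D i).χ = cIrr θ then 1 else 0) =
      ((aCoef D i θ : ℤ) : ZMod 2) + (if (D i).χ = θ then 1 else 0) := by
  have h := congrArg (Int.cast : ℤ → ZMod 2) (aCoef_diff D i θ)
  have hε : (((D i).ε : ℤ) : ZMod 2) = 1 := by
    rcases (D i).eps with h | h <;> rw [h]
    · exact Int.cast_one
    · rw [Int.cast_neg, Int.cast_one]
      decide
  have hiff : (D i).χ = cIrr θ ↔ cIrr (D i).χ = θ :=
    ⟨fun h => by rw [h, cIrr_cIrr], fun h => by rw [← h, cIrr_cIrr]⟩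
  push_cast at h
  rw [hε, one_mul] at h
  generalize ((aCoef D i θ : ℤ) : ZMod 2) = x at *
  generalize ((aCoef D i (cIrr θ) : ℤ) : ZMod 2) = y at *
  simp only [hiff]
  by_cases h1 : cIrr (D i).χ = θ <;> by_cases h2 : (D i).χ = θ
  · rw [if_pos h1, if_pos h2] at h ⊢
    revert h
    revert x y
    decide
  · rw [if_pos h1, if_neg h2] at h ⊢
    revert h
    revert x y
    decide
  · rw [if_neg h1, if_pos h2] at h ⊢
    revert h
    revert x y
    decide
  · rw [if_neg h1, if_neg h2] at h ⊢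
    revert h
    revert x y
    decide

include hodd hcop in
/-- The tournament property. -/
theorem parity {i j : ι} (hij : i ≠ j) : Odd (aCoef D i (D j).χ + aCoef D j (D i).χ) := by
  classical
  have hχne : (D i).χ ≠ (D j).χ := by
    intro h
    exact Finset.disjoint_left.mp (X_disjoint hodd hcop D hij) (D i).chi_mem
      (h ▸ (D j).chi_mem)
  have hχi1 : (D i).χ ≠ oneI := fun h => (D i).one_not_mem (h ▸ (D i).chi_mem)
  have hχj1 : (D j).χ ≠ oneI := fun h => (D j).one_not_mem (h ▸ (D j).chi_mem)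
  have key := parity_core cIrr cIrr_cIrr oneI (cIrr_eq_self_iff hodd)
    (fun θ => ((aCoef D i θ : ℤ) : ZMod 2)) (fun θ => ((aCoef D j θ : ℤ) : ZMod 2))
    (D i).χ (D j).χ hχne hχi1 hχj1 (aCoef_parity_hyp D i) (aCoef_parity_hyp D j)
  have hsum := sum_aCoef_mul hcop D hij
  have hcast : ∑ θ : IrrCharacter G, ((aCoef D i θ : ℤ) : ZMod 2) * ((aCoef D j θ : ℤ) : ZMod 2)
      = 0 := by
    have := congrArg (Int.cast : ℤ → ZMod 2) hsum
    push_cast at this
    exact this
  rw [hcast, aCoef_one, aCoef_one, Int.cast_one, one_mul] at key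
  rw [← ZMod.intCast_eq_one_iff_odd]
  push_cast
  generalize ((aCoef D i (D j).χ : ℤ) : ZMod 2) = x at *
  generalize ((aCoef D j (D i).χ : ℤ) : ZMod 2) = y at *
  revert key
  revert x y
  decide

include hodd hcop in
/-- The column bound. -/
theorem column (m : ι) [DecidableEq ι] :
    ∑ j ∈ Finset.univ.erase m, ((D j).t : ℤ) * (aCoef D m (D j).χ) ^ 2 ≤ ((D m).e : ℤ) - 1 := by
  classical
  have hsq := sum_aCoef_sq D m
  have hdisj : ((Finset.univ : Finset ι) : Set ι).PairwiseDisjoint (fun j => (D j).X) := by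
    intro i _ j _ hij
    exact X_disjoint hodd hcop D hij
  have hsub : (Finset.univ : Finset ι).biUnion (fun j => (D j).X) ⊆
      (Finset.univ : Finset (IrrCharacter G)).erase oneI := by
    intro θ hθ
    rw [Finset.mem_biUnion] at hθ
    obtain ⟨j, -, hj⟩ := hθ
    rw [Finset.mem_erase]
    exact ⟨fun h => (D j).one_not_mem (h ▸ hj), Finset.mem_univ _⟩
  have h1 : ∑ θ : IrrCharacter G, (aCoef D m θ) ^ 2 = (aCoef D m oneI) ^ 2 +
      ∑ θ ∈ (Finset.univ : Finset (IrrCharacter G)).erase oneI, (aCoef D m θ) ^ 2 :=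
    (Finset.add_sum_erase _ _ (Finset.mem_univ _)).symm
  have h2 : ∑ θ ∈ (Finset.univ : Finset ι).biUnion (fun j => (D j).X), (aCoef D m θ) ^ 2 ≤
      ∑ θ ∈ (Finset.univ : Finset (IrrCharacter G)).erase oneI, (aCoef D m θ) ^ 2 :=
    Finset.sum_le_sum_of_subset_of_nonneg hsub (fun _ _ _ => sq_nonneg _)
  rw [Finset.sum_biUnion hdisj, ← Finset.add_sum_erase _ _ (Finset.mem_univ m)] at h2
  have h3 : 1 ≤ ∑ θ ∈ (D m).X, (aCoef D m θ) ^ 2 := by
    have hd := aCoef_diff D m (D m).χ
    have hne : cIrr (D m).χ ≠ (D m).χ := by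
      rw [Ne, cIrr_eq_self_iff hodd]
      exact fun h => (D m).one_not_mem (h ▸ (D m).chi_mem)
    rw [if_neg hne, if_pos rfl] at hd
    by_cases h0 : aCoef D m (D m).χ = 0
    · have hne0 : aCoef D m (cIrr (D m).χ) ≠ 0 := by
        intro h0'
        rw [h0, h0'] at hd
        rcases (D m).eps with h | h <;> rw [h] at hd <;> norm_num at hd
      have hp : 0 < (aCoef D m (cIrr (D m).χ)) ^ 2 := sq_pos_of_ne_zero hne0
      have hle := Finset.single_le_sum (f := fun θ => (aCoef D m θ) ^ 2)
        (fun _ _ => sq_nonneg _) (D m).cchi_mem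
      omega
    · have hp : 0 < (aCoef D m (D m).χ) ^ 2 := sq_pos_of_ne_zero h0
      have hle := Finset.single_le_sum (f := fun θ => (aCoef D m θ) ^ 2)
        (fun _ _ => sq_nonneg _) (D m).chi_mem
      omega
  have h4 : ∀ j ∈ Finset.univ.erase m, ∑ θ ∈ (D j).X, (aCoef D m θ) ^ 2 =
      ((D j).t : ℤ) * (aCoef D m (D j).χ) ^ 2 := by
    intro j hj
    have hjm : m ≠ j := (Finset.mem_erase.mp hj).1.symm
    rw [← (D j).sum_m]
    push_cast
    rw [Finset.sum_mul]
    apply Finset.sum_congr rfl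
    intro θ hθ
    rw [aCoef_of_mem hcop D hjm hθ]
    ring
  rw [Finset.sum_congr rfl h4] at h2
  rw [aCoef_one] at h1
  linarith

end global

end Cfsg.Agent.Lib.helper3.FP
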