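import Mathlib
import Cfsg.Prelude.Def_OddOrderChar
import Cfsg.Agent.Lib.helper3.FP9
import Cfsg.Agent.Lib.Helper8.PF7F

set_option autoImplicit false
set_option linter.style.haveILetI false
set_option linter.unusedSectionVars false

/-!
# The global counting argument: the partition identity, the row bound and the contradiction
-/

namespace Cfsg.Agent.Lib.helper3.FP

open Cfsg Module Cfsg.Agent.Lib.helper3.CharBasic Cfsg.Agent.Lib.helper3.IndFun
open Cfsg.Agent.Lib.helper3.Irr Cfsg.Agent.Lib.helper3.Coh Cfsg.Agent.Lib.helper3.Tifn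
open Cfsg.Agent.Lib.helper3.IndFunTI
open scoped ComplexConjugate

section global

variable {G : Type*} [Group G] [Fintype G] (hodd : Odd (Nat.card G))
  {ι : Type*} [Fintype ι] {H : ι → Subgroup G}
  (hcop : ∀ i j, i ≠ j → Nat.Coprime (Nat.card (H i)) (Nat.card (H j)))
  (hTI : ∀ i, IsTISubset (H i : Set G))
  (hcover : ∀ g : G, g ≠ 1 → ∃ i, ∃ x : G, x * g * x⁻¹ ∈ H i)
  (D : ∀ i, ExcData (H i))

open Classical in
include hcop hTI hcover in
/-- The partition formula for real valued class functions. -/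
theorem sum_partition_real (r : G → ℝ) (hr : ∀ g x : G, r (x * g * x⁻¹) = r g) :
    ∑ g : G, r g = r 1 + ∑ i, (Nat.card G : ℝ) / ((D i).e * Nat.card (H i) : ℝ) *
      ∑ g : G, (if g ∈ H i ∧ g ≠ 1 then r g else 0) := by
  have hpart := sum_partition H hcop hTI hcover (fun g => (r g : ℂ))
    (fun g x => by rw [hr g x])
  apply Complex.ofReal_injective
  push_cast
  rw [hpart]
  congr 1
  apply Finset.sum_congr rfl
  intro i _
  rw [(D i).card_normalizer]
  push_cast
  congr 1
  apply Finset.sum_congr rfl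
  intro g _
  split_ifs
  · rfl
  · simp

include hcop hTI hcover in
/-- The partition identity. -/
theorem partition_identity :
    ∑ i, (((Nat.card (H i) : ℚ) - 1) / ((D i).e * Nat.card (H i))) =
      1 - 1 / (Nat.card G : ℚ) := by
  classical
  have h := sum_partition_real hcop hTI hcover D (fun _ => (1 : ℝ)) (fun _ _ => rfl)
  rw [Finset.sum_const, Finset.card_univ, nsmul_eq_mul, mul_one, ← Nat.card_eq_fintype_card] at h
  have h2 : ∀ i, (Nat.card G : ℝ) / ((D i).e * Nat.card (H i) : ℝ) *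
      ∑ g : G, (if g ∈ H i ∧ g ≠ 1 then (1 : ℝ) else 0) =
      (Nat.card G : ℝ) * (((Nat.card (H i) : ℝ) - 1) / ((D i).e * Nat.card (H i))) := by
    intro i
    rw [sum_ite_mem_ne_one (H i) (1 : ℝ)]
    ring
  rw [Finset.sum_congr rfl (fun i _ => h2 i), ← Finset.mul_sum] at h
  have hG : (0 : ℝ) < (Nat.card G : ℝ) := by exact_mod_cast Nat.card_pos
  have h3 : ∑ i, (((Nat.card (H i) : ℝ) - 1) / ((D i).e * Nat.card (H i))) =
      1 - 1 / (Nat.card G : ℝ) := by
    obtain ⟨S, hS⟩ : ∃ S : ℝ, S = ∑ i, (((Nat.card (H i) : ℝ) - 1) /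
        ((D i).e * Nat.card (H i))) := ⟨_, rfl⟩
    rw [← hS] at h ⊢
    have h5 : S = ((Nat.card G : ℝ) - 1) / (Nat.card G : ℝ) := by
      rw [eq_div_iff hG.ne']
      linarith
    rw [h5]
    field_simp
  have h4 : ((∑ i, (((Nat.card (H i) : ℚ) - 1) / ((D i).e * Nat.card (H i))) : ℚ) : ℝ) =
      ((1 - 1 / (Nat.card G : ℚ) : ℚ) : ℝ) := by
    push_cast
    exact h3
  exact_mod_cast h4

include hodd hcop hTI hcover in
/-- The row bound. -/
theorem row_bound (m : ι) [DecidableEq ι] :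
    ∑ j ∈ Finset.univ.erase m, ((aCoef D j (D m).χ : ℤ) : ℝ) ^ 2 *
        (((Nat.card (H j) : ℝ) - 1) / ((D j).e * Nat.card (H j))) ≤
      ((D m).e : ℝ) / (Nat.card (H m) : ℝ) - 1 / (Nat.card G : ℝ) := by
  classical
  obtain ⟨r, hr⟩ : ∃ r : G → ℝ, r = fun g => Complex.normSq (((D m).χ : G → ℂ) g) := ⟨_, rfl⟩
  have hcf := isClassFunction_of_isCharacter (isCharacter_of_isIrrCharacter (D m).χ.2)
  have hrcf : ∀ g x : G, r (x * g * x⁻¹) = r g := by
    intro g x
    rw [hr]
    simp only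
    rw [hcf g x]
  have hpart := sum_partition_real hcop hTI hcover D r hrcf
  -- the total
  have htot : ∑ g : G, r g = (Nat.card G : ℝ) := by
    have h1 := irr_classInner_self (D m).χ.2
    rw [classInner_apply] at h1
    have h2 : ∑ g : G, ((D m).χ : G → ℂ) g * conj (((D m).χ : G → ℂ) g) =
        ((∑ g : G, r g : ℝ) : ℂ) := by
      push_cast
      apply Finset.sum_congr rfl
      intro g _
      rw [hr, Complex.mul_conj]
    rw [h2] at h1
    have hG : (Nat.card G : ℂ) ≠ 0 := card_ne_zero_complex G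
    have h3 : ((∑ g : G, r g : ℝ) : ℂ) = ((Nat.card G : ℝ) : ℂ) := by
      push_cast
      field_simp at h1
      push_cast at h1
      exact h1
    exact Complex.ofReal_injective h3
  -- the value at the identity
  have hone : 1 ≤ r 1 := by
    obtain ⟨n, hn, hn1⟩ := exists_pos_nat_apply_one (D m).χ.2
    rw [hr]
    simp only
    rw [hn1, Complex.normSq_natCast]
    have : (1 : ℝ) ≤ (n : ℝ) := by exact_mod_cast hn
    nlinarith
  -- the terms with `j ≠ m`
  have hterm : ∀ j ∈ Finset.univ.erase m, (Nat.card G : ℝ) / ((D j).e * Nat.card (H j) : ℝ) *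
      ∑ g : G, (if g ∈ H j ∧ g ≠ 1 then r g else 0) =
      (Nat.card G : ℝ) * (((aCoef D j (D m).χ : ℤ) : ℝ) ^ 2 *
        (((Nat.card (H j) : ℝ) - 1) / ((D j).e * Nat.card (H j)))) := by
    intro j hj
    have hjm : j ≠ m := (Finset.mem_erase.mp hj).1
    have hnot : (D m).χ ∉ (D j).X := by
      intro h
      exact Finset.disjoint_left.mp (X_disjoint hodd hcop D hjm) h (D m).chi_mem
    have hval : ∀ g : G, (if g ∈ H j ∧ g ≠ 1 then r g else 0) =
        if g ∈ H j ∧ g ≠ 1 then ((aCoef D j (D m).χ : ℤ) : ℝ) ^ 2 else 0 := by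
      intro g
      by_cases hg : g ∈ H j ∧ g ≠ 1
      · rw [if_pos hg, if_pos hg, hr]
        simp only
        rw [(D j).const (D m).χ hnot g hg.1 hg.2, aCoef_spec]
        have : ((aCoef D j (D m).χ : ℤ) : ℂ) = (((aCoef D j (D m).χ : ℤ) : ℝ) : ℂ) := by
          push_cast
          rfl
        rw [this, Complex.normSq_ofReal]
        ring
      · rw [if_neg hg, if_neg hg]
    rw [Finset.sum_congr rfl (fun g _ => hval g), sum_ite_mem_ne_one (H j)]
    ring
  rw [← Finset.add_sum_erase _ _ (Finset.mem_univ m), Finset.sum_congr rfl hterm,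
    ← Finset.mul_sum, htot] at hpart
  -- the term `m`
  have hrow := (D m).row
  have hrow' : ((D m).e : ℝ) * (Nat.card (H m) : ℝ) - ((D m).e : ℝ) ^ 2 ≤
      ∑ g : G, (if g ∈ H m ∧ g ≠ 1 then r g else 0) := by
    rw [hr]
    push_cast at hrow
    convert hrow using 2
  have hG : (0 : ℝ) < (Nat.card G : ℝ) := by exact_mod_cast Nat.card_pos
  have he : (0 : ℝ) < ((D m).e : ℝ) := by
    have := (D m).two_le_e
    exact_mod_cast (by omega : 0 < (D m).e)
  have hh : (0 : ℝ) < (Nat.card (H m) : ℝ) := by exact_mod_cast Nat.card_pos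
  obtain ⟨T, hT⟩ : ∃ T : ℝ, T = ∑ j ∈ Finset.univ.erase m, ((aCoef D j (D m).χ : ℤ) : ℝ) ^ 2 *
        (((Nat.card (H j) : ℝ) - 1) / ((D j).e * Nat.card (H j))) := ⟨_, rfl⟩
  obtain ⟨R, hR⟩ : ∃ R : ℝ, R = ∑ g : G, (if g ∈ H m ∧ g ≠ 1 then r g else 0) := ⟨_, rfl⟩
  rw [← hT, ← hR] at hpart
  rw [← hR] at hrow'
  rw [← hT]
  have hcoef : (0 : ℝ) ≤ (Nat.card G : ℝ) / (((D m).e : ℝ) * (Nat.card (H m) : ℝ)) :=
    div_nonneg hG.le (mul_pos he hh).le
  have h5 := mul_le_mul_of_nonneg_left hrow' hcoef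
  have h6 : (Nat.card G : ℝ) / (((D m).e : ℝ) * (Nat.card (H m) : ℝ)) *
      (((D m).e : ℝ) * (Nat.card (H m) : ℝ) - ((D m).e : ℝ) ^ 2) =
      (Nat.card G : ℝ) - (Nat.card G : ℝ) * (((D m).e : ℝ) / (Nat.card (H m) : ℝ)) := by
    field_simp
  rw [h6] at h5
  have h7 : (Nat.card G : ℝ) * T ≤
      (Nat.card G : ℝ) * (((D m).e : ℝ) / (Nat.card (H m) : ℝ) - 1 / (Nat.card G : ℝ)) := by
    have h8 : (Nat.card G : ℝ) * (1 / (Nat.card G : ℝ)) = 1 := by
      field_simp
    rw [mul_sub, h8]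
    linarith
  exact le_of_mul_le_mul_left h7 hG

include hodd hcop hTI hcover D in
/-- The contradiction. -/
theorem false_of_excData [Nonempty ι] : False := by
  classical
  apply Cfsg.Agent.Lib.Helper8.PF7.endgame' (fun i => (D i).e) (fun i => Nat.card (H i))
    (fun i j => aCoef D i (D j).χ) (Nat.card G : ℚ) (by exact_mod_cast Nat.card_pos)
  · exact fun i => (D i).two_le_e
  · exact fun i => (D i).card_ge
  · intro i j hij h
    have h1 := hcop i j hij
    rw [h, Nat.coprime_self] at h1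
    have h2 := (D j).card_ge
    have h3 := (D j).two_le_e
    omega
  · exact partition_identity hcop hTI hcover D
  · intro m
    have h := row_bound hodd hcop hTI hcover D m
    have h2 : ((∑ j ∈ Finset.univ.erase m, ((aCoef D j (D m).χ : ℤ) : ℚ) ^ 2 *
        (((Nat.card (H j) : ℚ) - 1) / ((D j).e * Nat.card (H j))) : ℚ) : ℝ) ≤
        ((((D m).e : ℚ) / (Nat.card (H m) : ℚ) - 1 / (Nat.card G : ℚ) : ℚ) : ℝ) := by
      push_cast
      exact h
    exact_mod_cast h2
  · intro m
    have h := column hodd hcop D m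
    have h2 : ∀ j ∈ Finset.univ.erase m, (((Nat.card (H j) : ℚ) - 1) / ((D j).e : ℚ)) *
        ((aCoef D m (D j).χ : ℤ) : ℚ) ^ 2 =
        (((((D j).t : ℤ) * (aCoef D m (D j).χ) ^ 2 : ℤ)) : ℚ) := by
      intro j _
      have h3 := (D j).e_mul_t
      have h4 : 1 ≤ Nat.card (H j) := Nat.card_pos
      have h5 : (((D j).e : ℚ)) * ((D j).t : ℚ) = (Nat.card (H j) : ℚ) - 1 := by
        have : (((D j).e * (D j).t : ℕ) : ℚ) = ((Nat.card (H j) - 1 : ℕ) : ℚ) := by rw [h3]
        rw [Nat.cast_sub h4] at this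
        push_cast at this
        exact this
      have he : ((D j).e : ℚ) ≠ 0 := by
        have := (D j).two_le_e
        exact_mod_cast (by omega : (D j).e ≠ 0)
      rw [← h5]
      push_cast
      field_simp
    rw [Finset.sum_congr rfl h2]
    have h6 : ((∑ j ∈ Finset.univ.erase m, ((D j).t : ℤ) * (aCoef D m (D j).χ) ^ 2 : ℤ) : ℚ) ≤
        ((((D m).e : ℤ) - 1 : ℤ) : ℚ) := by exact_mod_cast h
    push_cast at h6 ⊢
    exact h6
  · intro i l hil
    have h := parity hodd hcop D hil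
    by_contra hcon
    push Not at hcon
    rw [hcon.1, hcon.2] at h
    exact absurd h (by decide)

end global

end Cfsg.Agent.Lib.helper3.FP
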