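import Mathlib
import Cfsg.Prelude.Def_OddOrderChar
import Cfsg.Agent.Lib.helper3.FP10

set_option autoImplicit false
set_option linter.style.haveILetI false
set_option linter.unusedSectionVars false
set_option linter.unusedVariables false

/-!
# No group of odd order is partitioned by the conjugates of coprime trivial-intersection subgroups
with Frobenius normalizers admitting coherent isometries
-/

namespace Cfsg.Agent.Lib.helper3.FP

open Cfsg Module Cfsg.Agent.Lib.helper3.CharBasic Cfsg.Agent.Lib.helper3.IndFun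
open Cfsg.Agent.Lib.helper3.Irr Cfsg.Agent.Lib.helper3.Coh Cfsg.Agent.Lib.helper3.Tifn
open Cfsg.Agent.Lib.helper3.IndFunTI
open scoped ComplexConjugate

/-- The abstract form of the counting argument of Peterfalvi (7.11). -/
theorem main {G : Type*} [Group G] [Fintype G] (hodd : Odd (Nat.card G)) {ι : Type*} [Fintype ι]
    [Nonempty ι] (H : ι → Subgroup G)
    [∀ i, Fintype ↥(Subgroup.normalizer (H i : Set G))]
    (hH1 : ∀ i, H i ≠ ⊥) (hlt : ∀ i, Subgroup.normalizer (H i : Set G) ≠ H i)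
    (hTI : ∀ i, ∀ g : G, g ∉ Subgroup.normalizer (H i : Set G) → ∀ k ∈ H i,
      g * k * g⁻¹ ∈ H i → k = 1)
    (hC : ∀ i, ∀ k ∈ H i, k ≠ 1 → Subgroup.centralizer ({k} : Set G) ≤ H i)
    (hcop : ∀ i j, i ≠ j → Nat.Coprime (Nat.card (H i)) (Nat.card (H j)))
    (hcover : ∀ g : G, g ≠ 1 → ∃ i, ∃ x : G, x * g * x⁻¹ ∈ H i)
    (hcoh : ∀ i, ∃ star : (↥(Subgroup.normalizer (H i : Set G)) → ℂ) → (G → ℂ),
      Cfsg.IsLinearIsometryOn
        (Cfsg.zspan (relSet ((H i).subgroupOf (Subgroup.normalizer (H i : Set G))))) star ∧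
      ∀ α ∈ Cfsg.zspanOn (relSet ((H i).subgroupOf (Subgroup.normalizer (H i : Set G))))
        ({1}ᶜ : Set ↥(Subgroup.normalizer (H i : Set G))),
        star α = Cfsg.indFun (Subgroup.normalizer (H i : Set G)) α)
    (hdeg : ∀ i, ∃ ξ₀ ∈ relSet ((H i).subgroupOf (Subgroup.normalizer (H i : Set G))),
      ξ₀ 1 = (((H i).subgroupOf (Subgroup.normalizer (H i : Set G))).index : ℂ)) : False := by
  have hD : ∀ i, Nonempty (ExcData (H i)) := by
    intro i
    obtain ⟨star, hstar, hext⟩ := hcoh i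
    obtain ⟨ξ₀, hξ₀, h1⟩ := hdeg i
    exact nonempty_excData (H i) (hTI i) (hC i) star hstar hext hodd (hlt i) hξ₀ h1
  exact false_of_excData hodd hcop hTI hcover (fun i => Classical.choice (hD i))

end Cfsg.Agent.Lib.helper3.FP
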