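import Mathlib
import Cfsg.Prelude.Def_OddOrderChar
import Cfsg.Agent.Lib.helper3.FP11

set_option autoImplicit false
set_option linter.style.haveILetI false
set_option linter.unusedSectionVars false

/-!
# Adapters: the induced characters of a Frobenius kernel and the relevant set
-/

namespace Cfsg.Agent.Lib.helper3.FP

open Cfsg Module Cfsg.Agent.Lib.helper3.CharBasic Cfsg.Agent.Lib.helper3.IndFun
open Cfsg.Agent.Lib.helper3.Irr Cfsg.Agent.Lib.helper3.Coh Cfsg.Agent.Lib.helper3.Tifn
open Cfsg.Agent.Lib.helper3.IndFunTI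
open scoped ComplexConjugate

section nlevel

variable {N : Type*} [Group N] [Fintype N] (K : Subgroup N) [hKn : K.Normal]
  (hC : ∀ n ∈ K, n ≠ 1 → Subgroup.centralizer ({n} : Set N) ≤ K)

include hC in
/-- The functions induced from the nonprincipal irreducible characters of a Frobenius kernel are
the irreducible characters not having the kernel in their kernel. -/
theorem inducedIrrAbove_bot_eq_relSet : inducedIrrAbove K ⊥ = relSet K := by
  ext φ
  constructor
  · rintro ⟨θ, hθ, hθ1, -, rfl⟩
    exact indFun_mem_relSet K hC hθ hθ1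
  · intro hφ
    obtain ⟨θ, hθ, hθ1, rfl⟩ := exists_eq_indFun K hC hφ
    refine ⟨θ, hθ, hθ1, ?_, rfl⟩
    intro a ha
    rw [Subgroup.mem_bot] at ha
    have : a = 1 := Subtype.ext ha
    rw [this]

include hC in
/-- A nontrivial solvable Frobenius kernel affords a relevant character of degree the index. -/
theorem exists_relSet_degree_index (hsolv : Group.IsSolvable K) (hK : K ≠ ⊥) :
    ∃ ξ₀ ∈ relSet K, ξ₀ 1 = (K.index : ℂ) := by
  haveI := hsolv
  haveI : Nontrivial K := (Subgroup.nontrivial_iff_ne_bot K).mpr hK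
  have hbt : (⊥ : Subgroup K) ≠ ⊤ := bot_ne_top
  obtain ⟨θ, -, hθ1, hθne⟩ := Cfsg.Agent.H2.PF6.exists_linear_irrAbove (⊥ : Subgroup K) hbt
  refine ⟨indFun K (θ : K → ℂ), indFun_mem_relSet K hC θ.2 hθne, ?_⟩
  rw [indFun_apply_one, hθ1, mul_one]

end nlevel

end Cfsg.Agent.Lib.helper3.FP
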