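import Mathlib
import Cfsg.Prelude.Def_OddOrderChar
import Cfsg.Agent.Lib.helper3.Tifn6
import Cfsg.Agent.Lib.helper3.BrauerChar
import Cfsg.Agent.S0170

set_option autoImplicit false
set_option linter.style.haveILetI false
set_option linter.unusedSectionVars false

/-!
# An abelian trivial-intersection subgroup with Frobenius normalizer
-/

namespace Cfsg.Agent.Lib.helper3.Tifn

open Cfsg Module Cfsg.Agent.Lib.helper3.CharBasic Cfsg.Agent.Lib.helper3.IndFun
open Cfsg.Agent.Lib.helper3.Irr Cfsg.Agent.Lib.helper3.Coh Cfsg.Agent.Lib.helper3.IndFunTI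
open scoped ComplexConjugate

variable {G : Type*} [Group G] [Fintype G] (K : Subgroup G)

/-- For abelian `K` all relevant characters have the same degree. -/
theorem degree_eq_index_of_abelian
    (hC : ∀ k ∈ K, k ≠ 1 → Subgroup.centralizer ({k} : Set G) ≤ K)
    (hab : ∀ a ∈ K, ∀ b ∈ K, a * b = b * a)
    [Fintype ↥(Subgroup.normalizer (K : Set G))]
    {χ : ↥(Subgroup.normalizer (K : Set G)) → ℂ}
    (hχ : χ ∈ relSet (K.subgroupOf (Subgroup.normalizer (K : Set G)))) :
    χ 1 = ((K.subgroupOf (Subgroup.normalizer (K : Set G))).index : ℂ) := by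
  have hCn := centralizer_le_subgroupOf K hC
  obtain ⟨φ, hφ, -, rfl⟩ :=
    exists_eq_indFun (K.subgroupOf (Subgroup.normalizer (K : Set G))) hCn hχ
  have hcomm : ∀ a b : ↥(K.subgroupOf (Subgroup.normalizer (K : Set G))), a * b = b * a := by
    intro a b
    apply Subtype.ext
    apply Subtype.ext
    exact hab _ (Subgroup.mem_subgroupOf.mp a.2) _ (Subgroup.mem_subgroupOf.mp b.2)
  rw [indFun_apply_one, apply_one_eq_one_of_comm hcomm hφ, mul_one]

/-- The theorem of Brauer and Suzuki on abelian trivial-intersection subgroups with Frobenius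
normalizer: the second alternative always holds. -/
theorem brauer_suzuki_abelian
    (hTI : ∀ g : G, g ∉ Subgroup.normalizer (K : Set G) → ∀ k ∈ K, g * k * g⁻¹ ∈ K → k = 1)
    (hC : ∀ k ∈ K, k ≠ 1 → Subgroup.centralizer ({k} : Set G) ≤ K)
    (hab : ∀ a ∈ K, ∀ b ∈ K, a * b = b * a) :
    ∃ (ε : ℂ) (f : {χ : IrrCharacter (Subgroup.normalizer (K : Set G)) //
        ∃ k : Subgroup.normalizer (K : Set G), (k : G) ∈ K ∧
          (χ : ↥(Subgroup.normalizer (K : Set G)) → ℂ) k ≠
            (χ : ↥(Subgroup.normalizer (K : Set G)) → ℂ) 1} → IrrCharacter G),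
      (ε = 1 ∨ ε = -1) ∧ Function.Injective f ∧ ∀ χ ξ,
        indFun (Subgroup.normalizer (K : Set G))
          ((χ.1 : ↥(Subgroup.normalizer (K : Set G)) → ℂ) -
            (ξ.1 : ↥(Subgroup.normalizer (K : Set G)) → ℂ)) =
          ε • ((f χ : G → ℂ) - (f ξ : G → ℂ)) := by
  classical
  letI : Fintype ↥(Subgroup.normalizer (K : Set G)) := Fintype.ofFinite _
  have hCn := centralizer_le_subgroupOf K hC
  by_cases hsub : ∀ χ ξ : {χ : IrrCharacter (Subgroup.normalizer (K : Set G)) //
        ∃ k : Subgroup.normalizer (K : Set G), (k : G) ∈ K ∧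
          (χ : ↥(Subgroup.normalizer (K : Set G)) → ℂ) k ≠
            (χ : ↥(Subgroup.normalizer (K : Set G)) → ℂ) 1}, χ = ξ
  · refine ⟨1, fun _ => ⟨fun _ => 1, isIrrCharacter_one⟩, Or.inl rfl, fun a b _ => hsub a b, ?_⟩
    intro χ ξ
    rw [hsub χ ξ, sub_self, indFun_zero, sub_self, smul_zero]
  · push Not at hsub
    obtain ⟨χ₁, χ₂, hχ₁₂⟩ := hsub
    obtain ⟨n, hn⟩ : ∃ n : ℕ, n = Nat.card {χ : IrrCharacter (Subgroup.normalizer (K : Set G)) //
        ∃ k : Subgroup.normalizer (K : Set G), (k : G) ∈ K ∧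
          (χ : ↥(Subgroup.normalizer (K : Set G)) → ℂ) k ≠
            (χ : ↥(Subgroup.normalizer (K : Set G)) → ℂ) 1} := ⟨_, rfl⟩
    have e : {χ : IrrCharacter (Subgroup.normalizer (K : Set G)) //
        ∃ k : Subgroup.normalizer (K : Set G), (k : G) ∈ K ∧
          (χ : ↥(Subgroup.normalizer (K : Set G)) → ℂ) k ≠
            (χ : ↥(Subgroup.normalizer (K : Set G)) → ℂ) 1} ≃ Fin n := by
      rw [hn]
      exact Finite.equivFin _
    have hn2 : 2 ≤ n := by
      by_contra hlt
      have hn1 : n ≤ 1 := by omega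
      apply hχ₁₂
      apply e.injective
      apply Fin.ext
      have h1 := (e χ₁).2
      have h2 := (e χ₂).2
      omega
    have hmem : ∀ i : Fin n, (((e.symm i).1 : IrrCharacter ↥(Subgroup.normalizer (K : Set G))) :
        ↥(Subgroup.normalizer (K : Set G)) → ℂ) ∈
          relSet (K.subgroupOf (Subgroup.normalizer (K : Set G))) := by
      intro i
      refine ⟨(e.symm i).1.2, ?_⟩
      obtain ⟨k, hk, hne⟩ := (e.symm i).2
      exact ⟨k, Subgroup.mem_subgroupOf.mpr hk, hne⟩
    obtain ⟨ε, hε, θ, hθirr, hθinj, hθ⟩ := Cfsg.Agent.S0170.result (K : Set G)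
      Subgroup.le_normalizer hTI n hn2
      (fun i => (((e.symm i).1 : IrrCharacter ↥(Subgroup.normalizer (K : Set G))) :
        ↥(Subgroup.normalizer (K : Set G)) → ℂ))
      (fun i => (e.symm i).1.2)
      (by
        intro i j hij
        apply e.symm.injective
        apply Subtype.ext
        apply Subtype.ext
        exact hij)
      (by
        intro i x hx
        exact apply_eq_zero_of_not_mem (K.subgroupOf (Subgroup.normalizer (K : Set G))) hCn
          (hmem i) (fun h => hx (Subgroup.mem_subgroupOf.mp h)))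
      (by
        intro i j
        rw [degree_eq_index_of_abelian K hC hab (hmem i),
          degree_eq_index_of_abelian K hC hab (hmem j)])
    refine ⟨ε, fun χ => ⟨θ (e χ), hθirr _⟩, hε, ?_, ?_⟩
    · intro a b hab'
      have h1 : θ (e a) = θ (e b) := congrArg Subtype.val hab'
      exact e.injective (hθinj h1)
    · intro χ ξ
      have := hθ (e χ) (e ξ)
      simp only [Equiv.symm_apply_apply] at this
      rw [Cfsg.Agent.Lib.helper3.BrauerInd.indFun_sub']
      exact this

end Cfsg.Agent.Lib.helper3.Tifn
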