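import Mathlib
import Cfsg.Prelude.Def_Blocks
import Cfsg.Agent.Lib.helper3.SecMain13
import Cfsg.Agent.Lib.helper3.Degrees
import Cfsg.Agent.Lib.helper3.Tri5

/-!
# Height zero characters have linear constituents on a defect group
-/

set_option autoImplicit false
set_option linter.style.haveILetI false
set_option linter.unusedSectionVars false
set_option maxHeartbeats 1000000

namespace Cfsg.Agent.Lib.helper3.HtZeroLin

open Cfsg Module Cfsg.Agent.Lib.helper3.CharBasic Cfsg.Agent.Lib.helper3.Irr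
open Cfsg.Agent.Lib.helper3.Central Cfsg.Agent.Lib.helper3.LocalM Cfsg.Agent.Lib.helper3.IndFun
open Cfsg.Agent.Lib.helper3.Block
open scoped ComplexConjugate

variable {M : Ideal AlgInt}

/-- A character whose value at a central element is not in the local ideal has an irreducible
constituent of degree prime to `p`. -/
theorem exists_constituent_not_dvd {K : Type*} [Group K] [Fintype K] {p : ℕ}
    (hM : IsPModular p M) {ζ : K → ℂ} (hζ : IsCharacter K ζ) (z : K)
    (hz : z ∈ Subgroup.center K) (hnot : ¬ MemLocalIdeal M (ζ z)) :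
    ∃ ψ : IrrCharacter K, classInner ζ (ψ : K → ℂ) ≠ 0 ∧ ¬ p ∣ charDegree (ψ : K → ℂ) := by
  classical
  haveI hMp := isPrime_of_isPModular hM
  have hMtop : M ≠ ⊤ := hM.2.1.ne_top
  by_contra hcon
  push Not at hcon
  apply hnot
  have hdec := isCharacter_eq_sum_classInner hζ
  have hval : ζ z = ∑ ψ : IrrCharacter K, classInner ζ (ψ : K → ℂ) * (ψ : K → ℂ) z := by
    conv_lhs => rw [hdec]
    rw [Finset.sum_apply]
    apply Finset.sum_congr rfl
    intro ψ _
    rfl
  rw [hval]
  apply memLocalIdeal_sum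
  intro ψ _
  by_cases h0 : classInner ζ (ψ : K → ℂ) = 0
  · rw [h0, zero_mul]
    exact memLocalIdeal_zero hMtop
  · obtain ⟨k, hk⟩ := hcon ψ h0
    obtain ⟨m, hm⟩ := exists_nat_classInner_of_isCharacter hζ ψ
    have hcent : Subgroup.centralizer ({z} : Set K) = ⊤ := by
      rw [eq_top_iff]
      intro x _
      rw [Subgroup.mem_centralizer_singleton_iff]
      exact (Subgroup.mem_center_iff.mp hz x)
    have hcc : centralChar (ψ : K → ℂ) z = (ψ : K → ℂ) z / (ψ : K → ℂ) 1 := by
      unfold centralChar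
      rw [hcent, Subgroup.index_top]
      simp
    have hint := isIntegral_centralChar ψ.2 z
    have h1 : (ψ : K → ℂ) 1 ≠ 0 := apply_one_ne_zero ψ.2
    have hψz : (ψ : K → ℂ) z = (ψ : K → ℂ) 1 * centralChar (ψ : K → ℂ) z := by
      rw [hcc]
      field_simp
    have hdeg := apply_one_eq_charDegree ψ
    rw [hψz, hdeg, hk, hm]
    have : (m : ℂ) * (((p * k : ℕ) : ℂ) * centralChar (ψ : K → ℂ) z)
        = ((m : ℂ) * (k : ℂ) * centralChar (ψ : K → ℂ) z) * ((p : AlgInt) : ℂ) := by
      push_cast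
      ring
    rw [this]
    apply memLocalIdeal_mul_integral
    · apply memLocalIdeal_of_mem _ hMtop
      exact (natCast_mem_iff hM p).mpr dvd_rfl
    · apply IsIntegral.mul
      · apply IsIntegral.mul
        · exact isIntegral_algebraMap (R := ℤ) (A := ℂ) (x := (m : ℤ)) |> fun h => by simpa using h
        · exact isIntegral_algebraMap (R := ℤ) (A := ℂ) (x := (k : ℤ)) |> fun h => by simpa using h
      · exact hint

/-- A character of a `p`-group of degree prime to `p` has a linear constituent. -/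
theorem exists_linear_constituent_pgroup {P : Type*} [Group P] [Fintype P] {p : ℕ}
    [hp : Fact p.Prime] (hP : IsPGroup p P) {ζ : P → ℂ} (hζ : IsCharacter P ζ) (n : ℕ)
    (hn : ζ 1 = n) (hpn : ¬ p ∣ n) :
    ∃ μ : IrrCharacter P, (μ : P → ℂ) 1 = 1 ∧ classInner ζ (μ : P → ℂ) ≠ 0 := by
  classical
  by_contra hcon
  push Not at hcon
  apply hpn
  have hdec := isCharacter_eq_sum_classInner hζ
  obtain ⟨e, he⟩ := IsPGroup.iff_card.mp hP
  have hterm : ∀ μ : IrrCharacter P, ∃ t : ℕ,
      classInner ζ (μ : P → ℂ) * (μ : P → ℂ) 1 = ((p * t : ℕ) : ℂ) := by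
    intro μ
    obtain ⟨m, hm⟩ := exists_nat_classInner_of_isCharacter hζ μ
    obtain ⟨d, hd1, hd2, hd3⟩ := irr_degree_dvd_card μ.2
    by_cases h0 : classInner ζ (μ : P → ℂ) = 0
    · exact ⟨0, by rw [h0]; simp⟩
    · have hne : (μ : P → ℂ) 1 ≠ 1 := fun h => h0 (hcon μ h)
      rw [he] at hd2
      obtain ⟨j, hj, hdj⟩ := (Nat.dvd_prime_pow hp.out).mp hd2
      have hj0 : j ≠ 0 := by
        intro hj0
        apply hne
        rw [hd1, hdj, hj0]
        simp
      obtain ⟨j', rfl⟩ := Nat.exists_eq_succ_of_ne_zero hj0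
      refine ⟨m * p ^ j', ?_⟩
      rw [hm, hd1, hdj, pow_succ]
      push_cast
      ring
  choose t ht using hterm
  have hval : ζ 1 = ∑ μ : IrrCharacter P, classInner ζ (μ : P → ℂ) * (μ : P → ℂ) 1 := by
    conv_lhs => rw [hdec]
    rw [Finset.sum_apply]
    apply Finset.sum_congr rfl
    intro μ _
    rfl
  rw [hn] at hval
  have h2 : (n : ℂ) = ((p * ∑ μ : IrrCharacter P, t μ : ℕ) : ℂ) := by
    rw [hval, Finset.mul_sum]
    push_cast
    apply Finset.sum_congr rfl
    intro μ _
    rw [ht μ]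
    push_cast
    ring
  have h3 : n = p * ∑ μ : IrrCharacter P, t μ := by exact_mod_cast h2
  exact ⟨_, h3⟩

/-- Constituents of the restriction of a constituent are constituents of the restriction. -/
theorem classInner_restrict_ne_zero_of_constituent {K : Type*} [Group K] [Fintype K]
    (H : Subgroup K) [Fintype H] {ζ : K → ℂ} (hζ : IsCharacter K ζ) (ψ : IrrCharacter K)
    (hψ : classInner ζ (ψ : K → ℂ) ≠ 0) (μ : IrrCharacter H)
    (hμ : classInner (fun h : H => (ψ : K → ℂ) h) (μ : H → ℂ) ≠ 0) :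
    classInner (fun h : H => ζ h) (μ : H → ℂ) ≠ 0 := by
  classical
  have hsub := isCharacter_sub_of_classInner_ne_zero hζ ψ hψ
  have hr1 := isCharacter_restrict hsub H
  have hr2 := isCharacter_restrict (isCharacter_of_isIrrCharacter ψ.2) H
  obtain ⟨a, ha⟩ := exists_nat_classInner_of_isCharacter hr1 μ
  obtain ⟨b, hb⟩ := exists_nat_classInner_of_isCharacter hr2 μ
  have hsplit : (fun h : H => ζ h) = (fun h : H => (ζ - (ψ : K → ℂ)) h)
      + (fun h : H => (ψ : K → ℂ) h) := by
    funext h
    simp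
  rw [hsplit, classInner_add_left, ha, hb]
  have hb0 : b ≠ 0 := by
    intro h
    apply hμ
    rw [hb, h]
    simp
  have : a + b ≠ 0 := by omega
  exact_mod_cast this

/-- If `x` acts on `χ` as the scalar `ω`, every linear constituent of a restriction takes the
value `ω` at `x`. -/
theorem linear_constituent_apply_of_scalar {K : Type*} [Group K] (H : Subgroup K) [Fintype H]
    (χ : K → ℂ) (μ : H → ℂ) (hμ : IsCharacter H μ) (hμ1 : μ 1 = 1)
    (hne : classInner (fun h : H => χ h) μ ≠ 0) (x : H) (ω : ℂ)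
    (hx : ∀ y : K, χ (y * x) = ω * χ y) : μ x = ω := by
  classical
  haveI : Finite H := Finite.of_fintype H
  have hmul := Cfsg.Agent.Lib.helper3.Lin.map_mul_of_apply_one_eq_one hμ hμ1
  have hpow : μ x ^ orderOf x = 1 :=
    Cfsg.Agent.Lib.helper3.Lin.pow_eq_one_of_linear hμ hμ1 x _ (pow_orderOf_eq_one x)
  have hpos : 0 < orderOf x := orderOf_pos x
  have hinv : (μ x)⁻¹ = conj (μ x) := inv_eq_conj_of_pow_eq_one hpos hpow
  have hμx0 : μ x ≠ 0 := by
    intro h
    rw [h, zero_pow hpos.ne'] at hpow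
    exact zero_ne_one hpow
  have hsum : ∑ y : H, χ (y : K) * conj (μ y)
      = ∑ y : H, χ ((y * x : H) : K) * conj (μ (y * x)) :=
    (Fintype.sum_equiv (Equiv.mulRight x) _ _ (fun _ => rfl)).symm
  have hsum2 : ∑ y : H, χ ((y * x : H) : K) * conj (μ (y * x))
      = (ω * conj (μ x)) * ∑ y : H, χ (y : K) * conj (μ y) := by
    rw [Finset.mul_sum]
    apply Finset.sum_congr rfl
    intro y _
    rw [Subgroup.coe_mul, hx, hmul, map_mul]
    ring
  have hS : ∑ y : H, χ (y : K) * conj (μ y) ≠ 0 := by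
    intro h
    apply hne
    unfold classInner
    rw [h, mul_zero]
  rw [hsum2] at hsum
  have h1 : ω * conj (μ x) = 1 := by
    have : (1 - ω * conj (μ x)) * ∑ y : H, χ (y : K) * conj (μ y) = 0 := by
      rw [sub_mul, one_mul, ← hsum, sub_self]
    rcases mul_eq_zero.mp this with h | h
    · exact (sub_eq_zero.mp h).symm
    · exact absurd h hS
  rw [← hinv] at h1
  field_simp at h1
  exact h1.symm

end Cfsg.Agent.Lib.helper3.HtZeroLin
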