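import Mathlib

set_option autoImplicit false
set_option linter.style.haveILetI false
set_option linter.unusedSectionVars false

/-!
# Orbit sums and orthogonality for the dual of a finite abelian group
-/

namespace Cfsg.Agent.Lib.helper3.UniqueP

/-- If the sum of `f` over every free orbit lies in `I` and `f x ∈ I` at every point with a
nontrivial stabilizer, the total sum lies in `I`. -/
theorem sum_mem_of_orbits {Γ X M : Type*} [Group Γ] [Fintype Γ] [MulAction Γ X] [Fintype X]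
    [AddCommMonoid M] (I : AddSubmonoid M) (f : X → M)
    (hfree : ∀ x : X, (∀ γ : Γ, γ • x = x → γ = 1) → ∑ γ : Γ, f (γ • x) ∈ I)
    (hfix : ∀ x : X, (∃ γ : Γ, γ ≠ 1 ∧ γ • x = x) → f x ∈ I) :
    ∑ x, f x ∈ I := by
  classical
  set e := MulAction.selfEquivSigmaOrbits Γ X with he
  rw [← Equiv.sum_comp e.symm, Fintype.sum_sigma]
  apply AddSubmonoid.sum_mem
  intro ω _
  set x := Quotient.out ω with hx
  have hval : ∀ y : MulAction.orbit Γ x, e.symm ⟨ω, y⟩ = (y : X) := fun y => rfl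
  simp only [hval]
  by_cases hfr : ∀ γ : Γ, γ • x = x → γ = 1
  · have hbij : Function.Bijective
        (fun γ : Γ => (⟨γ • x, MulAction.mem_orbit _ _⟩ : MulAction.orbit Γ x)) := by
      constructor
      · intro γ γ' h
        have h1 : γ • x = γ' • x := congrArg Subtype.val h
        have h2 : (γ'⁻¹ * γ) • x = x := by
          rw [mul_smul, h1, inv_smul_smul]
        have h3 := hfr _ h2
        have : γ = γ' * (γ'⁻¹ * γ) := by group
        rw [this, h3, mul_one]
      · intro y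
        obtain ⟨γ, hγ⟩ := y.2
        exact ⟨γ, Subtype.ext hγ⟩
    have hsum := (Equiv.ofBijective _ hbij).sum_comp (fun y : MulAction.orbit Γ x => f (y : X))
    rw [← hsum]
    exact hfree x hfr
  · push Not at hfr
    obtain ⟨γ, hγx, hγ1⟩ := hfr
    apply AddSubmonoid.sum_mem
    intro y _
    obtain ⟨g, hg⟩ := y.2
    apply hfix
    refine ⟨g * γ * g⁻¹, ?_, ?_⟩
    · intro h
      apply hγ1
      have : γ = g⁻¹ * (g * γ * g⁻¹) * g := by group
      rw [this, h]
      group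
    · have hg' : g • x = (y : X) := hg
      rw [← hg', mul_smul, mul_smul, inv_smul_smul, hγx]

section dual

theorem card_dual_comm (Q : Type*) [CommGroup Q] [Finite Q] : Nat.card (Q →* ℂˣ) = Nat.card Q :=
  CommGroup.card_monoidHom_of_hasEnoughRootsOfUnity Q ℂ

theorem finite_dual_comm (Q : Type*) [CommGroup Q] [Finite Q] : Finite (Q →* ℂˣ) := by
  apply Nat.finite_of_card_ne_zero
  rw [card_dual_comm]
  exact Nat.card_pos.ne'

/-- Orthogonality: the values at `q ≠ 1` of all the characters of a finite abelian group sum to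
zero. -/
theorem sum_dual_apply_comm {Q : Type*} [CommGroup Q] [Finite Q] [Fintype (Q →* ℂˣ)] (q : Q) :
    (q = 1 → ∑ lam : Q →* ℂˣ, ((lam q : ℂˣ) : ℂ) = (Nat.card Q : ℂ)) ∧
    (q ≠ 1 → ∑ lam : Q →* ℂˣ, ((lam q : ℂˣ) : ℂ) = 0) := by
  classical
  constructor
  · intro hq
    rw [hq]
    simp only [map_one, Units.val_one, Finset.sum_const, Finset.card_univ, nsmul_eq_mul, mul_one]
    rw [← Nat.card_eq_fintype_card, card_dual_comm]
  · intro hq
    obtain ⟨φ, hφ⟩ := CommGroup.exists_apply_ne_one_of_hasEnoughRootsOfUnity Q ℂ hq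
    have h1 : ∑ lam : Q →* ℂˣ, ((lam q : ℂˣ) : ℂ)
        = ((φ q : ℂˣ) : ℂ) * ∑ lam : Q →* ℂˣ, ((lam q : ℂˣ) : ℂ) := by
      rw [Finset.mul_sum]
      rw [← Equiv.sum_comp (Equiv.mulLeft φ)]
      apply Finset.sum_congr rfl
      intro lam _
      simp [MonoidHom.mul_apply]
    have h2 : (1 - ((φ q : ℂˣ) : ℂ)) * ∑ lam : Q →* ℂˣ, ((lam q : ℂˣ) : ℂ) = 0 := by
      rw [sub_mul, one_mul, ← h1, sub_self]
    rcases mul_eq_zero.1 h2 with h | h
    · exfalso
      apply hφ
      have : ((φ q : ℂˣ) : ℂ) = 1 := (sub_eq_zero.1 h).symm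
      exact Units.ext this
    · exact h

/-- Versions for a group with a proof of commutativity. -/
theorem finite_dual (Q : Type*) [Group Q] [Finite Q] (hcomm : ∀ a b : Q, a * b = b * a) :
    Finite (Q →* ℂˣ) := by
  letI : CommGroup Q := { (inferInstance : Group Q) with mul_comm := hcomm }
  exact finite_dual_comm Q

theorem sum_dual_apply {Q : Type*} [Group Q] [Finite Q] (hcomm : ∀ a b : Q, a * b = b * a)
    [Fintype (Q →* ℂˣ)] (q : Q) :
    (q = 1 → ∑ lam : Q →* ℂˣ, ((lam q : ℂˣ) : ℂ) = (Nat.card Q : ℂ)) ∧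
    (q ≠ 1 → ∑ lam : Q →* ℂˣ, ((lam q : ℂˣ) : ℂ) = 0) := by
  letI : CommGroup Q := { (inferInstance : Group Q) with mul_comm := hcomm }
  exact sum_dual_apply_comm q

end dual

/-- If `k * a = m` with `a` an algebraic integer and `k ≠ 0`, `m` natural numbers, then `k ∣ m`. -/
theorem nat_dvd_of_eq_mul_isIntegral {m k : ℕ} (hk : k ≠ 0) {a : ℂ} (ha : IsIntegral ℤ a)
    (h : (m : ℂ) = (k : ℂ) * a) : k ∣ m := by
  have hkC : (k : ℂ) ≠ 0 := by exact_mod_cast hk
  have haq : a = (((m : ℚ) / (k : ℚ) : ℚ) : ℂ) := by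
    push_cast
    field_simp
    rw [h]
    ring
  rw [haq] at ha
  have h1 : IsIntegral ℤ ((m : ℚ) / (k : ℚ) : ℚ) := by
    have : ((((m : ℚ) / (k : ℚ) : ℚ)) : ℂ) = algebraMap ℚ ℂ ((m : ℚ) / (k : ℚ)) := rfl
    rw [this] at ha
    exact (isIntegral_algebraMap_iff (algebraMap ℚ ℂ).injective).mp ha
  obtain ⟨z, hz⟩ := IsIntegrallyClosed.isIntegral_iff.mp h1
  have hkQ : (k : ℚ) ≠ 0 := by exact_mod_cast hk
  have h2 : (m : ℚ) = (k : ℚ) * (z : ℚ) := by
    have : (algebraMap ℤ ℚ) z = (z : ℚ) := rfl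
    rw [this] at hz
    rw [hz]
    field_simp
  have h3 : (m : ℤ) = (k : ℤ) * z := by exact_mod_cast h2
  have h4 : (k : ℤ) ∣ (m : ℤ) := ⟨z, h3⟩
  exact Int.natCast_dvd_natCast.1 h4

end Cfsg.Agent.Lib.helper3.UniqueP
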