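import Mathlib
import Cfsg.Prelude.Def_Characters
import Cfsg.Prelude.Def_Blocks
import Cfsg.Agent.Lib.helper3.Clifford2
import Cfsg.Agent.Lib.helper3.Irr11
import Cfsg.Agent.Lib.helper3.Irr16
import Cfsg.Agent.Lib.helper3.Lin
import Cfsg.Agent.Lib.helper3.UniqueP1
import Cfsg.Agent.Lib.helper3.Pdeg2

/-!
# The kernel of the characters of `p'`-degree, I

* `dvd_sum_of_orbits_ring` : weighted orbit counting in a commutative ring;
* `apply_eq_of_trivial_constituent` : a trivial constituent on a normal subgroup puts it in the kernel;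
* `apply_eq_of_inf_centralizer_eq_bot` : a normal subgroup in which a Sylow `p`-subgroup has trivial
  centralizer lies in the kernel of every irreducible character of `p'`-degree.
-/

set_option autoImplicit false
set_option linter.style.haveILetI false
set_option linter.unusedSectionVars false

namespace Cfsg.Agent.Lib.helper3.PKer

open Cfsg Module Cfsg.Agent.Lib.helper3.Irr Cfsg.Agent.Lib.helper3.CharBasic
open Cfsg.Agent.Lib.helper3.IndFun Cfsg.Agent.Lib.helper3.Lin Cfsg.Agent.Lib.helper3.UniqueP
open Cfsg.Agent.Lib.helper3.Pdeg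
open scoped ComplexConjugate

/-- Weighted orbit counting in a commutative ring: if all orbits have `p`-power size and the weight
of every fixed point is divisible by `p`, so is the total weight. -/
theorem dvd_sum_of_orbits_ring {Γ X R : Type*} [Group Γ] [MulAction Γ X] [Fintype X] [CommRing R]
    (p : ℕ) (w : X → R)
    (hw : ∀ (g : Γ) (x : X), w (g • x) = w x)
    (horb : ∀ x : X, ∃ n : ℕ, Nat.card (MulAction.orbit Γ x) = p ^ n)
    (hfix : ∀ x : X, (∀ g : Γ, g • x = x) → (p : R) ∣ w x) :
    (p : R) ∣ ∑ x, w x := by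
  classical
  set e := MulAction.selfEquivSigmaOrbits Γ X with he
  rw [← Equiv.sum_comp e.symm, Fintype.sum_sigma]
  apply Finset.dvd_sum
  intro ω _
  set x := Quotient.out ω with hx
  have h1 : ∀ y : MulAction.orbit Γ x, w (e.symm ⟨ω, y⟩) = w x := by
    intro y
    obtain ⟨g, hg⟩ := y.2
    have : e.symm ⟨ω, y⟩ = (y : X) := rfl
    rw [this, ← hg]
    exact hw g x
  rw [Finset.sum_congr rfl (fun y _ => h1 y), Finset.sum_const, Finset.card_univ, nsmul_eq_mul]
  obtain ⟨n, hn⟩ := horb x
  rw [Nat.card_eq_fintype_card] at hn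
  rcases Nat.eq_zero_or_pos n with h0 | hpos
  · apply Dvd.dvd.mul_left
    apply hfix
    intro g
    rw [h0, pow_zero, Fintype.card_eq_one_iff] at hn
    obtain ⟨z, hz⟩ := hn
    have h2 := hz ⟨g • x, MulAction.mem_orbit _ _⟩
    have h3 := hz ⟨x, MulAction.mem_orbit_self _⟩
    have := h2.trans h3.symm
    exact congrArg Subtype.val this
  · apply Dvd.dvd.mul_right
    rw [hn]
    push_cast
    exact dvd_pow_self _ hpos.ne'

variable {G : Type*} [Group G]

/-- If the trivial character is a constituent of the restriction of the irreducible character `χ`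
to the normal subgroup `N`, then `N` lies in the kernel of `χ`. -/
theorem apply_eq_of_trivial_constituent [Fintype G] (N : Subgroup G) [hN : N.Normal] [Fintype N]
    (χ : G → ℂ) (hχ : IsIrrCharacter G χ)
    (h : classInner (fun n : N => χ n) (fun _ => (1 : ℂ)) ≠ 0) : ∀ n ∈ N, χ n = χ 1 := by
  classical
  have hcl := clifford N χ hχ (fun _ => (1 : ℂ)) isIrrCharacter_one h
  have hset : {ψ : N → ℂ | ∃ g : G, ψ = fun n : N => (1 : ℂ)} = {fun _ => (1 : ℂ)} := by
    ext ψ
    simp only [Set.mem_setOf_eq, exists_const, Set.mem_singleton_iff]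
  rw [hset, finsum_mem_singleton] at hcl
  intro n hn
  have h1 := congrFun hcl ⟨n, hn⟩
  have h2 := congrFun hcl 1
  simp only [Pi.smul_apply, smul_eq_mul, mul_one] at h1 h2
  have h2' : χ 1 = classInner (fun n : N => χ n) (fun _ => (1 : ℂ)) := h2
  rw [h2']
  exact h1

/-- **Lemma A**: a normal subgroup `N` with `N ∩ C_G(P) = 1` lies in the kernel of every irreducible
character of degree prime to `p`. -/
theorem apply_eq_of_inf_centralizer_eq_bot [Finite G] (p : ℕ) [hp : Fact p.Prime] (P : Sylow p G)
    (N : Subgroup G) [hN : N.Normal]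
    (hNC : N ⊓ Subgroup.centralizer ((P : Subgroup G) : Set G) = ⊥)
    (χ : IrrCharacter G) (hdeg : ¬ p ∣ charDegree (χ : G → ℂ)) :
    ∀ n ∈ N, (χ : G → ℂ) n = (χ : G → ℂ) 1 := by
  classical
  letI : Fintype G := Fintype.ofFinite G
  letI : Fintype N := Fintype.ofFinite N
  have hχc := isCharacter_of_isIrrCharacter χ.2
  have hcf := isClassFunction_of_isCharacter hχc
  obtain ⟨d, hd, -, -⟩ := Cfsg.Agent.Lib.helper3.Central.irr_degree_dvd_card χ.2
  rw [charDegree_eq' hd] at hdeg
  apply apply_eq_of_trivial_constituent N (χ : G → ℂ) χ.2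
  obtain ⟨m, hm⟩ := exists_nat_classInner_of_isCharacter_of_isCharacter
    (isCharacter_restrict hχc N) (isCharacter_one (G := N))
  rw [hm]
  intro hm0
  have hm0' : m = 0 := by exact_mod_cast hm0
  -- the sum of `χ` over `N` vanishes
  have hsum0 : ∑ x : N, (χ : G → ℂ) x = 0 := by
    have h1 : classInner (fun n : N => (χ : G → ℂ) n) (fun _ => (1 : ℂ)) = 0 := by
      rw [hm, hm0']; simp
    rw [classInner_apply] at h1
    simp only [map_one, mul_one] at h1
    rcases mul_eq_zero.mp h1 with h2 | h2
    · exfalso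
      have : (Nat.card N : ℂ) ≠ 0 := by
        exact_mod_cast (Nat.card_pos (α := N)).ne'
      exact this (inv_eq_zero.mp h2)
    · exact h2
  -- orbit counting for the conjugation action of `P` on `N`
  letI : MulAction (P : Subgroup G) N :=
    MulAction.compHom N ((MulAut.conjNormal (H := N)).comp (P : Subgroup G).subtype)
  have hsmul : ∀ (u : (P : Subgroup G)) (n : N), ((u • n : N) : G) = (u : G) * n * (u : G)⁻¹ := by
    intro u n
    show ((MulAut.conjNormal (u : G) n : N) : G) = _
    rw [MulAut.conjNormal_apply]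
  let R := integralClosure ℤ ℂ
  let w : N → R := fun x => if x = 1 then 0 else ⟨(χ : G → ℂ) x, isIntegral_of_isCharacter hχc x⟩
  have hdvd : ((p : ℕ) : R) ∣ ∑ x : N, w x := by
    apply dvd_sum_of_orbits_ring (Γ := (P : Subgroup G)) p w
    · intro u x
      have hiff : u • x = 1 ↔ x = 1 := by
        constructor
        · intro h
          have h1 := hsmul u x
          rw [h, Subgroup.coe_one] at h1
          apply Subtype.ext
          rw [Subgroup.coe_one]
          have : (x : G) = (u : G)⁻¹ * ((u : G) * x * (u : G)⁻¹) * (u : G) := by group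
          rw [this, ← h1]
          group
        · rintro rfl
          apply Subtype.ext
          rw [hsmul, Subgroup.coe_one]
          group
      show (if u • x = 1 then (0 : R) else _) = if x = 1 then (0 : R) else _
      by_cases hx : x = 1
      · rw [if_pos hx, if_pos (hiff.2 hx)]
      · rw [if_neg hx, if_neg (fun h => hx (hiff.1 h))]
        apply Subtype.ext
        show (χ : G → ℂ) ((u • x : N) : G) = (χ : G → ℂ) x
        rw [hsmul]
        exact hcf (x : G) (u : G)
    · intro x
      have h1 : Nat.card (MulAction.orbit (P : Subgroup G) x) ∣ Nat.card (P : Subgroup G) := by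
        rw [Nat.card_coe_set_eq, ← MulAction.index_stabilizer]
        exact Subgroup.index_dvd_card _
      obtain ⟨k, hk⟩ := IsPGroup.iff_card.1 P.isPGroup'
      rw [hk] at h1
      obtain ⟨j, -, hj⟩ := (Nat.dvd_prime_pow hp.out).1 h1
      exact ⟨j, hj⟩
    · intro x hx
      have hx1 : x = 1 := by
        have hxC : (x : G) ∈ N ⊓ Subgroup.centralizer ((P : Subgroup G) : Set G) := by
          refine Subgroup.mem_inf.2 ⟨x.2, ?_⟩
          rw [Subgroup.mem_centralizer_iff]
          intro u hu
          have h1 := hsmul ⟨u, hu⟩ x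
          rw [hx ⟨u, hu⟩] at h1
          show u * (x : G) = (x : G) * u
          calc u * (x : G) = u * (x : G) * u⁻¹ * u := by group
            _ = (x : G) * u := by rw [← h1]
        rw [hNC, Subgroup.mem_bot] at hxC
        exact Subtype.ext hxC
      show ((p : ℕ) : R) ∣ (if x = 1 then (0 : R) else _)
      rw [if_pos hx1]
      exact dvd_zero _
  obtain ⟨β, hβ⟩ := hdvd
  -- the sum of `w` is the sum of `χ` over `N` minus `χ 1`
  have hsumw : ((∑ x : N, w x : R) : ℂ) = ∑ x : N, (χ : G → ℂ) x - (χ : G → ℂ) 1 := by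
    rw [AddSubmonoidClass.coe_finsetSum]
    rw [eq_sub_iff_add_eq]
    rw [← Finset.add_sum_erase Finset.univ (fun x : N => (χ : G → ℂ) x) (Finset.mem_univ (1 : N))]
    rw [← Finset.add_sum_erase Finset.univ (fun x : N => ((w x : R) : ℂ)) (Finset.mem_univ (1 : N))]
    have hw1 : ((w 1 : R) : ℂ) = 0 := by
      show (((if (1 : N) = 1 then (0 : R) else _) : R) : ℂ) = 0
      rw [if_pos rfl]
      rfl
    rw [hw1, zero_add, add_comm]
    congr 1
    apply Finset.sum_congr rfl
    intro x hx
    have hx1 : x ≠ 1 := Finset.ne_of_mem_erase hx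
    show (((if x = 1 then (0 : R) else _) : R) : ℂ) = _
    rw [if_neg hx1]
  rw [hsum0, zero_sub, hβ] at hsumw
  -- so `p ∣ d`
  apply hdeg
  have hβint : IsIntegral ℤ (-(β : ℂ)) := (β.2).neg
  apply nat_dvd_of_eq_mul_isIntegral hp.out.ne_zero hβint
  rw [← hd]
  have h5 : ((((p : ℕ) : R) * β : R) : ℂ) = (p : ℂ) * (β : ℂ) := by
    push_cast
    rfl
  rw [h5] at hsumw
  linear_combination hsumw
end Cfsg.Agent.Lib.helper3.PKer
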