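import Mathlib
import Cfsg.Prelude.Def_Characters
import Cfsg.Prelude.Def_Blocks
import Cfsg.Agent.Lib.helper3.PKer1
import Cfsg.Agent.Lib.helper3.HtZeroLin1
import Cfsg.Agent.Lib.helper3.Inflate2
import Cfsg.Agent.Lib.helper3.Irr8
import Cfsg.Agent.Lib.helper3.Gallagher3
import Cfsg.Agent.Lib.helper3.TransferChar

/-!
# The kernel of the characters of `p'`-degree, II

* `kerP` : the intersection of the kernels of the irreducible characters of degree prime to `p`;
* `apply_eq_of_le_commutator_sylow` : a normal subgroup inside `P'` lies in `kerP`;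
* `mem_commutator_of_mem_kerP` : `kerP ∩ P ≤ P'`.
-/

set_option autoImplicit false
set_option linter.style.haveILetI false
set_option linter.unusedSectionVars false

namespace Cfsg.Agent.Lib.helper3.PKer

open Cfsg Module Cfsg.Agent.Lib.helper3.Irr Cfsg.Agent.Lib.helper3.CharBasic
open Cfsg.Agent.Lib.helper3.IndFun Cfsg.Agent.Lib.helper3.Lin Cfsg.Agent.Lib.helper3.UniqueP
open Cfsg.Agent.Lib.helper3.Pdeg Cfsg.Agent.Lib.helper3.HtZeroLin
open scoped ComplexConjugate commutatorElement

variable {G : Type*} [Group G]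

theorem commutator_self_le (H : Subgroup G) : ⁅H, H⁆ ≤ H := by
  rw [Subgroup.commutator_le]
  intro a ha b hb
  rw [commutatorElement_def]
  exact H.mul_mem (H.mul_mem (H.mul_mem ha hb) (H.inv_mem ha)) (H.inv_mem hb)

/-- The intersection of the kernels of the irreducible characters of degree prime to `p`. -/
def kerP (p : ℕ) (G : Type*) [Group G] [Finite G] : Subgroup G where
  carrier := {g | ∀ χ : IrrCharacter G, ¬ p ∣ charDegree (χ : G → ℂ) →
    (χ : G → ℂ) g = (χ : G → ℂ) 1}
  mul_mem' := by
    intro a b ha hb χ hχ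
    rw [apply_mul_of_apply_eq_one (isCharacter_of_isIrrCharacter χ.2) (hb χ hχ) a]
    exact ha χ hχ
  one_mem' := fun _ _ => rfl
  inv_mem' := by
    intro a ha χ hχ
    have := apply_mul_of_apply_eq_one (isCharacter_of_isIrrCharacter χ.2) (ha χ hχ) a⁻¹
    rw [inv_mul_cancel] at this
    exact this.symm

theorem mem_kerP [Finite G] (p : ℕ) (g : G) :
    g ∈ kerP p G ↔ ∀ χ : IrrCharacter G, ¬ p ∣ charDegree (χ : G → ℂ) →
      (χ : G → ℂ) g = (χ : G → ℂ) 1 := Iff.rfl

instance kerP_normal [Finite G] (p : ℕ) : (kerP p G).Normal := by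
  constructor
  intro n hn g χ hχ
  have hcf := isClassFunction_of_isCharacter (isCharacter_of_isIrrCharacter χ.2)
  rw [hcf n g]
  exact hn χ hχ

/-- A character of degree prime to `p` has an irreducible constituent of degree prime to `p`. -/
theorem exists_constituent_pdeg [Fintype G] (p : ℕ) [hp : Fact p.Prime] {ζ : G → ℂ}
    (hζ : IsCharacter G ζ) (n : ℕ) (hn : ζ 1 = n) (hpn : ¬ p ∣ n) :
    ∃ χ : IrrCharacter G, classInner ζ (χ : G → ℂ) ≠ 0 ∧ ¬ p ∣ charDegree (χ : G → ℂ) := by
  classical
  by_contra hcon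
  push Not at hcon
  apply hpn
  have hdec := congrFun (isCharacter_eq_sum_classInner hζ) 1
  simp only [Finset.sum_apply, Pi.smul_apply, smul_eq_mul] at hdec
  choose m hm using fun χ : IrrCharacter G => exists_nat_classInner_of_isCharacter hζ χ
  choose deg hdeg using fun χ : IrrCharacter G =>
    Cfsg.Agent.Lib.helper3.Central.irr_degree_dvd_card χ.2
  have h1 : (n : ℂ) = ((∑ χ : IrrCharacter G, m χ * deg χ : ℕ) : ℂ) := by
    rw [← hn, hdec]
    push_cast
    apply Finset.sum_congr rfl
    intro χ _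
    rw [hm χ, (hdeg χ).1]
  have h2 : n = ∑ χ : IrrCharacter G, m χ * deg χ := by exact_mod_cast h1
  rw [h2]
  apply Finset.dvd_sum
  intro χ _
  by_cases h0 : m χ = 0
  · rw [h0, zero_mul]
    exact dvd_zero _
  · apply Dvd.dvd.mul_left
    have hne : classInner ζ (χ : G → ℂ) ≠ 0 := by
      rw [hm χ]
      exact_mod_cast h0
    have := hcon χ hne
    rwa [charDegree_eq' (hdeg χ).1] at this

/-- A normal subgroup contained in the derived subgroup of a Sylow `p`-subgroup lies in the kernel
of every irreducible character of degree prime to `p`. -/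
theorem apply_eq_of_le_commutator_sylow [Finite G] (p : ℕ) [hp : Fact p.Prime] (P : Sylow p G)
    (X : Subgroup G) [hX : X.Normal]
    (hXP : X ≤ ⁅(P : Subgroup G), (P : Subgroup G)⁆)
    (χ : IrrCharacter G) (hdeg : ¬ p ∣ charDegree (χ : G → ℂ)) :
    ∀ x ∈ X, (χ : G → ℂ) x = (χ : G → ℂ) 1 := by
  classical
  letI : Fintype G := Fintype.ofFinite G
  letI : Fintype X := Fintype.ofFinite X
  letI : Fintype (P : Subgroup G) := Fintype.ofFinite _
  have hχc := isCharacter_of_isIrrCharacter χ.2
  obtain ⟨d, hd, -, -⟩ := Cfsg.Agent.Lib.helper3.Central.irr_degree_dvd_card χ.2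
  rw [charDegree_eq' hd] at hdeg
  have hXP' : X ≤ (P : Subgroup G) := hXP.trans (commutator_self_le _)
  apply apply_eq_of_trivial_constituent X (χ : G → ℂ) χ.2
  -- the restriction to `P`
  have hresP : IsCharacter (P : Subgroup G) (fun u : (P : Subgroup G) => (χ : G → ℂ) u) :=
    isCharacter_restrict hχc _
  obtain ⟨lam, hlam1, hlamne⟩ := exists_linear_constituent_pgroup P.isPGroup' hresP d hd hdeg
  have hdec := isCharacter_eq_sum_classInner hresP
  choose m hm using fun μ : IrrCharacter (P : Subgroup G) =>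
    exists_nat_classInner_of_isCharacter hresP μ
  let ι : X →* (P : Subgroup G) := Subgroup.inclusion hXP'
  have hμc : ∀ μ : IrrCharacter (P : Subgroup G), IsCharacter X (fun x : X => (μ : _ → ℂ) (ι x)) :=
    fun μ => isCharacter_comp (isCharacter_of_isIrrCharacter μ.2) ι
  choose n hn using fun μ : IrrCharacter (P : Subgroup G) =>
    exists_nat_classInner_of_isCharacter_of_isCharacter (hμc μ) (isCharacter_one (G := X))
  have hX : (fun x : X => (χ : G → ℂ) x) =
      ∑ μ : IrrCharacter (P : Subgroup G), (m μ : ℂ) • (fun x : X => (μ : _ → ℂ) (ι x)) := by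
    funext x
    have h1 := congrFun hdec (ι x)
    simp only [Finset.sum_apply, Pi.smul_apply, smul_eq_mul] at h1 ⊢
    have h2 : (χ : G → ℂ) ((ι x : (P : Subgroup G)) : G) = (χ : G → ℂ) (x : G) := rfl
    rw [← h2, h1]
    apply Finset.sum_congr rfl
    intro μ _
    rw [hm μ]
  rw [hX, classInner_sum_left]
  simp_rw [classInner_smul_left, hn]
  have hcast : (∑ μ : IrrCharacter (P : Subgroup G), (m μ : ℂ) * (n μ : ℂ)) =
      ((∑ μ : IrrCharacter (P : Subgroup G), m μ * n μ : ℕ) : ℂ) := by
    push_cast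
    rfl
  rw [hcast]
  have hmlam : m lam ≠ 0 := by
    intro h0
    apply hlamne
    rw [hm lam, h0]
    simp
  have hnlam : n lam = 1 := by
    have h1 : (fun x : X => (lam : _ → ℂ) (ι x)) = fun _ => (1 : ℂ) := by
      funext x
      have hlc := isCharacter_of_isIrrCharacter lam.2
      have hmem : ι x ∈ commutator (P : Subgroup G) := by
        have h3 : ((ι x : (P : Subgroup G)) : G) ∈
            (commutator (P : Subgroup G)).map (P : Subgroup G).subtype := by
          rw [Subgroup.map_subtype_commutator]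
          exact hXP x.2
        obtain ⟨v, hv, hvu⟩ := h3
        have : v = ι x := Subtype.ext hvu
        rw [← this]
        exact hv
      have hker : ι x ∈ (toUnitsHom hlc hlam1).ker := Abelianization.commutator_subset_ker _ hmem
      rw [MonoidHom.mem_ker] at hker
      have h4 := toUnitsHom_apply hlc hlam1 (ι x)
      rw [hker] at h4
      rw [← h4]
      rfl
    have h2 := hn lam
    rw [h1, irr_classInner_self isIrrCharacter_one] at h2
    exact_mod_cast h2.symm
  have hle : m lam * n lam ≤ ∑ μ : IrrCharacter (P : Subgroup G), m μ * n μ :=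
    Finset.single_le_sum (f := fun μ => m μ * n μ) (fun _ _ => Nat.zero_le _) (Finset.mem_univ lam)
  rw [hnlam, mul_one] at hle
  have hpos : 0 < ∑ μ : IrrCharacter (P : Subgroup G), m μ * n μ :=
    lt_of_lt_of_le (Nat.pos_of_ne_zero hmlam) hle
  exact_mod_cast hpos.ne'

/-- An element of the Sylow `p`-subgroup `P` lying in the kernel of every irreducible character of
degree prime to `p` lies in the derived subgroup of `P`. -/
theorem mem_commutator_of_mem_kerP [Finite G] (p : ℕ) [hp : Fact p.Prime] (P : Sylow p G)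
    (g : G) (hgP : g ∈ (P : Subgroup G)) (hgK : g ∈ kerP p G) :
    g ∈ ⁅(P : Subgroup G), (P : Subgroup G)⁆ := by
  classical
  letI : Fintype G := Fintype.ofFinite G
  letI : Fintype (P : Subgroup G) := Fintype.ofFinite _
  by_contra hg
  have hg' : (⟨g, hgP⟩ : (P : Subgroup G)) ∉ commutator (P : Subgroup G) := by
    intro h
    apply hg
    rw [← Subgroup.map_subtype_commutator]
    exact ⟨⟨g, hgP⟩, h, rfl⟩
  have hne : (Abelianization.of (⟨g, hgP⟩ : (P : Subgroup G)) : Abelianization (P : Subgroup G)) ≠ 1 := by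
    intro h
    apply hg'
    rw [← Abelianization.ker_of, MonoidHom.mem_ker]
    exact h
  obtain ⟨φ, hφ⟩ := CommGroup.exists_apply_ne_one_of_hasEnoughRootsOfUnity
    (Abelianization (P : Subgroup G)) ℂ hne
  let f : (P : Subgroup G) →* ℂˣ := φ.comp Abelianization.of
  have hfg : f ⟨g, hgP⟩ ≠ 1 := hφ
  let lam : ↥(P : Subgroup G) → ℂ := fun u => ((f u : ℂˣ) : ℂ)
  have hlamc : IsCharacter (P : Subgroup G) lam := isCharacter_of_hom f
  have hlam1 : lam 1 = 1 := by simp [lam]
  have hind := isCharacter_indFun (P : Subgroup G) lam hlamc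
  have hind1 : indFun (P : Subgroup G) lam 1 = ((P : Subgroup G).index : ℂ) := by
    rw [indFun_apply_one, hlam1, mul_one]
  obtain ⟨χ, hχne, hχdeg⟩ := exists_constituent_pdeg p hind (P : Subgroup G).index hind1
    P.not_dvd_index
  have hχc := isCharacter_of_isIrrCharacter χ.2
  have hcf := isClassFunction_of_isCharacter hχc
  rw [frobenius_reciprocity (P : Subgroup G) lam _ hcf] at hχne
  apply hχne
  have hχg : (χ : G → ℂ) g = (χ : G → ℂ) 1 := hgK χ hχdeg
  rw [classInner_apply]
  -- shift the sum by `g`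
  set S := ∑ u : (P : Subgroup G), lam u * conj ((χ : G → ℂ) u) with hS
  have hshift : S = lam ⟨g, hgP⟩ * S := by
    rw [hS, Finset.mul_sum]
    rw [← Equiv.sum_comp (Equiv.mulRight (⟨g, hgP⟩ : (P : Subgroup G)))]
    apply Finset.sum_congr rfl
    intro u _
    simp only [Equiv.coe_mulRight]
    have h1 : lam (u * ⟨g, hgP⟩) = lam u * lam ⟨g, hgP⟩ := by
      simp only [lam, map_mul, Units.val_mul]
    have h2 : (χ : G → ℂ) ((u * ⟨g, hgP⟩ : (P : Subgroup G)) : G) = (χ : G → ℂ) (u : G) := by
      rw [Subgroup.coe_mul]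
      exact apply_mul_of_apply_eq_one hχc hχg (u : G)
    rw [h1, h2]
    ring
  have hlamg : lam ⟨g, hgP⟩ ≠ 1 := by
    intro h
    apply hfg
    apply Units.ext
    exact h
  have hS0 : S = 0 := by
    have h3 : (1 - lam ⟨g, hgP⟩) * S = 0 := by
      rw [sub_mul, one_mul, ← hshift, sub_self]
    rcases mul_eq_zero.mp h3 with h4 | h4
    · exfalso
      apply hlamg
      exact (sub_eq_zero.mp h4).symm
    · exact h4
  rw [hS0, mul_zero]

end Cfsg.Agent.Lib.helper3.PKer
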