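import Mathlib
import Cfsg.Prelude.Def_Characters
import Cfsg.Prelude.Def_CharExt
import Cfsg.Prelude.Def_Transfer
import Cfsg.Agent.Lib.helper3.PRes2
import Cfsg.Agent.Lib.helper3.FullyRam

set_option autoImplicit false
set_option linter.style.haveILetI false
set_option linter.unusedSectionVars false

/-!
# Restriction of characters of `p'`-degree to `O^p(G)`
-/

namespace Cfsg.Agent.Lib.helper3.PRes

open Cfsg Module Cfsg.Agent.Lib.helper3.Irr Cfsg.Agent.Lib.helper3.CharBasic
open Cfsg.Agent.Lib.helper3.Lin Cfsg.Agent.Lib.helper3.Det Cfsg.Agent.Lib.helper3.SolvExt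
open Cfsg.Agent.Lib.helper3.IndFun
open scoped ComplexConjugate

universe u

variable {G : Type u} [Group G]

/-- An irreducible character of `p'`-degree restricts irreducibly to `O^p(G)`. -/
theorem restrict_irr_pResidual [Finite G] (p : ℕ) (hp : p.Prime)
    (H : Subgroup G) [hHn : H.Normal] (hH : H = Cfsg.pResidual p G)
    (χ : G → ℂ) (hχ : IsIrrCharacter G χ) (dχ : ℕ) (hdχ : χ 1 = dχ) (hpd : ¬ p ∣ dχ) :
    IsIrrCharacter H (fun n : H => χ n) := by
  classical
  letI : Fintype G := Fintype.ofFinite G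
  letI : Fintype H := Fintype.ofFinite H
  letI : Fintype (G ⧸ H) := Fintype.ofFinite _
  obtain ⟨⟨k, hidx⟩, hcomm⟩ := pResidual_facts p hp H hH
  have hχc := isCharacter_of_isIrrCharacter hχ
  have hχcf := isClassFunction_of_isCharacter hχc
  obtain ⟨ψ, hcne, hψinv, d, hd, hpd'⟩ :=
    exists_invariant_constituent H p k hp hidx χ hχc dχ hdχ hpd
  obtain ⟨χ₀, ⟨hχ₀, hχ₀H, _⟩, _⟩ :=
    existsUnique_extension_pResidual p hp H hH (ψ : H → ℂ) ψ.2 hψinv d hd hpd'
  have hχ₀c := isCharacter_of_isIrrCharacter hχ₀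
  have hprodeq : ((fun _ : H => (1 : ℂ)) * (ψ : H → ℂ)) = (ψ : H → ℂ) := by
    funext n; simp
  obtain ⟨e, he, hind, hrig⟩ := gallagher_aux H (fun _ => 1) (ψ : H → ℂ)
    isIrrCharacter_one (fun _ _ => rfl) hψinv (by rw [hprodeq]; exact ψ.2)
    χ₀ hχ₀c (apply_one_ne_zero hχ₀) hχ₀H
  rw [hprodeq] at hind
  -- `χ` is a constituent of the induced character
  have hfr : classInner (indFun H (ψ : H → ℂ)) χ ≠ 0 := by
    rw [frobenius_reciprocity H _ χ hχcf, ← classInner_conj_symm]
    intro h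
    apply hcne
    have := congrArg conj h
    simpa using this
  rw [hind, classInner_sum_left] at hfr
  obtain ⟨β, _, hβ⟩ := Finset.exists_ne_zero_of_sum_ne_zero hfr
  rw [classInner_smul_left] at hβ
  have heβ : e β ≠ 0 := by
    intro h
    apply hβ
    rw [h]
    simp
  have hβχ : classInner ((β : G → ℂ) * χ₀) χ ≠ 0 := right_ne_zero_of_mul hβ
  have hβc := isCharacter_of_isIrrCharacter β.2
  have hirrβχ₀ : IsIrrCharacter G ((β : G → ℂ) * χ₀) :=
    isIrrCharacter_of_classInner_self_eq_one (isCharacter_mul hβc hχ₀c) (hrig β heβ).1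
  have hχeq : (β : G → ℂ) * χ₀ = χ := by
    by_contra hne
    apply hβχ
    rw [irr_classInner_eq hirrβχ₀ hχ, if_neg hne]
  -- `H` is in the kernel of `β`
  have hβcf := isClassFunction_of_isCharacter hβc
  have h1β : classInner (fun n : H => (β : G → ℂ) n) (fun _ : H => (1 : ℂ)) ≠ 0 := by
    have h1 := he β
    rw [frobenius_reciprocity H _ (β : G → ℂ) hβcf] at h1
    intro h
    apply heβ
    have h2 : classInner (fun _ : H => (1 : ℂ)) (fun n : H => (β : G → ℂ) n) = 0 := by
      rw [← classInner_conj_symm, h, map_zero]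
    rw [h2] at h1
    exact_mod_cast h1.symm
  have hβres := restrict_eq_smul_of_invariant H (β : G → ℂ) β.2 (fun _ => 1) isIrrCharacter_one h1β
    (fun _ _ => rfl)
  have hβconst : ∀ n : H, (β : G → ℂ) n = (β : G → ℂ) 1 := by
    intro n
    have e1 := congrFun hβres n
    have e2 := congrFun hβres 1
    simp only [Pi.smul_apply, smul_eq_mul, mul_one] at e1 e2
    rw [e1]
    exact e2.symm
  have hconst : ∀ g n : G, n ∈ H → (β : G → ℂ) (g * n) = (β : G → ℂ) g := by
    intro g n hn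
    exact apply_mul_of_apply_eq_one hβc (hβconst ⟨n, hn⟩) g
  obtain ⟨βq, hβq, hβeq⟩ := exists_eq_inflate β.2 H hconst
  obtain ⟨b, hb, hbdvd, hbpos⟩ := Cfsg.Agent.Lib.helper3.Central.irr_degree_dvd_card hβq
  have hβ1 : (β : G → ℂ) 1 = b := by
    rw [hβeq, inflate_apply, QuotientGroup.mk_one]
    exact hb
  have hcardq : Nat.card (G ⧸ H) = p ^ k := by
    rw [← Subgroup.index_eq_card]
    exact hidx
  rw [hcardq] at hbdvd
  obtain ⟨j, _, hj⟩ := (Nat.dvd_prime_pow hp).mp hbdvd
  have hdeg : dχ = b * d := by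
    have h1 : (dχ : ℂ) = (b : ℂ) * (d : ℂ) := by
      have h2 : χ₀ 1 = (d : ℂ) := by
        rw [← hd]
        exact hχ₀H 1
      rw [← hdχ, ← hχeq, Pi.mul_apply, hβ1, h2]
    exact_mod_cast h1
  have hb1 : b = 1 := by
    rcases Nat.eq_zero_or_pos j with h0 | hpos
    · rw [hj, h0, pow_zero]
    · exfalso
      apply hpd
      rw [hdeg, hj]
      exact Dvd.dvd.mul_right (dvd_pow_self p hpos.ne') d
  have hfinal : (fun n : H => χ n) = (ψ : H → ℂ) := by
    funext n
    rw [← hχeq, Pi.mul_apply, hβconst n, hβ1, hb1, hχ₀H n]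
    simp
  rw [hfinal]
  exact ψ.2

end Cfsg.Agent.Lib.helper3.PRes
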