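import Mathlib
import Cfsg.Prelude.Def_Characters
import Cfsg.Prelude.Def_Blocks
import Cfsg.Agent.Lib.helper3.BlockNil

/-!
# Transfer of nilpotency in the modular group algebra to central characters, and the central
character on a normal `p`-subgroup
-/

set_option autoImplicit false
set_option linter.style.haveILetI false
set_option linter.unusedSectionVars false

namespace Cfsg.Agent.Lib.helper3.Block

open Cfsg Module Cfsg.Agent.Lib.helper3.CharBasic Cfsg.Agent.Lib.helper3.Irr
open Cfsg.Agent.Lib.helper3.Central Cfsg.Agent.Lib.helper3.LocalM Cfsg.Agent.Lib.helper3.IndFun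
open Cfsg.Agent.Lib.helper3.GroupAlgNil
open scoped ComplexConjugate

variable {G : Type*} [Group G] [Fintype G]

/-- Powers of a Fourier family correspond to powers in the integral group ring. -/
theorem coef_pow_of_coeff (c : IrrCharacter G → ℂ) (a : MonoidAlgebra ℤ G)
    (h : ∀ y : G, coef c y = (a.coeff y : ℂ)) (n : ℕ) (z : G) :
    coef (c ^ n) z = (((a ^ n).coeff z : ℤ) : ℂ) := by
  classical
  induction n generalizing z with
  | zero =>
    rw [pow_zero, pow_zero]
    have : (1 : IrrCharacter G → ℂ) = fun _ => (1 : ℂ) := rfl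
    rw [this, coef_one, MonoidAlgebra.one_def, MonoidAlgebra.coeff_single, Finsupp.single_apply]
    by_cases h : z = 1
    · rw [if_pos h, if_pos h.symm]; simp
    · rw [if_neg h, if_neg (fun h' => h h'.symm)]; simp
  | succ n ih =>
    rw [pow_succ, pow_succ, coef_mul, MonoidAlgebra.coeff_mul_apply_left,
      Finsupp.sum_fintype _ _ (fun _ => zero_mul _)]
    push_cast
    apply Finset.sum_congr rfl
    intro x _
    rw [ih x, h]

variable {M : Ideal AlgInt}

/-- **Transfer.** If the family `c` has the coefficients of `a ∈ ℤ[G]`, the reduction of `a`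
modulo `p` is nilpotent and `c χ` is an algebraic integer, then `c χ` lies in the local ideal. -/
theorem memLocalIdeal_of_isNilpotent {p : ℕ} (hM : IsPModular p M)
    (c : IrrCharacter G → ℂ) (a : MonoidAlgebra ℤ G)
    (h : ∀ y : G, coef c y = (a.coeff y : ℂ))
    (hnil : IsNilpotent (MonoidAlgebra.mapRingHom G (Int.castRingHom (ZMod p)) a))
    (χ : IrrCharacter G) (hint : IsIntegral ℤ (c χ)) :
    MemLocalIdeal M (c χ) := by
  classical
  haveI : Fact p.Prime := ⟨hM.1⟩
  haveI hMp := isPrime_of_isPModular hM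
  have hMtop : M ≠ ⊤ := hM.2.1.ne_top
  obtain ⟨n, hn⟩ := hnil
  rw [← map_pow] at hn
  have hdvd : ∀ z : G, (p : ℤ) ∣ (a ^ n).coeff z := by
    intro z
    have h1 := congrArg (fun b : MonoidAlgebra (ZMod p) G => b.coeff z) hn
    simp only [MonoidAlgebra.coeff_mapRingHom, MonoidAlgebra.coeff_zero, Finsupp.coe_zero,
      Pi.zero_apply] at h1
    exact (ZMod.intCast_zmod_eq_zero_iff_dvd _ p).mp h1
  have hmem : MemLocalIdeal M ((c ^ n) χ) := by
    rw [← sum_coef_mul_div (c ^ n) χ]
    apply memLocalIdeal_sum_class_fun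
    · intro z t
      rw [coef_conj, isClassFunction_of_isCharacter (isCharacter_of_isIrrCharacter χ.2) z t]
    · intro z
      obtain ⟨t, ht⟩ := hdvd z
      have h1 : coef (c ^ n) z = (((p : AlgInt) * (t : AlgInt) : AlgInt) : ℂ) := by
        rw [coef_pow_of_coeff c a h, ht]
        push_cast
        rfl
      have h2 : MemLocalIdeal M (coef (c ^ n) z) := by
        rw [h1]
        exact memLocalIdeal_of_mem (M.mul_mem_right _ hM.2.2) hMtop
      have h3 := memLocalIdeal_mul_integral h2 (isIntegral_centralChar χ.2 z)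
      convert h3 using 1
      unfold centralChar
      ring
  rw [Pi.pow_apply] at hmem
  obtain ⟨w, hw⟩ : ∃ w : AlgInt, (w : ℂ) = c χ := ⟨⟨_, hint⟩, rfl⟩
  have hwn : ((w ^ n : AlgInt) : ℂ) = (c χ) ^ n := by
    push_cast
    rw [hw]
  rw [← hwn] at hmem
  have h4 : w ^ n ∈ M := mem_of_memLocalIdeal hmem
  have h5 : w ∈ M := hMp.mem_of_pow_mem n h4
  rw [← hw]
  exact memLocalIdeal_of_mem h5 hMtop

/-- On a normal `p`-subgroup the central character is congruent to the class size. -/
theorem memLocalIdeal_centralChar_sub_index {p : ℕ} (hM : IsPModular p M)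
    (P : Subgroup G) [hPn : P.Normal] (hP : IsPGroup p P) (g : G) (hg : g ∈ P)
    (χ : IrrCharacter G) :
    MemLocalIdeal M (centralChar (χ : G → ℂ) g
      - ((Subgroup.centralizer ({g} : Set G)).index : ℂ)) := by
  classical
  haveI : Fact p.Prime := ⟨hM.1⟩
  obtain ⟨k, hk⟩ : ∃ k : ℕ, k = (Subgroup.centralizer ({g} : Set G)).index := ⟨_, rfl⟩
  rw [← hk]
  obtain ⟨c, hc⟩ : ∃ c : IrrCharacter G → ℂ, c = (fun χ : IrrCharacter G =>
      centralChar (χ : G → ℂ) g) - (k : ℂ) • (fun _ : IrrCharacter G => (1 : ℂ)) := ⟨_, rfl⟩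
  have hcχ : c χ = centralChar (χ : G → ℂ) g - (k : ℂ) := by
    rw [hc]
    simp
  rw [← hcχ]
  apply memLocalIdeal_of_isNilpotent hM c (classSumZ g - (k : MonoidAlgebra ℤ G))
  · intro y
    have e1 : ((k : MonoidAlgebra ℤ G).coeff y : ℤ) = if y = 1 then (k : ℤ) else 0 := by
      rw [MonoidAlgebra.coeff_natCast, Finsupp.single_apply]
      by_cases h2 : y = 1
      · rw [if_pos h2, if_pos h2.symm]
      · rw [if_neg h2, if_neg (fun h' => h2 h'.symm)]
    rw [hc, coef_sub, coef_smul, coef_centralChar, coef_one, MonoidAlgebra.coeff_sub,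
      Finsupp.sub_apply, classSumZ_coeff, e1]
    push_cast
    split_ifs <;> simp
  · rw [map_sub, map_classSumZ, map_natCast]
    apply isNilpotent_of_central_of_kills_fixed p P hP
    · intro a
      rw [sub_mul, mul_sub, classSum_central g a]
      congr 1
      exact (Nat.cast_commute k a).eq
    · intro v hv
      rw [sub_mul, Finset.sum_mul]
      have h1 : ∀ x ∈ (Finset.univ : Finset {x : G // IsConj g x}),
          MonoidAlgebra.single (x : G) (1 : ZMod p) * v = v := by
        intro x _
        apply hv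
        obtain ⟨t, ht⟩ := isConj_iff.mp x.2
        rw [← ht]
        exact hPn.conj_mem g hg t
      rw [Finset.sum_congr rfl h1, Finset.sum_const, Finset.card_univ]
      have h2 : Fintype.card {x : G // IsConj g x} = k := by
        rw [hk, ← card_class_eq_index, Fintype.card_subtype]
      rw [h2, nsmul_eq_mul, sub_self]
  · rw [hcχ]
    apply IsIntegral.sub (isIntegral_centralChar χ.2 g)
    have : (k : ℂ) = algebraMap ℤ ℂ (k : ℤ) := by simp
    rw [this]
    exact isIntegral_algebraMap

end Cfsg.Agent.Lib.helper3.Block
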