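import Mathlib
import Cfsg.Prelude.Def_Blocks
import Cfsg.Agent.Lib.helper3.GalFix1
import Cfsg.Agent.Lib.helper3.GalPow2
import Cfsg.Agent.Lib.helper3.ProjVanish6
import Cfsg.Agent.Lib.helper3.BlockBasic

/-!
# The power map on irreducible characters and the principal block
-/

set_option autoImplicit false
set_option linter.style.haveILetI false
set_option linter.unusedSectionVars false

namespace Cfsg.Agent.Lib.helper3.GalFix

open Cfsg Cfsg.Agent.Lib.helper3.Irr Cfsg.Agent.Lib.helper3.CharBasic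
open Cfsg.Agent.Lib.helper3.IndFun Cfsg.Agent.Lib.helper3.GalPow Cfsg.Agent.Lib.helper3.LocalM
open Cfsg.Agent.Lib.helper3.Block
open scoped ComplexConjugate

variable {G : Type*} [Group G] [Fintype G] {M : Ideal AlgInt}

/-- `3 ^ (2 ^ a) ≡ 1` modulo `2 ^ a`. -/
theorem three_pow_modEq (a : ℕ) : 3 ^ (2 ^ a) ≡ 1 [MOD 2 ^ a] := by
  rcases Nat.eq_zero_or_pos a with h0 | h0
  · rw [h0, pow_zero]
    exact Nat.modEq_one
  · have hcop : Nat.Coprime 3 (2 ^ a) := Nat.Coprime.pow_right a (by norm_num)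
    have h1 := Nat.ModEq.pow_totient hcop
    rw [Nat.totient_prime_pow Nat.prime_two h0] at h1
    have h2 : (3 : ℕ) ^ (2 ^ a) = (3 ^ (2 ^ (a - 1) * (2 - 1))) ^ 2 := by
      rw [← pow_mul]
      congr 1
      have : a = (a - 1) + 1 := by omega
      conv_lhs => rw [this, pow_succ]
      norm_num
    rw [h2]
    have h3 := h1.pow 2
    simpa using h3

theorem pow_two_pow_modEq_one (n k' : ℕ)
    (h1 : k' ≡ 3 [MOD 2 ^ n.factorization 2]) (h2 : k' ≡ 1 [MOD ordCompl[2] n]) :
    k' ^ (2 ^ n.factorization 2) ≡ 1 [MOD n] := by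
  rcases Nat.eq_zero_or_pos n with hn0 | hn0
  · subst hn0
    simp at h2 ⊢
    have : k' = 1 := by
      simpa [Nat.ModEq] using h2
    rw [this]
  have hpm : ¬ 2 ∣ ordCompl[2] n := Nat.not_dvd_ordCompl Nat.prime_two hn0.ne'
  have hcop : Nat.Coprime (2 ^ n.factorization 2) (ordCompl[2] n) :=
    Nat.Coprime.pow_left _ ((Nat.Prime.coprime_iff_not_dvd Nat.prime_two).2 hpm)
  have e1 : k' ^ (2 ^ n.factorization 2) ≡ 1 [MOD 2 ^ n.factorization 2] :=
    (h1.pow _).trans (three_pow_modEq _)
  have e2 : k' ^ (2 ^ n.factorization 2) ≡ 1 [MOD ordCompl[2] n] := by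
    have := h2.pow (2 ^ n.factorization 2)
    simpa using this
  have e3 := (Nat.modEq_and_modEq_iff_modEq_mul hcop).1 ⟨e1, e2⟩
  rwa [Nat.ordProj_mul_ordCompl_eq_self] at e3

/-- The centralizer of a coprime power of `g` is the centralizer of `g`. -/
theorem centralizer_pow_eq (k' : ℕ) (hk' : k'.Coprime (Nat.card G)) (g : G) :
    Subgroup.centralizer ({g ^ k'} : Set G) = Subgroup.centralizer ({g} : Set G) := by
  ext h
  rw [Subgroup.mem_centralizer_singleton_iff, Subgroup.mem_centralizer_singleton_iff]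
  constructor
  · intro hc
    have hg : g = (g ^ k') ^ ((Nat.card G).gcdB k') := ((powCoprime hk'.symm).left_inv g).symm
    have hcomm : Commute h (g ^ k') := hc
    have := hcomm.zpow_right ((Nat.card G).gcdB k')
    rw [← hg] at this
    exact this
  · intro hc
    have hcomm : Commute h g := hc
    exact hcomm.pow_right k'

/-- The power map preserves the principal block. -/
theorem powIrr_mem_principalBlock (k' : ℕ) (hk' : k'.Coprime (Nat.card G)) (ψ : IrrCharacter G)
    (hψ : ψ ∈ principalBlock M G) : powIrr k' hk' ψ ∈ principalBlock M G := by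
  intro g
  have h1 := hψ (g ^ k')
  unfold centralChar at h1 ⊢
  rw [centralizer_pow_eq k' hk' g] at h1
  rw [powIrr_apply, powIrr_apply, one_pow]
  exact h1

theorem powIrr_charDegree (k' : ℕ) (hk' : k'.Coprime (Nat.card G)) (ψ : IrrCharacter G) :
    charDegree (powIrr k' hk' ψ : G → ℂ) = charDegree (ψ : G → ℂ) := by
  unfold charDegree
  rw [powIrr_apply, one_pow]

end Cfsg.Agent.Lib.helper3.GalFix
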