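import Mathlib
import Cfsg.Prelude.Def_Characters
import Cfsg.Agent.Lib.helper3.PermChar
import Cfsg.Agent.Lib.helper3.Irr11

set_option autoImplicit false
set_option linter.style.haveILetI false
set_option linter.unusedSectionVars false

/-!
# Double transitivity and the permutation character
-/

namespace Cfsg.Agent.Lib.helper3.PermChar

open Cfsg Module Cfsg.Agent.Lib.helper3.IndFun Cfsg.Agent.Lib.helper3.CharBasic
open Cfsg.Agent.Lib.helper3.Irr
open scoped ComplexConjugate

variable {G : Type*} [Group G]

theorem card_fixedBy_prod (X : Type*) [MulAction G X] (g : G) :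
    Nat.card (MulAction.fixedBy (X × X) g) = Nat.card (MulAction.fixedBy X g) ^ 2 := by
  rw [sq, ← Nat.card_prod]
  apply Nat.card_congr
  refine
    { toFun := fun p => (⟨p.1.1, ?_⟩, ⟨p.1.2, ?_⟩)
      invFun := fun q => ⟨(q.1.1, q.2.1), ?_⟩
      left_inv := fun p => rfl
      right_inv := fun q => rfl }
  · have := p.2
    rw [MulAction.mem_fixedBy] at this ⊢
    exact congrArg Prod.fst this
  · have := p.2
    rw [MulAction.mem_fixedBy] at this ⊢
    exact congrArg Prod.snd this
  · rw [MulAction.mem_fixedBy]
    have h1 := q.1.2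
    have h2 := q.2.2
    rw [MulAction.mem_fixedBy] at h1 h2
    exact Prod.ext h1 h2

theorem sum_sq_fixedBy [Fintype G] (X : Type*) [MulAction G X] [Finite X] :
    ∑ g : G, (Nat.card (MulAction.fixedBy X g)) ^ 2
      = Nat.card (Quotient (MulAction.orbitRel G (X × X))) * Nat.card G := by
  classical
  letI : Fintype X := Fintype.ofFinite X
  letI : Fintype (Quotient (MulAction.orbitRel G (X × X))) := Fintype.ofFinite _
  letI : ∀ g : G, Fintype (MulAction.fixedBy (X × X) g) := fun g => Fintype.ofFinite _
  have h := MulAction.sum_card_fixedBy_eq_card_orbits_mul_card_group G (X × X)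
  rw [Nat.card_eq_fintype_card, Nat.card_eq_fintype_card, ← h]
  apply Finset.sum_congr rfl
  intro g _
  rw [← card_fixedBy_prod, Nat.card_eq_fintype_card]

theorem card_orbits_prod_eq_two_iff (X : Type*) [MulAction G X] [Finite X]
    [MulAction.IsPretransitive G X] (hX : 2 ≤ Nat.card X) :
    Nat.card (Quotient (MulAction.orbitRel G (X × X))) = 2 ↔
      MulAction.IsMultiplyPretransitive G X 2 := by
  classical
  have hmk : ∀ p q : X × X, (Quotient.mk (MulAction.orbitRel G (X × X)) p
      = Quotient.mk (MulAction.orbitRel G (X × X)) q) ↔ ∃ g : G, g • q = p := by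
    intro p q
    rw [Quotient.eq]
    exact MulAction.orbitRel_apply.trans MulAction.mem_orbit_iff
  have hdiag : ∀ a b c : X, b ≠ c → Quotient.mk (MulAction.orbitRel G (X × X)) (a, a)
      ≠ Quotient.mk (MulAction.orbitRel G (X × X)) (b, c) := by
    intro a b c hbc h
    obtain ⟨g, hg⟩ := (hmk _ _).mp h
    have h1 : g • b = a := congrArg Prod.fst hg
    have h2 : g • c = a := congrArg Prod.snd hg
    exact hbc (MulAction.injective g (h1.trans h2.symm))
  rw [MulAction.is_two_pretransitive_iff]
  constructor
  · intro hcard a b c d hab hcd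
    by_contra hcon
    have h23 : Quotient.mk (MulAction.orbitRel G (X × X)) (c, d)
      ≠ Quotient.mk (MulAction.orbitRel G (X × X)) (a, b) := by
      intro h
      obtain ⟨g, hg⟩ := (hmk _ _).mp h
      exact hcon ⟨g, congrArg Prod.fst hg, congrArg Prod.snd hg⟩
    have h12 := hdiag a c d hcd
    have h13 := hdiag a a b hab
    haveI : Finite (Quotient (MulAction.orbitRel G (X × X))) := inferInstance
    letI : Fintype (Quotient (MulAction.orbitRel G (X × X))) := Fintype.ofFinite _
    have h3 : ({Quotient.mk (MulAction.orbitRel G (X × X)) (a, a),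
        Quotient.mk (MulAction.orbitRel G (X × X)) (c, d),
        Quotient.mk (MulAction.orbitRel G (X × X)) (a, b)} : Finset _).card = 3 := by
      rw [Finset.card_eq_three]
      exact ⟨_, _, _, h12, h13, h23, rfl⟩
    have hle := Finset.card_le_univ ({Quotient.mk (MulAction.orbitRel G (X × X)) (a, a),
        Quotient.mk (MulAction.orbitRel G (X × X)) (c, d),
        Quotient.mk (MulAction.orbitRel G (X × X)) (a, b)} : Finset _)
    rw [h3, ← Nat.card_eq_fintype_card, hcard] at hle
    omega
  · intro h2
    haveI : Nontrivial X := by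
      rw [← Finite.one_lt_card_iff_nontrivial]
      omega
    obtain ⟨x, y, hxy⟩ := exists_pair_ne X
    rw [Nat.card_eq_two_iff]
    refine ⟨Quotient.mk _ (x, x), Quotient.mk _ (x, y), hdiag x x y hxy, ?_⟩
    rw [Set.eq_univ_iff_forall]
    intro q
    obtain ⟨⟨a, b⟩, rfl⟩ := Quotient.mk_surjective q
    by_cases hab : a = b
    · subst hab
      left
      obtain ⟨g, hg⟩ := MulAction.exists_smul_eq G x a
      exact (hmk _ _).mpr ⟨g, Prod.ext hg hg⟩
    · right
      rw [Set.mem_singleton_iff]
      obtain ⟨g, hg1, hg2⟩ := h2 hxy hab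
      exact (hmk _ _).mpr ⟨g, Prod.ext hg1 hg2⟩

theorem isCharacter_permChar [Fintype G] (X : Type*) [MulAction G X] [Finite X]
    [MulAction.IsPretransitive G X] [Nonempty X] :
    IsCharacter G (fun g : G => (Nat.card (MulAction.fixedBy X g) : ℂ)) := by
  obtain ⟨x⟩ := ‹Nonempty X›
  rw [permChar_eq_indFun X x]
  exact isCharacter_indFun _ _ isCharacter_one

theorem classInner_permChar_one [Fintype G] (X : Type*) [MulAction G X] [Finite X]
    [MulAction.IsPretransitive G X] [Nonempty X] :
    classInner (fun g : G => (Nat.card (MulAction.fixedBy X g) : ℂ)) (fun _ => 1) = 1 := by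
  classical
  obtain ⟨x⟩ := ‹Nonempty X›
  letI : Fintype (MulAction.stabilizer G x) := Fintype.ofFinite _
  rw [permChar_eq_indFun X x, frobenius_reciprocity]
  · exact classInner_one_one
  · intro g h; rfl

theorem classInner_permChar_self [Fintype G] (X : Type*) [MulAction G X] [Finite X] :
    classInner (fun g : G => (Nat.card (MulAction.fixedBy X g) : ℂ))
      (fun g : G => (Nat.card (MulAction.fixedBy X g) : ℂ))
      = (Nat.card (Quotient (MulAction.orbitRel G (X × X))) : ℂ) := by
  rw [classInner_apply]
  have h := sum_sq_fixedBy (G := G) X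
  have h' : ∑ g : G, ((Nat.card (MulAction.fixedBy X g) : ℂ)) * conj ((Nat.card (MulAction.fixedBy X g) : ℂ))
      = (Nat.card (Quotient (MulAction.orbitRel G (X × X))) : ℂ) * (Nat.card G : ℂ) := by
    rw [← Nat.cast_mul, ← h]
    push_cast
    apply Finset.sum_congr rfl
    intro g _
    rw [Complex.conj_natCast, sq]
  rw [h']
  have hne : (Nat.card G : ℂ) ≠ 0 := by
    rw [Nat.cast_ne_zero]; exact Nat.card_pos.ne'
  field_simp

/-- A transitive action on at least two points is doubly transitive iff the permutation
character minus one is irreducible. -/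
theorem isIrrCharacter_permChar_sub_one_iff [Fintype G] (X : Type*) [MulAction G X] [Finite X]
    [MulAction.IsPretransitive G X] (hX : 2 ≤ Nat.card X) :
    IsIrrCharacter G (fun g => (Nat.card (MulAction.fixedBy X g) : ℂ) - 1) ↔
      MulAction.IsMultiplyPretransitive G X 2 := by
  classical
  haveI : Nonempty X := by
    rw [← Finite.card_pos_iff]; omega
  set π : G → ℂ := fun g : G => (Nat.card (MulAction.fixedBy X g) : ℂ) with hπ
  have hchar : IsCharacter G π := isCharacter_permChar X
  have h1 : classInner π (fun _ => 1) = 1 := classInner_permChar_one X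
  have h1' : classInner (fun _ => (1 : ℂ)) π = 1 := by
    rw [← classInner_conj_symm, h1, map_one]
  have hsub : IsCharacter G (π - fun _ => 1) := by
    have := isCharacter_sub_of_classInner_ne_zero hchar ⟨fun _ => 1, isIrrCharacter_one⟩
      (by rw [h1]; exact one_ne_zero)
    exact this
  have hnorm : classInner (π - fun _ => 1) (π - fun _ => 1)
      = (Nat.card (Quotient (MulAction.orbitRel G (X × X))) : ℂ) - 1 := by
    rw [classInner_sub_left, classInner_sub_right, classInner_sub_right, h1, h1',
      classInner_one_one, classInner_permChar_self]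
    ring
  have heq : (fun g => (Nat.card (MulAction.fixedBy X g) : ℂ) - 1) = π - fun _ => 1 := rfl
  rw [heq, ← card_orbits_prod_eq_two_iff X hX]
  constructor
  · intro hirr
    have := irr_classInner_self hirr
    rw [hnorm] at this
    have h2 : (Nat.card (Quotient (MulAction.orbitRel G (X × X))) : ℂ) = 2 := by
      linear_combination this
    exact_mod_cast h2
  · intro h2
    apply isIrrCharacter_of_classInner_self_eq_one hsub
    rw [hnorm, h2]
    norm_num

end Cfsg.Agent.Lib.helper3.PermChar
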