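import Mathlib

/-!
S4349 pieces (G2) "halves" and (G5) "the normalizer of `M` is a 2-group" (helper3).
-/

namespace Cfsg.Agent.Lib.helper3.UniqSylG

theorem inv_apply_self' {α : Type*} (g : Equiv.Perm α) (a : α) : g⁻¹ (g a) = a := by simp

theorem apply_inv_self' {α : Type*} (g : Equiv.Perm α) (a : α) : g (g⁻¹ a) = a := by simp

theorem exists_index_two {G : Type*} [Group G] [Finite G] (hG : IsPGroup 2 G) (S : Subgroup G)
    (hS : S ≠ ⊤) : ∃ K : Subgroup G, S ≤ K ∧ K.index = 2 := by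
  haveI : Fact (Nat.Prime 2) := ⟨Nat.prime_two⟩
  obtain ⟨m, hm⟩ := IsPGroup.iff_card.mp hG
  obtain ⟨k, hk⟩ := IsPGroup.iff_card.mp (hG.to_subgroup S)
  have hkm : k < m := by
    have hlt : Nat.card S < Nat.card G := by
      by_contra hcon
      exact hS (S.eq_top_of_le_card (not_lt.mp hcon))
    rw [hk, hm] at hlt
    exact (Nat.pow_lt_pow_iff_right (by norm_num)).mp hlt
  obtain ⟨K, hK, hSK⟩ := Sylow.exists_subgroup_card_pow_prime_le 2 (m := m - 1)
    (by rw [hm]; exact pow_dvd_pow 2 (Nat.sub_le m 1)) S hk (by omega)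
  refine ⟨K, hSK, ?_⟩
  have h1 := K.index_mul_card
  rw [hK, hm] at h1
  have h2 : (2 : ℕ) ^ m = 2 * 2 ^ (m - 1) := by
    rw [← pow_succ']
    congr 1
    omega
  rw [h2] at h1
  exact Nat.eq_of_mul_eq_mul_right (by positivity) h1

theorem exists_halves {α : Type*} [Fintype α] [DecidableEq α] (P : Subgroup (Equiv.Perm α))
    (hP : IsPGroup 2 P) (htr : ∀ a b : α, ∃ g ∈ P, g a = b) (hcard : 2 ≤ Fintype.card α) :
    ∃ (M : Subgroup (Equiv.Perm α)) (H : Finset α), M ≤ P ∧ M.relIndex P = 2 ∧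
      2 * H.card = Fintype.card α ∧
      (∀ g ∈ P, (g ∈ M ↔ ∀ a, g a ∈ H ↔ a ∈ H)) ∧
      (∀ g ∈ P, g ∉ M → ∀ a, g a ∈ H ↔ a ∉ H) ∧
      (∀ a ∈ H, ∀ b ∈ H, ∃ g ∈ M, g a = b) ∧ (∀ a ∉ H, ∀ b ∉ H, ∃ g ∈ M, g a = b) := by
  classical
  have hpos : 0 < Fintype.card α := by omega
  obtain ⟨ω⟩ : Nonempty α := Fintype.card_pos_iff.mp hpos
  obtain ⟨b, hb⟩ : ∃ b : α, b ≠ ω := by
    by_contra hcon
    push_neg at hcon
    have : Fintype.card α ≤ 1 := Fintype.card_le_one_iff.mpr (fun x y => by rw [hcon x, hcon y])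
    omega
  set S : Subgroup P := (MulAction.stabilizer (Equiv.Perm α) ω).subgroupOf P with hSdef
  have hSmem : ∀ g : P, g ∈ S ↔ (g : Equiv.Perm α) ω = ω := by
    intro g
    rw [hSdef, Subgroup.mem_subgroupOf, MulAction.mem_stabilizer_iff, Equiv.Perm.smul_def]
  have hStop : S ≠ ⊤ := by
    intro htop
    obtain ⟨g, hg, hgb⟩ := htr ω b
    have : (⟨g, hg⟩ : P) ∈ S := by rw [htop]; exact Subgroup.mem_top _
    rw [hSmem] at this
    exact hb (hgb.symm.trans this)
  haveI : Finite P := inferInstance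
  obtain ⟨K, hSK, hK2⟩ := exists_index_two (G := P) hP S hStop
  set M : Subgroup (Equiv.Perm α) := K.map P.subtype with hMdef
  have hMP : M ≤ P := by
    rw [hMdef]
    exact Subgroup.map_subtype_le K
  have hm1 : ∀ (g : Equiv.Perm α) (hg : g ∈ P), g ∈ M ↔ (⟨g, hg⟩ : P) ∈ K := by
    intro g hg
    rw [hMdef, Subgroup.mem_map]
    constructor
    · rintro ⟨x, hx, hxg⟩
      have : x = ⟨g, hg⟩ := Subtype.ext hxg
      rwa [← this]
    · intro h
      exact ⟨⟨g, hg⟩, h, rfl⟩
  have hm2 : ∀ g ∈ P, ∀ h ∈ P, (g * h ∈ M ↔ (g ∈ M ↔ h ∈ M)) := by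
    intro g hg h hh
    rw [hm1 g hg, hm1 h hh, hm1 (g * h) (P.mul_mem hg hh)]
    exact Subgroup.mul_mem_iff_of_index_two hK2 (a := ⟨g, hg⟩) (b := ⟨h, hh⟩)
  have hm3 : ∀ g ∈ P, g ω = ω → g ∈ M := by
    intro g hg hgω
    rw [hm1 g hg]
    exact hSK ((hSmem ⟨g, hg⟩).mpr hgω)
  obtain ⟨g0, hg0P, hg0M⟩ : ∃ g0 ∈ P, g0 ∉ M := by
    by_contra hcon
    push_neg at hcon
    have : K = ⊤ := by
      rw [eq_top_iff]
      intro x _
      have := hcon x.1 x.2
      rwa [hm1 x.1 x.2] at this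
    rw [this, Subgroup.index_top] at hK2
    omega
  set H : Finset α := Finset.univ.filter (fun a => ∃ g ∈ M, g ω = a) with hHdef
  have hHmem : ∀ a, a ∈ H ↔ ∃ g ∈ M, g ω = a := by
    intro a
    rw [hHdef, Finset.mem_filter]
    simp
  have hωH : ω ∈ H := (hHmem ω).mpr ⟨1, M.one_mem, rfl⟩
  -- members of `M` preserve `H`
  have hpres : ∀ g ∈ M, ∀ a, g a ∈ H ↔ a ∈ H := by
    intro g hg a
    rw [hHmem, hHmem]
    constructor
    · rintro ⟨h, hh, hha⟩
      refine ⟨g⁻¹ * h, M.mul_mem (M.inv_mem hg) hh, ?_⟩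
      rw [Equiv.Perm.mul_apply, hha, inv_apply_self']
    · rintro ⟨h, hh, hha⟩
      refine ⟨g * h, M.mul_mem hg hh, ?_⟩
      rw [Equiv.Perm.mul_apply, hha]
  -- non-members of `M` in `P` swap `H` and its complement
  have hswap : ∀ g ∈ P, g ∉ M → ∀ a, g a ∈ H ↔ a ∉ H := by
    intro g hg hgM a
    constructor
    · intro hga ha
      obtain ⟨m, hm, hma⟩ := (hHmem a).mp ha
      obtain ⟨m', hm', hma'⟩ := (hHmem (g a)).mp hga
      -- m'⁻¹ g m fixes ω
      have hfix : (m'⁻¹ * (g * m)) ω = ω := by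
        rw [Equiv.Perm.mul_apply, Equiv.Perm.mul_apply, hma, ← hma', inv_apply_self']
      have hmem : m'⁻¹ * (g * m) ∈ M :=
        hm3 _ (P.mul_mem (P.inv_mem (hMP hm')) (P.mul_mem hg (hMP hm))) hfix
      have h1 : g * m ∈ M := by
        have := M.mul_mem hm' hmem
        rwa [mul_inv_cancel_left] at this
      have h2 : g ∈ M := by
        have := M.mul_mem h1 (M.inv_mem hm)
        rwa [mul_inv_cancel_right] at this
      exact hgM h2
    · intro ha
      obtain ⟨p, hp, hpa⟩ := htr ω a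
      have hpM : p ∉ M := fun hpM => ha ((hHmem a).mpr ⟨p, hpM, hpa⟩)
      have hgp : g * p ∈ M := by
        rw [hm2 g hg p hp]
        exact ⟨fun h => absurd h hgM, fun h => absurd h hpM⟩
      rw [hHmem]
      exact ⟨g * p, hgp, by rw [Equiv.Perm.mul_apply, hpa]⟩
  refine ⟨M, H, hMP, ?_, ?_, ?_, hswap, ?_, ?_⟩
  · -- relIndex
    rw [Subgroup.relIndex]
    have : M.subgroupOf P = K := by
      ext x
      rw [Subgroup.mem_subgroupOf, hm1 x.1 x.2]
    rw [this, hK2]
  · -- cardinality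
    have himg : Hᶜ = H.image g0 := by
      ext a
      rw [Finset.mem_compl, Finset.mem_image]
      constructor
      · intro ha
        refine ⟨g0⁻¹ a, ?_, by simp⟩
        by_contra hcon
        have := (hswap g0 hg0P hg0M (g0⁻¹ a)).mpr hcon
        rw [apply_inv_self'] at this
        exact ha this
      · rintro ⟨c, hc, hca⟩ ha
        rw [← hca] at ha
        exact (hswap g0 hg0P hg0M c).mp ha hc
    have hc1 : Hᶜ.card = H.card := by
      rw [himg, Finset.card_image_of_injective _ g0.injective]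
    have hc2 := Finset.card_compl H
    omega
  · intro g hg
    constructor
    · exact hpres g
    · intro h
      by_contra hgM
      have := (hswap g hg hgM ω).mp ((h ω).mpr hωH)
      exact this hωH
  · intro a ha c hc
    obtain ⟨m, hm, hma⟩ := (hHmem a).mp ha
    obtain ⟨m', hm', hmc⟩ := (hHmem c).mp hc
    refine ⟨m' * m⁻¹, M.mul_mem hm' (M.inv_mem hm), ?_⟩
    rw [Equiv.Perm.mul_apply, ← hma, inv_apply_self', hmc]
  · intro a ha c hc
    have hg0i : g0⁻¹ ∈ P := P.inv_mem hg0P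
    have hg0iM : g0⁻¹ ∉ M := fun h => hg0M (by simpa using M.inv_mem h)
    have ha' : g0⁻¹ a ∈ H := (hswap _ hg0i hg0iM a).mpr ha
    have hc' : g0⁻¹ c ∈ H := (hswap _ hg0i hg0iM c).mpr hc
    obtain ⟨m, hm, hma⟩ := (hHmem _).mp ha'
    obtain ⟨m', hm', hmc⟩ := (hHmem _).mp hc'
    refine ⟨g0 * ((m' * m⁻¹) * g0⁻¹), ?_, ?_⟩
    · have hmm : m' * m⁻¹ ∈ M := M.mul_mem hm' (M.inv_mem hm)
      rw [hm2 g0 hg0P _ (P.mul_mem (hMP hmm) hg0i)]
      constructor
      · intro h; exact absurd h hg0M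
      · intro h
        exfalso
        have := (hm2 _ (hMP hmm) _ hg0i).mp h
        exact hg0iM (this.mp hmm)
    · rw [Equiv.Perm.mul_apply, Equiv.Perm.mul_apply, Equiv.Perm.mul_apply, ← hma,
        inv_apply_self', hmc, apply_inv_self']

theorem normalizer_isPGroup {α : Type*} [Fintype α] [DecidableEq α] (M : Subgroup (Equiv.Perm α))
    (H : Finset α) (hM : IsPGroup 2 M)
    (hH : ∀ g ∈ M, ∀ a, g a ∈ H ↔ a ∈ H)
    (htr1 : ∀ a ∈ H, ∀ b ∈ H, ∃ g ∈ M, g a = b) (htr2 : ∀ a ∉ H, ∀ b ∉ H, ∃ g ∈ M, g a = b)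
    (hN : ∀ g ∈ Subgroup.normalizer (M : Set (Equiv.Perm α)), (∀ a, g a ∈ H ↔ a ∈ H) → g ∈ M) :
    IsPGroup 2 (Subgroup.normalizer (M : Set (Equiv.Perm α))) := by
  classical
  -- for `g` normalizing `M`: `g` maps `M`-orbits to `M`-orbits
  have key : ∀ g ∈ Subgroup.normalizer (M : Set (Equiv.Perm α)), ∀ a c, (a ∈ H ↔ c ∈ H) → (g a ∈ H ↔ g c ∈ H) := by
    intro g hg a c hac
    -- a and c are in the same M-orbit
    have hsame : ∃ m ∈ M, m a = c := by
      by_cases ha : a ∈ H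
      · exact htr1 a ha c (hac.mp ha)
      · exact htr2 a ha c (fun hc => ha (hac.mpr hc))
    obtain ⟨m, hm, hmac⟩ := hsame
    have hconj : g * m * g⁻¹ ∈ M := (Subgroup.mem_normalizer_iff.mp hg m).mp hm
    have : g c = (g * m * g⁻¹) (g a) := by
      rw [Equiv.Perm.mul_apply, Equiv.Perm.mul_apply, inv_apply_self', hmac]
    rw [this]
    exact (hH _ hconj (g a)).symm
  -- the square of a normalizing element preserves `H`
  have hsq : ∀ g ∈ Subgroup.normalizer (M : Set (Equiv.Perm α)), ∀ a, (g * g) a ∈ H ↔ a ∈ H := by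
    intro g hg a
    rw [Equiv.Perm.mul_apply]
    by_cases hfix : ∀ c, g c ∈ H ↔ c ∈ H
    · rw [hfix, hfix]
    · push_neg at hfix
      obtain ⟨c, hc⟩ := hfix
      -- g swaps: for every a, g a ∈ H ↔ a ∉ H
      have hsw : ∀ d, g d ∈ H ↔ d ∉ H := by
        intro d
        by_cases hdc : d ∈ H ↔ c ∈ H
        · rw [key g hg d c hdc]
          constructor
          · intro h1 h2
            rcases hc with ⟨h3, h4⟩ | ⟨h3, h4⟩
            · exact h4 (hdc.mp h2)
            · exact h3 h1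
          · intro h1
            by_contra h2
            rcases hc with ⟨h3, h4⟩ | ⟨h3, h4⟩
            · exact h2 h3
            · exact h1 (hdc.mpr h4)
        · -- d and c on different sides; use g c's side
          have hdc' : d ∈ H ↔ c ∉ H := by tauto
          -- g d and g c are on different sides since g is a bijection preserving the partition
          -- use the preimage: consider g⁻¹
          by_contra hcon
          -- hcon : ¬ (g d ∈ H ↔ d ∉ H), so g d ∈ H ↔ d ∈ H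
          have hgd : g d ∈ H ↔ d ∈ H := by tauto
          have hgc : g c ∈ H ↔ c ∉ H := by tauto
          -- then g d and g c on the same side as d, and as ¬ c: same side ⇒ both in the side of d.
          -- All points of the side of d are mapped to the side of d, all points of the side of c
          -- also to the side of d: the side of c is missed, contradiction with surjectivity.
          obtain ⟨e, he⟩ := g.surjective c
          by_cases hed : e ∈ H ↔ d ∈ H
          · have := key g hg e d hed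
            rw [he] at this
            tauto
          · have hec : e ∈ H ↔ c ∈ H := by tauto
            have := key g hg e c hec
            rw [he] at this
            tauto
      rw [hsw, hsw]
      tauto
  intro g
  have hg2 : ((g : Equiv.Perm α) * g) ∈ M := by
    apply hN _ ((Subgroup.normalizer (M : Set (Equiv.Perm α))).mul_mem g.2 g.2)
    exact hsq g.1 g.2
  obtain ⟨k, hk⟩ := hM ⟨_, hg2⟩
  refine ⟨k + 1, ?_⟩
  have hk' : ((g : Equiv.Perm α) * g) ^ 2 ^ k = 1 := by
    have := congrArg Subtype.val hk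
    simpa using this
  apply Subtype.ext
  rw [Subgroup.coe_pow, Subgroup.coe_one, pow_succ, pow_mul', ← hk', pow_two]

theorem sylow_eq_of_relIndex_two {α : Type*} [Fintype α] [DecidableEq α]
    (M : Subgroup (Equiv.Perm α)) (H : Finset α)
    (hH : ∀ g ∈ M, ∀ a, g a ∈ H ↔ a ∈ H)
    (htr1 : ∀ a ∈ H, ∀ b ∈ H, ∃ g ∈ M, g a = b) (htr2 : ∀ a ∉ H, ∀ b ∉ H, ∃ g ∈ M, g a = b)
    (hN : ∀ g ∈ Subgroup.normalizer (M : Set (Equiv.Perm α)), (∀ a, g a ∈ H ↔ a ∈ H) → g ∈ M)
    (P Q : Sylow 2 (Equiv.Perm α)) (hMP : M ≤ P) (hMQ : M ≤ Q)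
    (hiP : M.relIndex P = 2) (hiQ : M.relIndex Q = 2) : P = Q := by
  have hM : IsPGroup 2 M := P.isPGroup'.to_le hMP
  have hNp := normalizer_isPGroup M H hM hH htr1 htr2 hN
  have hle : ∀ (R : Sylow 2 (Equiv.Perm α)), M ≤ R → M.relIndex R = 2 → (R : Subgroup _) = (Subgroup.normalizer (M : Set (Equiv.Perm α))) := by
    intro R hMR hiR
    have hnorm : (M.subgroupOf R).Normal := Subgroup.normal_of_index_eq_two hiR
    have hRle : (R : Subgroup _) ≤ Subgroup.normalizer (M : Set (Equiv.Perm α)) := by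
      intro r hr
      rw [Subgroup.mem_normalizer_iff]
      intro m
      constructor
      · intro hm
        have := hnorm.conj_mem ⟨m, hMR hm⟩ (by rw [Subgroup.mem_subgroupOf]; exact hm) ⟨r, hr⟩
        rw [Subgroup.mem_subgroupOf] at this
        simpa using this
      · intro hm
        have := hnorm.conj_mem ⟨r * m * r⁻¹, hMR hm⟩ (by rw [Subgroup.mem_subgroupOf]; exact hm)
          ⟨r⁻¹, R.inv_mem hr⟩
        rw [Subgroup.mem_subgroupOf] at this
        simpa [mul_assoc] using this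
    exact (R.is_maximal' hNp hRle).symm
  apply Sylow.ext
  rw [hle P hMP hiP, hle Q hMQ hiQ]

end Cfsg.Agent.Lib.helper3.UniqSylG
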