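import Mathlib
import Cfsg.Prelude.Def_OddOrderChar
import Cfsg.Prelude.Def_OddOrderLocal
import Cfsg.Agent.Lib.helper3.FP12
import Cfsg.Agent.Lib.Helper8.PF7P

set_option autoImplicit false
set_option linter.style.haveILetI false
set_option linter.unusedSectionVars false
set_option linter.unusedVariables false

/-!
# No group of odd order is partitioned by coprime trivial-intersection Frobenius kernels, given the
coherence theorem of Sibley
-/

namespace Cfsg.Agent.Lib.helper3.FP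

open Cfsg Module Cfsg.Agent.Lib.helper3.CharBasic Cfsg.Agent.Lib.helper3.IndFun
open Cfsg.Agent.Lib.helper3.Irr Cfsg.Agent.Lib.helper3.Coh Cfsg.Agent.Lib.helper3.Tifn
open Cfsg.Agent.Lib.helper3.IndFunTI
open scoped ComplexConjugate

universe u

/-- The coherence theorem of Sibley for trivial-intersection Frobenius kernels, as a
hypothesis. -/
def Hyp1524 : Prop :=
  ∀ {G : Type u} [Group G] [Fintype G] (H L W₁ : Subgroup G) [Fintype L]
    (_ : Odd (Nat.card L)) (_ : H ≤ L) (_ : W₁ ≤ L) (_ : H ≠ ⊥) (_ : W₁ ≠ ⊥)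
    (_ : Group.IsNilpotent H) (_ : ∀ x ∈ L, ∀ h ∈ H, x * h * x⁻¹ ∈ H) (_ : H ⊓ W₁ = ⊥)
    (_ : H ⊔ W₁ = L) (_ : ∀ w ∈ W₁, w ≠ 1 → ∀ h ∈ H, w * h = h * w → h = 1)
    (_ : Cfsg.IsTISubset (H : Set G)) (_ : Subgroup.normalizer (H : Set G) = L),
    Cfsg.IsCoherent (Cfsg.inducedIrrAbove (H.subgroupOf L) ⊥) {1}ᶜ
      (fun α : L → ℂ => Cfsg.indFun L α)

/-- Peterfalvi (7.11), given the coherence theorem of Sibley. -/
theorem s1526_of (h24 : Hyp1524.{u}) {G : Type u} [Group G] [Finite G]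
    (hodd : Odd (Nat.card G)) {ι : Type*} [Fintype ι] (hι : 2 ≤ Fintype.card ι)
    (L H : ι → Subgroup G) (hHL : ∀ i, H i < L i) (hH1 : ∀ i, H i ≠ ⊥)
    (hHn : ∀ i, ∀ x ∈ L i, ∀ h ∈ H i, x * h * x⁻¹ ∈ H i)
    (hfrob : ∀ i, ∀ h ∈ H i, h ≠ 1 → L i ⊓ Subgroup.centralizer ({h} : Set G) ≤ H i)
    (hcop : ∀ i j, i ≠ j → Nat.Coprime (Nat.card (H i)) (Nat.card (H j)))
    (hTI : ∀ i, Cfsg.IsTISubset (H i : Set G) ∧ Subgroup.normalizer (H i : Set G) = L i)
    (hcover : ∀ g : G, g ≠ 1 → ∃ i, ∃ x : G, x * g * x⁻¹ ∈ H i) : False := by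
  classical
  letI : Fintype G := Fintype.ofFinite G
  obtain rfl : L = fun i => Subgroup.normalizer (H i : Set G) :=
    funext (fun i => ((hTI i).2).symm)
  haveI : Nonempty ι := Fintype.card_pos_iff.mp (by omega)
  letI : ∀ i, Fintype ↥(Subgroup.normalizer (H i : Set G)) := fun i => Fintype.ofFinite _
  have hP : ∀ i, Cfsg.Agent.Lib.Helper8.PF7.PairData (Subgroup.normalizer (H i : Set G)) (H i) :=
    fun i => ⟨hHL i, hH1 i, hHn i, hfrob i, hTI i⟩
  have hC : ∀ i, ∀ k ∈ H i, k ≠ 1 → Subgroup.centralizer ({k} : Set G) ≤ H i :=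
    fun i k hk hk1 => (hP i).centralizer_le hk hk1
  apply main hodd H hH1 (fun i => (hHL i).ne') (fun i => (hTI i).1) hC hcop hcover
  · intro i
    obtain ⟨hnil, W₁, hW₁L, hW1, hinf, hsup, hfpf⟩ := (hP i).exists_s1524_data
    have hoddL : Odd (Nat.card ↥(Subgroup.normalizer (H i : Set G))) :=
      hodd.of_dvd_nat (Subgroup.card_subgroup_dvd_card _)
    have hcohi := h24 (H i) (Subgroup.normalizer (H i : Set G)) W₁ hoddL (hHL i).le hW₁L (hH1 i)
      hW1 hnil (hHn i) hinf hsup hfpf (hTI i).1 rfl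
    rw [inducedIrrAbove_bot_eq_relSet _ (centralizer_le_subgroupOf (H i) (hC i))] at hcohi
    obtain ⟨-, star, hstar, hext⟩ := hcohi
    exact ⟨star, hstar, hext⟩
  · intro i
    obtain ⟨hnil, -⟩ := (hP i).exists_s1524_data
    apply exists_relSet_degree_index _ (centralizer_le_subgroupOf (H i) (hC i))
    · haveI := hnil
      haveI : Group.IsSolvable ↥(H i) := IsNilpotent.to_isSolvable
      exact solvable_of_solvable_injective
        (f := (Subgroup.subgroupOfEquivOfLe (hHL i).le).toMonoidHom)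
        (Subgroup.subgroupOfEquivOfLe (hHL i).le).injective
    · intro hbot
      rw [Subgroup.subgroupOf_eq_bot, disjoint_iff, inf_of_le_left (hHL i).le] at hbot
      exact hH1 i hbot

end Cfsg.Agent.Lib.helper3.FP
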