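import Mathlib

set_option autoImplicit false
set_option linter.style.haveILetI false
set_option linter.unusedSectionVars false

/-!
# A combinatorial lemma on matrices of the form `x i + y j - c` with few nonzero entries
-/

namespace Cfsg.Agent.Lib.helper3.CycTI

theorem card_filter_prod {I J : Type*} [Fintype I] [Fintype J] (P : I → J → Prop)
    [∀ i j, Decidable (P i j)] :
    (Finset.univ.filter (fun p : I × J => P p.1 p.2)).card
      = ∑ i : I, (Finset.univ.filter (fun j : J => P i j)).card := by
  rw [Finset.card_filter, Fintype.sum_prod_type]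
  apply Finset.sum_congr rfl
  intro i _
  rw [Finset.card_filter]

theorem matrix_trichotomy {I J : Type*} [Fintype I] [Fintype J] [DecidableEq I] [DecidableEq J]
    (x : I → ℂ) (y : J → ℂ) (c : ℂ)
    (hIJ : Fintype.card I + 2 ≤ Fintype.card J)
    (hfew : (Finset.univ.filter (fun p : I × J => x p.1 + y p.2 - c ≠ 0)).card
      < 2 * Fintype.card I) :
    (∀ i j, x i + y j - c = 0) ∨
    (∃ j₀ b, ∀ i j, x i + y j - c = if j = j₀ then b else 0) ∨
    (∃ i₀ b, ∀ i j, x i + y j - c = if i = i₀ then b else 0) := by
  classical
  rw [card_filter_prod (fun i j => x i + y j - c ≠ 0)] at hfew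
  -- a row with at most one nonzero entry
  obtain ⟨i₀, hi₀⟩ : ∃ i₀ : I, (Finset.univ.filter (fun j : J => x i₀ + y j - c ≠ 0)).card ≤ 1 := by
    by_contra hcon
    push Not at hcon
    have : ∑ _i : I, 2 ≤ ∑ i : I, (Finset.univ.filter (fun j : J => x i + y j - c ≠ 0)).card :=
      Finset.sum_le_sum (fun i _ => hcon i)
    rw [Finset.sum_const, Finset.card_univ, smul_eq_mul, mul_comm] at this
    omega
  obtain ⟨v₀, hv₀⟩ : ∃ v₀ : ℂ, v₀ = c - x i₀ := ⟨_, rfl⟩
  have hrow : ∀ j, x i₀ + y j - c ≠ 0 ↔ y j ≠ v₀ := by
    intro j
    rw [hv₀]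
    constructor
    · intro h h2; apply h; rw [h2]; ring
    · intro h h2; apply h; linear_combination h2
  have hA : ∀ i j, x i + y j - c = (x i - x i₀) + (y j - v₀) := by
    intro i j; rw [hv₀]; ring
  rcases Nat.lt_or_ge (Finset.univ.filter (fun j : J => x i₀ + y j - c ≠ 0)).card 1 with h0 | h1
  · -- all `y j = v₀`
    have hy : ∀ j, y j = v₀ := by
      intro j
      by_contra hj
      have : j ∈ Finset.univ.filter (fun j : J => x i₀ + y j - c ≠ 0) :=
        Finset.mem_filter.mpr ⟨Finset.mem_univ j, (hrow j).mpr hj⟩
      have := Finset.card_pos.mpr ⟨j, this⟩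
      omega
    have hA' : ∀ i j, x i + y j - c = x i - x i₀ := by
      intro i j; rw [hA, hy j]; ring
    have hrowcard : ∀ i, (Finset.univ.filter (fun j : J => x i + y j - c ≠ 0)).card
        = if x i ≠ x i₀ then Fintype.card J else 0 := by
      intro i
      split_ifs with h
      · rw [Finset.filter_true_of_mem, Finset.card_univ]
        intro j _
        rw [hA']
        exact sub_ne_zero.mpr h
      · rw [Finset.filter_false_of_mem, Finset.card_empty]
        intro j _
        push Not at h
        rw [hA', h, sub_self]
        simp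
    simp_rw [hrowcard] at hfew
    rw [Finset.sum_ite, Finset.sum_const, Finset.sum_const_zero, add_zero, smul_eq_mul] at hfew
    have hbad : (Finset.univ.filter (fun i : I => x i ≠ x i₀)).card ≤ 1 := by
      by_contra hcon
      push Not at hcon
      have : 2 * Fintype.card J ≤ (Finset.univ.filter (fun i : I => x i ≠ x i₀)).card
          * Fintype.card J := Nat.mul_le_mul_right _ hcon
      omega
    rcases Nat.lt_or_ge (Finset.univ.filter (fun i : I => x i ≠ x i₀)).card 1 with hb0 | hb1
    · left
      intro i j
      rw [hA']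
      by_contra hne
      have : i ∈ Finset.univ.filter (fun i : I => x i ≠ x i₀) :=
        Finset.mem_filter.mpr ⟨Finset.mem_univ i, fun h => hne (by rw [h, sub_self])⟩
      have := Finset.card_pos.mpr ⟨i, this⟩
      omega
    · right; right
      have hcard1 : (Finset.univ.filter (fun i : I => x i ≠ x i₀)).card = 1 := le_antisymm hbad hb1
      obtain ⟨i₁, hi₁⟩ := Finset.card_eq_one.mp hcard1
      refine ⟨i₁, x i₁ - x i₀, ?_⟩
      intro i j
      rw [hA']
      split_ifs with h
      · rw [h]
      · by_contra hne
        have : i ∈ Finset.univ.filter (fun i : I => x i ≠ x i₀) :=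
          Finset.mem_filter.mpr ⟨Finset.mem_univ i, fun h => hne (by rw [h, sub_self])⟩
        rw [hi₁, Finset.mem_singleton] at this
        exact h this
  · -- exactly one `j₁` with `y j₁ ≠ v₀`
    have hcard1 : (Finset.univ.filter (fun j : J => x i₀ + y j - c ≠ 0)).card = 1 :=
      le_antisymm hi₀ h1
    obtain ⟨j₁, hj₁⟩ := Finset.card_eq_one.mp hcard1
    have hyj₁ : y j₁ ≠ v₀ := by
      have : j₁ ∈ Finset.univ.filter (fun j : J => x i₀ + y j - c ≠ 0) := by
        rw [hj₁]; exact Finset.mem_singleton_self _
      exact (hrow j₁).mp (Finset.mem_filter.mp this).2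
    have hy : ∀ j, j ≠ j₁ → y j = v₀ := by
      intro j hj
      by_contra hne
      have : j ∈ Finset.univ.filter (fun j : J => x i₀ + y j - c ≠ 0) :=
        Finset.mem_filter.mpr ⟨Finset.mem_univ j, (hrow j).mpr hne⟩
      rw [hj₁, Finset.mem_singleton] at this
      exact hj this
    have hxall : ∀ i, x i = x i₀ := by
      by_contra hcon
      push Not at hcon
      obtain ⟨i₂, hi₂⟩ := hcon
      -- every row has at least one nonzero entry
      have hrow1 : ∀ i, 1 ≤ (Finset.univ.filter (fun j : J => x i + y j - c ≠ 0)).card := by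
        intro i
        by_cases hxi : x i = x i₀
        · apply Finset.card_pos.mpr
          refine ⟨j₁, Finset.mem_filter.mpr ⟨Finset.mem_univ _, ?_⟩⟩
          rw [hA, hxi, sub_self, zero_add]
          exact sub_ne_zero.mpr hyj₁
        · have hJ : 3 ≤ Fintype.card J := by
            have : 0 < Fintype.card I := Fintype.card_pos_iff.mpr ⟨i⟩
            omega
          obtain ⟨j, hj⟩ : ∃ j : J, j ≠ j₁ := by
            by_contra hcon2
            push Not at hcon2
            have : Fintype.card J ≤ 1 := by
              rw [Fintype.card_le_one_iff]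
              intro a b
              rw [hcon2 a, hcon2 b]
            omega
          apply Finset.card_pos.mpr
          refine ⟨j, Finset.mem_filter.mpr ⟨Finset.mem_univ _, ?_⟩⟩
          rw [hA, hy j hj, sub_self, add_zero]
          exact sub_ne_zero.mpr hxi
      have hrow2 : Fintype.card J - 1
          ≤ (Finset.univ.filter (fun j : J => x i₂ + y j - c ≠ 0)).card := by
        have hsub : Finset.univ.erase j₁
            ⊆ Finset.univ.filter (fun j : J => x i₂ + y j - c ≠ 0) := by
          intro j hj
          rw [Finset.mem_erase] at hj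
          refine Finset.mem_filter.mpr ⟨Finset.mem_univ _, ?_⟩
          rw [hA, hy j hj.1, sub_self, add_zero]
          exact sub_ne_zero.mpr hi₂
        have := Finset.card_le_card hsub
        rw [Finset.card_erase_of_mem (Finset.mem_univ _), Finset.card_univ] at this
        exact this
      have hsum : (Fintype.card I - 1) + (Fintype.card J - 1)
          ≤ ∑ i : I, (Finset.univ.filter (fun j : J => x i + y j - c ≠ 0)).card := by
        have hE : ∑ _i ∈ Finset.univ.erase i₂, 1
            ≤ ∑ i ∈ Finset.univ.erase i₂,
              (Finset.univ.filter (fun j : J => x i + y j - c ≠ 0)).card :=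
          Finset.sum_le_sum (fun i _ => hrow1 i)
        rw [Finset.sum_const, Finset.card_erase_of_mem (Finset.mem_univ _), Finset.card_univ,
          smul_eq_mul, mul_one] at hE
        rw [← Finset.add_sum_erase Finset.univ _ (Finset.mem_univ i₂)]
        omega
      have : 0 < Fintype.card I := Fintype.card_pos_iff.mpr ⟨i₂⟩
      omega
    right; left
    refine ⟨j₁, y j₁ - v₀, ?_⟩
    intro i j
    rw [hA, hxall i, sub_self, zero_add]
    split_ifs with h
    · rw [h]
    · rw [hy j h, sub_self]

end Cfsg.Agent.Lib.helper3.CycTI
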