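import Mathlib
import Cfsg.Prelude.Def_Characters
import Cfsg.Prelude.Def_OddOrderLocal
import Cfsg.Agent.Lib.helper3.CycTI2
import Cfsg.Agent.Lib.helper3.CycTI3

set_option autoImplicit false
set_option linter.style.haveILetI false
set_option linter.unusedSectionVars false

/-!
# The dual group of `W = W₁ × W₂` and coefficient functions with few nonzero values
-/

namespace Cfsg.Agent.Lib.helper3.CycTI

open Cfsg Cfsg.Agent.Lib.helper3.IndFun Cfsg.Agent.Lib.helper3.Irr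
open scoped Pointwise

variable {G : Type*} [Group G]

/-- The characters of `W₁ ⊔ W₂` trivial on a subgroup `U`. -/
def trivOn (W₁ W₂ U : Subgroup G) : Subgroup (↥(W₁ ⊔ W₂) →* ℂˣ) where
  carrier := {φ | ∀ w : ↥(W₁ ⊔ W₂), (w : G) ∈ U → φ w = 1}
  one_mem' := fun _ _ => rfl
  mul_mem' := by
    intro a b ha hb w hw
    rw [MonoidHom.mul_apply, ha w hw, hb w hw, mul_one]
  inv_mem' := by
    intro a ha w hw
    rw [MonoidHom.inv_apply, ha w hw, inv_one]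

theorem mem_trivOn (W₁ W₂ U : Subgroup G) (φ : ↥(W₁ ⊔ W₂) →* ℂˣ) :
    φ ∈ trivOn W₁ W₂ U ↔ ∀ w : ↥(W₁ ⊔ W₂), (w : G) ∈ U → φ w = 1 := Iff.rfl

theorem card_sup [Finite G] (W₁ W₂ : Subgroup G) (hW : IsSelfNormalizingCyclic W₁ W₂) :
    Nat.card ↥(W₁ ⊔ W₂) = Nat.card W₁ * Nat.card W₂ := by
  obtain ⟨-, -, hinf, -, hcyc, -⟩ := hW
  letI : CommGroup ↥(W₁ ⊔ W₂) := IsCyclic.commGroup
  have hdisj : Disjoint (W₁.subgroupOf (W₁ ⊔ W₂)) (W₂.subgroupOf (W₁ ⊔ W₂)) := by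
    rw [Subgroup.disjoint_def]
    intro x h1 h2
    rw [Subgroup.mem_subgroupOf] at h1 h2
    have : (x : G) ∈ W₁ ⊓ W₂ := ⟨h1, h2⟩
    rw [hinf, Subgroup.mem_bot] at this
    exact Subtype.ext this
  have hsup : W₁.subgroupOf (W₁ ⊔ W₂) ⊔ W₂.subgroupOf (W₁ ⊔ W₂) = ⊤ := by
    rw [← Subgroup.subgroupOf_sup le_sup_left le_sup_right, Subgroup.subgroupOf_self]
  have hmul : ((W₁.subgroupOf (W₁ ⊔ W₂) : Subgroup ↥(W₁ ⊔ W₂)) : Set ↥(W₁ ⊔ W₂))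
      * ((W₂.subgroupOf (W₁ ⊔ W₂) : Subgroup ↥(W₁ ⊔ W₂)) : Set ↥(W₁ ⊔ W₂)) = Set.univ := by
    rw [← Subgroup.mul_normal, hsup, Subgroup.coe_top]
  have hc := (Subgroup.isComplement'_of_disjoint_and_mul_eq_univ hdisj hmul).card_mul_card
  rw [← hc, Nat.card_congr (Subgroup.subgroupOfEquivOfLe (le_sup_left : W₁ ≤ W₁ ⊔ W₂)).toEquiv,
    Nat.card_congr (Subgroup.subgroupOfEquivOfLe (le_sup_right : W₂ ≤ W₁ ⊔ W₂)).toEquiv]

theorem card_trivOn [Finite G] (W₁ W₂ U : Subgroup G) (hcyc : IsCyclic ↥(W₁ ⊔ W₂))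
    (hU : U ≤ W₁ ⊔ W₂) :
    Nat.card (trivOn W₁ W₂ U) * Nat.card U = Nat.card ↥(W₁ ⊔ W₂) := by
  letI : CommGroup ↥(W₁ ⊔ W₂) := IsCyclic.commGroup
  haveI : NeZero ((Monoid.exponent ↥(W₁ ⊔ W₂) : ℕ) : ℂ) :=
    ⟨Nat.cast_ne_zero.mpr Monoid.exponent_ne_zero_of_finite⟩
  have h1 := CommGroup.card_subgroupOrderIsoSubgroupMonoidHom (G := ↥(W₁ ⊔ W₂)) ℂ
    (U.subgroupOf (W₁ ⊔ W₂))
  have h2 : Nat.card (trivOn W₁ W₂ U)
      = Nat.card ((CommGroup.subgroupOrderIsoSubgroupMonoidHom ↥(W₁ ⊔ W₂) ℂ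
        (U.subgroupOf (W₁ ⊔ W₂))).ofDual) := by
    apply Nat.card_congr
    apply Equiv.subtypeEquivRight
    intro φ
    rw [CommGroup.mem_subgroupOrderIsoSubgroupMonoidHom_iff, mem_trivOn]
    constructor
    · intro h g hg
      exact h g (Subgroup.mem_subgroupOf.mp hg)
    · intro h w hw
      exact h w (Subgroup.mem_subgroupOf.mpr hw)
  rw [h2, h1, ← Subgroup.index_eq_card,
    ← Nat.card_congr (Subgroup.subgroupOfEquivOfLe hU).toEquiv, Subgroup.index_mul_card]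

theorem card_dual_sup [Finite G] (W₁ W₂ : Subgroup G) (hcyc : IsCyclic ↥(W₁ ⊔ W₂)) :
    Nat.card (↥(W₁ ⊔ W₂) →* ℂˣ) = Nat.card ↥(W₁ ⊔ W₂) := by
  letI : CommGroup ↥(W₁ ⊔ W₂) := IsCyclic.commGroup
  haveI : NeZero ((Monoid.exponent ↥(W₁ ⊔ W₂) : ℕ) : ℂ) :=
    ⟨Nat.cast_ne_zero.mpr Monoid.exponent_ne_zero_of_finite⟩
  exact CommGroup.card_monoidHom_of_hasEnoughRootsOfUnity ↥(W₁ ⊔ W₂) ℂ

/-- The dual group of `W` is the internal direct product of the two groups of characters. -/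
theorem isComplement_trivOn [Finite G] (W₁ W₂ : Subgroup G) (hW : IsSelfNormalizingCyclic W₁ W₂) :
    Subgroup.IsComplement' (trivOn W₁ W₂ W₂) (trivOn W₁ W₂ W₁) ∧
      Nat.card (trivOn W₁ W₂ W₂) = Nat.card W₁ ∧ Nat.card (trivOn W₁ W₂ W₁) = Nat.card W₂ := by
  have hcyc : IsCyclic ↥(W₁ ⊔ W₂) := hW.2.2.2.2.1
  have hc := card_sup W₁ W₂ hW
  have h2 := card_trivOn W₁ W₂ W₂ hcyc le_sup_right
  have h1 := card_trivOn W₁ W₂ W₁ hcyc le_sup_left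
  rw [hc] at h1 h2
  have hΦ : Nat.card (trivOn W₁ W₂ W₂) = Nat.card W₁ :=
    Nat.eq_of_mul_eq_mul_right Nat.card_pos h2
  have hΨ : Nat.card (trivOn W₁ W₂ W₁) = Nat.card W₂ := by
    rw [mul_comm (Nat.card W₁)] at h1
    exact Nat.eq_of_mul_eq_mul_right Nat.card_pos h1
  refine ⟨?_, hΦ, hΨ⟩
  haveI : Finite (↥(W₁ ⊔ W₂) →* ℂˣ) :=
    Nat.finite_of_card_ne_zero (by rw [card_dual_sup W₁ W₂ hcyc]; exact Nat.card_pos.ne')
  apply Subgroup.isComplement'_of_card_mul_and_disjoint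
  · rw [hΦ, hΨ, card_dual_sup W₁ W₂ hcyc, hc]
  · rw [Subgroup.disjoint_def]
    intro η h1 h2
    apply hom_ext_sup W₁ W₂
    · intro w hw
      rw [h2 w hw, MonoidHom.one_apply]
    · intro w hw
      rw [h1 w hw, MonoidHom.one_apply]

end Cfsg.Agent.Lib.helper3.CycTI
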