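import Mathlib
import Cfsg.Prelude.Def_Blocks
import Cfsg.Prelude.Def_BlockRank
import Cfsg.Agent.Lib.helper3.RankOne3

/-!
# Blocks of `p`-regular rank one: the Cartan invariant
-/

set_option autoImplicit false
set_option linter.style.haveILetI false
set_option linter.unusedSectionVars false

namespace Cfsg.Agent.Lib.helper3.Block

open Cfsg Cfsg.Agent.Lib.helper3.LocalM Cfsg.Agent.Lib.helper3.Irr
open Cfsg.Agent.Lib.helper3.CharBasic Cfsg.Agent.Lib.helper3.Lin Cfsg.Agent.Lib.helper3.Central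
open Cfsg.Agent.Lib.helper3.IndFun Cfsg.Agent.Lib.helper3.HallNilp
open scoped ComplexConjugate

universe u

variable {G : Type u} [Group G] [Fintype G] {M : Ideal AlgInt}

/-- **The Cartan invariant of a block of `p`-regular rank one** is `p` to the defect. -/
theorem sum_div_gcd_sq_eq {p : ℕ} [hp : Fact p.Prime] (hM : IsPModular p M)
    (B : Set (IrrCharacter G)) (hB : IsPBlock M B) (h : blockRank p B = 1)
    (Bf : Finset (IrrCharacter G)) (hBf : ∀ χ, χ ∈ Bf ↔ χ ∈ B) :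
    ∑ ψ ∈ Bf, (charDegree (ψ : G → ℂ) / Bf.gcd (fun χ => charDegree (χ : G → ℂ))) ^ 2
      = p ^ blockDefect p B := by
  classical
  haveI hMp := isPrime_of_isPModular hM
  have hMtop : M ≠ ⊤ := hM.2.1.ne_top
  have hBfeq : ∀ inst : DecidablePred (fun χ : IrrCharacter G => χ ∈ B),
      Bf = @Finset.filter _ (fun χ : IrrCharacter G => χ ∈ B) inst Finset.univ := by
    intro inst
    ext χ
    rw [Finset.mem_filter, hBf]
    simp
  obtain ⟨χ₁, hB'⟩ := id hB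
  have hχ₁B : χ₁ ∈ B := by
    rw [hB']
    exact sameBlock_refl hMtop _
  have hχ₁Bf : χ₁ ∈ Bf := (hBf χ₁).2 hχ₁B
  obtain ⟨f, hf⟩ : ∃ f : IrrCharacter G → ℕ,
      f = fun χ : IrrCharacter G => charDegree (χ : G → ℂ) := ⟨_, rfl⟩
  have hfapp : ∀ χ, f χ = charDegree (χ : G → ℂ) := fun χ => by rw [hf]
  obtain ⟨e, he⟩ : ∃ e : ℕ, e = Bf.gcd f := ⟨_, rfl⟩
  have hgoal : ∑ ψ ∈ Bf, (charDegree (ψ : G → ℂ) / Bf.gcd (fun χ => charDegree (χ : G → ℂ))) ^ 2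
      = ∑ ψ ∈ Bf, (f ψ / e) ^ 2 := by
    rw [he, hf]
  rw [hgoal]
  have hf_pos : ∀ ψ, 0 < f ψ := fun ψ => by
    rw [hfapp]
    exact Nat.pos_of_ne_zero (charDegree_ne_zero ψ)
  have he_dvd : ∀ ψ ∈ Bf, e ∣ f ψ := fun ψ hψ => by
    rw [he]
    exact Finset.gcd_dvd hψ
  have he_pos : 0 < e := Nat.pos_of_dvd_of_pos (he_dvd χ₁ hχ₁Bf) (hf_pos χ₁)
  have hfd : ∀ ψ ∈ Bf, f ψ = e * (f ψ / e) := fun ψ hψ =>
    (Nat.mul_div_cancel' (he_dvd ψ hψ)).symm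
  obtain ⟨c, hc⟩ : ∃ c : ℕ, c = ∑ ψ ∈ Bf, (f ψ / e) ^ 2 := ⟨_, rfl⟩
  rw [← hc]
  have hsq : ∑ ψ ∈ Bf, (f ψ) ^ 2 = e ^ 2 * c := by
    rw [hc, Finset.mul_sum]
    apply Finset.sum_congr rfl
    intro ψ hψ
    conv_lhs => rw [hfd ψ hψ]
    ring
  have hcpos : 0 < c := by
    rw [hc]
    have h1 : 0 < f χ₁ / e :=
      Nat.div_pos (Nat.le_of_dvd (hf_pos χ₁) (he_dvd χ₁ hχ₁Bf)) he_pos
    have h2 : (f χ₁ / e) ^ 2 ≤ ∑ ψ ∈ Bf, (f ψ / e) ^ 2 :=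
      Finset.single_le_sum (f := fun ψ => (f ψ / e) ^ 2) (fun _ _ => Nat.zero_le _) hχ₁Bf
    have h3 : 0 < (f χ₁ / e) ^ 2 := pow_pos h1 2
    omega
  -- the idempotent identity
  have hstar := sum_sq_mul_regNorm hM B hB h χ₁ hχ₁B
  rw [← hBfeq _] at hstar
  have hsq' : ∑ ψ ∈ Bf, charDegree (ψ : G → ℂ) ^ 2 = e ^ 2 * c := by
    rw [← hsq]
    apply Finset.sum_congr rfl
    intro ψ _
    rw [hfapp]
  rw [hsq', ← hfapp χ₁] at hstar
  obtain ⟨R, hR⟩ : ∃ R : ℂ, R = ((regNorm p (χ₁ : G → ℂ) : ℝ) : ℂ) / ((f χ₁ : ℕ) : ℂ) ^ 2 :=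
    ⟨_, rfl⟩
  have hf₁C : ((f χ₁ : ℕ) : ℂ) ≠ 0 := by exact_mod_cast (hf_pos χ₁).ne'
  have heC : (e : ℂ) ≠ 0 := by exact_mod_cast he_pos.ne'
  have hcC : (c : ℂ) ≠ 0 := by exact_mod_cast hcpos.ne'
  have hGC : (Nat.card G : ℂ) ≠ 0 := card_ne_zero_complex G
  have hRstar : ((e : ℂ) ^ 2 * (c : ℂ)) * R = (Nat.card G : ℂ) := by
    rw [hR]
    have h1 : ((((e ^ 2 * c : ℕ) : ℝ) * regNorm p (χ₁ : G → ℂ) : ℝ) : ℂ)
        = (((Nat.card G : ℝ) * ((f χ₁ : ℕ) : ℝ) ^ 2 : ℝ) : ℂ) := by rw [hstar]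
    push_cast at h1
    field_simp
    linear_combination h1
  have hpair : ∀ χ ∈ Bf, ∀ ψ ∈ Bf, regPair p (χ : G → ℂ) (ψ : G → ℂ)
      = ((f χ : ℕ) : ℂ) * ((f ψ : ℕ) : ℂ) * R := by
    intro χ hχ ψ hψ
    rw [hR, hfapp, hfapp, hfapp]
    exact regPair_eq_of_blockRank_one B h χ₁ χ ψ hχ₁B ((hBf χ).1 hχ) ((hBf ψ).1 hψ)
  obtain ⟨n, hn⟩ := exists_int_sum_eq_gcd Bf f
  rw [← he] at hn
  have hnC : ∑ ψ ∈ Bf, (n ψ : ℂ) * ((f ψ : ℕ) : ℂ) = (e : ℂ) := by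
    exact_mod_cast hn
  -- `e c ∣ |G|`
  have hint1 : IsIntegral ℤ ((e : ℂ) * R) := by
    rw [← hnC, Finset.sum_mul]
    apply IsIntegral.sum
    intro ψ hψ
    have h1 := isIntegral_regPair_div p χ₁ (isCharacter_of_isIrrCharacter ψ.2)
    rw [hpair χ₁ hχ₁Bf ψ hψ, apply_one_eq_charDegree, ← hfapp] at h1
    have h2 : ((f χ₁ : ℕ) : ℂ) * ((f ψ : ℕ) : ℂ) * R / ((f χ₁ : ℕ) : ℂ) = ((f ψ : ℕ) : ℂ) * R := by
      field_simp
    rw [h2] at h1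
    have h3 : IsIntegral ℤ ((n ψ : ℂ)) := isIntegral_algebraMap (x := n ψ)
    rw [mul_assoc]
    exact h3.mul h1
  have hdvd1 : e * c ∣ Nat.card G := by
    have h1 : ((e * c : ℕ) : ℤ) ∣ ((Nat.card G : ℕ) : ℤ) := by
      apply Cfsg.Agent.Lib.helper3.AlgInt.int_dvd_of_eq_mul_isIntegral hint1
      · push_cast
        rw [← hRstar]
        ring
      · exact_mod_cast (Nat.mul_pos he_pos hcpos).ne'
    exact Int.natCast_dvd_natCast.mp h1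
  -- `c ∣ p ^ a`
  obtain ⟨a, ha⟩ : ∃ a : ℕ, a = (Nat.card G).factorization p := ⟨_, rfl⟩
  have hale : ∀ j : ℕ, p ^ j ∣ Nat.card G → j ≤ a := by
    intro j hj
    rw [ha]
    exact (hp.out.pow_dvd_iff_le_factorization Nat.card_pos.ne').1 hj
  have hk : ∀ χ : IrrCharacter G, ∀ ψ : IrrCharacter G, ∃ k : ℤ,
      ((p ^ a : ℕ) : ℂ) * regPair p (χ : G → ℂ) (ψ : G → ℂ) = (Nat.card G : ℂ) * (k : ℂ) :=
    fun χ ψ => regPair_int p (isCharacter_of_isIrrCharacter χ.2) ψ a hale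
  choose k hk using hk
  have hdvd2 : c ∣ p ^ a := by
    obtain ⟨Pa, hPa⟩ : ∃ Pa : ℂ, Pa = ((p ^ a : ℕ) : ℂ) := ⟨_, rfl⟩
    simp_rw [← hPa] at hk
    have h1 : Pa * ((e : ℂ) ^ 2 * R)
        = (Nat.card G : ℂ) * ((∑ χ ∈ Bf, ∑ ψ ∈ Bf, n χ * n ψ * k χ ψ : ℤ) : ℂ) := by
      have h2 : (e : ℂ) ^ 2 = ∑ χ ∈ Bf, ∑ ψ ∈ Bf,
          ((n χ : ℂ) * ((f χ : ℕ) : ℂ)) * ((n ψ : ℂ) * ((f ψ : ℕ) : ℂ)) := by
        rw [← Finset.sum_mul_sum, hnC]
        ring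
      rw [h2, Finset.sum_mul, Finset.mul_sum]
      push_cast
      rw [Finset.mul_sum]
      apply Finset.sum_congr rfl
      intro χ hχ
      rw [Finset.sum_mul, Finset.mul_sum, Finset.mul_sum]
      apply Finset.sum_congr rfl
      intro ψ hψ
      have h3 := hk χ ψ
      rw [hpair χ hχ ψ hψ] at h3
      linear_combination (n χ : ℂ) * (n ψ : ℂ) * h3
    have h4 : Pa = (c : ℂ)
        * ((∑ χ ∈ Bf, ∑ ψ ∈ Bf, n χ * n ψ * k χ ψ : ℤ) : ℂ) := by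
      have h5 : (e : ℂ) ^ 2 * R = (Nat.card G : ℂ) / (c : ℂ) := by
        field_simp
        linear_combination hRstar
      rw [h5] at h1
      field_simp at h1
      push_cast at h1 ⊢
      linear_combination h1
    rw [hPa] at h4
    have h7 : ((p ^ a : ℕ) : ℤ) = (c : ℤ) * (∑ χ ∈ Bf, ∑ ψ ∈ Bf, n χ * n ψ * k χ ψ) := by
      exact_mod_cast h4
    exact Int.natCast_dvd_natCast.mp ⟨_, h7⟩
  -- `p ^ a ∣ e c`
  have hdvd3 : p ^ a ∣ e * c := by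
    obtain ⟨Φ, hΦ⟩ : ∃ Φ : G → ℂ, Φ = ∑ ψ ∈ Bf, ((f ψ / e : ℕ) : ℂ) • (ψ : G → ℂ) := ⟨_, rfl⟩
    have hΦc : IsCharacter G Φ := by
      rw [hΦ]
      apply isCharacter_sum
      intro ψ _
      exact isCharacter_nsmul (isCharacter_of_isIrrCharacter ψ.2) _
    have hΦapp : ∀ y : G, (e : ℂ) * Φ y = ∑ ψ ∈ Bf, (ψ : G → ℂ) 1 * (ψ : G → ℂ) y := by
      intro y
      rw [hΦ, Finset.sum_apply, Finset.mul_sum]
      apply Finset.sum_congr rfl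
      intro ψ hψ
      rw [Pi.smul_apply, smul_eq_mul, apply_one_eq_charDegree, ← hfapp]
      conv_rhs => rw [hfd ψ hψ]
      push_cast
      ring
    have hΦvan : ∀ y : G, p ∣ orderOf y → Φ y = 0 := by
      intro y hy
      have h1 := sum_degree_mul_apply_eq_zero hM B hB y hy
      rw [← hBfeq _] at h1
      have h2 := hΦapp y
      rw [h1] at h2
      rcases mul_eq_zero.mp h2 with h3 | h3
      · exact absurd h3 heC
      · exact h3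
    have hΦ1 : Φ 1 = ((e * c : ℕ) : ℂ) := by
      have h1 := hΦapp 1
      have h2 : ∑ ψ ∈ Bf, (ψ : G → ℂ) 1 * (ψ : G → ℂ) 1 = ((e ^ 2 * c : ℕ) : ℂ) := by
        rw [← hsq]
        push_cast
        apply Finset.sum_congr rfl
        intro ψ _
        rw [apply_one_eq_charDegree, ← hfapp]
        ring
      rw [h2] at h1
      have h3 : (e : ℂ) * Φ 1 = (e : ℂ) * ((e * c : ℕ) : ℂ) := by
        rw [h1]
        push_cast
        ring
      exact mul_left_cancel₀ heC h3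
    rw [ha]
    exact pow_dvd_of_vanish hΦc hΦvan (e * c) hΦ1
  -- the `p`-part of `e`
  obtain ⟨S, hS⟩ : ∃ S : Set ℕ, S = (fun χ : IrrCharacter G =>
      (charDegree (χ : G → ℂ)).factorization p) '' B := ⟨_, rfl⟩
  have hSne : S.Nonempty := by
    rw [hS]
    exact ⟨_, ⟨χ₁, hχ₁B, rfl⟩⟩
  have hdef : blockDefect p B = a - sInf S := by
    unfold blockDefect
    rw [hS, ha]
  have hmem := Nat.sInf_mem hSne
  rw [hS] at hmem
  obtain ⟨χ₂, hχ₂B, hχ₂deg⟩ := hmem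
  rw [← hS] at hχ₂deg
  beta_reduce at hχ₂deg
  have he_fac : e.factorization p = sInf S := by
    apply le_antisymm
    · rw [← hχ₂deg, ← hfapp]
      exact (Nat.factorization_le_iff_dvd he_pos.ne' (hf_pos χ₂).ne').2
        (he_dvd χ₂ ((hBf χ₂).2 hχ₂B)) p
    · apply (hp.out.pow_dvd_iff_le_factorization he_pos.ne').1
      rw [he]
      apply Finset.dvd_gcd
      intro ψ hψ
      have h1 : sInf S ≤ (f ψ).factorization p := by
        apply Nat.sInf_le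
        rw [hS]
        exact ⟨ψ, (hBf ψ).1 hψ, by rw [hfapp]⟩
      exact dvd_trans (pow_dvd_pow p h1) (Nat.ordProj_dvd (f ψ) p)
  obtain ⟨γ, hγa, hcγ⟩ := (Nat.dvd_prime_pow hp.out).1 hdvd2
  have hfac_ec : (e * c).factorization p = sInf S + γ := by
    rw [Nat.factorization_mul he_pos.ne' hcpos.ne', Finsupp.add_apply, he_fac, hcγ,
      Nat.Prime.factorization_pow hp.out]
    simp
  have h1 : a ≤ sInf S + γ := by
    rw [← hfac_ec]
    exact (hp.out.pow_dvd_iff_le_factorization (Nat.mul_pos he_pos hcpos).ne').1 hdvd3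
  have h2 : sInf S + γ ≤ a := by
    rw [← hfac_ec, ha]
    exact (Nat.factorization_le_iff_dvd (Nat.mul_pos he_pos hcpos).ne' Nat.card_pos.ne').2
      hdvd1 p
  rw [hdef, hcγ]
  congr 1
  omega

end Cfsg.Agent.Lib.helper3.Block
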