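import Mathlib
import Cfsg.Prelude.Def_Characters
import Cfsg.Agent.Lib.helper3.IndFun
import Cfsg.Agent.Lib.helper3.Irr8
import Cfsg.Agent.Lib.helper3.Irr9
import Cfsg.Agent.Lib.helper3.Lin

set_option autoImplicit false
set_option linter.style.haveILetI false
set_option linter.unusedSectionVars false

/-!
# Irreducibility of a function induced from a linear character (Mackey criterion, linear case)
-/

namespace Cfsg.Agent.Lib.helper3.MackeyLin

open Cfsg Cfsg.Agent.Lib.helper3.IndFun Cfsg.Agent.Lib.helper3.Irr Cfsg.Agent.Lib.helper3.Lin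
open scoped ComplexConjugate

variable {G : Type*} [Group G]

theorem norm_eq_one_of_linear [Finite G] {μ : G → ℂ} (hμ : IsCharacter G μ) (h1 : μ 1 = 1) (g : G) :
    ‖μ g‖ = 1 := by
  have h := pow_eq_one_of_linear hμ h1 g (Nat.card G) (pow_card_eq_one')
  exact Complex.norm_eq_one_of_pow_eq_one h (Nat.card_pos.ne')

theorem mul_conj_eq_one_of_linear [Finite G] {μ : G → ℂ} (hμ : IsCharacter G μ) (h1 : μ 1 = 1)
    (g : G) : μ g * conj (μ g) = 1 := by
  rw [Complex.mul_conj, Complex.normSq_eq_norm_sq, norm_eq_one_of_linear hμ h1 g]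
  simp

/-- The inner sum for `x ∈ K`. -/
theorem sum_mem [Fintype G] (K : Subgroup G) [Fintype K] (μ : K → ℂ) (hμ : IsCharacter K μ)
    (h1 : μ 1 = 1) (x : G) (hx : x ∈ K) :
    ∑ k : K, μ k * conj (extendByZero K μ (x⁻¹ * (k : G) * x)) = (Nat.card K : ℂ) := by
  have hcf := isClassFunction_of_isCharacter hμ
  have h2 : ∀ k : K, μ k * conj (extendByZero K μ (x⁻¹ * (k : G) * x)) = 1 := by
    intro k
    have hmem : x⁻¹ * (k : G) * x ∈ K := K.mul_mem (K.mul_mem (K.inv_mem hx) k.2) hx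
    rw [extendByZero_mem K μ hmem]
    have h3 : (⟨x⁻¹ * (k : G) * x, hmem⟩ : K) = (⟨x, hx⟩ : K)⁻¹ * k * (⟨x, hx⟩ : K)⁻¹⁻¹ := by
      apply Subtype.ext
      simp
    rw [h3, hcf k (⟨x, hx⟩ : K)⁻¹]
    exact mul_conj_eq_one_of_linear hμ h1 k
  rw [Finset.sum_congr rfl (fun k _ => h2 k)]
  simp [Nat.card_eq_fintype_card]

/-- The inner sum for `x ∉ K` vanishes if the two linear characters differ somewhere. -/
theorem sum_not_mem [Fintype G] (K : Subgroup G) [Fintype K] (μ : K → ℂ) (hμ : IsCharacter K μ)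
    (h1 : μ 1 = 1) (x : G) (k₀ : K) (hk₀ : x⁻¹ * (k₀ : G) * x ∈ K)
    (hne : μ k₀ ≠ μ ⟨x⁻¹ * (k₀ : G) * x, hk₀⟩) :
    ∑ k : K, μ k * conj (extendByZero K μ (x⁻¹ * (k : G) * x)) = 0 := by
  classical
  set c : ℂ := μ k₀ * conj (μ ⟨x⁻¹ * (k₀ : G) * x, hk₀⟩) with hc
  have hstep : ∀ k : K, μ (k₀ * k) * conj (extendByZero K μ (x⁻¹ * ((k₀ * k : K) : G) * x))
      = c * (μ k * conj (extendByZero K μ (x⁻¹ * (k : G) * x))) := by
    intro k
    rw [map_mul_of_apply_one_eq_one hμ h1]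
    have hprod : x⁻¹ * ((k₀ * k : K) : G) * x = (x⁻¹ * (k₀ : G) * x) * (x⁻¹ * (k : G) * x) := by
      rw [Subgroup.coe_mul]
      group
    by_cases hk : x⁻¹ * (k : G) * x ∈ K
    · have hmem : x⁻¹ * ((k₀ * k : K) : G) * x ∈ K := by
        rw [hprod]
        exact K.mul_mem hk₀ hk
      rw [extendByZero_mem K μ hmem, extendByZero_mem K μ hk]
      have h3 : (⟨x⁻¹ * ((k₀ * k : K) : G) * x, hmem⟩ : K)
          = (⟨x⁻¹ * (k₀ : G) * x, hk₀⟩ : K) * ⟨x⁻¹ * (k : G) * x, hk⟩ := by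
        apply Subtype.ext
        exact hprod
      rw [h3, map_mul_of_apply_one_eq_one hμ h1, map_mul, hc]
      ring
    · have hnmem : x⁻¹ * ((k₀ * k : K) : G) * x ∉ K := by
        rw [hprod]
        intro hcon
        apply hk
        have := K.mul_mem (K.inv_mem hk₀) hcon
        rwa [inv_mul_cancel_left] at this
      rw [extendByZero_not_mem K μ hnmem, extendByZero_not_mem K μ hk]
      simp
  have hsum : ∑ k : K, μ k * conj (extendByZero K μ (x⁻¹ * (k : G) * x))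
      = c * ∑ k : K, μ k * conj (extendByZero K μ (x⁻¹ * (k : G) * x)) := by
    rw [Finset.mul_sum]
    rw [← Fintype.sum_equiv (Equiv.mulLeft k₀)
      (fun k => μ (k₀ * k) * conj (extendByZero K μ (x⁻¹ * ((k₀ * k : K) : G) * x)))
      (fun k => μ k * conj (extendByZero K μ (x⁻¹ * (k : G) * x))) (fun k => rfl)]
    exact Finset.sum_congr rfl (fun k _ => hstep k)
  have hc1 : c ≠ 1 := by
    intro hc1
    apply hne
    have h4 := mul_conj_eq_one_of_linear hμ h1 (⟨x⁻¹ * (k₀ : G) * x, hk₀⟩ : K)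
    have h5 : conj (μ ⟨x⁻¹ * (k₀ : G) * x, hk₀⟩) ≠ 0 := by
      intro h0
      rw [h0, mul_zero] at h4
      exact zero_ne_one h4
    apply mul_right_cancel₀ h5
    rw [h4, ← hc, hc1]
  have : (1 - c) * ∑ k : K, μ k * conj (extendByZero K μ (x⁻¹ * (k : G) * x)) = 0 := by
    rw [sub_mul, one_mul, ← hsum, sub_self]
  rcases mul_eq_zero.1 this with h | h
  · exact absurd (sub_eq_zero.1 h).symm hc1
  · exact h

/-- Mackey's irreducibility criterion for a linear character. -/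
theorem isIrrCharacter_indFun_of_linear [Fintype G] (K : Subgroup G) (μ : K → ℂ)
    (hμ : IsCharacter K μ) (h1 : μ 1 = 1)
    (hx : ∀ x : G, x ∉ K → ∃ k₀ : K, ∃ hk₀ : x⁻¹ * (k₀ : G) * x ∈ K,
      μ k₀ ≠ μ ⟨x⁻¹ * (k₀ : G) * x, hk₀⟩) :
    IsIrrCharacter G (indFun K μ) := by
  classical
  letI : Fintype K := Fintype.ofFinite K
  apply isIrrCharacter_of_classInner_self_eq_one (isCharacter_indFun K μ hμ)
  rw [frobenius_reciprocity K μ _ (indFun_isClassFunction K μ), classInner_apply]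
  have hK0 : (Nat.card K : ℂ) ≠ 0 := card_ne_zero_complex K
  have hexp : ∑ k : K, μ k * conj (indFun K μ k)
      = (Nat.card K : ℂ)⁻¹ * ∑ x : G, ∑ k : K, μ k * conj (extendByZero K μ (x⁻¹ * (k : G) * x)) := by
    rw [Finset.sum_comm, Finset.mul_sum]
    apply Finset.sum_congr rfl
    intro k _
    rw [indFun_apply, map_mul, map_inv₀, Complex.conj_natCast, map_sum, Finset.mul_sum,
      Finset.mul_sum, Finset.mul_sum]
    apply Finset.sum_congr rfl
    intro x _
    ring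
  have hT : ∀ x : G, ∑ k : K, μ k * conj (extendByZero K μ (x⁻¹ * (k : G) * x))
      = if x ∈ K then (Nat.card K : ℂ) else 0 := by
    intro x
    by_cases hxK : x ∈ K
    · rw [if_pos hxK]
      exact sum_mem K μ hμ h1 x hxK
    · rw [if_neg hxK]
      obtain ⟨k₀, hk₀, hne⟩ := hx x hxK
      exact sum_not_mem K μ hμ h1 x k₀ hk₀ hne
  rw [hexp, Finset.sum_congr rfl (fun x _ => hT x)]
  rw [Finset.sum_ite, Finset.sum_const_zero, add_zero, Finset.sum_const, nsmul_eq_mul]
  have hcard : (Finset.univ.filter (fun x : G => x ∈ K)).card = Nat.card K := by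
    rw [Nat.card_eq_fintype_card, Fintype.card_subtype]
  rw [hcard]
  field_simp

end Cfsg.Agent.Lib.helper3.MackeyLin
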