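import Mathlib
import Cfsg.Prelude.Def_Characters
import Cfsg.Agent.Lib.helper3.IndFunTrans

set_option autoImplicit false
set_option linter.style.haveILetI false
set_option linter.unusedSectionVars false

/-!
# Mackey's formula when `G = N T` with `N` normal
-/

namespace Cfsg.Agent.Lib.helper3.RelMon

open Cfsg Cfsg.Agent.Lib.helper3.IndFun Cfsg.Agent.Lib.helper3.IndFunTrans
open scoped ComplexConjugate

variable {G : Type*} [Group G]

/-- the fibres of the product map `N × T → G` -/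
noncomputable def fibreEquiv (N T : Subgroup G) (x y₀ t₀ : G) (hy₀ : y₀ ∈ N) (ht₀ : t₀ ∈ T)
    (h : y₀ * t₀ = x) : ↥(N ⊓ T) ≃ {p : N × T // (p.1 : G) * (p.2 : G) = x} where
  toFun u := ⟨(⟨y₀ * u, N.mul_mem hy₀ u.2.1⟩, ⟨(u : G)⁻¹ * t₀, T.mul_mem (T.inv_mem u.2.2) ht₀⟩), by
    show y₀ * (u : G) * ((u : G)⁻¹ * t₀) = x
    rw [← h]; group⟩
  invFun p := ⟨y₀⁻¹ * (p.1.1 : G), N.mul_mem (N.inv_mem hy₀) p.1.1.2, by
    have h1 : (p.1.1 : G) * (p.1.2 : G) = y₀ * t₀ := p.2.trans h.symm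
    have h2 : y₀⁻¹ * (p.1.1 : G) = t₀ * (p.1.2 : G)⁻¹ := by
      have : y₀⁻¹ * ((p.1.1 : G) * (p.1.2 : G)) * (p.1.2 : G)⁻¹ =
          y₀⁻¹ * (y₀ * t₀) * (p.1.2 : G)⁻¹ := by rw [h1]
      simpa [mul_assoc] using this
    rw [h2]
    exact T.mul_mem ht₀ (T.inv_mem p.1.2.2)⟩
  left_inv u := by
    apply Subtype.ext
    show y₀⁻¹ * (y₀ * (u : G)) = u
    group
  right_inv p := by
    apply Subtype.ext
    apply Prod.ext
    · apply Subtype.ext
      show y₀ * (y₀⁻¹ * (p.1.1 : G)) = p.1.1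
      group
    · apply Subtype.ext
      show (y₀⁻¹ * (p.1.1 : G))⁻¹ * t₀ = p.1.2
      have h1 : (p.1.1 : G) * (p.1.2 : G) = y₀ * t₀ := p.2.trans h.symm
      have : (y₀⁻¹ * (p.1.1 : G))⁻¹ * t₀ = (p.1.1 : G)⁻¹ * (y₀ * t₀) := by group
      rw [this, ← h1]
      group

theorem sum_prod_eq [Fintype G] (N T : Subgroup G) [Fintype N] [Fintype T]
    (hNT : ∀ x : G, ∃ y ∈ N, ∃ t ∈ T, y * t = x) (F : G → ℂ) :
    ∑ y : N, ∑ t : T, F ((y : G) * t) = (Nat.card ↥(N ⊓ T) : ℂ) * ∑ x : G, F x := by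
  classical
  rw [← Fintype.sum_prod_type']
  rw [← Finset.sum_fiberwise (s := Finset.univ) (g := fun p : N × T => (p.1 : G) * (p.2 : G))]
  rw [Finset.mul_sum]
  apply Finset.sum_congr rfl
  intro x _
  have h1 : ∀ p ∈ Finset.univ.filter (fun p : N × T => (p.1 : G) * (p.2 : G) = x),
      F ((p.1 : G) * (p.2 : G)) = F x := by
    intro p hp
    rw [(Finset.mem_filter.1 hp).2]
  rw [Finset.sum_congr rfl h1, Finset.sum_const, nsmul_eq_mul]
  congr 1
  obtain ⟨y₀, hy₀, t₀, ht₀, h⟩ := hNT x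
  have := Nat.card_congr (fibreEquiv N T x y₀ t₀ hy₀ ht₀ h)
  rw [this, Nat.card_eq_fintype_card, Fintype.card_subtype]

theorem extendByZero_conj_mem (T : Subgroup G) (ψ : T → ℂ) (hψ : IsClassFunction T ψ) (g t : G)
    (ht : t ∈ T) : extendByZero T ψ (t⁻¹ * g * t) = extendByZero T ψ g := by
  by_cases hg : g ∈ T
  · have hg' : t⁻¹ * g * t ∈ T := T.mul_mem (T.mul_mem (T.inv_mem ht) hg) ht
    rw [extendByZero_mem T ψ hg, extendByZero_mem T ψ hg']
    have := hψ ⟨g, hg⟩ ⟨t⁻¹, T.inv_mem ht⟩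
    rw [← this]
    congr 1
    apply Subtype.ext
    simp
  · have hg' : t⁻¹ * g * t ∉ T := by
      intro h
      apply hg
      have := T.mul_mem (T.mul_mem ht h) (T.inv_mem ht)
      simpa [mul_assoc] using this
    rw [extendByZero_not_mem T ψ hg, extendByZero_not_mem T ψ hg']

/-- **Mackey's formula** in the special case `G = N T` with `N` normal. -/
theorem restrict_indFun_of_mul_eq_top [Fintype G] (N T : Subgroup G) [Fintype N] [Fintype T]
    (hNT : ∀ x : G, ∃ y ∈ N, ∃ t ∈ T, y * t = x) (ψ : T → ℂ) (hψ : IsClassFunction T ψ) (n : N) :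
    indFun T ψ (n : G) =
      indFun (T.subgroupOf N) (fun x => ψ ⟨((x : N) : G), Subgroup.mem_subgroupOf.mp x.2⟩) n := by
  classical
  rw [indFun_apply, indFun_apply]
  have h1 : ∀ y : N, extendByZero (T.subgroupOf N)
      (fun x => ψ ⟨((x : N) : G), Subgroup.mem_subgroupOf.mp x.2⟩) (y⁻¹ * n * y)
      = extendByZero T ψ ((y : G)⁻¹ * n * y) := by
    intro y
    rw [extendByZero_subgroupOf T N ψ (y⁻¹ * n * y)]
    rfl
  rw [Finset.sum_congr rfl (fun y _ => h1 y)]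
  obtain ⟨F, hF⟩ : ∃ F : G → ℂ, F = fun x => extendByZero T ψ (x⁻¹ * n * x) := ⟨_, rfl⟩
  have h2 := sum_prod_eq N T hNT F
  have h3 : ∀ y : N, ∑ t : T, F ((y : G) * t) = (Nat.card T : ℂ) * F y := by
    intro y
    have : ∀ t : T, F ((y : G) * t) = F y := by
      intro t
      rw [hF]
      simp only
      have e : ((y : G) * t)⁻¹ * n * ((y : G) * t) = (t : G)⁻¹ * ((y : G)⁻¹ * n * y) * t := by group
      rw [e, extendByZero_conj_mem T ψ hψ _ t t.2]
    rw [Finset.sum_congr rfl (fun t _ => this t), Finset.sum_const, nsmul_eq_mul,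
      Finset.card_univ, Nat.card_eq_fintype_card]
  rw [Finset.sum_congr rfl (fun y _ => h3 y), ← Finset.mul_sum] at h2
  have hcard : Nat.card (T.subgroupOf N) = Nat.card ↥(N ⊓ T) := by
    apply Nat.card_congr
    exact {
      toFun := fun x => ⟨((x : N) : G), (x : N).2, Subgroup.mem_subgroupOf.mp x.2⟩
      invFun := fun u => ⟨⟨(u : G), u.2.1⟩, Subgroup.mem_subgroupOf.mpr u.2.2⟩
      left_inv := fun x => rfl
      right_inv := fun u => rfl }
  have hT0 : (Nat.card T : ℂ) ≠ 0 := card_ne_zero_complex T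
  have hI0 : (Nat.card ↥(N ⊓ T) : ℂ) ≠ 0 := card_ne_zero_complex _
  have hFy : ∀ y : N, extendByZero T ψ ((y : G)⁻¹ * n * y) = F y := by
    intro y; rw [hF]
  rw [Finset.sum_congr rfl (fun y _ => hFy y), hcard]
  have hFx : ∀ x : G, extendByZero T ψ (x⁻¹ * n * x) = F x := by
    intro x; rw [hF]
  rw [Finset.sum_congr rfl (fun x _ => hFx x)]
  field_simp
  rw [mul_comm] at h2
  linear_combination -h2

end Cfsg.Agent.Lib.helper3.RelMon
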