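import Mathlib
import Cfsg.Prelude.Def_Characters
import Cfsg.Agent.Lib.helper3.AbelianInertia
import Cfsg.Agent.Lib.helper3.Gallagher

set_option autoImplicit false
set_option linter.style.haveILetI false
set_option linter.unusedSectionVars false

/-!
# Restriction to a normal subgroup with abelian quotient: the norm of the restriction
-/

namespace Cfsg.Agent.Lib.helper3.Irr

open Cfsg Module Cfsg.Agent.Lib.helper3.IndFun Cfsg.Agent.Lib.helper3.CharBasic
open Cfsg.Agent.Lib.helper3.Lin
open scoped ComplexConjugate

variable {K : Type*} [Group K]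

/-- The norm of the restriction to a normal subgroup with abelian quotient as a sum over the
linear characters of the quotient. -/
theorem classInner_restrict_eq_sum_inflate [Fintype K] (L : Subgroup K) [hL : L.Normal] [Fintype L]
    (hab : ∀ x y : K, x * y * x⁻¹ * y⁻¹ ∈ L) (θ : K → ℂ) (hθ : IsClassFunction K θ) :
    classInner (fun x : L => θ x) (fun x : L => θ x)
      = ∑ β : IrrCharacter (K ⧸ L), classInner (inflate L (β : K ⧸ L → ℂ) * θ) θ := by
  rw [← frobenius_reciprocity L (fun x : L => θ x) θ hθ]
  have h1 : (fun x : L => θ x) = (fun _ : L => (1 : ℂ)) * fun x : L => θ x := by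
    funext x
    simp
  rw [h1, indFun_mul_restrict L _ θ hθ, indFun_one_eq_sum_inflate L hab, Finset.sum_mul,
    classInner_sum_left]

/-- If the support of an irreducible character `θ` together with `L` generates the group, the
restriction of `θ` to `L` has norm one. -/
theorem classInner_restrict_eq_one [Fintype K] (L : Subgroup K) [hL : L.Normal] [Fintype L]
    (hab : ∀ x y : K, x * y * x⁻¹ * y⁻¹ ∈ L) (θ : K → ℂ) (hθ : IsIrrCharacter K θ)
    (hgen : ∀ N : Subgroup K, L ≤ N → (∀ x : K, θ x ≠ 0 → x ∈ N) → N = ⊤) :
    classInner (fun x : L => θ x) (fun x : L => θ x) = 1 := by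
  classical
  have hθc := isCharacter_of_isIrrCharacter hθ
  have hcf := isClassFunction_of_isCharacter hθc
  rw [classInner_restrict_eq_sum_inflate L hab θ hcf]
  have hcomm := quotient_comm_of_commutator_mem L hab
  letI : Fintype (K ⧸ L) := Fintype.ofFinite _
  have hone : IsIrrCharacter (K ⧸ L) (fun _ => (1 : ℂ)) := isIrrCharacter_one
  have hterm : ∀ β : IrrCharacter (K ⧸ L),
      classInner (inflate L (β : K ⧸ L → ℂ) * θ) θ
        = if β = ⟨fun _ => 1, hone⟩ then 1 else 0 := by
    intro β
    have hβ1 : (β : K ⧸ L → ℂ) 1 = 1 := apply_one_eq_one_of_comm hcomm β.2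
    have hβc : IsCharacter K (inflate L (β : K ⧸ L → ℂ)) :=
      isCharacter_of_isIrrCharacter (isIrrCharacter_inflate L β.2)
    have hβ1' : inflate L (β : K ⧸ L → ℂ) 1 = 1 := by
      rw [inflate_apply]
      exact hβ1
    have hirr : IsIrrCharacter K (inflate L (β : K ⧸ L → ℂ) * θ) :=
      isIrrCharacter_linear_mul hβc hβ1' hθ
    split_ifs with h
    · rw [h]
      have : inflate L (fun _ : K ⧸ L => (1 : ℂ)) * θ = θ := by
        funext x
        simp [inflate_apply]
      simp only
      rw [this, irr_classInner_self hθ]
    · apply irr_classInner_eq_zero hirr hθ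
      intro heq
      apply h
      -- the kernel of the linear character contains the support of θ
      let N : Subgroup K :=
        { carrier := {x | inflate L (β : K ⧸ L → ℂ) x = 1}
          one_mem' := hβ1'
          mul_mem' := by
            intro a b ha hb
            simp only [Set.mem_ofPred_eq] at ha hb ⊢
            rw [map_mul_of_apply_one_eq_one hβc hβ1', ha, hb, one_mul]
          inv_mem' := by
            intro a ha
            simp only [Set.mem_ofPred_eq] at ha ⊢
            have h2 := map_mul_of_apply_one_eq_one hβc hβ1' a a⁻¹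
            rw [mul_inv_cancel, hβ1', ha, one_mul] at h2
            exact h2.symm }
      have hLN : L ≤ N := by
        intro x hx
        show inflate L (β : K ⧸ L → ℂ) x = 1
        rw [inflate_apply_of_mem L _ hx]
        exact hβ1
      have hsupp : ∀ x : K, θ x ≠ 0 → x ∈ N := by
        intro x hx
        show inflate L (β : K ⧸ L → ℂ) x = 1
        have h3 := congrFun heq x
        rw [Pi.mul_apply] at h3
        exact mul_right_cancel₀ hx (h3.trans (one_mul _).symm)
      have htop := hgen N hLN hsupp
      apply Subtype.ext
      funext q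
      obtain ⟨x, rfl⟩ := QuotientGroup.mk_surjective q
      have hx : x ∈ N := by rw [htop]; exact Subgroup.mem_top x
      exact hx
  rw [Finset.sum_congr rfl (fun β _ => hterm β)]
  simp

/-- If an irreducible character `θ` vanishes off `L`, the restriction of `θ` to `L` has norm
the index of `L`. -/
theorem classInner_restrict_eq_index [Fintype K] (L : Subgroup K) [Fintype L]
    (θ : K → ℂ) (hθ : IsIrrCharacter K θ) (hsupp : ∀ x : K, θ x ≠ 0 → x ∈ L) :
    classInner (fun x : L => θ x) (fun x : L => θ x) = L.index := by
  classical
  have h1 := irr_classInner_self hθ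
  rw [classInner_apply] at h1 ⊢
  have h2 : ∑ g : K, θ g * conj (θ g) = ∑ x : L, θ x * conj (θ x) := by
    rw [← sum_extendByZero_mul L (fun x : L => θ x) (fun g => conj (θ g))]
    apply Finset.sum_congr rfl
    intro g _
    by_cases hg : g ∈ L
    · rw [extendByZero_mem L _ hg]
    · rw [extendByZero_not_mem L _ hg]
      have : θ g = 0 := by
        by_contra h
        exact hg (hsupp g h)
      rw [this]
  rw [h2] at h1
  have hK : (Nat.card K : ℂ) ≠ 0 := card_ne_zero_complex K
  have hL : (Nat.card L : ℂ) ≠ 0 := card_ne_zero_complex L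
  have h3 : ∑ x : L, θ x * conj (θ x) = Nat.card K := by
    field_simp at h1
    exact h1
  rw [h3, ← Subgroup.card_mul_index L]
  push_cast
  field_simp

end Cfsg.Agent.Lib.helper3.Irr
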