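import Mathlib
import Cfsg.Prelude.Def_Characters
import Cfsg.Agent.Lib.helper3.GoingDown1
import Cfsg.Agent.Lib.helper3.GoingDown2

set_option autoImplicit false
set_option linter.style.haveILetI false
set_option linter.unusedSectionVars false

/-!
# Going down across an abelian chief factor
-/

namespace Cfsg.Agent.Lib.helper3.GoingDown

open Cfsg Module Cfsg.Agent.Lib.helper3.IndFun Cfsg.Agent.Lib.helper3.CharBasic
open Cfsg.Agent.Lib.helper3.Irr
open scoped ComplexConjugate

variable {G : Type*} [Group G] (K L : Subgroup G) [hK : K.Normal] [hL : L.Normal]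

/-- Conjugation by an element of `G` as an automorphism of `L` inside `K`. -/
def gAut (g : G) : L.subgroupOf K ≃* L.subgroupOf K where
  toFun x := ⟨⟨g * ((x : K) : G) * g⁻¹, hK.conj_mem _ (x : K).2 g⟩, by
    rw [Subgroup.mem_subgroupOf]
    exact hL.conj_mem _ (Subgroup.mem_subgroupOf.1 x.2) g⟩
  invFun x := ⟨⟨g⁻¹ * ((x : K) : G) * g, by
    have := hK.conj_mem _ (x : K).2 g⁻¹
    simpa using this⟩, by
    rw [Subgroup.mem_subgroupOf]
    have := hL.conj_mem _ (Subgroup.mem_subgroupOf.1 x.2) g⁻¹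
    simpa using this⟩
  left_inv := by
    intro x
    apply Subtype.ext
    apply Subtype.ext
    simp [mul_assoc]
  right_inv := by
    intro x
    apply Subtype.ext
    apply Subtype.ext
    simp [mul_assoc]
  map_mul' := by
    intro x y
    apply Subtype.ext
    apply Subtype.ext
    simp [mul_assoc]

/-- Twisting a function on `L` (inside `K`) by an element of `G`. -/
def gconj (g : G) (ψ : L.subgroupOf K → ℂ) : L.subgroupOf K → ℂ := fun x => ψ (gAut K L g x)

theorem gconj_mul (x y : G) (ψ : L.subgroupOf K → ℂ) :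
    gconj K L y (gconj K L x ψ) = gconj K L (x * y) ψ := by
  funext h
  unfold gconj
  congr 1
  apply Subtype.ext
  apply Subtype.ext
  simp [gAut, mul_assoc]

theorem gconj_one (ψ : L.subgroupOf K → ℂ) : gconj K L 1 ψ = ψ := by
  funext h
  unfold gconj
  congr 1
  apply Subtype.ext
  apply Subtype.ext
  simp [gAut]

theorem gconj_eq_conjFun (k : K) (ψ : L.subgroupOf K → ℂ) :
    gconj K L (k : G) ψ = conjFun (L.subgroupOf K) ψ k := by
  funext h
  unfold gconj conjFun
  congr 1

theorem isIrrCharacter_gconj [Finite G] (g : G) {ψ : L.subgroupOf K → ℂ}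
    (hψ : IsIrrCharacter (L.subgroupOf K) ψ) : IsIrrCharacter (L.subgroupOf K) (gconj K L g ψ) :=
  isIrrCharacter_comp_mulEquiv (gAut K L g) hψ

theorem classInner_gconj [Fintype (L.subgroupOf K)] (g : G) (a b : L.subgroupOf K → ℂ) :
    classInner (gconj K L g a) (gconj K L g b) = classInner a b :=
  classInner_comp_mulEquiv (gAut K L g) a b

theorem conjFun_of_mem [Finite G] {ψ : L.subgroupOf K → ℂ}
    (hψ : IsIrrCharacter (L.subgroupOf K) ψ) (c : K) (hc : c ∈ L.subgroupOf K) :
    conjFun (L.subgroupOf K) ψ c = ψ := by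
  have hcf := isClassFunction_of_isCharacter (isCharacter_of_isIrrCharacter hψ)
  funext x
  unfold conjFun
  have := hcf x ⟨c, hc⟩
  rw [← this]
  congr 1

theorem closure_normal_of_conj {S : Set G} (h : ∀ g x, x ∈ S → g * x * g⁻¹ ∈ S) :
    (Subgroup.closure S).Normal := by
  constructor
  intro n hn g
  induction hn using Subgroup.closure_induction with
  | mem x hx => exact Subgroup.subset_closure (h g x hx)
  | one => simp
  | mul x y _ _ hx hy =>
    have : g * (x * y) * g⁻¹ = (g * x * g⁻¹) * (g * y * g⁻¹) := by group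
    rw [this]
    exact mul_mem hx hy
  | inv x _ hx =>
    have : g * x⁻¹ * g⁻¹ = (g * x * g⁻¹)⁻¹ := by group
    rw [this]
    exact inv_mem hx

/-- Going down across an abelian chief factor. -/
theorem going_down [Fintype G] (hLK : L ≤ K)
    (hchief : ∀ M : Subgroup G, M.Normal → L ≤ M → M ≤ K → M = L ∨ M = K)
    (hab : ⁅K, K⁆ ≤ L) (θ : K → ℂ) (hθ : IsIrrCharacter K θ)
    (hinv : ∀ (g : G) (n : K), θ ⟨g * n * g⁻¹, hK.conj_mem (n : G) n.2 g⟩ = θ n) :
    IsIrrCharacter (L.subgroupOf K) (fun x : L.subgroupOf K => θ x) ∨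
    (∃ (φ₀ : L.subgroupOf K → ℂ) (e : ℕ), IsIrrCharacter (L.subgroupOf K) φ₀ ∧
      (fun x : L.subgroupOf K => θ x) = (e : ℂ) • φ₀ ∧ e ^ 2 = L.relIndex K) ∨
    (∃ F : Finset (L.subgroupOf K → ℂ), (∀ φ ∈ F, IsIrrCharacter (L.subgroupOf K) φ) ∧
      F.card = L.relIndex K ∧ (fun x : L.subgroupOf K => θ x) = ∑ φ ∈ F, φ) := by
  classical
  letI : Fintype K := Fintype.ofFinite K
  letI : Fintype (L.subgroupOf K) := Fintype.ofFinite _
  obtain ⟨res₀, hres₀⟩ : ∃ r : L.subgroupOf K → ℂ, r = fun x : L.subgroupOf K => θ x := ⟨_, rfl⟩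
  rw [← hres₀]
  have habK : ∀ x y : K, x * y * x⁻¹ * y⁻¹ ∈ L.subgroupOf K := by
    intro x y
    rw [Subgroup.mem_subgroupOf]
    apply hab
    have := Subgroup.commutator_mem_commutator x.2 y.2
    rw [commutatorElement_def] at this
    simpa using this
  have hθc := isCharacter_of_isIrrCharacter hθ
  have hres₀c : IsCharacter (L.subgroupOf K) res₀ := by
    rw [hres₀]
    exact isCharacter_restrict hθc _
  have hinv₀ : ∀ g : G, gconj K L g res₀ = res₀ := by
    intro g
    rw [hres₀]
    funext x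
    unfold gconj
    exact hinv g (x : K)
  -- Step 1: the norm of the restriction
  have hs : classInner res₀ res₀ = 1 ∨ classInner res₀ res₀ = ((L.relIndex K : ℕ) : ℂ) := by
    obtain ⟨S, hS⟩ : ∃ S : Set G, S = {x | ∃ h : x ∈ K, θ ⟨x, h⟩ ≠ 0} := ⟨_, rfl⟩
    have hSconj : ∀ g x, x ∈ S → g * x * g⁻¹ ∈ S := by
      intro g x hx
      rw [hS] at hx ⊢
      obtain ⟨h, hx⟩ := hx
      refine ⟨hK.conj_mem x h g, ?_⟩
      rw [hinv g ⟨x, h⟩]
      exact hx
    have hSK : S ⊆ K := by
      intro x hx
      rw [hS] at hx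
      exact hx.1
    haveI := closure_normal_of_conj hSconj
    rcases hchief (L ⊔ Subgroup.closure S) inferInstance le_sup_left
      (sup_le hLK ((Subgroup.closure_le K).2 hSK)) with h | h
    · right
      rw [hres₀]
      have := classInner_restrict_eq_index (L.subgroupOf K) θ hθ (by
        intro x hx
        rw [Subgroup.mem_subgroupOf, ← h]
        apply Subgroup.mem_sup_right
        apply Subgroup.subset_closure
        rw [hS]
        exact ⟨x.2, hx⟩)
      rw [this]
      rfl
    · left
      rw [hres₀]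
      apply classInner_restrict_eq_one (L.subgroupOf K) habK θ hθ
      intro N₀ hLN hsupp
      rw [eq_top_iff]
      intro k _
      have hle : L ⊔ Subgroup.closure S ≤ N₀.map K.subtype := by
        apply sup_le
        · intro x hx
          exact Subgroup.mem_map.2 ⟨⟨x, hLK hx⟩, hLN (Subgroup.mem_subgroupOf.2 hx), rfl⟩
        · rw [Subgroup.closure_le]
          intro x hx
          rw [hS] at hx
          obtain ⟨h1, h2⟩ := hx
          exact Subgroup.mem_map.2 ⟨⟨x, h1⟩, hsupp _ h2, rfl⟩
      rw [h] at hle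
      obtain ⟨y, hy, hyk⟩ := Subgroup.mem_map.1 (hle k.2)
      have : y = k := Subtype.ext hyk
      rw [← this]
      exact hy
  rcases hs with hs | hs
  · left
    exact isIrrCharacter_of_classInner_self_eq_one hres₀c hs
  right
  -- Step 2: Clifford
  have hne : res₀ ≠ 0 := by
    intro h
    have h1 := congrFun h 1
    rw [hres₀] at h1
    exact apply_one_ne_zero hθ h1
  obtain ⟨φ, hφne⟩ := exists_constituent hres₀c hne
  obtain ⟨e, he0, he, hcl, hnorm, hmem⟩ := clifford_finset (L.subgroupOf K) θ hθ φ.1 φ.2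
    (by rw [← hres₀]; exact hφne)
  rw [← hres₀] at hcl hnorm hmem he
  -- the subgroup fixing all constituents
  let M₂ : Subgroup G :=
    { carrier := {g | g ∈ K ∧ ∀ ψ : L.subgroupOf K → ℂ, IsIrrCharacter (L.subgroupOf K) ψ →
        classInner res₀ ψ ≠ 0 → gconj K L g ψ = ψ}
      one_mem' := ⟨K.one_mem, fun ψ _ _ => gconj_one K L ψ⟩
      mul_mem' := by
        rintro a b ⟨ha, ha'⟩ ⟨hb, hb'⟩
        refine ⟨K.mul_mem ha hb, fun ψ hψ hψ' => ?_⟩
        rw [← gconj_mul, ha' ψ hψ hψ', hb' ψ hψ hψ']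
      inv_mem' := by
        rintro a ⟨ha, ha'⟩
        refine ⟨K.inv_mem ha, fun ψ hψ hψ' => ?_⟩
        have h1 : gconj K L a⁻¹ (gconj K L a ψ) = ψ := by
          rw [gconj_mul, mul_inv_cancel, gconj_one]
        rw [ha' ψ hψ hψ'] at h1
        exact h1 }
  have hM₂n : M₂.Normal := by
    constructor
    rintro g ⟨hg, hg'⟩ x
    refine ⟨hK.conj_mem g hg x, fun ψ hψ hψ' => ?_⟩
    have h1 : IsIrrCharacter (L.subgroupOf K) (gconj K L x ψ) := isIrrCharacter_gconj K L x hψ
    have h2 : classInner res₀ (gconj K L x ψ) ≠ 0 := by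
      rw [← hinv₀ x, classInner_gconj]
      exact hψ'
    rw [← gconj_mul, ← gconj_mul, hg' _ h1 h2, gconj_mul, mul_inv_cancel, gconj_one]
  have hLM₂ : L ≤ M₂ := by
    intro l hl
    refine ⟨hLK hl, fun ψ hψ _ => ?_⟩
    have := gconj_eq_conjFun K L ⟨l, hLK hl⟩ ψ
    rw [this]
    exact conjFun_of_mem K L hψ _ (Subgroup.mem_subgroupOf.2 hl)
  have hM₂K : M₂ ≤ K := fun g hg => hg.1
  have hstab : ∀ k : K, conjFun (L.subgroupOf K) φ.1 k = φ.1 ↔ (k : G) ∈ M₂ := by
    intro k
    constructor
    · intro hk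
      refine ⟨k.2, fun ψ hψ hψ' => ?_⟩
      have hψmem := hmem ψ hψ hψ'
      obtain ⟨k', -, rfl⟩ := Finset.mem_image.1 hψmem
      have h0 : gconj K L ((k : K) : G) (conjFun (L.subgroupOf K) φ.1 k')
          = conjFun (L.subgroupOf K) (conjFun (L.subgroupOf K) φ.1 k') k :=
        gconj_eq_conjFun K L k _
      rw [h0, conjFun_mul]
      have h1 : k' * k = (k' * k * k'⁻¹ * k⁻¹) * k * k' := by group
      rw [h1, ← conjFun_mul, ← conjFun_mul, conjFun_of_mem K L φ.2 _ (habK k' k), hk]
    · rintro ⟨-, hk⟩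
      have := hk φ.1 φ.2 hφne
      rw [← gconj_eq_conjFun K L k φ.1]
      exact this
  have horb := card_eq_card_image_conjFun_mul (L.subgroupOf K) φ.1
  have hnat : e ^ 2 * (Finset.univ.image (conjFun (L.subgroupOf K) φ.1)).card = L.relIndex K := by
    rw [hs] at hnorm
    exact_mod_cast hnorm.symm
  have hφimg : φ.1 ∈ Finset.univ.image (conjFun (L.subgroupOf K) φ.1) := by
    rw [Finset.mem_image]
    exact ⟨1, Finset.mem_univ _, conjFun_one _ _⟩
  rcases hchief M₂ hM₂n hLM₂ hM₂K with h | h
  · -- stabilizer is `L`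
    right
    have hfilter : (Finset.univ.filter (fun x : K => conjFun (L.subgroupOf K) φ.1 x = φ.1))
        = Finset.univ.filter (fun x : K => x ∈ L.subgroupOf K) := by
      apply Finset.filter_congr
      intro k _
      rw [hstab k, h, Subgroup.mem_subgroupOf]
    rw [hfilter, ← Fintype.card_subtype] at horb
    have hidx := Subgroup.card_mul_index (L.subgroupOf K)
    rw [Nat.card_eq_fintype_card, Nat.card_eq_fintype_card] at hidx
    have hcard0 : 0 < Fintype.card {x : K // x ∈ L.subgroupOf K} := Fintype.card_pos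
    have hcardeq : Fintype.card {x : K // x ∈ L.subgroupOf K} = Fintype.card (L.subgroupOf K) := by
      apply Fintype.card_congr
      exact Equiv.refl _
    have ht : (Finset.univ.image (conjFun (L.subgroupOf K) φ.1)).card = L.relIndex K := by
      have h3 : (Finset.univ.image (conjFun (L.subgroupOf K) φ.1)).card
          * Fintype.card {x : K // x ∈ L.subgroupOf K}
          = (L.subgroupOf K).index * Fintype.card {x : K // x ∈ L.subgroupOf K} := by
        rw [← horb, hcardeq, ← hidx, mul_comm]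
      exact Nat.eq_of_mul_eq_mul_right hcard0 h3
    have he1 : e = 1 := by
      rw [ht] at hnat
      have hpos : 0 < L.relIndex K := by
        rw [← ht]
        exact Finset.card_pos.2 ⟨_, hφimg⟩
      have h4 : e ^ 2 = 1 := by
        have : e ^ 2 * L.relIndex K = 1 * L.relIndex K := by rw [hnat, one_mul]
        exact Nat.eq_of_mul_eq_mul_right hpos this
      rcases Nat.lt_or_ge e 2 with h5 | h5
      · interval_cases e
        · simp at h4
        · rfl
      · nlinarith
    refine ⟨Finset.univ.image (conjFun (L.subgroupOf K) φ.1), ?_, ht, ?_⟩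
    · intro ψ hψ
      obtain ⟨g, -, rfl⟩ := Finset.mem_image.mp hψ
      exact isIrrCharacter_conjFun _ φ.2 g
    · rw [hcl, he1, Nat.cast_one, one_smul]
  · -- everything fixes `φ`
    left
    have hfilter : (Finset.univ.filter (fun x : K => conjFun (L.subgroupOf K) φ.1 x = φ.1))
        = Finset.univ := by
      apply Finset.filter_true_of_mem
      intro k _
      rw [hstab k, h]
      exact k.2
    rw [hfilter, Finset.card_univ] at horb
    have hcard0 : 0 < Fintype.card K := Fintype.card_pos
    have ht : (Finset.univ.image (conjFun (L.subgroupOf K) φ.1)).card = 1 := by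
      have : (Finset.univ.image (conjFun (L.subgroupOf K) φ.1)).card * Fintype.card K
          = 1 * Fintype.card K := by rw [← horb, one_mul]
      exact Nat.eq_of_mul_eq_mul_right hcard0 this
    obtain ⟨a, ha⟩ := Finset.card_eq_one.1 ht
    have haφ : φ.1 = a := by
      rw [ha] at hφimg
      exact Finset.mem_singleton.1 hφimg
    refine ⟨φ.1, e, φ.2, ?_, ?_⟩
    · rw [hcl, ha, Finset.sum_singleton, haφ]
    · rw [ht, mul_one] at hnat
      exact hnat

end Cfsg.Agent.Lib.helper3.GoingDown
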