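import Mathlib
import Cfsg.Prelude.Def_Characters
import Cfsg.Agent.Lib.helper3.GoingDown3
import Cfsg.Agent.Lib.helper3.NilpM1
import Cfsg.Agent.Lib.helper3.Ito
import Cfsg.Agent.Lib.helper3.CliffCorr
import Cfsg.Agent.Lib.helper3.FullyRam
import Cfsg.Agent.Lib.helper3.SolvExt

set_option autoImplicit false
set_option linter.style.haveILetI false
set_option linter.unusedSectionVars false

/-!
# Relative M-groups: nonsquare chief factors
-/

namespace Cfsg.Agent.Lib.helper3.RelM

open Cfsg Module Cfsg.Agent.Lib.helper3.IndFun Cfsg.Agent.Lib.helper3.CharBasic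
open Cfsg.Agent.Lib.helper3.Irr Cfsg.Agent.Lib.helper3.GoingDown
open scoped ComplexConjugate

universe u

/-- A subgroup of a solvable group contained in its own commutator subgroup is trivial. -/
theorem eq_bot_of_le_commutator {Q : Type*} [Group Q] (hQ : Group.IsSolvable Q) (A : Subgroup Q)
    (hA : A ≤ ⁅A, A⁆) : A = ⊥ := by
  obtain ⟨n, hn⟩ := hQ
  have h : ∀ m, A ≤ derivedSeries Q m := by
    intro m
    induction m with
    | zero => exact le_top
    | succ m ih => exact hA.trans (Subgroup.commutator_mono ih ih)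
  rw [eq_bot_iff, ← hn]
  exact h n

/-- Below a normal subgroup properly containing `N` (with `G / N` solvable) there is a normal
subgroup with abelian quotient. -/
theorem exists_abelian_factor {G : Type*} [Group G] (N K : Subgroup G) [hN : N.Normal]
    [hK : K.Normal] (hsolv : Group.IsSolvable (G ⧸ N)) (hNK : N < K) :
    ∃ L : Subgroup G, L.Normal ∧ N ≤ L ∧ ⁅K, K⁆ ≤ L ∧ L < K := by
  refine ⟨⁅K, K⁆ ⊔ N, inferInstance, le_sup_right, le_sup_left, ?_⟩
  apply lt_of_le_of_ne (sup_le (Subgroup.commutator_le_right K K) hNK.le)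
  intro h
  have h1 : (K.map (QuotientGroup.mk' N)) ≤ ⁅K.map (QuotientGroup.mk' N), K.map (QuotientGroup.mk' N)⁆ := by
    rw [← Subgroup.map_commutator]
    conv_lhs => rw [← h]
    rw [Subgroup.map_sup, QuotientGroup.map_mk'_self, sup_bot_eq]
  have h2 := eq_bot_of_le_commutator hsolv _ h1
  have h3 := (Subgroup.map_eq_bot_iff K).1 h2
  rw [QuotientGroup.ker_mk'] at h3
  exact absurd h3 (not_le_of_gt hNK)

/-- The hypothesis on chief factors of subgroups containing `N`. -/
def HC {G : Type*} [Group G] (N : Subgroup G) : Prop :=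
  ∀ (H K L : Subgroup G), N ≤ L → L < K → K ≤ H → (∀ h ∈ H, ∀ k ∈ K, h * k * h⁻¹ ∈ K) →
    (∀ h ∈ H, ∀ l ∈ L, h * l * h⁻¹ ∈ L) →
    (∀ M : Subgroup G, L ≤ M → M ≤ K → (∀ h ∈ H, ∀ m ∈ M, h * m * h⁻¹ ∈ M) → M = L ∨ M = K) →
    ¬ IsSquare (L.relIndex K)

theorem HC.subgroupOf {G : Type*} [Group G] {N : Subgroup G} (h : HC N) (T : Subgroup G)
    (hNT : N ≤ T) : HC (N.subgroupOf T) := by
  intro H' K' L' hNL hLK hKH hconjK hconjL hchief
  have hinj := T.subtype_injective
  have key := h (H'.map T.subtype) (K'.map T.subtype) (L'.map T.subtype) ?_ ?_ ?_ ?_ ?_ ?_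
  · rwa [Subgroup.relIndex_map_map_of_injective _ _ hinj] at key
  · intro x hx
    exact Subgroup.mem_map.2 ⟨⟨x, hNT hx⟩, hNL (Subgroup.mem_subgroupOf.2 hx), rfl⟩
  · exact (Subgroup.map_lt_map_iff_of_injective hinj).2 hLK
  · exact Subgroup.map_mono hKH
  · intro a ha k hk
    obtain ⟨a', ha', rfl⟩ := Subgroup.mem_map.1 ha
    obtain ⟨k', hk', rfl⟩ := Subgroup.mem_map.1 hk
    exact Subgroup.mem_map.2 ⟨a' * k' * a'⁻¹, hconjK a' ha' k' hk', by simp⟩
  · intro a ha k hk
    obtain ⟨a', ha', rfl⟩ := Subgroup.mem_map.1 ha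
    obtain ⟨k', hk', rfl⟩ := Subgroup.mem_map.1 hk
    exact Subgroup.mem_map.2 ⟨a' * k' * a'⁻¹, hconjL a' ha' k' hk', by simp⟩
  · intro M hLM hMK hMconj
    have hMT : M ≤ T.subtype.range := by
      rw [Subgroup.range_subtype]
      exact hMK.trans (Subgroup.map_subtype_le K')
    have h1 : L' ≤ M.comap T.subtype := by
      intro x hx
      exact hLM (Subgroup.mem_map_of_mem _ hx)
    have h2 : M.comap T.subtype ≤ K' := by
      intro x hx
      obtain ⟨y, hy, hyx⟩ := Subgroup.mem_map.1 (hMK hx)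
      have : y = x := hinj hyx
      rw [← this]
      exact hy
    have h3 : ∀ a ∈ H', ∀ m ∈ M.comap T.subtype, a * m * a⁻¹ ∈ M.comap T.subtype := by
      intro a ha m hm
      have := hMconj (T.subtype a) (Subgroup.mem_map_of_mem _ ha) (T.subtype m) hm
      show T.subtype (a * m * a⁻¹) ∈ M
      simpa using this
    rcases hchief _ h1 h2 h3 with h4 | h4
    · left
      rw [← Subgroup.map_comap_eq_self hMT, h4]
    · right
      rw [← Subgroup.map_comap_eq_self hMT, h4]

end Cfsg.Agent.Lib.helper3.RelM
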