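import Mathlib
import Cfsg.Prelude.Def_Characters
import Cfsg.Agent.S1490
import Cfsg.Agent.Lib.helper3.RelM1

set_option autoImplicit false
set_option linter.style.haveILetI false
set_option linter.unusedSectionVars false

/-!
# Ramification over a normal subgroup with solvable quotient divides the index
-/

namespace Cfsg.Agent.Lib.helper3.SolvRam

open Cfsg Module Cfsg.Agent.Lib.helper3.IndFun Cfsg.Agent.Lib.helper3.CharBasic
open Cfsg.Agent.Lib.helper3.Irr Cfsg.Agent.Lib.helper3.RelM
open scoped ComplexConjugate

universe u

theorem degree_dvd_aux : ∀ (n : ℕ) (G : Type u) [Group G] [Fintype G] (N : Subgroup G) [N.Normal]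
    [Fintype N], Nat.card G = n → Group.IsSolvable (G ⧸ N) → ∀ (χ : G → ℂ) (ϑ : N → ℂ),
    IsIrrCharacter G χ → IsIrrCharacter N ϑ → classInner (fun n : N => χ n) ϑ ≠ 0 →
    ∀ c d : ℕ, χ 1 = c → ϑ 1 = d → c ∣ d * N.index := by
  intro n
  induction n using Nat.strong_induction_on with
  | _ n ih =>
    intro G _ _ N hN _ hn hsolv χ ϑ hχ hϑ hcon c d hc hd
    classical
    have hχc := isCharacter_of_isIrrCharacter hχ
    have hcf := isClassFunction_of_isCharacter hχc
    by_cases hNtop : N = ⊤
    · -- `N = G`
      have hirr : IsIrrCharacter N (fun n : N => χ n) := by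
        have h2 : ∀ (A : Subgroup G), A = ⊤ → IsIrrCharacter A (fun x : A => χ x) := by
          intro A hA
          subst hA
          exact isIrrCharacter_comp_mulEquiv Subgroup.topEquiv hχ
        exact h2 N hNtop
      have heq : (fun n : N => χ n) = ϑ := by
        by_contra hne
        exact hcon (irr_classInner_eq_zero hirr hϑ hne)
      have h1 := congrFun heq 1
      rw [hd] at h1
      have h2 : χ ((1 : N) : G) = c := hc
      rw [h2] at h1
      have : c = d := by exact_mod_cast h1
      rw [this, hNtop, Subgroup.index_top, mul_one]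
    · have hlt : N < ⊤ := lt_top_iff_ne_top.2 hNtop
      obtain ⟨L, hLn, hNL, hcL, hLtop⟩ := exists_abelian_factor N ⊤ hsolv hlt
      haveI := hLn
      letI : Fintype L := Fintype.ofFinite L
      letI : Fintype (N.subgroupOf L) := Fintype.ofFinite _
      -- a constituent of `χ_L` over `ϑ`
      have hresL := isCharacter_restrict hχc L
      obtain ⟨m, hm⟩ := exists_decomposition_of_isCharacter hresL
      have hex : ∃ η : IrrCharacter L, m η ≠ 0 ∧
          classInner (fun x : N => (η : L → ℂ) ⟨x, hNL x.2⟩) ϑ ≠ 0 := by
        by_contra hne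
        push Not at hne
        apply hcon
        have h1 : (fun x : N => χ x) = ∑ η : IrrCharacter L,
            (m η : ℂ) • (fun x : N => (η : L → ℂ) ⟨x, hNL x.2⟩) := by
          funext x
          have := congrFun hm ⟨x, hNL x.2⟩
          simp only [Finset.sum_apply, Pi.smul_apply] at this ⊢
          exact this
        rw [h1, classInner_sum_left]
        apply Finset.sum_eq_zero
        intro η _
        rw [classInner_smul_left]
        by_cases h0 : m η = 0
        · rw [h0]
          simp
        · rw [hne η h0, mul_zero]
      obtain ⟨η, hmη, hηϑ⟩ := hex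
      obtain ⟨c', hc'pos, hc'⟩ := exists_pos_nat_apply_one η.2
      -- induction for `(L, N)`
      have hcardL : Nat.card L < n := by
        rw [← hn]
        apply lt_of_le_of_ne (Subgroup.card_le_card_group L)
        intro h
        exact hLtop.ne (Subgroup.eq_top_of_card_eq L h)
      have hIH := ih (Nat.card L) hcardL L (N.subgroupOf L) rfl
        (Cfsg.Agent.Lib.helper3.SolvExt.isSolvable_subgroupOf_quotient N L hsolv)
        (η : L → ℂ) (subFun N L ϑ) η.2 (isIrrCharacter_subFun hNL hϑ)
        (by
          have := classInner_subFun hNL (fun x : N => (η : L → ℂ) ⟨x, hNL x.2⟩) ϑ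
          rw [← this] at hηϑ
          exact hηϑ) c' d hc' (by
            show ϑ ⟨((1 : N.subgroupOf L) : L), _⟩ = d
            rw [← hd]
            congr 1)
      -- the step `(G, L)`
      obtain ⟨T, hTdef⟩ : ∃ T : Subgroup G, T = inertia L (η : L → ℂ) := ⟨_, rfl⟩
      have hT : ∀ g : G, g ∈ T ↔ ∀ a : L,
          (η : L → ℂ) ⟨g * a * g⁻¹, hLn.conj_mem a a.2 g⟩ = (η : L → ℂ) a := by
        intro g
        rw [hTdef]
        exact mem_inertia_iff L (η : L → ℂ) g
      have hLT : L ≤ T := by
        rw [hTdef]
        exact le_inertia L _ (isClassFunction_of_isCharacter (isCharacter_of_isIrrCharacter η.2))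
      have hab : ∀ x ∈ T, ∀ y ∈ T, x * y * x⁻¹ * y⁻¹ ∈ L := by
        intro x _ y _
        apply hcL
        have := Subgroup.commutator_mem_commutator (Subgroup.mem_top x) (Subgroup.mem_top y)
        rwa [commutatorElement_def] at this
      obtain ⟨e, C, he, hC, hcard, hind, hdeg⟩ := Cfsg.Agent.S1490.result L T (η : L → ℂ) η.2 hT hab
      have hχC : χ ∈ C := by
        by_contra hnot
        have h1 : classInner (indFun L (η : L → ℂ)) χ = 0 := by
          rw [hind, classInner_smul_left, classInner_sum_left, Finset.sum_eq_zero, mul_zero]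
          intro χ' hχ'
          apply irr_classInner_eq_zero (hC χ' hχ') hχ
          intro h
          exact hnot (h ▸ hχ')
        rw [frobenius_reciprocity L _ χ hcf] at h1
        have h2 : classInner (fun x : L => χ x) (η : L → ℂ) = m η := by
          rw [hm]
          exact classInner_decomposition_left _ η
        rw [← classInner_conj_symm, h2] at h1
        apply hmη
        have : (m η : ℂ) = 0 := by simpa using h1
        exact_mod_cast this
      have hdegχ := hdeg χ hχC
      rw [hc, hc'] at hdegχ
      have hceq : c = T.index * e * c' := by exact_mod_cast hdegχ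
      -- `e` divides the index of `L` in `T`
      have hrel : Nat.card L * L.relIndex T = Nat.card T := by
        have h1 := Subgroup.card_mul_index (L.subgroupOf T)
        have h2 : Nat.card (L.subgroupOf T) = Nat.card L :=
          Nat.card_congr (Subgroup.subgroupOfEquivOfLe hLT).toEquiv
        rw [h2] at h1
        exact h1
      have he_dvd : e ∣ L.relIndex T := by
        have h1 : Nat.card L * (e * (e * C.card)) = Nat.card L * L.relIndex T := by
          rw [hrel, ← hcard]
          ring
        have h2 := Nat.eq_of_mul_eq_mul_left Nat.card_pos h1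
        exact ⟨e * C.card, h2.symm⟩
      have h3 : L.relIndex T * T.index = L.index := Subgroup.relIndex_mul_index hLT
      have h4 : N.relIndex L * L.index = N.index := Subgroup.relIndex_mul_index hNL
      have h5 : (N.subgroupOf L).index = N.relIndex L := rfl
      rw [h5] at hIH
      obtain ⟨a, ha⟩ := he_dvd
      obtain ⟨b, hb⟩ := hIH
      refine ⟨a * b, ?_⟩
      rw [hceq, ← h4, ← h3, ha]
      calc d * (N.relIndex L * (e * a * T.index))
          = (d * N.relIndex L) * (e * a * T.index) := by ring
        _ = (c' * b) * (e * a * T.index) := by rw [hb]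
        _ = T.index * e * c' * (a * b) := by ring

end Cfsg.Agent.Lib.helper3.SolvRam
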