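import Mathlib
import Cfsg.Prelude.Def_Characters
import Cfsg.Agent.Lib.helper3.Berger1
import Cfsg.Agent.Lib.helper3.Berger2
import Cfsg.Agent.Lib.helper3.RelMon3
import Cfsg.Agent.Lib.helper3.SolvRam
import Cfsg.Agent.Lib.helper3.CycExt2

set_option autoImplicit false
set_option linter.style.haveILetI false
set_option linter.unusedSectionVars false

/-!
# A character induced from a maximal subgroup with irreducible restriction to the core
is not quasi-primitive (Isaacs 11.32)
-/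

namespace Cfsg.Agent.Lib.helper3.Berger

open Cfsg Module Cfsg.Agent.Lib.helper3.IndFun Cfsg.Agent.Lib.helper3.CharBasic
open Cfsg.Agent.Lib.helper3.Irr Cfsg.Agent.Lib.helper3.RelMon
open scoped ComplexConjugate

variable {G : Type*} [Group G]

/-- `M ⊔ K` is normal when `G = M H`, `M` normal and `H` normalizes `K`. -/
theorem sup_normal_of (M H K : Subgroup G) [hM : M.Normal] (hsup : M ⊔ H = ⊤)
    (hK : ∀ u ∈ H, ∀ k ∈ K, u * k * u⁻¹ ∈ K) : (M ⊔ K).Normal := by
  constructor
  intro x hx g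
  have hg : g ∈ ((M ⊔ H : Subgroup G) : Set G) := by rw [hsup]; trivial
  rw [Subgroup.normal_mul] at hg
  obtain ⟨m', hm', u, hu, rfl⟩ := Set.mem_mul.mp hg
  have hx' : x ∈ ((M ⊔ K : Subgroup G) : Set G) := hx
  rw [Subgroup.normal_mul] at hx'
  obtain ⟨m, hm, k, hk, rfl⟩ := Set.mem_mul.mp hx'
  have e : m' * u * (m * k) * (m' * u)⁻¹ = m' * (u * m * u⁻¹) * (u * k * u⁻¹) * m'⁻¹ := by group
  rw [e]
  have h1 : m' ∈ M ⊔ K := Subgroup.mem_sup_left hm'
  have h2 : u * m * u⁻¹ ∈ M ⊔ K := Subgroup.mem_sup_left (hM.conj_mem m hm u)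
  have h3 : u * k * u⁻¹ ∈ M ⊔ K := Subgroup.mem_sup_right (hK u hu k hk)
  exact mul_mem (mul_mem (mul_mem h1 h2) h3) (inv_mem h1)

/-- Dedekind: `(M ⊔ K) ⊓ H ≤ K` when `M ⊓ H ≤ K ≤ H`. -/
theorem mem_of_mem_sup_of_mem (M H K : Subgroup G) [hM : M.Normal] (hKH : K ≤ H)
    (hMH : M ⊓ H ≤ K) {x : G} (hx : x ∈ M ⊔ K) (hxH : x ∈ H) : x ∈ K := by
  have hx' : x ∈ ((M ⊔ K : Subgroup G) : Set G) := hx
  rw [Subgroup.normal_mul] at hx'
  obtain ⟨m, hm, k, hk, rfl⟩ := Set.mem_mul.mp hx'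
  have hmH : m ∈ H := by
    have : m = m * k * k⁻¹ := by group
    rw [this]
    exact H.mul_mem hxH (H.inv_mem (hKH hk))
  exact K.mul_mem (hMH ⟨hm, hmH⟩) hk

/-- Quotients by a normal subgroup above `L` are solvable, also for subgroups. -/
theorem isSolvable_quotient_subgroupOf (L M X : Subgroup G) [hL : L.Normal] [hM : M.Normal]
    (hLM : L ≤ M) (hsolv : Group.IsSolvable (G ⧸ L)) :
    Group.IsSolvable (X ⧸ M.subgroupOf X) := by
  haveI : Group.IsSolvable (G ⧸ M) := by
    have hsurj : Function.Surjective (QuotientGroup.map L M (MonoidHom.id G) hLM) := by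
      intro x
      obtain ⟨g, rfl⟩ := QuotientGroup.mk_surjective x
      exact ⟨(g : G ⧸ L), rfl⟩
    exact Group.isSolvable_of_surjective hsurj
  have hle : M.subgroupOf X ≤ M.comap X.subtype := le_of_eq rfl
  have hinj : Function.Injective (QuotientGroup.map (M.subgroupOf X) M X.subtype hle) := by
    rw [injective_iff_map_eq_one]
    intro x hx
    obtain ⟨g, rfl⟩ := QuotientGroup.mk_surjective x
    rw [QuotientGroup.map_mk, QuotientGroup.eq_one_iff] at hx
    rw [QuotientGroup.eq_one_iff]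
    exact hx
  exact Group.isSolvable_of_isSolvable_injective hinj

/-- Isaacs 11.32. -/
theorem induced_not_quasiprimitive [Fintype G] (L H : Subgroup G) [hL : L.Normal] (hLH : L ≤ H)
    (hmax : IsCoatom H) (hsolv : Group.IsSolvable (G ⧸ L)) (ϑ : H → ℂ)
    (hϑ : IsIrrCharacter H ϑ)
    (hϑL : IsIrrCharacter L (fun x : L => ϑ ⟨(x : G), hLH x.2⟩))
    (hind : IsIrrCharacter G (indFun H ϑ)) :
    ∃ M : Subgroup G, M.Normal ∧ L ≤ M ∧ ¬ ∃ (φ : M → ℂ) (e : ℕ), IsIrrCharacter M φ ∧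
      (fun m : M => indFun H ϑ m) = (e : ℂ) • φ := by
  classical
  by_contra hcon
  push Not at hcon
  obtain ⟨χ, hχdef⟩ : ∃ χ : G → ℂ, χ = indFun H ϑ := ⟨_, rfl⟩
  rw [← hχdef] at hind hcon
  obtain ⟨M, p, a', hMn, hp, hidx, ha0, hCM, hMH, hsup, hK⟩ :=
    exists_relative_data L H hLH hmax hsolv
  obtain ⟨C, hC⟩ : ∃ C : Subgroup G, C = H.normalCore := ⟨_, rfl⟩
  rw [← hC] at hCM hMH hK
  have hCn : C.Normal := by rw [hC]; exact Subgroup.normalCore_normal H
  have hCH : C ≤ H := by rw [hC]; exact Subgroup.normalCore_le H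
  have hLC : L ≤ C := by rw [hC]; exact Subgroup.normal_le_normalCore.mpr hLH
  have hχc := isCharacter_of_isIrrCharacter hind
  have hχcf := isClassFunction_of_isCharacter hχc
  have hϑc := isCharacter_of_isIrrCharacter hϑ
  have hϑcf := isClassFunction_of_isCharacter hϑc
  have hϑ1 : ϑ 1 ≠ 0 := apply_one_ne_zero hϑ
  letI : Fintype H := Fintype.ofFinite H
  letI : Fintype C := Fintype.ofFinite C
  letI : Fintype M := Fintype.ofFinite M
  -- `φ = ϑ_C` is irreducible
  obtain ⟨φ, hφdef⟩ : ∃ φ : C → ℂ, φ = fun c : C => ϑ ⟨(c : G), hCH c.2⟩ := ⟨_, rfl⟩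
  have hφc : IsCharacter C φ := by
    rw [hφdef]
    exact isCharacter_comp hϑc (Subgroup.inclusion hCH)
  have hφ : IsIrrCharacter C φ := by
    letI : Fintype (L.subgroupOf C) := Fintype.ofFinite _
    apply Cfsg.Agent.Lib.helper3.CycExt.isIrrCharacter_of_restrict (L.subgroupOf C) hφc
    have := isIrrCharacter_comp_mulEquiv (Subgroup.subgroupOfEquivOfLe hLC) hϑL
    rw [hφdef]
    exact this
  -- `ϑ` is a constituent of `χ_H`
  have hfrob := frobenius_reciprocity H ϑ χ hχcf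
  rw [← hχdef, irr_classInner_self hind] at hfrob
  have hχHϑ : classInner (fun h : H => χ h) ϑ = 1 := by
    rw [← classInner_conj_symm, ← hfrob]
    simp
  -- `χ_C = f φ`
  obtain ⟨ψ₀, f, hψ₀, hχC⟩ := hcon C hCn hLC
  have hφcon : classInner (fun c : C => χ c) φ ≠ 0 := by
    have h2 : classInner (fun m : C => ϑ (Subgroup.inclusion hCH m)) φ ≠ 0 := by
      have : (fun m : C => ϑ (Subgroup.inclusion hCH m)) = φ := by rw [hφdef]; rfl
      rw [this, irr_classInner_self hφ]
      exact one_ne_zero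
    have := classInner_comp_ne_zero_of_constituent (Subgroup.inclusion hCH)
      (isCharacter_restrict hχc H) hϑ (by rw [hχHϑ]; exact one_ne_zero) hφ h2
    exact this
  have hψφ : ψ₀ = φ := by
    by_contra hne
    apply hφcon
    rw [hχC, classInner_smul_left, irr_classInner_eq_zero hψ₀ hφ hne, mul_zero]
  rw [hψφ] at hχC
  have hf : (f : ℂ) = (H.index : ℂ) := by
    have h1 := congrFun hχC 1
    simp only [Pi.smul_apply, smul_eq_mul] at h1
    have h2 : χ ((1 : C) : G) = (H.index : ℂ) * ϑ 1 := by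
      rw [hχdef]
      exact indFun_apply_one H ϑ
    have h3 : φ 1 = ϑ 1 := by rw [hφdef]; rfl
    rw [h2, h3] at h1
    exact (mul_right_cancel₀ hϑ1 h1).symm
  have hχCapply : ∀ (g : G) (hg : g ∈ C), χ g = (H.index : ℂ) * ϑ ⟨g, hCH hg⟩ := by
    intro g hg
    have h1 := congrFun hχC ⟨g, hg⟩
    simp only [Pi.smul_apply, smul_eq_mul] at h1
    rw [h1, hf, hφdef]
  have hidx0 : H.index ≠ 0 := Subgroup.index_ne_zero_of_finite
  -- every element of `G` is a product
  have hprod : ∀ x : G, ∃ y ∈ M, ∃ t ∈ H, y * t = x := by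
    intro x
    have hx : x ∈ ((M ⊔ H : Subgroup G) : Set G) := by rw [hsup]; trivial
    rw [Subgroup.normal_mul] at hx
    obtain ⟨y, hy, t, ht, rfl⟩ := Set.mem_mul.mp hx
    exact ⟨y, hy, t, ht, rfl⟩
  -- Step C: the restriction to `M`
  obtain ⟨θ, a, hθ, hχM⟩ := hcon M hMn (hLC.trans hCM)
  letI : Fintype (H.subgroupOf M) := Fintype.ofFinite _
  obtain ⟨ϑM, hϑMdef⟩ : ∃ ϑM : H.subgroupOf M → ℂ,
      ϑM = fun x : H.subgroupOf M => ϑ ⟨((x : M) : G), Subgroup.mem_subgroupOf.mp x.2⟩ :=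
    ⟨_, rfl⟩
  have hmackM : (fun m : M => χ m) = indFun (H.subgroupOf M) ϑM := by
    funext m
    rw [hχdef, hϑMdef]
    exact restrict_indFun_of_mul_eq_top M H hprod ϑ hϑcf m
  have hϑMirr : IsIrrCharacter (H.subgroupOf M) ϑM := by
    let e : H.subgroupOf M ≃* C :=
      { toFun := fun x => ⟨((x : M) : G), by
          rw [← hMH]; exact ⟨(x : M).2, Subgroup.mem_subgroupOf.mp x.2⟩⟩
        invFun := fun c => ⟨⟨(c : G), hCM c.2⟩, Subgroup.mem_subgroupOf.mpr (hCH c.2)⟩
        left_inv := fun x => rfl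
        right_inv := fun c => rfl
        map_mul' := fun x y => rfl }
    have := isIrrCharacter_comp_mulEquiv e hφ
    rw [hφdef] at this
    rw [hϑMdef]
    exact this
  have hresM : (fun h : H.subgroupOf M => (fun m : M => χ m) h) = (H.index : ℂ) • ϑM := by
    funext h
    have hmem : ((h : M) : G) ∈ C := by
      rw [← hMH]; exact ⟨(h : M).2, Subgroup.mem_subgroupOf.mp h.2⟩
    simp only [Pi.smul_apply, smul_eq_mul]
    rw [hχCapply _ hmem, hϑMdef]
  have ha2 : ((a : ℂ)) ^ 2 = (H.index : ℂ) := by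
    have h1 := frobenius_reciprocity (H.subgroupOf M) ϑM (fun m : M => χ m)
      (isClassFunction_of_isCharacter (isCharacter_restrict hχc M))
    rw [← hmackM, hresM, classInner_smul_right, irr_classInner_self hϑMirr,
      Complex.conj_natCast] at h1
    have h2 : classInner (fun m : M => χ m) (fun m : M => χ m) = (a : ℂ) ^ 2 := by
      rw [hχM, classInner_smul_left, classInner_smul_right, irr_classInner_self hθ,
        Complex.conj_natCast]
      ring
    rw [h2] at h1
    rw [h1]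
    ring
  have ha2' : a ^ 2 = H.index := by exact_mod_cast ha2
  have ha0' : a ≠ 0 := by
    intro h
    rw [h] at ha2'
    exact hidx0 (by rw [← ha2']; norm_num)
  have haC : (a : ℂ) ≠ 0 := by exact_mod_cast ha0'
  have hθ1 : θ 1 = (a : ℂ) * ϑ 1 := by
    have h1 := congrFun hχM 1
    simp only [Pi.smul_apply, smul_eq_mul] at h1
    have h2 : χ ((1 : M) : G) = (H.index : ℂ) * ϑ 1 := by
      rw [hχdef]
      exact indFun_apply_one H ϑ
    rw [h2, ← ha2] at h1
    have h3 : (a : ℂ) * ((a : ℂ) * ϑ 1) = (a : ℂ) * θ 1 := by rw [← h1]; ring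
    exact (mul_left_cancel₀ haC h3).symm
  -- the case `H = C`
  by_cases hHC : H ≤ C
  · have hresH : (fun h : H => χ h) = (H.index : ℂ) • ϑ := by
      funext h
      simp only [Pi.smul_apply, smul_eq_mul]
      rw [hχCapply _ (hHC h.2)]
    rw [hresH, classInner_smul_left, irr_classInner_self hϑ, mul_one] at hχHϑ
    have h1 : H.index = 1 := by exact_mod_cast hχHϑ
    exact hmax.1 (Subgroup.index_eq_one.mp h1)
  obtain ⟨K, q, b, hCK, hKH, hKC, hKconj, hq, hKidx, hqp, hlast⟩ := hK hHC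
  obtain ⟨X, hXdef⟩ : ∃ X : Subgroup G, X = M ⊔ K := ⟨_, rfl⟩
  have hXn : X.Normal := by rw [hXdef]; exact sup_normal_of M H K hsup hKconj
  have hMX : M ≤ X := by rw [hXdef]; exact le_sup_left
  have hKX : K ≤ X := by rw [hXdef]; exact le_sup_right
  have hCX : C ≤ X := hCM.trans hMX
  have hded : ∀ x : G, x ∈ X → x ∈ H → x ∈ K := by
    intro x hx hxH
    rw [hXdef] at hx
    exact mem_of_mem_sup_of_mem M H K hKH (by rw [hMH]; exact hCK) hx hxH
  letI : Fintype X := Fintype.ofFinite X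
  letI : Fintype (H.subgroupOf X) := Fintype.ofFinite _
  letI : Fintype (M.subgroupOf X) := Fintype.ofFinite _
  obtain ⟨ξ, c, hξ, hχX⟩ := hcon X hXn (hLC.trans hCX)
  have hξc := isCharacter_of_isIrrCharacter hξ
  -- the restriction of `ξ` to `M`
  obtain ⟨θ', hθ'def⟩ : ∃ θ' : M.subgroupOf X → ℂ,
      θ' = fun x : M.subgroupOf X => θ (Subgroup.subgroupOfEquivOfLe hMX x) := ⟨_, rfl⟩
  have hθ' : IsIrrCharacter (M.subgroupOf X) θ' := by
    rw [hθ'def]
    exact isIrrCharacter_comp_mulEquiv (Subgroup.subgroupOfEquivOfLe hMX) hθ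
  have hrel : (c : ℂ) • (fun x : M.subgroupOf X => ξ x) = (a : ℂ) • θ' := by
    funext x
    simp only [Pi.smul_apply, smul_eq_mul]
    have h1 := congrFun hχX (x : X)
    simp only [Pi.smul_apply, smul_eq_mul] at h1
    have h2 := congrFun hχM (Subgroup.subgroupOfEquivOfLe hMX x)
    simp only [Pi.smul_apply, smul_eq_mul] at h2
    rw [← h1, hθ'def]
    exact h2
  obtain ⟨d, hd⟩ := exists_nat_classInner_of_isCharacter
    (isCharacter_restrict hξc (M.subgroupOf X)) ⟨θ', hθ'⟩
  simp only at hd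
  have hcd : c * d = a := by
    have h1 : classInner ((c : ℂ) • (fun x : M.subgroupOf X => ξ x)) θ' = (c : ℂ) * d := by
      rw [classInner_smul_left, hd]
    rw [hrel, classInner_smul_left, irr_classInner_self hθ', mul_one] at h1
    exact_mod_cast h1.symm
  have hd0 : d ≠ 0 := by
    intro h
    rw [h, mul_zero] at hcd
    exact ha0' hcd.symm
  have hc0 : c ≠ 0 := by
    intro h
    rw [h, zero_mul] at hcd
    exact ha0' hcd.symm
  have hcC : (c : ℂ) ≠ 0 := by exact_mod_cast hc0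
  obtain ⟨t, ht0, hθt⟩ := exists_pos_nat_apply_one hθ
  have hξ1 : ξ 1 = ((d * t : ℕ) : ℂ) := by
    have h1 := congrFun hrel 1
    simp only [Pi.smul_apply, smul_eq_mul] at h1
    have h2 : θ' 1 = (t : ℂ) := by
      rw [hθ'def]
      simp only [map_one]
      exact hθt
    have h3 : ξ ((1 : M.subgroupOf X) : X) = ξ 1 := rfl
    rw [h2, h3, ← hcd] at h1
    push_cast at h1 ⊢
    have h4 : (c : ℂ) * ξ 1 = (c : ℂ) * ((d : ℂ) * t) := by rw [h1]; ring
    exact mul_left_cancel₀ hcC h4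
  have hsolvX : Group.IsSolvable (X ⧸ M.subgroupOf X) :=
    isSolvable_quotient_subgroupOf L M X (hLC.trans hCM) hsolv
  have hdvd := Cfsg.Agent.Lib.helper3.SolvRam.degree_dvd_aux (Nat.card X) X (M.subgroupOf X) rfl
    hsolvX ξ θ' hξ hθ' (by rw [hd]; exact_mod_cast hd0) (d * t) t hξ1
    (by rw [hθ'def]; simp only [map_one]; exact hθt)
  have hMidx : (M.subgroupOf X).index = q ^ b := by
    have h1 : M ⊓ K = C := by
      apply le_antisymm
      · rw [← hMH]
        exact inf_le_inf_left M hKH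
      · exact le_inf hCM hCK
    have h2 : (M.subgroupOf X).index = M.relIndex X := rfl
    rw [h2, hXdef, Subgroup.relIndex_sup_left, ← Subgroup.inf_relIndex_right, h1, hKidx]
  have hd1 : d = 1 := by
    rw [hMidx, mul_comm] at hdvd
    have h1 : d ∣ q ^ b := Nat.dvd_of_mul_dvd_mul_left ht0 hdvd
    have h2 : d ∣ p ^ a' := by
      rw [← hidx, ← ha2', ← hcd]
      exact Dvd.dvd.mul_left (dvd_refl d) c |>.trans (dvd_pow_self _ (by norm_num))
    have hcop : Nat.Coprime (p ^ a') (q ^ b) :=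
      Nat.Coprime.pow _ _ ((Nat.coprime_primes hp hq).mpr (Ne.symm hqp))
    exact Nat.Coprime.eq_one_of_dvd (Nat.Coprime.coprime_dvd_left h2 hcop) h1
  have hca : c = a := by rw [← hcd, hd1, mul_one]
  -- Step E: Mackey on `X`
  have hprodX : ∀ x : G, ∃ y ∈ X, ∃ t ∈ H, y * t = x := by
    intro x
    obtain ⟨y, hy, t, ht, rfl⟩ := hprod x
    exact ⟨y, hMX hy, t, ht, rfl⟩
  obtain ⟨η, hηdef⟩ : ∃ η : H.subgroupOf X → ℂ,
      η = fun x : H.subgroupOf X => ϑ ⟨((x : X) : G), Subgroup.mem_subgroupOf.mp x.2⟩ :=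
    ⟨_, rfl⟩
  have hmackX : (fun x : X => χ x) = indFun (H.subgroupOf X) η := by
    funext x
    rw [hχdef, hηdef]
    exact restrict_indFun_of_mul_eq_top X H hprodX ϑ hϑcf x
  have hCK' : C.subgroupOf X ≤ H.subgroupOf X := by
    intro x hx
    rw [Subgroup.mem_subgroupOf] at hx ⊢
    exact hCH hx
  have h4 : IsIrrCharacter (C.subgroupOf X)
      (fun c : C.subgroupOf X => η ⟨c, hCK' c.2⟩) := by
    have := isIrrCharacter_comp_mulEquiv (Subgroup.subgroupOfEquivOfLe hCX) hφ
    rw [hφdef] at this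
    rw [hηdef]
    exact this
  have hηc : IsCharacter (H.subgroupOf X) η := by
    let f : H.subgroupOf X →* H :=
      { toFun := fun x => ⟨((x : X) : G), Subgroup.mem_subgroupOf.mp x.2⟩
        map_one' := rfl
        map_mul' := fun x y => rfl }
    have := isCharacter_comp hϑc f
    rw [hηdef]
    exact this
  have hη : IsIrrCharacter (H.subgroupOf X) η := by
    letI : Fintype ((C.subgroupOf X).subgroupOf (H.subgroupOf X)) := Fintype.ofFinite _
    apply Cfsg.Agent.Lib.helper3.CycExt.isIrrCharacter_of_restrict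
      ((C.subgroupOf X).subgroupOf (H.subgroupOf X)) hηc
    exact isIrrCharacter_comp_mulEquiv (Subgroup.subgroupOfEquivOfLe hCK') h4
  have hη1 : η 1 = ϑ 1 := by rw [hηdef]; rfl
  have hξη : classInner (fun k : H.subgroupOf X => ξ k) η = (a : ℂ) := by
    have h1 := frobenius_reciprocity (H.subgroupOf X) η ξ
      (isClassFunction_of_isCharacter hξc)
    rw [← hmackX, hχX, classInner_smul_left, irr_classInner_self hξ, mul_one] at h1
    rw [← classInner_conj_symm, ← h1, hca]
    simp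
  have hξ1' : ξ 1 = (a : ℂ) * η 1 := by
    rw [hξ1, hd1, one_mul, ← hθt, hθ1, hη1]
  have hξK : (fun k : H.subgroupOf X => ξ k) = (a : ℂ) • η :=
    eq_smul_of_classInner_of_degree (isCharacter_restrict hξc (H.subgroupOf X)) hη a hξη hξ1'
  have hKidx' : a ^ 2 = (H.subgroupOf X).index := by
    have h1 := congrFun hmackX 1
    rw [indFun_apply_one] at h1
    have h2 : χ ((1 : X) : G) = (H.index : ℂ) * ϑ 1 := by
      rw [hχdef]
      exact indFun_apply_one H ϑ
    rw [h2, hη1] at h1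
    have h3 := mul_right_cancel₀ hϑ1 h1
    rw [ha2']
    exact_mod_cast h3
  have hle := le_of_vanishing (H.subgroupOf X) (C.subgroupOf X) hCK' ξ hξ η hη a ha0' hξK hKidx'
    (by
      intro y hy hyC
      rw [Subgroup.mem_subgroupOf] at hy hyC
      have hyK : (y : G) ∈ K := hded _ y.2 hy
      obtain ⟨t, htM, htK⟩ := hlast _ hyK hyC
      refine ⟨⟨t, hMX htM⟩, ?_⟩
      intro hmem
      rw [Subgroup.mem_subgroupOf] at hmem
      apply htK
      have hX : t * (y : G) * t⁻¹ ∈ X := hXn.conj_mem _ y.2 t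
      exact hded _ hX hmem) h4
  apply hKC
  intro k hk
  have h1 : (⟨k, hKX hk⟩ : X) ∈ H.subgroupOf X := Subgroup.mem_subgroupOf.mpr (hKH hk)
  have h2 := hle h1
  exact Subgroup.mem_subgroupOf.mp h2

end Cfsg.Agent.Lib.helper3.Berger
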