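import Mathlib
import Cfsg.Prelude.Def_Characters
import Cfsg.Agent.Lib.helper3.BSQ2

/-!
# A variant of the Brauer-Suzuki core lemma keeping the explicit decomposition
-/

set_option autoImplicit false
set_option linter.style.haveILetI false
set_option linter.unusedSectionVars false

namespace Cfsg.Agent.Lib.helper3.D8C

open Cfsg Cfsg.Agent.Lib.helper3.Irr Cfsg.Agent.Lib.helper3.CharBasic
open Cfsg.Agent.Lib.helper3.IndFun Cfsg.Agent.Lib.helper3.CycTI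
open Cfsg.Agent.Lib.helper3.Lin Cfsg.Agent.Lib.helper3.BSQ

/-- The character-theoretic core, keeping the decomposition of the induced function. -/
theorem core' {G : Type*} [Group G] [Fintype G] (C N : Subgroup G) [Fintype C] [Fintype N]
    (hCN : C ≤ N) [hnorm : (C.subgroupOf N).Normal] [Fintype (C.subgroupOf N)]
    (hidx : (C.subgroupOf N).index = 2)
    (X : Set G)
    (hX3 : ∀ g : G, ∀ x ∈ X, g * x * g⁻¹ ∈ X → g ∈ N)
    (hX2 : ∀ g ∈ N, ∀ x ∈ X, g * x * g⁻¹ ∈ X)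
    (ν : C →* ℂˣ) (hX1 : ∀ c : C, ν c ≠ 1 → (c : G) ∈ X)
    (b t : G) (hbN : b ∈ N) (hbC : b ∉ C) (htC : t ∈ C) (hbt : b * t * b⁻¹ = t⁻¹)
    (hνt : (ν ⟨t, htC⟩) ^ 2 ≠ 1) :
    ∃ χ₁ χ₂ : G → ℂ, IsIrrCharacter G χ₁ ∧ IsIrrCharacter G χ₂ ∧ χ₁ ≠ (fun _ => 1) ∧
      χ₂ ≠ (fun _ => 1) ∧ χ₁ 1 = χ₂ 1 + 1 ∧
      indFun C (linFun (1 : C →* ℂˣ) - linFun ν) = (fun _ => 1) + χ₂ - χ₁ ∧
      (t ^ 2 ∈ X → (ν ⟨t, htC⟩) ^ 4 = 1 → 1 + χ₂ (t ^ 2) - χ₁ (t ^ 2) = 4) := by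
  classical
  obtain ⟨θ, hθdef⟩ : ∃ θ : C → ℂ, θ = linFun (1 : C →* ℂˣ) - linFun ν := ⟨_, rfl⟩
  have hθX : ∀ c : C, (c : G) ∉ X → θ c = 0 := by
    intro c hc
    have h1 : ν c = 1 := by
      by_contra h
      exact hc (hX1 c h)
    rw [hθdef]
    simp only [Pi.sub_apply, linFun, h1, MonoidHom.one_apply, Units.val_one, sub_self]
  obtain ⟨ν', hν'def⟩ : ∃ ν' : (C.subgroupOf N) →* ℂˣ,
      ν' = ν.comp (Subgroup.subgroupOfEquivOfLe hCN).toMonoidHom := ⟨_, rfl⟩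
  have hν'app : ∀ x : C.subgroupOf N, ν' x = ν ⟨((x : N) : G), Subgroup.mem_subgroupOf.mp x.2⟩ := by
    intro x
    rw [hν'def]
    rfl
  have hθ' : (fun x : C.subgroupOf N => θ ⟨((x : N) : G), Subgroup.mem_subgroupOf.mp x.2⟩) =
      linFun (1 : (C.subgroupOf N) →* ℂˣ) - linFun ν' := by
    funext x
    rw [hθdef]
    simp only [Pi.sub_apply, linFun, MonoidHom.one_apply, hν'app]
  obtain ⟨b', hb'def⟩ : ∃ b' : N, b' = ⟨b, hbN⟩ := ⟨_, rfl⟩
  have hb' : b' ∉ C.subgroupOf N := by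
    intro h
    apply hbC
    have := Subgroup.mem_subgroupOf.mp h
    rwa [hb'def] at this
  obtain ⟨νb, hνbdef⟩ : ∃ νb : (C.subgroupOf N) →* ℂˣ,
      νb = ν'.comp (MulAut.conjNormal b' : MulAut (C.subgroupOf N)).toMonoidHom := ⟨_, rfl⟩
  have hνb : ∀ h : C.subgroupOf N,
      νb h = ν' ⟨b' * h * b'⁻¹, hnorm.conj_mem h h.2 b'⟩ := by
    intro h
    rw [hνbdef]
    show ν' (MulAut.conjNormal b' h) = _
    congr 1
  have htC' : (⟨t, hCN htC⟩ : N) ∈ C.subgroupOf N := Subgroup.mem_subgroupOf.mpr htC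
  have hν't : ν' ⟨⟨t, hCN htC⟩, htC'⟩ = ν ⟨t, htC⟩ := by
    rw [hν'app]
  have hνbt : νb ⟨⟨t, hCN htC⟩, htC'⟩ = (ν ⟨t, htC⟩)⁻¹ := by
    rw [hνb, hν'app, ← map_inv]
    congr 1
    apply Subtype.ext
    simp only [hb'def, Subgroup.coe_mul, Subgroup.coe_inv, InvMemClass.coe_inv]
    exact hbt
  have hne : νb ≠ ν' := by
    intro h
    apply hνt
    have := congrArg (fun f => f ⟨⟨t, hCN htC⟩, htC'⟩) h
    simp only [hνbt, hν't] at this
    rw [pow_two]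
    nth_rewrite 1 [← this]
    simp
  have hν1 : ν' ≠ 1 := by
    intro h
    apply hνt
    have := congrArg (fun f => f ⟨⟨t, hCN htC⟩, htC'⟩) h
    simp only [hν't, MonoidHom.one_apply] at this
    rw [this, one_pow]
  have hν1' : ν ≠ 1 := by
    intro h
    apply hνt
    rw [h, MonoidHom.one_apply, one_pow]
  have h3 := classInner_indFun_one_sub (C.subgroupOf N) hidx b' hb' ν' hν1 νb hνb hne
  obtain ⟨ψ, hψdef⟩ : ∃ ψ : N → ℂ,
      ψ = indFun (C.subgroupOf N) (linFun (1 : (C.subgroupOf N) →* ℂˣ) - linFun ν') := ⟨_, rfl⟩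
  rw [← hψdef] at h3
  have hψind : indFun N ψ = indFun C θ := by
    rw [hψdef, ← hθ']
    exact Cfsg.Agent.Lib.helper3.IndFunTrans.indFun_trans C N hCN θ
  have hcf' : IsClassFunction (C.subgroupOf N)
      (linFun (1 : (C.subgroupOf N) →* ℂˣ) - linFun ν') := by
    intro g x
    have h1 := isClassFunction_of_isCharacter
      (isCharacter_of_hom (1 : (C.subgroupOf N) →* ℂˣ)) g x
    have h2 := isClassFunction_of_isCharacter (isCharacter_of_hom ν') g x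
    simp only [Pi.sub_apply, linFun]
    rw [h1, h2]
  have hψX : ∀ y : N, (y : G) ∉ X → ψ y = 0 := by
    intro y hy
    by_cases hyC : y ∈ C.subgroupOf N
    · rw [hψdef]
      have := indFun_apply_of_index_two (C.subgroupOf N) hidx b' hb' _ hcf' ⟨y, hyC⟩
      rw [this, ← hθ']
      simp only
      rw [hθX _ hy, hθX, add_zero]
      simp only [hb'def, Subgroup.coe_mul, Subgroup.coe_inv, InvMemClass.coe_inv]
      intro hmem
      apply hy
      have := hX2 b⁻¹ (N.inv_mem hbN) _ hmem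
      have e : b⁻¹ * (b * (y : G) * b⁻¹) * b⁻¹⁻¹ = (y : G) := by group
      rwa [e] at this
    · rw [hψdef]
      exact indFun_normal_apply_of_not_mem _ _ hyC
  obtain ⟨α, hαdef⟩ : ∃ α : G → ℂ, α = indFun C θ := ⟨_, rfl⟩
  have hnorm3 : classInner α α = 3 := by
    rw [hαdef, ← hψind,
      Cfsg.Agent.Lib.helper3.Pf4.classInner_indFun_of_control N X hX3 ψ ψ
        (by rw [hψdef]; exact indFun_isClassFunction _ _) hψX hψX]
    exact h3
  have hone : (fun _ : C => (1 : ℂ)) = linFun (1 : C →* ℂˣ) := by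
    funext c
    simp [linFun]
  have h1 : classInner α (fun _ => 1) = 1 := by
    rw [hαdef, frobenius_reciprocity C θ (fun _ => 1) (fun _ _ => rfl), hθdef, hone,
      classInner_sub_left, classInner_linFun, classInner_linFun, if_pos rfl, if_neg hν1', sub_zero]
  have hα1 : α 1 = 0 := by
    rw [hαdef]
    apply Cfsg.Agent.Lib.helper3.IndFunTI.indFun_one_of_apply_one_eq_zero
    rw [hθdef]
    simp [linFun]
  have hαgen : IsGeneralizedCharacter G α := by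
    refine ⟨indFun C (linFun (1 : C →* ℂˣ)), indFun C (linFun ν),
      isCharacter_indFun C _ (isCharacter_of_hom _), isCharacter_indFun C _ (isCharacter_of_hom _), ?_⟩
    rw [hαdef, hθdef]
    exact Cfsg.Agent.Lib.helper3.BrauerInd.indFun_sub' C _ _
  obtain ⟨χ₁, χ₂, hχ₁, hχ₂, h11, h21, hdeg, hdec⟩ := exists_of_norm_three hαgen hnorm3 h1 hα1
  refine ⟨χ₁, χ₂, hχ₁, hχ₂, h11, h21, hdeg, ?_, ?_⟩
  · rw [← hθdef, ← hαdef]
    exact hdec
  · intro ht2X hν4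
    have ht2C : t ^ 2 ∈ C := C.pow_mem htC 2
    have ht2N : t ^ 2 ∈ N := hCN ht2C
    have ht2C' : (⟨t ^ 2, ht2N⟩ : N) ∈ C.subgroupOf N := Subgroup.mem_subgroupOf.mpr ht2C
    have hψcf : IsClassFunction N ψ := by rw [hψdef]; exact indFun_isClassFunction _ _
    have h5 : α (t ^ 2) = ψ ⟨t ^ 2, ht2N⟩ := by
      rw [hαdef, ← hψind]
      exact Cfsg.Agent.Lib.helper3.Pf4.indFun_apply_of_control N X hX3 ψ hψcf hψX
        ⟨t ^ 2, ht2N⟩ ht2X
    have hs : ((ν ⟨t, htC⟩ : ℂˣ) : ℂ) ^ 2 = -1 := by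
      have h6 : (((ν ⟨t, htC⟩ : ℂˣ) : ℂ) ^ 2 - 1) * (((ν ⟨t, htC⟩ : ℂˣ) : ℂ) ^ 2 + 1) = 0 := by
        have : ((ν ⟨t, htC⟩ : ℂˣ) : ℂ) ^ 4 = 1 := by
          rw [← Units.val_pow_eq_pow_val, hν4, Units.val_one]
        linear_combination this
      rcases mul_eq_zero.mp h6 with h7 | h7
      · exfalso
        apply hνt
        apply Units.ext
        rw [Units.val_pow_eq_pow_val, Units.val_one]
        linear_combination h7
      · linear_combination h7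
    have h6 : ψ ⟨t ^ 2, ht2N⟩ = 4 := by
      rw [hψdef]
      have := indFun_apply_of_index_two (C.subgroupOf N) hidx b' hb' _ hcf' ⟨⟨t ^ 2, ht2N⟩, ht2C'⟩
      rw [this]
      simp only [Pi.sub_apply, linFun, MonoidHom.one_apply, Units.val_one, hν'app]
      have e1 : (⟨t ^ 2, ht2C⟩ : C) = ⟨t, htC⟩ ^ 2 := rfl
      have e2 : (⟨((b' * (⟨⟨t ^ 2, ht2N⟩, ht2C'⟩ : C.subgroupOf N) * b'⁻¹ : N) : G),
          Subgroup.mem_subgroupOf.mp (hnorm.conj_mem _ ht2C' b')⟩ : C) = (⟨t, htC⟩ ^ 2)⁻¹ := by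
        apply Subtype.ext
        simp only [hb'def, Subgroup.coe_mul, Subgroup.coe_inv, InvMemClass.coe_inv,
          Subgroup.coe_pow]
        rw [← conj_pow, hbt, inv_pow]
      rw [e2, map_inv, map_pow, Units.val_inv_eq_inv_val, Units.val_pow_eq_pow_val, hs]
      have e3 : ((ν (⟨t ^ 2, ht2C⟩ : C) : ℂˣ) : ℂ) = -1 := by
        rw [e1, map_pow, Units.val_pow_eq_pow_val, hs]
      rw [e3]
      norm_num
    have h7 := congrFun hdec (t ^ 2)
    simp only [Pi.sub_apply, Pi.add_apply] at h7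
    rw [← h7, h5, h6]

end Cfsg.Agent.Lib.helper3.D8C
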