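import Mathlib
import Cfsg.Agent.S0111

/-!
# Groups with an involution whose centralizer is dihedral of order eight: group theory
-/

set_option autoImplicit false
set_option linter.style.haveILetI false
set_option linter.unusedSectionVars false

namespace Cfsg.Agent.Lib.helper3.D8C

open DihedralGroup

variable {G : Type*} [Group G]

section basic

variable (t : G) (e : ↥(Subgroup.centralizer ({t} : Set G)) ≃* DihedralGroup 4)

/-- The element of `G` attached to a dihedral element. -/
def el (d : DihedralGroup 4) : G :=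
  ((e.symm d : ↥(Subgroup.centralizer ({t} : Set G))) : G)

theorem el_mul (d₁ d₂ : DihedralGroup 4) : el t e (d₁ * d₂) = el t e d₁ * el t e d₂ := by
  simp [el, map_mul]

theorem el_one : el t e 1 = 1 := by
  simp [el]

theorem el_inv (d : DihedralGroup 4) : el t e d⁻¹ = (el t e d)⁻¹ := by
  simp [el, map_inv]

theorem el_pow (d : DihedralGroup 4) (n : ℕ) : el t e (d ^ n) = (el t e d) ^ n := by
  simp [el, map_pow]

theorem el_injective : Function.Injective (el t e) := by
  intro d₁ d₂ h
  have : e.symm d₁ = e.symm d₂ := Subtype.ext h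
  exact e.symm.injective this

theorem el_mem (d : DihedralGroup 4) : el t e d ∈ Subgroup.centralizer ({t} : Set G) :=
  (e.symm d).2

theorem exists_el {x : G} (hx : x ∈ Subgroup.centralizer ({t} : Set G)) :
    ∃ d, el t e d = x :=
  ⟨e ⟨x, hx⟩, by simp [el]⟩

theorem commute_el (d : DihedralGroup 4) : t * el t e d = el t e d * t :=
  Subgroup.mem_centralizer_iff.mp (el_mem t e d) t rfl

theorem self_mem : t ∈ Subgroup.centralizer ({t} : Set G) := by
  rw [Subgroup.mem_centralizer_iff]
  intro h hh
  rw [Set.mem_singleton_iff.mp hh]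

theorem center_d8 : ∀ d₀ : DihedralGroup 4, (∀ d, d * d₀ = d₀ * d) → d₀ = 1 ∨ d₀ = r 2 := by
  decide

theorem el_r2 (ht : orderOf t = 2) : el t e (r 2) = t := by
  obtain ⟨d₀, hd₀⟩ := exists_el t e (self_mem t)
  have hc : ∀ d, d * d₀ = d₀ * d := by
    intro d
    apply el_injective t e
    rw [el_mul, el_mul, hd₀]
    exact (commute_el t e d).symm
  rcases center_d8 d₀ hc with h | h
  · exfalso
    rw [h, el_one] at hd₀
    rw [← hd₀, orderOf_one] at ht
    omega
  · rw [← h, hd₀]

end basic

section cyc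

variable (t : G) (e : ↥(Subgroup.centralizer ({t} : Set G)) ≃* DihedralGroup 4)

/-- `el` as a homomorphism. -/
def elHom : DihedralGroup 4 →* G :=
  (Subgroup.subtype _).comp e.symm.toMonoidHom

theorem elHom_apply (d : DihedralGroup 4) : elHom t e d = el t e d := rfl

theorem orderOf_el (d : DihedralGroup 4) : orderOf (el t e d) = orderOf d := by
  rw [← elHom_apply]
  exact orderOf_injective (elHom t e) (el_injective t e) d

theorem orderOf_a : orderOf (el t e (r 1)) = 4 := by
  rw [orderOf_el, DihedralGroup.orderOf_r_one]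

theorem a_pow (k : ℕ) : (el t e (r 1)) ^ k = el t e (r k) := by
  rw [← el_pow, DihedralGroup.r_one_pow]

theorem a_sq (ht : orderOf t = 2) : (el t e (r 1)) ^ 2 = t := by
  rw [a_pow]
  exact el_r2 t e ht

theorem mem_zpowers_iff {x : G} :
    x ∈ Subgroup.zpowers (el t e (r 1)) ↔ ∃ k : ZMod 4, x = el t e (r k) := by
  constructor
  · intro hx
    obtain ⟨k, rfl⟩ := Subgroup.mem_zpowers_iff.mp hx
    refine ⟨((k % 4).toNat : ℕ), ?_⟩
    rw [← a_pow, ← zpow_natCast, Int.toNat_of_nonneg (Int.emod_nonneg k (by norm_num))]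
    have := zpow_mod_orderOf (el t e (r 1)) k
    rw [orderOf_a] at this
    exact this.symm
  · rintro ⟨k, rfl⟩
    have : el t e (r k) = (el t e (r 1)) ^ k.val := by
      rw [a_pow, ZMod.natCast_zmod_val]
    rw [this]
    exact Subgroup.pow_mem _ (Subgroup.mem_zpowers _) _

theorem zpowers_le :
    Subgroup.zpowers (el t e (r 1)) ≤ Subgroup.centralizer ({t} : Set G) := by
  rw [Subgroup.zpowers_le]
  exact el_mem t e _

theorem d8_pow_half : ∀ k : ZMod 4, k ≠ 0 →
    (r k : DihedralGroup 4) ^ (orderOf (r k : DihedralGroup 4) / 2) = r 2 := by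
  intro k hk
  rw [DihedralGroup.orderOf_r]
  revert k
  decide

/-- The unique involution among the powers of a nontrivial element of the cyclic subgroup. -/
theorem pow_half (ht : orderOf t = 2) {x : G} (hx : x ∈ Subgroup.zpowers (el t e (r 1)))
    (hx1 : x ≠ 1) : x ^ (orderOf x / 2) = t := by
  obtain ⟨k, rfl⟩ := (mem_zpowers_iff t e).mp hx
  have hk : k ≠ 0 := by
    rintro rfl
    apply hx1
    rw [← el_one t e]
    rfl
  rw [orderOf_el, ← el_pow, d8_pow_half k hk, el_r2 t e ht]

theorem mem_cent_of_conj_mem (ht : orderOf t = 2) (g : G) {x : G}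
    (hx : x ∈ Subgroup.zpowers (el t e (r 1))) (hx1 : x ≠ 1)
    (hgx : g * x * g⁻¹ ∈ Subgroup.zpowers (el t e (r 1))) :
    g ∈ Subgroup.centralizer ({t} : Set G) := by
  have h1 : g * x * g⁻¹ ≠ 1 := by
    intro h
    apply hx1
    have : x = g⁻¹ * (g * x * g⁻¹) * g := by group
    rw [this, h]
    group
  have h2 := pow_half t e ht hgx h1
  have h3 : orderOf (g * x * g⁻¹) = orderOf x := by
    have := (MulAut.conj g).orderOf_eq x
    rwa [MulAut.conj_apply] at this
  rw [h3, conj_pow, pow_half t e ht hx hx1] at h2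
  rw [Subgroup.mem_centralizer_iff]
  intro h hh
  rw [Set.mem_singleton_iff.mp hh]
  calc t * g = (g * t * g⁻¹) * g := by rw [h2]
    _ = g * t := by group

theorem d8_conj_rot : ∀ (d : DihedralGroup 4) (k : ZMod 4),
    ∃ j : ZMod 4, d * r k * d⁻¹ = r j ∧ (k ≠ 0 → j ≠ 0) := by
  decide

theorem conj_mem_zpowers {g x : G} (hg : g ∈ Subgroup.centralizer ({t} : Set G))
    (hx : x ∈ Subgroup.zpowers (el t e (r 1))) (hx1 : x ≠ 1) :
    g * x * g⁻¹ ∈ Subgroup.zpowers (el t e (r 1)) ∧ g * x * g⁻¹ ≠ 1 := by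
  obtain ⟨d, rfl⟩ := exists_el t e hg
  obtain ⟨k, rfl⟩ := (mem_zpowers_iff t e).mp hx
  obtain ⟨j, hj, hj0⟩ := d8_conj_rot d k
  have hk : k ≠ 0 := by
    rintro rfl
    apply hx1
    rw [← el_one t e]
    rfl
  rw [← el_inv, ← el_mul, ← el_mul, hj]
  refine ⟨(mem_zpowers_iff t e).mpr ⟨j, rfl⟩, ?_⟩
  intro h
  rw [← el_one t e] at h
  have := el_injective t e h
  apply hj0 hk
  have h5 : (r j : DihedralGroup 4) = r 0 := this
  injection h5

theorem b_not_mem : el t e (sr 0) ∉ Subgroup.zpowers (el t e (r 1)) := by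
  intro h
  obtain ⟨k, hk⟩ := (mem_zpowers_iff t e).mp h
  have := el_injective t e hk
  cases this

theorem b_conj : el t e (sr 0) * el t e (r 1) * (el t e (sr 0))⁻¹ = (el t e (r 1))⁻¹ := by
  rw [← el_inv, ← el_mul, ← el_mul, ← el_inv]
  congr 1

end cyc

section perf

variable [Finite G]

theorem not_index_two (hperf : commutator G = ⊤) (M : Subgroup G) [hM : M.Normal] :
    M.index ≠ 2 := by
  intro h
  have hcard : Nat.card (G ⧸ M) = 2 := h
  haveI : Fact (Nat.Prime 2) := ⟨Nat.prime_two⟩
  haveI : IsCyclic (G ⧸ M) := isCyclic_of_prime_card hcard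
  letI : CommGroup (G ⧸ M) := IsCyclic.commGroup
  have h1 := Abelianization.commutator_subset_ker (QuotientGroup.mk' M)
  rw [QuotientGroup.ker_mk', hperf] at h1
  have h2 : M = ⊤ := top_le_iff.mp h1
  rw [h2, Subgroup.index_top] at h
  omega

theorem d8_invol : ∀ d : DihedralGroup 4, d * d = 1 → d ≠ 1 → d ≠ r 2 → ∃ k, d = sr k := by
  decide

theorem d8_inverting : ∀ d : DihedralGroup 4, d * r 1 * d⁻¹ = (r 1)⁻¹ → ∃ k, d = sr k := by
  decide

theorem d8_sr_inv_mul_two : ∀ k : ZMod 4, (sr k : DihedralGroup 4)⁻¹ * r 2 = sr (k + 2) := by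
  decide

theorem d8_sr_inv_mul_one : ∀ k : ZMod 4, (sr k : DihedralGroup 4)⁻¹ * r 1 = sr (k + 1) := by
  decide

theorem orderOf_of_isConj {x y : G} (h : IsConj x y) : orderOf y = orderOf x := by
  obtain ⟨c, hc⟩ := isConj_iff.mp h
  have := (MulAut.conj c).orderOf_eq x
  rw [MulAut.conj_apply, hc] at this
  exact this

end perf

section fin

variable [Finite G] (t : G) (e : ↥(Subgroup.centralizer ({t} : Set G)) ≃* DihedralGroup 4)

include e

theorem card_cent : Nat.card (Subgroup.centralizer ({t} : Set G)) = 8 := by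
  rw [Nat.card_congr e.toEquiv, DihedralGroup.nat_card]

theorem exists_sylow (ht : orderOf t = 2) :
    ∃ P : Sylow 2 G, (P : Subgroup G) = Subgroup.centralizer ({t} : Set G) := by
  have hpg : IsPGroup 2 (Subgroup.centralizer ({t} : Set G)) :=
    IsPGroup.of_card (n := 3) (by rw [card_cent t e]; norm_num)
  obtain ⟨P, hP⟩ := hpg.exists_le_sylow
  refine ⟨P, le_antisymm ?_ hP⟩
  have htP : t ∈ (P : Subgroup G) := hP (self_mem t)
  have ht1 : t ≠ 1 := by
    intro h
    rw [h, orderOf_one] at ht
    omega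
  haveI : Nontrivial ↥(P : Subgroup G) := by
    refine ⟨⟨⟨t, htP⟩, 1, ?_⟩⟩
    intro h
    exact ht1 (congrArg Subtype.val h)
  haveI := P.isPGroup'.center_nontrivial
  obtain ⟨z, hz⟩ := exists_ne (1 : Subgroup.center ↥(P : Subgroup G))
  have hzc : ∀ x : ↥(P : Subgroup G), x * (z : ↥(P : Subgroup G)) = (z : ↥(P : Subgroup G)) * x :=
    fun x => Subgroup.mem_center_iff.mp z.2 x
  have hz1 : ((z : ↥(P : Subgroup G)) : G) ≠ 1 := by
    intro h
    apply hz
    apply Subtype.ext
    apply Subtype.ext
    exact h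
  have hzD : ((z : ↥(P : Subgroup G)) : G) ∈ Subgroup.centralizer ({t} : Set G) := by
    rw [Subgroup.mem_centralizer_iff]
    intro h hh
    rw [Set.mem_singleton_iff.mp hh]
    exact congrArg Subtype.val (hzc ⟨t, htP⟩)
  obtain ⟨d, hd⟩ := exists_el t e hzD
  have hdc : ∀ d', d' * d = d * d' := by
    intro d'
    apply el_injective t e
    rw [el_mul, el_mul, hd]
    exact congrArg Subtype.val (hzc ⟨el t e d', hP (el_mem t e d')⟩)
  have hzt : ((z : ↥(P : Subgroup G)) : G) = t := by
    rcases center_d8 d hdc with h | h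
    · exfalso
      apply hz1
      rw [← hd, h, el_one]
    · rw [← hd, h, el_r2 t e ht]
  intro x hx
  rw [Subgroup.mem_centralizer_iff]
  intro h hh
  rw [Set.mem_singleton_iff.mp hh]
  have := congrArg Subtype.val (hzc ⟨x, hx⟩)
  simp only [Subgroup.coe_mul] at this
  rw [hzt] at this
  exact this.symm

theorem card_eq (ht : orderOf t = 2) : ∃ m : ℕ, Odd m ∧ Nat.card G = 8 * m := by
  obtain ⟨P, hP⟩ := exists_sylow t e ht
  have h1 : Nat.card ↥(P : Subgroup G) = 8 := by
    rw [hP]
    exact card_cent t e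
  have h2 := P.card_eq_multiplicity
  rw [h1] at h2
  have h3 := Nat.ordProj_mul_ordCompl_eq_self (Nat.card G) 2
  have h4 : ¬ 2 ∣ (Nat.card G) / 2 ^ (Nat.card G).factorization 2 :=
    Nat.not_dvd_ordCompl Nat.prime_two Nat.card_pos.ne'
  rw [← h2] at h3 h4
  refine ⟨(Nat.card G) / 8, ?_, h3.symm⟩
  rw [← Nat.not_even_iff_odd, even_iff_two_dvd]
  exact h4

theorem relIndex_eq_two :
    (Subgroup.zpowers (el t e (r 1))).relIndex (Subgroup.centralizer ({t} : Set G)) = 2 := by
  have h1 := Subgroup.card_mul_index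
    ((Subgroup.zpowers (el t e (r 1))).subgroupOf (Subgroup.centralizer ({t} : Set G)))
  rw [Nat.card_congr (Subgroup.subgroupOfEquivOfLe (zpowers_le t e)).toEquiv, Nat.card_zpowers,
    orderOf_a, card_cent t e] at h1
  unfold Subgroup.relIndex
  omega

theorem isConj_of_orderOf_two (hperf : commutator G = ⊤) (ht : orderOf t = 2) {u : G}
    (hu : orderOf u = 2) : IsConj t u := by
  obtain ⟨P, hP⟩ := exists_sylow t e ht
  have hpg : IsPGroup 2 (Subgroup.zpowers u) :=
    IsPGroup.of_card (n := 1) (by rw [Nat.card_zpowers, hu]; norm_num)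
  obtain ⟨Q, hQ⟩ := hpg.exists_le_sylow
  obtain ⟨g, hg⟩ := MulAction.exists_smul_eq G Q P
  have hu' : g * u * g⁻¹ ∈ Subgroup.centralizer ({t} : Set G) := by
    rw [← hP, ← hg, Sylow.smul_def, Sylow.pointwise_smul_def]
    have := Subgroup.smul_mem_pointwise_smul u (MulAut.conj g) (Q : Subgroup G)
      (hQ (Subgroup.mem_zpowers u))
    rwa [MulAut.smul_def, MulAut.conj_apply] at this
  have hord : orderOf (g * u * g⁻¹) = 2 := by
    have := (MulAut.conj g).orderOf_eq u
    rw [MulAut.conj_apply] at this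
    rw [this, hu]
  have key : ∃ h : G, h * (g * u * g⁻¹) * h⁻¹ = t := by
    by_cases hA : g * u * g⁻¹ ∈ Subgroup.zpowers (el t e (r 1))
    · refine ⟨1, ?_⟩
      have h1 : g * u * g⁻¹ ≠ 1 := by
        intro h
        rw [h, orderOf_one] at hord
        omega
      have := pow_half t e ht hA h1
      rw [hord] at this
      simpa using this
    · have hAP : Subgroup.zpowers (el t e (r 1)) ≤ (P : Subgroup G) := by
        rw [hP]
        exact zpowers_le t e
      have hri : (Subgroup.zpowers (el t e (r 1))).relIndex (P : Subgroup G) = 2 := by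
        rw [hP]
        exact relIndex_eq_two t e
      rcases Cfsg.Agent.S0111.result P (Subgroup.zpowers (el t e (r 1))) hAP hri
        (g * u * g⁻¹) hord (by rw [hP]; exact hu') hA with ⟨M, hM, hMi, -⟩ | ⟨h, hh⟩
      · exact absurd hMi (not_index_two hperf M)
      · refine ⟨h, ?_⟩
        have hord2 : orderOf (h * (g * u * g⁻¹) * h⁻¹) = 2 := by
          have := (MulAut.conj h).orderOf_eq (g * u * g⁻¹)
          rw [MulAut.conj_apply] at this
          rw [this, hord]
        have h1 : h * (g * u * g⁻¹) * h⁻¹ ≠ 1 := by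
          intro h'
          rw [h', orderOf_one] at hord2
          omega
        have := pow_half t e ht hh h1
        rw [hord2] at this
        simpa using this
  obtain ⟨h, hh⟩ := key
  rw [isConj_iff]
  refine ⟨(h * g)⁻¹, ?_⟩
  rw [← hh]
  group

theorem card_pairs_t (hperf : commutator G = ⊤) (ht : orderOf t = 2) :
    Nat.card {p : G × G // IsConj t p.1 ∧ IsConj t p.2 ∧ p.1 * p.2 = t} = 4 := by
  have hconj : ∀ k : ZMod 4, IsConj t (el t e (sr k)) := fun k =>
    isConj_of_orderOf_two t e hperf ht (by rw [orderOf_el, DihedralGroup.orderOf_sr])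
  let f : ZMod 4 → {p : G × G // IsConj t p.1 ∧ IsConj t p.2 ∧ p.1 * p.2 = t} := fun k =>
    ⟨(el t e (sr k), el t e (sr (k + 2))), hconj k, hconj (k + 2), by
      show el t e (sr k) * el t e (sr (k + 2)) = t
      rw [← el_mul, DihedralGroup.sr_mul_sr, add_sub_cancel_left, el_r2 t e ht]⟩
  have hf : Function.Bijective f := by
    constructor
    · intro k k' h
      have h1 : el t e (sr k) = el t e (sr k') := congrArg (fun p => p.1.1) h
      have h2 := el_injective t e h1
      injection h2
    · rintro ⟨⟨x, y⟩, hx, hy, hxy⟩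
      simp only at hx hy hxy
      have hox : orderOf x = 2 := by rw [orderOf_of_isConj hx, ht]
      have hoy : orderOf y = 2 := by rw [orderOf_of_isConj hy, ht]
      have hx2 : x * x = 1 := by rw [← pow_two, ← hox, pow_orderOf_eq_one]
      have hy2 : y * y = 1 := by rw [← pow_two, ← hoy, pow_orderOf_eq_one]
      have ht2 : t * t = 1 := by rw [← pow_two, ← ht, pow_orderOf_eq_one]
      have hxinv : x⁻¹ = x := inv_eq_of_mul_eq_one_left hx2
      have hyeq : y = x * t := by
        rw [← hxy, ← mul_assoc, hx2, one_mul]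
      have hcomm : t * x = x * t := by
        have h1 : (x * t) * (x * t) = 1 := by rw [← hyeq]; exact hy2
        have h2 : x * t = (x * t)⁻¹ := (inv_eq_of_mul_eq_one_left h1).symm
        rw [mul_inv_rev, hxinv, inv_eq_of_mul_eq_one_left ht2] at h2
        exact h2.symm
      have hxD : x ∈ Subgroup.centralizer ({t} : Set G) := by
        rw [Subgroup.mem_centralizer_iff]
        intro h hh
        rw [Set.mem_singleton_iff.mp hh]
        exact hcomm
      obtain ⟨d, rfl⟩ := exists_el t e hxD
      have hd2 : d * d = 1 := by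
        apply el_injective t e
        rw [el_mul, el_one]
        exact hx2
      have hd1 : d ≠ 1 := by
        rintro rfl
        rw [el_one, orderOf_one] at hox
        omega
      have hdr : d ≠ r 2 := by
        rintro rfl
        rw [el_r2 t e ht, ht2] at hyeq
        rw [hyeq, orderOf_one] at hoy
        omega
      obtain ⟨k, rfl⟩ := d8_invol d hd2 hd1 hdr
      refine ⟨k, ?_⟩
      apply Subtype.ext
      show (el t e (sr k), el t e (sr (k + 2))) = (el t e (sr k), y)
      congr 1
      have h5 : (el t e (sr k))⁻¹ * t = el t e (sr (k + 2)) := by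
        have h6 : (el t e (sr k))⁻¹ * el t e (r 2) = el t e (sr (k + 2)) := by
          rw [← el_inv, ← el_mul, d8_sr_inv_mul_two]
        rwa [el_r2 t e ht] at h6
      rw [hyeq, ← h5, hxinv]
  rw [← Nat.card_eq_of_bijective f hf]
  simp

theorem card_pairs_a (hperf : commutator G = ⊤) (ht : orderOf t = 2) :
    Nat.card {p : G × G // IsConj t p.1 ∧ IsConj t p.2 ∧ p.1 * p.2 = el t e (r 1)} = 4 := by
  have hconj : ∀ k : ZMod 4, IsConj t (el t e (sr k)) := fun k =>
    isConj_of_orderOf_two t e hperf ht (by rw [orderOf_el, DihedralGroup.orderOf_sr])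
  let f : ZMod 4 → {p : G × G // IsConj t p.1 ∧ IsConj t p.2 ∧ p.1 * p.2 = el t e (r 1)} :=
    fun k => ⟨(el t e (sr k), el t e (sr (k + 1))), hconj k, hconj (k + 1), by
      show el t e (sr k) * el t e (sr (k + 1)) = el t e (r 1)
      rw [← el_mul, DihedralGroup.sr_mul_sr, add_sub_cancel_left]⟩
  have hf : Function.Bijective f := by
    constructor
    · intro k k' h
      have h1 : el t e (sr k) = el t e (sr k') := congrArg (fun p => p.1.1) h
      have h2 := el_injective t e h1
      injection h2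
    · rintro ⟨⟨x, y⟩, hx, hy, hxy⟩
      simp only at hx hy hxy
      have hox : orderOf x = 2 := by rw [orderOf_of_isConj hx, ht]
      have hoy : orderOf y = 2 := by rw [orderOf_of_isConj hy, ht]
      have hx2 : x * x = 1 := by rw [← pow_two, ← hox, pow_orderOf_eq_one]
      have hy2 : y * y = 1 := by rw [← pow_two, ← hoy, pow_orderOf_eq_one]
      have ht2 : t * t = 1 := by rw [← pow_two, ← ht, pow_orderOf_eq_one]
      have hxinv : x⁻¹ = x := inv_eq_of_mul_eq_one_left hx2
      have hyinv : y⁻¹ = y := inv_eq_of_mul_eq_one_left hy2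
      have hyeq : y = x * el t e (r 1) := by
        rw [← hxy, ← mul_assoc, hx2, one_mul]
      have hinv : x * el t e (r 1) * x⁻¹ = (el t e (r 1))⁻¹ := by
        rw [← hxy, mul_inv_rev, hxinv, hyinv, ← mul_assoc, hx2, one_mul]
      have hconjt : x * t * x⁻¹ = t := by
        have h1 : x * (el t e (r 1)) ^ 2 * x⁻¹ = ((el t e (r 1))⁻¹) ^ 2 := by
          rw [← conj_pow, hinv]
        rw [inv_pow, a_sq t e ht] at h1
        rw [h1]
        exact inv_eq_of_mul_eq_one_left ht2
      have hxD : x ∈ Subgroup.centralizer ({t} : Set G) := by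
        rw [Subgroup.mem_centralizer_iff]
        intro h hh
        rw [Set.mem_singleton_iff.mp hh]
        calc t * x = (x * t * x⁻¹) * x := by rw [hconjt]
          _ = x * t := by group
      obtain ⟨d, rfl⟩ := exists_el t e hxD
      have hd : d * r 1 * d⁻¹ = (r 1)⁻¹ := by
        apply el_injective t e
        rw [el_mul, el_mul, el_inv, el_inv]
        exact hinv
      obtain ⟨k, rfl⟩ := d8_inverting d hd
      refine ⟨k, ?_⟩
      apply Subtype.ext
      show (el t e (sr k), el t e (sr (k + 1))) = (el t e (sr k), y)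
      congr 1
      rw [hyeq, ← hxinv, ← el_inv, ← el_mul, d8_sr_inv_mul_one]
  rw [← Nat.card_eq_of_bijective f hf]
  simp

end fin

end Cfsg.Agent.Lib.helper3.D8C
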