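import Mathlib
import Cfsg.Prelude.Def_Characters
import Cfsg.Agent.Lib.helper3.D8C1
import Cfsg.Agent.Lib.helper3.D8C2

/-!
# Groups with an involution whose centralizer is dihedral of order eight: the two characters
-/

set_option autoImplicit false
set_option linter.style.haveILetI false
set_option linter.unusedSectionVars false

namespace Cfsg.Agent.Lib.helper3.D8C

open Cfsg Cfsg.Agent.Lib.helper3.Irr Cfsg.Agent.Lib.helper3.CharBasic
open Cfsg.Agent.Lib.helper3.IndFun Cfsg.Agent.Lib.helper3.CycTI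
open Cfsg.Agent.Lib.helper3.Lin Cfsg.Agent.Lib.helper3.BSQ
open DihedralGroup
open scoped ComplexConjugate

variable {G : Type*} [Group G] [Fintype G] (t : G)
  (e : ↥(Subgroup.centralizer ({t} : Set G)) ≃* DihedralGroup 4)

theorem el_mem_zpowers (k : ZMod 4) : el t e (r k) ∈ Subgroup.zpowers (el t e (r 1)) :=
  (mem_zpowers_iff t e).mpr ⟨k, rfl⟩

/-- Sums over the cyclic subgroup of order four. -/
theorem sum_zpowers [Fintype ↥(Subgroup.zpowers (el t e (r 1)))]
    (F : ↥(Subgroup.zpowers (el t e (r 1))) → ℂ) :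
    ∑ x, F x = F ⟨el t e (r 0), el_mem_zpowers t e 0⟩ + F ⟨el t e (r 1), el_mem_zpowers t e 1⟩
      + F ⟨el t e (r 2), el_mem_zpowers t e 2⟩ + F ⟨el t e (r 3), el_mem_zpowers t e 3⟩ := by
  let φ : ZMod 4 → ↥(Subgroup.zpowers (el t e (r 1))) := fun k =>
    ⟨el t e (r k), el_mem_zpowers t e k⟩
  have hφ : Function.Bijective φ := by
    constructor
    · intro k k' h
      have h1 : el t e (r k) = el t e (r k') :=
        congrArg (fun x : ↥(Subgroup.zpowers (el t e (r 1))) => (x : G)) h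
      have h2 := el_injective t e h1
      injection h2
    · rintro ⟨x, hx⟩
      obtain ⟨k, rfl⟩ := (mem_zpowers_iff t e).mp hx
      exact ⟨k, rfl⟩
  rw [← Function.Bijective.sum_comp hφ F]
  exact Fin.sum_univ_four (fun k : Fin 4 => F (φ k))

/-- The two exceptional characters. -/
theorem exists_chars (ht : orderOf t = 2) :
    ∃ χ₁ χ₂ : G → ℂ, IsIrrCharacter G χ₁ ∧ IsIrrCharacter G χ₂ ∧ χ₁ ≠ (fun _ => 1) ∧
      χ₂ ≠ (fun _ => 1) ∧ χ₁ 1 = χ₂ 1 + 1 ∧ 1 + χ₂ t - χ₁ t = 4 ∧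
      ∀ ξ : G → ℂ, IsIrrCharacter G ξ →
        classInner ((fun _ => 1) + χ₂ - χ₁) ξ = (conj (ξ (el t e (r 1))) + conj (ξ t)) / 2 := by
  classical
  obtain ⟨A, hA⟩ : ∃ A : Subgroup G, A = Subgroup.zpowers (el t e (r 1)) := ⟨_, rfl⟩
  obtain ⟨D, hD⟩ : ∃ D : Subgroup G, D = Subgroup.centralizer ({t} : Set G) := ⟨_, rfl⟩
  have hAD : A ≤ D := by
    rw [hA, hD]
    exact zpowers_le t e
  have hidx : (A.subgroupOf D).index = 2 := by
    rw [hA, hD]
    exact relIndex_eq_two t e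
  haveI hnorm : (A.subgroupOf D).Normal := Subgroup.normal_of_index_eq_two hidx
  obtain ⟨X, hX⟩ : ∃ X : Set G, X = {x | x ∈ A ∧ x ≠ 1} := ⟨_, rfl⟩
  have hX3 : ∀ g : G, ∀ x ∈ X, g * x * g⁻¹ ∈ X → g ∈ D := by
    intro g x hx hgx
    rw [hX] at hx hgx
    rw [hD]
    rw [hA] at hx hgx
    exact mem_cent_of_conj_mem t e ht g hx.1 hx.2 hgx.1
  have hX2 : ∀ g ∈ D, ∀ x ∈ X, g * x * g⁻¹ ∈ X := by
    intro g hg x hx
    rw [hX] at hx ⊢
    rw [hA] at hx ⊢
    rw [hD] at hg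
    exact conj_mem_zpowers t e hg hx.1 hx.2
  letI : CommGroup ↥A :=
    { (inferInstance : Group ↥A) with
      mul_comm := by
        rintro ⟨x, hx⟩ ⟨y, hy⟩
        rw [hA] at hx hy
        obtain ⟨i, rfl⟩ := Subgroup.mem_zpowers_iff.mp hx
        obtain ⟨j, rfl⟩ := Subgroup.mem_zpowers_iff.mp hy
        apply Subtype.ext
        show el t e (r 1) ^ i * el t e (r 1) ^ j = el t e (r 1) ^ j * el t e (r 1) ^ i
        rw [← zpow_add, ← zpow_add, add_comm] }
  haveI : NeZero ((Monoid.exponent ↥A : ℕ) : ℂ) := by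
    constructor
    have : Monoid.exponent ↥A ≠ 0 := Monoid.exponent_ne_zero_of_finite
    exact_mod_cast this
  have haA : el t e (r 1) ∈ A := by
    rw [hA]
    exact Subgroup.mem_zpowers _
  have htA : t ∈ A := by
    rw [← a_sq t e ht]
    exact A.pow_mem haA 2
  have ht1 : t ≠ 1 := by
    intro h
    rw [h, orderOf_one] at ht
    omega
  have hne : (⟨t, htA⟩ : ↥A) ≠ 1 := by
    intro h
    exact ht1 (congrArg Subtype.val h)
  obtain ⟨ν, hν⟩ := CommGroup.exists_apply_ne_one_of_hasEnoughRootsOfUnity ↥A ℂ hne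
  have hX1 : ∀ c : ↥A, ν c ≠ 1 → (c : G) ∈ X := by
    intro c hc
    rw [hX]
    refine ⟨c.2, ?_⟩
    intro h
    apply hc
    have : c = 1 := Subtype.ext h
    rw [this, map_one]
  have hbD : el t e (sr 0) ∈ D := by
    rw [hD]
    exact el_mem t e _
  have hbA : el t e (sr 0) ∉ A := by
    rw [hA]
    exact b_not_mem t e
  have hsq : (⟨el t e (r 1), haA⟩ : ↥A) ^ 2 = ⟨t, htA⟩ := by
    apply Subtype.ext
    exact a_sq t e ht
  have hνt : (ν ⟨el t e (r 1), haA⟩) ^ 2 ≠ 1 := by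
    rw [← map_pow, hsq]
    exact hν
  have hν4 : (ν ⟨el t e (r 1), haA⟩) ^ 4 = 1 := by
    rw [← map_pow]
    have : (⟨el t e (r 1), haA⟩ : ↥A) ^ 4 = 1 := by
      apply Subtype.ext
      show el t e (r 1) ^ 4 = 1
      have h4 := pow_orderOf_eq_one (el t e (r 1))
      rwa [orderOf_a] at h4
    rw [this, map_one]
  obtain ⟨χ₁, χ₂, hχ₁, hχ₂, h11, h21, hdeg, hdec, hval⟩ :=
    core' A D hAD hidx X hX3 hX2 ν hX1 (el t e (sr 0)) (el t e (r 1)) hbD hbA haA (b_conj t e) hνt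
  refine ⟨χ₁, χ₂, hχ₁, hχ₂, h11, h21, hdeg, ?_, ?_⟩
  · have := hval (by
      rw [a_sq t e ht, hX]
      exact ⟨htA, ht1⟩) hν4
    rwa [a_sq t e ht] at this
  · intro ξ hξ
    have hξcf : IsClassFunction G ξ := isClassFunction_of_isCharacter (isCharacter_of_isIrrCharacter hξ)
    rw [← hdec, frobenius_reciprocity A _ ξ hξcf, classInner_apply]
    obtain ⟨z, hz⟩ : ∃ z : ℂ, z = ((ν ⟨el t e (r 1), haA⟩ : ℂˣ) : ℂ) := ⟨_, rfl⟩
    have hz2 : z ^ 2 = -1 := by
      have h4 : z ^ 4 = 1 := by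
        rw [hz, ← Units.val_pow_eq_pow_val, hν4, Units.val_one]
      have h6 : (z ^ 2 - 1) * (z ^ 2 + 1) = 0 := by linear_combination h4
      rcases mul_eq_zero.mp h6 with h7 | h7
      · exfalso
        apply hνt
        apply Units.ext
        rw [Units.val_pow_eq_pow_val, Units.val_one, ← hz]
        linear_combination h7
      · linear_combination h7
    have hνk : ∀ (k : ℕ) (hk : el t e (r (k : ZMod 4)) ∈ A),
        ((ν ⟨el t e (r (k : ZMod 4)), hk⟩ : ℂˣ) : ℂ) = z ^ k := by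
      intro k hk
      have : (⟨el t e (r (k : ZMod 4)), hk⟩ : ↥A) = ⟨el t e (r 1), haA⟩ ^ k := by
        apply Subtype.ext
        show el t e (r (k : ZMod 4)) = el t e (r 1) ^ k
        rw [a_pow]
      rw [this, map_pow, Units.val_pow_eq_pow_val, hz]
    have hcard : (Nat.card ↥A : ℂ) = 4 := by
      rw [hA, Nat.card_zpowers, orderOf_a]
      norm_num
    have hξ3 : ξ (el t e (r 3)) = ξ (el t e (r 1)) := by
      have h1 : el t e (r 3) = el t e (sr 0) * el t e (r 1) * (el t e (sr 0))⁻¹ := by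
        rw [b_conj, ← el_inv]
        congr 1
      rw [h1, hξcf]
    subst hA
    rw [sum_zpowers t e, hcard]
    have e0 := hνk 0 (el_mem_zpowers t e 0)
    have e1 := hνk 1 (el_mem_zpowers t e 1)
    have e2 := hνk 2 (el_mem_zpowers t e 2)
    have e3 := hνk 3 (el_mem_zpowers t e 3)
    simp only [Nat.cast_zero, Nat.cast_one, Nat.cast_ofNat, pow_zero, pow_one] at e0 e1 e2 e3
    simp only [Pi.sub_apply, linFun, MonoidHom.one_apply, Units.val_one]
    rw [e0, e1, e2, e3, hξ3, el_r2 t e ht]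
    have hz3 : z ^ 3 = -z := by
      rw [pow_succ, hz2]
      ring
    rw [hz2, hz3]
    ring

end Cfsg.Agent.Lib.helper3.D8C
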