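import Mathlib
import Cfsg.Prelude.Def_Blocks
import Cfsg.Agent.Lib.helper3.GalFix2
import Cfsg.Agent.Lib.helper3.DefectOrder

/-!
# Parity of the number of odd-degree characters in the principal `2`-block
-/

set_option autoImplicit false
set_option linter.style.haveILetI false
set_option linter.unusedSectionVars false

namespace Cfsg.Agent.Lib.helper3.GalFix

open Cfsg Cfsg.Agent.Lib.helper3.Irr Cfsg.Agent.Lib.helper3.CharBasic
open Cfsg.Agent.Lib.helper3.IndFun Cfsg.Agent.Lib.helper3.GalPow Cfsg.Agent.Lib.helper3.LocalM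
open Cfsg.Agent.Lib.helper3.Block
open scoped ComplexConjugate

variable {G : Type*} [Group G] [Fintype G] {M : Ideal AlgInt}

/-- The value of a character at an involution is an integer of the parity of the degree. -/
theorem exists_int_apply_involution (χ : IrrCharacter G) (g : G) (hg : orderOf g = 2) :
    ∃ n : ℤ, (χ : G → ℂ) g = (n : ℂ) ∧ ((n : ℤ) : ZMod 2) = ((charDegree (χ : G → ℂ) : ℕ) : ZMod 2) := by
  classical
  obtain ⟨d, ρ, hirr, hρ⟩ := χ.2
  obtain ⟨I, hI, v, μ, hf, hμ⟩ := exists_eigenbasis ρ g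
  rw [hg] at hμ
  have hμ' : ∀ i, μ i = 1 ∨ μ i = -1 := by
    intro i
    have h1 := hμ i
    have h2 : (μ i - 1) * (μ i + 1) = 0 := by ring_nf; rw [h1]; ring
    rcases mul_eq_zero.mp h2 with h3 | h3
    · left; linear_combination h3
    · right; linear_combination h3
  have hdeg : charDegree (χ : G → ℂ) = Fintype.card I := by
    apply charDegree_eq
    rw [← hρ, Representation.char_one, Module.finrank_eq_card_basis v]
  refine ⟨∑ i, (if μ i = 1 then (1 : ℤ) else -1), ?_, ?_⟩
  · rw [← hρ, character_eq_sum_of_eigenbasis ρ g v μ hf]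
    push_cast
    apply Finset.sum_congr rfl
    intro i _
    rcases hμ' i with h | h
    · rw [if_pos h, h]
    · have hne : μ i ≠ 1 := by
        rw [h]
        norm_num
      rw [if_neg hne, h]
  · rw [hdeg]
    push_cast
    have h1 : ∀ i ∈ (Finset.univ : Finset I),
        ((if μ i = 1 then (1 : ZMod 2) else -1)) = 1 := by
      intro i _
      split_ifs
      · rfl
      · decide
    rw [Finset.sum_congr rfl h1]
    simp

open Classical in
/-- The number of odd-degree characters in the principal `2`-block of a group of even order is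
even. -/
theorem even_card_odd_degree_principal (hM : IsPModular 2 M) (hev : Even (Nat.card G)) :
    Even (Finset.univ.filter (fun χ : IrrCharacter G =>
      χ ∈ principalBlock M G ∧ Odd (charDegree (χ : G → ℂ)))).card := by
  haveI hMp := isPrime_of_isPModular hM
  haveI : Fact (Nat.Prime 2) := ⟨Nat.prime_two⟩
  obtain ⟨g, hg⟩ := exists_prime_orderOf_dvd_card' (G := G) 2 hev.two_dvd
  have hS : ∀ θ ∈ principalBlock M G, blockOf M (θ : G → ℂ) ⊆ principalBlock M G := by
    intro θ hθ φ hφ
    exact sameBlock_trans hθ hφ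
  have h1 : ¬ 2 ∣ orderOf (1 : G) := by
    rw [orderOf_one]
    norm_num
  have h2 : 2 ∣ orderOf g := by rw [hg]
  have hwbo := weak_block_orthogonality hM (principalBlock M G) hS 1 g h1 h2
  choose n hn1 hn2 using fun χ : IrrCharacter G => exists_int_apply_involution χ g hg
  have hint : ∑ χ : IrrCharacter G, (if χ ∈ principalBlock M G then (1 : ℤ) else 0)
      * ((charDegree (χ : G → ℂ) : ℤ) * n χ) = 0 := by
    have h3 : ((∑ χ : IrrCharacter G, (if χ ∈ principalBlock M G then (1 : ℤ) else 0)
      * ((charDegree (χ : G → ℂ) : ℤ) * n χ) : ℤ) : ℂ) = ((0 : ℤ) : ℂ) := by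
      rw [Int.cast_zero, ← hwbo]
      push_cast
      apply Finset.sum_congr rfl
      intro χ _
      have hone : (χ : G → ℂ) 1 = ((charDegree (χ : G → ℂ) : ℕ) : ℂ) := by
        obtain ⟨d, _, hd1⟩ := exists_pos_nat_apply_one χ.2
        rw [charDegree_eq hd1, hd1]
      rw [hn1 χ, hone, map_intCast]
    exact Int.cast_injective h3
  have hz := congrArg (Int.cast : ℤ → ZMod 2) hint
  push_cast at hz
  have h4 : ∀ χ ∈ (Finset.univ : Finset (IrrCharacter G)),
      (if χ ∈ principalBlock M G then (1 : ZMod 2) else 0)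
        * (((charDegree (χ : G → ℂ) : ℕ) : ZMod 2) * ((n χ : ℤ) : ZMod 2))
      = if (χ ∈ principalBlock M G ∧ Odd (charDegree (χ : G → ℂ))) then 1 else 0 := by
    intro χ _
    rw [hn2 χ]
    by_cases hχ : χ ∈ principalBlock M G
    · rw [if_pos hχ, one_mul]
      by_cases hodd : Odd (charDegree (χ : G → ℂ))
      · rw [if_pos ⟨hχ, hodd⟩, ZMod.natCast_eq_one_iff_odd.2 hodd, one_mul]
      · rw [if_neg (fun h => hodd h.2)]
        have : Even (charDegree (χ : G → ℂ)) := Nat.not_odd_iff_even.mp hodd
        rw [ZMod.natCast_eq_zero_iff_even.2 this, mul_zero]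
    · rw [if_neg hχ, zero_mul, if_neg (fun h => hχ h.1)]
  rw [Finset.sum_congr rfl h4, Finset.sum_boole] at hz
  exact ZMod.natCast_eq_zero_iff_even.1 hz

end Cfsg.Agent.Lib.helper3.GalFix
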