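import Mathlib
import Cfsg.Prelude.Def_Characters
import Cfsg.Agent.Lib.helper3.D8C3
import Cfsg.Agent.Lib.helper3.ClassMul
import Cfsg.Agent.Lib.helper3.GalFix3
import Cfsg.Agent.Lib.helper3.Irr7
import Cfsg.Agent.Lib.helper3.Irr11

/-!
# Groups with an involution whose centralizer is dihedral of order eight: the order formula
-/

set_option autoImplicit false
set_option linter.style.haveILetI false
set_option linter.unusedSectionVars false

namespace Cfsg.Agent.Lib.helper3.D8C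

open Cfsg Cfsg.Agent.Lib.helper3.Irr Cfsg.Agent.Lib.helper3.CharBasic
open Cfsg.Agent.Lib.helper3.IndFun Cfsg.Agent.Lib.helper3.Central
open DihedralGroup
open scoped ComplexConjugate
open Classical

variable {G : Type*} [Group G] [Fintype G] (t : G)
  (e : ↥(Subgroup.centralizer ({t} : Set G)) ≃* DihedralGroup 4)

theorem sum_mul_classInner (χ : IrrCharacter G) (F : IrrCharacter G → ℂ) :
    ∑ ξ : IrrCharacter G, F ξ * classInner (χ : G → ℂ) (ξ : G → ℂ) = F χ := by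
  rw [Finset.sum_eq_single χ]
  · rw [irr_classInner_self χ.2, mul_one]
  · intro ξ _ hne
    rw [irr_classInner_eq_zero χ.2 ξ.2 (fun h => hne (Subtype.ext h.symm)), mul_zero]
  · intro h
    exact absurd (Finset.mem_univ _) h

include e in
theorem card_cls_t : ((cls t).card : ℂ) * 8 = (Nat.card G : ℂ) := by
  have h1 : (cls t).card = (Subgroup.centralizer ({t} : Set G)).index := card_class_eq_index t
  have h2 := Subgroup.card_mul_index (Subgroup.centralizer ({t} : Set G))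
  rw [card_cent t e] at h2
  rw [h1, ← h2]
  push_cast
  ring

theorem key_identity (hperf : commutator G = ⊤) (ht : orderOf t = 2)
    (χ₁ χ₂ : IrrCharacter G)
    (hn : ∀ ξ : G → ℂ, IsIrrCharacter G ξ →
      classInner ((fun _ => 1) + (χ₂ : G → ℂ) - (χ₁ : G → ℂ)) ξ
        = (conj (ξ (el t e (r 1))) + conj (ξ t)) / 2) :
    (Nat.card G : ℂ) * (1 + (χ₂ : G → ℂ) t ^ 2 / (χ₂ : G → ℂ) 1
      - (χ₁ : G → ℂ) t ^ 2 / (χ₁ : G → ℂ) 1) = 256 := by
  have hg0 : (Nat.card G : ℂ) ≠ 0 := by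
    have : Nat.card G ≠ 0 := Nat.card_pos.ne'
    exact_mod_cast this
  have hm1 : mulCount t t t = 4 := by
    unfold mulCount
    rw [card_pairs_t t e hperf ht]
    norm_num
  have hm2 : mulCount t t (el t e (r 1)) = 4 := by
    unfold mulCount
    rw [card_pairs_a t e hperf ht]
    norm_num
  rw [mulCount_eq] at hm1 hm2
  obtain ⟨one', hone'⟩ : ∃ o : IrrCharacter G, (o : G → ℂ) = fun _ => 1 :=
    ⟨⟨fun _ => 1, isIrrCharacter_one⟩, rfl⟩
  have hsum : ∑ ξ : IrrCharacter G, (ξ : G → ℂ) t * (ξ : G → ℂ) t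
        * conj ((ξ : G → ℂ) t) / (ξ : G → ℂ) 1
      + ∑ ξ : IrrCharacter G, (ξ : G → ℂ) t * (ξ : G → ℂ) t
        * conj ((ξ : G → ℂ) (el t e (r 1))) / (ξ : G → ℂ) 1
      = 2 * (1 + (χ₂ : G → ℂ) t ^ 2 / (χ₂ : G → ℂ) 1
        - (χ₁ : G → ℂ) t ^ 2 / (χ₁ : G → ℂ) 1) := by
    rw [← Finset.sum_add_distrib]
    have h1 : ∀ ξ : IrrCharacter G, (ξ : G → ℂ) t * (ξ : G → ℂ) t
        * conj ((ξ : G → ℂ) t) / (ξ : G → ℂ) 1
      + (ξ : G → ℂ) t * (ξ : G → ℂ) t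
        * conj ((ξ : G → ℂ) (el t e (r 1))) / (ξ : G → ℂ) 1
      = 2 * ((ξ : G → ℂ) t ^ 2 / (ξ : G → ℂ) 1) * classInner (one' : G → ℂ) (ξ : G → ℂ)
        + 2 * ((ξ : G → ℂ) t ^ 2 / (ξ : G → ℂ) 1) * classInner (χ₂ : G → ℂ) (ξ : G → ℂ)
        - 2 * ((ξ : G → ℂ) t ^ 2 / (ξ : G → ℂ) 1) * classInner (χ₁ : G → ℂ) (ξ : G → ℂ) := by
      intro ξ
      have := hn ξ ξ.2
      rw [classInner_sub_left, classInner_add_left, ← hone'] at this
      have h3 : conj ((ξ : G → ℂ) (el t e (r 1))) + conj ((ξ : G → ℂ) t)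
          = 2 * (classInner (one' : G → ℂ) (ξ : G → ℂ) + classInner (χ₂ : G → ℂ) (ξ : G → ℂ)
            - classInner (χ₁ : G → ℂ) (ξ : G → ℂ)) := by
        rw [this]
        ring
      linear_combination ((ξ : G → ℂ) t ^ 2 / (ξ : G → ℂ) 1) * h3
    rw [Finset.sum_congr rfl (fun ξ _ => h1 ξ), Finset.sum_sub_distrib, Finset.sum_add_distrib,
      sum_mul_classInner one' (fun ξ => 2 * ((ξ : G → ℂ) t ^ 2 / (ξ : G → ℂ) 1)),
      sum_mul_classInner χ₂ (fun ξ => 2 * ((ξ : G → ℂ) t ^ 2 / (ξ : G → ℂ) 1)),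
      sum_mul_classInner χ₁ (fun ξ => 2 * ((ξ : G → ℂ) t ^ 2 / (ξ : G → ℂ) 1)), hone']
    simp only [one_pow, div_one]
    ring
  have hc := card_cls_t t e
  have hc' : ((cls t).card : ℂ) = (Nat.card G : ℂ) / 8 := by
    rw [← hc]
    ring
  rw [hc'] at hm1 hm2
  have h8 : (Nat.card G : ℂ) / 8 * ((Nat.card G : ℂ) / 8) / (Nat.card G : ℂ)
      * (2 * (1 + (χ₂ : G → ℂ) t ^ 2 / (χ₂ : G → ℂ) 1
        - (χ₁ : G → ℂ) t ^ 2 / (χ₁ : G → ℂ) 1)) = 8 := by
    rw [← hsum, mul_add, hm1, hm2]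
    norm_num
  have h9 : (Nat.card G : ℂ) / 8 * ((Nat.card G : ℂ) / 8) / (Nat.card G : ℂ)
      = (Nat.card G : ℂ) / 64 := by
    field_simp
    ring
  rw [h9] at h8
  linear_combination 32 * h8

end Cfsg.Agent.Lib.helper3.D8C
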