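import Mathlib
import Cfsg.Prelude.Def_Characters
import Cfsg.Agent.Lib.helper3.D8C4
import Cfsg.Agent.Lib.helper3.Irr9

/-!
# Groups with an involution whose centralizer is dihedral of order eight: the order
-/

set_option autoImplicit false
set_option linter.style.haveILetI false
set_option linter.unusedSectionVars false

namespace Cfsg.Agent.Lib.helper3.D8C

open Cfsg Cfsg.Agent.Lib.helper3.Irr Cfsg.Agent.Lib.helper3.CharBasic
open Cfsg.Agent.Lib.helper3.IndFun Cfsg.Agent.Lib.helper3.Central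
open DihedralGroup
open scoped ComplexConjugate
open Classical

theorem arith1 (m d : ℕ) (hm : Odd m) (hd : 0 < d)
    (h : m * (d + 2) ^ 2 = 32 * d * (d + 1)) : m = 21 := by
  have hdvd : ((d : ℤ) + 2) ∣ 64 := by
    refine ⟨(m : ℤ) * (d + 2) - 32 * (d + 2) + 96, ?_⟩
    have h' : (m : ℤ) * ((d : ℤ) + 2) ^ 2 = 32 * d * (d + 1) := by exact_mod_cast h
    linear_combination -h'
  have hle : (d : ℤ) + 2 ≤ 64 := Int.le_of_dvd (by norm_num) hdvd
  have hd' : d ≤ 62 := by omega
  obtain ⟨j, rfl⟩ := hm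
  interval_cases d <;> omega

theorem arith2 (m d : ℕ) (hm : Odd m) (hd : 0 < d)
    (h : (m : ℤ) * ((d : ℤ) - 1) ^ 2 = 32 * d * (d + 1)) : m = 45 := by
  have hdvd : ((d : ℤ) - 1) ∣ 64 := by
    refine ⟨(m : ℤ) * (d - 1) - 32 * (d - 1) - 96, ?_⟩
    linear_combination -h
  have hne : (d : ℤ) - 1 ≠ 0 := by
    intro h0
    rw [h0] at h
    have : (0 : ℤ) < 32 * d * (d + 1) := by positivity
    linarith
  have hle : (d : ℤ) - 1 ≤ 64 := Int.le_of_dvd (by norm_num) hdvd
  have hd' : d ≤ 65 := by omega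
  obtain ⟨j, rfl⟩ := hm
  interval_cases d <;> omega

variable {G : Type*} [Group G] [Fintype G] (t : G)
  (e : ↥(Subgroup.centralizer ({t} : Set G)) ≃* DihedralGroup 4)

include e in
/-- Squares of the values at the involution of three distinct irreducible characters. -/
theorem sq_sum_le (ht : orderOf t = 2) (a b c : IrrCharacter G) (hab : a ≠ b) (hac : a ≠ c)
    (hbc : b ≠ c) (na nb nc : ℤ) (ha : (a : G → ℂ) t = na) (hb : (b : G → ℂ) t = nb)
    (hc : (c : G → ℂ) t = nc) : na ^ 2 + nb ^ 2 + nc ^ 2 ≤ 8 := by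
  have hex : ∀ ξ : IrrCharacter G, ∃ n : ℤ, (ξ : G → ℂ) t = (n : ℂ) := fun ξ => by
    obtain ⟨n, hn, -⟩ := Cfsg.Agent.Lib.helper3.GalFix.exists_int_apply_involution ξ t ht
    exact ⟨n, hn⟩
  choose n hn using hex
  have hcol := (column_orthogonality t t).1 (IsConj.refl t)
  rw [card_cent t e] at hcol
  push_cast at hcol
  have hsum : ∑ ξ : IrrCharacter G, (n ξ) ^ 2 = 8 := by
    have : ((∑ ξ : IrrCharacter G, (n ξ) ^ 2 : ℤ) : ℂ) = ((8 : ℤ) : ℂ) := by
      push_cast
      rw [← hcol]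
      apply Finset.sum_congr rfl
      intro ξ _
      rw [hn ξ, map_intCast]
      ring
    exact_mod_cast this
  have hna : n a = na := by
    have := hn a
    rw [ha] at this
    exact_mod_cast this.symm
  have hnb : n b = nb := by
    have := hn b
    rw [hb] at this
    exact_mod_cast this.symm
  have hnc : n c = nc := by
    have := hn c
    rw [hc] at this
    exact_mod_cast this.symm
  have h1 := Finset.add_sum_erase Finset.univ (fun ξ => (n ξ) ^ 2) (Finset.mem_univ a)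
  have hb1 : b ∈ Finset.univ.erase a := Finset.mem_erase.mpr ⟨hab.symm, Finset.mem_univ b⟩
  have h2 := Finset.add_sum_erase (Finset.univ.erase a) (fun ξ => (n ξ) ^ 2) hb1
  have hc1 : c ∈ (Finset.univ.erase a).erase b :=
    Finset.mem_erase.mpr ⟨hbc.symm, Finset.mem_erase.mpr ⟨hac.symm, Finset.mem_univ c⟩⟩
  have h3 := Finset.add_sum_erase ((Finset.univ.erase a).erase b) (fun ξ => (n ξ) ^ 2) hc1
  have h4 : 0 ≤ ∑ ξ ∈ ((Finset.univ.erase a).erase b).erase c, (n ξ) ^ 2 :=
    Finset.sum_nonneg (fun ξ _ => sq_nonneg _)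
  beta_reduce at h1 h2 h3
  rw [hna] at h1
  rw [hnb] at h2
  rw [hnc] at h3
  linarith

include e in
/-- The order of a perfect group with an involution whose centralizer is dihedral of order 8. -/
theorem order_eq (hperf : commutator G = ⊤) (ht : orderOf t = 2) :
    Nat.card G = 168 ∨ Nat.card G = 360 := by
  obtain ⟨χ₁, χ₂, hχ₁, hχ₂, h11, h21, hdeg, hval, hn⟩ := exists_chars t e ht
  obtain ⟨m, hmodd, hm⟩ := card_eq t e ht
  obtain ⟨d, hd0, hd⟩ := exists_pos_nat_apply_one hχ₂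
  have hd1 : χ₁ 1 = (d : ℂ) + 1 := by rw [hdeg, hd]
  obtain ⟨p, hp, -⟩ := Cfsg.Agent.Lib.helper3.GalFix.exists_int_apply_involution ⟨χ₂, hχ₂⟩ t ht
  obtain ⟨q, hq, -⟩ := Cfsg.Agent.Lib.helper3.GalFix.exists_int_apply_involution ⟨χ₁, hχ₁⟩ t ht
  simp only at hp hq
  have hpq : p - q = 3 := by
    have : ((p - q : ℤ) : ℂ) = ((3 : ℤ) : ℂ) := by
      push_cast
      rw [← hp, ← hq]
      linear_combination hval
    exact_mod_cast this
  have h12 : (⟨χ₁, hχ₁⟩ : IrrCharacter G) ≠ ⟨χ₂, hχ₂⟩ := by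
    intro h
    have h' : χ₁ = χ₂ := congrArg Subtype.val h
    rw [h'] at hdeg
    have : (0 : ℂ) = 1 := by linear_combination hdeg
    norm_num at this
  have hle := sq_sum_le t e ht ⟨fun _ => 1, isIrrCharacter_one⟩ ⟨χ₂, hχ₂⟩ ⟨χ₁, hχ₁⟩
    (fun h => h21 (congrArg Subtype.val h).symm) (fun h => h11 (congrArg Subtype.val h).symm)
    h12.symm 1 p q (by simp) hp hq
  have hkey := key_identity t e hperf ht ⟨χ₁, hχ₁⟩ ⟨χ₂, hχ₂⟩ hn
  simp only at hkey
  rw [hp, hq, hd, hd1] at hkey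
  have hdne : (d : ℂ) ≠ 0 := by
    have : d ≠ 0 := hd0.ne'
    exact_mod_cast this
  have hdne1 : (d : ℂ) + 1 ≠ 0 := by
    have : ((d + 1 : ℕ) : ℂ) ≠ 0 := by exact_mod_cast Nat.succ_ne_zero d
    simpa using this
  have hkey2 : (Nat.card G : ℂ) * ((d : ℂ) * (d + 1) + (p : ℂ) ^ 2 * (d + 1) - (q : ℂ) ^ 2 * d)
      = 256 * (d * (d + 1)) := by
    rw [← hkey]
    field_simp
  have hkey3 : (Nat.card G : ℤ) * ((d : ℤ) * (d + 1) + p ^ 2 * (d + 1) - q ^ 2 * d)
      = 256 * (d * (d + 1)) := by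
    exact_mod_cast hkey2
  have hp12 : p = 2 ∨ p = 1 := by
    have hq' : q = p - 3 := by omega
    rw [hq'] at hle
    have h1 : 1 ≤ p := by nlinarith
    have h2 : p ≤ 2 := by nlinarith
    omega
  rw [hm] at hkey3 ⊢
  rcases hp12 with rfl | rfl
  · have hq' : q = -1 := by omega
    rw [hq'] at hkey3
    have : m = 21 := by
      apply arith1 m d hmodd hd0
      have : (m : ℤ) * ((d : ℤ) + 2) ^ 2 = 32 * d * (d + 1) := by
        push_cast at hkey3
        have h8 : (8 : ℤ) * ((m : ℤ) * ((d : ℤ) + 2) ^ 2) = 8 * (32 * d * (d + 1)) := by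
          linear_combination hkey3
        exact mul_left_cancel₀ (by norm_num) h8
      exact_mod_cast this
    left
    omega
  · have hq' : q = -2 := by omega
    rw [hq'] at hkey3
    have : m = 45 := by
      apply arith2 m d hmodd hd0
      push_cast at hkey3
      have h8 : (8 : ℤ) * ((m : ℤ) * ((d : ℤ) - 1) ^ 2) = 8 * (32 * d * (d + 1)) := by
        linear_combination hkey3
      exact mul_left_cancel₀ (by norm_num) h8
    right
    omega

end Cfsg.Agent.Lib.helper3.D8C
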