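import Mathlib
import Cfsg.Agent.Lib.helper3.CentralDefect3
import Cfsg.Agent.Lib.helper3.Irr11

/-!
# Characters agreeing on the `p`-regular elements

If `O` is a set of irreducible characters all agreeing with `χ` on the `p`-regular elements and
having the same sum over a Sylow `p`-subgroup, then the `p`-part of `|O| · χ(1)` is at most the
`p`-part of `|G|`, with equality only when `p^a ∣ χ(1)`.
-/

set_option autoImplicit false
set_option linter.style.haveILetI false

namespace Cfsg.Agent.Lib.helper3.PConj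

open Cfsg Cfsg.Agent.Lib.helper3.Irr Cfsg.Agent.Lib.helper3.IndFun Cfsg.Agent.Lib.helper3.Block
open Cfsg.Agent.Lib.helper3.CharBasic Cfsg.Agent.Lib.helper3.Lin Cfsg.Agent.Lib.helper3.HallNilp
open scoped ComplexConjugate

universe u

variable {G : Type u} [Group G] [Fintype G]

/-- The restriction of a function to the `p`-regular elements, extended by zero. -/
noncomputable def regPart (p : ℕ) (χ : G → ℂ) : G → ℂ :=
  fun g => if p ∣ orderOf g then 0 else χ g

theorem regPart_classFunction (p : ℕ) {χ : G → ℂ} (hχ : IsClassFunction G χ) :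
    IsClassFunction G (regPart p χ) := by
  intro g h
  unfold regPart
  rw [orderOf_conj', hχ g h]

theorem classInner_regPart (p : ℕ) (χ ψ : G → ℂ) :
    classInner (regPart p χ) ψ = (Nat.card G : ℂ)⁻¹ * regPair p χ ψ := by
  rw [classInner_apply]
  unfold regPart regPair
  congr 1
  apply Finset.sum_congr rfl
  intro g _
  by_cases h : p ∣ orderOf g
  · rw [if_pos h, if_pos h, zero_mul]
  · rw [if_neg h, if_neg h]

/-- Parseval for class functions. -/
theorem classInner_self_eq_sum (f : G → ℂ) (hf : IsClassFunction G f) :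
    classInner f f = ∑ ψ : IrrCharacter G,
      classInner f (ψ : G → ℂ) * conj (classInner f (ψ : G → ℂ)) := by
  conv_lhs => rw [classFunction_eq_sum f hf]
  rw [classInner_decomposition]

theorem regPair_regPart_right (p : ℕ) (χ ψ : G → ℂ) :
    regPair p χ (regPart p ψ) = regPair p χ ψ := by
  unfold regPair regPart
  apply Finset.sum_congr rfl
  intro g _
  by_cases h : p ∣ orderOf g
  · rw [if_pos h, if_pos h]
  · rw [if_neg h, if_neg h, if_neg h]


/-- **Characters agreeing on the `p`-regular elements.** -/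
theorem pconj_bound (p : ℕ) [hp : Fact p.Prime] (χ : IrrCharacter G)
    (O : Finset (IrrCharacter G)) (hχO : χ ∈ O)
    (hreg : ∀ ψ ∈ O, ∀ g : G, ¬ p ∣ orderOf g → (ψ : G → ℂ) g = (χ : G → ℂ) g)
    (P : Sylow p G) [Fintype (P : Subgroup G)]
    (hP : ∀ ψ ∈ O, ∑ x : (P : Subgroup G), (ψ : G → ℂ) x
      = ∑ x : (P : Subgroup G), (χ : G → ℂ) x)
    (deg : ℕ) (hdeg : (χ : G → ℂ) 1 = deg) :
    (O.card * deg).factorization p ≤ (Nat.card G).factorization p ∧
      (p ^ (Nat.card G).factorization p ∣ O.card * deg →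
        p ^ (Nat.card G).factorization p ∣ deg) := by
  classical
  obtain ⟨a, ha⟩ : ∃ a, a = (Nat.card G).factorization p := ⟨_, rfl⟩
  obtain ⟨n', hn'⟩ : ∃ n' : ℕ, n' = ordCompl[p] (Nat.card G) := ⟨_, rfl⟩
  have hG0 : Nat.card G ≠ 0 := Nat.card_pos.ne'
  have hcard : Nat.card G = p ^ a * n' := by
    rw [ha, hn']; exact (Nat.ordProj_mul_ordCompl_eq_self _ p).symm
  have hn'pos : 0 < n' := by rw [hn']; exact Nat.ordCompl_pos p hG0
  have hcop : Nat.Coprime p n' := by rw [hn']; exact Nat.coprime_ordCompl hp.out hG0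
  have hχc := isCharacter_of_isIrrCharacter χ.2
  have hχcf := isClassFunction_of_isCharacter hχc
  have hn'C : (n' : ℂ) ≠ 0 := by exact_mod_cast hn'pos.ne'
  have hpC : ((p : ℂ) ^ a) ≠ 0 := by
    have : (p : ℂ) ≠ 0 := by exact_mod_cast hp.out.ne_zero
    exact pow_ne_zero _ this
  have hGC : (Nat.card G : ℂ) = (p : ℂ) ^ a * n' := by rw [hcard]; push_cast; ring
  -- the integers `k ψ`
  have hk : ∀ ψ : IrrCharacter G, ∃ k : ℤ,
      regPair p (χ : G → ℂ) (ψ : G → ℂ) = (n' : ℂ) * k := by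
    intro ψ; rw [hn']; exact regPair_eq_ordCompl_mul p hχc ψ
  choose k hk using hk
  -- Parseval
  have hpars : ∑ ψ : IrrCharacter G, (k ψ) ^ 2 = (p : ℤ) ^ a * k χ := by
    have h1 := classInner_self_eq_sum (regPart p (χ : G → ℂ)) (regPart_classFunction p hχcf)
    rw [classInner_regPart, regPair_regPart_right, hk χ] at h1
    have h2 : ∀ ψ : IrrCharacter G, classInner (regPart p (χ : G → ℂ)) (ψ : G → ℂ)
        * conj (classInner (regPart p (χ : G → ℂ)) (ψ : G → ℂ))
        = ((Nat.card G : ℂ)⁻¹ * n') ^ 2 * (((k ψ) ^ 2 : ℤ) : ℂ) := by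
      intro ψ
      rw [classInner_regPart, hk ψ]
      simp only [map_mul, map_inv₀, map_natCast, map_intCast]
      push_cast
      ring
    rw [Finset.sum_congr rfl (fun ψ _ => h2 ψ), ← Finset.mul_sum, hGC] at h1
    apply Int.cast_injective (α := ℂ)
    push_cast
    push_cast at h1
    field_simp at h1
    linear_combination -h1
  -- positivity
  have hkχpos : 0 < k χ := by
    have h1 := hk χ
    rw [regPair_self] at h1
    have h2 := regNorm_pos p χ
    have h3 : (regNorm p (χ : G → ℂ) : ℝ) = (n' : ℝ) * (k χ : ℝ) := by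
      have : ((regNorm p (χ : G → ℂ) : ℝ) : ℂ) = (((n' : ℝ) * (k χ : ℝ) : ℝ) : ℂ) := by
        rw [h1]; push_cast; ring
      exact_mod_cast this
    rw [h3] at h2
    have h4 : (0 : ℝ) < (n' : ℝ) := by exact_mod_cast hn'pos
    have h5 : (0 : ℝ) < (k χ : ℝ) := by
      by_contra hneg
      push Not at hneg
      nlinarith
    exact_mod_cast h5
  have hkO : ∀ ψ ∈ O, k ψ = k χ := by
    intro ψ hψ
    have h1 : regPair p (χ : G → ℂ) (ψ : G → ℂ) = regPair p (χ : G → ℂ) (χ : G → ℂ) := by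
      unfold regPair
      apply Finset.sum_congr rfl
      intro g _
      by_cases h : p ∣ orderOf g
      · rw [if_pos h, if_pos h]
      · rw [if_neg h, if_neg h, hreg ψ hψ g h]
    rw [hk ψ, hk χ] at h1
    exact_mod_cast mul_left_cancel₀ hn'C h1
  have hsumO : ∑ ψ ∈ O, (k ψ) ^ 2 = (O.card : ℤ) * (k χ) ^ 2 := by
    rw [Finset.sum_congr rfl (fun ψ hψ => by rw [hkO ψ hψ]), Finset.sum_const, nsmul_eq_mul]
  have hle : (O.card : ℤ) * k χ ≤ (p : ℤ) ^ a := by
    have h1 : ∑ ψ ∈ O, (k ψ) ^ 2 ≤ ∑ ψ : IrrCharacter G, (k ψ) ^ 2 :=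
      Finset.sum_le_univ_sum_of_nonneg (fun ψ => sq_nonneg _)
    rw [hsumO, hpars] at h1
    have h2 : (O.card : ℤ) * k χ * k χ ≤ (p : ℤ) ^ a * k χ := by
      calc (O.card : ℤ) * k χ * k χ = (O.card : ℤ) * (k χ) ^ 2 := by ring
        _ ≤ _ := h1
    exact le_of_mul_le_mul_right h2 hkχpos
  -- `p^e ∣ k χ`
  have hdegpos : 0 < deg := by
    have h1 := apply_one_ne_zero χ.2
    rw [hdeg] at h1
    exact Nat.pos_of_ne_zero (fun h0 => h1 (by rw [h0, Nat.cast_zero]))
  have hdvd : (deg : ℤ) ∣ (n' : ℤ) * k χ :=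
    degree_dvd_of_regPair p χ hχc deg hdeg hdegpos ((n' : ℤ) * k χ) (by rw [hk χ]; push_cast; rfl)
  obtain ⟨e, he⟩ : ∃ e, e = deg.factorization p := ⟨_, rfl⟩
  have hpe : ((p : ℤ) ^ e) ∣ k χ := by
    have h0 : ((p ^ e : ℕ) : ℤ) ∣ (deg : ℤ) := by
      rw [he]; exact_mod_cast Nat.ordProj_dvd deg p
    have h1 : ((p : ℤ) ^ e) ∣ (n' : ℤ) * k χ := by
      refine dvd_trans ?_ hdvd
      exact_mod_cast h0
    have hcop' : IsCoprime ((p : ℤ) ^ e) (n' : ℤ) := by
      have : IsCoprime (((p ^ e : ℕ) : ℤ)) (n' : ℤ) :=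
        Nat.isCoprime_iff_coprime.mpr (Nat.Coprime.pow_left e hcop)
      exact_mod_cast this
    exact hcop'.dvd_of_dvd_mul_left h1
  have hpe_le : ((p : ℤ) ^ e) ≤ k χ := Int.le_of_dvd hkχpos hpe
  have hrpos : 0 < O.card := Finset.card_pos.mpr ⟨χ, hχO⟩
  obtain ⟨s, hs⟩ : ∃ s, s = O.card.factorization p := ⟨_, rfl⟩
  have hps : p ^ s ≤ O.card := Nat.le_of_dvd hrpos (hs ▸ Nat.ordProj_dvd _ _)
  have hfac : (O.card * deg).factorization p = s + e := by
    rw [Nat.factorization_mul hrpos.ne' hdegpos.ne', hs, he]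
    rfl
  have hp0 : (0 : ℤ) ≤ (p : ℤ) := Int.natCast_nonneg _
  have hlow : ((p : ℤ) ^ s) * ((p : ℤ) ^ e) ≤ (O.card : ℤ) * k χ := by
    apply mul_le_mul _ hpe_le (pow_nonneg hp0 _) (Int.natCast_nonneg _)
    exact_mod_cast hps
  have hmain : p ^ (s + e) ≤ p ^ a := by
    have h1 : ((p : ℤ) ^ s) * ((p : ℤ) ^ e) ≤ (p : ℤ) ^ a := le_trans hlow hle
    rw [pow_add]
    exact_mod_cast h1
  have hsea : s + e ≤ a := (Nat.pow_le_pow_iff_right hp.out.one_lt).mp hmain
  refine ⟨by rw [hfac, ← ha]; exact hsea, ?_⟩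
  intro hdiv
  rw [← ha] at hdiv ⊢
  have hase : a ≤ s + e := by
    rw [← hfac]
    exact (hp.out.pow_dvd_iff_le_factorization (mul_ne_zero hrpos.ne' hdegpos.ne')).mp hdiv
  have hEq : s + e = a := le_antisymm hsea hase
  have hrk : (O.card : ℤ) * k χ = (p : ℤ) ^ a := by
    apply le_antisymm hle
    rw [← hEq, pow_add]
    exact hlow
  -- all others vanish
  have hzero : ∀ ψ, ψ ∉ O → k ψ = 0 := by
    have h1 : ∑ ψ ∈ Oᶜ, (k ψ) ^ 2 = 0 := by
      have h2 := Finset.sum_add_sum_compl O (fun ψ => (k ψ) ^ 2)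
      rw [hpars, hsumO] at h2
      have h3 : (O.card : ℤ) * (k χ) ^ 2 = (p : ℤ) ^ a * k χ := by
        rw [← hrk]; ring
      linarith
    intro ψ hψ
    have h2 := (Finset.sum_eq_zero_iff_of_nonneg (fun ψ _ => sq_nonneg (k ψ))).mp h1 ψ
      (Finset.mem_compl.mpr hψ)
    exact pow_eq_zero_iff (two_ne_zero) |>.mp h2
  -- decomposition of the regular part
  have hdec : regPart p (χ : G → ℂ) = ∑ ψ ∈ O, ((k χ : ℂ) / (p : ℂ) ^ a) • (ψ : G → ℂ) := by
    conv_lhs => rw [classFunction_eq_sum (regPart p (χ : G → ℂ)) (regPart_classFunction p hχcf)]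
    rw [← Finset.sum_subset (Finset.subset_univ O)]
    · apply Finset.sum_congr rfl
      intro ψ hψ
      rw [classInner_regPart, hk ψ, hkO ψ hψ, hGC]
      congr 1
      field_simp
    · intro ψ _ hψ
      rw [classInner_regPart, hk ψ, hzero ψ hψ]
      simp
  -- the sum over the Sylow subgroup
  have hPcard : Nat.card (P : Subgroup G) = p ^ a := by rw [ha]; exact Sylow.card_eq_multiplicity P
  have hsumP : ∑ x : (P : Subgroup G), regPart p (χ : G → ℂ) x = (deg : ℂ) := by
    rw [Finset.sum_eq_single (1 : (P : Subgroup G))]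
    · unfold regPart
      rw [if_neg]
      · simpa using hdeg
      · simp only [Subgroup.coe_one, orderOf_one]
        exact hp.out.not_dvd_one
    · intro x _ hx
      unfold regPart
      rw [if_pos]
      obtain ⟨j, hj⟩ := (IsPGroup.iff_orderOf.mp P.isPGroup') x
      have hxo : orderOf (x : G) = p ^ j := by rw [Subgroup.orderOf_coe, hj]
      rw [hxo]
      have hj0 : j ≠ 0 := by
        intro h0
        rw [h0, pow_zero, orderOf_eq_one_iff] at hj
        exact hx hj
      exact dvd_pow_self p hj0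
    · intro h; exact absurd (Finset.mem_univ _) h
  obtain ⟨n, hn⟩ := exists_nat_classInner_of_isCharacter (isCharacter_restrict hχc (P : Subgroup G))
    ⟨fun _ => 1, isIrrCharacter_one⟩
  have hsumχ : ∑ x : (P : Subgroup G), (χ : G → ℂ) x = (p : ℂ) ^ a * n := by
    rw [classInner_apply, hPcard] at hn
    simp only [map_one, mul_one] at hn
    push_cast at hn
    rw [← hn]
    field_simp
  have hfinal : (deg : ℂ) = (((p ^ a * n : ℕ)) : ℂ) := by
    rw [← hsumP, hdec]
    simp only [Finset.sum_apply, Pi.smul_apply, smul_eq_mul]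
    rw [Finset.sum_comm]
    have h1 : ∀ ψ ∈ O, ∑ x : (P : Subgroup G), (k χ : ℂ) / (p : ℂ) ^ a * (ψ : G → ℂ) x
        = (k χ : ℂ) * n := by
      intro ψ hψ
      rw [← Finset.mul_sum, hP ψ hψ, hsumχ]
      field_simp
    rw [Finset.sum_congr rfl h1, Finset.sum_const, nsmul_eq_mul, ← mul_assoc]
    have h2 : ((O.card : ℂ)) * (k χ : ℂ) = (p : ℂ) ^ a := by exact_mod_cast hrk
    rw [h2]
    push_cast
    ring
  exact ⟨n, by exact_mod_cast hfinal⟩


/-- A field automorphism fixing a primitive `m`-th root of unity fixes the values of a character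
at elements of order dividing `m`. -/
theorem apply_fixed_of_orderOf_dvd {χ : G → ℂ} (hχ : IsCharacter G χ) (σ : ℂ ≃+* ℂ) (m : ℕ)
    (hm : m ≠ 0)
    (hσ : σ (Complex.exp (2 * Real.pi * Complex.I / (m : ℂ)))
      = Complex.exp (2 * Real.pi * Complex.I / (m : ℂ)))
    (g : G) (hg : orderOf g ∣ m) : σ (χ g) = χ g := by
  obtain ⟨n, ρ, rfl⟩ := hχ
  obtain ⟨I, _, v, μ, hf, hμ⟩ := exists_eigenbasis ρ g
  rw [character_eq_sum_of_eigenbasis ρ g v μ hf, map_sum]
  apply Finset.sum_congr rfl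
  intro i _
  have hprim : IsPrimitiveRoot (Complex.exp (2 * Real.pi * Complex.I / (m : ℂ))) m :=
    Complex.isPrimitiveRoot_exp m hm
  have hμm : μ i ^ m = 1 := by
    obtain ⟨c, hc⟩ := hg
    rw [hc, pow_mul, hμ i, one_pow]
  haveI : NeZero m := ⟨hm⟩
  obtain ⟨j, -, hj⟩ := hprim.eq_pow_of_pow_eq_one hμm
  rw [← hj, map_pow, hσ]

/-- The sum of a character over a subgroup is a natural number. -/
theorem exists_nat_sum_subgroup {χ : G → ℂ} (hχ : IsCharacter G χ) (H : Subgroup G)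
    [Fintype H] : ∃ m : ℕ, ∑ x : H, χ x = (m : ℂ) := by
  obtain ⟨n, hn⟩ := exists_nat_classInner_of_isCharacter (isCharacter_restrict hχ H)
    ⟨fun _ => 1, isIrrCharacter_one⟩
  rw [classInner_apply] at hn
  simp only [map_one, mul_one] at hn
  refine ⟨Nat.card H * n, ?_⟩
  have hH : (Nat.card H : ℂ) ≠ 0 := card_ne_zero_complex H
  push_cast
  rw [← hn]
  field_simp

end Cfsg.Agent.Lib.helper3.PConj
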