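import Mathlib
import Cfsg.Prelude.Def_Blocks
import Cfsg.Agent.Lib.helper3.ColRel1
import Cfsg.Agent.Lib.helper3.RankOne2

/-!
# Inner products of columns for the principal block: the block sums at pairs of `p`-elements
-/

set_option autoImplicit false
set_option linter.style.haveILetI false
set_option linter.unusedSectionVars false

namespace Cfsg.Agent.Lib.helper3.Block

open Cfsg Module Cfsg.Agent.Lib.helper3.CharBasic Cfsg.Agent.Lib.helper3.Irr
open Cfsg.Agent.Lib.helper3.Central Cfsg.Agent.Lib.helper3.LocalM Cfsg.Agent.Lib.helper3.IndFun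
open Cfsg.Agent.Lib.helper3.Lin Cfsg.Agent.Lib.helper3.HallNilp
open scoped ComplexConjugate

universe u

variable {G : Type u} [Group G] [Fintype G] {M : Ideal AlgInt}

open Classical in
/-- The fibres of conjugation by the elements of a subgroup. -/
theorem card_conj_fiber (N : Subgroup G) [Fintype N] (y y' : G) :
    (Finset.univ.filter (fun x : N => (x : G) * y * (x : G)⁻¹ = y')).card
      = if ∃ n ∈ N, n * y * n⁻¹ = y' then
          Nat.card ↥(N ⊓ Subgroup.centralizer ({y} : Set G)) else 0 := by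
  split_ifs with h
  · obtain ⟨n, hn, hny⟩ := h
    rw [← Fintype.card_subtype, ← Nat.card_eq_fintype_card]
    apply Nat.card_congr
    refine ⟨fun x => ⟨n⁻¹ * ((x : N) : G), ?_⟩, fun c => ⟨⟨n * (c : G), ?_⟩, ?_⟩, ?_, ?_⟩
    · obtain ⟨x, hx⟩ := x
      refine Subgroup.mem_inf.2 ⟨N.mul_mem (N.inv_mem hn) x.2, ?_⟩
      rw [Subgroup.mem_centralizer_singleton_iff]
      have h1 : (x : G) * y * (x : G)⁻¹ = n * y * n⁻¹ := hx.trans hny.symm
      have h2 : (x : G) * y = n * y * n⁻¹ * (x : G) := by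
        rw [← h1]
        group
      calc n⁻¹ * (x : G) * y = n⁻¹ * ((x : G) * y) := by group
        _ = n⁻¹ * (n * y * n⁻¹ * (x : G)) := by rw [h2]
        _ = y * (n⁻¹ * (x : G)) := by group
    · exact N.mul_mem hn (Subgroup.mem_inf.1 c.2).1
    · have hc := Subgroup.mem_centralizer_singleton_iff.1 (Subgroup.mem_inf.1 c.2).2
      show n * (c : G) * y * (n * (c : G))⁻¹ = y'
      rw [← hny]
      calc n * (c : G) * y * (n * (c : G))⁻¹ = n * ((c : G) * y) * (c : G)⁻¹ * n⁻¹ := by group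
        _ = n * (y * (c : G)) * (c : G)⁻¹ * n⁻¹ := by rw [hc]
        _ = n * y * n⁻¹ := by group
    · intro x
      apply Subtype.ext
      apply Subtype.ext
      show n * (n⁻¹ * ((x : N) : G)) = ((x : N) : G)
      group
    · intro c
      apply Subtype.ext
      show n⁻¹ * (n * (c : G)) = (c : G)
      group
  · rw [Finset.card_eq_zero, Finset.filter_eq_empty_iff]
    intro x _ hx
    exact h ⟨x, x.2, hx⟩

open Classical in
/-- The principal block sums at a pair of `p`-elements, one of them in a subset controlling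
fusion. -/
theorem block_pair_value {p : ℕ} [hpf : Fact p.Prime] (hM : IsPModular p M) (P : Subgroup G)
    (hP : IsPGroup p P) (N : Subgroup G) (U : Set G) (hUP : U ⊆ (P : Set G))
    (hfus : ∀ u ∈ U, ∀ g : G, g * u * g⁻¹ ∈ (P : Set G) → ∃ n ∈ N, n * u * n⁻¹ = g * u * g⁻¹)
    (w : ℚ)
    (hw : ∀ y ∈ U, ((∑ᶠ ψ ∈ principalBlock M ↥(Subgroup.centralizer ({y} : Set G)),
      (charDegree (ψ : ↥(Subgroup.centralizer ({y} : Set G)) → ℂ) : ℚ) ^ 2) : ℚ)
        = w * Nat.card ↥(N ⊓ Subgroup.centralizer ({y} : Set G)))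
    (y : G) (hy : y ∈ U) (y' : G) (hy' : y' ∈ P) :
    ∑ χ : IrrCharacter G, (if χ ∈ principalBlock M G then (1 : ℂ) else 0)
        * ((χ : G → ℂ) y' * conj ((χ : G → ℂ) y))
      = if ∃ n ∈ N, n * y * n⁻¹ = y' then
          (w : ℂ) * (Nat.card ↥(N ⊓ Subgroup.centralizer ({y} : Set G)) : ℂ) else 0 := by
  have hp : p.Prime := hpf.out
  have hBG : IsPBlock M (principalBlock M G) := ⟨Cfsg.Agent.Lib.helper3.PrincOnly.one G, rfl⟩
  have hreg1 : ¬ p ∣ orderOf (1 : G) := by
    rw [orderOf_one]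
    exact fun h => hp.one_lt.ne' (Nat.dvd_one.1 h)
  have hord : ∀ z : G, z ∈ P → ∃ k : ℕ, orderOf z = p ^ k := by
    intro z hz
    obtain ⟨k, hk⟩ := (IsPGroup.iff_orderOf.1 hP) ⟨z, hz⟩
    exact ⟨k, by rw [← hk, Subgroup.orderOf_mk]⟩
  obtain ⟨k, hk⟩ := hord y (hUP hy)
  obtain ⟨k', hk'⟩ := hord y' hy'
  split_ifs with h
  · obtain ⟨n, hn, hny⟩ := h
    have hcl : ∀ χ : IrrCharacter G, (χ : G → ℂ) y' = (χ : G → ℂ) y := by
      intro χ
      rw [← hny]
      exact isClassFunction_of_isCharacter (isCharacter_of_isIrrCharacter χ.2) y n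
    rw [Finset.sum_congr rfl (fun χ _ => by rw [hcl χ])]
    haveI : Fintype (Subgroup.centralizer ({y} : Set G)) := Fintype.ofFinite _
    have hsec := sum_principal_section_sq hM y k hk (1 : Subgroup.centralizer ({y} : Set G))
      (by rw [orderOf_one]; exact fun h => hp.one_lt.ne' (Nat.dvd_one.1 h))
    rw [Subgroup.coe_one, mul_one] at hsec
    rw [hsec]
    have hw' := hw y hy
    rw [finsum_mem_eq_sum_filter_irr] at hw'
    have hcast := congrArg (fun q : ℚ => (q : ℂ)) hw'
    push_cast at hcast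
    rw [← hcast, Finset.sum_filter]
    apply Finset.sum_congr rfl
    intro ψ _
    by_cases hψ : ψ ∈ principalBlock M ↥(Subgroup.centralizer ({y} : Set G))
    · rw [if_pos hψ, if_pos hψ, one_mul, apply_one_eq_charDegree, Complex.conj_natCast, pow_two]
    · rw [if_neg hψ, if_neg hψ, zero_mul]
  · have hnc : ¬ IsConj y' y := by
      intro hc
      obtain ⟨g, hg⟩ := isConj_iff.1 hc.symm
      obtain ⟨n, hn, hny⟩ := hfus y hy g (by rw [hg]; exact hy')
      exact h ⟨n, hn, hny.trans hg⟩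
    have h3 := block_orthogonality hM (principalBlock M G) hBG y' y y' y
      ⟨1, mul_one _, Commute.one_right _, ⟨k', hk'⟩, hreg1⟩
      ⟨1, mul_one _, Commute.one_right _, ⟨k, hk⟩, hreg1⟩ hnc
    refine Eq.trans (Finset.sum_congr rfl ?_) h3
    intro χ _
    rw [isCharacter_apply_inv (isCharacter_of_isIrrCharacter χ.2) y]

end Cfsg.Agent.Lib.helper3.Block
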