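import Mathlib
import Cfsg.Prelude.Def_Blocks
import Cfsg.Agent.Lib.helper3.ColInner1

/-!
# Inner products of columns for the principal block
-/

set_option autoImplicit false
set_option linter.style.haveILetI false
set_option linter.unusedSectionVars false

namespace Cfsg.Agent.Lib.helper3.Block

open Cfsg Module Cfsg.Agent.Lib.helper3.CharBasic Cfsg.Agent.Lib.helper3.Irr
open Cfsg.Agent.Lib.helper3.Central Cfsg.Agent.Lib.helper3.LocalM Cfsg.Agent.Lib.helper3.IndFun
open Cfsg.Agent.Lib.helper3.Lin Cfsg.Agent.Lib.helper3.HallNilp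
open scoped ComplexConjugate

universe u

variable {G : Type u} [Group G] [Fintype G] {M : Ideal AlgInt}

open Classical in
/-- The inner product of two columns of the principal block. -/
theorem col_inner_formula {p : ℕ} [hpf : Fact p.Prime] (hM : IsPModular p M) (P : Subgroup G)
    (hP : IsPGroup p P) (N : Subgroup G) (hNN : N ≤ Subgroup.normalizer (P : Set G))
    (U : Set G) (hUP : U ⊆ (P : Set G))
    (hfus : ∀ u ∈ U, ∀ g : G, g * u * g⁻¹ ∈ (P : Set G) → ∃ n ∈ N, n * u * n⁻¹ = g * u * g⁻¹)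
    (w : ℚ)
    (hw : ∀ y ∈ U, ((∑ᶠ ψ ∈ principalBlock M ↥(Subgroup.centralizer ({y} : Set G)),
      (charDegree (ψ : ↥(Subgroup.centralizer ({y} : Set G)) → ℂ) : ℚ) ^ 2) : ℚ)
        = w * Nat.card ↥(N ⊓ Subgroup.centralizer ({y} : Set G)))
    (θ η : P → ℂ) (hθU : ∀ y : P, (y : G) ∉ U → θ y = 0) :
    ∑ᶠ χ ∈ principalBlock M G,
        ((Nat.card P : ℂ)⁻¹ * ∑ᶠ y : P, (χ : G → ℂ) (y : G) * θ y⁻¹)
          * conj ((Nat.card P : ℂ)⁻¹ * ∑ᶠ y : P, (χ : G → ℂ) (y : G) * η y⁻¹)
      = ((w : ℂ) / ((Nat.card P : ℂ) ^ 2)) * ∑ᶠ y : P, θ y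
          * conj (∑ᶠ x : N, extendByZero P η ((x : G) * (y : G) * (x : G)⁻¹)) := by
  haveI : Fintype P := Fintype.ofFinite _
  haveI : Fintype N := Fintype.ofFinite _
  rw [finsum_mem_set_eq_sum_ite]
  simp_rw [finsum_eq_sum_of_fintype]
  -- step 1: the inner sums
  have hA : ∀ (χ : IrrCharacter G) (φ : P → ℂ), ∑ y : P, (χ : G → ℂ) (y : G) * φ y⁻¹
      = ∑ y : P, conj ((χ : G → ℂ) (y : G)) * φ y := by
    intro χ φ
    apply Fintype.sum_equiv (Equiv.inv P)
    intro y
    simp only [Equiv.inv_apply]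
    rw [Subgroup.coe_inv, isCharacter_apply_inv (isCharacter_of_isIrrCharacter χ.2),
      Complex.conj_conj]
  obtain ⟨c, hc⟩ : ∃ c : ℂ, c = (Nat.card P : ℂ)⁻¹ := ⟨_, rfl⟩
  have hcc : conj c = c := by rw [hc, map_inv₀, Complex.conj_natCast]
  rw [← hc]
  obtain ⟨T, hT⟩ : ∃ T : G → G → ℂ, T = fun y' y => ∑ χ : IrrCharacter G,
      (if χ ∈ principalBlock M G then (1 : ℂ) else 0)
        * ((χ : G → ℂ) y' * conj ((χ : G → ℂ) y)) := ⟨_, rfl⟩
  have hterm : ∀ χ : IrrCharacter G, (if χ ∈ principalBlock M G then (1 : ℂ) else 0)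
      * ((c * ∑ y : P, (χ : G → ℂ) (y : G) * θ y⁻¹)
        * conj (c * ∑ y : P, (χ : G → ℂ) (y : G) * η y⁻¹))
      = c ^ 2 * ∑ y : P, ∑ y' : P, θ y * conj (η y')
        * ((if χ ∈ principalBlock M G then (1 : ℂ) else 0)
          * ((χ : G → ℂ) (y' : G) * conj ((χ : G → ℂ) (y : G)))) := by
    intro χ
    rw [hA χ θ, hA χ η, map_mul, hcc, map_sum, mul_mul_mul_comm, Finset.sum_mul_sum, ← pow_two,
      mul_left_comm, Finset.mul_sum]
    congr 1
    apply Finset.sum_congr rfl
    intro y _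
    rw [Finset.mul_sum]
    apply Finset.sum_congr rfl
    intro y' _
    rw [map_mul, Complex.conj_conj]
    ring
  have hL : ∑ χ : IrrCharacter G, (if χ ∈ principalBlock M G then (1 : ℂ) else 0)
      * ((c * ∑ y : P, (χ : G → ℂ) (y : G) * θ y⁻¹)
        * conj (c * ∑ y : P, (χ : G → ℂ) (y : G) * η y⁻¹))
      = c ^ 2 * ∑ y : P, θ y * ∑ y' : P, conj (η y') * T (y' : G) (y : G) := by
    rw [Finset.sum_congr rfl (fun χ _ => hterm χ), ← Finset.mul_sum, Finset.sum_comm]
    congr 1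
    apply Finset.sum_congr rfl
    intro y _
    rw [Finset.sum_comm, Finset.mul_sum]
    apply Finset.sum_congr rfl
    intro y' _
    rw [hT]
    simp only
    rw [Finset.mul_sum, Finset.mul_sum]
    apply Finset.sum_congr rfl
    intro χ _
    ring
  -- step 2: the orbit sums
  have hmem : ∀ (x : N) (y : P), (x : G) * (y : G) * (x : G)⁻¹ ∈ P := by
    intro x y
    exact (Subgroup.mem_normalizer_iff.1 (hNN x.2) (y : G)).1 y.2
  have horb : ∀ y : P, ∑ x : N, extendByZero P η ((x : G) * (y : G) * (x : G)⁻¹)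
      = ∑ y' : P, η y' * ((Finset.univ.filter
          (fun x : N => (x : G) * (y : G) * (x : G)⁻¹ = (y' : G))).card : ℂ) := by
    intro y
    rw [← Finset.sum_fiberwise (Finset.univ : Finset N)
      (fun x : N => (⟨(x : G) * (y : G) * (x : G)⁻¹, hmem x y⟩ : P))]
    apply Finset.sum_congr rfl
    intro y' _
    have hfilt : (Finset.univ.filter
        (fun x : N => (⟨(x : G) * (y : G) * (x : G)⁻¹, hmem x y⟩ : P) = y'))
        = Finset.univ.filter (fun x : N => (x : G) * (y : G) * (x : G)⁻¹ = (y' : G)) := by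
      apply Finset.filter_congr
      intro x _
      exact Subtype.ext_iff
    rw [hfilt, mul_comm, ← nsmul_eq_mul, ← Finset.sum_const]
    apply Finset.sum_congr rfl
    intro x hx
    rw [Finset.mem_filter] at hx
    rw [extendByZero_mem P η (hmem x y)]
    congr 1
    exact Subtype.ext hx.2
  have hyid : ∀ y : P, θ y * ∑ y' : P, conj (η y') * T (y' : G) (y : G)
      = θ y * ((w : ℂ) * conj (∑ x : N, extendByZero P η ((x : G) * (y : G) * (x : G)⁻¹))) := by
    intro y
    by_cases hyU : (y : G) ∈ U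
    · congr 1
      rw [horb y, map_sum, Finset.mul_sum]
      apply Finset.sum_congr rfl
      intro y' _
      rw [hT]
      simp only
      rw [block_pair_value hM P hP N U hUP hfus w hw (y : G) hyU (y' : G) y'.2, map_mul,
        Complex.conj_natCast, card_conj_fiber]
      split_ifs with h
      · ring
      · simp
    · rw [hθU y hyU, zero_mul, zero_mul]
  rw [hL, Finset.sum_congr rfl (fun y _ => hyid y), Finset.mul_sum, Finset.mul_sum]
  apply Finset.sum_congr rfl
  intro y _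
  rw [hc]
  ring

end Cfsg.Agent.Lib.helper3.Block
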