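import Mathlib
import Cfsg.Prelude.Def_Blocks
import Cfsg.Prelude.Def_BlockRank
import Cfsg.Prelude.Def_Transfer
import Cfsg.Agent.Lib.helper3.KleinOne2
import Cfsg.Agent.Lib.helper3.RankOne4
import Cfsg.Agent.Lib.helper3.ColInner2

/-!
# Abelian Sylow subgroups with a Frobenius-like normalizer: the centralizers of `p`-elements
-/

set_option autoImplicit false
set_option linter.style.haveILetI false
set_option linter.unusedSectionVars false

namespace Cfsg.Agent.Lib.helper3.Block

open Cfsg Cfsg.Agent.Lib.helper3.LocalM Cfsg.Agent.Lib.helper3.Irr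
open Cfsg.Agent.Lib.helper3.CharBasic Cfsg.Agent.Lib.helper3.Lin Cfsg.Agent.Lib.helper3.Central
open Cfsg.Agent.Lib.helper3.IndFun
open scoped ComplexConjugate

universe u

variable {G : Type u} [Group G] [Fintype G] {M : Ideal AlgInt}

open Classical in
/-- The sum of the squares of the degrees in the principal block of a group with a normal
`p`-complement is the order of a Sylow `p`-subgroup. -/
theorem sum_sq_principal_of_normal_complement {p : ℕ} [hpf : Fact p.Prime] (hM : IsPModular p M)
    (h : HasNormalPComplement p G) :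
    ((∑ᶠ ψ ∈ principalBlock M G, ((charDegree (ψ : G → ℂ) : ℕ) : ℚ) ^ 2 : ℚ))
      = ((p ^ (Nat.card G).factorization p : ℕ) : ℚ) := by
  have hMtop : M ≠ ⊤ := hM.2.1.ne_top
  have hBG : IsPBlock M (principalBlock M G) := ⟨Cfsg.Agent.Lib.helper3.PrincOnly.one G, rfl⟩
  have hrk := (blockRank_principal_eq_one_iff hM).2 h
  obtain ⟨Bf, hBfdef⟩ : ∃ Bf : Finset (IrrCharacter G),
      Bf = Finset.univ.filter (fun χ : IrrCharacter G => χ ∈ principalBlock M G) := ⟨_, rfl⟩
  have hBf : ∀ χ, χ ∈ Bf ↔ χ ∈ principalBlock M G := by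
    intro χ
    rw [hBfdef, Finset.mem_filter]
    simp
  have hsum := sum_div_gcd_sq_eq hM (principalBlock M G) hBG hrk Bf hBf
  have hone : Cfsg.Agent.Lib.helper3.PrincOnly.one G ∈ Bf :=
    (hBf _).2 (sameBlock_refl hMtop _)
  have hdeg1 : charDegree ((Cfsg.Agent.Lib.helper3.PrincOnly.one G : IrrCharacter G) : G → ℂ)
      = 1 := by
    apply charDegree_eq
    show (1 : ℂ) = ((1 : ℕ) : ℂ)
    norm_num
  have hgcd : Bf.gcd (fun χ => charDegree (χ : G → ℂ)) = 1 := by
    have := Finset.gcd_dvd (f := fun χ : IrrCharacter G => charDegree (χ : G → ℂ)) hone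
    rw [hdeg1] at this
    exact Nat.dvd_one.1 this
  rw [hgcd, blockDefect_principal p hMtop] at hsum
  simp only [Nat.div_one] at hsum
  rw [finsum_mem_eq_sum_filter_irr, ← hBfdef, ← hsum]
  push_cast
  rfl

/-- The centralizer of an element `y` of an abelian Sylow `p`-subgroup `P` with
`C_G(y) ∩ N_G(P) = C_G(P)` has a normal `p`-complement, and `P` is a Sylow subgroup of it. -/
theorem hasNormalPComplement_centralizer {p : ℕ} [hpf : Fact p.Prime]
    (P : Sylow p G)
    (hab : ∀ a ∈ (P : Subgroup G), ∀ b ∈ (P : Subgroup G), a * b = b * a)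
    (y : G) (hy : y ∈ (P : Subgroup G))
    (hfrob : Subgroup.centralizer ({y} : Set G) ⊓ Subgroup.normalizer ((P : Subgroup G) : Set G)
      = Subgroup.centralizer ((P : Subgroup G) : Set G)) :
    HasNormalPComplement p ↥(Subgroup.centralizer ({y} : Set G)) ∧
      (Nat.card ↥(Subgroup.centralizer ({y} : Set G))).factorization p
        = (Nat.card (P : Subgroup G)).factorization p ∧
      p ^ (Nat.card ↥(Subgroup.centralizer ({y} : Set G))).factorization p
        = Nat.card (P : Subgroup G) := by
  obtain ⟨X, hX⟩ : ∃ X : Subgroup G, X = Subgroup.centralizer ({y} : Set G) := ⟨_, rfl⟩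
  rw [← hX] at hfrob ⊢
  haveI : Fintype X := Fintype.ofFinite _
  have hPX : (P : Subgroup G) ≤ X := by
    intro a ha
    rw [hX, Subgroup.mem_centralizer_singleton_iff]
    exact hab a ha y hy
  obtain ⟨Q, hQdef⟩ : ∃ Q : Sylow p X, Q = P.subtype hPX := ⟨_, rfl⟩
  have hQmem : ∀ x : X, x ∈ Q ↔ (x : G) ∈ (P : Subgroup G) := by
    intro x
    rw [hQdef]
    exact Subgroup.mem_subgroupOf
  have hQ : Subgroup.normalizer ((Q : Subgroup X) : Set X)
      ≤ Subgroup.centralizer ((Q : Subgroup X) : Set X) := by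
    intro c hc
    have hcN : (c : G) ∈ Subgroup.normalizer ((P : Subgroup G) : Set G) := by
      rw [Subgroup.mem_normalizer_iff]
      intro h
      constructor
      · intro hh
        have h1 := (Subgroup.mem_normalizer_iff.1 hc ⟨h, hPX hh⟩).1 ((hQmem _).2 hh)
        exact (hQmem _).1 h1
      · intro hh
        have hhX : h ∈ X := by
          have e : h = (c : G)⁻¹ * ((c : G) * h * (c : G)⁻¹) * (c : G) := by group
          rw [e]
          exact X.mul_mem (X.mul_mem (X.inv_mem c.2) (hPX hh)) c.2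
        have h1 := (Subgroup.mem_normalizer_iff.1 hc ⟨h, hhX⟩).2 ((hQmem _).2 hh)
        exact (hQmem _).1 h1
    have hcC : (c : G) ∈ Subgroup.centralizer ((P : Subgroup G) : Set G) := by
      rw [← hfrob]
      exact ⟨c.2, hcN⟩
    rw [Subgroup.mem_centralizer_iff]
    intro q hq
    apply Subtype.ext
    exact Subgroup.mem_centralizer_iff.1 hcC (q : G) ((hQmem q).1 hq)
  have hcompl : HasNormalPComplement p X :=
    ⟨Q, (MonoidHom.transferSylow Q hQ).ker, inferInstance,
      MonoidHom.ker_transferSylow_isComplement' Q hQ⟩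
  have hcard : Nat.card (Q : Subgroup X) = Nat.card (P : Subgroup G) := by
    rw [hQdef]
    exact Nat.card_congr (Subgroup.subgroupOfEquivOfLe hPX).toEquiv
  have hpow : p ^ (Nat.card X).factorization p = Nat.card (P : Subgroup G) := by
    rw [← Q.card_eq_multiplicity, hcard]
  refine ⟨hcompl, ?_, hpow⟩
  have hp : p.Prime := hpf.out
  rw [← hpow, hp.factorization_pow, Finsupp.single_eq_same]

open Classical in
/-- The sum of the squares of the degrees in the principal block of the centralizer of an element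
`y` of an abelian Sylow `p`-subgroup `P` with `C_G(y) ∩ N_G(P) = C_G(P)`. -/
theorem sum_sq_principal_centralizer {p : ℕ} [hpf : Fact p.Prime] (hM : IsPModular p M)
    (P : Sylow p G)
    (hab : ∀ a ∈ (P : Subgroup G), ∀ b ∈ (P : Subgroup G), a * b = b * a)
    (y : G) (hy : y ∈ (P : Subgroup G))
    (hfrob : Subgroup.centralizer ({y} : Set G) ⊓ Subgroup.normalizer ((P : Subgroup G) : Set G)
      = Subgroup.centralizer ((P : Subgroup G) : Set G)) :
    ((∑ᶠ ψ ∈ principalBlock M ↥(Subgroup.centralizer ({y} : Set G)),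
      ((charDegree (ψ : ↥(Subgroup.centralizer ({y} : Set G)) → ℂ) : ℕ) : ℚ) ^ 2 : ℚ))
      = (Nat.card (P : Subgroup G) : ℚ) := by
  obtain ⟨hcompl, -, hpow⟩ := hasNormalPComplement_centralizer P hab y hy hfrob
  haveI : Fintype ↥(Subgroup.centralizer ({y} : Set G)) := Fintype.ofFinite _
  rw [sum_sq_principal_of_normal_complement hM hcompl, hpow]

end Cfsg.Agent.Lib.helper3.Block
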