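import Mathlib
import Cfsg.Prelude.Def_Characters

/-!
# The action of the normalizer of an abelian subgroup on its linear characters
-/

set_option autoImplicit false
set_option linter.style.haveILetI false
set_option linter.unusedSectionVars false

namespace Cfsg.Agent.Lib.helper3.Block

open Cfsg

universe u

variable {G : Type u} [Group G]

section tw

variable (P : Subgroup G)

/-- The twist of a linear character of `P` by an element of the normalizer of `P`. -/
noncomputable def twHom (x : Subgroup.normalizer (P : Set G)) (ψ : P →* ℂˣ) : P →* ℂˣ :=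
  ψ.comp (MulDistribMulAction.toMonoidHom P x)

theorem coe_normalizer_smul (x : Subgroup.normalizer (P : Set G)) (y : P) :
    ((x • y : P) : G) = (x : G) * (y : G) * (x : G)⁻¹ := rfl

theorem twHom_apply (x : Subgroup.normalizer (P : Set G)) (ψ : P →* ℂˣ) (y : P) :
    twHom P x ψ y = ψ (x • y) := rfl

theorem twHom_one (ψ : P →* ℂˣ) : twHom P 1 ψ = ψ := by
  ext y
  rw [twHom_apply, one_smul]

theorem twHom_mul (x x' : Subgroup.normalizer (P : Set G)) (ψ : P →* ℂˣ) :
    twHom P (x * x') ψ = twHom P x' (twHom P x ψ) := by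
  ext y
  rw [twHom_apply, twHom_apply, twHom_apply, mul_smul]

theorem twHom_hom_one (x : Subgroup.normalizer (P : Set G)) : twHom P x (1 : P →* ℂˣ) = 1 := by
  ext y
  rw [twHom_apply]
  rfl

theorem twHom_inv_twHom (x : Subgroup.normalizer (P : Set G)) (ψ : P →* ℂˣ) :
    twHom P x⁻¹ (twHom P x ψ) = ψ := by
  rw [← twHom_mul, mul_inv_cancel, twHom_one]

theorem twHom_twHom_inv (x : Subgroup.normalizer (P : Set G)) (ψ : P →* ℂˣ) :
    twHom P x (twHom P x⁻¹ ψ) = ψ := by
  rw [← twHom_mul, inv_mul_cancel, twHom_one]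

theorem twHom_eq_one_iff (x : Subgroup.normalizer (P : Set G)) (ψ : P →* ℂˣ) :
    twHom P x ψ = 1 ↔ ψ = 1 := by
  constructor
  · intro h
    rw [← twHom_inv_twHom P x ψ, h, twHom_hom_one]
  · intro h
    rw [h, twHom_hom_one]

theorem twHom_of_mem_centralizer (x : Subgroup.normalizer (P : Set G))
    (hx : (x : G) ∈ Subgroup.centralizer (P : Set G)) (ψ : P →* ℂˣ) : twHom P x ψ = ψ := by
  ext y
  rw [twHom_apply]
  congr 2
  apply Subtype.ext
  rw [coe_normalizer_smul]
  have := Subgroup.mem_centralizer_iff.1 hx (y : G) y.2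
  rw [← this, mul_inv_cancel_right]

/-- The orbit relation on linear characters. -/
def TwRel (ψ ψ' : P →* ℂˣ) : Prop := ∃ x : Subgroup.normalizer (P : Set G), twHom P x ψ' = ψ

theorem twRel_refl (ψ : P →* ℂˣ) : TwRel P ψ ψ := ⟨1, twHom_one P ψ⟩

theorem twRel_symm {ψ ψ' : P →* ℂˣ} (h : TwRel P ψ ψ') : TwRel P ψ' ψ := by
  obtain ⟨x, hx⟩ := h
  exact ⟨x⁻¹, by rw [← hx, twHom_inv_twHom]⟩

theorem twRel_trans {ψ ψ' ψ'' : P →* ℂˣ} (h : TwRel P ψ ψ') (h' : TwRel P ψ' ψ'') :
    TwRel P ψ ψ'' := by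
  obtain ⟨x, hx⟩ := h
  obtain ⟨x', hx'⟩ := h'
  exact ⟨x' * x, by rw [twHom_mul, hx', hx]⟩

theorem twRel_one_right_iff (ψ : P →* ℂˣ) : TwRel P ψ 1 ↔ ψ = 1 := by
  constructor
  · rintro ⟨x, hx⟩
    rw [← hx, twHom_hom_one]
  · intro h
    rw [h]
    exact twRel_refl P 1

theorem twRel_one_left_iff (ψ : P →* ℂˣ) : TwRel P 1 ψ ↔ ψ = 1 := by
  constructor
  · intro h
    exact (twRel_one_right_iff P ψ).1 (twRel_symm P h)
  · intro h
    rw [h]
    exact twRel_refl P 1

/-- The relation in the form used in statements. -/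
theorem twRel_iff (ψ ψ' : P →* ℂˣ) :
    TwRel P ψ ψ' ↔ ∃ n : G, n ∈ Subgroup.normalizer (P : Set G) ∧
      ∀ w w' : P, (w' : G) = n * w * n⁻¹ → ψ' w' = ψ w := by
  constructor
  · rintro ⟨x, hx⟩
    refine ⟨x, x.2, ?_⟩
    intro w w' hw
    rw [← hx, twHom_apply]
    congr 1
    apply Subtype.ext
    rw [coe_normalizer_smul, hw]
  · rintro ⟨n, hn, h⟩
    refine ⟨⟨n, hn⟩, ?_⟩
    ext w
    rw [twHom_apply]
    congr 1
    exact h w _ rfl

end tw

section semiregular

variable [Finite G] (P : Subgroup G)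
  (hab : ∀ a ∈ P, ∀ b ∈ P, a * b = b * a)
  (hfrob : ∀ y : G, y ∈ P → y ≠ 1 → Subgroup.centralizer ({y} : Set G)
    ⊓ Subgroup.normalizer (P : Set G) = Subgroup.centralizer (P : Set G))

include hab hfrob in
/-- The stabilizer of a nontrivial linear character is the centralizer. -/
theorem mem_centralizer_of_twHom_eq (x : Subgroup.normalizer (P : Set G)) (ψ : P →* ℂˣ)
    (hψ : ψ ≠ 1) (h : twHom P x ψ = ψ) : (x : G) ∈ Subgroup.centralizer (P : Set G) := by
  by_contra hx
  have hfix : ∀ t : P, x • t = t → t = 1 := by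
    intro t ht
    by_contra ht1
    apply hx
    have ht1' : (t : G) ≠ 1 := fun e => ht1 (Subtype.ext e)
    rw [← hfrob (t : G) t.2 ht1']
    refine Subgroup.mem_inf.2 ⟨?_, x.2⟩
    rw [Subgroup.mem_centralizer_singleton_iff]
    have e := congrArg (Subtype.val) ht
    rw [coe_normalizer_smul] at e
    calc (x : G) * (t : G) = (x : G) * (t : G) * (x : G)⁻¹ * (x : G) := by group
      _ = (t : G) * (x : G) := by rw [e]
  have hc : ∀ a b : P, a * b = b * a := by
    intro a b
    apply Subtype.ext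
    exact hab a a.2 b b.2
  obtain ⟨f, hf⟩ : ∃ f : P → P, f = fun y => (x • y) * y⁻¹ := ⟨_, rfl⟩
  have hinj : Function.Injective f := by
    intro y y' hyy
    rw [hf] at hyy
    simp only at hyy
    have h1 : x • (y'⁻¹ * y) = y'⁻¹ * y := by
      rw [smul_mul', smul_inv']
      have e1 : (x • y) = (x • y') * y'⁻¹ * y := by
        rw [← hyy]
        group
      rw [e1]
      group
    have h2 := hfix _ h1
    have : y = y' * (y'⁻¹ * y) := by group
    rw [this, h2, mul_one]
  have hsurj : Function.Surjective f := Finite.injective_iff_surjective.1 hinj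
  apply hψ
  ext t
  obtain ⟨y, rfl⟩ := hsurj t
  rw [hf]
  simp only
  rw [map_mul, map_inv, ← twHom_apply, h, mul_inv_cancel]
  rfl

include hab hfrob in
/-- The fibres of the twisting map on the normalizer have the cardinality of the centralizer. -/
theorem card_twHom_fiber (ψ ψ' : P →* ℂˣ) (hψ' : ψ' ≠ 1) (h : TwRel P ψ ψ') :
    Nat.card {x : Subgroup.normalizer (P : Set G) // twHom P x ψ' = ψ}
      = Nat.card ↥(Subgroup.centralizer (P : Set G)) := by
  obtain ⟨x₀, hx₀⟩ := h
  have hCN : Subgroup.centralizer (P : Set G) ≤ Subgroup.normalizer (P : Set G) :=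
    Subgroup.centralizer_le_normalizer _
  apply Nat.card_congr
  refine ⟨fun x => ⟨((x : Subgroup.normalizer (P : Set G)) * x₀⁻¹ :
      Subgroup.normalizer (P : Set G)), ?_⟩,
    fun c => ⟨⟨(c : G), hCN c.2⟩ * x₀, ?_⟩, ?_, ?_⟩
  · obtain ⟨x, hx⟩ := x
    apply mem_centralizer_of_twHom_eq P hab hfrob _ ψ' hψ'
    rw [twHom_mul, hx, ← hx₀, twHom_inv_twHom]
  · rw [twHom_mul, twHom_of_mem_centralizer P ⟨(c : G), hCN c.2⟩ c.2, hx₀]
  · intro x
    apply Subtype.ext
    apply Subtype.ext
    simp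
  · intro c
    apply Subtype.ext
    simp

/-- No element of the normalizer twists a character to an unrelated one. -/
theorem card_twHom_fiber_of_not (ψ ψ' : P →* ℂˣ) (h : ¬ TwRel P ψ ψ') :
    Nat.card {x : Subgroup.normalizer (P : Set G) // twHom P x ψ' = ψ} = 0 := by
  haveI : IsEmpty {x : Subgroup.normalizer (P : Set G) // twHom P x ψ' = ψ} :=
    ⟨fun x => h ⟨x.1, x.2⟩⟩
  exact Nat.card_of_isEmpty

/-- Every element of the normalizer fixes the trivial character. -/
theorem card_twHom_fiber_one :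
    Nat.card {x : Subgroup.normalizer (P : Set G) // twHom P x (1 : P →* ℂˣ) = 1}
      = Nat.card ↥(Subgroup.normalizer (P : Set G)) := by
  apply Nat.card_congr
  exact Equiv.subtypeUnivEquiv (fun x => twHom_hom_one P x)

end semiregular

section orbits

variable [Finite G] (P : Subgroup G)
  (hab : ∀ a ∈ P, ∀ b ∈ P, a * b = b * a)
  (hfrob : ∀ y : G, y ∈ P → y ≠ 1 → Subgroup.centralizer ({y} : Set G)
    ⊓ Subgroup.normalizer (P : Set G) = Subgroup.centralizer (P : Set G))

theorem relIndex_centralizer_mul_card :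
    (Subgroup.centralizer (P : Set G)).relIndex (Subgroup.normalizer (P : Set G))
      * Nat.card ↥(Subgroup.centralizer (P : Set G))
      = Nat.card ↥(Subgroup.normalizer (P : Set G)) := by
  have hCN : Subgroup.centralizer (P : Set G) ≤ Subgroup.normalizer (P : Set G) :=
    Subgroup.centralizer_le_normalizer _
  have h1 := ((Subgroup.centralizer (P : Set G)).subgroupOf
    (Subgroup.normalizer (P : Set G))).index_mul_card
  rw [Nat.card_congr (Subgroup.subgroupOfEquivOfLe hCN).toEquiv] at h1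
  exact h1

include hab hfrob in
/-- The classes of nontrivial characters have `|N : C|` elements. -/
theorem card_twRel_class (ψ : P →* ℂˣ) (hψ : ψ ≠ 1) :
    Nat.card {ψ' : P →* ℂˣ // TwRel P ψ' ψ}
      = (Subgroup.centralizer (P : Set G)).relIndex (Subgroup.normalizer (P : Set G)) := by
  classical
  haveI : Fintype (P →* ℂˣ) := Fintype.ofFinite _
  have h1 : Nat.card ↥(Subgroup.normalizer (P : Set G))
      = ∑ ψ' : P →* ℂˣ, Nat.card {x : Subgroup.normalizer (P : Set G) // twHom P x ψ = ψ'} := by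
    rw [← Nat.card_sigma]
    exact Nat.card_congr (Equiv.sigmaFiberEquiv
      (fun x : Subgroup.normalizer (P : Set G) => twHom P x ψ)).symm
  have h2 : ∀ ψ' : P →* ℂˣ,
      Nat.card {x : Subgroup.normalizer (P : Set G) // twHom P x ψ = ψ'}
        = if TwRel P ψ' ψ then Nat.card ↥(Subgroup.centralizer (P : Set G)) else 0 := by
    intro ψ'
    split_ifs with h
    · exact card_twHom_fiber P hab hfrob ψ' ψ hψ h
    · exact card_twHom_fiber_of_not P ψ' ψ h
  rw [Finset.sum_congr rfl (fun ψ' _ => h2 ψ'), ← Finset.sum_filter, Finset.sum_const,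
    smul_eq_mul, ← relIndex_centralizer_mul_card P] at h1
  have hpos : 0 < Nat.card ↥(Subgroup.centralizer (P : Set G)) := Nat.card_pos
  have h3 := Nat.eq_of_mul_eq_mul_right hpos h1
  rw [h3, Nat.card_eq_fintype_card, Fintype.card_subtype]

/-- The setoid of the twisting action on the nontrivial characters. -/
def twSetoid : Setoid {ψ : P →* ℂˣ // ψ ≠ 1} where
  r a b := TwRel P a.1 b.1
  iseqv := ⟨fun a => twRel_refl P a.1, fun h => twRel_symm P h,
    fun h h' => twRel_trans P h h'⟩

theorem twSetoid_r (a b : {ψ : P →* ℂˣ // ψ ≠ 1}) :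
    (twSetoid P).r a b ↔ TwRel P a.1 b.1 := Iff.rfl

open scoped IsMulCommutative in
include hab in
theorem card_hom_ne_one : Nat.card {ψ : P →* ℂˣ // ψ ≠ 1} = Nat.card P - 1 := by
  classical
  haveI : IsMulCommutative P := ⟨⟨fun a b => Subtype.ext (hab a a.2 b b.2)⟩⟩
  haveI : Fintype (P →* ℂˣ) := Fintype.ofFinite _
  haveI : NeZero ((Monoid.exponent P : ℕ) : ℂ) :=
    ⟨Nat.cast_ne_zero.mpr Monoid.exponent_ne_zero_of_finite⟩
  have h1 : Nat.card (P →* ℂˣ) = Nat.card P :=
    CommGroup.card_monoidHom_of_hasEnoughRootsOfUnity P ℂ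
  rw [← h1, Nat.card_eq_fintype_card, Nat.card_eq_fintype_card, Fintype.card_subtype_compl,
    Fintype.card_subtype_eq]

include hab hfrob in
/-- The number of classes of nontrivial characters. -/
theorem card_quotient_mul :
    Nat.card (Quotient (twSetoid P))
      * (Subgroup.centralizer (P : Set G)).relIndex (Subgroup.normalizer (P : Set G))
      = Nat.card P - 1 := by
  classical
  haveI : Fintype (P →* ℂˣ) := Fintype.ofFinite _
  haveI : Fintype (Quotient (twSetoid P)) := Fintype.ofFinite _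
  rw [← card_hom_ne_one P hab]
  have h1 : Nat.card {ψ : P →* ℂˣ // ψ ≠ 1}
      = ∑ k : Quotient (twSetoid P),
        Nat.card {a : {ψ : P →* ℂˣ // ψ ≠ 1} // (Quotient.mk (twSetoid P) a) = k} := by
    rw [← Nat.card_sigma]
    exact Nat.card_congr (Equiv.sigmaFiberEquiv
      (fun a : {ψ : P →* ℂˣ // ψ ≠ 1} => Quotient.mk (twSetoid P) a)).symm
  have h2 : ∀ k : Quotient (twSetoid P),
      Nat.card {a : {ψ : P →* ℂˣ // ψ ≠ 1} // (Quotient.mk (twSetoid P) a) = k}
        = (Subgroup.centralizer (P : Set G)).relIndex (Subgroup.normalizer (P : Set G)) := by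
    intro k
    obtain ⟨b, rfl⟩ := Quotient.exists_rep k
    rw [← card_twRel_class P hab hfrob b.1 b.2]
    apply Nat.card_congr
    refine ⟨fun a => ⟨a.1.1, ?_⟩, fun c => ⟨⟨c.1, ?_⟩, ?_⟩, ?_, ?_⟩
    · exact Quotient.exact a.2
    · intro h
      apply b.2
      have := c.2
      rw [h] at this
      exact (twRel_one_left_iff P _).1 this
    · apply Quotient.sound
      exact c.2
    · intro a
      rfl
    · intro c
      rfl
  rw [h1, Finset.sum_congr rfl (fun k _ => h2 k), Finset.sum_const, smul_eq_mul,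
    Finset.card_univ, Nat.card_eq_fintype_card]

end orbits

end Cfsg.Agent.Lib.helper3.Block
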