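import Mathlib
import Cfsg.Prelude.Def_Blocks
import Cfsg.Agent.Lib.helper3.ColFrob2
import Cfsg.Agent.Lib.helper3.Pf4e
import Cfsg.Agent.Lib.helper3.Irr13

/-!
# Multiplicities of linear characters of an abelian subgroup in restrictions
-/

set_option autoImplicit false
set_option linter.style.haveILetI false
set_option linter.unusedSectionVars false

namespace Cfsg.Agent.Lib.helper3.Block

open Cfsg Cfsg.Agent.Lib.helper3.Irr Cfsg.Agent.Lib.helper3.CharBasic
open Cfsg.Agent.Lib.helper3.IndFun Cfsg.Agent.Lib.helper3.CycTI Cfsg.Agent.Lib.helper3.Pf4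
open Cfsg.Agent.Lib.helper3.Lin
open scoped ComplexConjugate

universe u

variable {G : Type u} [Group G] [Fintype G]

/-- The multiplicity of the linear character `ψ` of `P` in the restriction of `χ`. -/
noncomputable def resMult (P : Subgroup G) (χ : G → ℂ) (ψ : P →* ℂˣ) : ℂ :=
  (Nat.card P : ℂ)⁻¹ * ∑ᶠ y : P, χ (y : G) * linFun ψ y⁻¹

theorem linFun_inv {X : Type*} [Group X] [Finite X] (ψ : X →* ℂˣ) (y : X) :
    linFun ψ y⁻¹ = conj (linFun ψ y) :=
  isCharacter_apply_inv (isCharacter_of_hom ψ) y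

theorem resMult_eq_classInner (P : Subgroup G) [Fintype P] (χ : G → ℂ) (ψ : P →* ℂˣ) :
    resMult P χ ψ = classInner (fun y : P => χ (y : G)) (linFun ψ) := by
  rw [resMult, classInner_apply, finsum_eq_sum_of_fintype]
  congr 1
  apply Finset.sum_congr rfl
  intro y _
  rw [linFun_inv]

theorem exists_nat_resMult (P : Subgroup G) {χ : G → ℂ} (hχ : IsCharacter G χ) (ψ : P →* ℂˣ) :
    ∃ n : ℕ, resMult P χ ψ = n := by
  haveI : Fintype P := Fintype.ofFinite _
  rw [resMult_eq_classInner]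
  exact exists_nat_classInner_of_isCharacter (isCharacter_restrict hχ P)
    ⟨linFun ψ, isIrrCharacter_linFun ψ⟩

theorem resMult_twHom (P : Subgroup G) {χ : G → ℂ} (hχ : IsClassFunction G χ)
    (x : Subgroup.normalizer (P : Set G)) (ψ : P →* ℂˣ) :
    resMult P χ (twHom P x ψ) = resMult P χ ψ := by
  haveI : Fintype P := Fintype.ofFinite _
  rw [resMult, resMult, finsum_eq_sum_of_fintype, finsum_eq_sum_of_fintype]
  congr 1
  apply Fintype.sum_equiv (MulAction.toPerm x)
  intro y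
  rw [MulAction.toPerm_apply]
  have h1 : χ ((x • y : P) : G) = χ (y : G) := by
    rw [coe_normalizer_smul]
    exact hχ _ _
  rw [h1]
  congr 1
  show ((twHom P x ψ y⁻¹ : ℂˣ) : ℂ) = ((ψ (x • y)⁻¹ : ℂˣ) : ℂ)
  rw [twHom_apply, smul_inv']

theorem resMult_eq_of_twRel (P : Subgroup G) {χ : G → ℂ} (hχ : IsClassFunction G χ)
    {ψ ψ' : P →* ℂˣ} (h : TwRel P ψ ψ') : resMult P χ ψ = resMult P χ ψ' := by
  obtain ⟨x, rfl⟩ := h
  exact resMult_twHom P hχ x ψ'

/-- Fourier inversion. -/
theorem apply_eq_sum_resMult (P : Subgroup G) (hab : ∀ a ∈ P, ∀ b ∈ P, a * b = b * a)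
    [Fintype (P →* ℂˣ)] {χ : G → ℂ} (hχ : IsCharacter G χ) (y : P) :
    χ (y : G) = ∑ ψ : P →* ℂˣ, resMult P χ ψ * ((ψ y : ℂˣ) : ℂ) := by
  haveI : Fintype P := Fintype.ofFinite _
  have hc : ∀ a b : P, a * b = b * a := fun a b => Subtype.ext (hab a a.2 b b.2)
  have h := isCharacter_eq_sum_hom hc (isCharacter_restrict hχ P)
  have h2 := congrFun h y
  simp only [Finset.sum_apply, Pi.smul_apply, smul_eq_mul] at h2
  rw [h2]
  apply Finset.sum_congr rfl
  intro ψ _
  rw [resMult_eq_classInner]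
  rfl

open Classical in
/-- The multiplicities of the trivial character of `G`. -/
theorem resMult_one (P : Subgroup G) (ψ : P →* ℂˣ) :
    resMult P (fun _ : G => (1 : ℂ)) ψ = if ψ = 1 then 1 else 0 := by
  classical
  haveI : Fintype P := Fintype.ofFinite _
  rw [resMult_eq_classInner]
  have h1 : (fun _ : P => (1 : ℂ)) = linFun (1 : P →* ℂˣ) := by
    funext y
    simp [linFun]
  rw [h1, classInner_linFun]
  by_cases h : ψ = 1
  · rw [if_pos h, if_pos h.symm]
  · rw [if_neg h, if_neg (fun e => h e.symm)]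

end Cfsg.Agent.Lib.helper3.Block
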