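import Mathlib
import Cfsg.Prelude.Def_Blocks
import Cfsg.Agent.Lib.helper3.ColFrob1
import Cfsg.Agent.Lib.helper3.ColFrob3

/-!
# The Gram relations of the multiplicity vectors on the principal block
-/

set_option autoImplicit false
set_option linter.style.haveILetI false
set_option linter.unusedSectionVars false

namespace Cfsg.Agent.Lib.helper3.Block

open Cfsg Cfsg.Agent.Lib.helper3.Irr Cfsg.Agent.Lib.helper3.CharBasic
open Cfsg.Agent.Lib.helper3.IndFun Cfsg.Agent.Lib.helper3.CycTI Cfsg.Agent.Lib.helper3.Pf4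
open Cfsg.Agent.Lib.helper3.Lin Cfsg.Agent.Lib.helper3.LocalM Cfsg.Agent.Lib.helper3.Central
open scoped ComplexConjugate

universe u

variable {G : Type u} [Group G] [Fintype G] {M : Ideal AlgInt}

open Classical in
theorem sum_linFun_mul_conj {X : Type*} [Group X] [Fintype X] (ω ω' : X →* ℂˣ) :
    ∑ y : X, linFun ω y * conj (linFun ω' y) = if ω' = ω then (Nat.card X : ℂ) else 0 := by
  have h := classInner_linFun ω ω'
  rw [classInner_apply] at h
  have hX : (Nat.card X : ℂ) ≠ 0 := by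
    have : Nat.card X ≠ 0 := Nat.card_pos.ne'
    exact_mod_cast this
  have h2 : ∑ y : X, linFun ω y * conj (linFun ω' y)
      = (Nat.card X : ℂ) * (if ω = ω' then 1 else 0) := by
    rw [← h]
    field_simp
  rw [h2]
  by_cases e : ω = ω'
  · rw [if_pos e, if_pos e.symm, mul_one]
  · rw [if_neg e, if_neg (fun e' => e e'.symm), mul_zero]

open Classical in
/-- The Gram relations. -/
theorem gram_resMult {p : ℕ} [hpf : Fact p.Prime] (hM : IsPModular p M) (P : Sylow p G)
    (hab : ∀ a ∈ (P : Subgroup G), ∀ b ∈ (P : Subgroup G), a * b = b * a)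
    (hfrob : ∀ y : G, y ∈ (P : Subgroup G) → y ≠ 1 → Subgroup.centralizer ({y} : Set G)
      ⊓ Subgroup.normalizer ((P : Subgroup G) : Set G)
        = Subgroup.centralizer ((P : Subgroup G) : Set G))
    (ψ₁ ψ₂ ψ₃ : ↥(P : Subgroup G) →* ℂˣ) :
    ∑ᶠ χ ∈ principalBlock M G,
      (resMult (P : Subgroup G) (χ : G → ℂ) ψ₁ - resMult (P : Subgroup G) (χ : G → ℂ) ψ₂)
        * conj (resMult (P : Subgroup G) (χ : G → ℂ) ψ₃)
      = ((Nat.card {x : Subgroup.normalizer ((P : Subgroup G) : Set G) //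
            twHom (P : Subgroup G) x ψ₃ = ψ₁} : ℂ)
          - (Nat.card {x : Subgroup.normalizer ((P : Subgroup G) : Set G) //
            twHom (P : Subgroup G) x ψ₃ = ψ₂} : ℂ))
        / (Nat.card ↥(Subgroup.centralizer ((P : Subgroup G) : Set G)) : ℂ) := by
  haveI : Fintype (P : Subgroup G) := Fintype.ofFinite _
  haveI : Fintype ↥(Subgroup.normalizer ((P : Subgroup G) : Set G)) := Fintype.ofFinite _
  haveI : IsMulCommutative P := ⟨⟨fun a b => Subtype.ext (hab a a.2 b b.2)⟩⟩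
  obtain ⟨θ, hθ⟩ : ∃ θ : ↥(P : Subgroup G) → ℂ, θ = fun y => linFun ψ₁ y - linFun ψ₂ y :=
    ⟨_, rfl⟩
  have hC0 : (Nat.card ↥(Subgroup.centralizer ((P : Subgroup G) : Set G)) : ℚ) ≠ 0 := by
    have : Nat.card ↥(Subgroup.centralizer ((P : Subgroup G) : Set G)) ≠ 0 := Nat.card_pos.ne'
    exact_mod_cast this
  have hfus : ∀ u ∈ {y : G | y ∈ (P : Subgroup G) ∧ y ≠ 1}, ∀ g : G,
      g * u * g⁻¹ ∈ ((P : Subgroup G) : Set G) →
      ∃ n ∈ Subgroup.normalizer ((P : Subgroup G) : Set G), n * u * n⁻¹ = g * u * g⁻¹ := by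
    intro u hu g hg
    obtain ⟨n, hn, hnu⟩ := P.conj_eq_normalizer_conj_of_mem u g⁻¹ hu.1 (by simpa using hg)
    refine ⟨n⁻¹, Subgroup.inv_mem _ hn, ?_⟩
    rw [inv_inv] at hnu ⊢
    exact hnu.symm
  have hw : ∀ y ∈ {y : G | y ∈ (P : Subgroup G) ∧ y ≠ 1},
      ((∑ᶠ ψ ∈ principalBlock M ↥(Subgroup.centralizer ({y} : Set G)),
        (charDegree (ψ : ↥(Subgroup.centralizer ({y} : Set G)) → ℂ) : ℚ) ^ 2) : ℚ)
        = ((Nat.card (P : Subgroup G) : ℚ)
            / (Nat.card ↥(Subgroup.centralizer ((P : Subgroup G) : Set G)) : ℚ))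
          * Nat.card ↥(Subgroup.normalizer ((P : Subgroup G) : Set G)
            ⊓ Subgroup.centralizer ({y} : Set G)) := by
    intro y hy
    rw [sum_sq_principal_centralizer hM P hab y hy.1 (hfrob y hy.1 hy.2), inf_comm,
      hfrob y hy.1 hy.2]
    field_simp
  have hθU : ∀ y : (P : Subgroup G), (y : G) ∉ {y : G | y ∈ (P : Subgroup G) ∧ y ≠ 1} →
      θ y = 0 := by
    intro y hy
    have hy1 : y = 1 := by
      by_contra h
      exact hy ⟨y.2, fun e => h (Subtype.ext e)⟩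
    rw [hθ, hy1]
    simp [linFun]
  have hmain := col_inner_formula hM (P : Subgroup G) P.isPGroup'
    (Subgroup.normalizer ((P : Subgroup G) : Set G)) le_rfl
    {y : G | y ∈ (P : Subgroup G) ∧ y ≠ 1} (fun y hy => hy.1) hfus
    ((Nat.card (P : Subgroup G) : ℚ)
      / (Nat.card ↥(Subgroup.centralizer ((P : Subgroup G) : Set G)) : ℚ)) hw θ (linFun ψ₃) hθU
  have hL : ∀ χ : IrrCharacter G,
      ((Nat.card (P : Subgroup G) : ℂ)⁻¹ * ∑ᶠ y : (P : Subgroup G), (χ : G → ℂ) (y : G) * θ y⁻¹)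
        = resMult (P : Subgroup G) (χ : G → ℂ) ψ₁ - resMult (P : Subgroup G) (χ : G → ℂ) ψ₂ := by
    intro χ
    rw [resMult, resMult, finsum_eq_sum_of_fintype, finsum_eq_sum_of_fintype,
      finsum_eq_sum_of_fintype, ← mul_sub, ← Finset.sum_sub_distrib]
    congr 1
    apply Finset.sum_congr rfl
    intro y _
    rw [hθ]
    ring
  have hLHS : ∑ᶠ χ ∈ principalBlock M G,
      (resMult (P : Subgroup G) (χ : G → ℂ) ψ₁ - resMult (P : Subgroup G) (χ : G → ℂ) ψ₂)
        * conj (resMult (P : Subgroup G) (χ : G → ℂ) ψ₃)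
      = ∑ᶠ χ ∈ principalBlock M G,
        ((Nat.card (P : Subgroup G) : ℂ)⁻¹
            * ∑ᶠ y : (P : Subgroup G), (χ : G → ℂ) (y : G) * θ y⁻¹)
          * conj ((Nat.card (P : Subgroup G) : ℂ)⁻¹
            * ∑ᶠ y : (P : Subgroup G), (χ : G → ℂ) (y : G) * linFun ψ₃ y⁻¹) := by
    apply finsum_mem_congr rfl
    intro χ _
    rw [hL χ]
    rfl
  rw [hLHS, hmain]
  -- the right hand side
  have hext : ∀ (x : Subgroup.normalizer ((P : Subgroup G) : Set G)) (y : (P : Subgroup G)),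
      extendByZero (P : Subgroup G) (linFun ψ₃) ((x : G) * (y : G) * (x : G)⁻¹)
        = linFun (twHom (P : Subgroup G) x ψ₃) y := by
    intro x y
    have hmem : (x : G) * (y : G) * (x : G)⁻¹ ∈ (P : Subgroup G) := (x • y : (P : Subgroup G)).2
    rw [extendByZero_mem _ _ hmem]
    rfl
  have hR : ∑ᶠ y : (P : Subgroup G), θ y
        * conj (∑ᶠ x : Subgroup.normalizer ((P : Subgroup G) : Set G),
          extendByZero (P : Subgroup G) (linFun ψ₃) ((x : G) * (y : G) * (x : G)⁻¹))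
      = (Nat.card (P : Subgroup G) : ℂ)
        * ((Nat.card {x : Subgroup.normalizer ((P : Subgroup G) : Set G) //
            twHom (P : Subgroup G) x ψ₃ = ψ₁} : ℂ)
          - (Nat.card {x : Subgroup.normalizer ((P : Subgroup G) : Set G) //
            twHom (P : Subgroup G) x ψ₃ = ψ₂} : ℂ)) := by
    rw [finsum_eq_sum_of_fintype]
    simp_rw [finsum_eq_sum_of_fintype, hext, map_sum, Finset.mul_sum]
    rw [Finset.sum_comm]
    have h1 : ∀ x : Subgroup.normalizer ((P : Subgroup G) : Set G),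
        ∑ y : (P : Subgroup G), θ y * conj (linFun (twHom (P : Subgroup G) x ψ₃) y)
          = (Nat.card (P : Subgroup G) : ℂ)
            * ((if twHom (P : Subgroup G) x ψ₃ = ψ₁ then (1 : ℂ) else 0)
              - (if twHom (P : Subgroup G) x ψ₃ = ψ₂ then (1 : ℂ) else 0)) := by
      intro x
      rw [hθ]
      simp only [sub_mul]
      rw [Finset.sum_sub_distrib, sum_linFun_mul_conj, sum_linFun_mul_conj]
      split_ifs <;> ring
    have hc1 : ∀ ψ : ↥(P : Subgroup G) →* ℂˣ,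
        ∑ x : Subgroup.normalizer ((P : Subgroup G) : Set G),
          (if twHom (P : Subgroup G) x ψ₃ = ψ then (1 : ℂ) else 0)
        = (Nat.card {x : Subgroup.normalizer ((P : Subgroup G) : Set G) //
            twHom (P : Subgroup G) x ψ₃ = ψ} : ℂ) := by
      intro ψ
      rw [Finset.sum_boole, Nat.card_eq_fintype_card, Fintype.card_subtype]
    rw [Finset.sum_congr rfl (fun x _ => h1 x), ← Finset.mul_sum, Finset.sum_sub_distrib,
      hc1, hc1]
  rw [hR]
  have hP0 : (Nat.card (P : Subgroup G) : ℂ) ≠ 0 := by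
    have : Nat.card (P : Subgroup G) ≠ 0 := Nat.card_pos.ne'
    exact_mod_cast this
  have hC0' : (Nat.card ↥(Subgroup.centralizer ((P : Subgroup G) : Set G)) : ℂ) ≠ 0 := by
    have : Nat.card ↥(Subgroup.centralizer ((P : Subgroup G) : Set G)) ≠ 0 := Nat.card_pos.ne'
    exact_mod_cast this
  push_cast
  field_simp

open Classical in
/-- The Gram relations against a nontrivial character. -/
theorem gram_resMult_ne_one {p : ℕ} [hpf : Fact p.Prime] (hM : IsPModular p M) (P : Sylow p G)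
    (hab : ∀ a ∈ (P : Subgroup G), ∀ b ∈ (P : Subgroup G), a * b = b * a)
    (hfrob : ∀ y : G, y ∈ (P : Subgroup G) → y ≠ 1 → Subgroup.centralizer ({y} : Set G)
      ⊓ Subgroup.normalizer ((P : Subgroup G) : Set G)
        = Subgroup.centralizer ((P : Subgroup G) : Set G))
    (ψ₁ ψ₂ ψ₃ : ↥(P : Subgroup G) →* ℂˣ) (h₃ : ψ₃ ≠ 1) :
    ∑ᶠ χ ∈ principalBlock M G,
      (resMult (P : Subgroup G) (χ : G → ℂ) ψ₁ - resMult (P : Subgroup G) (χ : G → ℂ) ψ₂)
        * conj (resMult (P : Subgroup G) (χ : G → ℂ) ψ₃)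
      = (if TwRel (P : Subgroup G) ψ₁ ψ₃ then (1 : ℂ) else 0)
        - (if TwRel (P : Subgroup G) ψ₂ ψ₃ then (1 : ℂ) else 0) := by
  rw [gram_resMult hM P hab hfrob]
  have hC0' : (Nat.card ↥(Subgroup.centralizer ((P : Subgroup G) : Set G)) : ℂ) ≠ 0 := by
    have : Nat.card ↥(Subgroup.centralizer ((P : Subgroup G) : Set G)) ≠ 0 := Nat.card_pos.ne'
    exact_mod_cast this
  have hc : ∀ ψ : ↥(P : Subgroup G) →* ℂˣ,
      (Nat.card {x : Subgroup.normalizer ((P : Subgroup G) : Set G) //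
            twHom (P : Subgroup G) x ψ₃ = ψ} : ℂ)
        = (Nat.card ↥(Subgroup.centralizer ((P : Subgroup G) : Set G)) : ℂ)
          * (if TwRel (P : Subgroup G) ψ ψ₃ then (1 : ℂ) else 0) := by
    intro ψ
    split_ifs with h
    · rw [card_twHom_fiber (P : Subgroup G) hab hfrob ψ ψ₃ h₃ h, mul_one]
    · rw [card_twHom_fiber_of_not (P : Subgroup G) ψ ψ₃ h, mul_zero, Nat.cast_zero]
  rw [hc, hc, ← mul_sub, mul_div_assoc, mul_comm, div_mul_cancel₀ _ hC0']

open Classical in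
/-- The Gram relations against the trivial character. -/
theorem gram_resMult_one {p : ℕ} [hpf : Fact p.Prime] (hM : IsPModular p M) (P : Sylow p G)
    (hab : ∀ a ∈ (P : Subgroup G), ∀ b ∈ (P : Subgroup G), a * b = b * a)
    (hfrob : ∀ y : G, y ∈ (P : Subgroup G) → y ≠ 1 → Subgroup.centralizer ({y} : Set G)
      ⊓ Subgroup.normalizer ((P : Subgroup G) : Set G)
        = Subgroup.centralizer ((P : Subgroup G) : Set G))
    (ψ₁ ψ₂ : ↥(P : Subgroup G) →* ℂˣ) :
    ∑ᶠ χ ∈ principalBlock M G,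
      (resMult (P : Subgroup G) (χ : G → ℂ) ψ₁ - resMult (P : Subgroup G) (χ : G → ℂ) ψ₂)
        * conj (resMult (P : Subgroup G) (χ : G → ℂ) 1)
      = (((Subgroup.centralizer ((P : Subgroup G) : Set G)).relIndex
          (Subgroup.normalizer ((P : Subgroup G) : Set G)) : ℕ) : ℂ)
        * ((if ψ₁ = 1 then (1 : ℂ) else 0) - (if ψ₂ = 1 then (1 : ℂ) else 0)) := by
  rw [gram_resMult hM P hab hfrob]
  have hC0' : (Nat.card ↥(Subgroup.centralizer ((P : Subgroup G) : Set G)) : ℂ) ≠ 0 := by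
    have : Nat.card ↥(Subgroup.centralizer ((P : Subgroup G) : Set G)) ≠ 0 := Nat.card_pos.ne'
    exact_mod_cast this
  have hc : ∀ ψ : ↥(P : Subgroup G) →* ℂˣ,
      (Nat.card {x : Subgroup.normalizer ((P : Subgroup G) : Set G) //
            twHom (P : Subgroup G) x 1 = ψ} : ℂ)
        = (Nat.card ↥(Subgroup.centralizer ((P : Subgroup G) : Set G)) : ℂ)
          * ((((Subgroup.centralizer ((P : Subgroup G) : Set G)).relIndex
            (Subgroup.normalizer ((P : Subgroup G) : Set G)) : ℕ) : ℂ)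
            * (if ψ = 1 then (1 : ℂ) else 0)) := by
    intro ψ
    split_ifs with h
    · rw [h, card_twHom_fiber_one, ← relIndex_centralizer_mul_card (P : Subgroup G)]
      push_cast
      ring
    · rw [card_twHom_fiber_of_not (P : Subgroup G) ψ 1
        (fun h' => h ((twRel_one_right_iff _ ψ).1 h')), mul_zero, mul_zero, Nat.cast_zero]
  rw [hc, hc]
  field_simp

end Cfsg.Agent.Lib.helper3.Block
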