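import Mathlib
import Cfsg.Prelude.Def_Blocks
import Cfsg.Agent.Lib.helper3.ColFrob4
import Cfsg.Agent.Lib.helper3.PrincSection
import Cfsg.Agent.Lib.helper3.PrincRank
import Cfsg.Agent.Lib.helper3.PrincNormal2
import Cfsg.Agent.Lib.helper3.SecMain5

/-!
# Values of the characters of the principal block on `p`-sections of an abelian Sylow subgroup
-/

set_option autoImplicit false
set_option linter.style.haveILetI false
set_option linter.unusedSectionVars false

namespace Cfsg.Agent.Lib.helper3.Block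

open Cfsg Cfsg.Agent.Lib.helper3.Irr Cfsg.Agent.Lib.helper3.CharBasic
open Cfsg.Agent.Lib.helper3.IndFun Cfsg.Agent.Lib.helper3.CycTI Cfsg.Agent.Lib.helper3.Pf4
open Cfsg.Agent.Lib.helper3.Lin Cfsg.Agent.Lib.helper3.LocalM Cfsg.Agent.Lib.helper3.Central
open scoped ComplexConjugate

universe u

variable {G : Type u} [Group G] [Fintype G] {M : Ideal AlgInt}

open Classical in
/-- Orthogonality of the multiplicity differences to the values on `p`-regular elements. -/
theorem sum_resMult_sub_mul_conj_apply {p : ℕ} [hpf : Fact p.Prime] (hM : IsPModular p M)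
    (P : Subgroup G) (hP : IsPGroup p P) (ψ₁ ψ₂ : P →* ℂˣ) (g : G) (hg : ¬ p ∣ orderOf g) :
    ∑ᶠ χ ∈ principalBlock M G,
      (resMult P (χ : G → ℂ) ψ₁ - resMult P (χ : G → ℂ) ψ₂) * conj ((χ : G → ℂ) g) = 0 := by
  haveI : Fintype P := Fintype.ofFinite _
  have hp : p.Prime := hpf.out
  have hBG : IsPBlock M (principalBlock M G) := ⟨Cfsg.Agent.Lib.helper3.PrincOnly.one G, rfl⟩
  rw [finsum_mem_set_eq_sum_ite]
  have h1 : ∀ χ : IrrCharacter G, (if χ ∈ principalBlock M G then (1 : ℂ) else 0)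
      * ((resMult P (χ : G → ℂ) ψ₁ - resMult P (χ : G → ℂ) ψ₂) * conj ((χ : G → ℂ) g))
      = ∑ y : P, (Nat.card P : ℂ)⁻¹ * (linFun ψ₁ y⁻¹ - linFun ψ₂ y⁻¹)
        * ((if χ ∈ principalBlock M G then (1 : ℂ) else 0)
          * ((χ : G → ℂ) (y : G) * (χ : G → ℂ) g⁻¹)) := by
    intro χ
    rw [resMult, resMult, finsum_eq_sum_of_fintype, finsum_eq_sum_of_fintype,
      ← isCharacter_apply_inv (isCharacter_of_isIrrCharacter χ.2) g, ← mul_sub,
      ← Finset.sum_sub_distrib, Finset.mul_sum, Finset.sum_mul, Finset.mul_sum]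
    apply Finset.sum_congr rfl
    intro y _
    ring
  rw [Finset.sum_congr rfl (fun χ _ => h1 χ), Finset.sum_comm]
  apply Finset.sum_eq_zero
  intro y _
  rw [← Finset.mul_sum]
  by_cases hy : y = 1
  · rw [hy, inv_one]
    have : linFun ψ₁ (1 : P) - linFun ψ₂ (1 : P) = 0 := by simp [linFun]
    rw [this, mul_zero, zero_mul]
  · have hyG : (y : G) ≠ 1 := fun e => hy (Subtype.ext e)
    obtain ⟨k, hk⟩ := (IsPGroup.iff_orderOf.1 hP) y
    have hk' : orderOf (y : G) = p ^ k := by rw [← hk, Subgroup.orderOf_coe]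
    have hreg1 : ¬ p ∣ orderOf (1 : G) := by
      rw [orderOf_one]
      exact hp.not_dvd_one
    have hpy : IsPPart p (y : G) (y : G) :=
      ⟨1, mul_one _, Commute.one_right _, ⟨k, hk'⟩, hreg1⟩
    have hpg : IsPPart p g 1 :=
      ⟨g, one_mul _, Commute.one_left _, ⟨0, by rw [orderOf_one, pow_zero]⟩, hg⟩
    have hnc : ¬ IsConj (y : G) 1 := by
      intro hc
      exact hyG (isConj_one_left.1 hc)
    rw [block_orthogonality hM (principalBlock M G) hBG (y : G) g (y : G) 1 hpy hpg hnc, mul_zero]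

/-- A character of the principal block is constant on the `p`-section of an element of an
abelian Sylow subgroup whose centralizer meets the normalizer in the centralizer. -/
theorem apply_eq_of_isPPart {p : ℕ} [hpf : Fact p.Prime] (hM : IsPModular p M) (P : Sylow p G)
    (hab : ∀ a ∈ (P : Subgroup G), ∀ b ∈ (P : Subgroup G), a * b = b * a)
    (y : G) (hy : y ∈ (P : Subgroup G))
    (hfrob : Subgroup.centralizer ({y} : Set G) ⊓ Subgroup.normalizer ((P : Subgroup G) : Set G)
      = Subgroup.centralizer ((P : Subgroup G) : Set G))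
    (χ : IrrCharacter G) (hχ : χ ∈ principalBlock M G) (z : G) (hzy : IsPPart p z y) :
    (χ : G → ℂ) z = (χ : G → ℂ) y := by
  classical
  have hp : p.Prime := hpf.out
  obtain ⟨hcompl, -, -⟩ := hasNormalPComplement_centralizer P hab y hy hfrob
  obtain ⟨h, hyh, hcomm, ⟨k, hk⟩, hreg⟩ := hzy
  haveI : Fintype ↥(Subgroup.centralizer ({y} : Set G)) := Fintype.ofFinite _
  have hconst := (blockRank_principal_eq_one_iff_const hM).1
    ((blockRank_principal_eq_one_iff hM).2 hcompl)
  have hmem : h ∈ Subgroup.centralizer ({y} : Set G) := by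
    rw [Subgroup.mem_centralizer_singleton_iff]
    exact hcomm.eq.symm
  have hregc : ¬ p ∣ orderOf (⟨h, hmem⟩ : ↥(Subgroup.centralizer ({y} : Set G))) := by
    rwa [Subgroup.orderOf_mk]
  have hreg1 : ¬ p ∣ orderOf (1 : ↥(Subgroup.centralizer ({y} : Set G))) := by
    rw [orderOf_one]
    exact hp.not_dvd_one
  have e1 := principal_section hM y k hk χ ⟨h, hmem⟩ hregc
  have e2 := principal_section hM y k hk χ 1 hreg1
  rw [if_pos hχ] at e1 e2
  rw [← hyh]
  have e3 : (χ : G → ℂ) y = (χ : G → ℂ) (y * ((1 : ↥(Subgroup.centralizer ({y} : Set G))) : G)) := by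
    rw [Subgroup.coe_one, mul_one]
  rw [e3, ← e2]
  change _ = _ at e1
  rw [← e1]
  apply Finset.sum_congr rfl
  intro ψ _
  by_cases hψ : ψ ∈ principalBlock M ↥(Subgroup.centralizer ({y} : Set G))
  · rw [hconst ψ hψ _ hregc, hconst ψ hψ _ hreg1]
  · rw [if_neg hψ, zero_mul, zero_mul]

/-- A character of the principal block does not vanish on an abelian Sylow subgroup. -/
theorem apply_ne_zero_of_mem_sylow {p : ℕ} [hpf : Fact p.Prime] (hM : IsPModular p M)
    (P : Sylow p G)
    (hab : ∀ a ∈ (P : Subgroup G), ∀ b ∈ (P : Subgroup G), a * b = b * a)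
    (χ : IrrCharacter G) (hχ : χ ∈ principalBlock M G) (y : G) (hy : y ∈ (P : Subgroup G)) :
    (χ : G → ℂ) y ≠ 0 := by
  intro h0
  have h1 : MemLocalIdeal M (centralChar (fun _ : G => (1 : ℂ)) y - centralChar (χ : G → ℂ) y) :=
    hχ y
  have h2 : centralChar (fun _ : G => (1 : ℂ)) y - centralChar (χ : G → ℂ) y
      = (((Subgroup.centralizer ({y} : Set G)).index : ℕ) : ℂ) := by
    unfold centralChar
    rw [h0]
    simp
  rw [h2] at h1
  have hPC : (P : Subgroup G) ≤ Subgroup.centralizer ({y} : Set G) := by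
    intro a ha
    rw [Subgroup.mem_centralizer_singleton_iff]
    exact hab a ha y hy
  have hnd : ¬ p ∣ (Subgroup.centralizer ({y} : Set G)).index := by
    intro hd
    exact P.not_dvd_index (hd.trans (Subgroup.index_dvd_of_le hPC))
  exact not_memLocalIdeal_natCast hM _ hnd h1

end Cfsg.Agent.Lib.helper3.Block
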