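import Mathlib
import Cfsg.Prelude.Def_Characters
import Cfsg.Agent.Lib.helper3.Pf4e
import Cfsg.Agent.Lib.helper3.GenChar

/-!
# The lattice argument behind the exceptional characters
-/

set_option autoImplicit false
set_option linter.style.haveILetI false
set_option linter.unusedSectionVars false

namespace Cfsg.Agent.Lib.helper3.Block

open Cfsg Cfsg.Agent.Lib.helper3.Irr Cfsg.Agent.Lib.helper3.CharBasic
open Cfsg.Agent.Lib.helper3.IndFun Cfsg.Agent.Lib.helper3.Pf4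
open scoped ComplexConjugate

universe u

variable {G : Type u} [Group G] [Fintype G]

theorem sum_ite_eq_mul_int {α : Type*} [DecidableEq α] (s : Finset α) (a : α) (ha : a ∈ s)
    (f : α → ℤ) (c : ℤ) : ∑ χ ∈ s, (if χ = a then c else 0) * f χ = c * f a := by
  rw [Finset.sum_eq_single a]
  · rw [if_pos rfl]
  · intro b _ hb
    rw [if_neg hb, zero_mul]
  · intro h
    exact absurd ha h

open Classical in
/-- The lattice argument. -/
theorem lattice_structure {ι : Type*} [Fintype ι] [DecidableEq ι] (i₀ i₁ : ι) (hi : i₁ ≠ i₀)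
    (Bf : Finset (IrrCharacter G)) (u : ι → IrrCharacter G → ℤ) (u₁ : IrrCharacter G → ℤ) (m : ℤ)
    (H1 : ∀ i j k : ι, ∑ χ ∈ Bf, (u i χ - u j χ) * u k χ
      = (if i = k then 1 else 0) - (if j = k then 1 else 0))
    (H2 : ∀ i j : ι, ∑ χ ∈ Bf, (u i χ - u j χ) * u₁ χ = 0)
    (H3 : ∀ i : ι, ∑ χ ∈ Bf, (u i χ - u₁ χ) ^ 2 = m + 1)
    (H4 : ∀ i j : ι, ∑ χ ∈ Bf, ((u i χ - u j χ : ℤ) : ℂ) * (χ : G → ℂ) 1 = 0) :
    ∃ (ε : ℤ) (μ : ι → IrrCharacter G) (w : IrrCharacter G → ℤ) (d₀ : ℤ),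
      (ε = 1 ∨ ε = -1) ∧ Function.Injective μ ∧ (∀ i, μ i ∈ Bf) ∧
      (∀ i, ∀ χ ∈ Bf, u i χ = u₁ χ + w χ + (if χ = μ i then ε else 0)) ∧
      (∀ i, w (μ i) = d₀) ∧
      ∑ χ ∈ Bf, (w χ) ^ 2 = m - 2 * ε * d₀ := by
  obtain ⟨z, hz⟩ : ∃ z : ι → IrrCharacter G → ℤ,
      z = fun k χ => if χ ∈ Bf then u k χ - u i₀ χ else 0 := ⟨_, rfl⟩
  obtain ⟨τ, hτ⟩ : ∃ τ : ι → (G → ℂ),
      τ = fun k => ∑ ψ : IrrCharacter G, (z k ψ : ℂ) • (ψ : G → ℂ) := ⟨_, rfl⟩
  have hzmem : ∀ k χ, χ ∈ Bf → z k χ = u k χ - u i₀ χ := by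
    intro k χ hχ
    rw [hz]
    exact if_pos hχ
  have hznot : ∀ k χ, χ ∉ Bf → z k χ = 0 := by
    intro k χ hχ
    rw [hz]
    exact if_neg hχ
  have h0 : τ i₀ = 0 := by
    rw [hτ]
    apply Finset.sum_eq_zero
    intro ψ _
    have : z i₀ ψ = 0 := by
      by_cases hψ : ψ ∈ Bf
      · rw [hzmem _ _ hψ, sub_self]
      · exact hznot _ _ hψ
    rw [this, Int.cast_zero, zero_smul]
  have hgen : ∀ i, IsGeneralizedCharacter G (τ i) := by
    intro i
    rw [hτ]
    exact Cfsg.Agent.Lib.helper3.GenChar.of_int_decomposition _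
  have hsumz : ∀ (k : ι) (f : IrrCharacter G → ℤ),
      ∑ ψ : IrrCharacter G, z k ψ * f ψ = ∑ χ ∈ Bf, (u k χ - u i₀ χ) * f χ := by
    intro k f
    rw [← Finset.sum_subset (Finset.subset_univ Bf)]
    · apply Finset.sum_congr rfl
      intro χ hχ
      rw [hzmem k χ hχ]
    · intro χ _ hχ
      rw [hznot k χ hχ, zero_mul]
  have hone : ∀ i, τ i 1 = 0 := by
    intro i
    rw [hτ]
    simp only [Finset.sum_apply, Pi.smul_apply, smul_eq_mul]
    rw [← H4 i i₀, ← Finset.sum_subset (Finset.subset_univ Bf)]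
    · apply Finset.sum_congr rfl
      intro χ hχ
      rw [hzmem i χ hχ]
    · intro χ _ hχ
      rw [hznot i χ hχ, Int.cast_zero, zero_mul]
  have hgram : ∀ i j, i ≠ i₀ → j ≠ i₀ → classInner (τ i) (τ j) = if i = j then 2 else 1 := by
    intro i j hi' hj'
    rw [hτ]
    simp only
    rw [classInner_int_decomposition, hsumz]
    have h1 : ∑ χ ∈ Bf, (u i χ - u i₀ χ) * z j χ
        = ∑ χ ∈ Bf, (u i χ - u i₀ χ) * u j χ - ∑ χ ∈ Bf, (u i χ - u i₀ χ) * u i₀ χ := by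
      rw [← Finset.sum_sub_distrib]
      apply Finset.sum_congr rfl
      intro χ hχ
      rw [hzmem j χ hχ]
      ring
    rw [h1, H1, H1, if_neg hi', if_pos rfl, if_neg (show ¬ i₀ = j from fun e => hj' e.symm)]
    by_cases hij : i = j
    · rw [if_pos hij, if_pos hij]
      norm_num
    · rw [if_neg hij, if_neg hij]
      norm_num
  obtain ⟨εc, hεc, μ', hμ', hinj, hτμ⟩ := exceptional_isometry' i₀ τ h0 hgen hone hgram
  obtain ⟨ε, hε, hεεc⟩ : ∃ ε : ℤ, (ε = 1 ∨ ε = -1) ∧ εc = (ε : ℂ) := by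
    rcases hεc with h | h
    · exact ⟨1, Or.inl rfl, by rw [h]; norm_num⟩
    · exact ⟨-1, Or.inr rfl, by rw [h]; norm_num⟩
  have hε2 : ε * ε = 1 := by
    rcases hε with h | h <;> rw [h] <;> norm_num
  have hε0 : ε ≠ 0 := by
    rcases hε with h | h <;> rw [h] <;> norm_num
  obtain ⟨μ, hμ⟩ : ∃ μ : ι → IrrCharacter G, μ = fun i => ⟨μ' i, hμ' i⟩ := ⟨_, rfl⟩
  have hμcoe : ∀ i, ((μ i : IrrCharacter G) : G → ℂ) = μ' i := by
    intro i
    rw [hμ]
  have hμinj : Function.Injective μ := by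
    intro i j hij
    apply hinj
    rw [← hμcoe i, ← hμcoe j, hij]
  -- the coefficients
  have hzeq : ∀ i χ, z i χ = ε * ((if χ = μ i then 1 else 0) - (if χ = μ i₀ then 1 else 0)) := by
    intro i χ
    have h1 : classInner (τ i) (χ : G → ℂ) = (z i χ : ℂ) := by
      rw [hτ]
      exact classInner_decomposition_left (fun ψ => (z i ψ : ℂ)) χ
    rw [hτμ i, classInner_smul_left, classInner_sub_left, irr_classInner_eq (hμ' i) χ.2,
      irr_classInner_eq (hμ' i₀) χ.2, hεεc] at h1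
    have e1 : (μ' i = (χ : G → ℂ)) ↔ χ = μ i := by
      rw [← hμcoe i]
      constructor
      · intro h
        exact (Subtype.ext h).symm
      · intro h
        rw [h]
    have e2 : (μ' i₀ = (χ : G → ℂ)) ↔ χ = μ i₀ := by
      rw [← hμcoe i₀]
      constructor
      · intro h
        exact (Subtype.ext h).symm
      · intro h
        rw [h]
    simp only [e1, e2] at h1
    have h2 : ((z i χ : ℤ) : ℂ)
        = ((ε * ((if χ = μ i then 1 else 0) - (if χ = μ i₀ then 1 else 0)) : ℤ) : ℂ) := by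
      rw [← h1]
      push_cast
      rfl
    exact_mod_cast h2
  have hμne : ∀ i, i ≠ i₀ → μ i ≠ μ i₀ := fun i h e => h (hμinj e)
  have hμmem : ∀ i, μ i ∈ Bf := by
    intro i
    by_cases hii : i = i₀
    · rw [hii]
      by_contra hnot
      have h1 := hzeq i₁ (μ i₀)
      rw [hznot _ _ hnot, if_neg (fun e => hμne i₁ hi e.symm), if_pos rfl] at h1
      have : ε = 0 := by linarith
      exact hε0 this
    · by_contra hnot
      have h1 := hzeq i (μ i)
      rw [hznot _ _ hnot, if_pos rfl, if_neg (hμne i hii)] at h1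
      have : ε = 0 := by linarith
      exact hε0 this
  obtain ⟨w, hw⟩ : ∃ w : IrrCharacter G → ℤ,
      w = fun χ => u i₀ χ - (if χ = μ i₀ then ε else 0) - u₁ χ := ⟨_, rfl⟩
  have hu : ∀ i, ∀ χ ∈ Bf, u i χ = u₁ χ + w χ + (if χ = μ i then ε else 0) := by
    intro i χ hχ
    have h1 := hzeq i χ
    rw [hzmem i χ hχ] at h1
    rw [hw]
    simp only
    have h2 : ε * ((if χ = μ i then 1 else 0) - (if χ = μ i₀ then 1 else 0))
        = (if χ = μ i then ε else 0) - (if χ = μ i₀ then ε else 0) := by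
      split_ifs <;> ring
    rw [h2] at h1
    linarith
  have hwconst : ∀ j, w (μ j) = w (μ i₀) := by
    intro j
    have h1 : ∑ χ ∈ Bf, (u j χ - u i₀ χ) * (u i₀ χ - u₁ χ)
        = (if j = i₀ then 1 else 0) - 1 := by
      have : ∑ χ ∈ Bf, (u j χ - u i₀ χ) * (u i₀ χ - u₁ χ)
          = ∑ χ ∈ Bf, (u j χ - u i₀ χ) * u i₀ χ - ∑ χ ∈ Bf, (u j χ - u i₀ χ) * u₁ χ := by
        rw [← Finset.sum_sub_distrib]
        apply Finset.sum_congr rfl
        intro χ _
        ring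
      rw [this, H1, H2, if_pos rfl, sub_zero]
    have h2 : ∑ χ ∈ Bf, (u j χ - u i₀ χ) * (u i₀ χ - u₁ χ)
        = ε * (w (μ j) + (if μ j = μ i₀ then ε else 0))
          - ε * (w (μ i₀) + ε) := by
      have : ∀ χ ∈ Bf, (u j χ - u i₀ χ) * (u i₀ χ - u₁ χ)
          = (if χ = μ j then ε else 0) * (w χ + (if χ = μ i₀ then ε else 0))
            - (if χ = μ i₀ then ε else 0) * (w χ + (if χ = μ i₀ then ε else 0)) := by
        intro χ hχ
        rw [hu j χ hχ, hu i₀ χ hχ]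
        ring
      rw [Finset.sum_congr rfl this, Finset.sum_sub_distrib,
        sum_ite_eq_mul_int Bf (μ j) (hμmem j), sum_ite_eq_mul_int Bf (μ i₀) (hμmem i₀),
        if_pos rfl]
    rw [h2] at h1
    by_cases hj : j = i₀
    · rw [hj]
    · rw [if_neg hj, if_neg (hμne j hj)] at h1
      have h3 : ε * (w (μ j) - w (μ i₀)) = 0 := by
        have : ε * (w (μ j) + 0) - ε * (w (μ i₀) + ε) = ε * (w (μ j) - w (μ i₀)) - ε * ε := by
          ring
        rw [this, hε2] at h1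
        linarith
      rcases mul_eq_zero.1 h3 with h | h
      · exact absurd h hε0
      · linarith
  refine ⟨ε, μ, w, w (μ i₀), hε, hμinj, hμmem, hu, hwconst, ?_⟩
  have h3 := H3 i₀
  have h4 : ∀ χ ∈ Bf, (u i₀ χ - u₁ χ) ^ 2
      = w χ ^ 2 + (if χ = μ i₀ then ε else 0) * (2 * w χ + ε) := by
    intro χ hχ
    rw [hu i₀ χ hχ]
    split_ifs <;> ring
  rw [Finset.sum_congr rfl h4, Finset.sum_add_distrib,
    sum_ite_eq_mul_int Bf (μ i₀) (hμmem i₀)] at h3
  have : ε * (2 * w (μ i₀) + ε) = 2 * ε * w (μ i₀) + ε * ε := by ring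
  rw [this, hε2] at h3
  linarith

end Cfsg.Agent.Lib.helper3.Block
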