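import Mathlib
import Cfsg.Prelude.Def_Blocks
import Cfsg.Agent.Lib.helper3.ColFrob5
import Cfsg.Agent.Lib.helper3.ColFrob6

/-!
# The structure of the multiplicity vectors on the principal block
-/

set_option autoImplicit false
set_option linter.style.haveILetI false
set_option linter.unusedSectionVars false

namespace Cfsg.Agent.Lib.helper3.Block

open Cfsg Cfsg.Agent.Lib.helper3.Irr Cfsg.Agent.Lib.helper3.CharBasic
open Cfsg.Agent.Lib.helper3.IndFun Cfsg.Agent.Lib.helper3.CycTI Cfsg.Agent.Lib.helper3.Pf4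
open Cfsg.Agent.Lib.helper3.Lin Cfsg.Agent.Lib.helper3.LocalM Cfsg.Agent.Lib.helper3.Central
open scoped ComplexConjugate

universe u

variable {G : Type u} [Group G] [Fintype G] {M : Ideal AlgInt}

open Classical in
/-- The structure of the multiplicity vectors. -/
theorem frob_core {p : ℕ} [hpf : Fact p.Prime] (hM : IsPModular p M) (P : Sylow p G)
    (hab : ∀ a ∈ (P : Subgroup G), ∀ b ∈ (P : Subgroup G), a * b = b * a)
    (hfrob : ∀ y : G, y ∈ (P : Subgroup G) → y ≠ 1 → Subgroup.centralizer ({y} : Set G)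
      ⊓ Subgroup.normalizer ((P : Subgroup G) : Set G)
        = Subgroup.centralizer ((P : Subgroup G) : Set G))
    (m : ℕ) (hm2 : m + 1 < Nat.card (P : Subgroup G))
    (hCN : (Subgroup.centralizer ((P : Subgroup G) : Set G)).relIndex
      (Subgroup.normalizer ((P : Subgroup G) : Set G)) = m) :
    ∃ (ε : ℤ) (ζ : (↥(P : Subgroup G) →* ℂˣ) → IrrCharacter G) (w : IrrCharacter G → ℤ)
      (d₀ : ℤ),
      (ε = 1 ∨ ε = -1) ∧
      (∀ ψ, ψ ≠ 1 → ζ ψ ∈ principalBlock M G) ∧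
      (∀ ψ ψ', ψ ≠ 1 → ψ' ≠ 1 → (ζ ψ = ζ ψ' ↔ TwRel (P : Subgroup G) ψ ψ')) ∧
      (∀ ψ, ψ ≠ 1 → ∀ χ ∈ principalBlock M G,
        resMult (P : Subgroup G) (χ : G → ℂ) ψ
          = resMult (P : Subgroup G) (χ : G → ℂ) 1 + (w χ : ℂ)
            + (if χ = ζ ψ then (ε : ℂ) else 0)) ∧
      (∀ ψ, ψ ≠ 1 → w (ζ ψ) = d₀) ∧
      (∑ᶠ χ ∈ principalBlock M G, (w χ) ^ 2 = (m : ℤ) - 2 * ε * d₀) ∧
      Nat.card {χ : IrrCharacter G | ∃ ψ, ψ ≠ 1 ∧ ζ ψ = χ} * m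
        = Nat.card (P : Subgroup G) - 1 := by
  haveI : Fintype (↥(P : Subgroup G) →* ℂˣ) := Fintype.ofFinite _
  haveI : Fintype (Quotient (twSetoid (P : Subgroup G))) := Fintype.ofFinite _
  obtain ⟨Bf, hBfdef⟩ : ∃ Bf : Finset (IrrCharacter G),
      Bf = Finset.univ.filter (fun χ : IrrCharacter G => χ ∈ principalBlock M G) := ⟨_, rfl⟩
  have hBf : ∀ χ, χ ∈ Bf ↔ χ ∈ principalBlock M G := by
    intro χ
    rw [hBfdef, Finset.mem_filter]
    simp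
  have hnat : ∀ (ψ : ↥(P : Subgroup G) →* ℂˣ) (χ : IrrCharacter G),
      ∃ n : ℤ, resMult (P : Subgroup G) (χ : G → ℂ) ψ = (n : ℂ) := by
    intro ψ χ
    obtain ⟨n, hn⟩ := exists_nat_resMult (P : Subgroup G) (isCharacter_of_isIrrCharacter χ.2) ψ
    exact ⟨n, by rw [hn]; simp⟩
  choose uZ huZ using hnat
  -- the integral Gram relations
  have hG1 : ∀ ψ₁ ψ₂ ψ₃ : ↥(P : Subgroup G) →* ℂˣ, ψ₃ ≠ 1 →
      ∑ χ ∈ Bf, (uZ ψ₁ χ - uZ ψ₂ χ) * uZ ψ₃ χ
        = (if TwRel (P : Subgroup G) ψ₁ ψ₃ then 1 else 0)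
          - (if TwRel (P : Subgroup G) ψ₂ ψ₃ then 1 else 0) := by
    intro ψ₁ ψ₂ ψ₃ h₃
    have h := gram_resMult_ne_one hM P hab hfrob ψ₁ ψ₂ ψ₃ h₃
    rw [finsum_mem_eq_sum_filter_irr, ← hBfdef] at h
    have e : ((∑ χ ∈ Bf, (uZ ψ₁ χ - uZ ψ₂ χ) * uZ ψ₃ χ : ℤ) : ℂ)
        = (((if TwRel (P : Subgroup G) ψ₁ ψ₃ then 1 else 0)
          - (if TwRel (P : Subgroup G) ψ₂ ψ₃ then 1 else 0) : ℤ) : ℂ) := by
      push_cast
      rw [← h]
      apply Finset.sum_congr rfl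
      intro χ _
      rw [huZ, huZ, huZ, map_intCast]
    exact_mod_cast e
  have hG2 : ∀ ψ₁ ψ₂ : ↥(P : Subgroup G) →* ℂˣ,
      ∑ χ ∈ Bf, (uZ ψ₁ χ - uZ ψ₂ χ) * uZ 1 χ
        = (m : ℤ) * ((if ψ₁ = 1 then 1 else 0) - (if ψ₂ = 1 then 1 else 0)) := by
    intro ψ₁ ψ₂
    have h := gram_resMult_one hM P hab hfrob ψ₁ ψ₂
    rw [finsum_mem_eq_sum_filter_irr, ← hBfdef, hCN] at h
    have e : ((∑ χ ∈ Bf, (uZ ψ₁ χ - uZ ψ₂ χ) * uZ 1 χ : ℤ) : ℂ)
        = (((m : ℤ) * ((if ψ₁ = 1 then 1 else 0) - (if ψ₂ = 1 then 1 else 0)) : ℤ) : ℂ) := by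
      push_cast
      rw [← h]
      apply Finset.sum_congr rfl
      intro χ _
      rw [huZ, huZ, huZ, map_intCast]
    exact_mod_cast e
  have hG4 : ∀ ψ₁ ψ₂ : ↥(P : Subgroup G) →* ℂˣ,
      ∑ χ ∈ Bf, ((uZ ψ₁ χ - uZ ψ₂ χ : ℤ) : ℂ) * (χ : G → ℂ) 1 = 0 := by
    intro ψ₁ ψ₂
    have h := sum_resMult_sub_mul_conj_apply hM (P : Subgroup G) P.isPGroup' ψ₁ ψ₂ 1
      (by rw [orderOf_one]; exact hpf.out.not_dvd_one)
    rw [finsum_mem_eq_sum_filter_irr, ← hBfdef] at h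
    rw [← h]
    apply Finset.sum_congr rfl
    intro χ _
    rw [huZ, huZ, apply_one_eq_charDegree, Complex.conj_natCast]
    push_cast
    rfl
  -- representatives
  obtain ⟨rep, hrep⟩ : ∃ rep : Quotient (twSetoid (P : Subgroup G))
      → {ψ : ↥(P : Subgroup G) →* ℂˣ // ψ ≠ 1},
      ∀ k, Quotient.mk (twSetoid (P : Subgroup G)) (rep k) = k :=
    ⟨Quotient.out, Quotient.out_eq⟩
  have hrel : ∀ i k, TwRel (P : Subgroup G) (rep i).1 (rep k).1 ↔ i = k := by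
    intro i k
    constructor
    · intro h
      have h2 : Quotient.mk (twSetoid (P : Subgroup G)) (rep i)
          = Quotient.mk (twSetoid (P : Subgroup G)) (rep k) := Quotient.sound h
      rw [hrep, hrep] at h2
      exact h2
    · intro h
      rw [h]
      exact twRel_refl _ _
  have hcard := card_quotient_mul (P : Subgroup G) hab hfrob
  rw [hCN] at hcard
  have hr2 : 1 < Fintype.card (Quotient (twSetoid (P : Subgroup G))) := by
    rw [← Nat.card_eq_fintype_card]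
    by_contra hle
    have hle' : Nat.card (Quotient (twSetoid (P : Subgroup G))) ≤ 1 := by omega
    have : Nat.card (Quotient (twSetoid (P : Subgroup G))) * m ≤ 1 * m :=
      Nat.mul_le_mul_right m hle'
    omega
  obtain ⟨i₁, i₀, hi⟩ := Fintype.one_lt_card_iff.1 hr2
  have H1 : ∀ i j k : Quotient (twSetoid (P : Subgroup G)),
      ∑ χ ∈ Bf, (uZ (rep i).1 χ - uZ (rep j).1 χ) * uZ (rep k).1 χ
        = (if i = k then 1 else 0) - (if j = k then 1 else 0) := by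
    intro i j k
    rw [hG1 _ _ _ (rep k).2]
    simp only [hrel]
  have H2 : ∀ i j : Quotient (twSetoid (P : Subgroup G)),
      ∑ χ ∈ Bf, (uZ (rep i).1 χ - uZ (rep j).1 χ) * uZ 1 χ = 0 := by
    intro i j
    rw [hG2, if_neg (rep i).2, if_neg (rep j).2, sub_self, mul_zero]
  have H3 : ∀ i : Quotient (twSetoid (P : Subgroup G)),
      ∑ χ ∈ Bf, (uZ (rep i).1 χ - uZ 1 χ) ^ 2 = (m : ℤ) + 1 := by
    intro i
    have h1 : ∑ χ ∈ Bf, (uZ (rep i).1 χ - uZ 1 χ) ^ 2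
        = ∑ χ ∈ Bf, (uZ (rep i).1 χ - uZ 1 χ) * uZ (rep i).1 χ
          - ∑ χ ∈ Bf, (uZ (rep i).1 χ - uZ 1 χ) * uZ 1 χ := by
      rw [← Finset.sum_sub_distrib]
      apply Finset.sum_congr rfl
      intro χ _
      ring
    rw [h1, hG1 _ _ _ (rep i).2, hG2, if_pos (twRel_refl _ _),
      if_neg (fun h => (rep i).2 ((twRel_one_left_iff _ _).1 h)), if_neg (rep i).2, if_pos rfl]
    ring
  obtain ⟨ε, μ, w, d₀, hε, hμinj, hμmem, hu, hwc, hw2⟩ :=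
    lattice_structure i₀ i₁ hi Bf (fun k => uZ (rep k).1) (uZ 1) (m : ℤ) H1 H2 H3
      (fun i j => hG4 _ _)
  obtain ⟨ζ, hζdef⟩ : ∃ ζ : (↥(P : Subgroup G) →* ℂˣ) → IrrCharacter G,
      ζ = fun ψ => if h : ψ ≠ 1 then μ (Quotient.mk (twSetoid (P : Subgroup G)) ⟨ψ, h⟩)
        else μ i₀ := ⟨_, rfl⟩
  have hζ : ∀ (ψ : ↥(P : Subgroup G) →* ℂˣ) (h : ψ ≠ 1),
      ζ ψ = μ (Quotient.mk (twSetoid (P : Subgroup G)) ⟨ψ, h⟩) := by
    intro ψ h
    rw [hζdef]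
    exact dif_pos h
  refine ⟨ε, ζ, w, d₀, hε, ?_, ?_, ?_, ?_, ?_, ?_⟩
  · intro ψ h
    rw [hζ ψ h]
    exact (hBf _).1 (hμmem _)
  · intro ψ ψ' h h'
    rw [hζ ψ h, hζ ψ' h']
    constructor
    · intro e
      exact Quotient.exact (hμinj e)
    · intro e
      congr 1
      exact Quotient.sound e
  · intro ψ h χ hχ
    have h1 : TwRel (P : Subgroup G) ψ
        (rep (Quotient.mk (twSetoid (P : Subgroup G)) ⟨ψ, h⟩)).1 := by
      have := Quotient.exact (hrep (Quotient.mk (twSetoid (P : Subgroup G)) ⟨ψ, h⟩))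
      exact twRel_symm _ this
    rw [resMult_eq_of_twRel (P : Subgroup G)
      (isClassFunction_of_isCharacter (isCharacter_of_isIrrCharacter χ.2)) h1, huZ, huZ,
      hu _ χ ((hBf χ).2 hχ), hζ ψ h]
    push_cast
    rfl
  · intro ψ h
    rw [hζ ψ h]
    exact hwc _
  · rw [finsum_mem_eq_sum_filter_irr, ← hBfdef]
    exact hw2
  · rw [← hcard]
    congr 1
    have hset : {χ : IrrCharacter G | ∃ ψ, ψ ≠ 1 ∧ ζ ψ = χ} = Set.range μ := by
      ext χ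
      constructor
      · rintro ⟨ψ, h, rfl⟩
        exact ⟨_, (hζ ψ h).symm⟩
      · rintro ⟨k, rfl⟩
        refine ⟨(rep k).1, (rep k).2, ?_⟩
        rw [hζ _ (rep k).2]
        congr 1
        exact hrep k
    rw [hset]
    exact Nat.card_congr (Equiv.ofInjective μ hμinj).symm

end Cfsg.Agent.Lib.helper3.Block
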