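import Mathlib
import Cfsg.Prelude.Def_Blocks
import Cfsg.Agent.Lib.helper3.ColFrob7

/-!
# Values of the characters of the principal block from the multiplicity vectors
-/

set_option autoImplicit false
set_option linter.style.haveILetI false
set_option linter.unusedSectionVars false

namespace Cfsg.Agent.Lib.helper3.Block

open Cfsg Cfsg.Agent.Lib.helper3.Irr Cfsg.Agent.Lib.helper3.CharBasic
open Cfsg.Agent.Lib.helper3.IndFun Cfsg.Agent.Lib.helper3.CycTI Cfsg.Agent.Lib.helper3.Pf4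
open Cfsg.Agent.Lib.helper3.Lin Cfsg.Agent.Lib.helper3.LocalM Cfsg.Agent.Lib.helper3.Central
open scoped ComplexConjugate

universe u

variable {G : Type u} [Group G] [Fintype G] {M : Ideal AlgInt}

open scoped IsMulCommutative in
theorem exists_hom_apply_ne_one (P : Subgroup G) (hab : ∀ a ∈ P, ∀ b ∈ P, a * b = b * a)
    (y : P) (hy : y ≠ 1) : ∃ β : P →* ℂˣ, β y ≠ 1 := by
  haveI : IsMulCommutative P := ⟨⟨fun a b => Subtype.ext (hab a a.2 b b.2)⟩⟩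
  haveI : NeZero ((Monoid.exponent P : ℕ) : ℂ) :=
    ⟨Nat.cast_ne_zero.mpr Monoid.exponent_ne_zero_of_finite⟩
  exact CommGroup.exists_apply_ne_one_of_hasEnoughRootsOfUnity P ℂ hy

theorem sum_hom_apply_eq_zero (P : Subgroup G) (hab : ∀ a ∈ P, ∀ b ∈ P, a * b = b * a)
    [Fintype (P →* ℂˣ)] (y : P) (hy : y ≠ 1) :
    ∑ ψ : P →* ℂˣ, ((ψ y : ℂˣ) : ℂ) = 0 := by
  haveI : Fintype P := Fintype.ofFinite _
  obtain ⟨β, hβ⟩ := exists_hom_apply_ne_one P hab y hy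
  have h := sum_mul_hom_eq_zero β y hβ (fun _ => (1 : ℂ)) (fun _ => rfl)
  simpa using h

open Classical in
/-- The values on the abelian subgroup from the multiplicities. -/
theorem value_formula (P : Subgroup G) (hab : ∀ a ∈ P, ∀ b ∈ P, a * b = b * a)
    [Fintype (P →* ℂˣ)] (χ : IrrCharacter G) (ζ : (P →* ℂˣ) → IrrCharacter G) (wχ εc : ℂ)
    (hZ3 : ∀ ψ : P →* ℂˣ, ψ ≠ 1 → resMult P (χ : G → ℂ) ψ
      = resMult P (χ : G → ℂ) 1 + wχ + (if χ = ζ ψ then εc else 0))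
    (y : P) (hy : y ≠ 1) :
    (χ : G → ℂ) (y : G) = -wχ
      + εc * ∑ ψ : P →* ℂˣ, (if ψ ≠ 1 ∧ χ = ζ ψ then ((ψ y : ℂˣ) : ℂ) else 0) := by
  have hS0 := sum_hom_apply_eq_zero P hab y hy
  rw [apply_eq_sum_resMult P hab (isCharacter_of_isIrrCharacter χ.2) y]
  have h1 : ∀ ψ : P →* ℂˣ, resMult P (χ : G → ℂ) ψ * ((ψ y : ℂˣ) : ℂ)
      = resMult P (χ : G → ℂ) 1 * ((ψ y : ℂˣ) : ℂ) + wχ * ((ψ y : ℂˣ) : ℂ)
        - (if ψ = 1 then wχ else 0)
        + εc * (if ψ ≠ 1 ∧ χ = ζ ψ then ((ψ y : ℂˣ) : ℂ) else 0) := by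
    intro ψ
    by_cases hψ : ψ = 1
    · rw [hψ, if_pos rfl, if_neg (fun h => h.1 rfl)]
      simp
    · rw [hZ3 ψ hψ, if_neg hψ]
      by_cases hχ : χ = ζ ψ
      · rw [if_pos hχ, if_pos ⟨hψ, hχ⟩]
        ring
      · rw [if_neg hχ, if_neg (fun h => hχ h.2)]
        ring
  rw [Finset.sum_congr rfl (fun ψ _ => h1 ψ), Finset.sum_add_distrib, Finset.sum_sub_distrib,
    Finset.sum_add_distrib, ← Finset.mul_sum, ← Finset.mul_sum, ← Finset.mul_sum, hS0,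
    Finset.sum_ite_eq' Finset.univ (1 : P →* ℂˣ) (fun _ => wχ), if_pos (Finset.mem_univ _)]
  ring

open Classical in
theorem finsum_mem_const_irr {A : Type*} [AddCommMonoid A] (Y : Set (IrrCharacter G)) (c : A) :
    ∑ᶠ _χ ∈ Y, c = Nat.card Y • c := by
  rw [finsum_mem_eq_sum_filter_irr, Finset.sum_const, Nat.card_eq_fintype_card,
    Fintype.card_subtype]

open Classical in
/-- The relation on `p`-regular elements. -/
theorem regular_relation {p : ℕ} [hpf : Fact p.Prime] (hM : IsPModular p M)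
    (P : Subgroup G) (hP : IsPGroup p P)
    (ζ : (P →* ℂˣ) → IrrCharacter G) (w : IrrCharacter G → ℤ) (ε : ℤ)
    (hZ1 : ∀ ψ, ψ ≠ 1 → ζ ψ ∈ principalBlock M G)
    (hZ3 : ∀ ψ, ψ ≠ 1 → ∀ χ ∈ principalBlock M G,
      resMult P (χ : G → ℂ) ψ = resMult P (χ : G → ℂ) 1 + (w χ : ℂ)
        + (if χ = ζ ψ then (ε : ℂ) else 0))
    (g : G) (hg : ¬ p ∣ orderOf g) (ψ : P →* ℂˣ) (hψ : ψ ≠ 1) :
    ∑ᶠ χ ∈ principalBlock M G, (w χ : ℂ) * (χ : G → ℂ) g
      + (ε : ℂ) * (ζ ψ : G → ℂ) g = 0 := by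
  have hg' : ¬ p ∣ orderOf g⁻¹ := by rwa [orderOf_inv]
  have h := sum_resMult_sub_mul_conj_apply hM P hP ψ 1 g⁻¹ hg'
  rw [finsum_mem_eq_sum_filter_irr] at h ⊢
  have h1 : ∀ χ ∈ Finset.univ.filter (fun χ : IrrCharacter G => χ ∈ principalBlock M G),
      (resMult P (χ : G → ℂ) ψ - resMult P (χ : G → ℂ) 1) * conj ((χ : G → ℂ) g⁻¹)
        = (w χ : ℂ) * (χ : G → ℂ) g + (if χ = ζ ψ then (ε : ℂ) * (χ : G → ℂ) g else 0) := by
    intro χ hχ
    have hχ' : χ ∈ principalBlock M G := (Finset.mem_filter.1 hχ).2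
    rw [hZ3 ψ hψ χ hχ', isCharacter_apply_inv (isCharacter_of_isIrrCharacter χ.2),
      Complex.conj_conj]
    split_ifs <;> ring
  rw [Finset.sum_congr rfl h1, Finset.sum_add_distrib, Finset.sum_ite_eq', if_pos] at h
  · exact h
  · rw [Finset.mem_filter]
    exact ⟨Finset.mem_univ _, hZ1 ψ hψ⟩

end Cfsg.Agent.Lib.helper3.Block
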