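import Mathlib
import Cfsg.Prelude.Def_Blocks
import Cfsg.Agent.Lib.helper3.ColFrob8

/-!
# The principal block of a group with an abelian Sylow subgroup with Frobenius-like normalizer
-/

set_option autoImplicit false
set_option linter.style.haveILetI false
set_option linter.unusedSectionVars false

namespace Cfsg.Agent.Lib.helper3.Block

open Cfsg Cfsg.Agent.Lib.helper3.Irr Cfsg.Agent.Lib.helper3.CharBasic
open Cfsg.Agent.Lib.helper3.IndFun Cfsg.Agent.Lib.helper3.CycTI Cfsg.Agent.Lib.helper3.Pf4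
open Cfsg.Agent.Lib.helper3.Lin Cfsg.Agent.Lib.helper3.LocalM Cfsg.Agent.Lib.helper3.Central
open scoped ComplexConjugate

universe u

variable {G : Type u} [Group G] [Fintype G]

set_option maxHeartbeats 1600000 in
open Classical in
/-- The structure of the principal block. -/
theorem frob_structure (p : ℕ) [hpf : Fact p.Prime] (M : Ideal Cfsg.AlgInt)
    (hM : Cfsg.IsPModular p M) (P : Sylow p G) (hab : IsMulCommutative P)
    (m : ℕ) (hm1 : 1 < m) (hm2 : m + 1 < Nat.card P)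
    (hCN : (Subgroup.centralizer ((P : Subgroup G) : Set G)).relIndex (Subgroup.normalizer ((P : Subgroup G) : Set G)) = m)
    (hfrob : ∀ y : G, y ∈ (P : Subgroup G) → y ≠ 1 → Subgroup.centralizer ({y} : Set G) ⊓ Subgroup.normalizer ((P : Subgroup G) : Set G) = Subgroup.centralizer ((P : Subgroup G) : Set G)) :
    ∃ (s : ℕ) (X Y : Set (Cfsg.IrrCharacter G)), s ≤ m ∧ Cfsg.principalBlock M G = X ∪ Y ∧ Disjoint X Y ∧ Nat.card X = s ∧ Nat.card Y = (Nat.card P - 1) / m ∧ (∃ χ₁ ∈ X, (χ₁ : G → ℂ) = fun _ => 1) ∧ ∃ (a : Cfsg.IrrCharacter G → ℤ) (d δ : ℤ) (ζ : (↥(P : Subgroup G) →* ℂˣ) → Cfsg.IrrCharacter G), (δ = 1 ∨ δ = -1) ∧ (∀ χ ∈ X, a χ ≠ 0 ∧ ∀ z y : G, Cfsg.IsPPart p z y → y ∈ (P : Subgroup G) → y ≠ 1 → (χ : G → ℂ) z = (a χ : ℂ)) ∧ (∀ ψ : ↥(P : Subgroup G) →* ℂˣ, ψ ≠ 1 → ζ ψ ∈ Y) ∧ (∀ η ∈ Y, ∃ ψ : ↥(P : Subgroup G) →* ℂˣ, ψ ≠ 1 ∧ ζ ψ = η) ∧ (∀ ψ ψ'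 : ↥(P : Subgroup G) →* ℂˣ, ψ ≠ 1 → (∃ n : G, n ∈ Subgroup.normalizer ((P : Subgroup G) : Set G) ∧ ∀ w w' : ↥(P : Subgroup G), (w' : G) = n * w * n⁻¹ → ψ' w' = ψ w) → ζ ψ' = ζ ψ) ∧ (∀ ψ : ↥(P : Subgroup G) →* ℂˣ, ψ ≠ 1 → ∀ (z : G) (y : ↥(P : Subgroup G)), Cfsg.IsPPart p z (y : G) → (y : G) ≠ 1 → (ζ ψ : G → ℂ) z = (d : ℂ) + (δ : ℂ) * ∑ᶠ ψ' ∈ {ψ' : ↥(P : Subgroup G) →* ℂˣ | ∃ n : G, n ∈ Subgroup.normalizer ((P : Subgroup G) : Set G) ∧ ∀ w w' : ↥(P : Subgroup G), (w' : G) = n * w * n⁻¹ → ψ' w' = ψ w}, ((ψ' y : ℂˣ) : ℂ)) ∧ ((d - δ) ^ 2 + ((Nat.card P - 1) / m - 1 : ℤ) * d ^ 2 + ∑ᶠ χ ∈ X, a χ ^ 2 = (m : ℤ) + 1) ∧ (∀ η ∈ Y, ∀ η' ∈ Y, ∀ g : G, ¬ p ∣ orderOf g → (η : G → ℂ) g = (η' : G → ℂ) g) ∧ (∀ η ∈ Y, ∀ g : G, ¬ p ∣ orderOf g → ((((Nat.card P - 1) / m : ℕ) : ℂ) * d - δ) * (η : G → ℂ) g + ∑ᶠ χ ∈ X, (a χ : ℂ) * (χ : G → ℂ) g = 0) := by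
  have hp : p.Prime := hpf.out
  have hab' : ∀ a ∈ (P : Subgroup G), ∀ b ∈ (P : Subgroup G), a * b = b * a :=
    fun a ha b hb => congrArg Subtype.val (hab.is_comm.comm ⟨a, ha⟩ ⟨b, hb⟩)
  haveI : Fintype (↥(P : Subgroup G) →* ℂˣ) := Fintype.ofFinite _
  have hm2' : m + 1 < Nat.card (P : Subgroup G) := hm2
  obtain ⟨ε, ζ, w, d₀, hε, hZ1, hZ2, hZ3, hZ4, hZ5, hZ6⟩ :=
    frob_core hM P hab' hfrob m hm2' hCN
  have hMtop : M ≠ ⊤ := hM.2.1.ne_top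
  obtain ⟨Y, hY⟩ : ∃ Y : Set (IrrCharacter G), Y = {χ | ∃ ψ, ψ ≠ 1 ∧ ζ ψ = χ} := ⟨_, rfl⟩
  obtain ⟨X, hX⟩ : ∃ X : Set (IrrCharacter G), X = principalBlock M G \ Y := ⟨_, rfl⟩
  have hYmem : ∀ χ, χ ∈ Y ↔ ∃ ψ, ψ ≠ 1 ∧ ζ ψ = χ := by
    intro χ
    rw [hY]
    rfl
  have hYB : Y ⊆ principalBlock M G := by
    intro χ hχ
    obtain ⟨ψ, h, rfl⟩ := (hYmem χ).1 hχ
    exact hZ1 ψ h
  have hXB : X ⊆ principalBlock M G := by
    rw [hX]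
    exact Set.diff_subset
  have hXY : ∀ χ ∈ X, χ ∉ Y := by
    intro χ hχ
    rw [hX] at hχ
    exact hχ.2
  have hunion : principalBlock M G = X ∪ Y := by
    rw [hX, Set.diff_union_of_subset hYB]
  have hdisj : Disjoint X Y := by
    rw [hX]
    exact Set.disjoint_sdiff_left
  have hm0 : 0 < m := by omega
  rw [← hY] at hZ6
  have hcardY : Nat.card Y = (Nat.card P - 1) / m :=
    (Nat.div_eq_of_eq_mul_left hm0 hZ6.symm).symm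
  have hr2 : 2 ≤ Nat.card Y := by
    by_contra hlt
    have h1 : Nat.card Y ≤ 1 := by omega
    have h2 := Nat.mul_le_mul_right m h1
    omega
  have hε2 : ε * ε = 1 := by
    rcases hε with h | h <;> rw [h] <;> norm_num
  have hε0 : (ε : ℂ) ≠ 0 := by
    rcases hε with h | h <;> rw [h] <;> norm_num
  -- a second class
  have hsecond : ∀ ψ : ↥(P : Subgroup G) →* ℂˣ, ψ ≠ 1 → ∃ ψ', ψ' ≠ 1 ∧ ζ ψ' ≠ ζ ψ := by
    intro ψ hψ
    by_contra hall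
    push Not at hall
    have hYs : Y = {ζ ψ} := by
      ext χ
      rw [hYmem, Set.mem_singleton_iff]
      constructor
      · rintro ⟨ψ', h', rfl⟩
        exact hall ψ' h'
      · intro h
        exact ⟨ψ, hψ, h.symm⟩
    rw [hYs, Nat.card_coe_set_eq, Set.ncard_singleton] at hr2
    omega
  -- the trivial character
  obtain ⟨one, hone⟩ : ∃ one : IrrCharacter G, one = Cfsg.Agent.Lib.helper3.PrincOnly.one G :=
    ⟨_, rfl⟩
  have hone_coe : (one : G → ℂ) = fun _ => 1 := by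
    rw [hone]
    rfl
  have honeB : one ∈ principalBlock M G := by
    rw [hone]
    exact sameBlock_refl hMtop _
  have honeX : one ∈ X := by
    rw [hX]
    refine ⟨honeB, ?_⟩
    intro hmem
    obtain ⟨ψ, hψ, hζψ⟩ := (hYmem one).1 hmem
    obtain ⟨ψ', hψ', hne⟩ := hsecond ψ hψ
    have e1 := hZ3 ψ hψ one honeB
    have e2 := hZ3 ψ' hψ' one honeB
    rw [hone_coe, resMult_one, resMult_one, if_neg hψ, if_pos rfl, if_pos hζψ.symm] at e1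
    rw [hone_coe, resMult_one, resMult_one, if_neg hψ', if_pos rfl,
      if_neg (fun h => hne (h.symm.trans hζψ.symm))] at e2
    apply hε0
    linear_combination e2 - e1
  -- the values on `P`
  have hval : ∀ χ ∈ principalBlock M G, ∀ y : ↥(P : Subgroup G), y ≠ 1 →
      (χ : G → ℂ) (y : G) = -(w χ : ℂ) + (ε : ℂ)
        * ∑ ψ : ↥(P : Subgroup G) →* ℂˣ,
          (if ψ ≠ 1 ∧ χ = ζ ψ then ((ψ y : ℂˣ) : ℂ) else 0) :=
    fun χ hχ y hy => value_formula (P : Subgroup G) hab' χ ζ (w χ) ε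
      (fun ψ hψ => hZ3 ψ hψ χ hχ) y hy
  have hvalX : ∀ χ ∈ X, ∀ y : ↥(P : Subgroup G), y ≠ 1 →
      (χ : G → ℂ) (y : G) = ((-w χ : ℤ) : ℂ) := by
    intro χ hχ y hy
    rw [hval χ (hXB hχ) y hy, Finset.sum_eq_zero, mul_zero, add_zero]
    · push_cast
      rfl
    · intro ψ _
      rw [if_neg]
      rintro ⟨h1, h2⟩
      exact hXY χ hχ ((hYmem χ).2 ⟨ψ, h1, h2.symm⟩)
  have hrelset : ∀ ψ₀ ψ' : ↥(P : Subgroup G) →* ℂˣ, ψ₀ ≠ 1 →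
      ((ψ' ≠ 1 ∧ ζ ψ₀ = ζ ψ') ↔ ψ' ∈ {ψ' : ↥(P : Subgroup G) →* ℂˣ | ∃ n : G,
        n ∈ Subgroup.normalizer ((P : Subgroup G) : Set G) ∧
        ∀ w w' : ↥(P : Subgroup G), (w' : G) = n * w * n⁻¹ → ψ' w' = ψ₀ w}) := by
    intro ψ₀ ψ' h₀
    rw [Set.mem_setOf_eq, ← twRel_iff]
    constructor
    · rintro ⟨h', e⟩
      exact (hZ2 ψ₀ ψ' h₀ h').1 e
    · intro h
      have h' : ψ' ≠ 1 := by
        intro e
        rw [e] at h
        exact h₀ ((twRel_one_right_iff _ _).1 h)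
      exact ⟨h', (hZ2 ψ₀ ψ' h₀ h').2 h⟩
  have hvalY : ∀ ψ₀ : ↥(P : Subgroup G) →* ℂˣ, ψ₀ ≠ 1 → ∀ y : ↥(P : Subgroup G), y ≠ 1 →
      (ζ ψ₀ : G → ℂ) (y : G) = ((-d₀ : ℤ) : ℂ) + (ε : ℂ)
        * ∑ᶠ ψ' ∈ {ψ' : ↥(P : Subgroup G) →* ℂˣ | ∃ n : G,
          n ∈ Subgroup.normalizer ((P : Subgroup G) : Set G) ∧
          ∀ w w' : ↥(P : Subgroup G), (w' : G) = n * w * n⁻¹ → ψ' w' = ψ₀ w},
            ((ψ' y : ℂˣ) : ℂ) := by
    intro ψ₀ h₀ y hy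
    rw [hval (ζ ψ₀) (hZ1 ψ₀ h₀) y hy, hZ4 ψ₀ h₀, finsum_mem_def, finsum_eq_sum_of_fintype]
    push_cast
    congr 2
    apply Finset.sum_congr rfl
    intro ψ' _
    rw [Set.indicator_apply]
    by_cases hmem : ψ' ∈ {ψ' : ↥(P : Subgroup G) →* ℂˣ | ∃ n : G,
        n ∈ Subgroup.normalizer ((P : Subgroup G) : Set G) ∧
        ∀ w w' : ↥(P : Subgroup G), (w' : G) = n * w * n⁻¹ → ψ' w' = ψ₀ w}
    · rw [if_pos hmem, if_pos ((hrelset ψ₀ ψ' h₀).2 hmem)]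
    · rw [if_neg hmem, if_neg (fun h => hmem ((hrelset ψ₀ ψ' h₀).1 h))]
  -- a nonidentity element
  obtain ⟨y₀, hy₀⟩ : ∃ y₀ : ↥(P : Subgroup G), y₀ ≠ 1 := by
    have h1 : 1 < Nat.card ↥(P : Subgroup G) := by omega
    haveI := Finite.one_lt_card_iff_nontrivial.1 h1
    exact exists_ne 1
  have hA : ∀ χ ∈ X, (-w χ) ≠ 0 ∧ ∀ z y : G, IsPPart p z y → y ∈ (P : Subgroup G) → y ≠ 1 →
      (χ : G → ℂ) z = ((-w χ : ℤ) : ℂ) := by
    intro χ hχ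
    constructor
    · intro h0
      have h1 := hvalX χ hχ y₀ hy₀
      rw [h0, Int.cast_zero] at h1
      exact apply_ne_zero_of_mem_sylow hM P hab' χ (hXB hχ) y₀ y₀.2 h1
    · intro z y hzy hy hy1
      rw [apply_eq_of_isPPart hM P hab' y hy (hfrob y hy hy1) χ (hXB hχ) z hzy]
      exact hvalX χ hχ ⟨y, hy⟩ (fun e => hy1 (congrArg Subtype.val e))
  -- the relations on regular elements
  have hreg : ∀ (g : G), ¬ p ∣ orderOf g → ∀ ψ : ↥(P : Subgroup G) →* ℂˣ, ψ ≠ 1 →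
      ∑ᶠ χ ∈ principalBlock M G, (w χ : ℂ) * (χ : G → ℂ) g
        + (ε : ℂ) * (ζ ψ : G → ℂ) g = 0 :=
    fun g hg ψ hψ => regular_relation hM (P : Subgroup G) P.isPGroup' ζ w ε hZ1 hZ3 g hg ψ hψ
  have hG : ∀ η ∈ Y, ∀ η' ∈ Y, ∀ g : G, ¬ p ∣ orderOf g →
      (η : G → ℂ) g = (η' : G → ℂ) g := by
    intro η hη η' hη' g hg
    obtain ⟨ψ, hψ, rfl⟩ := (hYmem η).1 hη
    obtain ⟨ψ', hψ', rfl⟩ := (hYmem η').1 hη'
    have r1 := hreg g hg ψ hψ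
    have r2 := hreg g hg ψ' hψ'
    apply mul_left_cancel₀ hε0
    linear_combination r1 - r2
  have hwY : ∀ χ ∈ Y, w χ = d₀ := by
    intro χ hχ
    obtain ⟨ψ, hψ, rfl⟩ := (hYmem χ).1 hχ
    exact hZ4 ψ hψ
  -- the quadratic identity
  have hsplit : ∑ᶠ χ ∈ principalBlock M G, (w χ) ^ 2
      = ∑ᶠ χ ∈ X, (w χ) ^ 2 + Nat.card Y • d₀ ^ 2 := by
    rw [hunion, finsum_mem_union hdisj (Set.toFinite _) (Set.toFinite _)]
    congr 1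
    rw [← finsum_mem_const_irr]
    apply finsum_mem_congr rfl
    intro χ hχ
    rw [hwY χ hχ]
  have hP1 : 1 ≤ Nat.card P := Nat.card_pos
  have hdiv : ((Nat.card P : ℤ) - 1) / (m : ℤ) = (Nat.card Y : ℤ) := by
    have h1 : ((Nat.card P : ℤ) - 1) = (Nat.card Y : ℤ) * (m : ℤ) := by
      have h2 : ((Nat.card Y * m : ℕ) : ℤ) = ((Nat.card (P : Subgroup G) - 1 : ℕ) : ℤ) := by
        rw [hZ6]
      rw [Nat.cast_sub hP1] at h2
      push_cast at h2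
      rw [← h2]
    rw [h1]
    exact Int.mul_ediv_cancel _ (by exact_mod_cast hm0.ne')
  have hnegsq : ∑ᶠ χ ∈ X, (-w χ) ^ 2 = ∑ᶠ χ ∈ X, (w χ) ^ 2 := by
    apply finsum_mem_congr rfl
    intro χ _
    ring
  have hF : (-d₀ - ε) ^ 2 + (((Nat.card P : ℤ) - 1) / (m : ℤ) - 1) * (-d₀) ^ 2
      + ∑ᶠ χ ∈ X, (-w χ) ^ 2 = (m : ℤ) + 1 := by
    rw [hdiv, hnegsq]
    rw [hsplit] at hZ5
    rw [nsmul_eq_mul] at hZ5
    linear_combination hZ5 + hε2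
  -- the bound on `s`
  have hs : Nat.card X ≤ m := by
    have h1 : (Nat.card X : ℤ) ≤ ∑ᶠ χ ∈ X, (-w χ) ^ 2 := by
      rw [finsum_mem_eq_sum_filter_irr, Nat.card_eq_fintype_card, Fintype.card_subtype]
      have h2 := Finset.card_nsmul_le_sum
        (Finset.univ.filter (fun χ : IrrCharacter G => χ ∈ X)) (fun χ => (-w χ) ^ 2) 1 (by
          intro χ hχ
          have hχ' : χ ∈ X := (Finset.mem_filter.1 hχ).2
          have h3 := (hA χ hχ').1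
          have h4 : 0 < (-w χ) ^ 2 := by positivity
          linarith)
      rw [nsmul_eq_mul, mul_one] at h2
      exact h2
    have h5 : (1 : ℤ) ≤ (-d₀ - ε) ^ 2 + (((Nat.card P : ℤ) - 1) / (m : ℤ) - 1) * (-d₀) ^ 2 := by
      rw [hdiv]
      have hr : (1 : ℤ) ≤ (Nat.card Y : ℤ) - 1 := by
        have : (2 : ℤ) ≤ (Nat.card Y : ℤ) := by exact_mod_cast hr2
        linarith
      by_cases hd : d₀ = 0
      · rw [hd]
        have : (-(0 : ℤ) - ε) ^ 2 = 1 := by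
          rw [← hε2]
          ring
        rw [this]
        simp
      · have h6 : 0 < d₀ ^ 2 := by positivity
        have h7 : 0 ≤ (-d₀ - ε) ^ 2 := by positivity
        have h8 : (-d₀) ^ 2 = d₀ ^ 2 := by ring
        rw [h8]
        nlinarith
    have h9 : (Nat.card X : ℤ) ≤ (m : ℤ) := by linarith
    exact_mod_cast h9
  refine ⟨Nat.card X, X, Y, hs, hunion, hdisj, rfl, hcardY, ⟨one, honeX, hone_coe⟩,
    fun χ => -w χ, -d₀, ε, ζ, hε, hA, ?_, ?_, ?_, ?_, hF, hG, ?_⟩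
  · intro ψ hψ
    exact (hYmem _).2 ⟨ψ, hψ, rfl⟩
  · intro η hη
    exact (hYmem η).1 hη
  · intro ψ ψ' hψ hrel
    have h1 := (hrelset ψ ψ' hψ).2 hrel
    exact h1.2.symm
  · intro ψ hψ z y hzy hy1
    rw [apply_eq_of_isPPart hM P hab' (y : G) y.2 (hfrob (y : G) y.2 hy1) (ζ ψ) (hZ1 ψ hψ) z hzy]
    exact hvalY ψ hψ y (fun e => hy1 (by rw [e]; rfl))
  · intro η hη g hg
    obtain ⟨ψ, hψ, hηψ⟩ := (hYmem η).1 hη
    have r1 := hreg g hg ψ hψ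
    rw [hηψ, hunion, finsum_mem_union hdisj (Set.toFinite _) (Set.toFinite _)] at r1
    have hYsum : ∑ᶠ χ ∈ Y, (w χ : ℂ) * (χ : G → ℂ) g
        = Nat.card Y • ((d₀ : ℂ) * (η : G → ℂ) g) := by
      rw [← finsum_mem_const_irr]
      apply finsum_mem_congr rfl
      intro χ hχ
      rw [hwY χ hχ, hG χ hχ η hη g hg]
    have hXsum : ∑ᶠ χ ∈ X, (((-w χ : ℤ)) : ℂ) * (χ : G → ℂ) g
        = - ∑ᶠ χ ∈ X, (w χ : ℂ) * (χ : G → ℂ) g := by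
      rw [← finsum_mem_neg_distrib _ (Set.toFinite X)]
      apply finsum_mem_congr rfl
      intro χ _
      push_cast
      ring
    rw [hYsum, nsmul_eq_mul] at r1
    rw [hXsum, ← hcardY]
    push_cast
    linear_combination (-1 : ℂ) * r1

end Cfsg.Agent.Lib.helper3.Block
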