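import Mathlib
import Cfsg.Prelude.Def_OddOrderChar
import Cfsg.Agent.Lib.helper3.Coh6

set_option autoImplicit false
set_option linter.style.haveILetI false
set_option linter.unusedSectionVars false

/-!
# The coherence criterion of Feit: the arithmetic
-/

namespace Cfsg.Agent.Lib.helper3.Coh

open Cfsg Module Cfsg.Agent.Lib.helper3.CharBasic Cfsg.Agent.Lib.helper3.IndFun
open Cfsg.Agent.Lib.helper3.Irr
open scoped ComplexConjugate

variable {G : Type*} [Group G] [Fintype G] {N : Type*} [Group N] [Fintype N]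

/-- The arithmetic heart: the sum of squares of the coefficients. -/
theorem sum_sq_eq {ι : Type*} [DecidableEq ι] (s : Finset ι) (ψ : ι) (hψ : ψ ∈ s) (d : ι → ℤ)
    (a : ι → ℤ) (x m : ℤ)
    (ha : ∀ ξ ∈ s, d ψ * a ξ = d ξ * x - (if ξ = ψ then m * d ψ else 0)) :
    d ψ ^ 2 * ∑ ξ ∈ s, a ξ ^ 2 = x ^ 2 * ∑ ξ ∈ s, d ξ ^ 2 - 2 * x * m * d ψ ^ 2 + m ^ 2 * d ψ ^ 2 := by
  have h1 : d ψ ^ 2 * ∑ ξ ∈ s, a ξ ^ 2 =
      ∑ ξ ∈ s, (d ξ * x - (if ξ = ψ then m * d ψ else 0)) ^ 2 := by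
    rw [Finset.mul_sum]
    apply Finset.sum_congr rfl
    intro ξ hξ
    rw [← ha ξ hξ]
    ring
  have h2 : ∀ ξ ∈ s, (d ξ * x - (if ξ = ψ then m * d ψ else 0)) ^ 2 =
      x ^ 2 * d ξ ^ 2 + (if ξ = ψ then - 2 * x * m * d ψ ^ 2 + m ^ 2 * d ψ ^ 2 else 0) := by
    intro ξ _
    by_cases h : ξ = ψ
    · rw [if_pos h, if_pos h, h]
      ring
    · rw [if_neg h, if_neg h]
      ring
  rw [h1, Finset.sum_congr rfl h2, Finset.sum_add_distrib, ← Finset.mul_sum,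
    Finset.sum_ite_eq' s ψ, if_pos hψ]
  ring

/-- The arithmetic heart: the weighted sum of the coefficients. -/
theorem sum_deg_eq {ι : Type*} [DecidableEq ι] (s : Finset ι) (ψ : ι) (hψ : ψ ∈ s) (d : ι → ℤ)
    (a : ι → ℤ) (x m : ℤ)
    (ha : ∀ ξ ∈ s, d ψ * a ξ = d ξ * x - (if ξ = ψ then m * d ψ else 0)) :
    d ψ * ∑ ξ ∈ s, a ξ * d ξ = x * ∑ ξ ∈ s, d ξ ^ 2 - m * d ψ ^ 2 := by
  have h1 : d ψ * ∑ ξ ∈ s, a ξ * d ξ =
      ∑ ξ ∈ s, (d ξ * x - (if ξ = ψ then m * d ψ else 0)) * d ξ := by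
    rw [Finset.mul_sum]
    apply Finset.sum_congr rfl
    intro ξ hξ
    rw [← ha ξ hξ]
    ring
  have h2 : ∀ ξ ∈ s, (d ξ * x - (if ξ = ψ then m * d ψ else 0)) * d ξ =
      x * d ξ ^ 2 + (if ξ = ψ then - (m * d ψ ^ 2) else 0) := by
    intro ξ _
    by_cases h : ξ = ψ
    · rw [if_pos h, if_pos h, h]
      ring
    · rw [if_neg h, if_neg h]
      ring
  rw [h1, Finset.sum_congr rfl h2, Finset.sum_add_distrib, ← Finset.mul_sum,
    Finset.sum_ite_eq' s ψ, if_pos hψ]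
  ring

/-- The arithmetic heart: the parameter vanishes. -/
theorem param_eq_zero (T dψ m x k : ℤ) (hdψ : 0 < dψ) (hm : 0 < m) (hk : 0 ≤ k)
    (hlt : 2 * m * dψ ^ 2 < T)
    (hE : dψ ^ 2 = x ^ 2 * T - 2 * x * m * dψ ^ 2 + dψ ^ 2 * k)
    (hdeg : k = 0 → x * T = m * dψ ^ 2) : x = 0 := by
  by_contra hx
  have hd2 : 0 < dψ ^ 2 := by positivity
  have hx2 : 1 ≤ x ^ 2 := by
    have : 0 < x ^ 2 := by positivity
    omega
  have hxx : 0 ≤ x ^ 2 - x := by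
    rcases lt_or_gt_of_ne hx with h | h
    · nlinarith
    · nlinarith
  have hmd : 0 < m * dψ ^ 2 := mul_pos hm hd2
  have hpos : 1 ≤ x ^ 2 * T - 2 * x * m * dψ ^ 2 := by
    have h1 : x ^ 2 * (2 * m * dψ ^ 2 + 1) ≤ x ^ 2 * T := by
      apply mul_le_mul_of_nonneg_left _ (by positivity)
      omega
    have h2 : 0 ≤ 2 * (m * dψ ^ 2) * (x ^ 2 - x) := by positivity
    nlinarith
  have hk0 : k = 0 := by
    by_contra hk0
    have hk1 : 1 ≤ k := by omega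
    have : dψ ^ 2 ≤ dψ ^ 2 * k := by nlinarith
    omega
  have hxS := hdeg hk0
  have hT : 0 < T := by linarith
  have hxpos : 0 < x := by
    by_contra hneg
    have hx0 : x ≤ 0 := by omega
    have : x * T ≤ 0 := mul_nonpos_of_nonpos_of_nonneg hx0 hT.le
    omega
  have : T ≤ x * T := by nlinarith
  linarith

end Cfsg.Agent.Lib.helper3.Coh
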