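import Mathlib
import Cfsg.Prelude.Def_OddOrderChar
import Cfsg.Agent.Lib.helper3.Coh7

set_option autoImplicit false
set_option linter.style.haveILetI false
set_option linter.unusedSectionVars false

/-!
# The coherence criterion of Feit
-/

namespace Cfsg.Agent.Lib.helper3.Coh

open Cfsg Module Cfsg.Agent.Lib.helper3.CharBasic Cfsg.Agent.Lib.helper3.IndFun
open Cfsg.Agent.Lib.helper3.Irr
open scoped ComplexConjugate

variable {G : Type*} [Group G] [Fintype G] {N : Type*} [Group N] [Fintype N]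

/-- The one-dimensional isometry sending `χ` to `Δ`. -/
theorem isometry_singleton {χ : N → ℂ} (hχ : IsIrrCharacter N χ) {Δ : G → ℂ}
    (hΔ : IsGeneralizedCharacter G Δ) (hΔ1 : classInner Δ Δ = 1) :
    IsLinearIsometryOn (zspan ({χ} : Set (N → ℂ))) (fun θ => classInner θ χ • Δ) := by
  have hχχ : classInner χ χ = 1 := by rw [irr_classInner_eq hχ hχ, if_pos rfl]
  refine ⟨?_, ?_, ?_, ?_⟩
  · intro θ _ θ' _
    show classInner (θ + θ') χ • Δ = classInner θ χ • Δ + classInner θ' χ • Δ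
    rw [classInner_add_left, add_smul]
  · intro θ _ n
    show classInner (n • θ) χ • Δ = n • (classInner θ χ • Δ)
    rw [classInner_zsmul_left, mul_smul, zsmul_eq_smul]
  · intro θ hθ θ' hθ'
    obtain ⟨z, rfl⟩ := mem_zspan_singleton hθ
    obtain ⟨z', rfl⟩ := mem_zspan_singleton hθ'
    show classInner (classInner (z • χ) χ • Δ) (classInner (z' • χ) χ • Δ)
      = classInner (z • χ) (z' • χ)
    rw [classInner_zsmul_left, classInner_zsmul_left, hχχ, mul_one, mul_one,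
      classInner_smul_left, classInner_smul_right, hΔ1, classInner_zsmul_right,
      classInner_zsmul_left, hχχ, map_intCast]
    ring
  · intro θ hθ
    obtain ⟨z, rfl⟩ := mem_zspan_singleton hθ
    show IsGeneralizedCharacter G (classInner (z • χ) χ • Δ)
    rw [classInner_zsmul_left, hχχ, mul_one]
    exact GenChar.smul_intCast hΔ z

/-- Feit's coherence criterion, for the set written as a union. -/
theorem feit_union (S₀ : Finset (N → ℂ)) (χ : N → ℂ)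
    (hirr : ∀ ξ ∈ S₀, IsIrrCharacter N ξ) (hχ : IsIrrCharacter N χ) (hχS : χ ∉ S₀)
    (d : (N → ℂ) → ℕ) (hd : ∀ ξ ∈ insert χ S₀, ξ 1 = (d ξ : ℂ)) (τ : (N → ℂ) → (G → ℂ))
    (hτ : IsLinearIsometryOn (zspanOn ((↑S₀ : Set (N → ℂ)) ∪ {χ}) {1}ᶜ) τ)
    (hτ1 : ∀ α ∈ zspanOn ((↑S₀ : Set (N → ℂ)) ∪ {χ}) {1}ᶜ, τ α 1 = 0)
    (hcoh : IsCoherent (↑S₀ : Set (N → ℂ)) {1}ᶜ τ) (ψ : N → ℂ) (hψ : ψ ∈ S₀)
    (hdvd : d ψ ∣ d χ) (hlt : 2 * d ψ * d χ < ∑ ξ ∈ S₀, d ξ ^ 2) :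
    IsCoherent ((↑S₀ : Set (N → ℂ)) ∪ {χ}) {1}ᶜ τ := by
  classical
  obtain ⟨hne, σ, hσ, hστ⟩ := hcoh
  obtain ⟨m, hm⟩ := hdvd
  obtain ⟨S, hS⟩ : ∃ S : Set (N → ℂ), S = (↑S₀ : Set (N → ℂ)) ∪ {χ} := ⟨_, rfl⟩
  rw [← hS] at hτ hτ1 ⊢
  have hS₀S : (↑S₀ : Set (N → ℂ)) ⊆ S := by rw [hS]; exact Set.subset_union_left
  have hχmem : χ ∈ S := by rw [hS]; exact Or.inr rfl
  have hψS : ψ ∈ S := hS₀S (Finset.mem_coe.mpr hψ)
  have hirrψ := hirr ψ hψ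
  have hdψ : ψ 1 = (d ψ : ℂ) := hd ψ (Finset.mem_insert_of_mem hψ)
  have hdχ : χ 1 = (d χ : ℂ) := hd χ (Finset.mem_insert_self _ _)
  have hdξ : ∀ ξ ∈ S₀, ξ 1 = (d ξ : ℂ) := fun ξ hξ => hd ξ (Finset.mem_insert_of_mem hξ)
  have hdψpos : 0 < d ψ := by
    rcases Nat.eq_zero_or_pos (d ψ) with h | h
    · exfalso
      apply apply_one_ne_zero hirrψ
      rw [hdψ, h, Nat.cast_zero]
    · exact h
  have hdχpos : 0 < d χ := by
    rcases Nat.eq_zero_or_pos (d χ) with h | h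
    · exfalso
      apply apply_one_ne_zero hχ
      rw [hdχ, h, Nat.cast_zero]
    · exact h
  have hmpos : 0 < m := by
    rcases Nat.eq_zero_or_pos m with h | h
    · rw [h, mul_zero] at hm; omega
    · exact h
  have hχψ : χ ≠ ψ := fun h => hχS (h ▸ hψ)
  -- inner products
  have hχχ : classInner χ χ = 1 := by rw [irr_classInner_eq hχ hχ, if_pos rfl]
  have hψψ : classInner ψ ψ = 1 := by rw [irr_classInner_eq hirrψ hirrψ, if_pos rfl]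
  have hχξ : ∀ ξ ∈ S₀, classInner χ ξ = 0 := by
    intro ξ hξ
    rw [irr_classInner_eq hχ (hirr ξ hξ), if_neg (fun h : χ = ξ => hχS (h ▸ hξ))]
  have hξχ : ∀ ξ ∈ S₀, classInner ξ χ = 0 := by
    intro ξ hξ
    rw [irr_classInner_eq (hirr ξ hξ) hχ, if_neg (fun h : ξ = χ => hχS (h ▸ hξ))]
  -- the difference
  obtain ⟨α, hα⟩ : ∃ α : N → ℂ, α = (1 : ℤ) • χ + (-(m : ℤ)) • ψ := ⟨_, rfl⟩
  have hαmem : α ∈ zspanOn S {1}ᶜ := by
    rw [mem_zspanOn_one_iff]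
    refine ⟨?_, ?_⟩
    · rw [hα]
      exact zspan_add (zspan_zsmul _ (mem_zspan_of_mem hχmem)) (zspan_zsmul _ (mem_zspan_of_mem hψS))
    · rw [hα, comb_apply, hdχ, hdψ, hm]
      push_cast
      ring
  have hαα : classInner α α = ((1 + (m : ℤ) ^ 2 : ℤ) : ℂ) := by
    rw [hα]
    simp only [classInner_add_left, classInner_add_right, classInner_zsmul_left,
      classInner_zsmul_right, hχχ, hψψ, hχξ ψ hψ, hξχ ψ hψ]
    push_cast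
    ring
  obtain ⟨A, hA⟩ : ∃ A : G → ℂ, A = τ α := ⟨_, rfl⟩
  have hAgen : IsGeneralizedCharacter G A := by rw [hA]; exact hτ.2.2.2 α hαmem
  have hA1 : A 1 = 0 := by rw [hA]; exact hτ1 α hαmem
  have hAA : classInner A A = ((1 + (m : ℤ) ^ 2 : ℤ) : ℂ) := by
    rw [hA, hτ.2.2.1 α hαmem α hαmem, hαα]
  -- orthonormality of the images
  have hσσ : ∀ ξ ∈ S₀, ∀ ξ' ∈ S₀, classInner (σ ξ) (σ ξ') = if ξ = ξ' then 1 else 0 := by
    intro ξ hξ ξ' hξ'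
    rw [hσ.2.2.1 ξ (mem_zspan_of_mem (Finset.mem_coe.mpr hξ)) ξ'
      (mem_zspan_of_mem (Finset.mem_coe.mpr hξ')), irr_classInner_eq (hirr ξ hξ) (hirr ξ' hξ')]
  have hσgen : ∀ ξ ∈ S₀, IsGeneralizedCharacter G (σ ξ) := fun ξ hξ =>
    hσ.2.2.2 ξ (mem_zspan_of_mem (Finset.mem_coe.mpr hξ))
  -- integer coefficients
  have hex : ∀ ξ : N → ℂ, ∃ z : ℤ, ξ ∈ S₀ → classInner A (σ ξ) = (z : ℂ) := by
    intro ξ
    by_cases hξ : ξ ∈ S₀
    · obtain ⟨z, hz⟩ := exists_int_classInner hAgen (hσgen ξ hξ)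
      exact ⟨z, fun _ => hz⟩
    · exact ⟨0, fun h => absurd h hξ⟩
  choose a ha using hex
  -- the differences inside S₀
  have hβ : ∀ ξ ∈ S₀, ((d ψ : ℤ) • ξ + (-(d ξ : ℤ)) • ψ) ∈ zspanOn (↑S₀ : Set (N → ℂ)) {1}ᶜ := by
    intro ξ hξ
    rw [mem_zspanOn_one_iff]
    refine ⟨zspan_add (zspan_zsmul _ (mem_zspan_of_mem (Finset.mem_coe.mpr hξ)))
      (zspan_zsmul _ (mem_zspan_of_mem (Finset.mem_coe.mpr hψ))), ?_⟩
    rw [comb_apply, hdξ ξ hξ, hdψ]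
    push_cast
    ring
  have hσβ : ∀ ξ ∈ S₀, σ ((d ψ : ℤ) • ξ + (-(d ξ : ℤ)) • ψ) =
      (d ψ : ℤ) • σ ξ + (-(d ξ : ℤ)) • σ ψ := by
    intro ξ hξ
    rw [hσ.1 _ (zspan_zsmul _ (mem_zspan_of_mem (Finset.mem_coe.mpr hξ))) _
      (zspan_zsmul _ (mem_zspan_of_mem (Finset.mem_coe.mpr hψ))),
      hσ.2.1 _ (mem_zspan_of_mem (Finset.mem_coe.mpr hξ)),
      hσ.2.1 _ (mem_zspan_of_mem (Finset.mem_coe.mpr hψ))]
  -- the key relation
  obtain ⟨x, hx⟩ : ∃ x : ℤ, x = a ψ + (m : ℤ) := ⟨_, rfl⟩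
  have hrel : ∀ ξ ∈ S₀, (d ψ : ℤ) * a ξ =
      (d ξ : ℤ) * x - (if ξ = ψ then (m : ℤ) * (d ψ : ℤ) else 0) := by
    intro ξ hξ
    by_cases hξψ : ξ = ψ
    · rw [if_pos hξψ, hξψ, hx]
      ring
    · rw [if_neg hξψ]
      have h1 : classInner A (σ ((d ψ : ℤ) • ξ + (-(d ξ : ℤ)) • ψ)) =
          classInner α ((d ψ : ℤ) • ξ + (-(d ξ : ℤ)) • ψ) := by
        rw [hστ _ (hβ ξ hξ), hA]
        exact hτ.2.2.1 α hαmem _ (zspanOn_mono _ hS₀S (hβ ξ hξ))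
      have hψξ : classInner ψ ξ = 0 := by
        rw [irr_classInner_eq hirrψ (hirr ξ hξ), if_neg (fun h : ψ = ξ => hξψ h.symm)]
      rw [hσβ ξ hξ, hα] at h1
      simp only [classInner_add_left, classInner_add_right, classInner_zsmul_left,
        classInner_zsmul_right, ha ξ hξ, ha ψ hψ, hχξ ξ hξ, hχξ ψ hψ, hψψ, hψξ] at h1
      have h2 : (((d ψ : ℤ) * a ξ : ℤ) : ℂ) = (((d ξ : ℤ) * x - 0 : ℤ) : ℂ) := by
        rw [hx]
        push_cast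
        push_cast at h1
        linear_combination h1
      exact_mod_cast h2
  -- the projection
  obtain ⟨hΔσ, hbes⟩ := bessel S₀ σ hσσ A a (fun ξ hξ => ha ξ hξ)
  obtain ⟨Δ, hΔ⟩ : ∃ Δ : G → ℂ, Δ = A - ∑ ξ ∈ S₀, a ξ • σ ξ := ⟨_, rfl⟩
  rw [← hΔ] at hΔσ hbes
  have hΔgen : IsGeneralizedCharacter G Δ := by
    rw [hΔ]
    apply GenChar.sub hAgen
    apply GenChar.sum
    intro ξ hξ
    exact GenChar.zsmul (hσgen ξ hξ) _
  obtain ⟨k, hk⟩ := exists_nat_norm hΔgen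
  -- the main equation
  obtain ⟨T, hT⟩ : ∃ T : ℤ, T = ∑ ξ ∈ S₀, (d ξ : ℤ) ^ 2 := ⟨_, rfl⟩
  have hsq := sum_sq_eq S₀ ψ hψ (fun ξ => (d ξ : ℤ)) a x (m : ℤ) hrel
  rw [← hT] at hsq
  have hnorm : (1 + (m : ℤ) ^ 2 : ℤ) = ∑ ξ ∈ S₀, a ξ ^ 2 + (k : ℤ) := by
    have h1 : ((1 + (m : ℤ) ^ 2 : ℤ) : ℂ) = ((∑ ξ ∈ S₀, a ξ ^ 2 + (k : ℤ) : ℤ) : ℂ) := by
      rw [← hAA, hbes, hk]
      push_cast
      rfl
    exact_mod_cast h1
  have hE : (d ψ : ℤ) ^ 2 = x ^ 2 * T - 2 * x * (m : ℤ) * (d ψ : ℤ) ^ 2 + (d ψ : ℤ) ^ 2 * (k : ℤ) := by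
    have h1 : (d ψ : ℤ) ^ 2 * (1 + (m : ℤ) ^ 2) =
        (d ψ : ℤ) ^ 2 * (∑ ξ ∈ S₀, a ξ ^ 2) + (d ψ : ℤ) ^ 2 * (k : ℤ) := by
      rw [hnorm]; ring
    rw [hsq] at h1
    linarith
  have hltT : 2 * (m : ℤ) * (d ψ : ℤ) ^ 2 < T := by
    rw [hT]
    have h1 : ((2 * d ψ * d χ : ℕ) : ℤ) < ((∑ ξ ∈ S₀, d ξ ^ 2 : ℕ) : ℤ) := by exact_mod_cast hlt
    rw [hm] at h1
    push_cast at h1
    linarith
  -- degrees of the images
  have hσdeg : ∀ ξ ∈ S₀, (d ψ : ℂ) * σ ξ 1 = (d ξ : ℂ) * σ ψ 1 := by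
    intro ξ hξ
    have h1 := hτ1 _ (zspanOn_mono _ hS₀S (hβ ξ hξ))
    rw [← hστ _ (hβ ξ hξ), hσβ ξ hξ, comb_apply] at h1
    push_cast at h1
    linear_combination h1
  have hσψ1 : σ ψ 1 ≠ 0 :=
    apply_one_ne_zero_of_norm_one (hσgen ψ hψ) (by rw [hσσ ψ hψ ψ hψ, if_pos rfl])
  have hdeg : (k : ℤ) = 0 → x * T = (m : ℤ) * (d ψ : ℤ) ^ 2 := by
    intro hk0
    have hΔ0 : Δ = 0 := by
      apply eq_zero_of_classInner_self_eq_zero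
      rw [hk]
      exact_mod_cast hk0
    have hAsum : A = ∑ ξ ∈ S₀, a ξ • σ ξ := by
      rw [hΔ0] at hΔ
      exact (sub_eq_zero.mp hΔ.symm)
    have h1 : ∑ ξ ∈ S₀, (a ξ : ℂ) * σ ξ 1 = 0 := by
      rw [← hA1, hAsum, Finset.sum_apply]
      apply Finset.sum_congr rfl
      intro ξ _
      rw [Pi.smul_apply, zsmul_eq_mul]
    have h2 : (d ψ : ℂ) ^ 2 * ∑ ξ ∈ S₀, (a ξ : ℂ) * σ ξ 1 =
        σ ψ 1 * (((d ψ : ℤ) * ∑ ξ ∈ S₀, a ξ * (d ξ : ℤ) : ℤ) : ℂ) := by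
      push_cast
      rw [Finset.mul_sum, Finset.mul_sum, Finset.mul_sum]
      apply Finset.sum_congr rfl
      intro ξ hξ
      have := hσdeg ξ hξ
      linear_combination (d ψ : ℂ) * (a ξ : ℂ) * this
    rw [h1, mul_zero, sum_deg_eq S₀ ψ hψ (fun ξ => (d ξ : ℤ)) a x (m : ℤ) hrel, ← hT] at h2
    have h3 : ((x * T - (m : ℤ) * (d ψ : ℤ) ^ 2 : ℤ) : ℂ) = 0 := by
      rcases mul_eq_zero.mp h2.symm with h | h
      · exact absurd h hσψ1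
      · exact h
    have h4 : x * T - (m : ℤ) * (d ψ : ℤ) ^ 2 = 0 := by exact_mod_cast h3
    linarith
  have hx0 : x = 0 := param_eq_zero T (d ψ : ℤ) (m : ℤ) x (k : ℤ) (by exact_mod_cast hdψpos)
    (by exact_mod_cast hmpos) (by positivity) hltT hE hdeg
  -- consequences
  have hdψne : (d ψ : ℤ) ≠ 0 := by
    have : 0 < (d ψ : ℤ) := by exact_mod_cast hdψpos
    omega
  have haψ : a ψ = -(m : ℤ) := by rw [hx0] at hx; linarith
  have haξ : ∀ ξ ∈ S₀, ξ ≠ ψ → a ξ = 0 := by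
    intro ξ hξ hξψ
    have h1 := hrel ξ hξ
    rw [if_neg hξψ, hx0, mul_zero, sub_zero] at h1
    rcases mul_eq_zero.mp h1 with h | h
    · exact absurd h hdψne
    · exact h
  have hk1 : k = 1 := by
    rw [hx0] at hE
    have h1 : (d ψ : ℤ) ^ 2 * ((k : ℤ) - 1) = 0 := by linarith
    rcases mul_eq_zero.mp h1 with h | h
    · exact absurd ((pow_eq_zero_iff two_ne_zero).mp h) hdψne
    · omega
  have hΔΔ : classInner Δ Δ = 1 := by rw [hk, hk1, Nat.cast_one]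
  have hAΔ : A = Δ + (-(m : ℤ)) • σ ψ := by
    have h1 : ∑ ξ ∈ S₀, a ξ • σ ξ = (-(m : ℤ)) • σ ψ := by
      rw [Finset.sum_eq_single ψ]
      · rw [haψ]
      · intro ξ hξ hξψ
        rw [haξ ξ hξ hξψ, zero_smul]
      · intro h; exact absurd hψ h
    rw [hΔ, h1, sub_add_cancel]
  -- the extension
  obtain ⟨σ', hσ'⟩ : ∃ σ' : (N → ℂ) → (G → ℂ), σ' = fun θ => classInner θ χ • Δ := ⟨_, rfl⟩
  have hσ'iso : IsLinearIsometryOn (zspan ({χ} : Set (N → ℂ))) σ' := by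
    rw [hσ']
    exact isometry_singleton hχ hΔgen hΔΔ
  have hirrX : ∀ ξ ∈ (↑S₀ : Set (N → ℂ)), IsIrrCharacter N ξ := fun ξ hξ =>
    hirr ξ (Finset.mem_coe.mp hξ)
  have hirrY : ∀ ξ ∈ ({χ} : Set (N → ℂ)), IsIrrCharacter N ξ := by
    intro ξ hξ
    rw [Set.mem_singleton_iff.mp hξ]
    exact hχ
  have hXY : Disjoint (↑S₀ : Set (N → ℂ)) {χ} := by
    rw [Set.disjoint_singleton_right]
    exact fun h => hχS (Finset.mem_coe.mp h)
  have hcross : ∀ ξ ∈ (↑S₀ : Set (N → ℂ)), ∀ η ∈ ({χ} : Set (N → ℂ)),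
      classInner (σ ξ) (σ' η) = 0 := by
    intro ξ hξ η hη
    rw [Set.mem_singleton_iff.mp hη, hσ']
    show classInner (σ ξ) (classInner χ χ • Δ) = 0
    have h0 : classInner (σ ξ) Δ = 0 := by
      rw [← classInner_conj_symm, hΔσ ξ (Finset.mem_coe.mp hξ), map_zero]
    rw [classInner_smul_right, h0, mul_zero]
  refine ⟨?_, glue (↑S₀) {χ} σ σ', ⟨?_, ?_, ?_, ?_⟩, ?_⟩
  · obtain ⟨α₀, hα₀, hα₀ne⟩ := hne
    exact ⟨α₀, zspanOn_mono _ hS₀S hα₀, hα₀ne⟩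
  · intro θ _ θ' _
    exact glue_add _ _ σ σ' θ θ'
  · intro θ _ n
    exact glue_zsmul _ _ σ σ' n θ
  · intro θ hθ θ' hθ'
    rw [hS] at hθ hθ'
    exact glue_isometry _ _ hirrX hirrY hXY σ σ' hσ hσ'iso hcross hθ hθ'
  · intro θ hθ
    rw [hS] at hθ
    exact glue_isGeneralizedCharacter _ _ hirrX hirrY σ σ' hσ hσ'iso hθ
  · intro θ hθ
    have hθS := hθ
    rw [hS, mem_zspanOn_one_iff] at hθ
    obtain ⟨θX, θY, hθX, hθY, hsum, hglue, -⟩ :=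
      exists_split _ _ hirrX hirrY hXY σ σ' hσ hσ'iso hθ.1
    obtain ⟨z, rfl⟩ := mem_zspan_singleton hθY
    have hσ'z : σ' (z • χ) = z • Δ := by
      rw [hσ']
      show classInner (z • χ) χ • Δ = z • Δ
      rw [classInner_zsmul_left, hχχ, mul_one, zsmul_eq_smul]
    obtain ⟨θ', hθ'⟩ : ∃ θ' : N → ℂ, θ' = (1 : ℤ) • θX + (z * (m : ℤ)) • ψ := ⟨_, rfl⟩
    have hθ'mem : θ' ∈ zspanOn (↑S₀ : Set (N → ℂ)) {1}ᶜ := by
      rw [mem_zspanOn_one_iff]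
      refine ⟨?_, ?_⟩
      · rw [hθ']
        exact zspan_add (zspan_zsmul _ hθX) (zspan_zsmul _ (mem_zspan_of_mem (Finset.mem_coe.mpr hψ)))
      · have h1 := hθ.2
        rw [hsum, Pi.add_apply, Pi.smul_apply, zsmul_eq_mul, hdχ, hm] at h1
        rw [hθ', comb_apply, hdψ]
        push_cast at h1 ⊢
        linear_combination h1
    have hθeq : θ = θ' + z • α := by
      rw [hsum, hθ', hα]
      funext n
      simp only [zsmul_eq_smul, Pi.add_apply, Pi.smul_apply, smul_eq_mul]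
      push_cast
      ring
    rw [hglue, hσ'z, hθeq, hτ.1 _ (zspanOn_mono _ hS₀S hθ'mem) _ (zspanOn_zsmul z hαmem),
      hτ.2.1 _ hαmem, ← hA, ← hστ _ hθ'mem, hθ',
      hσ.1 _ (zspan_zsmul _ hθX) _ (zspan_zsmul _ (mem_zspan_of_mem (Finset.mem_coe.mpr hψ))),
      hσ.2.1 _ hθX, hσ.2.1 _ (mem_zspan_of_mem (Finset.mem_coe.mpr hψ)), hAΔ]
    funext g
    simp only [zsmul_eq_smul, Pi.add_apply, Pi.smul_apply, smul_eq_mul]
    push_cast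
    ring

end Cfsg.Agent.Lib.helper3.Coh
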