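import Mathlib
import Cfsg.Prelude.Def_OddOrderChar
import Cfsg.Agent.Lib.helper3.FP12
import Cfsg.Agent.Lib.helper3.Tifn7
import Cfsg.Agent.S1514
import Cfsg.Agent.S1517

set_option autoImplicit false
set_option linter.style.haveILetI false
set_option linter.unusedSectionVars false
set_option linter.unusedVariables false

/-!
# Abelian trivial-intersection subgroups with Frobenius normalizers: coherence, and the
contradiction for a partition of a group of odd order
-/

namespace Cfsg.Agent.Lib.helper3.FP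

open Cfsg Module Cfsg.Agent.Lib.helper3.CharBasic Cfsg.Agent.Lib.helper3.IndFun
open Cfsg.Agent.Lib.helper3.Irr Cfsg.Agent.Lib.helper3.Coh Cfsg.Agent.Lib.helper3.Tifn
open Cfsg.Agent.Lib.helper3.IndFunTI
open scoped ComplexConjugate

section abelian

variable {G : Type*} [Group G] [Fintype G] (K : Subgroup G)
  (hTI : ∀ g : G, g ∉ Subgroup.normalizer (K : Set G) → ∀ k ∈ K, g * k * g⁻¹ ∈ K → k = 1)
  (hC : ∀ k ∈ K, k ≠ 1 → Subgroup.centralizer ({k} : Set G) ≤ K)
  (hab : ∀ a ∈ K, ∀ b ∈ K, a * b = b * a)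
  [Fintype ↥(Subgroup.normalizer (K : Set G))]
  (hodd : Odd (Nat.card G))

include hC hab in
theorem exists_degree_of_abelian (hK : K ≠ ⊥) :
    ∃ ξ₀ ∈ relSet (K.subgroupOf (Subgroup.normalizer (K : Set G))),
      ξ₀ 1 = ((K.subgroupOf (Subgroup.normalizer (K : Set G))).index : ℂ) := by
  apply exists_relSet_degree_index _ (centralizer_le_subgroupOf K hC)
  · apply isSolvable_of_comm
    intro a b
    apply Subtype.ext
    apply Subtype.ext
    exact hab _ (Subgroup.mem_subgroupOf.mp a.2) _ (Subgroup.mem_subgroupOf.mp b.2)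
  · intro hbot
    rw [Subgroup.subgroupOf_eq_bot, disjoint_iff, inf_of_le_left Subgroup.le_normalizer] at hbot
    exact hK hbot

include hTI hC hab hodd in
/-- Coherence for an abelian trivial-intersection subgroup with Frobenius normalizer. -/
theorem coherent_of_abelian (hK : K ≠ ⊥) :
    ∃ star : (↥(Subgroup.normalizer (K : Set G)) → ℂ) → (G → ℂ),
      IsLinearIsometryOn
        (zspan (relSet (K.subgroupOf (Subgroup.normalizer (K : Set G))))) star ∧
      ∀ α ∈ zspanOn (relSet (K.subgroupOf (Subgroup.normalizer (K : Set G))))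
        ({1}ᶜ : Set ↥(Subgroup.normalizer (K : Set G))),
        star α = indFun (Subgroup.normalizer (K : Set G)) α := by
  have hCn := centralizer_le_subgroupOf K hC
  obtain ⟨ξ₀, hξ₀, -⟩ := exists_degree_of_abelian K hC hab hK
  obtain ⟨hisom, hone⟩ := isLinearIsometryOn_indFun_TI K hTI
    (relSet (K.subgroupOf (Subgroup.normalizer (K : Set G))))
    (fun χ hχ => GenChar.of_isIrrCharacter hχ.1)
    (fun χ hχ x hx => apply_eq_zero_of_not_mem _ hCn hχ
      (fun h => hx (Subgroup.mem_subgroupOf.mp h)))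
  obtain ⟨R, hR⟩ := Cfsg.Agent.S1514.result
    (relSet (K.subgroupOf (Subgroup.normalizer (K : Set G)))) ⟨ξ₀, hξ₀⟩ (fun χ hχ => hχ.1)
    (fun χ hχ => ⟨conjFun_mem_relSet _ hχ,
      conjFun_ne_of_odd _ (odd_card_normalizer K hodd) hχ⟩)
    (fun α => indFun (Subgroup.normalizer (K : Set G)) α) hisom hone
  have hcoh := Cfsg.Agent.S1517.result _ _ R hR (fun φ hφ ψ hψ => by
    rw [degree_eq_index_of_abelian K hC hab hφ, degree_eq_index_of_abelian K hC hab hψ])
  obtain ⟨-, star, hstar, hext⟩ := hcoh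
  exact ⟨star, hstar, hext⟩

end abelian

/-- A group of odd order is not partitioned by the conjugates of pairwise coprime abelian
trivial-intersection subgroups, each properly contained in its normalizer and containing the
centralizers of its nonidentity elements. -/
theorem false_of_abelian_family {G : Type*} [Group G] [Finite G] (hodd : Odd (Nat.card G))
    (S : Finset (Subgroup G)) (hSne : S.Nonempty)
    (hS : ∀ A ∈ S, A ≠ ⊥ ∧ (∀ a ∈ A, ∀ b ∈ A, a * b = b * a) ∧
      Subgroup.normalizer (A : Set G) ≠ A ∧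
      (∀ g : G, g ∉ Subgroup.normalizer (A : Set G) → ∀ k ∈ A, g * k * g⁻¹ ∈ A → k = 1) ∧
      (∀ k ∈ A, k ≠ 1 → Subgroup.centralizer ({k} : Set G) ≤ A))
    (hcop : ∀ A ∈ S, ∀ B ∈ S, A ≠ B → Nat.Coprime (Nat.card A) (Nat.card B))
    (hcover : ∀ g : G, g ≠ 1 → ∃ A ∈ S, ∃ x : G, x * g * x⁻¹ ∈ A) : False := by
  classical
  letI : Fintype G := Fintype.ofFinite G
  haveI : Nonempty {A // A ∈ S} := ⟨⟨hSne.choose, hSne.choose_spec⟩⟩
  letI : ∀ i : {A // A ∈ S}, Fintype ↥(Subgroup.normalizer ((i : Subgroup G) : Set G)) :=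
    fun i => Fintype.ofFinite _
  apply main hodd (fun i : {A // A ∈ S} => (i : Subgroup G))
    (fun i => (hS i.1 i.2).1) (fun i => (hS i.1 i.2).2.2.1) (fun i => (hS i.1 i.2).2.2.2.1)
    (fun i => (hS i.1 i.2).2.2.2.2)
    (fun i j hij => hcop i.1 i.2 j.1 j.2 (fun h => hij (Subtype.ext h)))
  · intro g hg
    obtain ⟨A, hA, x, hx⟩ := hcover g hg
    exact ⟨⟨A, hA⟩, x, hx⟩
  · intro i
    exact coherent_of_abelian _ (hS i.1 i.2).2.2.2.1 (hS i.1 i.2).2.2.2.2 (hS i.1 i.2).2.1 hodd
      (hS i.1 i.2).1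
  · intro i
    exact exists_degree_of_abelian _ (hS i.1 i.2).2.2.2.2 (hS i.1 i.2).2.1 (hS i.1 i.2).1

end Cfsg.Agent.Lib.helper3.FP
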