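import Mathlib
import Cfsg.Prelude.Def_OddOrderChar
import Cfsg.Prelude.Def_Transfer
import Cfsg.Agent.Lib.helper3.Feit2
import Cfsg.Agent.Lib.helper3.FP14
import Cfsg.Agent.H2.PF6.S8
import Cfsg.Agent.H2.PF6.T1

/-!
# Frobenius kernels of order one more than the index; Sibley's theorem for a trivial-intersection
subgroup with normalizer of odd order
-/

set_option autoImplicit false
set_option linter.style.haveILetI false
set_option linter.unusedSectionVars false
set_option linter.unusedVariables false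

namespace Cfsg.Agent.Lib.helper3.Feit

open Cfsg Module Cfsg.Agent.Lib.helper3.CharBasic Cfsg.Agent.Lib.helper3.IndFun
open Cfsg.Agent.Lib.helper3.Irr Cfsg.Agent.Lib.helper3.Coh Cfsg.Agent.Lib.helper3.Tifn
open Cfsg.Agent.Lib.helper3.IndFunTI Cfsg.Agent.Lib.helper3.FP
open scoped ComplexConjugate

section small

variable {N : Type*} [Group N] [Fintype N] (K : Subgroup N) [hKn : K.Normal]
  (hC : ∀ n ∈ K, n ≠ 1 → Subgroup.centralizer ({n} : Set N) ≤ K)

include hC in
/-- A normal subgroup of `N` which is central in `K` and nontrivial is all of `K` when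
`|K| = |N : K| + 1`. -/
theorem eq_of_central_of_card (hcard : Nat.card K = K.index + 1) (Z : Subgroup N) [Z.Normal]
    (hZK : Z ≤ K) (hZc : ∀ z ∈ Z, ∀ k ∈ K, z * k = k * z) (hZ1 : Z ≠ ⊥) : Z = K := by
  have hdvd := Cfsg.Agent.H2.PF6.frob_index_dvd K Z hZK hZc hC
  have hZgt : 1 < Nat.card Z := by
    rw [Nat.one_lt_iff_ne_zero_and_ne_one]
    refine ⟨Nat.card_pos.ne', fun h => hZ1 (Subgroup.card_eq_one.mp h)⟩
  have h1 : K.index ≤ Nat.card Z - 1 := Nat.le_of_dvd (by omega) hdvd
  apply Subgroup.eq_of_le_of_card_ge hZK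
  omega

include hC in
/-- `K` is abelian when it is nilpotent and `|K| = |N : K| + 1`. -/
theorem comm_of_card (hnil : Group.IsNilpotent K) (hK1 : K ≠ ⊥)
    (hcard : Nat.card K = K.index + 1) : ∀ a ∈ K, ∀ b ∈ K, a * b = b * a := by
  obtain ⟨Z, hZ⟩ : ∃ Z : Subgroup N, Z = Subgroup.centralizer (K : Set N) ⊓ K := ⟨_, rfl⟩
  haveI hZn : Z.Normal := by rw [hZ]; infer_instance
  have hZK : Z ≤ K := by rw [hZ]; exact inf_le_right
  have hZc : ∀ z ∈ Z, ∀ k ∈ K, z * k = k * z := by
    intro z hz k hk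
    rw [hZ] at hz
    exact ((Subgroup.mem_centralizer_iff.mp (Subgroup.mem_inf.mp hz).1) k hk).symm
  have hZ1 : Z ≠ ⊥ := by
    haveI := hnil
    haveI : Nontrivial K := (Subgroup.nontrivial_iff_ne_bot K).mpr hK1
    have hc : Subgroup.center K ≠ ⊥ := Group.IsNilpotent.center_ne_bot K
    obtain ⟨⟨z, hz⟩, hz1'⟩ := (Subgroup.ne_bot_iff_exists_ne_one (H := Subgroup.center K)).mp hc
    have hz1 : z ≠ 1 := fun h => hz1' (Subtype.ext h)
    intro hbot
    apply hz1
    have hzZ : (z : N) ∈ Z := by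
      rw [hZ]
      refine Subgroup.mem_inf.mpr ⟨?_, z.2⟩
      rw [Subgroup.mem_centralizer_iff]
      intro k hk
      have := Subgroup.mem_center_iff.mp hz ⟨k, hk⟩
      exact congrArg Subtype.val this
    rw [hbot, Subgroup.mem_bot] at hzZ
    exact Subtype.ext hzZ
  have hZeq := eq_of_central_of_card K hC hcard Z hZK hZc hZ1
  intro a ha b hb
  rw [← hZeq] at ha
  exact hZc a ha b hb

include hC in
/-- `K` has exponent `p` when it is nilpotent, `|K| = |N : K| + 1` and `p` divides `|K|`. -/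
theorem pow_eq_one_of_card (hnil : Group.IsNilpotent K) (hK1 : K ≠ ⊥)
    (hcard : Nat.card K = K.index + 1) (p : ℕ) (hp : p.Prime) (hpK : p ∣ Nat.card K) :
    ∀ a ∈ K, a ^ p = 1 := by
  have hcomm := comm_of_card K hC hnil hK1 hcard
  obtain ⟨Ω, hΩ⟩ : ∃ Ω : Subgroup N, ∀ x, x ∈ Ω ↔ x ∈ K ∧ x ^ p = 1 := by
    refine ⟨{ carrier := {x | x ∈ K ∧ x ^ p = 1}
              one_mem' := ⟨K.one_mem, one_pow p⟩
              mul_mem' := ?_
              inv_mem' := ?_ }, fun x => Iff.rfl⟩
    · rintro a b ⟨ha, hap⟩ ⟨hb, hbp⟩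
      refine ⟨K.mul_mem ha hb, ?_⟩
      have hc : Commute a b := hcomm a ha b hb
      rw [hc.mul_pow, hap, hbp, one_mul]
    · rintro a ⟨ha, hap⟩
      exact ⟨K.inv_mem ha, by rw [inv_pow, hap, inv_one]⟩
  haveI hΩn : Ω.Normal := by
    constructor
    intro x hx g
    rw [hΩ] at hx ⊢
    refine ⟨hKn.conj_mem x hx.1 g, ?_⟩
    rw [conj_pow, hx.2]
    group
  have hΩK : Ω ≤ K := fun x hx => ((hΩ x).mp hx).1
  have hΩ1 : Ω ≠ ⊥ := by
    haveI : Fact p.Prime := ⟨hp⟩
    obtain ⟨z, hz⟩ := exists_prime_orderOf_dvd_card' (G := K) p hpK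
    intro hbot
    have hzΩ : (z : N) ∈ Ω := by
      rw [hΩ]
      refine ⟨z.2, ?_⟩
      have h1 : orderOf (z : N) = p := by rw [Subgroup.orderOf_coe, hz]
      rw [← h1]
      exact pow_orderOf_eq_one _
    rw [hbot, Subgroup.mem_bot] at hzΩ
    have h2 : z = 1 := Subtype.ext hzΩ
    rw [h2, orderOf_one] at hz
    exact hp.one_lt.ne hz
  have hΩeq := eq_of_central_of_card K hC hcard Ω hΩK
    (fun z hz k hk => hcomm z (hΩK hz) k hk) hΩ1
  intro a ha
  rw [← hΩeq] at ha
  exact ((hΩ a).mp ha).2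

include hC in
/-- If the relevant set has no two distinct members, it has exactly one, and
`|K| = |N : K| + 1`. -/
theorem card_of_not_two (hsolv : Group.IsSolvable K) (hK1 : K ≠ ⊥)
    (hnot : ¬ ∃ χ ∈ relSet K, ∃ ψ ∈ relSet K, χ ≠ ψ) :
    Nat.card {χ : N → ℂ // IsIrrCharacter N χ ∧ ∃ k : N, k ∈ K ∧ χ k ≠ χ 1} = 1 ∧
      Nat.card K = K.index + 1 := by
  classical
  obtain ⟨ξ₀, hξ₀, hξ₀1⟩ := exists_relSet_degree_index K hC hsolv hK1
  have huniq : ∀ χ ∈ relSet K, χ = ξ₀ := by
    intro χ hχ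
    by_contra hne
    exact hnot ⟨χ, hχ, ξ₀, hξ₀, hne⟩
  constructor
  · rw [Nat.card_eq_one_iff_unique]
    refine ⟨⟨?_⟩, ⟨⟨ξ₀, hξ₀⟩⟩⟩
    intro a b
    apply Subtype.ext
    rw [huniq a.1 a.2, huniq b.1 b.2]
  · have h1 := index_mul_sum_mult_sq K hC
    have h2 : relFin K = {⟨ξ₀, hξ₀.1⟩} := by
      ext χ
      rw [mem_relFin, Finset.mem_singleton]
      constructor
      · intro h
        exact Subtype.ext (huniq _ h)
      · intro h
        rw [h]
        exact hξ₀
    have h3 : mult K ξ₀ = 1 := by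
      obtain ⟨hpos, hm⟩ := mult_spec K hC hξ₀
      rw [hξ₀1] at hm
      have hi : (K.index : ℂ) ≠ 0 := by
        exact_mod_cast (Subgroup.index_ne_zero_of_finite (H := K))
      have h4 : (1 : ℂ) = (mult K ξ₀ : ℂ) := by
        apply mul_left_cancel₀ hi
        rw [mul_one]
        exact hm
      exact_mod_cast h4.symm
    rw [h2, Finset.sum_singleton] at h1
    simp only at h1
    rw [h3, one_pow, mul_one] at h1
    have hpos : 0 < Nat.card K := Nat.card_pos
    omega

end small

section ti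

variable {G : Type*} [Group G] [Fintype G]

/-- Sibley's theorem for a nilpotent trivial-intersection subgroup containing the centralizers
of its nonidentity elements, whose normalizer has odd order. -/
theorem sibley_TI (H : Subgroup G) [Fintype ↥(Subgroup.normalizer (H : Set G))]
    (hodd : Odd (Nat.card ↥(Subgroup.normalizer (H : Set G))))
    (hnil : Group.IsNilpotent H) (hH1 : H ≠ ⊥) (hTI : IsTISubset (H : Set G))
    (hC : ∀ k ∈ H, k ≠ 1 → Subgroup.centralizer ({k} : Set G) ≤ H) :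
    IsCoherent (relSet (H.subgroupOf (Subgroup.normalizer (H : Set G))))
      ({1}ᶜ : Set ↥(Subgroup.normalizer (H : Set G)))
      (fun α => indFun (Subgroup.normalizer (H : Set G)) α) := by
  classical
  have hHL : H ≤ Subgroup.normalizer (H : Set G) := Subgroup.le_normalizer
  haveI hKn : (H.subgroupOf (Subgroup.normalizer (H : Set G))).Normal :=
    Subgroup.normal_in_normalizer
  have hCn := centralizer_le_subgroupOf H hC
  have hK1 : H.subgroupOf (Subgroup.normalizer (H : Set G)) ≠ ⊥ := by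
    intro hbot
    rw [Subgroup.subgroupOf_eq_bot, disjoint_iff, inf_of_le_left hHL] at hbot
    exact hH1 hbot
  have hnilK : Group.IsNilpotent (H.subgroupOf (Subgroup.normalizer (H : Set G))) := by
    haveI := hnil
    exact Group.nilpotent_of_mulEquiv (Subgroup.subgroupOfEquivOfLe hHL).symm
  have hsolv : Group.IsSolvable H := by
    haveI := hnil
    infer_instance
  obtain ⟨R, hR⟩ := Cfsg.Agent.H2.PF6.exists_coherenceSystem H hodd hTI hH1 hsolv hC
  rw [← inducedIrrAbove_bot_eq_relSet _ hCn]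
  refine Cfsg.Agent.H2.PF6.sibley_abstract (H.subgroupOf (Subgroup.normalizer (H : Set G)))
    (fun α => indFun (Subgroup.normalizer (H : Set G)) α) R hR hodd hnilK hK1 hCn
    (fun Θ => fun l : ↥(Subgroup.normalizer (H : Set G)) => Θ l) ?_ ?_ ?_
  · intro α hα Θ hΘ
    exact frobenius_reciprocity _ α Θ (isClassFunction_of_isGeneralizedCharacter hΘ)
  · intro Θ hΘ
    exact isGeneralizedCharacter_restrict hΘ _
  · intro p m hp hcard hcop Z hZn hZ1 hZK hZc Θ hΘ hΘ1 hconst z hz hz1
    have hcardKH : Nat.card (H.subgroupOf (Subgroup.normalizer (H : Set G))) = Nat.card H :=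
      Nat.card_congr (Subgroup.subgroupOfEquivOfLe hHL).toEquiv
    have hHp : IsPGroup p H := by
      haveI : Fact p.Prime := ⟨hp⟩
      exact IsPGroup.of_card (n := m) (by rw [← hcardKH, hcard])
    obtain ⟨k, hk⟩ := Cfsg.Agent.H2.PF6.sibley_dvd p hp H (Subgroup.normalizer (H : Set G)) hHp
      hTI rfl hHL hodd hcop (Z.map (Subgroup.normalizer (H : Set G)).subtype)
      (by
        intro hbot
        rw [Subgroup.map_eq_bot_iff_of_injective _ (Subgroup.subtype_injective _)] at hbot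
        exact hZ1 hbot)
      (by
        rintro _ ⟨z', hz', rfl⟩
        exact Subgroup.mem_subgroupOf.mp (hZK hz'))
      (by
        rintro x hx _ ⟨z', hz', rfl⟩
        refine ⟨(⟨x, hx⟩ : ↥(Subgroup.normalizer (H : Set G))) * z'
          * (⟨x, hx⟩ : ↥(Subgroup.normalizer (H : Set G)))⁻¹, hZn.conj_mem z' hz' _, ?_⟩
        simp)
      (by
        rintro _ ⟨z', hz', rfl⟩ y hy
        have := hZc z' hz' ⟨y, hHL hy⟩ (Subgroup.mem_subgroupOf.mpr hy)
        have h2 := congrArg (Subtype.val) this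
        simpa using h2)
      (by
        rintro _ ⟨z', hz', rfl⟩ hz'1 x hx hxz
        have hz'K : z' ∈ H.subgroupOf (Subgroup.normalizer (H : Set G)) := hZK hz'
        have hz'ne : z' ≠ 1 := by
          rintro rfl
          exact hz'1 rfl
        have hmem : (⟨x, hx⟩ : ↥(Subgroup.normalizer (H : Set G))) ∈
            Subgroup.centralizer ({z'} : Set ↥(Subgroup.normalizer (H : Set G))) := by
          rw [Subgroup.mem_centralizer_iff]
          intro y hy
          rw [Set.mem_singleton_iff] at hy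
          subst hy
          apply Subtype.ext
          simpa using hxz.symm
        exact Subgroup.mem_subgroupOf.mp (hCn z' hz'K hz'ne hmem))
      Θ hΘ hΘ1
      (by
        rintro _ ⟨a, ha, rfl⟩ _ ⟨b, hb, rfl⟩ ha1 hb1
        apply hconst a ha b hb
        · rintro rfl
          exact ha1 rfl
        · rintro rfl
          exact hb1 rfl)
      (z : G) ⟨z, hz, rfl⟩ (fun h => hz1 (Subtype.ext h))
    refine ⟨k, ?_⟩
    rw [hcardKH]
    exact hk

end ti

end Cfsg.Agent.Lib.helper3.Feit
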