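import Mathlib
import Cfsg.Prelude.Def_OddOrderChar
import Cfsg.Prelude.Def_Transfer
import Cfsg.Agent.Lib.helper3.Feit3

/-!
# Nilpotent trivial-intersection subgroups with Frobenius normalizer: coherence trichotomy
-/

set_option autoImplicit false
set_option linter.style.haveILetI false
set_option linter.unusedSectionVars false
set_option linter.unusedVariables false

namespace Cfsg.Agent.Lib.helper3.Feit

open Cfsg Module Cfsg.Agent.Lib.helper3.CharBasic Cfsg.Agent.Lib.helper3.IndFun
open Cfsg.Agent.Lib.helper3.Irr Cfsg.Agent.Lib.helper3.Coh Cfsg.Agent.Lib.helper3.Tifn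
open Cfsg.Agent.Lib.helper3.IndFunTI Cfsg.Agent.Lib.helper3.FP
open scoped ComplexConjugate

variable {G : Type*} [Group G] [Fintype G]

/-- For a nontrivial nilpotent trivial-intersection subgroup `H` containing the centralizers of
its nonidentity elements: either there is a single relevant character of the normalizer and `H`
is elementary abelian of order one more than the index; or the relevant characters are coherent;
or `H` is not abelian and the normalizer has even order. -/
theorem tifn_trichotomy (H : Subgroup G) [Fintype ↥(Subgroup.normalizer (H : Set G))]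
    (hnil : Group.IsNilpotent H) (hH1 : H ≠ ⊥) (hTI : IsTISubset (H : Set G))
    (hC : ∀ k ∈ H, k ≠ 1 → Subgroup.centralizer ({k} : Set G) ≤ H) :
    (Nat.card {χ : ↥(Subgroup.normalizer (H : Set G)) → ℂ //
        IsIrrCharacter ↥(Subgroup.normalizer (H : Set G)) χ ∧
          ∃ k : ↥(Subgroup.normalizer (H : Set G)), (k : G) ∈ H ∧ χ k ≠ χ 1} = 1 ∧
      Nat.card H = (H.subgroupOf (Subgroup.normalizer (H : Set G))).index + 1 ∧
      (∀ a ∈ H, ∀ b ∈ H, a * b = b * a) ∧
      ∀ q : ℕ, q.Prime → q ∣ Nat.card H → ∀ a ∈ H, a ^ q = 1) ∨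
    IsCoherent (relSet (H.subgroupOf (Subgroup.normalizer (H : Set G))))
      ({1}ᶜ : Set ↥(Subgroup.normalizer (H : Set G)))
      (fun α => indFun (Subgroup.normalizer (H : Set G)) α) ∨
    ((¬ ∀ a ∈ H, ∀ b ∈ H, a * b = b * a) ∧
      ¬ Odd (Nat.card ↥(Subgroup.normalizer (H : Set G)))) := by
  classical
  have hHL : H ≤ Subgroup.normalizer (H : Set G) := Subgroup.le_normalizer
  haveI hKn : (H.subgroupOf (Subgroup.normalizer (H : Set G))).Normal :=
    Subgroup.normal_in_normalizer
  have hCn := centralizer_le_subgroupOf H hC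
  have hK1 : H.subgroupOf (Subgroup.normalizer (H : Set G)) ≠ ⊥ := by
    intro hbot
    rw [Subgroup.subgroupOf_eq_bot, disjoint_iff, inf_of_le_left hHL] at hbot
    exact hH1 hbot
  have hnilK : Group.IsNilpotent (H.subgroupOf (Subgroup.normalizer (H : Set G))) := by
    haveI := hnil
    exact Group.nilpotent_of_mulEquiv (Subgroup.subgroupOfEquivOfLe hHL).symm
  have hsolvK : Group.IsSolvable (H.subgroupOf (Subgroup.normalizer (H : Set G))) := by
    haveI := hnilK
    infer_instance
  have hcardKH : Nat.card (H.subgroupOf (Subgroup.normalizer (H : Set G))) = Nat.card H :=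
    Nat.card_congr (Subgroup.subgroupOfEquivOfLe hHL).toEquiv
  by_cases htwo : ∃ χ ∈ relSet (H.subgroupOf (Subgroup.normalizer (H : Set G))),
      ∃ ψ ∈ relSet (H.subgroupOf (Subgroup.normalizer (H : Set G))), χ ≠ ψ
  swap
  · left
    obtain ⟨h1, h2⟩ := card_of_not_two _ hCn hsolvK hK1 htwo
    refine ⟨h1, by rw [← hcardKH]; exact h2, ?_, ?_⟩
    · intro a ha b hb
      have := comm_of_card _ hCn hnilK hK1 h2 ⟨a, hHL ha⟩ (Subgroup.mem_subgroupOf.mpr ha)
        ⟨b, hHL hb⟩ (Subgroup.mem_subgroupOf.mpr hb)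
      exact congrArg Subtype.val this
    · intro q hq hqd a ha
      have := pow_eq_one_of_card _ hCn hnilK hK1 h2 q hq (by rw [hcardKH]; exact hqd)
        ⟨a, hHL ha⟩ (Subgroup.mem_subgroupOf.mpr ha)
      have h3 := congrArg Subtype.val this
      simpa using h3
  right
  by_cases hab : ∀ a ∈ H, ∀ b ∈ H, a * b = b * a
  · left
    obtain ⟨hisom, hone⟩ := isLinearIsometryOn_indFun_TI H hTI
      (relSet (H.subgroupOf (Subgroup.normalizer (H : Set G))))
      (fun χ hχ => Cfsg.Agent.Lib.helper3.GenChar.of_isIrrCharacter hχ.1)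
      (fun χ hχ x hx => apply_eq_zero_of_not_mem _ hCn hχ
        (fun h => hx (Subgroup.mem_subgroupOf.mp h)))
    apply coherent_of_constant_degree _ (fun χ hχ => hχ.1) htwo _ _ hisom hone
    intro φ hφ ψ hψ
    rw [degree_eq_index_of_abelian H hC hab hφ, degree_eq_index_of_abelian H hC hab hψ]
  · by_cases hodd : Odd (Nat.card ↥(Subgroup.normalizer (H : Set G)))
    · left
      exact sibley_TI H hodd hnil hH1 hTI hC
    · right
      exact ⟨hab, hodd⟩

end Cfsg.Agent.Lib.helper3.Feit
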