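import Mathlib
import Cfsg.Prelude.Def_OddOrderChar
import Cfsg.Prelude.Def_Transfer
import Cfsg.Agent.Lib.helper3.Feit4
import Cfsg.Agent.Lib.helper3.Coh8

/-!
# Feit's coherence theorem for Frobenius groups: iterating the extension criterion and the
central step
-/

set_option autoImplicit false
set_option linter.style.haveILetI false
set_option linter.unusedSectionVars false
set_option linter.unusedVariables false

namespace Cfsg.Agent.Lib.helper3.Feit

open Cfsg Module Cfsg.Agent.Lib.helper3.CharBasic Cfsg.Agent.Lib.helper3.IndFun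
open Cfsg.Agent.Lib.helper3.Irr Cfsg.Agent.Lib.helper3.Coh Cfsg.Agent.Lib.helper3.Tifn
open Cfsg.Agent.Lib.helper3.IndFunTI Cfsg.Agent.Lib.helper3.FP Cfsg.Agent.H2.PF6
open scoped ComplexConjugate

section ext

variable {L : Type*} [Group L] [Fintype L] {G : Type*} [Group G] [Fintype G]

/-- Iterating Feit's extension criterion: all members of a finite set `T` of irreducible
characters can be added to a coherent set `S₁` provided each of them satisfies the numerical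
criterion with respect to `S₁`. -/
theorem extend_many (S : Set (L → ℂ)) (hirr : ∀ χ ∈ S, IsIrrCharacter L χ)
    (τ : (L → ℂ) → (G → ℂ)) (hτ : IsLinearIsometryOn (zspanOn S ({1}ᶜ : Set L)) τ)
    (hτ1 : ∀ α ∈ zspanOn S ({1}ᶜ : Set L), τ α 1 = 0) (d : (L → ℂ) → ℕ)
    (hd : ∀ φ ∈ S, φ 1 = (d φ : ℂ)) (χ₁ : L → ℂ) (T : Finset (L → ℂ))
    (hT : (↑T : Set (L → ℂ)) ⊆ S) :
    ∀ (k : ℕ) (S₁ : Finset (L → ℂ)), (T \ S₁).card ≤ k → (↑S₁ : Set (L → ℂ)) ⊆ S →
      IsCoherent (↑S₁ : Set (L → ℂ)) ({1}ᶜ : Set L) τ →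
      χ₁ ∈ S₁ → (∀ χ ∈ T, d χ₁ ∣ d χ) →
      (∀ χ ∈ T, 2 * d χ₁ * d χ < ∑ φ ∈ S₁, d φ ^ 2) →
      IsCoherent (↑(S₁ ∪ T) : Set (L → ℂ)) ({1}ᶜ : Set L) τ := by
  intro k
  induction k with
  | zero =>
    intro S₁ hk _ hcoh _ _ _
    have hsub : T ⊆ S₁ := by
      rw [← Finset.sdiff_eq_empty_iff_subset]
      exact Finset.card_eq_zero.mp (Nat.le_zero.mp hk)
    rw [Finset.union_eq_left.mpr hsub]
    exact hcoh
  | succ k ih =>
    intro S₁ hk hS₁ hcoh hχ₁ hdvd hineq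
    by_cases hsub : T ⊆ S₁
    · rw [Finset.union_eq_left.mpr hsub]
      exact hcoh
    · obtain ⟨χ, hχT, hχS₁⟩ := Finset.not_subset.mp hsub
      have hχS : χ ∈ S := hT (Finset.mem_coe.mpr hχT)
      have hsubS : (↑S₁ : Set (L → ℂ)) ∪ {χ} ⊆ S := by
        intro x hx
        rcases hx with hx | hx
        · exact hS₁ hx
        · rw [Set.mem_singleton_iff.mp hx]; exact hχS
      have hnew := feit_union S₁ χ (fun ξ hξ => hirr ξ (hS₁ (Finset.mem_coe.mpr hξ)))
        (hirr χ hχS) hχS₁ d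
        (fun ξ hξ => by
          rcases Finset.mem_insert.mp hξ with rfl | hξ
          · exact hd _ hχS
          · exact hd ξ (hS₁ (Finset.mem_coe.mpr hξ)))
        τ (isLinearIsometryOn_mono hτ (zspanOn_mono _ hsubS))
        (fun α hα => hτ1 α (zspanOn_mono _ hsubS hα)) hcoh χ₁ hχ₁ (hdvd χ hχT) (hineq χ hχT)
      set S₂ : Finset (L → ℂ) := S₁ ∪ {χ} with hS₂
      have hcoe : (↑S₂ : Set (L → ℂ)) = ↑S₁ ∪ {χ} := by
        rw [hS₂, Finset.coe_union, Finset.coe_singleton]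
      have hS₁S₂ : S₁ ⊆ S₂ := Finset.subset_union_left
      have hχS₂ : χ ∈ S₂ := by
        rw [hS₂]; apply Finset.mem_union_right; simp
      have h2 : S₂ ∪ T = S₁ ∪ T := by
        rw [hS₂, Finset.union_assoc]
        congr 1
        apply Finset.union_eq_right.mpr
        intro x hx
        rw [Finset.mem_singleton.mp hx]
        exact hχT
      rw [← h2]
      apply ih S₂
      · have hlt : (T \ S₂).card < (T \ S₁).card := by
          apply Finset.card_lt_card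
          rw [Finset.ssubset_iff_of_subset (Finset.sdiff_subset_sdiff (Finset.Subset.refl T) hS₁S₂)]
          exact ⟨χ, Finset.mem_sdiff.mpr ⟨hχT, hχS₁⟩, fun h => (Finset.mem_sdiff.mp h).2 hχS₂⟩
        omega
      · rw [hcoe]; exact hsubS
      · rw [hcoe]; exact hnew
      · exact hS₁S₂ hχ₁
      · exact hdvd
      · intro χ' hχ'
        refine lt_of_lt_of_le (hineq χ' hχ') ?_
        exact Finset.sum_le_sum_of_subset hS₁S₂

end ext

section step

variable {L : Type*} [Group L] [Fintype L] {G : Type*} [Group G] [Fintype G]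

/-- The arithmetic of the central step. -/
theorem arith_step (l t k cc dd N c rel a : ℕ) (hl : l * k = N) (hc : c * cc = N)
    (hrel : rel * dd = cc) (hcc : 0 < cc) (hdd : 0 < dd) (hl0 : 0 < l)
    (hb : t ^ 2 * cc * dd ≤ k ^ 2) (hlt : 4 * c ^ 2 * rel < (a - 1) ^ 2) :
    2 * l * (l * t) < l * (a - 1) := by
  have h1 : l ^ 2 * t ^ 2 ≤ c ^ 2 * rel := by
    have h2 : l ^ 2 * t ^ 2 * (cc * dd) ≤ c ^ 2 * rel * (cc * dd) := by
      calc l ^ 2 * t ^ 2 * (cc * dd) = l ^ 2 * (t ^ 2 * cc * dd) := by ring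
        _ ≤ l ^ 2 * k ^ 2 := Nat.mul_le_mul_left _ hb
        _ = N ^ 2 := by rw [← hl]; ring
        _ = c ^ 2 * rel * (cc * dd) := by
          rw [← hc]
          conv_lhs => rw [← hrel]
          conv_rhs => rw [← hrel]
          ring
    exact Nat.le_of_mul_le_mul_right h2 (Nat.mul_pos hcc hdd)
  have h3 : (2 * l * t) ^ 2 < (a - 1) ^ 2 := by
    calc (2 * l * t) ^ 2 = 4 * (l ^ 2 * t ^ 2) := by ring
      _ ≤ 4 * (c ^ 2 * rel) := Nat.mul_le_mul_left _ h1
      _ = 4 * c ^ 2 * rel := by ring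
      _ < (a - 1) ^ 2 := hlt
  have h4 : 2 * l * t < a - 1 := lt_of_pow_lt_pow_left₀ 2 (Nat.zero_le _) h3
  calc 2 * l * (l * t) = l * (2 * l * t) := by ring
    _ < l * (a - 1) := Nat.mul_lt_mul_of_pos_left h4 hl0

/-- The central step: coherence passes from `S(A)` to `S(B)` for `B ≤ A` when a section `D/B`
central in `C/B` is large enough. -/
theorem step (K : Subgroup L) [hK : K.Normal] (hsolv : Group.IsSolvable K)
    (τ : (L → ℂ) → (G → ℂ))
    (hirr : ∀ χ ∈ inducedIrrAbove K ⊥, IsIrrCharacter L χ)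
    (hτ : IsLinearIsometryOn (zspanOn (inducedIrrAbove K ⊥) ({1}ᶜ : Set L)) τ)
    (hτ1 : ∀ α ∈ zspanOn (inducedIrrAbove K ⊥) ({1}ᶜ : Set L), τ α 1 = 0)
    (A B C D : Subgroup L) [A.Normal]
    [B.Normal] [C.Normal] [D.Normal] (hAK : A < K) (hBA : B ≤ A) (hBD : B ≤ D) (hDC : D ≤ C)
    (hCK : C ≤ K) (hcent : ∀ x ∈ D, ∀ y ∈ C, x * y * x⁻¹ * y⁻¹ ∈ B)
    (hA : IsCoherent (inducedIrrAbove K A) ({1}ᶜ : Set L) τ)
    (hlt : 4 * C.index ^ 2 * D.relIndex C < (A.relIndex K - 1) ^ 2) :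
    IsCoherent (inducedIrrAbove K B) ({1}ᶜ : Set L) τ := by
  classical
  have hfin : (inducedIrrAbove K (⊥ : Subgroup L)).Finite := finite_of_irr hirr
  have hAS : inducedIrrAbove K A ⊆ inducedIrrAbove K ⊥ := inducedIrrAbove_mono K bot_le
  have hBS : inducedIrrAbove K B ⊆ inducedIrrAbove K ⊥ := inducedIrrAbove_mono K bot_le
  have hAB : inducedIrrAbove K A ⊆ inducedIrrAbove K B := inducedIrrAbove_mono K hBA
  set FA : Finset (L → ℂ) := (hfin.subset hAS).toFinset with hFA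
  set FB : Finset (L → ℂ) := (hfin.subset hBS).toFinset with hFB
  have hFA' : ∀ φ, φ ∈ FA ↔ φ ∈ inducedIrrAbove K A := fun φ => Set.Finite.mem_toFinset _
  have hFB' : ∀ φ, φ ∈ FB ↔ φ ∈ inducedIrrAbove K B := fun φ => Set.Finite.mem_toFinset _
  have hFAc : (↑FA : Set (L → ℂ)) = inducedIrrAbove K A := Set.Finite.coe_toFinset _
  have hFBc : (↑FB : Set (L → ℂ)) = inducedIrrAbove K B := Set.Finite.coe_toFinset _
  have hdeg : ∀ φ ∈ inducedIrrAbove K (⊥ : Subgroup L), ∃ m : ℕ, φ 1 = (m : ℂ) :=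
    fun φ hφ => exists_nat_apply_one (isCharacter_of_isIrrCharacter (hirr φ hφ))
  choose! d hd using hdeg
  -- the character of degree `[L:K]` in `S(A)`
  obtain ⟨lam, hlam, hlam1⟩ := exists_linear_induced K hsolv A hAK
  set χ₁ : L → ℂ := indFun K (lam : K → ℂ) with hχ₁
  have hχ₁A : χ₁ ∈ inducedIrrAbove K A := (mem_inducedIrrAbove K).mpr ⟨lam, hlam, rfl⟩
  have hdχ₁ : d χ₁ = K.index := by
    have h1 := hd χ₁ (hAS hχ₁A)
    rw [hχ₁, indFun_one_eq, hlam1, mul_one] at h1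
    exact_mod_cast h1.symm
  -- the sum over `S(A)`
  have hsumC := sum_sq_div K A hAK.le FA hFA' d (fun _ => 1)
    (fun φ hφ => hd φ (hAS ((hFA' φ).mp hφ)))
    (fun φ hφ => by
      rw [irr_classInner_self (hirr φ (hAS ((hFA' φ).mp hφ))), Nat.cast_one])
    (fun φ hφ => one_ne_zero)
  have hrel : 1 ≤ A.relIndex K := relIndex_pos' A K
  have hsumN : ∑ φ ∈ FA, d φ ^ 2 = K.index * (A.relIndex K - 1) := by
    have h1 : ((∑ φ ∈ FA, d φ ^ 2 : ℕ) : ℂ) = ((K.index * (A.relIndex K - 1) : ℕ) : ℂ) := by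
      rw [Nat.cast_mul, Nat.cast_sub hrel, Nat.cast_one, ← hsumC]
      push_cast
      apply Finset.sum_congr rfl
      intro φ _
      rw [div_one]
    exact_mod_cast h1
  have hmany := extend_many (inducedIrrAbove K ⊥) hirr τ hτ hτ1 d hd χ₁ FB
    (by rw [hFBc]; exact hBS)
    (FB \ FA).card FA le_rfl (by rw [hFAc]; exact hAS)
    (by rw [hFAc]; exact hA) ((hFA' _).mpr hχ₁A) ?_ ?_
  · have hun : FA ∪ FB = FB := by
      apply Finset.union_eq_right.mpr
      intro φ hφ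
      exact (hFB' φ).mpr (hAB ((hFA' φ).mp hφ))
    rw [hun, hFBc] at hmany
    exact hmany
  · intro χ hχ
    obtain ⟨θ, hθ, rfl⟩ := (mem_inducedIrrAbove K).mp ((hFB' χ).mp hχ)
    obtain ⟨t, ht⟩ := exists_nat_apply_one (isCharacter_of_isIrrCharacter θ.2)
    have h1 := hd _ (hBS ((hFB' _).mp hχ))
    rw [indFun_one_eq, ht] at h1
    have h2 : d (indFun K (θ : K → ℂ)) = K.index * t := by exact_mod_cast h1.symm
    rw [hdχ₁, h2]
    exact Dvd.intro _ rfl
  · intro χ hχ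
    obtain ⟨θ, hθ, rfl⟩ := (mem_inducedIrrAbove K).mp ((hFB' χ).mp hχ)
    obtain ⟨t, ht⟩ := exists_nat_apply_one (isCharacter_of_isIrrCharacter θ.2)
    have h1 := hd _ (hBS ((hFB' _).mp hχ))
    rw [indFun_one_eq, ht] at h1
    have h2 : d (indFun K (θ : K → ℂ)) = K.index * t := by exact_mod_cast h1.symm
    rw [hdχ₁, h2, hsumN]
    have hb := degree_bound K hBD hDC hCK hcent hθ ht
    exact arith_step K.index t (Nat.card K) (Nat.card C) (Nat.card D) (Nat.card L) C.index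
      (D.relIndex C) (A.relIndex K) (Subgroup.index_mul_card K) (Subgroup.index_mul_card C)
      (relIndex_mul_card' D C hDC) Nat.card_pos Nat.card_pos
      (Nat.pos_of_ne_zero Subgroup.index_ne_zero_of_finite) hb hlt

end step

end Cfsg.Agent.Lib.helper3.Feit
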