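import Mathlib
import Cfsg.Prelude.Def_OddOrderChar
import Cfsg.Prelude.Def_Transfer
import Cfsg.Agent.Lib.helper3.Feit5

/-!
# Feit's coherence theorem for Frobenius groups: descent through a nilpotent section
-/

set_option autoImplicit false
set_option linter.style.haveILetI false
set_option linter.unusedSectionVars false
set_option linter.unusedVariables false

namespace Cfsg.Agent.Lib.helper3.Feit

open Cfsg Module Cfsg.Agent.Lib.helper3.CharBasic Cfsg.Agent.Lib.helper3.IndFun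
open Cfsg.Agent.Lib.helper3.Irr Cfsg.Agent.Lib.helper3.Coh Cfsg.Agent.Lib.helper3.Tifn
open Cfsg.Agent.Lib.helper3.IndFunTI Cfsg.Agent.Lib.helper3.FP Cfsg.Agent.H2.PF6
open scoped ComplexConjugate commutatorElement

/-- The arithmetic of the descent. -/
theorem arith_descend (e a y y₀ w W : ℕ) (he : 1 ≤ e) (hW : W = y * a)
    (hy : y₀ ≤ y) (hw : w ≤ W) (hnum : 4 * e ^ 2 ≤ y₀ * (w - 2)) :
    4 * e ^ 2 * a < (W - 1) ^ 2 := by
  have hw3 : 3 ≤ w := by
    by_contra h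
    have h0 : w - 2 = 0 := by omega
    rw [h0, mul_zero] at hnum
    have : 0 < 4 * e ^ 2 := by positivity
    omega
  have h1 : 4 * e ^ 2 * a ≤ y₀ * (w - 2) * a := Nat.mul_le_mul_right a hnum
  have h2 : y₀ * (w - 2) * a ≤ y * (W - 2) * a := by
    apply Nat.mul_le_mul_right
    exact Nat.mul_le_mul hy (Nat.sub_le_sub_right hw 2)
  have h3 : y * (W - 2) * a = W * (W - 2) := by rw [hW]; ring
  obtain ⟨n, hn⟩ : ∃ n, W = n + 2 := ⟨W - 2, by omega⟩
  have h4 : W * (W - 2) < (W - 1) ^ 2 := by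
    rw [hn]
    simp only [Nat.add_sub_cancel]
    have : n + 2 - 1 = n + 1 := by omega
    rw [this]
    nlinarith
  omega

section desc

variable {L : Type*} [Group L] [Fintype L] {G : Type*} [Group G] [Fintype G]

/-- Commutators with `K` of the elements of a join. -/
theorem comm_mem_of_sup (X Y K B : Subgroup L) [hB : B.Normal]
    (hX : ∀ x ∈ X, ∀ y ∈ K, x * y * x⁻¹ * y⁻¹ ∈ B)
    (hY : ∀ x ∈ Y, ∀ y ∈ K, x * y * x⁻¹ * y⁻¹ ∈ B) :
    ∀ x ∈ X ⊔ Y, ∀ y ∈ K, x * y * x⁻¹ * y⁻¹ ∈ B := by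
  let Cn : Subgroup L :=
    { carrier := {x | ∀ y ∈ K, x * y * x⁻¹ * y⁻¹ ∈ B}
      one_mem' := by
        intro y _
        simp only [one_mul, inv_one, mul_one, mul_inv_cancel]
        exact B.one_mem
      mul_mem' := by
        intro a b ha hb y hy
        have h1 : a * (b * y * b⁻¹ * y⁻¹) * a⁻¹ ∈ B := hB.conj_mem _ (hb y hy) a
        have h2 := B.mul_mem h1 (ha y hy)
        have e : a * (b * y * b⁻¹ * y⁻¹) * a⁻¹ * (a * y * a⁻¹ * y⁻¹)
            = a * b * y * (a * b)⁻¹ * y⁻¹ := by group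
        rw [e] at h2
        exact h2
      inv_mem' := by
        intro a ha y hy
        have h1 : a⁻¹ * (a * y * a⁻¹ * y⁻¹)⁻¹ * a⁻¹⁻¹ ∈ B :=
          hB.conj_mem _ (B.inv_mem (ha y hy)) a⁻¹
        have e : a⁻¹ * (a * y * a⁻¹ * y⁻¹)⁻¹ * a⁻¹⁻¹ = a⁻¹ * y * a⁻¹⁻¹ * y⁻¹ := by group
        rw [e] at h1
        exact h1 }
  have h1 : X ⊔ Y ≤ Cn := sup_le (fun x hx => hX x hx) (fun x hx => hY x hx)
  intro x hx
  exact h1 hx

/-- Coherence descends from `S(H₁)` to `S(M)` when `K/M` is nilpotent, provided a normal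
subgroup `Y` with `[Y, K] ≤ M` makes the sections large enough. -/
theorem descend (K : Subgroup L) [hK : K.Normal] (hsolv : Group.IsSolvable K)
    (τ : (L → ℂ) → (G → ℂ))
    (hirr : ∀ χ ∈ inducedIrrAbove K ⊥, IsIrrCharacter L χ)
    (hτ : IsLinearIsometryOn (zspanOn (inducedIrrAbove K ⊥) ({1}ᶜ : Set L)) τ)
    (hτ1 : ∀ α ∈ zspanOn (inducedIrrAbove K ⊥) ({1}ᶜ : Set L), τ α 1 = 0)
    (M H₁ Y : Subgroup L) [M.Normal] [H₁.Normal] [Y.Normal] (hMH₁ : M ≤ H₁) (hH₁K : H₁ < K)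
    (hYK : Y ≤ K) (hYM : ∀ x ∈ Y, ∀ y ∈ K, x * y * x⁻¹ * y⁻¹ ∈ M)
    [(M.subgroupOf K).Normal] (hnil : Group.IsNilpotent (↥K ⧸ M.subgroupOf K))
    (hcoh : IsCoherent (inducedIrrAbove K H₁) ({1}ᶜ : Set L) τ)
    (hnum : 4 * K.index ^ 2 ≤ H₁.relIndex (Y ⊔ H₁) * (H₁.relIndex K - 2)) :
    IsCoherent (inducedIrrAbove K M) ({1}ᶜ : Set L) τ := by
  obtain ⟨n, hn⟩ := descSeries_eq H₁ K M hMH₁ hH₁K.le hnil
  have key : ∀ i, IsCoherent (inducedIrrAbove K (descSeries H₁ K M i)) ({1}ᶜ : Set L) τ := by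
    intro i
    induction i with
    | zero => exact hcoh
    | succ i ih =>
      haveI := descSeries_normal H₁ K M i
      haveI := descSeries_normal H₁ K M (i + 1)
      obtain ⟨X, hX⟩ : ∃ X : Subgroup L, X = descSeries H₁ K M i := ⟨_, rfl⟩
      obtain ⟨X', hX'⟩ : ∃ X' : Subgroup L, X' = descSeries H₁ K M (i + 1) := ⟨_, rfl⟩
      have hX'def : X' = ⁅X, K⁆ ⊔ M := by rw [hX', hX]; rfl
      haveI : X.Normal := by rw [hX]; infer_instance
      haveI : X'.Normal := by rw [hX']; infer_instance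
      rw [← hX] at ih
      rw [← hX']
      have hXH₁ : X ≤ H₁ := by rw [hX]; exact descSeries_le H₁ K M hMH₁ i
      have hXK : X ≤ K := hXH₁.trans hH₁K.le
      have hX'X : X' ≤ X := by rw [hX', hX]; exact descSeries_succ_le H₁ K M hMH₁ i
      have hAK : X < K := lt_of_le_of_lt hXH₁ hH₁K
      have hXD : X ≤ X ⊔ Y := le_sup_left
      have hDK : X ⊔ Y ≤ K := sup_le hXK hYK
      apply step K hsolv τ hirr hτ hτ1 X X' K (X ⊔ Y) hAK hX'X (hX'X.trans hXD) hDK le_rfl ?_ ih ?_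
      · apply comm_mem_of_sup X Y K X'
        · intro x hx y hy
          have : ⁅x, y⁆ ∈ ⁅X, K⁆ := Subgroup.commutator_mem_commutator hx hy
          rw [commutatorElement_def] at this
          rw [hX'def]
          exact (le_sup_left : ⁅X, K⁆ ≤ ⁅X, K⁆ ⊔ M) this
        · intro x hx y hy
          rw [hX'def]
          exact (le_sup_right : M ≤ ⁅X, K⁆ ⊔ M) (hYM x hx y hy)
      · have e1 : X.relIndex K = X.relIndex (X ⊔ Y) * (X ⊔ Y).relIndex K :=
          (Subgroup.relIndex_mul_relIndex _ _ _ hXD hDK).symm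
        have e2 : H₁.relIndex (Y ⊔ H₁) ≤ X.relIndex (X ⊔ Y) := by
          rw [Subgroup.relIndex_sup_right, Subgroup.relIndex_sup_left]
          exact Nat.le_of_dvd (relIndex_pos' _ _) (Subgroup.relIndex_dvd_of_le_left Y hXH₁)
        have e3 : H₁.relIndex K ≤ X.relIndex K :=
          Nat.le_of_dvd (relIndex_pos' _ _) (Subgroup.relIndex_dvd_of_le_left K hXH₁)
        exact arith_descend K.index ((X ⊔ Y).relIndex K) (X.relIndex (X ⊔ Y))
          (H₁.relIndex (Y ⊔ H₁)) (H₁.relIndex K) (X.relIndex K)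
          (Nat.pos_of_ne_zero Subgroup.index_ne_zero_of_finite) e1 e2 e3 hnum
  rw [← hn]
  exact key n

end desc

end Cfsg.Agent.Lib.helper3.Feit
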