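import Mathlib
import Cfsg.Prelude.Def_OddOrderChar
import Cfsg.Prelude.Def_Transfer
import Cfsg.Agent.Lib.helper3.Feit6
import Cfsg.Agent.Lib.Lead.PiCore
import Cfsg.Agent.H1.FrobPkg

/-!
# Feit's coherence theorem for Frobenius groups: the group theory of the kernel
-/

set_option autoImplicit false
set_option linter.style.haveILetI false
set_option linter.unusedSectionVars false
set_option linter.unusedVariables false

namespace Cfsg.Agent.Lib.helper3.Feit

open Cfsg Cfsg.Agent.H2.PF6
open scoped commutatorElement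

section grp

/-- A characteristic subgroup of a normal subgroup is normal. -/
theorem normal_map_of_char {L : Type*} [Group L] (K : Subgroup L) [hK : K.Normal]
    (C : Subgroup K) [hC : C.Characteristic] : (C.map K.subtype).Normal := by
  constructor
  intro n hn g
  obtain ⟨c, hc, rfl⟩ := Subgroup.mem_map.mp hn
  have h1 : (MulAut.conjNormal g : MulAut K) c ∈ C :=
    Subgroup.characteristic_iff_le_comap.mp hC (MulAut.conjNormal g) hc
  refine Subgroup.mem_map.mpr ⟨_, h1, ?_⟩
  simp [MulAut.conjNormal_apply]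

/-- A finite nilpotent group whose order is not a prime power is the direct product of two
nontrivial characteristic subgroups. -/
theorem exists_decomp_type (X : Type*) [Group X] [Finite X] [Group.IsNilpotent X]
    (hnp : ¬ ∃ p : ℕ, p.Prime ∧ ∃ m : ℕ, Nat.card X = p ^ m) :
    ∃ P Q : Subgroup X, P.Characteristic ∧ Q.Characteristic ∧ P ⊔ Q = ⊤ ∧ P ⊓ Q = ⊥ ∧
      P ≠ ⊥ ∧ Q ≠ ⊥ := by
  have hX1 : Nat.card X ≠ 1 := by
    intro h
    exact hnp ⟨2, Nat.prime_two, 0, by rw [h, pow_zero]⟩
  obtain ⟨p, hp⟩ : ∃ p, p = (Nat.card X).minFac := ⟨_, rfl⟩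
  have hpp : p.Prime := by rw [hp]; exact Nat.minFac_prime hX1
  have hpd : p ∣ Nat.card X := by rw [hp]; exact Nat.minFac_dvd _
  haveI : Fact p.Prime := ⟨hpp⟩
  obtain ⟨P⟩ : Nonempty (Sylow p X) := inferInstance
  haveI hPn : (P : Subgroup X).Normal := inferInstance
  have hPc : (P : Subgroup X).Characteristic := P.characteristic_of_normal hPn
  obtain ⟨Q, hQ⟩ : ∃ Q : Subgroup X, Q = Cfsg.pPrimeCore p X := ⟨_, rfl⟩
  have hQc : Q.Characteristic := by
    rw [hQ]; exact Cfsg.Agent.Lib.Lead.PiCore.pPrimeCore_characteristic hpp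
  have hQcop : (Nat.card Q).Coprime p := by
    rw [hQ]; exact Cfsg.Agent.Lib.Lead.PiCore.pPrimeCore_coprime hpp
  have hPidx : ¬ p ∣ (P : Subgroup X).index := P.not_dvd_index
  -- the index of `Q` is a power of `p`
  have hQidx : ∃ k : ℕ, Q.index = p ^ k := by
    refine ⟨_, Nat.eq_prime_pow_of_unique_prime_dvd Subgroup.index_ne_zero_of_finite ?_⟩
    intro q hq hqd
    by_contra hne
    haveI : Fact q.Prime := ⟨hq⟩
    obtain ⟨Sq⟩ : Nonempty (Sylow q X) := inferInstance
    haveI hSn : (Sq : Subgroup X).Normal := inferInstance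
    have hcard : Nat.card (Sq : Subgroup X) = q ^ (Nat.card X).factorization q :=
      Sq.card_eq_multiplicity
    have hcop : (Nat.card (Sq : Subgroup X)).Coprime p := by
      rw [hcard]
      apply Nat.Coprime.pow_left
      exact (Nat.coprime_primes hq hpp).mpr hne
    have hle : (Sq : Subgroup X) ≤ Q := by
      rw [hQ]
      exact Cfsg.Agent.Lib.Lead.PiCore.le_pPrimeCore hSn hcop
    exact Sq.not_dvd_index (hqd.trans (Subgroup.index_dvd_of_le hle))
  obtain ⟨k, hk⟩ := hQidx
  have hPcard : Nat.card (P : Subgroup X) = p ^ (Nat.card X).factorization p :=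
    P.card_eq_multiplicity
  refine ⟨P, Q, hPc, hQc, ?_, ?_, ?_, ?_⟩
  · rw [← Subgroup.index_eq_one]
    have h1 : ((P : Subgroup X) ⊔ Q).index ∣ p ^ k := by
      rw [← hk]; exact Subgroup.index_dvd_of_le le_sup_right
    obtain ⟨j, -, hj⟩ := (Nat.dvd_prime_pow hpp).mp h1
    rcases Nat.eq_zero_or_pos j with rfl | hj0
    · rw [hj, pow_zero]
    · exfalso
      apply hPidx
      have h2 : p ∣ ((P : Subgroup X) ⊔ Q).index := by
        rw [hj]; exact dvd_pow_self p hj0.ne'
      exact h2.trans (Subgroup.index_dvd_of_le le_sup_left)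
  · apply Subgroup.inf_eq_bot_of_coprime
    rw [hPcard]
    exact Nat.Coprime.pow_left _ hQcop.symm
  · intro hbot
    apply hPidx
    rw [hbot, Subgroup.index_bot]
    exact hpd
  · intro hbot
    apply hnp
    refine ⟨p, hpp, k, ?_⟩
    rw [← hk, hbot, Subgroup.index_bot]

variable {L : Type*} [Group L] [Finite L]

/-- A nilpotent normal subgroup whose order is not a prime power is the direct product of two
nontrivial normal subgroups of the whole group. -/
theorem exists_decomp (K : Subgroup L) [hK : K.Normal] (hnil : Group.IsNilpotent K)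
    (hnp : ¬ ∃ p : ℕ, p.Prime ∧ ∃ m : ℕ, Nat.card K = p ^ m) :
    ∃ P Q : Subgroup L, P.Normal ∧ Q.Normal ∧ P ⊔ Q = K ∧ P ⊓ Q = ⊥ ∧ P ≠ ⊥ ∧ Q ≠ ⊥ := by
  haveI := hnil
  obtain ⟨P, Q, hPc, hQc, hsup, hinf, hP1, hQ1⟩ := exists_decomp_type (↥K) hnp
  haveI := hPc
  haveI := hQc
  refine ⟨P.map K.subtype, Q.map K.subtype, normal_map_of_char K P, normal_map_of_char K Q,
    ?_, ?_, ?_, ?_⟩
  · rw [← Subgroup.map_sup, hsup, ← MonoidHom.range_eq_map, Subgroup.range_subtype]
  · rw [← Subgroup.map_inf _ _ _ K.subtype_injective, hinf, Subgroup.map_bot]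
  · intro h
    exact hP1 ((Subgroup.map_eq_bot_iff_of_injective _ K.subtype_injective).mp h)
  · intro h
    exact hQ1 ((Subgroup.map_eq_bot_iff_of_injective _ K.subtype_injective).mp h)

/-- In a nilpotent group the join of the commutator subgroup and a proper normal subgroup is
proper. -/
theorem commutator_sup_lt (K N : Subgroup L) (hnil : Group.IsNilpotent K) (hNK : N < K)
    [hn : (N.subgroupOf K).Normal] : ⁅K, K⁆ ⊔ N < K := by
  haveI := hnil
  have hle : ⁅K, K⁆ ⊔ N ≤ K := sup_le (Subgroup.commutator_le_self K) hNK.le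
  refine lt_of_le_of_ne hle (fun heq => ?_)
  have h1 := index_commutator_quot K N hNK.le
  rw [heq, Subgroup.relIndex_self] at h1
  haveI : Nontrivial (↥K ⧸ N.subgroupOf K) := by
    rw [QuotientGroup.nontrivial_iff, Ne, Subgroup.subgroupOf_eq_top]
    exact not_le_of_gt hNK
  have h2 := Group.IsSolvable.commutator_lt_top_of_nontrivial (↥K ⧸ N.subgroupOf K)
  exact h2.ne (Subgroup.index_eq_one.mp h1)

/-- The kernel of a Frobenius group, given by the centralizer condition, is nilpotent. -/
theorem kernel_nilpotent (K : Subgroup L) [hK : K.Normal] (hK2 : K ≠ ⊤)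
    (hdvd : K.index ∣ Nat.card K - 1)
    (hC : ∀ n ∈ K, n ≠ 1 → Subgroup.centralizer ({n} : Set L) ≤ K) : Group.IsNilpotent K := by
  have hidx1 : K.index ≠ 1 := fun h => hK2 (Subgroup.index_eq_one.mp h)
  obtain ⟨q, hq⟩ : ∃ q, q = K.index.minFac := ⟨_, rfl⟩
  have hqp : q.Prime := by rw [hq]; exact Nat.minFac_prime hidx1
  have hqd : q ∣ K.index := by rw [hq]; exact Nat.minFac_dvd _
  haveI : Fact q.Prime := ⟨hqp⟩
  obtain ⟨x, hx⟩ := exists_prime_orderOf_dvd_card' q (hqd.trans (Subgroup.index_dvd_card K))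
  have hxK : x ∉ K := by
    intro hxK
    have h1 : q ∣ Nat.card K := by
      rw [← hx]
      exact Subgroup.orderOf_dvd_natCard K hxK
    have h2 : q ∣ Nat.card K - 1 := hqd.trans hdvd
    have hpos : 0 < Nat.card K := Nat.card_pos
    have h3 : q ∣ 1 := by
      have : Nat.card K = (Nat.card K - 1) + 1 := by omega
      rw [this] at h1
      exact (Nat.dvd_add_right h2).mp h1
    exact hqp.one_lt.ne' (Nat.dvd_one.mp h3)
  apply Cfsg.Agent.H1.nilpotent_of_prime_order_fpf K x ?_ hqp ?_ ?_
  · rw [Subgroup.normalizer_eq_top]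
    exact Subgroup.mem_top x
  · rw [← hx]; exact pow_orderOf_eq_one x
  · intro y hy hxy
    by_contra hy1
    apply hxK
    apply hC y hy hy1
    rw [Subgroup.mem_centralizer_iff]
    intro z hz
    rw [Set.mem_singleton_iff] at hz
    rw [hz, hxy]

end grp

end Cfsg.Agent.Lib.helper3.Feit
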