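import Mathlib
import Cfsg.Prelude.Def_OddOrderChar
import Cfsg.Prelude.Def_Transfer
import Cfsg.Agent.Lib.helper3.Feit7

/-!
# Feit's coherence theorem for Frobenius groups: the base of the descent
-/

set_option autoImplicit false
set_option linter.style.haveILetI false
set_option linter.unusedSectionVars false
set_option linter.unusedVariables false

namespace Cfsg.Agent.Lib.helper3.Feit

open Cfsg Module Cfsg.Agent.Lib.helper3.CharBasic Cfsg.Agent.Lib.helper3.IndFun
open Cfsg.Agent.Lib.helper3.Irr Cfsg.Agent.Lib.helper3.Coh Cfsg.Agent.Lib.helper3.Tifn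
open Cfsg.Agent.Lib.helper3.IndFunTI Cfsg.Agent.Lib.helper3.FP Cfsg.Agent.H2.PF6
open scoped ComplexConjugate commutatorElement

theorem succ_le_of_dvd_sub_one {e a : ℕ} (h : e ∣ a - 1) (ha : 1 < a) : e + 1 ≤ a := by
  have := Nat.le_of_dvd (by omega) h
  omega

theorem arith_num (e y w : ℕ) (he : 1 ≤ e) (hy : e + 1 ≤ y) (hw : (e + 1) ^ 2 ≤ w) :
    4 * e ^ 2 ≤ y * (w - 2) := by
  obtain ⟨e', rfl⟩ : ∃ e', e = e' + 1 := ⟨e - 1, by omega⟩
  have hw4 : 4 ≤ w := by nlinarith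
  obtain ⟨w', rfl⟩ : ∃ w', w = w' + 2 := ⟨w - 2, by omega⟩
  simp only [Nat.add_sub_cancel]
  have h1 : (e' + 1 + 1) * w' ≤ y * w' := Nat.mul_le_mul_right _ hy
  have h2 : 4 * (e' + 1) ^ 2 ≤ (e' + 1 + 1) * w' := by nlinarith
  omega

section base

variable {N : Type*} [Group N] [Fintype N] {G : Type*} [Group G] [Fintype G]
  (K : Subgroup N) [hKn : K.Normal]
  (hC : ∀ n ∈ K, n ≠ 1 → Subgroup.centralizer ({n} : Set N) ≤ K)
  (τ : (N → ℂ) → (G → ℂ))
  (hτ : IsLinearIsometryOn (zspanOn (inducedIrrAbove K ⊥) ({1}ᶜ : Set N)) τ)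
  (hτ1 : ∀ α ∈ zspanOn (inducedIrrAbove K ⊥) ({1}ᶜ : Set N), τ α 1 = 0)

include hC in
theorem irr_of_mem_induced : ∀ χ ∈ inducedIrrAbove K ⊥, IsIrrCharacter N χ := by
  intro χ hχ
  rw [inducedIrrAbove_bot_eq_relSet K hC] at hχ
  exact hχ.1

include hC hτ hτ1 in
/-- The base of the descent: `S(A)` is coherent when `K' ≤ A < K` and `|K : A| ≠ e + 1`. -/
theorem base_coherent (A : Subgroup N) [A.Normal] (hKK : ⁅K, K⁆ ≤ A) (hAK : A < K)
    (hw : A.relIndex K ≠ K.index + 1) :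
    IsCoherent (inducedIrrAbove K A) ({1}ᶜ : Set N) τ := by
  classical
  have hirr := irr_of_mem_induced K hC
  have hAS : inducedIrrAbove K A ⊆ inducedIrrAbove K ⊥ := inducedIrrAbove_mono K bot_le
  have hirrA : ∀ χ ∈ inducedIrrAbove K A, IsIrrCharacter N χ := fun χ hχ => hirr χ (hAS hχ)
  have hdeg : ∀ φ ∈ inducedIrrAbove K A, φ 1 = (K.index : ℂ) := by
    intro φ hφ
    obtain ⟨θ, hθ, rfl⟩ := (mem_inducedIrrAbove K).mp hφ
    rw [indFun_one_eq, linear_of_mem_thetaSet K A hKK hθ, mul_one]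
  have hfin : (inducedIrrAbove K A).Finite := finite_of_irr hirrA
  set FA : Finset (N → ℂ) := hfin.toFinset with hFA
  have hFA' : ∀ φ, φ ∈ FA ↔ φ ∈ inducedIrrAbove K A := fun φ => Set.Finite.mem_toFinset _
  have hsumC := sum_sq_div K A hAK.le FA hFA' (fun _ => K.index) (fun _ => 1)
    (fun φ hφ => hdeg φ ((hFA' φ).mp hφ))
    (fun φ hφ => by rw [irr_classInner_self (hirrA φ ((hFA' φ).mp hφ)), Nat.cast_one])
    (fun φ hφ => one_ne_zero)
  have hrel : 1 ≤ A.relIndex K := relIndex_pos' A K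
  have hrel1 : A.relIndex K ≠ 1 := by
    intro h
    exact not_le_of_gt hAK (Subgroup.relIndex_eq_one.mp h)
  have he : 0 < K.index := Nat.pos_of_ne_zero Subgroup.index_ne_zero_of_finite
  have hsumN : FA.card * K.index ^ 2 = K.index * (A.relIndex K - 1) := by
    have h1 : ((FA.card * K.index ^ 2 : ℕ) : ℂ) = ((K.index * (A.relIndex K - 1) : ℕ) : ℂ) := by
      rw [Nat.cast_mul (K.index), Nat.cast_sub hrel, Nat.cast_one, ← hsumC]
      simp only [Nat.cast_one, div_one, Finset.sum_const, nsmul_eq_mul]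
      push_cast
      ring
    exact_mod_cast h1
  have hcard : FA.card * K.index = A.relIndex K - 1 := by
    have h2 : K.index * (FA.card * K.index) = K.index * (A.relIndex K - 1) := by
      rw [← hsumN]; ring
    exact Nat.eq_of_mul_eq_mul_left he h2
  have htwo : 1 < FA.card := by
    by_contra hle
    have hc : FA.card = 0 ∨ FA.card = 1 := by omega
    rcases hc with hc | hc
    · rw [hc, zero_mul] at hcard
      omega
    · rw [hc, one_mul] at hcard
      omega
  obtain ⟨χ, hχ, ψ, hψ, hne⟩ := Finset.one_lt_card.mp htwo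
  apply coherent_of_constant_degree (inducedIrrAbove K A) hirrA
    ⟨χ, (hFA' χ).mp hχ, ψ, (hFA' ψ).mp hψ, hne⟩
    (fun φ hφ ψ hψ => by rw [hdeg φ hφ, hdeg ψ hψ]) τ
    (isLinearIsometryOn_mono hτ (zspanOn_mono _ hAS))
    (fun α hα => hτ1 α (zspanOn_mono _ hAS hα))

include hC hτ hτ1 in
/-- Coherence when `|K : K'|` is large. -/
theorem coherent_of_big (hnil : Group.IsNilpotent K) (hK1 : K ≠ ⊥)
    (hbig : 4 * K.index ^ 2 + 2 ≤ (⁅K, K⁆ : Subgroup N).relIndex K) :
    IsCoherent (inducedIrrAbove K ⊥) ({1}ᶜ : Set N) τ := by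
  have hirr := irr_of_mem_induced K hC
  have hlt : ⁅K, K⁆ < K := commutator_lt_of_nilpotent K hnil hK1
  have he : 0 < K.index := Nat.pos_of_ne_zero Subgroup.index_ne_zero_of_finite
  haveI : Group.IsNilpotent K := hnil
  have hsolv : Group.IsSolvable K := inferInstance
  have hbase := base_coherent K hC τ hτ hτ1 ⁅K, K⁆ le_rfl hlt (by nlinarith)
  haveI : ((⊥ : Subgroup N).subgroupOf K).Normal := inferInstance
  apply descend K hsolv τ hirr hτ hτ1 ⊥ ⁅K, K⁆ ⊥ bot_le hlt bot_le ?_ inferInstance hbase ?_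
  · intro x hx y _
    rw [Subgroup.mem_bot] at hx
    rw [hx]
    simp
  · rw [bot_sup_eq, Subgroup.relIndex_self, one_mul]
    omega

end base

end Cfsg.Agent.Lib.helper3.Feit
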