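import Mathlib
import Cfsg.Prelude.Def_OddOrderChar
import Cfsg.Prelude.Def_Transfer
import Cfsg.Agent.Lib.helper3.Feit8

/-!
# Feit's coherence theorem for Frobenius groups
-/

set_option autoImplicit false
set_option linter.style.haveILetI false
set_option linter.unusedSectionVars false
set_option linter.unusedVariables false

namespace Cfsg.Agent.Lib.helper3.Feit

open Cfsg Module Cfsg.Agent.Lib.helper3.CharBasic Cfsg.Agent.Lib.helper3.IndFun
open Cfsg.Agent.Lib.helper3.Irr Cfsg.Agent.Lib.helper3.Coh Cfsg.Agent.Lib.helper3.Tifn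
open Cfsg.Agent.Lib.helper3.IndFunTI Cfsg.Agent.Lib.helper3.FP Cfsg.Agent.H2.PF6
open scoped ComplexConjugate commutatorElement

section main

variable {N : Type*} [Group N] [Fintype N] {G : Type*} [Group G] [Fintype G]
  (K : Subgroup N) [hKn : K.Normal]
  (hC : ∀ n ∈ K, n ≠ 1 → Subgroup.centralizer ({n} : Set N) ≤ K)
  (τ : (N → ℂ) → (G → ℂ))
  (hτ : IsLinearIsometryOn (zspanOn (inducedIrrAbove K ⊥) ({1}ᶜ : Set N)) τ)
  (hτ1 : ∀ α ∈ zspanOn (inducedIrrAbove K ⊥) ({1}ᶜ : Set N), τ α 1 = 0)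

theorem one_lt_relIndex {A B : Subgroup N} (h : ¬ B ≤ A) : 1 < A.relIndex B := by
  have h0 : 0 < A.relIndex B := relIndex_pos' A B
  have h1 : A.relIndex B ≠ 1 := fun h1 => h (Subgroup.relIndex_eq_one.mp h1)
  omega

include hC hτ hτ1 in
/-- Coherence when the kernel is not of prime power order. -/
theorem coherent_of_not_prime_power (hnil : Group.IsNilpotent K)
    (hnp : ¬ ∃ p : ℕ, p.Prime ∧ ∃ m : ℕ, Nat.card K = p ^ m) :
    IsCoherent (inducedIrrAbove K ⊥) ({1}ᶜ : Set N) τ := by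
  have hirr := irr_of_mem_induced K hC
  have he : 0 < K.index := Nat.pos_of_ne_zero Subgroup.index_ne_zero_of_finite
  haveI : Group.IsNilpotent K := hnil
  have hsolv : Group.IsSolvable K := inferInstance
  obtain ⟨P, Q, hPn, hQn, hsup, hinf, hP1, hQ1⟩ := exists_decomp K hnil hnp
  haveI := hPn
  haveI := hQn
  have hPK : P ≤ K := by rw [← hsup]; exact le_sup_left
  have hQK : Q ≤ K := by rw [← hsup]; exact le_sup_right
  have hPlt : P < K := by
    refine lt_of_le_of_ne hPK (fun h => hQ1 ?_)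
    rw [← hinf, h, inf_of_le_right hQK]
  have hQlt : Q < K := by
    refine lt_of_le_of_ne hQK (fun h => hP1 ?_)
    rw [← hinf, h, inf_of_le_left hPK]
  obtain ⟨K', hK'⟩ : ∃ K' : Subgroup N, K' = ⁅K, K⁆ := ⟨_, rfl⟩
  haveI hK'n : K'.Normal := by rw [hK']; infer_instance
  have hK'K : K' ≤ K := by rw [hK']; exact Subgroup.commutator_le_self K
  have h1 : K' ⊔ P < K := by rw [hK']; exact commutator_sup_lt K P hnil hPlt
  have h2 : Q ⊔ K' < K := by rw [hK', sup_comm]; exact commutator_sup_lt K Q hnil hQlt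
  have hK'lt : K' < K := lt_of_le_of_lt le_sup_left h1
  have hQK' : ¬ Q ⊔ K' ≤ K' := by
    intro h
    apply h1.ne
    apply le_antisymm h1.le
    rw [← hsup]
    exact sup_le le_sup_right ((le_sup_left.trans h).trans le_sup_left)
  -- the sizes of the sections
  have hKKle : ⁅K, K⁆ ≤ K' := by rw [hK']
  have hy₀ : K.index + 1 ≤ K'.relIndex (Q ⊔ K') := by
    apply succ_le_of_dvd_sub_one _ (one_lt_relIndex hQK')
    exact frob_dvd K' (Q ⊔ K') K le_sup_right h2.le hKKle (frob_quot K K' hK'K hC)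
  have ha₀ : K.index + 1 ≤ (Q ⊔ K').relIndex K := by
    apply succ_le_of_dvd_sub_one _ (one_lt_relIndex (not_le_of_gt h2))
    exact frob_dvd (Q ⊔ K') K K h2.le le_rfl (hKKle.trans le_sup_right)
      (frob_quot K (Q ⊔ K') h2.le hC)
  have hw : (K.index + 1) ^ 2 ≤ K'.relIndex K := by
    rw [← Subgroup.relIndex_mul_relIndex K' (Q ⊔ K') K le_sup_right h2.le, pow_two]
    exact Nat.mul_le_mul hy₀ ha₀
  -- the base
  have hbase : IsCoherent (inducedIrrAbove K K') ({1}ᶜ : Set N) τ := by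
    apply base_coherent K hC τ hτ hτ1 K' hKKle hK'lt
    intro h
    rw [h] at hw
    nlinarith
  -- the first phase
  obtain ⟨M, hM⟩ : ∃ M : Subgroup N, M = ⁅Q, K⁆ := ⟨_, rfl⟩
  haveI hMn : M.Normal := by rw [hM]; infer_instance
  have hMK' : M ≤ K' := by rw [hM, hK']; exact Subgroup.commutator_mono hQK le_rfl
  have hMQ : M ≤ Q := by rw [hM]; exact Subgroup.commutator_le_left Q K
  have hMlt : M < K := lt_of_le_of_lt hMK' hK'lt
  have hphase1 : IsCoherent (inducedIrrAbove K M) ({1}ᶜ : Set N) τ := by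
    apply descend K hsolv τ hirr hτ hτ1 M K' Q hMK' hK'lt hQK ?_ inferInstance hbase
      (arith_num K.index _ _ he hy₀ hw)
    intro x hx y hy
    have : ⁅x, y⁆ ∈ ⁅Q, K⁆ := Subgroup.commutator_mem_commutator hx hy
    rw [commutatorElement_def] at this
    rw [hM]
    exact this
  -- the second phase
  obtain ⟨Z, hZ⟩ : ∃ Z : Subgroup N, Z = Subgroup.centralizer (K : Set N) ⊓ P := ⟨_, rfl⟩
  haveI hZn : Z.Normal := by rw [hZ]; infer_instance
  have hZP : Z ≤ P := by rw [hZ]; exact inf_le_right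
  have hZK : Z ≤ K := hZP.trans hPK
  have hZc : ∀ z ∈ Z, ∀ k ∈ K, z * k = k * z := by
    intro z hz k hk
    rw [hZ] at hz
    exact ((Subgroup.mem_centralizer_iff.mp (Subgroup.mem_inf.mp hz).1) k hk).symm
  have hZ1 : Z ≠ ⊥ := by
    obtain ⟨x, hxP, hx1, hxc⟩ := exists_central_mem K P hnil hPK hP1
    intro hbot
    apply hx1
    have hxZ : x ∈ Z := by
      rw [hZ]
      refine Subgroup.mem_inf.mpr ⟨?_, hxP⟩
      rw [Subgroup.mem_centralizer_iff]
      intro k hk
      exact (hxc k hk).symm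
    rw [hbot, Subgroup.mem_bot] at hxZ
    exact hxZ
  have hZcard : K.index + 1 ≤ Nat.card Z := by
    apply succ_le_of_dvd_sub_one (frob_index_dvd K Z hZK hZc hC)
    rw [Nat.one_lt_iff_ne_zero_and_ne_one]
    exact ⟨Nat.card_pos.ne', fun h => hZ1 (Subgroup.card_eq_one.mp h)⟩
  have hMZ : M ⊓ Z = ⊥ := by
    rw [eq_bot_iff, ← hinf]
    exact le_inf (inf_le_right.trans hZP) (inf_le_left.trans hMQ)
  have hy₁ : M.relIndex (Z ⊔ M) = Nat.card Z := by
    rw [Subgroup.relIndex_sup_right, ← Subgroup.inf_relIndex_right, hMZ,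
      Subgroup.relIndex_bot_left]
  have hw₁ : (K.index + 1) ^ 2 ≤ M.relIndex K :=
    hw.trans (Nat.le_of_dvd (relIndex_pos' _ _) (Subgroup.relIndex_dvd_of_le_left K hMK'))
  haveI : ((⊥ : Subgroup N).subgroupOf K).Normal := inferInstance
  apply descend K hsolv τ hirr hτ hτ1 ⊥ M Z bot_le hMlt hZK ?_ inferInstance hphase1 ?_
  · intro x hx y hy
    rw [Subgroup.mem_bot, hZc x hx y hy]
    group
  · rw [hy₁]
    exact arith_num K.index _ _ he hZcard hw₁

end main

section final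

variable {N : Type*} [Group N] [Fintype N] {G : Type*} [Group G] [Fintype G]

/-- **Feit's coherence theorem** for a Frobenius group with kernel `K`. -/
theorem feit_frobenius (K : Subgroup N) [hKn : K.Normal] (hK1 : K ≠ ⊥) (hK2 : K ≠ ⊤)
    (hC : ∀ n ∈ K, n ≠ 1 → Subgroup.centralizer ({n} : Set N) ≤ K)
    (he : Nat.card K ≠ K.index + 1) (τ : (N → ℂ) → (G → ℂ))
    (hτ : IsLinearIsometryOn (zspanOn (relSet K) ({1}ᶜ : Set N)) τ)
    (hτ1 : ∀ α ∈ zspanOn (relSet K) ({1}ᶜ : Set N), τ α 1 = 0) :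
    IsCoherent (relSet K) ({1}ᶜ : Set N) τ ∨
      ∃ p : ℕ, p.Prime ∧ (∃ m : ℕ, Nat.card K = p ^ m) ∧ (¬ ∀ a ∈ K, ∀ b ∈ K, a * b = b * a) ∧
        (⁅K, K⁆ : Subgroup N).relIndex K ≤ 4 * K.index ^ 2 + 1 := by
  rw [← inducedIrrAbove_bot_eq_relSet K hC] at hτ hτ1 ⊢
  have hnil : Group.IsNilpotent K := kernel_nilpotent K hK2 (index_dvd_card_sub_one K hC) hC
  by_cases hab : ∀ a ∈ K, ∀ b ∈ K, a * b = b * a
  · left
    have hKK : ⁅K, K⁆ ≤ (⊥ : Subgroup N) := by
      rw [Subgroup.commutator_le]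
      intro a ha b hb
      rw [Subgroup.mem_bot, commutatorElement_def, hab a ha b hb]
      group
    apply base_coherent K hC τ hτ hτ1 ⊥ hKK (bot_lt_iff_ne_bot.mpr hK1)
    rw [Subgroup.relIndex_bot_left]
    exact he
  · by_cases hp : ∃ p : ℕ, p.Prime ∧ ∃ m : ℕ, Nat.card K = p ^ m
    · by_cases hsmall : (⁅K, K⁆ : Subgroup N).relIndex K ≤ 4 * K.index ^ 2 + 1
      · right
        obtain ⟨p, hpp, m, hm⟩ := hp
        exact ⟨p, hpp, ⟨m, hm⟩, hab, hsmall⟩
      · left
        exact coherent_of_big K hC τ hτ hτ1 hnil hK1 (by omega)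
    · left
      exact coherent_of_not_prime_power K hC τ hτ hτ1 hnil hp

end final

end Cfsg.Agent.Lib.helper3.Feit
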