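import Mathlib
import Cfsg.Prelude.Def_OddOrderChar
import Cfsg.Prelude.Def_Transfer
import Cfsg.Agent.Lib.helper3.Feit9

/-!
# The coherence theorem of Feit and Sibley for nilpotent trivial-intersection subgroups
-/

set_option autoImplicit false
set_option linter.style.haveILetI false
set_option linter.unusedSectionVars false
set_option linter.unusedVariables false

namespace Cfsg.Agent.Lib.helper3.Feit

open Cfsg Module Cfsg.Agent.Lib.helper3.CharBasic Cfsg.Agent.Lib.helper3.IndFun
open Cfsg.Agent.Lib.helper3.Irr Cfsg.Agent.Lib.helper3.Coh Cfsg.Agent.Lib.helper3.Tifn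
open Cfsg.Agent.Lib.helper3.IndFunTI Cfsg.Agent.Lib.helper3.FP Cfsg.Agent.H2.PF6
open scoped ComplexConjugate commutatorElement

/-- A power of two which is at most `4e² + 1`, for odd `e > 1`, is less than `4e²`. -/
theorem two_pow_lt {e j : ℕ} (he : Odd e) (he1 : 1 < e) (h : 2 ^ j ≤ 4 * e ^ 2 + 1) :
    2 ^ j < 4 * e ^ 2 := by
  by_contra hnot
  have hcases : 2 ^ j = 4 * e ^ 2 ∨ 2 ^ j = 4 * e ^ 2 + 1 := by omega
  rcases hcases with hc | hc
  · have h1 : e ∣ 2 ^ j := by
      rw [hc]
      exact ⟨4 * e, by ring⟩
    obtain ⟨i, -, hi⟩ := (Nat.dvd_prime_pow Nat.prime_two).mp h1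
    rcases Nat.eq_zero_or_pos i with rfl | hi0
    · rw [pow_zero] at hi; omega
    · rw [hi] at he
      have : Even (2 ^ i) := (Nat.even_pow' hi0.ne').mpr even_two
      exact (Nat.not_odd_iff_even.mpr this) he
  · rcases Nat.eq_zero_or_pos j with rfl | hj0
    · rw [pow_zero] at hc
      have : 0 < e ^ 2 := by positivity
      omega
    · have h1 : Even (2 ^ j) := (Nat.even_pow' hj0.ne').mpr even_two
      rw [hc] at h1
      have h2 : Odd (4 * e ^ 2 + 1) := ⟨2 * e ^ 2, by ring⟩
      exact (Nat.not_even_iff_odd.mpr h2) h1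

variable {G : Type*} [Group G] [Fintype G]

/-- **Feit–Sibley.** -/
theorem feit_sibley (K : Subgroup G) (hK1 : K ≠ ⊥) (hnil : Group.IsNilpotent K)
    (hTI : IsTISubset (K : Set G)) (hlt : K < Subgroup.normalizer (K : Set G))
    (hC : ∀ k ∈ K, k ≠ 1 → Subgroup.centralizer ({k} : Set G) ≤ K)
    [Fintype ↥(Subgroup.normalizer (K : Set G))] :
    (Nat.card {χ : ↥(Subgroup.normalizer (K : Set G)) → ℂ //
        IsIrrCharacter ↥(Subgroup.normalizer (K : Set G)) χ ∧
          ∃ k : ↥(Subgroup.normalizer (K : Set G)), (k : G) ∈ K ∧ χ k ≠ χ 1} = 1 ∧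
      Nat.card K = (K.subgroupOf (Subgroup.normalizer (K : Set G))).index + 1 ∧
      ∃ p : ℕ, p.Prime ∧ IsElementaryAbelian p K) ∨
    (Nat.card K = 2 ^ (Nat.card G).factorization 2 ∧
      (⁅K, K⁆.subgroupOf K).index <
        4 * (K.subgroupOf (Subgroup.normalizer (K : Set G))).index ^ 2) ∨
    IsCoherent (relSet (K.subgroupOf (Subgroup.normalizer (K : Set G))))
      ({1}ᶜ : Set ↥(Subgroup.normalizer (K : Set G)))
      (fun α => indFun (Subgroup.normalizer (K : Set G)) α) := by
  classical
  have hKcard1 : Nat.card K ≠ 1 := fun h => hK1 (Subgroup.card_eq_one.mp h)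
  rcases tifn_trichotomy K hnil hK1 hTI hC with h | h | h
  · left
    obtain ⟨h1, h2, h3, h4⟩ := h
    refine ⟨h1, h2, (Nat.card K).minFac, Nat.minFac_prime hKcard1,
      ⟨⟨⟨fun a b => Subtype.ext (h3 a a.2 b b.2)⟩⟩, ?_⟩⟩
    exact h4 _ (Nat.minFac_prime hKcard1) (Nat.minFac_dvd _)
  · right; right
    exact h
  · obtain ⟨hna, hnodd⟩ := h
    have hKL : K ≤ Subgroup.normalizer (K : Set G) := Subgroup.le_normalizer
    haveI hKn : (K.subgroupOf (Subgroup.normalizer (K : Set G))).Normal :=
      Subgroup.normal_in_normalizer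
    have hCn := centralizer_le_subgroupOf K hC
    have hKt1 : K.subgroupOf (Subgroup.normalizer (K : Set G)) ≠ ⊥ := by
      intro hbot
      rw [Subgroup.subgroupOf_eq_bot, disjoint_iff, inf_of_le_left hKL] at hbot
      exact hK1 hbot
    have hKt2 : K.subgroupOf (Subgroup.normalizer (K : Set G)) ≠ ⊤ := by
      intro htop
      rw [Subgroup.subgroupOf_eq_top] at htop
      exact not_le_of_gt hlt htop
    have hnilK : Group.IsNilpotent (K.subgroupOf (Subgroup.normalizer (K : Set G))) := by
      haveI := hnil
      exact Group.nilpotent_of_mulEquiv (Subgroup.subgroupOfEquivOfLe hKL).symm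
    have hcardKH : Nat.card (K.subgroupOf (Subgroup.normalizer (K : Set G))) = Nat.card K :=
      Nat.card_congr (Subgroup.subgroupOfEquivOfLe hKL).toEquiv
    have hnat : ¬ ∀ a ∈ K.subgroupOf (Subgroup.normalizer (K : Set G)),
        ∀ b ∈ K.subgroupOf (Subgroup.normalizer (K : Set G)), a * b = b * a := by
      intro hab
      apply hna
      intro a ha b hb
      have := hab ⟨a, hKL ha⟩ (Subgroup.mem_subgroupOf.mpr ha) ⟨b, hKL hb⟩
        (Subgroup.mem_subgroupOf.mpr hb)
      exact congrArg Subtype.val this
    have he : Nat.card (K.subgroupOf (Subgroup.normalizer (K : Set G))) ≠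
        (K.subgroupOf (Subgroup.normalizer (K : Set G))).index + 1 := by
      intro hcard
      exact hnat (comm_of_card _ hCn hnilK hKt1 hcard)
    obtain ⟨hisom, hone⟩ := isLinearIsometryOn_indFun_TI K hTI
      (relSet (K.subgroupOf (Subgroup.normalizer (K : Set G))))
      (fun χ hχ => Cfsg.Agent.Lib.helper3.GenChar.of_isIrrCharacter hχ.1)
      (fun χ hχ x hx => apply_eq_zero_of_not_mem _ hCn hχ
        (fun h => hx (Subgroup.mem_subgroupOf.mp h)))
    rcases feit_frobenius (K.subgroupOf (Subgroup.normalizer (K : Set G))) hKt1 hKt2 hCn he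
      (fun α => indFun (Subgroup.normalizer (K : Set G)) α) hisom hone with hcoh | hp
    · right; right
      exact hcoh
    · right; left
      obtain ⟨p, hpp, ⟨m, hm⟩, -, hidx⟩ := hp
      -- the prime is two
      have hp2 : p = 2 := by
        by_contra hp2
        apply hnodd
        apply odd_card_of_nonabelian_kernel _ hCn hnat
        rw [hm]
        exact (hpp.odd_of_ne_two hp2).pow
      subst hp2
      have hm0 : m ≠ 0 := by
        rintro rfl
        rw [pow_zero, hcardKH] at hm
        exact hKcard1 hm
      have hKcard : Nat.card K = 2 ^ m := by rw [← hcardKH, hm]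
      obtain ⟨e, he'⟩ : ∃ e, e = (K.subgroupOf (Subgroup.normalizer (K : Set G))).index := ⟨_, rfl⟩
      rw [← he'] at hidx ⊢
      have hedvd : e ∣ 2 ^ m - 1 := by
        rw [he', ← hm]
        exact index_dvd_card_sub_one _ hCn
      have hpow2 : 2 ∣ 2 ^ m := dvd_pow_self 2 hm0
      have hpowpos : 0 < 2 ^ m := by positivity
      have heodd : Odd e := by
        rw [← Nat.not_even_iff_odd]
        intro heven
        have h2 : 2 ∣ 2 ^ m - 1 := heven.two_dvd.trans hedvd
        omega
      have he1 : 1 < e := by
        have h0 : e ≠ 0 := by rw [he']; exact Subgroup.index_ne_zero_of_finite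
        have h1 : e ≠ 1 := by
          rw [he']
          intro h
          exact hKt2 (Subgroup.index_eq_one.mp h)
        omega
      constructor
      · -- `K` is a Sylow subgroup
        haveI : Fact (Nat.Prime 2) := ⟨Nat.prime_two⟩
        have hG0 : Nat.card G ≠ 0 := Nat.card_pos.ne'
        have h1 : m ≤ (Nat.card G).factorization 2 := by
          rw [← Nat.Prime.pow_dvd_iff_le_factorization Nat.prime_two hG0, ← hKcard]
          exact Subgroup.card_subgroup_dvd_card K
        have h2 : ¬ m + 1 ≤ (Nat.card G).factorization 2 := by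
          rw [← Nat.Prime.pow_dvd_iff_le_factorization Nat.prime_two hG0]
          intro hdvd
          have h3 := Sylow.prime_pow_dvd_card_normalizer hdvd hKcard
          have h4 : e * 2 ^ m = Nat.card ↥(Subgroup.normalizer (K : Set G)) := by
            rw [he', ← hm]
            exact Subgroup.index_mul_card _
          rw [← h4, pow_succ, mul_comm e] at h3
          have h5 : 2 ∣ e := (Nat.mul_dvd_mul_iff_left hpowpos).mp h3
          exact (Nat.not_even_iff_odd.mpr heodd) (even_iff_two_dvd.mpr h5)
        rw [hKcard]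
        congr 1
        omega
      · -- the index of the commutator subgroup
        have hmapK : (K.subgroupOf (Subgroup.normalizer (K : Set G))).map
            (Subgroup.normalizer (K : Set G)).subtype = K :=
          Subgroup.map_subgroupOf_eq_of_le hKL
        have hrel : (⁅K, K⁆ : Subgroup G).relIndex K =
            (⁅K.subgroupOf (Subgroup.normalizer (K : Set G)),
              K.subgroupOf (Subgroup.normalizer (K : Set G))⁆ :
                Subgroup ↥(Subgroup.normalizer (K : Set G))).relIndex
              (K.subgroupOf (Subgroup.normalizer (K : Set G))) := by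
          rw [← Subgroup.relIndex_map_map_of_injective _ _
            (Subgroup.normalizer (K : Set G)).subtype_injective, Subgroup.map_commutator, hmapK]
        have hdvd : (⁅K, K⁆ : Subgroup G).relIndex K ∣ 2 ^ m := by
          rw [← hKcard]
          exact Subgroup.relIndex_dvd_card _ _
        obtain ⟨j, -, hj⟩ := (Nat.dvd_prime_pow Nat.prime_two).mp hdvd
        show (⁅K, K⁆ : Subgroup G).relIndex K < 4 * e ^ 2
        rw [hj]
        apply two_pow_lt heodd he1
        rw [← hj, hrel]
        exact hidx

end Cfsg.Agent.Lib.helper3.Feit
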