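import Mathlib

/-!
# Recognition of the symmetric group of degree 4

A group of order 24 with no normal subgroup of order 2 or 3 is isomorphic to `Equiv.Perm (Fin 4)`
(action on its four Sylow 3-subgroups).
-/

set_option autoImplicit false

namespace Cfsg.Agent.Lib.helper3.Perm4Rec

open MulAction

theorem card_sylow3 {Y : Type*} [Group Y] [Finite Y] (hY : Nat.card Y = 24) (P : Sylow 3 Y) :
    Nat.card ↥(P : Subgroup Y) = 3 := by
  haveI : Fact (Nat.Prime 3) := ⟨by norm_num⟩
  rw [Sylow.card_eq_multiplicity, hY]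
  have h24 : (24 : ℕ) = 2 ^ 3 * 3 := by norm_num
  have hf : Nat.factorization 24 3 = 1 := by
    rw [h24, Nat.factorization_mul (by norm_num) (by norm_num), Nat.factorization_pow]
    simp [Nat.Prime.factorization (show Nat.Prime 2 by norm_num),
      Nat.Prime.factorization (show Nat.Prime 3 by norm_num)]
  rw [hf, pow_one]

theorem card_sylow_eq_four {Y : Type*} [Group Y] [Finite Y] (hY : Nat.card Y = 24)
    (h3 : ∀ N : Subgroup Y, N.Normal → Nat.card ↥N ≠ 3) : Nat.card (Sylow 3 Y) = 4 := by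
  haveI : Fact (Nat.Prime 3) := ⟨by norm_num⟩
  obtain ⟨P⟩ : Nonempty (Sylow 3 Y) := Sylow.nonempty
  have hP := card_sylow3 hY P
  have hidx : (P : Subgroup Y).index = 8 := by
    have h := (P : Subgroup Y).card_mul_index
    rw [hP, hY] at h
    omega
  have hdvd : Nat.card (Sylow 3 Y) ∣ 8 := by
    have h := Sylow.card_dvd_index P
    rwa [hidx] at h
  have hmod : Nat.card (Sylow 3 Y) ≡ 1 [MOD 3] := card_sylow_modEq_one 3 Y
  have hle : Nat.card (Sylow 3 Y) ≤ 8 := Nat.le_of_dvd (by norm_num) hdvd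
  have hne1 : Nat.card (Sylow 3 Y) ≠ 1 := by
    intro h1
    haveI : Subsingleton (Sylow 3 Y) := (Nat.card_eq_one_iff_unique.mp h1).1
    exact h3 (P : Subgroup Y) (Sylow.normal_of_subsingleton P) hP
  unfold Nat.ModEq at hmod
  interval_cases h : Nat.card (Sylow 3 Y) <;> simp_all

theorem perm4_of_card24 {Y : Type*} [Group Y] [Finite Y] (hY : Nat.card Y = 24)
    (h3 : ∀ N : Subgroup Y, N.Normal → Nat.card ↥N ≠ 3)
    (h2 : ∀ N : Subgroup Y, N.Normal → Nat.card ↥N ≠ 2) :
    Nonempty (Y ≃* Equiv.Perm (Fin 4)) := by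
  classical
  haveI : Fact (Nat.Prime 3) := ⟨by norm_num⟩
  have h4 := card_sylow_eq_four hY h3
  obtain ⟨P⟩ : Nonempty (Sylow 3 Y) := Sylow.nonempty
  have hP := card_sylow3 hY P
  -- the normalizer of `P` has order 6
  have hN6 : Nat.card ↥(Subgroup.normalizer ((P : Subgroup Y) : Set Y)) = 6 := by
    have hidxN : (Subgroup.normalizer ((P : Subgroup Y) : Set Y)).index = 4 := by
      rw [← h4]; exact (Sylow.card_eq_index_normalizer P).symm
    have h := (Subgroup.normalizer ((P : Subgroup Y) : Set Y)).card_mul_index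
    rw [hidxN, hY] at h
    omega
  set φ : Y →* Equiv.Perm (Sylow 3 Y) := MulAction.toPermHom Y (Sylow 3 Y) with hφ
  have hker_fix : ∀ k ∈ φ.ker, ∀ R : Sylow 3 Y, k • R = R := by
    intro k hk R
    have h1 : φ k = 1 := MonoidHom.mem_ker.mp hk
    have h2' : (φ k) R = R := by rw [h1]; rfl
    exact h2'
  have hker_le : φ.ker ≤ Subgroup.normalizer ((P : Subgroup Y) : Set Y) := by
    intro k hk
    have hst : MulAction.stabilizer Y P = Subgroup.normalizer ((P : Subgroup Y) : Set Y) :=
      Sylow.stabilizer_eq_normalizer P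
    rw [← hst]
    exact MulAction.mem_stabilizer_iff.mpr (hker_fix k hk P)
  have hkdvd : Nat.card ↥φ.ker ∣ 6 := by
    rw [← hN6]
    exact Subgroup.card_dvd_of_le hker_le
  -- 3 does not divide the order of the kernel
  have hk3 : ¬ 3 ∣ Nat.card ↥φ.ker := by
    intro hdvd
    obtain ⟨x, hx⟩ := exists_prime_orderOf_dvd_card' 3 hdvd
    -- the subgroup generated by `x` lies in every Sylow 3-subgroup
    have hxP : ∀ R : Sylow 3 Y, Subgroup.zpowers (x : Y) ≤ (R : Subgroup Y) := by
      intro R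
      have hpg : IsPGroup 3 ↥(Subgroup.zpowers (x : Y)) := by
        apply IsPGroup.of_card (n := 1)
        rw [Nat.card_zpowers, Subgroup.orderOf_coe, hx, pow_one]
      rw [← hpg.sylow_mem_fixedPoints_iff]
      intro k
      have hk : (k : Y) ∈ φ.ker := by
        obtain ⟨k, hk⟩ := k
        obtain ⟨m, rfl⟩ := Subgroup.mem_zpowers_iff.mp hk
        exact Subgroup.zpow_mem _ x.2 m
      exact hker_fix (k : Y) hk R
    have hcz : Nat.card ↥(Subgroup.zpowers (x : Y)) = 3 := by
      rw [Nat.card_zpowers, Subgroup.orderOf_coe, hx]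
    have heq : ∀ R : Sylow 3 Y, (R : Subgroup Y) = Subgroup.zpowers (x : Y) := by
      intro R
      symm
      apply Subgroup.eq_of_le_of_card_ge (hxP R)
      rw [hcz, card_sylow3 hY R]
    have hsub : Subsingleton (Sylow 3 Y) :=
      ⟨fun R R' => Sylow.ext ((heq R).trans (heq R').symm)⟩
    have h1 : Nat.card (Sylow 3 Y) ≤ 1 := by
      haveI := hsub
      exact Finite.card_le_one_iff_subsingleton.mpr hsub
    omega
  have hkbot : φ.ker = ⊥ := by
    have hpos : 0 < Nat.card ↥φ.ker := Nat.card_pos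
    have hle : Nat.card ↥φ.ker ≤ 6 := Nat.le_of_dvd (by norm_num) hkdvd
    have hcases : Nat.card ↥φ.ker = 1 ∨ Nat.card ↥φ.ker = 2 := by
      interval_cases h : Nat.card ↥φ.ker <;> simp_all
    rcases hcases with h | h
    · exact Subgroup.card_eq_one.mp h
    · exact absurd h (h2 φ.ker (MonoidHom.normal_ker φ))
  have hinj : Function.Injective φ := (MonoidHom.ker_eq_bot_iff φ).mp hkbot
  -- cardinalities
  haveI : Fintype (Sylow 3 Y) := Fintype.ofFinite _
  have hcS : Fintype.card (Sylow 3 Y) = 4 := by rw [← Nat.card_eq_fintype_card]; exact h4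
  have hcardPerm : Nat.card (Equiv.Perm (Sylow 3 Y)) = 24 := by
    rw [Nat.card_eq_fintype_card, Fintype.card_perm, hcS]; rfl
  have hbij : Function.Bijective φ := by
    rw [Nat.bijective_iff_injective_and_card]
    exact ⟨hinj, by rw [hY, hcardPerm]⟩
  have e1 : Y ≃* Equiv.Perm (Sylow 3 Y) := MulEquiv.ofBijective φ hbij
  have e2 : Sylow 3 Y ≃ Fin 4 := (Fintype.equivFinOfCardEq hcS)
  exact ⟨e1.trans e2.permCongrHom⟩

end Cfsg.Agent.Lib.helper3.Perm4Rec
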