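import Mathlib
import Cfsg.Agent.H1.Cores
import Cfsg.Agent.Lib.helper3.Perm4Rec

/-!
# S3304, piece (P-M5): `X / Z(X) ≃ S₄`
-/

set_option autoImplicit false
open Cfsg

namespace Cfsg.Agent.Lib.Helper5.S3304

variable {X : Type*} [Group X] [Finite X]

theorem quot_center_perm4 (hO : Cfsg.pPrimeCore 2 X = ⊥) (Q : Subgroup X) [Q.Normal]
    (e : ↥Q ≃* QuaternionGroup 2) (hCQ : Subgroup.centralizer (Q : Set X) ≤ Q)
    (hQmax : ∀ K : Subgroup X, K.Normal → IsPGroup 2 ↥K → K ≤ Q)
    (h48 : Nat.card X = 48) (hZ : Nat.card ↥(Subgroup.center X) = 2)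
    (hZQ : Subgroup.center X ≤ Q)
    (hK : ∀ C : Subgroup X, C ≤ Q → Nat.card ↥C = 4 → ¬ C.Normal) :
    Nonempty (X ⧸ Subgroup.center X ≃* Equiv.Perm (Fin 4)) := by
  classical
  haveI : Fact (Nat.Prime 2) := ⟨Nat.prime_two⟩
  set π : X →* X ⧸ Subgroup.center X := QuotientGroup.mk' (Subgroup.center X) with hπ
  have hπsurj : Function.Surjective π := QuotientGroup.mk'_surjective _
  have hπ1 : ∀ x : X, π x = 1 ↔ x ∈ Subgroup.center X := fun x => QuotientGroup.eq_one_iff x
  have hY : Nat.card (X ⧸ Subgroup.center X) = 24 := by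
    have h := Subgroup.card_eq_card_quotient_mul_card_subgroup (Subgroup.center X)
    rw [h48, hZ] at h
    omega
  have hZsq : ∀ z ∈ Subgroup.center X, z ^ 2 = 1 := by
    intro z hz
    have h := pow_card_eq_one' (G := ↥(Subgroup.center X)) (x := ⟨z, hz⟩)
    rw [hZ] at h
    exact congrArg Subtype.val h
  apply Cfsg.Agent.Lib.helper3.Perm4Rec.perm4_of_card24 hY
  · -- no normal subgroup of order 3
    intro Nb hNb hcard
    -- a generator of `Nb`
    have hnt : Nontrivial ↥Nb := by
      rw [← Finite.one_lt_card_iff_nontrivial, hcard]; norm_num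
    obtain ⟨⟨xb, hxbN⟩, hxb1⟩ := exists_ne (1 : ↥Nb)
    have hxb1' : xb ≠ 1 := fun h => hxb1 (Subtype.ext h)
    have hxb3 : xb ^ 3 = 1 := by
      have h := pow_card_eq_one' (G := ↥Nb) (x := ⟨xb, hxbN⟩)
      rw [hcard] at h
      exact congrArg Subtype.val h
    have hoxb : orderOf xb = 3 := orderOf_eq_prime hxb3 hxb1'
    have hzp : Subgroup.zpowers xb = Nb := by
      apply Subgroup.eq_of_le_of_card_ge
      · rw [Subgroup.zpowers_le]; exact hxbN
      · rw [hcard, Nat.card_zpowers, hoxb]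
    obtain ⟨x, rfl⟩ := hπsurj xb
    set c : X := x ^ 4 with hc
    have hx3Z : x ^ 3 ∈ Subgroup.center X := by
      rw [← hπ1, map_pow]; exact hxb3
    have hπc : π c = π x := by
      rw [hc, map_pow]
      have : (π x) ^ 4 = (π x) ^ 3 * π x := by rw [pow_succ]
      rw [this, hxb3, one_mul]
    have hc3 : c ^ 3 = 1 := by
      have h1 : c ^ 3 = ((x ^ 3) ^ 2) ^ 2 := by
        rw [hc, ← pow_mul, ← pow_mul, ← pow_mul]
      rw [h1, hZsq _ hx3Z, one_pow]
    have hc1 : c ≠ 1 := by
      intro h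
      apply hxb1'
      rw [← hπc, h, map_one]
    have hoc : orderOf c = 3 := orderOf_eq_prime hc3 hc1
    -- conjugates of `c` are powers of `c`
    have hconj : ∀ g : X, g * c * g⁻¹ ∈ Subgroup.zpowers c := by
      intro g
      have h1 : π (g * c * g⁻¹) ∈ Nb := by
        rw [map_mul, map_mul, map_inv, hπc]
        exact hNb.conj_mem _ hxbN _
      rw [← hzp] at h1
      obtain ⟨k, hk⟩ := Subgroup.mem_zpowers_iff.mp h1
      have h2 : π (c ^ k) = π (g * c * g⁻¹) := by
        rw [map_zpow, hπc]; exact hk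
      have h3 : (c ^ k)⁻¹ * (g * c * g⁻¹) ∈ Subgroup.center X := by
        rw [← hπ1, map_mul, map_inv, h2, inv_mul_cancel]
      set z' : X := (c ^ k)⁻¹ * (g * c * g⁻¹) with hz'
      have h4 : g * c * g⁻¹ = c ^ k * z' := by rw [hz']; group
      have hcomm : Commute (c ^ k) z' := by
        have := Subgroup.mem_center_iff.mp h3 (c ^ k)
        exact this
      have h5 : (g * c * g⁻¹) ^ 3 = 1 := by
        rw [conj_pow, hc3]; group
      rw [h4, hcomm.mul_pow] at h5
      have h6 : (c ^ k) ^ 3 = 1 := by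
        rw [← zpow_natCast, ← zpow_mul, mul_comm, zpow_mul, zpow_natCast, hc3, one_zpow]
      rw [h6, one_mul] at h5
      have h7 : z' = 1 := by
        have h8 := hZsq z' h3
        have : z' ^ 3 = z' ^ 2 * z' := by rw [pow_succ]
        rw [this, h8, one_mul] at h5
        exact h5
      rw [h4, h7, mul_one]
      exact Subgroup.zpow_mem_zpowers c k
    have hnorm : (Subgroup.zpowers c).Normal := by
      constructor
      intro n hn g
      obtain ⟨m, rfl⟩ := Subgroup.mem_zpowers_iff.mp hn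
      have : g * c ^ m * g⁻¹ = (g * c * g⁻¹) ^ m := by
        rw [conj_zpow]
      rw [this]
      exact Subgroup.zpow_mem _ (hconj g) m
    have hle : Subgroup.zpowers c ≤ Cfsg.pPrimeCore 2 X := by
      apply Cfsg.Agent.H1.le_pPrimeCore hnorm
      rw [Nat.card_zpowers, hoc]; norm_num
    rw [hO] at hle
    exact hc1 (Subgroup.mem_bot.mp (hle (Subgroup.mem_zpowers c)))
  · -- no normal subgroup of order 2
    intro Nb hNb hcard
    set N : Subgroup X := Nb.comap π with hN
    have hNn : N.Normal := hNb.comap π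
    have hidx : N.index = 12 := by
      rw [hN, Subgroup.index_comap_of_surjective Nb hπsurj]
      have h := Nb.card_mul_index
      rw [hcard, hY] at h
      omega
    have hcN : Nat.card ↥N = 4 := by
      have h := N.card_mul_index
      rw [hidx, h48] at h
      omega
    have hNp : IsPGroup 2 ↥N := IsPGroup.of_card (n := 2) (by rw [hcN]; norm_num)
    exact hK N (hQmax N hNn hNp) hcN hNn

end Cfsg.Agent.Lib.Helper5.S3304
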