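import Mathlib
import Cfsg.Prelude.Def_Characters
import Cfsg.Agent.Lib.helper3.Irr10
import Cfsg.Agent.Lib.helper3.Irr11
import Cfsg.Agent.Lib.helper3.Irr8
import Cfsg.Agent.Lib.helper3.Irr7
import Cfsg.Agent.Lib.helper3.Degrees

set_option autoImplicit false
set_option linter.style.haveILetI false
set_option linter.unusedSectionVars false

/-!
# Lemmas for Taketa's theorem
-/

namespace Cfsg.Agent.Lib.helper3.Irr

open Cfsg Module Cfsg.Agent.Lib.helper3.IndFun Cfsg.Agent.Lib.helper3.CharBasic
open scoped ComplexConjugate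

variable {G : Type*} [Group G]

/-- If a function `θ` on `H` takes the value `1` at all conjugates of `g`, which all lie in `H`,
then the induced function takes the value `[G:H]` at `g`. -/
theorem indFun_eq_index_of_forall [Fintype G] (H : Subgroup G) (θ : H → ℂ) (g : G)
    (h : ∀ x : G, ∃ hx : x⁻¹ * g * x ∈ H, θ ⟨x⁻¹ * g * x, hx⟩ = 1) :
    indFun H θ g = (H.index : ℂ) := by
  classical
  rw [indFun_apply]
  have : ∀ x : G, extendByZero H θ (x⁻¹ * g * x) = 1 := by
    intro x
    obtain ⟨hx, h1⟩ := h x
    rw [extendByZero_mem H _ hx, h1]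
  simp only [this, Finset.sum_const, Finset.card_univ, nsmul_eq_mul, mul_one]
  rw [← Nat.card_eq_fintype_card, ← Subgroup.index_mul_card H]
  push_cast
  field_simp [card_ne_zero_complex H]

/-- If the permutation character of `G` on the cosets of `H` takes its degree as value at `g`,
then `g ∈ H`. -/
theorem mem_of_indFun_one_eq_index [Fintype G] (H : Subgroup G) (g : G)
    (h : indFun H (fun _ => (1 : ℂ)) g = (H.index : ℂ)) : g ∈ H := by
  classical
  by_contra hg
  rw [indFun_apply] at h
  have h1 : ∀ x : G, extendByZero H (fun _ => (1 : ℂ)) (x⁻¹ * g * x)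
      = if x⁻¹ * g * x ∈ H then 1 else 0 := by
    intro x
    split_ifs with hx
    · rw [extendByZero_mem H _ hx]
    · rw [extendByZero_not_mem H _ hx]
  simp only [h1] at h
  rw [Finset.sum_boole] at h
  have h2 : (H.index : ℂ) = (Nat.card H : ℂ)⁻¹ * (Nat.card G : ℂ) := by
    rw [← Subgroup.index_mul_card H]
    push_cast
    field_simp [card_ne_zero_complex H]
  rw [h2] at h
  have h3 := mul_left_cancel₀ (inv_ne_zero (card_ne_zero_complex H)) h
  have h4 : (Finset.univ.filter (fun x : G => x⁻¹ * g * x ∈ H)).card = Nat.card G := by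
    exact_mod_cast h3
  rw [Nat.card_eq_fintype_card, ← Finset.card_univ] at h4
  have h5 := Finset.eq_of_subset_of_card_le (Finset.filter_subset _ _) (le_of_eq h4.symm)
  have h6 : (1 : G) ∈ Finset.univ.filter (fun x : G => x⁻¹ * g * x ∈ H) := by
    rw [h5]; exact Finset.mem_univ _
  rw [Finset.mem_filter] at h6
  apply hg
  simpa using h6.2

/-- Nontrivial constituents of a permutation character have smaller degree. -/
theorem perm_constituent_degree_le [Fintype G] (H : Subgroup G) (n : ℕ) (hn : 1 ≤ n)
    (hidx : H.index = n + 1) (ψ : IrrCharacter G)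
    (hψ : classInner (indFun H (fun _ => (1 : ℂ))) (ψ : G → ℂ) ≠ 0) (b : ℕ)
    (hb : (ψ : G → ℂ) 1 = b) : b ≤ n := by
  classical
  letI : Fintype H := Fintype.ofFinite H
  have hπ : IsCharacter G (indFun H (fun _ => (1 : ℂ))) :=
    isCharacter_indFun H _ isCharacter_one
  by_cases h1 : (ψ : G → ℂ) = fun _ => 1
  · rw [h1] at hb
    have hb' : (1 : ℂ) = (b : ℂ) := hb
    have : b = 1 := by exact_mod_cast hb'.symm
    omega
  · set one : IrrCharacter G := ⟨fun _ => 1, isIrrCharacter_one⟩ with hone
    have hπ1 : classInner (indFun H (fun _ => (1 : ℂ))) (one : G → ℂ) = 1 := by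
      rw [frobenius_reciprocity H _ _
        (isClassFunction_of_isCharacter (isCharacter_of_isIrrCharacter one.2))]
      exact classInner_one_one
    have hsub : IsCharacter G (indFun H (fun _ => (1 : ℂ)) - (one : G → ℂ)) :=
      isCharacter_sub_of_classInner_ne_zero hπ one (by rw [hπ1]; exact one_ne_zero)
    have hne : classInner (indFun H (fun _ => (1 : ℂ)) - (one : G → ℂ)) (ψ : G → ℂ) ≠ 0 := by
      rw [classInner_sub_left]
      have : classInner (one : G → ℂ) (ψ : G → ℂ) = 0 :=
        irr_classInner_eq_zero one.2 ψ.2 (fun h => h1 h.symm)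
      rw [this, sub_zero]
      exact hψ
    have hdeg : (indFun H (fun _ => (1 : ℂ)) - (one : G → ℂ)) 1 = (n : ℂ) := by
      rw [Pi.sub_apply, indFun_apply_one, hidx]
      push_cast
      show ((n : ℂ) + 1) * 1 - 1 = n
      ring
    exact Cfsg.Agent.Lib.helper3.Central.constituent_degree_le hsub ψ hne hdeg hb

end Cfsg.Agent.Lib.helper3.Irr
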