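import Mathlib
import Cfsg.Prelude.Def_Characters
import Cfsg.Agent.Lib.helper3.TwoDeg4
import Cfsg.Agent.Lib.helper3.Taketa
import Cfsg.Agent.Lib.helper3.NilpM3
import Cfsg.Agent.Lib.helper3.Irr8

set_option autoImplicit false
set_option linter.style.haveILetI false
set_option linter.unusedSectionVars false

/-!
# Groups with two character degrees have abelian derived subgroup (Isaacs 12.6)
-/

namespace Cfsg.Agent.Lib.helper3.TwoDeg

open Cfsg Module Cfsg.Agent.Lib.helper3.IndFun Cfsg.Agent.Lib.helper3.CharBasic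
open Cfsg.Agent.Lib.helper3.Irr Cfsg.Agent.Lib.helper3.Lin
open scoped ComplexConjugate

universe u

variable {G : Type u} [Group G]

/-- Taketa's argument for an M-group with two character degrees. -/
theorem commutator_comm_of_monomial [Fintype G] (m : ℕ)
    (hcd : ∀ χ : IrrCharacter G, (χ : G → ℂ) 1 = 1 ∨ (χ : G → ℂ) 1 = m)
    (hmono : ∀ χ : G → ℂ, IsIrrCharacter G χ →
      ∃ (H : Subgroup G) (lam : H →* ℂˣ), χ = indFun H (fun h => ((lam h : ℂˣ) : ℂ))) :
    ∀ a ∈ commutator G, ∀ b ∈ commutator G, a * b = b * a := by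
  classical
  intro a ha b hb
  have hone : a * b * a⁻¹ * b⁻¹ = 1 := by
    apply eq_one_of_forall_irr_apply_eq
    intro ψ
    rcases hcd ψ with h1 | hm
    · apply Cfsg.Agent.Lib.helper3.Central.apply_commutator_of_linear_constituents
        (isCharacter_of_isIrrCharacter ψ.2)
      intro φ hφ
      have : (φ : G → ℂ) = (ψ : G → ℂ) := by
        by_contra hne
        apply hφ
        rw [← classInner_conj_symm, irr_classInner_eq_zero φ.2 ψ.2 hne, map_zero]
      rw [this, h1]
    · by_cases hm1 : m = 1
      · apply Cfsg.Agent.Lib.helper3.Central.apply_commutator_of_linear_constituents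
          (isCharacter_of_isIrrCharacter ψ.2)
        intro φ hφ
        have : (φ : G → ℂ) = (ψ : G → ℂ) := by
          by_contra hne
          apply hφ
          rw [← classInner_conj_symm, irr_classInner_eq_zero φ.2 ψ.2 hne, map_zero]
        rw [this, hm, hm1, Nat.cast_one]
      obtain ⟨H, lam, hψ⟩ := hmono (ψ : G → ℂ) ψ.2
      have hidx : H.index = m := by
        have := hm
        rw [hψ, indFun_apply_one, map_one, Units.val_one, mul_one] at this
        exact_mod_cast this
      have hm0 : m ≠ 0 := by
        rw [← hidx]; exact Subgroup.index_ne_zero_of_finite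
      -- the permutation character has only linear constituents
      have hPi : IsCharacter G (indFun H (fun _ => (1 : ℂ))) :=
        isCharacter_indFun H _ isCharacter_one
      have hlin : ∀ φ : IrrCharacter G,
          classInner (indFun H (fun _ => (1 : ℂ))) (φ : G → ℂ) ≠ 0 → (φ : G → ℂ) 1 = 1 := by
        intro φ hφ
        rcases hcd φ with h | h
        · exact h
        · exfalso
          have := Cfsg.Agent.Lib.helper3.Irr.perm_constituent_degree_le H (m - 1) (by omega)
            (by omega) φ hφ m h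
          omega
      have hcomm_mem : ∀ x y : G, x * y * x⁻¹ * y⁻¹ ∈ H := by
        intro x y
        apply mem_of_indFun_one_eq_index
        rw [Cfsg.Agent.Lib.helper3.Central.apply_commutator_of_linear_constituents hPi hlin x y,
          indFun_apply_one, mul_one]
      have hGH : commutator G ≤ H := by
        rw [commutator_def, Subgroup.commutator_le]
        intro x _ y _
        rw [commutatorElement_def]
        exact hcomm_mem x y
      have hHn : ∀ h ∈ H, ∀ g : G, g * h * g⁻¹ ∈ H := by
        intro h hh g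
        have := H.mul_mem (hcomm_mem g h) hh
        convert this using 1
        group
      rw [hψ]
      rw [indFun_apply_one, map_one, Units.val_one, mul_one]
      apply indFun_eq_index_of_forall
      intro x
      have hax : x⁻¹ * a * x ∈ H := by
        have := hHn a (hGH ha) x⁻¹
        rwa [inv_inv] at this
      have hbx : x⁻¹ * b * x ∈ H := by
        have := hHn b (hGH hb) x⁻¹
        rwa [inv_inv] at this
      have e : x⁻¹ * (a * b * a⁻¹ * b⁻¹) * x
          = (x⁻¹ * a * x) * (x⁻¹ * b * x) * (x⁻¹ * a * x)⁻¹ * (x⁻¹ * b * x)⁻¹ := by group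
      have hmem : x⁻¹ * (a * b * a⁻¹ * b⁻¹) * x ∈ H := by
        rw [e]
        exact H.mul_mem (H.mul_mem (H.mul_mem hax hbx) (H.inv_mem hax)) (H.inv_mem hbx)
      refine ⟨hmem, ?_⟩
      have e2 : (⟨x⁻¹ * (a * b * a⁻¹ * b⁻¹) * x, hmem⟩ : H)
          = ⟨_, hax⟩ * ⟨_, hbx⟩ * (⟨_, hax⟩ : H)⁻¹ * (⟨_, hbx⟩ : H)⁻¹ := by
        apply Subtype.ext
        simp only [Subgroup.coe_mul, Subgroup.coe_inv]
        exact e
      rw [e2, map_mul, map_mul, map_mul, map_inv, map_inv]
      have : lam ⟨_, hax⟩ * lam ⟨_, hbx⟩ * (lam ⟨_, hax⟩)⁻¹ * (lam ⟨_, hbx⟩)⁻¹ = 1 := by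
        rw [mul_comm (lam ⟨_, hax⟩) (lam ⟨_, hbx⟩), mul_inv_cancel_right, mul_inv_cancel]
      rw [this, Units.val_one]
  calc a * b = (a * b * a⁻¹ * b⁻¹) * (b * a) := by group
    _ = b * a := by rw [hone, one_mul]


/-- If `G` has an abelian normal subgroup of index `m` and degrees `1`, `m` then `G/A` is
abelian. -/
theorem commutator_mem_of_abelian_index [Finite G] (m : ℕ) (hm1 : m ≠ 1)
    (hcd : ∀ χ : IrrCharacter G, (χ : G → ℂ) 1 = 1 ∨ (χ : G → ℂ) 1 = m)
    (A : Subgroup G) [hA : A.Normal] (hidx : A.index = m) :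
    ∀ x y : G, x * y * x⁻¹ * y⁻¹ ∈ A := by
  classical
  letI : Fintype G := Fintype.ofFinite G
  letI : Fintype (G ⧸ A) := Fintype.ofFinite _
  have hm0 : m ≠ 0 := by rw [← hidx]; exact Subgroup.index_ne_zero_of_finite
  have hlin : ∀ β : IrrCharacter (G ⧸ A), (β : G ⧸ A → ℂ) 1 = 1 := by
    intro β
    have hirr := isIrrCharacter_inflate A β.2
    rcases hcd ⟨inflate A (β : G ⧸ A → ℂ), hirr⟩ with h | h
    · exact h
    · exfalso
      have hβm : (β : G ⧸ A → ℂ) 1 = m := h
      choose d hdpos hd using fun γ : IrrCharacter (G ⧸ A) => exists_pos_nat_apply_one γ.2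
      have hsum := sum_sq_degree (G := G ⧸ A)
      simp_rw [hd] at hsum
      rw [← Subgroup.index_eq_card, hidx] at hsum
      have hsum' : ∑ γ : IrrCharacter (G ⧸ A), d γ ^ 2 = m := by exact_mod_cast hsum
      have hdβ : d β = m := by
        have := hd β
        rw [hβm] at this
        exact_mod_cast this.symm
      have hle : d β ^ 2 ≤ ∑ γ : IrrCharacter (G ⧸ A), d γ ^ 2 :=
        Finset.single_le_sum (f := fun γ => d γ ^ 2) (fun _ _ => Nat.zero_le _)
          (Finset.mem_univ β)
      rw [hsum', hdβ] at hle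
      have : m ≤ 1 := by
        by_contra hgt
        push Not at hgt
        have : m * 1 < m * m := Nat.mul_lt_mul_of_lt_of_le' hgt (le_refl m) (by omega) |> fun h => by
          nlinarith
        nlinarith
      omega
  have hcomm := comm_of_all_linear hlin
  intro x y
  rw [← QuotientGroup.eq_one_iff]
  rw [QuotientGroup.mk_mul, QuotientGroup.mk_mul, QuotientGroup.mk_mul,
    hcomm (x : G ⧸ A) (y : G ⧸ A), QuotientGroup.mk_inv, QuotientGroup.mk_inv]
  group

/-- Isaacs 12.6: two character degrees force an abelian derived subgroup. -/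
theorem commutator_comm [Finite G] (m : ℕ)
    (hcd : ∀ χ : IrrCharacter G, (χ : G → ℂ) 1 = 1 ∨ (χ : G → ℂ) 1 = m)
    (hm : ∃ χ : IrrCharacter G, (χ : G → ℂ) 1 = m) (hm1 : m ≠ 1) :
    ∀ a ∈ commutator G, ∀ b ∈ commutator G, a * b = b * a := by
  classical
  letI : Fintype G := Fintype.ofFinite G
  rcases two_degrees_structure m hcd hm hm1 with ⟨A, hAn, hAcomm, hidx⟩ |
    ⟨p, e, hp, -, P, A, hPn, hAn, hPp, hAcomm, hinf, hsup⟩
  · haveI := hAn
    have hmem := commutator_mem_of_abelian_index m hm1 hcd A hidx
    have hle : commutator G ≤ A := by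
      rw [commutator_def, Subgroup.commutator_le]
      intro x _ y _
      rw [commutatorElement_def]
      exact hmem x y
    intro a ha b hb
    exact hAcomm a (hle ha) b (hle hb)
  · haveI : Fact p.Prime := ⟨hp⟩
    haveI := hAn
    haveI := hPn
    -- `A` is central
    have hdis : Disjoint P A := disjoint_iff.mpr hinf
    have hAcen : A ≤ Subgroup.center G := by
      intro a ha
      rw [Subgroup.mem_center_iff]
      intro g
      have hle : P ⊔ A ≤ Subgroup.centralizer ({a} : Set G) := by
        apply sup_le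
        · intro x hx
          rw [Subgroup.mem_centralizer_iff]
          intro y hy
          rw [Set.mem_singleton_iff] at hy
          rw [hy]
          exact (Subgroup.commute_of_normal_of_disjoint P A hPn hAn hdis x a hx ha).eq.symm
        · intro x hx
          rw [Subgroup.mem_centralizer_iff]
          intro y hy
          rw [Set.mem_singleton_iff] at hy
          rw [hy]
          exact hAcomm a ha x hx
      have hg : g ∈ Subgroup.centralizer ({a} : Set G) := by
        apply hle
        rw [hsup]
        exact Subgroup.mem_top g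
      rw [Subgroup.mem_centralizer_iff] at hg
      exact (hg a rfl).symm
    -- the quotient by `A` is a `p`-group
    have hQp : IsPGroup p (G ⧸ A) := by
      intro q
      obtain ⟨g, rfl⟩ := QuotientGroup.mk_surjective q
      have hg : g ∈ ((P ⊔ A : Subgroup G) : Set G) := by rw [hsup]; trivial
      rw [Subgroup.mul_normal] at hg
      obtain ⟨x, hx, y, hy, rfl⟩ := Set.mem_mul.mp hg
      obtain ⟨k, hk⟩ := hPp ⟨x, hx⟩
      refine ⟨k, ?_⟩
      have hk' : x ^ p ^ k = 1 := by
        have := congrArg (Subtype.val : P → G) hk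
        simpa using this
      rw [QuotientGroup.mk_mul, (QuotientGroup.eq_one_iff y).mpr hy, mul_one,
        ← QuotientGroup.mk_pow, hk']
      rfl
    haveI : Group.IsNilpotent (G ⧸ A) := hQp.isNilpotent
    haveI : Group.IsNilpotent G :=
      Subgroup.isNilpotent_of_ker_le_center (QuotientGroup.mk' A)
        (by rw [QuotientGroup.ker_mk']; exact hAcen)
    exact commutator_comm_of_monomial m hcd (fun χ hχ => nilpotent_monomial χ hχ)

/-- Isaacs 12.6 in terms of `charDegree`. -/
theorem commutator_comm' [Finite G] (m : ℕ)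
    (hcd : ∀ χ : IrrCharacter G, charDegree (χ : G → ℂ) = 1 ∨ charDegree (χ : G → ℂ) = m)
    (hm : ∃ χ : IrrCharacter G, charDegree (χ : G → ℂ) = m) (hm1 : m ≠ 1) :
    ∀ a ∈ commutator G, ∀ b ∈ commutator G, a * b = b * a := by
  apply commutator_comm m (degree_hyps m hcd) _ hm1
  obtain ⟨χ, hχ⟩ := hm
  exact ⟨χ, by rw [apply_one_eq_charDegree' χ, hχ]⟩

end Cfsg.Agent.Lib.helper3.TwoDeg
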