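import Mathlib
import Cfsg.Prelude.Def_Blocks
import Cfsg.Agent.Lib.helper3.PrincSection
import Cfsg.Agent.Lib.helper3.SecMain13
import Cfsg.Agent.Lib.helper3.CentralChar
import Cfsg.Agent.Lib.helper3.IndHeight1
import Cfsg.Agent.Lib.helper3.BlockMinMax3
import Cfsg.Agent.S0908

set_option autoImplicit false
set_option linter.style.haveILetI false
set_option linter.unusedSectionVars false

/-!
# Blocks of centralizers of central elements of defect groups
-/

namespace Cfsg.Agent.Lib.helper3.Block

open Cfsg Module Cfsg.Agent.Lib.helper3.CharBasic Cfsg.Agent.Lib.helper3.Irr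
open Cfsg.Agent.Lib.helper3.Central Cfsg.Agent.Lib.helper3.LocalM Cfsg.Agent.Lib.helper3.IndFun
open Cfsg.Agent.Lib.helper3.Lin Cfsg.Agent.Lib.helper3.HallNilp
open scoped ComplexConjugate

universe u

variable {G : Type u} [Group G] [Fintype G] {M : Ideal AlgInt}

/-- A quotient of natural numbers lies in the local ideal when the numerator has a larger
`p`-part than the denominator. -/
theorem memLocalIdeal_natCast_div_of_lt {p : ℕ} [hp : Fact p.Prime] (hM : IsPModular p M)
    (X Y : ℕ) (hX : X ≠ 0) (hY : Y ≠ 0) (h : Y.factorization p < X.factorization p) :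
    MemLocalIdeal M ((X : ℂ) / (Y : ℂ)) := by
  haveI hMp := isPrime_of_isPModular hM
  have hMtop : M ≠ ⊤ := hM.2.1.ne_top
  have hpM : MemLocalIdeal M (p : ℂ) := by
    have : ((p : ℕ) : AlgInt) ∈ M := by
      rw [natCast_mem_iff hM]
    have h := memLocalIdeal_of_mem this hMtop
    simpa using h
  have hYc : (Y : ℂ) ≠ 0 := by exact_mod_cast hY
  have hpc : (p : ℂ) ≠ 0 := by exact_mod_cast hp.out.ne_zero
  have h1 : MemLocalRing M ((X : ℂ) / ((p * Y : ℕ) : ℂ)) := by
    apply memLocalRing_natCast_div hM X (p * Y) hX (Nat.mul_ne_zero hp.out.ne_zero hY)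
    rw [Nat.factorization_mul hp.out.ne_zero hY, Finsupp.add_apply,
      hp.out.factorization_self]
    omega
  have := memLocalIdeal_mul_localRing h1 hpM
  convert this using 1
  push_cast
  field_simp

/-- A central element multiplies an irreducible character by an algebraic integer. -/
theorem exists_integral_apply_central_mul (ψ : IrrCharacter G) (z : G)
    (hz : z ∈ Subgroup.center G) :
    ∃ c : ℂ, IsIntegral ℤ c ∧ ∀ g : G, (ψ : G → ℂ) (z * g) = c * (ψ : G → ℂ) g := by
  obtain ⟨d, ρ, hirr, hρ⟩ := ψ.2
  haveI := hirr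
  obtain ⟨c, hc⟩ := exists_scalar_of_central ρ z hz
  have h1 : ∀ g : G, (ψ : G → ℂ) (z * g) = c * (ψ : G → ℂ) g := by
    intro g
    rw [← hρ]
    simp only [Representation.character, map_mul, hc]
    rw [smul_mul_assoc, map_smul, smul_eq_mul]
    rfl
  have hn : c ^ orderOf z = 1 := by
    have h2 : ρ (z ^ orderOf z) = ρ z ^ orderOf z := map_pow ρ z _
    rw [pow_orderOf_eq_one, map_one, hc, smul_pow] at h2
    have h3 : (LinearMap.id : (Fin d → ℂ) →ₗ[ℂ] (Fin d → ℂ)) ^ orderOf z = 1 := by
      have : (LinearMap.id : (Fin d → ℂ) →ₗ[ℂ] (Fin d → ℂ)) = 1 := rfl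
      rw [this, one_pow]
    rw [h3] at h2
    haveI hnt := nontrivial_of_irreducible ρ
    obtain ⟨v, hv⟩ := exists_ne (0 : Fin d → ℂ)
    have h4 := congrArg (fun f : (Fin d → ℂ) →ₗ[ℂ] (Fin d → ℂ) => f v) h2
    simp only [Module.End.one_apply, LinearMap.smul_apply] at h4
    have h5 : (1 : ℂ) • v = (c ^ orderOf z) • v := by rw [one_smul]; exact h4
    exact (smul_left_injective ℂ hv h5).symm
  refine ⟨c, ?_, h1⟩
  apply IsIntegral.of_pow (orderOf_pos z)
  rw [hn]
  exact isIntegral_one

/-- The coefficients of a character shifted by a central element are algebraic integers. -/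
theorem isIntegral_classInner_central_shift {χ : G → ℂ} (hχ : IsCharacter G χ) (z : G)
    (hz : z ∈ Subgroup.center G) (ψ : IrrCharacter G) :
    IsIntegral ℤ (classInner (fun g : G => χ (z * g)) (ψ : G → ℂ)) := by
  classical
  have hsc : ∀ ψ' : IrrCharacter G, ∃ c : ℂ, IsIntegral ℤ c ∧
      ∀ g : G, (ψ' : G → ℂ) (z * g) = c * (ψ' : G → ℂ) g :=
    fun ψ' => exists_integral_apply_central_mul ψ' z hz
  choose c hc1 hc2 using hsc
  have hdec := isCharacter_eq_sum_classInner hχ
  have hfun : (fun g : G => χ (z * g))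
      = ∑ ψ' : IrrCharacter G, (classInner χ (ψ' : G → ℂ) * c ψ') • (ψ' : G → ℂ) := by
    funext g
    have h1 := congrFun hdec (z * g)
    simp only [Finset.sum_apply, Pi.smul_apply, smul_eq_mul] at h1 ⊢
    rw [h1]
    apply Finset.sum_congr rfl
    intro ψ' _
    rw [hc2 ψ' g]
    ring
  rw [hfun, classInner_sum_left, Finset.sum_eq_single ψ]
  · rw [classInner_smul_left, irr_classInner_self ψ.2, mul_one]
    obtain ⟨n, hn⟩ := exists_nat_classInner_of_isCharacter hχ ψ
    rw [hn]
    exact (isIntegral_natCast n).mul (hc1 ψ)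
  · intro ψ' _ hne
    rw [classInner_smul_left, irr_classInner_eq_zero ψ'.2 ψ.2
      (fun h => hne (Subtype.ext h)), mul_zero]
  · intro h
    exact absurd (Finset.mem_univ _) h

/-- Characters in a block of small defect take values in the local ideal at elements with
large centralizers. -/
theorem memLocalIdeal_apply_of_defect_lt {p : ℕ} [hp : Fact p.Prime] (hM : IsPModular p M)
    (b : Set (IrrCharacter G)) (ψ : IrrCharacter G) (hψ : ψ ∈ b) (g : G)
    (h : blockDefect p b < (Nat.card (Subgroup.centralizer ({g} : Set G))).factorization p) :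
    MemLocalIdeal M ((ψ : G → ℂ) g) := by
  haveI hMp := isPrime_of_isPModular hM
  have hidx : (Subgroup.centralizer ({g} : Set G)).index
      * Nat.card (Subgroup.centralizer ({g} : Set G)) = Nat.card G :=
    Subgroup.index_mul_card _
  have hidx0 : (Subgroup.centralizer ({g} : Set G)).index ≠ 0 := by
    intro h
    rw [h, zero_mul] at hidx
    exact Nat.card_pos.ne' hidx.symm
  have hc0 : Nat.card (Subgroup.centralizer ({g} : Set G)) ≠ 0 := Nat.card_pos.ne'
  have hfac : ((Subgroup.centralizer ({g} : Set G)).index).factorization p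
      + (Nat.card (Subgroup.centralizer ({g} : Set G))).factorization p
      = (Nat.card G).factorization p := by
    rw [← hidx, Nat.factorization_mul hidx0 hc0]
    rfl
  rw [blockDefect_eq] at h
  have hle := minExp_le_factorization_card (p := p) hψ
  have hdeg := minExp_le (p := p) hψ
  have hlt : ((Subgroup.centralizer ({g} : Set G)).index).factorization p
      < (charDegree (ψ : G → ℂ)).factorization p := by
    omega
  have hloc := memLocalIdeal_natCast_div_of_lt hM _ _ (charDegree_ne_zero ψ) hidx0 hlt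
  have hint := isIntegral_centralChar ψ.2 g
  have hψ1 := apply_one_ne_zero ψ.2
  have hidxC : ((Subgroup.centralizer ({g} : Set G)).index : ℂ) ≠ 0 := by
    exact_mod_cast hidx0
  have e : (ψ : G → ℂ) g = centralChar (ψ : G → ℂ) g
      * (((charDegree (ψ : G → ℂ) : ℕ) : ℂ)
        / ((Subgroup.centralizer ({g} : Set G)).index : ℂ)) := by
    unfold centralChar
    rw [← apply_one_eq_charDegree ψ]
    field_simp
  rw [e]
  exact memLocalIdeal_mul_integral hloc hint

end Cfsg.Agent.Lib.helper3.Block
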