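import Mathlib

/-!
# S4564, Steps D + E: from a stabilizer of `p`-power index in a normalizer to a complement of a
Sylow subgroup of the quotient (pure group theory)
-/

set_option autoImplicit false
set_option linter.style.haveILetI false
set_option linter.unusedSectionVars false
set_option linter.unusedVariables false
set_option maxHeartbeats 1000000

namespace Cfsg.Agent.Lib.helper3.FRamDE

section generic

variable {G : Type*} [Group G]

theorem card_mul_relIndex (A B : Subgroup G) (h : A ≤ B) :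
    Nat.card A * A.relIndex B = Nat.card B := by
  have := Subgroup.relIndex_mul_relIndex ⊥ A B bot_le h
  rwa [Subgroup.relIndex_bot_left, Subgroup.relIndex_bot_left] at this

theorem relIndex_pos [Finite G] (A B : Subgroup G) : 0 < A.relIndex B := by
  apply Nat.pos_of_ne_zero
  show (A.subgroupOf B).index ≠ 0
  exact Subgroup.index_ne_zero_of_finite

/-- `|XY : X| = |Y : X ∩ Y|` for `Y` normal. -/
theorem relIndex_sup_of_normal [Finite G] (X Y : Subgroup G) [Y.Normal] :
    X.relIndex (X ⊔ Y) = X.relIndex Y := by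
  have h1 : Nat.card Y * Y.relIndex X = Nat.card ↥(X ⊔ Y) := by
    have := card_mul_relIndex Y (X ⊔ Y) le_sup_right
    rwa [Subgroup.relIndex_sup_right] at this
  have h2 := card_mul_relIndex (X ⊓ Y) X inf_le_left
  rw [Subgroup.inf_relIndex_left] at h2
  have h3 := card_mul_relIndex (X ⊓ Y) Y inf_le_right
  rw [Subgroup.inf_relIndex_right] at h3
  have h4 := card_mul_relIndex X (X ⊔ Y) le_sup_left
  have hI : 0 < Nat.card ↥(X ⊓ Y) := Nat.card_pos
  have hYX : 0 < Y.relIndex X := relIndex_pos Y X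
  have h5 : Nat.card ↥(X ⊓ Y) * Y.relIndex X * X.relIndex (X ⊔ Y)
      = Nat.card ↥(X ⊓ Y) * Y.relIndex X * X.relIndex Y := by
    calc Nat.card ↥(X ⊓ Y) * Y.relIndex X * X.relIndex (X ⊔ Y)
        = Nat.card ↥(X ⊔ Y) := by rw [h2, h4]
      _ = Nat.card ↥(X ⊓ Y) * X.relIndex Y * Y.relIndex X := by rw [← h1, ← h3]
      _ = Nat.card ↥(X ⊓ Y) * Y.relIndex X * X.relIndex Y := by ring
  exact Nat.eq_of_mul_eq_mul_left (Nat.mul_pos hI hYX) h5

end generic

theorem exists_complement_of_stab {H : Type*} [Group H] [Finite H] (Z K : Subgroup H)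
    [Z.Normal] [K.Normal] (hZK : Z ≤ K) (p : ℕ) [Fact p.Prime] (P : Sylow p (H ⧸ K))
    (Q : Subgroup H) (hZQ : Z ≤ Q) (hQp : ∃ j : ℕ, Z.relIndex Q = p ^ j)
    (hQidx : ¬ p ∣ Q.index) (M₀ : Subgroup H)
    (hM₀N : M₀ ≤ Subgroup.normalizer ((Q ⊓ K : Subgroup H) : Set H))
    (hRM₀ : Q ⊓ K ≤ M₀)
    (hidx : M₀.relIndex (Subgroup.normalizer ((Q ⊓ K : Subgroup H) : Set H))
      = (Q ⊓ K).relIndex Q) :
    ∃ M : Subgroup (H ⧸ K), M.IsComplement' (P : Subgroup (H ⧸ K)) := by
  classical
  have hpp : p.Prime := Fact.out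
  obtain ⟨j, hj⟩ := hQp
  set R : Subgroup H := Q ⊓ K with hR
  set N : Subgroup H := Subgroup.normalizer (R : Set H) with hN
  have hZR : Z ≤ R := le_inf hZQ hZK
  have hRQ : R ≤ Q := inf_le_left
  have hRK : R ≤ K := inf_le_right
  have hRN : R ≤ N := Subgroup.le_normalizer
  -- F2
  obtain ⟨i, hi⟩ : ∃ i : ℕ, R.relIndex Q = p ^ i := by
    have h1 : R.relIndex Q ∣ Z.relIndex Q := Subgroup.relIndex_dvd_of_le_left Q hZR
    rw [hj] at h1
    obtain ⟨i, -, hi⟩ := (Nat.dvd_prime_pow hpp).mp h1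
    exact ⟨i, hi⟩
  obtain ⟨i', hi'⟩ : ∃ i' : ℕ, Z.relIndex R = p ^ i' := by
    have h1 : Z.relIndex R * R.relIndex Q = Z.relIndex Q :=
      Subgroup.relIndex_mul_relIndex Z R Q hZR hRQ
    have h2 : Z.relIndex R ∣ p ^ j := by
      rw [← hj, ← h1]
      exact Dvd.intro _ rfl
    obtain ⟨i', -, hi'⟩ := (Nat.dvd_prime_pow hpp).mp h2
    exact ⟨i', hi'⟩
  -- F3
  have hF3 : ¬ p ∣ R.relIndex K := by
    have h1 : R.relIndex K = Q.relIndex K := Subgroup.inf_relIndex_right Q K
    have h2 : Q.relIndex (Q ⊔ K) = Q.relIndex K := relIndex_sup_of_normal Q K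
    have h3 : Q.relIndex (Q ⊔ K) ∣ Q.index := Subgroup.relIndex_dvd_index_of_le le_sup_left
    rw [h1, ← h2]
    exact fun h => hQidx (h.trans h3)
  -- (b)
  have hQKidx : ¬ p ∣ (Q ⊔ K).index := fun h =>
    hQidx (h.trans (Subgroup.index_dvd_of_le le_sup_left))
  have hb : K.index = p ^ i * (Q ⊔ K).index := by
    have h1 : K.relIndex (Q ⊔ K) * (Q ⊔ K).index = K.index :=
      Subgroup.relIndex_mul_index le_sup_right
    rw [Subgroup.relIndex_sup_right] at h1
    have h2 : R.relIndex Q = K.relIndex Q := Subgroup.inf_relIndex_left Q K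
    rw [← h1, ← h2, hi]
  -- (c) Frattini
  have hc : N ⊔ K = ⊤ := by
    obtain ⟨S'⟩ : Nonempty (Sylow p ↥R) := inferInstance
    set St : Subgroup H := (S' : Subgroup ↥R).map R.subtype with hSt
    have hStR : St ≤ R := by
      rw [hSt]
      exact Subgroup.map_subtype_le _
    have hStp : IsPGroup p St := by
      rw [hSt]
      exact S'.isPGroup'.map R.subtype
    have hSt_sub : St.subgroupOf R = (S' : Subgroup ↥R) := by
      rw [hSt]
      show ((S' : Subgroup ↥R).map R.subtype).comap R.subtype = _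
      exact Subgroup.comap_map_eq_self_of_injective R.subtype_injective _
    have hStRidx : ¬ p ∣ St.relIndex R := by
      show ¬ p ∣ (St.subgroupOf R).index
      rw [hSt_sub]
      exact S'.not_dvd_index
    have hStKidx : ¬ p ∣ St.relIndex K := by
      have h1 : St.relIndex R * R.relIndex K = St.relIndex K :=
        Subgroup.relIndex_mul_relIndex St R K hStR hRK
      rw [← h1]
      intro h
      rcases (Nat.Prime.dvd_mul hpp).mp h with h | h
      · exact hStRidx h
      · exact hF3 h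
    -- a Sylow subgroup of `K`
    have hTp : IsPGroup p (St.subgroupOf K) := hStp.comap_subtype
    let T : Sylow p ↥K := hTp.toSylow hStKidx
    have hfr := Sylow.normalizer_sup_eq_top T
    have hTmap : (T : Subgroup ↥K).map K.subtype = St := by
      show (St.subgroupOf K).map K.subtype = St
      exact Subgroup.map_subgroupOf_eq_of_le (hStR.trans hRK)
    rw [hTmap] at hfr
    -- `R = Z ⊔ St`
    have hRZS : R = Z ⊔ St := by
      apply le_antisymm
      · rw [← Subgroup.relIndex_eq_one]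
        have hle : Z ⊔ St ≤ R := sup_le hZR hStR
        have d1 : (Z ⊔ St).relIndex R ∣ Z.relIndex R :=
          Subgroup.relIndex_dvd_of_le_left R le_sup_left
        have d2 : (Z ⊔ St).relIndex R ∣ St.relIndex R :=
          Subgroup.relIndex_dvd_of_le_left R le_sup_right
        rw [hi'] at d1
        obtain ⟨t, -, ht⟩ := (Nat.dvd_prime_pow hpp).mp d1
        rcases Nat.eq_zero_or_pos t with h0 | h0
        · rw [ht, h0, pow_zero]
        · exfalso
          apply hStRidx
          refine dvd_trans ?_ d2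
          rw [ht]
          exact dvd_pow_self p h0.ne'
      · exact sup_le hZR hStR
    have hle : Subgroup.normalizer (St : Set H) ≤ N := by
      have h1 := Subgroup.normalizer_inf_normalizer_le_normalizer_sup Z St
      have h2 : Subgroup.normalizer (Z : Set H) = ⊤ := Subgroup.normalizer_eq_top Z
      rw [h2, top_inf_eq] at h1
      rw [hN, hRZS]
      exact h1
    rw [eq_top_iff, ← hfr]
    exact sup_le_sup_right hle K
  -- (d)
  have hMN : M₀ ≤ N := hM₀N
  have hd : N ⊓ K ≤ M₀ := by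
    rw [← Subgroup.relIndex_eq_one]
    -- p-power
    have hpow : M₀.relIndex (N ⊓ K) ∣ p ^ i := by
      haveI : (K.subgroupOf N).Normal := Subgroup.normal_subgroupOf
      have h1 := relIndex_sup_of_normal (M₀.subgroupOf N) (K.subgroupOf N)
      have h2 : (M₀.subgroupOf N).relIndex (M₀.subgroupOf N ⊔ K.subgroupOf N)
          ∣ (M₀.subgroupOf N).index := Subgroup.relIndex_dvd_index_of_le le_sup_left
      have h3 : (M₀.subgroupOf N).index = p ^ i := by
        show M₀.relIndex N = _
        rw [hidx, hi]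
      have h4 : K.subgroupOf N = (N ⊓ K).subgroupOf N := by
        rw [inf_comm, Subgroup.inf_subgroupOf_right]
      have h5 : (M₀.subgroupOf N).relIndex ((N ⊓ K).subgroupOf N) = M₀.relIndex (N ⊓ K) :=
        Subgroup.relIndex_subgroupOf inf_le_left
      rw [h1, h4, h5, h3] at h2
      exact h2
    -- p'
    have hcop : M₀.relIndex (N ⊓ K) ∣ R.relIndex K := by
      have h1 : M₀.relIndex (N ⊓ K) = (M₀ ⊓ (N ⊓ K)).relIndex (N ⊓ K) :=
        (Subgroup.inf_relIndex_right M₀ (N ⊓ K)).symm
      have hRle : R ≤ M₀ ⊓ (N ⊓ K) := le_inf hRM₀ (le_inf hRN hRK)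
      have h2 : (M₀ ⊓ (N ⊓ K)).relIndex (N ⊓ K) ∣ R.relIndex (N ⊓ K) :=
        Subgroup.relIndex_dvd_of_le_left (N ⊓ K) hRle
      have h3 : R.relIndex (N ⊓ K) * (N ⊓ K).relIndex K = R.relIndex K :=
        Subgroup.relIndex_mul_relIndex R (N ⊓ K) K (le_inf hRN hRK) inf_le_right
      rw [h1]
      exact h2.trans (Dvd.intro _ h3)
    obtain ⟨t, -, ht⟩ := (Nat.dvd_prime_pow hpp).mp hpow
    rcases Nat.eq_zero_or_pos t with h0 | h0
    · rw [ht, h0, pow_zero]
    · exfalso
      apply hF3
      refine dvd_trans ?_ hcop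
      rw [ht]
      exact dvd_pow_self p h0.ne'
  -- (e)
  have he : K.relIndex M₀ * p ^ i = K.index := by
    have h1 : K.relIndex N = K.index := by
      have := Subgroup.relIndex_sup_right (H := N) (K := K)
      rw [hc, Subgroup.relIndex_top_right] at this
      exact this.symm
    have h2 : (N ⊓ K).relIndex N = K.relIndex N := Subgroup.inf_relIndex_left N K
    have h3 : (N ⊓ K).relIndex M₀ * M₀.relIndex N = (N ⊓ K).relIndex N :=
      Subgroup.relIndex_mul_relIndex (N ⊓ K) M₀ N hd hMN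
    have h4 : M₀ ⊓ K = N ⊓ K := by
      apply le_antisymm
      · exact inf_le_inf_right K hMN
      · exact le_inf hd inf_le_right
    have h5 : (M₀ ⊓ K).relIndex M₀ = K.relIndex M₀ := Subgroup.inf_relIndex_left M₀ K
    rw [h4] at h5
    rw [← h1, ← h2, ← h3, h5, hidx, hi]
  -- (f)
  set Mb : Subgroup (H ⧸ K) := M₀.map (QuotientGroup.mk' K) with hMb
  have hf : Nat.card Mb = K.relIndex M₀ := by
    have := Subgroup.relIndex_ker (QuotientGroup.mk' K) (K := M₀)
    rw [QuotientGroup.ker_mk'] at this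
    exact this.symm
  -- (g)
  have hKidx0 : 0 < p ^ i := pow_pos hpp.pos i
  have hceq : K.relIndex M₀ = (Q ⊔ K).index := by
    have : p ^ i * K.relIndex M₀ = p ^ i * (Q ⊔ K).index := by
      rw [← hb, ← he, mul_comm]
    exact Nat.eq_of_mul_eq_mul_left hKidx0 this
  have hcp : ¬ p ∣ K.relIndex M₀ := by
    rw [hceq]; exact hQKidx
  have hcardHK : Nat.card (H ⧸ K) = K.relIndex M₀ * p ^ i := by
    rw [he, Subgroup.index_eq_card]
  have hc0 : K.relIndex M₀ ≠ 0 := (relIndex_pos K M₀).ne'
  have hPcard : Nat.card (P : Subgroup (H ⧸ K)) = p ^ i := by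
    rw [Sylow.card_eq_multiplicity, hcardHK, Nat.factorization_mul hc0 hKidx0.ne']
    simp only [Finsupp.coe_add, Pi.add_apply]
    rw [Nat.factorization_eq_zero_of_not_dvd hcp, Nat.Prime.factorization_pow hpp]
    simp
  refine ⟨Mb, Subgroup.isComplement'_of_coprime ?_ ?_⟩
  · rw [hf, hPcard, hcardHK]
  · rw [hf, hPcard]
    apply Nat.Coprime.pow_right
    rw [Nat.coprime_comm, Nat.Prime.coprime_iff_not_dvd hpp]
    exact hcp

end Cfsg.Agent.Lib.helper3.FRamDE
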