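import Mathlib
import Cfsg.Prelude.Def_Characters
import Cfsg.Agent.Lib.helper3.GNS2
import Cfsg.Agent.Lib.helper3.CycExt2
import Cfsg.Agent.Lib.Helper8.GS4
import Cfsg.Agent.Lib.Helper8.FRam1
import Cfsg.Agent.H2.GSec3

/-!
# Correspondence above a normal Sylow subgroup: the local statement over a fixed `θ`
-/

set_option autoImplicit false
set_option linter.style.haveILetI false
set_option linter.unusedSectionVars false
set_option linter.unusedVariables false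

namespace Cfsg.Agent.Lib.helper3.GNS

open Cfsg Cfsg.Agent.Lib.helper3.Irr Cfsg.Agent.Lib.helper3.CharBasic
open Cfsg.Agent.Lib.helper3.IndFun
open scoped ComplexConjugate

variable {G : Type*} [Group G] [Finite G]

/-- A character with an irreducible restriction is irreducible (ambient form). -/
theorem isIrrCharacter_of_res {A B : Subgroup G} (h : B ≤ A) {χ : ↥A → ℂ}
    (hχ : IsCharacter ↥A χ) (hres : IsIrrCharacter ↥B (res h χ)) : IsIrrCharacter ↥A χ := by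
  letI : Fintype ↥A := Fintype.ofFinite _
  letI : Fintype ↥(B.subgroupOf A) := Fintype.ofFinite _
  apply Cfsg.Agent.Lib.helper3.CycExt.isIrrCharacter_of_restrict (B.subgroupOf A) hχ
  rw [← toSub_res h]
  exact isIrrCharacter_toSub h hres

theorem isCharacter_res {A B : Subgroup G} (h : B ≤ A) {χ : ↥A → ℂ} (hχ : IsCharacter ↥A χ) :
    IsCharacter ↥B (res h χ) :=
  isCharacter_comp hχ (Subgroup.inclusion h)

/-- A constituent of a restriction of a constituent. -/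
theorem ip_res_ne_zero_of_constituent {A B : Subgroup G} (h : B ≤ A) {χ ξ : ↥A → ℂ}
    (hχ : IsCharacter ↥A χ) (hξ : IsIrrCharacter ↥A ξ) (h1 : ip χ ξ ≠ 0) (φ : IrrCharacter ↥B)
    (h2 : ip (res h ξ) (φ : ↥B → ℂ) ≠ 0) : ip (res h χ) (φ : ↥B → ℂ) ≠ 0 := by
  letI : Fintype ↥A := Fintype.ofFinite _
  letI : Fintype ↥B := Fintype.ofFinite _
  rw [ip_eq_classInner] at h1 h2 ⊢
  exact Cfsg.Agent.Lib.Helper8.FRam.classInner_restrict_ne_zero_of_constituent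
    (Subgroup.inclusion h) hχ hξ h1 φ h2

section localData

variable (p : ℕ) [Fact p.Prime] {P K Q C : Subgroup G} (h : Hyp p P K Q C)
  (θ : IrrCharacter ↥Q) (T D : Subgroup G)
  (hTmem : ∀ g : G, g ∈ T ↔ g ∈ K ∧ ∀ q q' : ↥Q, (q' : G) = g * q * g⁻¹ →
    (θ : ↥Q → ℂ) q' = (θ : ↥Q → ℂ) q)
  (hDmem : ∀ g : G, g ∈ D ↔ g ∈ C ∧ ∀ q q' : ↥Q, (q' : G) = g * q * g⁻¹ →
    (θ : ↥Q → ℂ) q' = (θ : ↥Q → ℂ) q)
  (hQT : Q ≤ T) (hTK : T ≤ K) (hQD : Q ≤ D) (hDT : D ≤ T) (hDC : D ≤ C)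
  (hPT : P ≤ Subgroup.normalizer (T : Set G))
  (θh : IrrCharacter ↥T) (hext : res hQT (θh : ↥T → ℂ) = (θ : ↥Q → ℂ))
  (hθhP : PInv P T (θh : ↥T → ℂ))

include h hTmem hDmem hQT hTK hQD hDT hDC hPT hext hθhP

theorem res_theta0_irr : IsIrrCharacter ↥D (res hDT (θh : ↥T → ℂ)) := by
  apply isIrrCharacter_of_res hQD (isCharacter_res hDT (isCharacter_of_isIrrCharacter θh.2))
  rw [res_res, hext]
  exact θ.2

theorem res_theta0_ext : res hQD (res hDT (θh : ↥T → ℂ)) = (θ : ↥Q → ℂ) := by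
  rw [res_res, hext]

theorem mem_D_iff (t : G) : t ∈ D ↔ (t ∈ T ∧ ∀ x ∈ P, x * t * x⁻¹ * t⁻¹ ∈ Q) := by
  rw [hDmem, hTmem, h.hC]
  constructor
  · rintro ⟨⟨h1, h2⟩, h3⟩
    exact ⟨⟨h1, h3⟩, h2⟩
  · rintro ⟨⟨h1, h3⟩, h2⟩
    exact ⟨⟨h1, h2⟩, h3⟩

theorem not_dvd_relIndex_T : ¬ p ∣ Q.relIndex T := by
  intro hd
  apply h.hQsyl
  rw [← Subgroup.relIndex_mul_relIndex Q T K hQT hTK]
  exact Dvd.dvd.mul_right hd _

/-- the relation `[χ_T, θh β] ≠ 0` on `K` -/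
theorem relK_iff (β : IrrCharacter ↥T) (hβk : KerGE Q T (β : ↥T → ℂ)) (χ : IrrCharacter ↥K) :
    ip (res hTK (χ : ↥K → ℂ)) ((θh : ↥T → ℂ) * (β : ↥T → ℂ)) ≠ 0 ↔
      (χ : ↥K → ℂ) = indSub hTK ((θh : ↥T → ℂ) * (β : ↥T → ℂ)) := by
  have hirr := cgA_irr_ind K T Q hQT hTK h.hKQ (θ : ↥Q → ℂ) θ.2 hTmem (θh : ↥T → ℂ) θh.2 hext
    (β : ↥T → ℂ) β.2 hβk
  rcases cgA_rel K T hTK (χ : ↥K → ℂ) χ.2 _ hirr with ⟨h1, h2⟩ | ⟨h1, h2⟩
  · constructor
    · intro _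
      exact h2
    · intro _
      rw [h1]
      exact one_ne_zero
  · constructor
    · intro h3
      exact absurd h1 h3
    · intro h3
      exact absurd h3 h2

/-- the relation `[ξ_D, θh₀ γ] ≠ 0` on `C` -/
theorem relC_iff (γ : IrrCharacter ↥D) (hγk : KerGE Q D (γ : ↥D → ℂ)) (ξ : IrrCharacter ↥C) :
    ip (res hDC (ξ : ↥C → ℂ)) (res hDT (θh : ↥T → ℂ) * (γ : ↥D → ℂ)) ≠ 0 ↔
      (ξ : ↥C → ℂ) = indSub hDC (res hDT (θh : ↥T → ℂ) * (γ : ↥D → ℂ)) := by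
  have hirr := cgA_irr_ind C D Q hQD hDC (h.hCK.trans h.hKQ) (θ : ↥Q → ℂ) θ.2 hDmem
    (res hDT (θh : ↥T → ℂ)) (res_theta0_irr p h θ T D hTmem hDmem hQT hTK hQD hDT hDC hPT θh hext hθhP)
    (res_theta0_ext p h θ T D hTmem hDmem hQT hTK hQD hDT hDC hPT θh hext hθhP) (γ : ↥D → ℂ) γ.2 hγk
  rcases cgA_rel C D hDC (ξ : ↥C → ℂ) ξ.2 _ hirr with ⟨h1, h2⟩ | ⟨h1, h2⟩
  · constructor
    · intro _
      exact h2
    · intro _
      rw [h1]
      exact one_ne_zero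
  · constructor
    · intro h3
      exact absurd h1 h3
    · intro h3
      exact absurd h3 h2

end localData

end Cfsg.Agent.Lib.helper3.GNS
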