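import Mathlib
import Cfsg.Prelude.Def_Characters
import Cfsg.Agent.Lib.helper3.GNS3
import Cfsg.Agent.Lib.Helper8.GS6

/-!
# Correspondence above a normal Sylow subgroup: existence with congruences over a fixed `θ`
-/

set_option autoImplicit false
set_option linter.style.haveILetI false
set_option linter.unusedSectionVars false
set_option linter.unusedVariables false

namespace Cfsg.Agent.Lib.helper3.GNS

open Cfsg Cfsg.Agent.Lib.helper3.Irr Cfsg.Agent.Lib.helper3.CharBasic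
open Cfsg.Agent.Lib.helper3.IndFun Cfsg.Agent.Lib.Helper8.GSN
open scoped ComplexConjugate

variable {G : Type*} [Group G] [Finite G]

/-- restriction to `Q` of `ψ * γ` when `Q` is in the kernel of `γ` -/
theorem res_mul_kerGE {Q D : Subgroup G} (hQD : Q ≤ D) (ψ γ : ↥D → ℂ) (hγ : KerGE Q D γ) :
    res hQD (ψ * γ) = γ 1 • res hQD ψ := by
  funext q
  simp only [res_apply, Pi.mul_apply, Pi.smul_apply, smul_eq_mul]
  rw [hγ ⟨q, hQD q.2⟩ q.2, mul_comm]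

/-- `θ` lies under `ψ * γ` when `ψ` extends `θ` and `Q` is in the kernel of `γ`. -/
theorem ip_res_mul_ne_zero {Q D : Subgroup G} (hQD : Q ≤ D) (ψ : ↥D → ℂ) (γ : ↥D → ℂ)
    (hγ : IsIrrCharacter ↥D γ) (hγk : KerGE Q D γ) (θ : ↥Q → ℂ) (hθ : IsIrrCharacter ↥Q θ)
    (hext : res hQD ψ = θ) : ip (res hQD (ψ * γ)) θ ≠ 0 := by
  letI : Fintype ↥Q := Fintype.ofFinite _
  rw [res_mul_kerGE hQD ψ γ hγk, hext, ip_eq_classInner, classInner_smul_left,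
    irr_classInner_self hθ, mul_one]
  exact apply_one_ne_zero hγ

section localData

variable (p : ℕ) [Fact p.Prime] {P K Q C : Subgroup G} (h : Hyp p P K Q C)
  (θ : IrrCharacter ↥Q) (T D : Subgroup G)
  (hTmem : ∀ g : G, g ∈ T ↔ g ∈ K ∧ ∀ q q' : ↥Q, (q' : G) = g * q * g⁻¹ →
    (θ : ↥Q → ℂ) q' = (θ : ↥Q → ℂ) q)
  (hDmem : ∀ g : G, g ∈ D ↔ g ∈ C ∧ ∀ q q' : ↥Q, (q' : G) = g * q * g⁻¹ →
    (θ : ↥Q → ℂ) q' = (θ : ↥Q → ℂ) q)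
  (hQT : Q ≤ T) (hTK : T ≤ K) (hQD : Q ≤ D) (hDT : D ≤ T) (hDC : D ≤ C)
  (hPT : P ≤ Subgroup.normalizer (T : Set G))
  (θh : IrrCharacter ↥T) (hext : res hQT (θh : ↥T → ℂ) = (θ : ↥Q → ℂ))
  (hθhP : PInv P T (θh : ↥T → ℂ))
  (hPC : P ≤ Subgroup.normalizer (C : Set G)) (hPD : P ≤ Subgroup.normalizer (D : Set G))
  (hidx : ((T.relIndex K : ℕ) : ZMod p) = ((D.relIndex C : ℕ) : ZMod p))
  (hM : ∀ (χ : IrrCharacter ↥K) (β : IrrCharacter ↥T), KerGE Q T (β : ↥T → ℂ) →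
    ip (res hTK (χ : ↥K → ℂ)) ((θh : ↥T → ℂ) * (β : ↥T → ℂ)) ≠ 0 →
    ∀ (ξ : IrrCharacter ↥C) (γ : IrrCharacter ↥D), KerGE Q D (γ : ↥D → ℂ) →
    ip (res hDC (ξ : ↥C → ℂ)) (res hDT (θh : ↥T → ℂ) * (γ : ↥D → ℂ)) ≠ 0 →
    ip (res h.hCK (χ : ↥K → ℂ)) (ξ : ↥C → ℂ) = ip (res hDT (β : ↥T → ℂ)) (γ : ↥D → ℂ))

include h hTmem hDmem hQT hTK hQD hDT hDC hPT hext hθhP hPC hPD hidx hM

/-- a character of `C` attached to `γ` lies over `θ` -/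
theorem over_of_relC (γ : IrrCharacter ↥D) (hγk : KerGE Q D (γ : ↥D → ℂ)) (ξ : IrrCharacter ↥C)
    (hrel : ip (res hDC (ξ : ↥C → ℂ)) (res hDT (θh : ↥T → ℂ) * (γ : ↥D → ℂ)) ≠ 0) :
    ip (res h.hQC (ξ : ↥C → ℂ)) (θ : ↥Q → ℂ) ≠ 0 := by
  have hirr0 := res_theta0_irr p h θ T D hTmem hDmem hQT hTK hQD hDT hDC hPT θh hext hθhP
  have hext0 := res_theta0_ext p h θ T D hTmem hDmem hQT hTK hQD hDT hDC hPT θh hext hθhP
  have hirr := cgA_irr_mul C D Q hQD hDC (h.hCK.trans h.hKQ) (θ : ↥Q → ℂ) θ.2 hDmem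
    (res hDT (θh : ↥T → ℂ)) hirr0 hext0 (γ : ↥D → ℂ) γ.2 hγk
  have h2 := ip_res_mul_ne_zero hQD (res hDT (θh : ↥T → ℂ)) (γ : ↥D → ℂ) γ.2 hγk
    (θ : ↥Q → ℂ) θ.2 hext0
  exact ip_res_ne_zero_of_constituent hQD
    (isCharacter_res hDC (isCharacter_of_isIrrCharacter ξ.2)) hirr hrel θ h2

/-- **La**: existence of the correspondent with the congruences. -/
theorem local_exists (χ : IrrCharacter ↥K) (hχP : PInv P K (χ : ↥K → ℂ))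
    (hov : ip (res h.hQK (χ : ↥K → ℂ)) (θ : ↥Q → ℂ) ≠ 0) :
    ∃ ξ₀ : IrrCharacter ↥C, PInv P C (ξ₀ : ↥C → ℂ) ∧
      ip (res h.hQC (ξ₀ : ↥C → ℂ)) (θ : ↥Q → ℂ) ≠ 0 ∧
      (∃ m : ℕ, ip (res h.hCK (χ : ↥K → ℂ)) (ξ₀ : ↥C → ℂ) = m ∧
        ((m : ZMod p) = 1 ∨ (m : ZMod p) = -1)) ∧
      (∀ ξ : IrrCharacter ↥C, ip (res h.hQC (ξ : ↥C → ℂ)) (θ : ↥Q → ℂ) ≠ 0 → ξ ≠ ξ₀ →
        ∃ m : ℕ, ip (res h.hCK (χ : ↥K → ℂ)) (ξ : ↥C → ℂ) = m ∧ p ∣ m) ∧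
      ((Cfsg.charDegree (ξ₀ : ↥C → ℂ) : ZMod p) = (Cfsg.charDegree (χ : ↥K → ℂ) : ZMod p) ∨
        (Cfsg.charDegree (ξ₀ : ↥C → ℂ) : ZMod p)
          = -(Cfsg.charDegree (χ : ↥K → ℂ) : ZMod p)) := by
  have hCQ : C ≤ Subgroup.normalizer (Q : Set G) := h.hCK.trans h.hKQ
  have hirr0 := res_theta0_irr p h θ T D hTmem hDmem hQT hTK hQD hDT hDC hPT θh hext hθhP
  have hext0 := res_theta0_ext p h θ T D hTmem hDmem hQT hTK hQD hDT hDC hPT θh hext hθhP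
  have hmemD := mem_D_iff p h θ T D hTmem hDmem hQT hTK hQD hDT hDC hPT θh hext hθhP
  have hnd := not_dvd_relIndex_T p h θ T D hTmem hDmem hQT hTK hQD hDT hDC hPT θh hext hθhP
  have hθh0P : PInv P D (res hDT (θh : ↥T → ℂ)) := by
    intro x hx
    exact conjBy_res hDT x _ _ (hθhP x hx)
  -- the Gallagher parameter of χ
  obtain ⟨β0, hβ0, hβk, hχeq⟩ := cgA_exists K T Q hQT hTK h.hKQ (θ : ↥Q → ℂ) θ.2 hTmem
    (θh : ↥T → ℂ) θh.2 hext (χ : ↥K → ℂ) χ.2 hov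
  set β : IrrCharacter ↥T := ⟨β0, hβ0⟩ with hβdef
  have hβk' : KerGE Q T (β : ↥T → ℂ) := hβk
  have hrelK : ip (res hTK (χ : ↥K → ℂ)) ((θh : ↥T → ℂ) * (β : ↥T → ℂ)) ≠ 0 :=
    (relK_iff p h θ T D hTmem hDmem hQT hTK hQD hDT hDC hPT θh hext hθhP β hβk' χ).mpr hχeq
  -- β is P-invariant
  have hβP : PInv P T (β : ↥T → ℂ) := by
    apply pinv_of_unique P K T Q hPT h.hPQ hTK (θh : ↥T → ℂ) hθhP (χ : ↥K → ℂ) hχP β hβk'
      _ hrelK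
    intro β' hβ'k hrel'
    have e1 := (relK_iff p h θ T D hTmem hDmem hQT hTK hQD hDT hDC hPT θh hext hθhP
      β' hβ'k χ).mp hrel'
    have e2 : indSub hTK ((θh : ↥T → ℂ) * (β' : ↥T → ℂ))
        = indSub hTK ((θh : ↥T → ℂ) * (β : ↥T → ℂ)) := by
      rw [← e1]; exact hχeq
    exact Subtype.ext (cgA_ind_inj K T Q hQT hTK h.hKQ (θ : ↥Q → ℂ) θ.2 hTmem (θh : ↥T → ℂ) θh.2
      hext (β' : ↥T → ℂ) (β : ↥T → ℂ) β'.2 β.2 hβ'k hβk' e2)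
  -- the Glauberman correspondent in the section
  obtain ⟨γ₀, ε, hγ₀k, hε, hmult, d, d₀, hd, hd₀, hdd⟩ :=
    (Cfsg.Agent.H2.GSec.glauberman_section p P T Q D h.hP hPT h.hPQ (hTK.trans h.hKQ) hQD hDT
      hmemD hnd).1 β hβk' hβP
  -- the correspondent of χ
  have hξ₀irr := cgA_irr_ind C D Q hQD hDC hCQ (θ : ↥Q → ℂ) θ.2 hDmem
    (res hDT (θh : ↥T → ℂ)) hirr0 hext0 (γ₀ : ↥D → ℂ) γ₀.2 hγ₀k
  set ξ₀ : IrrCharacter ↥C := ⟨indSub hDC (res hDT (θh : ↥T → ℂ) * (γ₀ : ↥D → ℂ)), hξ₀irr⟩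
    with hξ₀def
  have hrelC₀ : ip (res hDC (ξ₀ : ↥C → ℂ)) (res hDT (θh : ↥T → ℂ) * (γ₀ : ↥D → ℂ)) ≠ 0 :=
    (relC_iff p h θ T D hTmem hDmem hQT hTK hQD hDT hDC hPT θh hext hθhP γ₀ hγ₀k ξ₀).mpr rfl
  have hDcomm : ∀ x ∈ P, ∀ d ∈ D, x * d * x⁻¹ * d⁻¹ ∈ Q := by
    intro x hx d hd
    exact ((hmemD d).mp hd).2 x hx
  have hγ₀P : PInv P D (γ₀ : ↥D → ℂ) :=
    pinv_of_kerGE P Q D hQD (γ₀ : ↥D → ℂ) (isCharacter_of_isIrrCharacter γ₀.2) hγ₀k hDcomm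
  refine ⟨ξ₀, ?_, ?_, ?_, ?_, ?_⟩
  · -- P-invariance
    apply pinv_of_inj P C D hPC hPD hDC (res hDT (θh : ↥T → ℂ)) hθh0P (γ₀ : ↥D → ℂ) hγ₀P ξ₀
      hrelC₀
    intro χ' hχ'
    apply Subtype.ext
    exact (relC_iff p h θ T D hTmem hDmem hQT hTK hQD hDT hDC hPT θh hext hθhP γ₀ hγ₀k χ').mp hχ'
  · exact over_of_relC p h θ T D hTmem hDmem hQT hTK hQD hDT hDC hPT θh hext hθhP hPC hPD hidx hM
      γ₀ hγ₀k ξ₀ hrelC₀
  · -- the multiplicity at ξ₀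
    obtain ⟨a, ha, ha1, -, -⟩ := hmult γ₀
    refine ⟨a, ?_, ?_⟩
    · rw [hM χ β hβk' hrelK ξ₀ γ₀ hγ₀k hrelC₀, ha]
    · have h3 : (((a : ℤ)) : ZMod p) = ((ε : ℤ) : ZMod p) :=
        (ZMod.intCast_eq_intCast_iff _ _ p).mpr (ha1 rfl)
      rcases hε with rfl | rfl
      · left
        push_cast at h3
        exact h3
      · right
        push_cast at h3
        exact h3
  · -- the other multiplicities
    intro ξ hξθ hne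
    obtain ⟨γf, hγf, hγfk, hξeq⟩ := cgA_exists C D Q hQD hDC hCQ (θ : ↥Q → ℂ) θ.2 hDmem
      (res hDT (θh : ↥T → ℂ)) hirr0 hext0 (ξ : ↥C → ℂ) ξ.2 hξθ
    set γ : IrrCharacter ↥D := ⟨γf, hγf⟩ with hγdef
    have hγk : KerGE Q D (γ : ↥D → ℂ) := hγfk
    have hrelC : ip (res hDC (ξ : ↥C → ℂ)) (res hDT (θh : ↥T → ℂ) * (γ : ↥D → ℂ)) ≠ 0 :=
      (relC_iff p h θ T D hTmem hDmem hQT hTK hQD hDT hDC hPT θh hext hθhP γ hγk ξ).mpr hξeq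
    have hγne : γ ≠ γ₀ := by
      intro e
      apply hne
      apply Subtype.ext
      rw [hξeq]
      show indSub hDC (res hDT (θh : ↥T → ℂ) * (γ : ↥D → ℂ)) = _
      rw [e]
    obtain ⟨a, ha, -, ha2, -⟩ := hmult γ
    exact ⟨a, by rw [hM χ β hβk' hrelK ξ γ hγk hrelC, ha], ha2 hγne⟩
  · -- degrees
    obtain ⟨t, ht⟩ := exists_nat_apply_one (isCharacter_of_isIrrCharacter θh.2)
    apply degree_congr p (χ : ↥K → ℂ) (ξ₀ : ↥C → ℂ) (T.relIndex K) (D.relIndex C) t d d₀ ε hε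
      _ _ hidx hdd
    · rw [hχeq, indSub_apply_one, Pi.mul_apply, ht]
      have : β0 1 = (d : ℂ) := hd
      rw [this]
    · show indSub hDC (res hDT (θh : ↥T → ℂ) * (γ₀ : ↥D → ℂ)) 1 = _
      rw [indSub_apply_one, Pi.mul_apply, hd₀]
      have : res hDT (θh : ↥T → ℂ) 1 = (t : ℂ) := by
        rw [← ht]
        rfl
      rw [this]

end localData

end Cfsg.Agent.Lib.helper3.GNS
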