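import Mathlib
import Cfsg.Prelude.Def_Characters
import Cfsg.Agent.Lib.helper3.GNS4
import Cfsg.Agent.H1.GSInv

/-!
# Correspondence above a normal Sylow subgroup: the existence clause over a `P`-fixed `θ`,
with the inertia groups plugged in
-/

set_option autoImplicit false
set_option linter.style.haveILetI false
set_option linter.unusedSectionVars false
set_option linter.unusedVariables false

namespace Cfsg.Agent.Lib.helper3.GNS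

open Cfsg Cfsg.Agent.Lib.helper3.Irr Cfsg.Agent.Lib.helper3.CharBasic
open Cfsg.Agent.Lib.helper3.IndFun Cfsg.Agent.Lib.Helper8.GSN
open scoped ComplexConjugate

variable {G : Type*} [Group G] [Finite G]

theorem mem_inertia_unfold {X Q : Subgroup G} (hX : X ≤ Subgroup.normalizer (Q : Set G))
    (θ : ↥Q → ℂ) (g : G) :
    g ∈ inertia X Q θ ↔ g ∈ X ∧ ∀ q q' : ↥Q, (q' : G) = g * q * g⁻¹ → θ q' = θ q := by
  rw [mem_inertia]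
  constructor
  · rintro ⟨h1, _, h3⟩
    exact ⟨h1, h3⟩
  · rintro ⟨h1, h3⟩
    exact ⟨h1, hX h1, h3⟩

theorem Hyp.hPC' {p : ℕ} [Fact p.Prime] {P K Q C : Subgroup G} (h : Hyp p P K Q C) :
    P ≤ Subgroup.normalizer (C : Set G) := by
  have hg := toGS h
  intro x hx
  rw [Subgroup.mem_normalizer_iff]
  intro c
  constructor
  · intro hc
    exact hg.hPC hx hc
  · intro hc
    have := hg.hPC (inv_mem hx) hc
    have e : x⁻¹ * (x * c * x⁻¹) * x⁻¹⁻¹ = c := by group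
    rwa [e] at this

/-- The shape of the multiplicity formula used below. -/
def MultFormula {P K Q C : Subgroup G} (hCK : C ≤ K) (θ : IrrCharacter ↥Q) : Prop :=
  ∀ (T D : Subgroup G)
    (hTmem : ∀ g : G, g ∈ T ↔ g ∈ K ∧ ∀ q q' : ↥Q, (q' : G) = g * q * g⁻¹ →
      (θ : ↥Q → ℂ) q' = (θ : ↥Q → ℂ) q)
    (hDmem : ∀ g : G, g ∈ D ↔ g ∈ C ∧ ∀ q q' : ↥Q, (q' : G) = g * q * g⁻¹ →
      (θ : ↥Q → ℂ) q' = (θ : ↥Q → ℂ) q)
    (hQT : Q ≤ T) (hTK : T ≤ K) (hQD : Q ≤ D) (hDT : D ≤ T) (hDC : D ≤ C)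
    (θh : IrrCharacter ↥T) (hext : res hQT (θh : ↥T → ℂ) = (θ : ↥Q → ℂ))
    (χ : IrrCharacter ↥K) (β : IrrCharacter ↥T), KerGE Q T (β : ↥T → ℂ) →
    ip (res hTK (χ : ↥K → ℂ)) ((θh : ↥T → ℂ) * (β : ↥T → ℂ)) ≠ 0 →
    ∀ (ξ : IrrCharacter ↥C) (γ : IrrCharacter ↥D), KerGE Q D (γ : ↥D → ℂ) →
    ip (res hDC (ξ : ↥C → ℂ)) (res hDT (θh : ↥T → ℂ) * (γ : ↥D → ℂ)) ≠ 0 →
    ip (res hCK (χ : ↥K → ℂ)) (ξ : ↥C → ℂ) = ip (res hDT (β : ↥T → ℂ)) (γ : ↥D → ℂ)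

/-- **La** over a `P`-fixed `θ`, from the multiplicity formula. -/
theorem local_La (p : ℕ) [Fact p.Prime] {P K Q C : Subgroup G} (h : Hyp p P K Q C)
    (θ : IrrCharacter ↥Q) (hθ : PInv P Q (θ : ↥Q → ℂ))
    (hM : MultFormula (P := P) h.hCK θ)
    (χ : IrrCharacter ↥K) (hχP : PInv P K (χ : ↥K → ℂ))
    (hov : ip (res h.hQK (χ : ↥K → ℂ)) (θ : ↥Q → ℂ) ≠ 0) :
    ∃ ξ₀ : IrrCharacter ↥C, PInv P C (ξ₀ : ↥C → ℂ) ∧
      ip (res h.hQC (ξ₀ : ↥C → ℂ)) (θ : ↥Q → ℂ) ≠ 0 ∧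
      (∃ m : ℕ, ip (res h.hCK (χ : ↥K → ℂ)) (ξ₀ : ↥C → ℂ) = m ∧
        ((m : ZMod p) = 1 ∨ (m : ZMod p) = -1)) ∧
      (∀ ξ : IrrCharacter ↥C, ip (res h.hQC (ξ : ↥C → ℂ)) (θ : ↥Q → ℂ) ≠ 0 → ξ ≠ ξ₀ →
        ∃ m : ℕ, ip (res h.hCK (χ : ↥K → ℂ)) (ξ : ↥C → ℂ) = m ∧ p ∣ m) ∧
      ((Cfsg.charDegree (ξ₀ : ↥C → ℂ) : ZMod p) = (Cfsg.charDegree (χ : ↥K → ℂ) : ZMod p) ∨
        (Cfsg.charDegree (ξ₀ : ↥C → ℂ) : ZMod p)
          = -(Cfsg.charDegree (χ : ↥K → ℂ) : ZMod p)) := by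
  have hCQ : C ≤ Subgroup.normalizer (Q : Set G) := h.hCK.trans h.hKQ
  have hcf := isClassFunction_of_isCharacter (isCharacter_of_isIrrCharacter θ.2)
  have hQT : Q ≤ inertia K Q (θ : ↥Q → ℂ) := le_inertia h.hQK hcf
  have hQD : Q ≤ inertia C Q (θ : ↥Q → ℂ) := le_inertia h.hQC hcf
  have hTK : inertia K Q (θ : ↥Q → ℂ) ≤ K := inertia_le K Q _
  have hDC : inertia C Q (θ : ↥Q → ℂ) ≤ C := inertia_le C Q _
  have hDT : inertia C Q (θ : ↥Q → ℂ) ≤ inertia K Q (θ : ↥Q → ℂ) := by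
    rw [inertia_inf K C Q h.hCK]
    exact inf_le_left
  have hPT := Cfsg.Agent.H1.GSInv.le_normalizer_inertia p h (θ : ↥Q → ℂ) hθ
  have hPD := le_normalizer_inertia_C h (θ : ↥Q → ℂ) hθ
  obtain ⟨θh, hext, hθhP⟩ := Cfsg.Agent.H1.GSInv.exists_inv_extension p h θ hθ
    (inertia K Q (θ : ↥Q → ℂ)) rfl hQT
  exact local_exists p h θ (inertia K Q (θ : ↥Q → ℂ)) (inertia C Q (θ : ↥Q → ℂ))
    (mem_inertia_unfold h.hKQ _) (mem_inertia_unfold hCQ _) hQT hTK hQD hDT hDC hPT θh hext hθhP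
    h.hPC' hPD (relIndex_congr' h θ hθ)
    (hM _ _ (mem_inertia_unfold h.hKQ _) (mem_inertia_unfold hCQ _) hQT hTK hQD hDT hDC θh hext)
    χ hχP hov

end Cfsg.Agent.Lib.helper3.GNS
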