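import Mathlib
import Cfsg.Prelude.Def_Characters
import Cfsg.Agent.Lib.helper3.RealOdd3
import Cfsg.Agent.Lib.helper3.GoingDown2
import Cfsg.Agent.Lib.Helper8.IN1

set_option autoImplicit false
set_option linter.style.haveILetI false
set_option linter.unusedSectionVars false
set_option linter.unusedVariables false

/-!
# Real characters and normal subgroups of odd index, part 4

For a normal subgroup `N` of odd index: a real irreducible character of the group lies over a
real irreducible character of `N`; over a real irreducible character of `N` there is exactly one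
real irreducible character of the group, and it contains it with multiplicity one.
-/

namespace Cfsg.Agent.Lib.helper3.RealOdd

open Cfsg Module Cfsg.Agent.Lib.helper3.IndFun Cfsg.Agent.Lib.helper3.CharBasic
open Cfsg.Agent.Lib.helper3.Irr Cfsg.Agent.Lib.Helper4.FS
open scoped ComplexConjugate

variable {G : Type*} [Group G]

/-- Two real constituents of the restriction of an irreducible character are in the same orbit. -/
theorem orbRel_of_constituents [Fintype G] (N : Subgroup G) [hN : N.Normal] [Fintype N]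
    (χ : IrrCharacter G)
    (θ ψ : {θ : IrrCharacter ↥N // (∀ k : ↥N, ((θ : ↥N → ℂ) k).im = 0)})
    (h1 : classInner (fun n : N => (χ : G → ℂ) n) (θ.1 : N → ℂ) ≠ 0)
    (h2 : classInner (fun n : N => (χ : G → ℂ) n) (ψ.1 : N → ℂ) ≠ 0) :
    orbRel N θ ψ := by
  obtain ⟨g, hg⟩ := exists_conj_of_constituents N χ θ.1 ψ.1 h1 h2
  refine ⟨g⁻¹, ?_⟩
  intro k k' hk
  rw [hg]
  have hkk : (⟨g * (k' : G) * g⁻¹, hN.conj_mem k' k'.2 g⟩ : N) = k := by
    apply Subtype.ext
    show g * (k' : G) * g⁻¹ = (k : G)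
    rw [hk]
    group
  show (θ.1 : N → ℂ) ⟨g * (k' : G) * g⁻¹, hN.conj_mem k' k'.2 g⟩ = (θ.1 : N → ℂ) k
  rw [hkk]

/-- The orbit map: a bijection from the orbits on the real irreducible characters of `N` onto the
real irreducible characters of `G`, each orbit going to a character lying over it. -/
theorem exists_orbit_map [Fintype G] (N : Subgroup G) [hN : N.Normal] [Fintype N]
    (hodd : Odd N.index) :
    ∃ Φ : Quot (orbRel N) → {χ : IrrCharacter G // ∀ g : G, ((χ : G → ℂ) g).im = 0},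
      Function.Bijective Φ ∧
      ∀ o : Quot (orbRel N),
        ∃ θ : {θ : IrrCharacter ↥N // (∀ k : ↥N, ((θ : ↥N → ℂ) k).im = 0)},
          Quot.mk (orbRel N) θ = o ∧
          classInner (fun n : N => ((Φ o).1 : G → ℂ) n) (θ.1 : N → ℂ) ≠ 0 := by
  classical
  have hex : ∀ o : Quot (orbRel N), ∃ χ : IrrCharacter G, (∀ g : G, ((χ : G → ℂ) g).im = 0) ∧
      classInner (fun n : N => (χ : G → ℂ) n) ((Quot.out o).1 : N → ℂ) ≠ 0 :=
    fun o => Cfsg.Agent.Lib.Helper8.IN.exists_real_over N hodd (Quot.out o).1 (Quot.out o).2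
  choose F hF1 hF2 using hex
  set Φ : Quot (orbRel N) → {χ : IrrCharacter G // ∀ g : G, ((χ : G → ℂ) g).im = 0} :=
    fun o => ⟨F o, hF1 o⟩ with hΦ
  have hinj : Function.Injective Φ := by
    intro o₁ o₂ h
    have h' : F o₁ = F o₂ := congrArg Subtype.val h
    have h2 := hF2 o₂
    rw [← h'] at h2
    have hr := orbRel_of_constituents N (F o₁) (Quot.out o₁) (Quot.out o₂) (hF2 o₁) h2
    rw [← Quot.out_eq o₁, ← Quot.out_eq o₂]
    exact Quot.sound hr
  have hcard : Nat.card {χ : IrrCharacter G // ∀ g : G, ((χ : G → ℂ) g).im = 0}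
      = Nat.card (Quot (orbRel N)) := card_real_irr_eq_card_orbits N hodd
  haveI : Finite {χ : IrrCharacter G // ∀ g : G, ((χ : G → ℂ) g).im = 0} := inferInstance
  refine ⟨Φ, hinj.bijective_of_nat_card_le hcard.le, ?_⟩
  intro o
  exact ⟨Quot.out o, Quot.out_eq o, hF2 o⟩

/-- A real irreducible character lies over a real irreducible character of a normal subgroup of
odd index. -/
theorem exists_real_under [Fintype G] (N : Subgroup G) [hN : N.Normal] [Fintype N]
    (hodd : Odd N.index) (χ : IrrCharacter G) (hχ : ∀ g : G, ((χ : G → ℂ) g).im = 0) :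
    ∃ θ : IrrCharacter N, (∀ n : N, ((θ : N → ℂ) n).im = 0) ∧
      classInner (fun n : N => (χ : G → ℂ) n) (θ : N → ℂ) ≠ 0 := by
  obtain ⟨Φ, hbij, hΦ⟩ := exists_orbit_map N hodd
  obtain ⟨o, ho⟩ := hbij.2 ⟨χ, hχ⟩
  obtain ⟨θ, -, hθ⟩ := hΦ o
  rw [ho] at hθ
  exact ⟨θ.1, θ.2, hθ⟩

/-- The multiplicity of a real irreducible character of a normal subgroup of odd index in a real
irreducible character over it is one. -/
theorem real_over_classInner [Fintype G] (N : Subgroup G) [hN : N.Normal] [Fintype N]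
    (hodd : Odd N.index) (χ : IrrCharacter G) (hχ : ∀ g : G, ((χ : G → ℂ) g).im = 0)
    (θ : IrrCharacter N) (hθ : ∀ n : N, ((θ : N → ℂ) n).im = 0)
    (c : classInner (fun n : N => (χ : G → ℂ) n) (θ : N → ℂ) ≠ 0) :
    classInner (fun n : N => (χ : G → ℂ) n) (θ : N → ℂ) = 1 := by
  classical
  have h1 := sum_fsInd_mul_classInner N hodd θ
  have h2 : ∀ ψ : IrrCharacter G, ψ ≠ χ →
      fsInd (ψ : G → ℂ) * classInner (fun n : N => (ψ : G → ℂ) n) (θ : N → ℂ) = 0 := by
    intro ψ hne
    by_cases hr : ∀ g : G, ((ψ : G → ℂ) g).im = 0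
    · by_cases hc : classInner (fun n : N => (ψ : G → ℂ) n) (θ : N → ℂ) = 0
      · rw [hc, mul_zero]
      · exact absurd (real_over_unique N hodd θ hθ ψ χ hr hχ hc c) hne
    · have : fsInd (ψ : G → ℂ) = 0 := by
        by_contra hne'
        apply hr
        intro g
        exact Complex.conj_eq_iff_im.mp (real_of_fsInd_ne_zero ψ.2 hne' g)
      rw [this, zero_mul]
  rw [Finset.sum_eq_single χ (fun ψ _ hne => h2 ψ hne)
    (fun h => absurd (Finset.mem_univ χ) h)] at h1
  obtain ⟨e, he⟩ := exists_nat_classInner_of_isCharacter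
    (isCharacter_restrict (isCharacter_of_isIrrCharacter χ.2) N) θ
  have he' : classInner (fun n : N => (χ : G → ℂ) n) (θ : N → ℂ) = e := he
  rw [he'] at h1 c ⊢
  have he0 : e ≠ 0 := by
    intro h
    apply c
    rw [h, Nat.cast_zero]
  have hχr := fsInd_eq_or_of_real χ.2 (fun g => Complex.conj_eq_iff_im.mpr (hχ g))
  have hθr := fsInd_eq_or_of_real θ.2 (fun n => Complex.conj_eq_iff_im.mpr (hθ n))
  have hnorm : ‖(e : ℂ)‖ = 1 := by
    have h3 : ‖fsInd (χ : G → ℂ) * (e : ℂ)‖ = ‖fsInd (θ : N → ℂ)‖ := by rw [h1]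
    rw [norm_mul] at h3
    have h4 : ‖fsInd (χ : G → ℂ)‖ = 1 := by
      rcases hχr with h | h <;> rw [h] <;> simp
    have h5 : ‖fsInd (θ : N → ℂ)‖ = 1 := by
      rcases hθr with h | h <;> rw [h] <;> simp
    rw [h4, h5, one_mul] at h3
    exact h3
  rw [Complex.norm_natCast] at hnorm
  have : e = 1 := by exact_mod_cast hnorm
  rw [this, Nat.cast_one]

/-- The degree of the real irreducible character over a real irreducible character of a normal
subgroup of odd index. -/
theorem real_over_apply_one [Fintype G] (N : Subgroup G) [hN : N.Normal] [Fintype N]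
    (hodd : Odd N.index) [DecidableEq (N → ℂ)]
    (χ : IrrCharacter G) (hχ : ∀ g : G, ((χ : G → ℂ) g).im = 0)
    (θ : IrrCharacter N) (hθ : ∀ n : N, ((θ : N → ℂ) n).im = 0)
    (c : classInner (fun n : N => (χ : G → ℂ) n) (θ : N → ℂ) ≠ 0) :
    (χ : G → ℂ) 1 = ((Finset.univ.image (conjFun N (θ : N → ℂ))).card : ℂ) * (θ : N → ℂ) 1 := by
  obtain ⟨e, he0, he, hres, -, -⟩ := clifford_finset N (χ : G → ℂ) χ.2 (θ : N → ℂ) θ.2 c
  have h1 := real_over_classInner N hodd χ hχ θ hθ c
  rw [he] at h1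
  have he1 : e = 1 := by exact_mod_cast h1
  have h2 := congrFun hres 1
  rw [he1, Nat.cast_one, one_smul, Finset.sum_apply] at h2
  have h3 : ∀ ψ ∈ Finset.univ.image (conjFun N (θ : N → ℂ)), ψ 1 = (θ : N → ℂ) 1 := by
    intro ψ hψ
    obtain ⟨g, -, rfl⟩ := Finset.mem_image.mp hψ
    have hkk : (⟨g * ((1 : N) : G) * g⁻¹, hN.conj_mem 1 (1 : N).2 g⟩ : N) = 1 := by
      apply Subtype.ext
      show g * ((1 : N) : G) * g⁻¹ = ((1 : N) : G)
      simp
    show (θ : N → ℂ) ⟨g * ((1 : N) : G) * g⁻¹, hN.conj_mem 1 (1 : N).2 g⟩ = (θ : N → ℂ) 1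
    rw [hkk]
  rw [Finset.sum_congr rfl h3, Finset.sum_const, nsmul_eq_mul] at h2
  exact h2

end Cfsg.Agent.Lib.helper3.RealOdd
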