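import Mathlib
import Cfsg.Agent.Lib.helper3.BG14E
import Cfsg.Agent.H2.BG13.D
import Cfsg.Agent.Lib.Helper8.BG14K2

/-!
# B&G Section 14, part F (helper3): towards S1376 — conjugating the `KData`, and the structure of `N`
-/

set_option autoImplicit false
set_option linter.unusedSectionVars false
set_option linter.unusedVariables false
set_option linter.style.haveILetI false
set_option maxHeartbeats 1000000
open Cfsg
open scoped commutatorElement Pointwise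

namespace Cfsg.Agent.Lib.helper3.BG14

open Cfsg.Agent.Lib.Helper7 (IsSylowIn exists_isSylowIn_ge card_subgroupOf_of_le)
open Cfsg.Agent.Lib.Helper8.BGTen Cfsg.Agent.Lib.Helper4.BGTrans
open Cfsg.Agent.Lib.helper3.BG11 Cfsg.Agent.Lib.helper3.BG12 Cfsg.Agent.Lib.helper3.BG13
open Cfsg.Agent.Lib.Helper4.BG14 (KData)

universe u

variable {G : Type u} [Group G] [Finite G]

theorem cj_inf' (n : G) (A B : Subgroup G) : cj n (A ⊓ B) = cj n A ⊓ cj n B :=
  Subgroup.map_inf A B _ (MulAut.conj n).injective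

theorem cj_centralizer_singleton (n k : G) :
    cj n (Subgroup.centralizer ({k} : Set G)) = Subgroup.centralizer ({n * k * n⁻¹} : Set G) := by
  ext x
  rw [mem_cj, Subgroup.mem_centralizer_singleton_iff, Subgroup.mem_centralizer_singleton_iff]
  constructor
  · intro h
    have e : x * (n * k * n⁻¹) = n * ((n⁻¹ * x * n) * k) * n⁻¹ := by group
    rw [e, h]; group
  · intro h
    have e : n⁻¹ * x * n * k = n⁻¹ * (x * (n * k * n⁻¹)) * n := by group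
    rw [e, h]; group

theorem sigmaCore_cj_of_mem {M : Subgroup G} {n : G} (hn : n ∈ M) :
    cj n (Cfsg.sigmaCore M) = Cfsg.sigmaCore M :=
  cj_eq_of_mem_normalizer (le_normalizer_sigmaCore M hn)

/-- the data `KData` can be conjugated by elements of `M` -/
theorem kdata_cj {M K E U : Subgroup G} (h : KData M K E U) {n : G} (hn : n ∈ M) :
    KData M (cj n K) (cj n E) (cj n U) := by
  have hσ : cj n (Cfsg.sigmaCore M) = Cfsg.sigmaCore M := sigmaCore_cj_of_mem hn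
  have hMn : cj n M = M := cj_eq_of_mem hn
  refine ⟨?_, cj_mono n h.KE, cj_mono n h.UE, ?_, ?_, ?_, ?_, ?_, ?_, ?_, ?_, ?_⟩
  · have := isComplIn_cj h.compl n
    rwa [hσ, hMn] at this
  · rw [← cj_normalizer]; exact cj_mono n h.Unorm
  · rw [← cj_inf', h.UK]; exact Subgroup.map_bot _
  · intro e he
    rw [mem_cj] at he
    obtain ⟨u, hu, k, hk, hek⟩ := h.mul _ he
    refine ⟨n * u * n⁻¹, conj_mem_cj hu, n * k * n⁻¹, conj_mem_cj hk, ?_⟩
    have e1 : e = n * (n⁻¹ * e * n) * n⁻¹ := by group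
    rw [e1, hek]; group
  · intro k hk hk1
    rw [mem_cj] at hk
    have hk1' : n⁻¹ * k * n ≠ 1 := by
      intro h0
      apply hk1
      have e1 : k = n * (n⁻¹ * k * n) * n⁻¹ := by group
      rw [e1, h0]; group
    have h1 := h.reg _ hk hk1'
    have e2 : n * (n⁻¹ * k * n) * n⁻¹ = k := by group
    have h2 := cj_inf' n U (Subgroup.centralizer ({n⁻¹ * k * n} : Set G))
    rw [cj_centralizer_singleton, e2, h1] at h2
    rw [← h2]; exact Subgroup.map_bot _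
  · intro k hk hk1
    rw [mem_cj] at hk
    have hk1' : n⁻¹ * k * n ≠ 1 := by
      intro h0
      apply hk1
      have e1 : k = n * (n⁻¹ * k * n) * n⁻¹ := by group
      rw [e1, h0]; group
    have h1 := h.prime _ hk hk1'
    have e2 : n * (n⁻¹ * k * n) * n⁻¹ = k := by group
    have h2 := cj_inf' n (Cfsg.sigmaCore M) (Subgroup.centralizer ({n⁻¹ * k * n} : Set G))
    rw [cj_centralizer_singleton, e2, hσ, h1, cj_inf', hσ, cj_centralizer] at h2
    exact h2.symm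
  · haveI := h.Uab
    refine ⟨⟨fun a b => ?_⟩⟩
    apply Subtype.ext
    obtain ⟨a', ha', haa⟩ := Subgroup.mem_map.mp a.2
    obtain ⟨b', hb', hbb⟩ := Subgroup.mem_map.mp b.2
    have hc : a' * b' = b' * a' :=
      congrArg Subtype.val (h.Uab.is_comm.comm (⟨a', ha'⟩ : ↥U) ⟨b', hb'⟩)
    show (a : G) * (b : G) = (b : G) * (a : G)
    rw [← haa, ← hbb, ← map_mul, ← map_mul, hc]
  · have := Cfsg.Agent.H2.BG13.isPiHallOf_cj h.Uhall n
    rwa [hMn] at this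
  · intro X hX hXp
    have hX' : cj n⁻¹ X ≤ K := by
      have := cj_mono n⁻¹ hX
      rwa [cj_inv_cj] at this
    have h1 := h.Knorm (cj n⁻¹ X) hX' (by rw [card_cj]; exact hXp)
    have h2 := cj_mono n h1
    rwa [cj_normalizer, cj_cj_inv] at h2
  · obtain ⟨p, hp, P, hPK, hPc⟩ := h.tau1
    exact ⟨p, hp, cj n P, cj_mono n hPK, by rw [card_cj]; exact hPc⟩

/-- the configuration of S1376: `x ∈ M_σ` of prime order `t`, `C_G(x) ⊄ M`, `N ⊇ C_G(x)` maximal with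
`κ(N) ≠ ∅`, and the data `N = K' U' N_σ` with `U' K' = M ∩ N` -/
structure NCfg (M N K' U' : Subgroup G) (x : G) (t : ℕ) : Prop where
  hM : IsCoatom M
  hN : IsCoatom N
  hxσ : x ∈ Cfsg.sigmaCore M
  hxt : orderOf x = t
  ht : t.Prime
  hxM : ¬ Subgroup.centralizer ({x} : Set G) ≤ M
  hxN : Subgroup.centralizer ({x} : Set G) ≤ N
  hK : Cfsg.IsPiHallOf (Cfsg.kappa N) K' N
  hK1 : K' ≠ ⊥
  hd : KData N K' (M ⊓ N) U'
  hNM : N ≠ M
  hnc : ∀ g : G, cj g N ≠ M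
  htτ : t ∈ Cfsg.tau2 N
  hnil : Group.IsNilpotent ↥(Cfsg.sigmaCore N)
  hdisj : ∀ p : ℕ, p ∈ Cfsg.sigma M → p ∉ Cfsg.sigma N
  hbot : Cfsg.sigmaCore N ⊓ M = ⊥
  huniq : ∀ L : Subgroup G, IsCoatom L → Subgroup.centralizer ({x} : Set G) ≤ L → L = N

theorem exists_ncfg (hG : Cfsg.IsMinSimpleOddOrder G) {M N : Subgroup G} (hM : IsCoatom M)
    {x : G} (hx : x ∈ Cfsg.sigmaCore M) {t : ℕ} (hxt : orderOf x = t) (ht : t.Prime)
    (hxM : ¬ Subgroup.centralizer ({x} : Set G) ≤ M) (hN : IsCoatom N)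
    (hxN : Subgroup.centralizer ({x} : Set G) ≤ N) (hkN : (Cfsg.kappa N).Nonempty) :
    ∃ K' U' : Subgroup G, NCfg M N K' U' x t := by
  haveI : Fact t.Prime := ⟨ht⟩
  have hx1 : x ≠ 1 := by
    intro h
    rw [h, orderOf_one] at hxt
    exact ht.one_lt.ne hxt
  obtain ⟨N', hN', hCN', hNM, hnc, htτ, hnil, hdis, hbot, hcompl⟩ :=
    exists_max_of_prime hG hM hx hxM (t := t) (hxt ▸ dvd_rfl)
  obtain ⟨N₀, ⟨hN₀, hCN₀⟩, huniq, -⟩ := s1375 hG M hM x hx hx1 hxM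
  have e1 : N = N₀ := huniq N hN hxN
  have e2 : N' = N₀ := huniq N' hN' hCN'
  have e3 : N' = N := e2.trans e1.symm
  rw [e3] at hNM hnc htτ hnil hdis hbot hcompl
  have hs : Group.IsSolvable ↥N := solvable_of_ne_top hG hN.1
  obtain ⟨K₀, hK₀⟩ := Cfsg.Agent.H1.exists_isPiHallOf (Cfsg.kappa N) N hs
  have hK₀1 : K₀ ≠ ⊥ := by
    intro h0
    obtain ⟨p, hp⟩ := hkN
    have h1 := Cfsg.Agent.H1.card_eq_relIndex_mul_card hK₀.1
    have hc : Nat.card ↥K₀ = 1 := by rw [h0, Subgroup.card_bot]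
    rw [hc, mul_one] at h1
    exact hK₀.2.2 p hp.1 hp (h1 ▸ hp.2.1)
  obtain ⟨E, U, hd⟩ := Cfsg.Agent.Lib.Helper4.BG14.exists_kdata' hG hN hK₀ hK₀1
  have hcop := Cfsg.Agent.H2.BG12.coprime_compl hG hN hcompl
  obtain ⟨n, hn, hle⟩ := Cfsg.Agent.H2.BG12.exists_cj_compl_ge hG hN hd.compl
    (inf_le_right : M ⊓ N ≤ N) hcop
  have hc1 := Cfsg.Agent.Lib.BG127H7.card_of_isComplIn hcompl
  have hc2 := Cfsg.Agent.Lib.BG127H7.card_of_isComplIn hd.compl
  have hcE : Nat.card ↥E = Nat.card ↥(M ⊓ N : Subgroup G) :=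
    Nat.eq_of_mul_eq_mul_right Nat.card_pos (hc2.symm.trans hc1)
  have heq : M ⊓ N = cj n E :=
    Subgroup.eq_of_le_of_card_ge hle (by rw [card_cj, hcE])
  have hd' := kdata_cj hd hn
  rw [← heq] at hd'
  have hK' : Cfsg.IsPiHallOf (Cfsg.kappa N) (cj n K₀) N :=
    Cfsg.Agent.H1.isPiHallOf_map_conj (Cfsg.kappa N) K₀ N hK₀ n (Subgroup.le_normalizer hn)
  exact ⟨cj n K₀, cj n U, hM, hN, hx, hxt, ht, hxM, hxN, hK', cj_ne_bot hK₀1, hd', hNM, hnc, htτ,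
    hnil, hdis, hbot, fun L hL hCL => (huniq L hL hCL).trans e1.symm⟩

/-- in a product `U K` with `K` normalizing `U`, `U ∩ K = 1`: if `(u k)^m = 1` with `m` prime to `|K|`
then `k = 1` -/
theorem eq_one_of_pow_mul {U K : Subgroup G} (hn : K ≤ Subgroup.normalizer (U : Set G))
    (hUK : U ⊓ K = ⊥) {u k : G} (hu : u ∈ U) (hk : k ∈ K) {m : ℕ} (hm : (u * k) ^ m = 1)
    (hcop : m.Coprime (Nat.card ↥K)) : k = 1 := by
  have key : ∀ j : ℕ, ∃ v ∈ U, (u * k) ^ j = v * k ^ j := by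
    intro j
    induction j with
    | zero => exact ⟨1, U.one_mem, by simp⟩
    | succ j ih =>
      obtain ⟨v, hv, hvj⟩ := ih
      have hkj : k ^ j ∈ K := K.pow_mem hk j
      have h1 : k ^ j * u * (k ^ j)⁻¹ ∈ U :=
        (Subgroup.mem_normalizer_iff.mp (hn hkj) u).mp hu
      refine ⟨v * (k ^ j * u * (k ^ j)⁻¹), U.mul_mem hv h1, ?_⟩
      rw [pow_succ, hvj, pow_succ]
      group
  obtain ⟨v, hv, hvm⟩ := key m
  rw [hm] at hvm
  have h2 : k ^ m = v⁻¹ := by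
    have : v * k ^ m = 1 := hvm.symm
    exact eq_inv_of_mul_eq_one_right this
  have h3 : k ^ m ∈ U ⊓ K := Subgroup.mem_inf.mpr ⟨h2 ▸ U.inv_mem hv, K.pow_mem hk m⟩
  rw [hUK, Subgroup.mem_bot] at h3
  have h4 : orderOf k ∣ m := orderOf_dvd_of_pow_eq_one h3
  have h5 : orderOf k ∣ Nat.card ↥K := by
    have := orderOf_dvd_natCard (⟨k, hk⟩ : ↥K)
    rwa [Subgroup.orderOf_mk] at this
  have h6 : orderOf k ∣ 1 := by
    have := Nat.dvd_gcd h4 h5
    rwa [hcop] at this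
  exact orderOf_eq_one_iff.mp (Nat.dvd_one.mp h6)

namespace NCfg

variable {M N K' U' : Subgroup G} {x : G} {t : ℕ}

theorem hx1 (c : NCfg M N K' U' x t) : x ≠ 1 := by
  intro h
  have := c.hxt
  rw [h, orderOf_one] at this
  exact c.ht.one_lt.ne this

theorem x_mem_M (c : NCfg M N K' U' x t) : x ∈ M := sigmaCore_le M c.hxσ

theorem x_mem_N (c : NCfg M N K' U' x t) : x ∈ N := c.hxN (mem_centralizer_self x)

theorem U_le (c : NCfg M N K' U' x t) : U' ≤ M ⊓ N := c.hd.UE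

theorem K_le (c : NCfg M N K' U' x t) : K' ≤ M ⊓ N := c.hd.KE

/-- `t ∤ |K'|` -/
theorem not_dvd_card_K (c : NCfg M N K' U' x t) : ¬ t ∣ Nat.card ↥K' := by
  intro h
  have h1 := c.hK.2.1 t c.ht h
  haveI : Fact t.Prime := ⟨c.ht⟩
  exact c.htτ.2.2.2 (Cfsg.Agent.Lib.Helper4.BG14.pRankLE_one_of_kappa h1)

/-- every element of `M ∩ N` of order dividing a power of `t` lies in `U'` -/
theorem mem_U_of_pow (c : NCfg M N K' U' x t) {e : G} (he : e ∈ M ⊓ N) {j : ℕ}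
    (hej : e ^ (t ^ j) = 1) : e ∈ U' := by
  obtain ⟨u, hu, k, hk, rfl⟩ := c.hd.mul e he
  have hcop : (t ^ j).Coprime (Nat.card ↥K') :=
    Nat.Coprime.pow_left j ((Nat.Prime.coprime_iff_not_dvd c.ht).mpr c.not_dvd_card_K)
  have hk1 := eq_one_of_pow_mul (c.hd.KE.trans c.hd.Unorm) c.hd.UK hu hk hej hcop
  rw [hk1, mul_one]; exact hu

theorem x_mem_U (c : NCfg M N K' U' x t) : x ∈ U' := by
  apply c.mem_U_of_pow (Subgroup.mem_inf.mpr ⟨c.x_mem_M, c.x_mem_N⟩) (j := 1)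
  rw [pow_one, ← c.hxt]; exact pow_orderOf_eq_one x

theorem U_ne_bot (c : NCfg M N K' U' x t) : U' ≠ ⊥ := by
  intro h
  have := c.x_mem_U
  rw [h, Subgroup.mem_bot] at this
  exact c.hx1 this

theorem U_comm (c : NCfg M N K' U' x t) {a b : G} (ha : a ∈ U') (hb : b ∈ U') :
    a * b = b * a :=
  congrArg Subtype.val (c.hd.Uab.is_comm.comm (⟨a, ha⟩ : ↥U') ⟨b, hb⟩)

/-- KEY: `C_M(x) = U'` -/
theorem centralizer_eq (c : NCfg M N K' U' x t) :
    M ⊓ Subgroup.centralizer ({x} : Set G) = U' := by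
  apply le_antisymm
  · intro e he
    obtain ⟨heM, heC⟩ := Subgroup.mem_inf.mp he
    have heN : e ∈ N := c.hxN heC
    obtain ⟨u, hu, k, hk, rfl⟩ := c.hd.mul e (Subgroup.mem_inf.mpr ⟨heM, heN⟩)
    by_cases hk1 : k = 1
    · rw [hk1, mul_one]; exact hu
    · exfalso
      have hux : u * x = x * u := c.U_comm hu c.x_mem_U
      have hex : u * k * x = x * (u * k) := Subgroup.mem_centralizer_singleton_iff.mp heC
      have hkx : k * x = x * k := by
        have e1 : k * x = u⁻¹ * (u * k * x) := by group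
        rw [e1, hex]
        have e2 : u⁻¹ * (x * (u * k)) = u⁻¹ * (x * u) * k := by group
        rw [e2, ← hux]; group
      have h1 : x ∈ U' ⊓ Subgroup.centralizer ({k} : Set G) :=
        Subgroup.mem_inf.mpr ⟨c.x_mem_U, Subgroup.mem_centralizer_singleton_iff.mpr hkx.symm⟩
      rw [c.hd.reg k hk hk1, Subgroup.mem_bot] at h1
      exact c.hx1 h1
  · intro u hu
    refine Subgroup.mem_inf.mpr ⟨(c.U_le hu).1, ?_⟩
    exact Subgroup.mem_centralizer_singleton_iff.mpr (c.U_comm hu c.x_mem_U)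

theorem card_K_prime (hG : Cfsg.IsMinSimpleOddOrder G) (c : NCfg M N K' U' x t) :
    (Nat.card ↥K').Prime :=
  c.hd.card_prime_of_ne_bot hG c.hN c.hK c.hK1 c.U_ne_bot

theorem t_mem_sigma (hG : Cfsg.IsMinSimpleOddOrder G) (c : NCfg M N K' U' x t) :
    t ∈ Cfsg.sigma M := by
  apply mem_sigma_of_dvd_sigmaCore hG c.hM c.ht
  have := orderOf_dvd_natCard (⟨x, c.hxσ⟩ : ↥(Cfsg.sigmaCore M))
  rwa [Subgroup.orderOf_mk, c.hxt] at this

end NCfg

/-- the statement of S1435 (B&G 14.10), as a hypothesis -/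
def Hyp1435 (G : Type u) [Group G] [Finite G] : Prop :=
  ∀ (M : Subgroup G) (_ : IsCoatom M) (K U : Subgroup G) (_ : Cfsg.IsSigmaDecomposition M K U)
    (_ : K ≠ ⊥) (_ : U ≠ ⊥) (Mstar : Subgroup G) (_ : IsCoatom Mstar)
    (_ : K = Cfsg.sigmaCore Mstar ⊓ Subgroup.centralizer
      ((Cfsg.sigmaCore M ⊓ Subgroup.centralizer (K : Set G) : Subgroup G) : Set G))
    (_ : Cfsg.IsPiHallOf (Cfsg.kappa Mstar)
      (Cfsg.sigmaCore M ⊓ Subgroup.centralizer (K : Set G)) Mstar)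
    (r : ℕ) [Fact r.Prime] (_ : r ∣ Nat.card U) (R : Sylow r U) (H : Subgroup G) (_ : IsCoatom H)
    (_ : Subgroup.normalizer (((R : Subgroup U).map U.subtype : Subgroup G) : Set G) ≤ H),
    Cfsg.kappa H = ∅ ∧ U ≤ Cfsg.sigmaCore H ∧ M ⊓ H = U ⊔ K ∧
      ¬ H ⊓ Subgroup.normalizer (U : Set G) ≤ M ∧
      K ≤ Cfsg.fittingOf (H ⊓ Mstar) ∧ Cfsg.IsComplIn (H ⊓ Mstar) (Cfsg.sigmaCore H) H

namespace NCfg

variable {M N K' U' : Subgroup G} {x : G} {t : ℕ}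

/-- the elementary abelian subgroup `A ≤ U'` of order `t²`, with `N_G(A) ≤ M` -/
theorem exists_A (hG : Cfsg.IsMinSimpleOddOrder G) (c : NCfg M N K' U' x t) :
    ∃ A : Subgroup G, A ≤ U' ∧ Cfsg.IsElementaryAbelian t A ∧ Nat.card ↥A = t ^ 2 ∧
      Subgroup.normalizer (A : Set G) ≤ M := by
  haveI : Fact t.Prime := ⟨c.ht⟩
  obtain ⟨A, hAE, hAe, hAc⟩ := Cfsg.Agent.Lib.BG127H7.exists_elem_le_compl c.hd.compl c.htτ
  have hAU : A ≤ U' := fun a ha =>
    c.mem_U_of_pow (hAE ha) (j := 1) (by rw [pow_one]; exact hAe.2 a ha)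
  obtain ⟨E₀, hE₀⟩ := Cfsg.Agent.Lib.helper3.BG12.exists_compl hG c.hM
  have hN := (Cfsg.Agent.S1420.result hG M c.hM E₀ hE₀).2.2.1 t A (c.t_mem_sigma hG)
    (Cfsg.Agent.Lib.Helper4.BGTrans.isPGroup_of_elementary hAe) (hAE.trans inf_le_left)
    (Cfsg.Agent.Lib.BG127H7.not_isCyclic_of_elem c.ht hAe hAc)
  exact ⟨A, hAU, hAe, hAc, hN⟩

/-- `t ∉ β(M)` (B&G 12.11(a)) -/
theorem t_not_beta (hG : Cfsg.IsMinSimpleOddOrder G) (c : NCfg M N K' U' x t) :
    t ∉ Cfsg.beta M := by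
  haveI : Fact t.Prime := ⟨c.ht⟩
  obtain ⟨A, hAU, hAe, hAc, hNA⟩ := c.exists_A hG
  exact (Cfsg.Agent.H1.BG14.tau2_subset_sigma hG c.hN c.hd.compl c.htτ
    ⟨hAU.trans c.U_le, hAe, hAc⟩ c.hM hNA t c.htτ).2

/-- a Sylow `t`-subgroup `R` of `U'` with `N_G(R) ≤ M` -/
theorem exists_R (hG : Cfsg.IsMinSimpleOddOrder G) (c : NCfg M N K' U' x t) [Fact t.Prime] :
    ∃ R : Sylow t ↥U',
      Subgroup.normalizer (((R : Subgroup ↥U').map U'.subtype : Subgroup G) : Set G) ≤ M := by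
  obtain ⟨A, hAU, hAe, hAc, hNA⟩ := c.exists_A hG
  have hAp : IsPGroup t ↥A := Cfsg.Agent.Lib.Helper4.BGTrans.isPGroup_of_elementary hAe
  obtain ⟨R, hR⟩ := (hAp.comap_subtype (K := U')).exists_le_sylow
  have hAR : A ≤ (R : Subgroup ↥U').map U'.subtype := by
    intro a ha
    exact ⟨⟨a, hAU ha⟩, hR (Subgroup.mem_subgroupOf.mpr ha), rfl⟩
  obtain ⟨E₀, hE₀⟩ := Cfsg.Agent.Lib.helper3.BG12.exists_compl hG c.hM
  refine ⟨R, (Cfsg.Agent.S1420.result hG M c.hM E₀ hE₀).2.2.1 t _ (c.t_mem_sigma hG)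
    (R.isPGroup'.map _) ((Subgroup.map_subtype_le _).trans (c.U_le.trans inf_le_left)) ?_⟩
  intro hcyc
  haveI := hcyc
  exact Cfsg.Agent.Lib.BG127H7.not_isCyclic_of_elem c.ht hAe hAc (Subgroup.isCyclic_of_le hAR)

/-- the partner `L` of `N`; as `|K'|` is prime, `K'*` itself is a Hall `κ(L)`-subgroup of `L` -/
theorem exists_partner' (hG : Cfsg.IsMinSimpleOddOrder G) (c : NCfg M N K' U' x t) :
    ∃ L : Subgroup G, Partner N K' K' L (Kst N K') := by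
  obtain ⟨L, hL, hNL⟩ := exists_coatom_ge
    (normalizer_ne_top' hG c.hK1 (ne_top_of_le_coatom c.hN c.hK.1))
  obtain ⟨K1, h⟩ := exists_partner hG c.hN c.hK c.hK1 le_rfl (c.card_K_prime hG) hL hNL
  have hKσ : K' ≤ Cfsg.sigmaCore L :=
    partner_le_sigmaCore hG c.hN c.hK c.hK1 le_rfl (c.card_K_prime hG) hL hNL
  have h1 : Kst L K1 = K' := by
    rw [h.Kst_eq hG]; exact inf_eq_left.mpr hKσ
  have h2 : K1 ⊓ K' = ⊥ := by
    rw [← h1]; exact inf_Kst_eq_bot hG h.hL h.hK1L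
  have h3 : K1 = Kst N K' := by
    have := h.K1_eq hG
    rwa [h2, sup_bot_eq] at this
  rw [h3] at h
  exact ⟨L, h⟩

end NCfg

end Cfsg.Agent.Lib.helper3.BG14
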