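import Mathlib
import Cfsg.Agent.S0033

/-!
# helper3: two general lemmas for S1376

* `nilpotent_of_central_fixed`: a finite group with an automorphism of prime order `r` (prime to the
  group order) whose fixed points are central is nilpotent (Thompson applied to `Q / Z`).
* `inf_ne_bot_of_cyclic_pgroup`: two nontrivial subgroups of a cyclic `p`-group meet nontrivially.
-/

set_option autoImplicit false
set_option linter.unusedSectionVars false
set_option linter.unusedVariables false
set_option linter.style.haveILetI false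

namespace Cfsg.Agent.Lib.helper3.BG14

theorem nilpotent_of_central_fixed {Q : Type*} [Group Q] [Finite Q] (φ : Q ≃* Q) {r : ℕ}
    (hr : r.Prime) (hφr : φ ^ r = 1) (hcop : (Nat.card Q).Coprime r) (Z : Subgroup Q)
    (hZc : Z ≤ Subgroup.center Q) (hfix : ∀ q : Q, φ q = q → q ∈ Z)
    (hZfix : ∀ z ∈ Z, φ z = z) : Group.IsNilpotent Q := by
  haveI hZn : Z.Normal := by
    refine ⟨fun z hz g => ?_⟩
    have : g * z * g⁻¹ = z := by
      have hc := Subgroup.mem_center_iff.mp (hZc hz) g
      rw [hc]; group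
    rw [this]; exact hz
  have hmap : Z.map (φ : Q →* Q) = Z := by
    ext z
    constructor
    · rintro ⟨w, hw, rfl⟩
      have : (φ : Q →* Q) w = w := hZfix w hw
      rw [this]; exact hw
    · intro hz
      exact ⟨z, hz, hZfix z hz⟩
  -- the induced automorphism
  obtain ⟨ψ, hψ⟩ : ∃ ψ : Q ⧸ Z ≃* Q ⧸ Z, ∀ q : Q, ψ (QuotientGroup.mk q) = QuotientGroup.mk (φ q) :=
    ⟨QuotientGroup.congr Z Z φ hmap, fun q => QuotientGroup.congr_mk Z Z φ hmap q⟩
  have hpow : ∀ (j : ℕ) (q : Q), (ψ ^ j) (QuotientGroup.mk q) = QuotientGroup.mk ((φ ^ j) q) := by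
    intro j
    induction j with
    | zero => intro q; simp
    | succ j ih =>
      intro q
      rw [pow_succ', pow_succ', MulAut.mul_apply, MulAut.mul_apply, ih, hψ]
  have hψr : ψ ^ r = 1 := by
    ext a
    induction a using QuotientGroup.induction_on with
    | H q => rw [hpow, hφr]; simp
  -- fixed-point-freeness
  have hfpf : MonoidHom.FixedPointFree ((ψ : Q ⧸ Z ≃* Q ⧸ Z) : Q ⧸ Z →* Q ⧸ Z) := by
    intro a
    induction a using QuotientGroup.induction_on with
    | H q =>
      intro ha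
      have ha' : (QuotientGroup.mk (φ q) : Q ⧸ Z) = QuotientGroup.mk q := by
        rw [← hψ]; exact ha
      have hc : (φ q)⁻¹ * q ∈ Z := QuotientGroup.eq.mp ha'
      obtain ⟨c, hcdef⟩ : ∃ c : Q, c = q⁻¹ * φ q := ⟨_, rfl⟩
      have hcZ : c ∈ Z := by
        have : c = ((φ q)⁻¹ * q)⁻¹ := by rw [hcdef]; group
        rw [this]; exact Z.inv_mem hc
      have hφq : φ q = q * c := by rw [hcdef]; group
      have hφc : φ c = c := hZfix c hcZ
      have hcc : ∀ g : Q, g * c = c * g := Subgroup.mem_center_iff.mp (hZc hcZ)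
      have hiter : ∀ j : ℕ, (φ ^ j) q = q * c ^ j := by
        intro j
        induction j with
        | zero => simp
        | succ j ih =>
          rw [pow_succ', MulAut.mul_apply, ih, map_mul, map_pow, hφq, hφc, pow_succ']
          group
      have h1 := hiter r
      rw [hφr] at h1
      have h2 : c ^ r = 1 := by
        have : q = q * c ^ r := by simpa using h1
        exact (mul_eq_left.mp this.symm)
      have h3 : orderOf c ∣ r := orderOf_dvd_of_pow_eq_one h2
      have h4 : orderOf c ∣ Nat.card Q := orderOf_dvd_natCard c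
      have h5 : orderOf c ∣ 1 := by
        have := Nat.dvd_gcd h4 h3
        rwa [hcop] at this
      have hc1 : c = 1 := orderOf_eq_one_iff.mp (Nat.dvd_one.mp h5)
      rw [hc1, mul_one] at hφq
      exact (QuotientGroup.eq_one_iff q).mpr (hfix q hφq)
  -- `Q / Z` is nilpotent
  have hnilq : Group.IsNilpotent (Q ⧸ Z) := by
    have hdvd : orderOf ψ ∣ r := orderOf_dvd_of_pow_eq_one hψr
    rcases (Nat.dvd_prime hr).mp hdvd with h | h
    · have hψ1 : ψ = 1 := orderOf_eq_one_iff.mp h
      haveI : Subsingleton (Q ⧸ Z) := by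
        refine ⟨fun a b => ?_⟩
        have ha : a = 1 := hfpf a (by rw [hψ1]; rfl)
        have hb : b = 1 := hfpf b (by rw [hψ1]; rfl)
        rw [ha, hb]
      infer_instance
    · exact Cfsg.Agent.S0033.result ψ hfpf r hr h
  have hker : (QuotientGroup.mk' Z).ker ≤ Subgroup.center Q := by
    rw [QuotientGroup.ker_mk']; exact hZc
  exact isNilpotent_of_ker_le_center (QuotientGroup.mk' Z) hker

/-- two nontrivial subgroups of a cyclic `p`-group meet nontrivially -/
theorem inf_ne_bot_of_cyclic_pgroup {G : Type*} [Group G] [Finite G] {p : ℕ} [hp : Fact p.Prime]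
    {P A B : Subgroup G} (hPc : IsCyclic ↥P) (hPp : IsPGroup p ↥P) (hAP : A ≤ P) (hBP : B ≤ P)
    (hA : A ≠ ⊥) (hB : B ≠ ⊥) : A ⊓ B ≠ ⊥ := by
  -- elements of order `p` in `A` and `B`
  have key : ∀ C : Subgroup G, C ≤ P → C ≠ ⊥ → ∃ c ∈ C, orderOf c = p := by
    intro C hCP hC
    have hCp : IsPGroup p ↥C := hPp.to_le hCP
    have hcard : Nat.card ↥C ≠ 1 := fun h => hC (Subgroup.card_eq_one.mp h)
    have hd : p ∣ Nat.card ↥C := by
      obtain ⟨n, hn⟩ := hCp.exists_card_eq
      rw [hn]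
      rcases Nat.eq_zero_or_pos n with h0 | hpos
      · rw [h0, pow_zero] at hn; exact absurd hn hcard
      · exact dvd_pow_self p hpos.ne'
    obtain ⟨c, hc⟩ := exists_prime_orderOf_dvd_card' p hd
    exact ⟨(c : G), c.2, by rw [Subgroup.orderOf_coe, hc]⟩
  obtain ⟨a, haA, hao⟩ := key A hAP hA
  obtain ⟨b, hbB, hbo⟩ := key B hBP hB
  -- in the cyclic group `P`, `b ∈ ⟨a⟩`
  haveI := hPc
  classical
  haveI : Fintype ↥P := Fintype.ofFinite _
  have hcount := IsCyclic.card_pow_eq_one_le (α := ↥P) hp.out.pos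
  have hsub : ((Subgroup.zpowers (⟨a, hAP haA⟩ : ↥P) : Set ↥P).toFinset) ⊆
      (Finset.univ.filter fun x : ↥P => x ^ p = 1) := by
    intro z hz
    rw [Set.mem_toFinset, SetLike.mem_coe] at hz
    rw [Finset.mem_filter]
    refine ⟨Finset.mem_univ _, ?_⟩
    obtain ⟨k, rfl⟩ := Subgroup.mem_zpowers_iff.mp hz
    rw [← zpow_natCast, ← zpow_mul, mul_comm, zpow_mul, zpow_natCast]
    have : (⟨a, hAP haA⟩ : ↥P) ^ p = 1 := by
      apply Subtype.ext
      rw [Subgroup.coe_pow, Subgroup.coe_one, ← hao]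
      exact pow_orderOf_eq_one a
    rw [this, one_zpow]
  have hcardz : ((Subgroup.zpowers (⟨a, hAP haA⟩ : ↥P) : Set ↥P).toFinset).card = p := by
    rw [Set.toFinset_card, ← Nat.card_eq_fintype_card]
    show Nat.card ↥(Subgroup.zpowers (⟨a, hAP haA⟩ : ↥P)) = p
    rw [Nat.card_zpowers, Subgroup.orderOf_mk, hao]
  have heq := Finset.eq_of_subset_of_card_le hsub (by rw [hcardz]; exact hcount)
  have hb_mem : (⟨b, hBP hbB⟩ : ↥P) ∈ (Finset.univ.filter fun x : ↥P => x ^ p = 1) := by
    rw [Finset.mem_filter]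
    refine ⟨Finset.mem_univ _, ?_⟩
    apply Subtype.ext
    rw [Subgroup.coe_pow, Subgroup.coe_one, ← hbo]
    exact pow_orderOf_eq_one b
  rw [← heq, Set.mem_toFinset, SetLike.mem_coe] at hb_mem
  obtain ⟨k, hk⟩ := Subgroup.mem_zpowers_iff.mp hb_mem
  have hbA : b ∈ A := by
    have h1 : ((⟨a, hAP haA⟩ : ↥P) ^ k : ↥P).1 = b := congrArg Subtype.val hk
    rw [Subgroup.coe_zpow] at h1
    rw [← h1]
    exact A.zpow_mem haA k
  intro hbot
  have h2 : b ∈ A ⊓ B := Subgroup.mem_inf.mpr ⟨hbA, hbB⟩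
  rw [hbot, Subgroup.mem_bot] at h2
  rw [h2, orderOf_one] at hbo
  exact hp.out.one_lt.ne hbo

end Cfsg.Agent.Lib.helper3.BG14
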