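import Mathlib
import Cfsg.Agent.Lib.helper3.BG14F
import Cfsg.Agent.Lib.helper3.BG14H
import Cfsg.Agent.H1.NormMap
import Cfsg.Agent.S1432

/-!
# B&G Section 14, part G (helper3): S1376 from S1435
-/

set_option autoImplicit false
set_option linter.unusedSectionVars false
set_option linter.unusedVariables false
set_option linter.style.haveILetI false
set_option maxHeartbeats 1000000
open Cfsg
open scoped commutatorElement Pointwise

namespace Cfsg.Agent.Lib.helper3.BG14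

open Cfsg.Agent.Lib.Helper7 (IsSylowIn exists_isSylowIn_ge card_subgroupOf_of_le)
open Cfsg.Agent.Lib.Helper8.BGTen Cfsg.Agent.Lib.Helper4.BGTrans
open Cfsg.Agent.Lib.helper3.BG11 Cfsg.Agent.Lib.helper3.BG12 Cfsg.Agent.Lib.helper3.BG13
open Cfsg.Agent.Lib.Helper4.BG14 (KData)

universe u

variable {G : Type u} [Group G] [Finite G]

/-- the configuration after applying S1435 to `(N, K', U', L, t, R, M)` -/
structure MCfg (M N K' U' L : Subgroup G) (x : G) (t : ℕ) : Prop where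
  c : NCfg M N K' U' x t
  h : Partner N K' K' L (Kst N K')
  hκ : Cfsg.kappa M = ∅
  hUσ : U' ≤ Cfsg.sigmaCore M
  hcompl : Cfsg.IsComplIn (M ⊓ L) (Cfsg.sigmaCore M) M

theorem exists_mcfg (hG : Cfsg.IsMinSimpleOddOrder G) (h35 : Hyp1435 G)
    {M N K' U' : Subgroup G} {x : G} {t : ℕ} (c : NCfg M N K' U' x t) :
    ∃ L : Subgroup G, MCfg M N K' U' L x t := by
  haveI : Fact t.Prime := ⟨c.ht⟩
  obtain ⟨L, h⟩ := c.exists_partner' hG
  obtain ⟨R, hNR⟩ := c.exists_R hG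
  have hp := c.card_K_prime hG
  haveI : Fact (Nat.card ↥K').Prime := ⟨hp⟩
  have hKc : IsCyclic ↥K' := isCyclic_of_prime_card (p := Nat.card ↥K') rfl
  have hdec := Cfsg.Agent.Lib.Helper8.BG14K.decomp_of_kdata hKc c.hK c.hd
  have hKσ : K' ≤ Cfsg.sigmaCore L :=
    partner_le_sigmaCore hG c.hN c.hK c.hK1 le_rfl hp h.hL h.hNL
  have hKst : K' = Cfsg.sigmaCore L ⊓ Subgroup.centralizer
      ((Cfsg.sigmaCore N ⊓ Subgroup.centralizer (K' : Set G) : Subgroup G) : Set G) := by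
    have h1 : Kst L (Kst N K') = K' ⊓ Cfsg.sigmaCore L := h.Kst_eq hG
    rw [inf_eq_left.mpr hKσ] at h1
    exact h1.symm
  have htU : t ∣ Nat.card ↥U' := by
    have := orderOf_dvd_natCard (⟨x, c.x_mem_U⟩ : ↥U')
    rwa [Subgroup.orderOf_mk, c.hxt] at this
  obtain ⟨h1, h2, -, -, -, h6⟩ := h35 N c.hN K' U' hdec c.hK1 c.U_ne_bot L h.hL hKst h.hK1L t htU R M
    c.hM hNR
  exact ⟨L, c, h, h1, h2, h6⟩

namespace MCfg

variable {M N K' U' L : Subgroup G} {x : G} {t : ℕ}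

theorem K_le_E (hG : Cfsg.IsMinSimpleOddOrder G) (m : MCfg M N K' U' L x t) : K' ≤ M ⊓ L :=
  le_inf (m.c.K_le.trans inf_le_left) (m.h.K_le hG)

theorem K_isPGroup (hG : Cfsg.IsMinSimpleOddOrder G) (m : MCfg M N K' U' L x t) :
    IsPGroup (Nat.card ↥K') ↥K' :=
  IsPGroup.of_card (n := 1) (by rw [pow_one])

/-- `p' ∉ σ(M)` -/
theorem card_K_not_sigma (hG : Cfsg.IsMinSimpleOddOrder G) (m : MCfg M N K' U' L x t) :
    Nat.card ↥K' ∉ Cfsg.sigma M := by
  intro hσ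
  have h1 : K' ≤ Cfsg.sigmaCore M :=
    Cfsg.Agent.H2.BG11.le_sigmaCore_of_pgroup hG m.c.hM hσ (m.c.K_le.trans inf_le_left)
      (m.K_isPGroup hG)
  have h2 : K' ≤ (M ⊓ L) ⊓ Cfsg.sigmaCore M := le_inf (m.K_le_E hG) h1
  rw [m.hcompl.2.2.1] at h2
  exact m.c.hK1 (le_bot_iff.mp h2)

theorem card_K_mem_sigma_L (hG : Cfsg.IsMinSimpleOddOrder G) (m : MCfg M N K' U' L x t) :
    Nat.card ↥K' ∈ Cfsg.sigma L :=
  partner_mem_sigma hG m.c.hN m.c.hK m.c.hK1 le_rfl (m.c.card_K_prime hG) m.h.hL m.h.hNL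

/-- `σ(M) ∩ σ(L) = ∅` -/
theorem sigma_disjoint (hG : Cfsg.IsMinSimpleOddOrder G) (m : MCfg M N K' U' L x t) {q : ℕ}
    (hqM : q ∈ Cfsg.sigma M) : q ∉ Cfsg.sigma L := by
  intro hqL
  obtain ⟨g, hg⟩ := (Cfsg.Agent.S1378.result hG).2 M L m.c.hM m.h.hL ⟨q, hqM, hqL⟩
  have h1 := m.card_K_mem_sigma_L hG
  have hg' : L = cj g M := hg
  rw [hg', Cfsg.Agent.H2.BG11.sigma_cj] at h1
  exact m.card_K_not_sigma hG h1

theorem M_ne_L (hG : Cfsg.IsMinSimpleOddOrder G) (m : MCfg M N K' U' L x t) : M ≠ L := by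
  intro h
  have h1 := m.card_K_mem_sigma_L hG
  rw [← h] at h1
  exact m.card_K_not_sigma hG h1

/-- a generator of `K'` -/
theorem exists_gen (hG : Cfsg.IsMinSimpleOddOrder G) (m : MCfg M N K' U' L x t) :
    ∃ k ∈ K', k ≠ 1 ∧ orderOf k = Nat.card ↥K' ∧ Subgroup.zpowers k = K' := by
  have hp := m.c.card_K_prime hG
  obtain ⟨k, hk, hk1⟩ := Cfsg.Agent.Lib.Helper4.BG14.exists_ne_one_of_ne_bot m.c.hK1
  have hd : orderOf k ∣ Nat.card ↥K' := by
    have := orderOf_dvd_natCard (⟨k, hk⟩ : ↥K')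
    rwa [Subgroup.orderOf_mk] at this
  have ho : orderOf k = Nat.card ↥K' := by
    rcases (Nat.dvd_prime hp).mp hd with h | h
    · exact absurd (orderOf_eq_one_iff.mp h) hk1
    · exact h
  refine ⟨k, hk, hk1, ho, ?_⟩
  apply Subgroup.eq_of_le_of_card_ge (Subgroup.zpowers_le.mpr hk)
  rw [Nat.card_zpowers, ho]

/-- `M_σ` is nilpotent -/
theorem nilpotent_sigmaCore (hG : Cfsg.IsMinSimpleOddOrder G) (m : MCfg M N K' U' L x t) :
    Group.IsNilpotent ↥(Cfsg.sigmaCore M) := by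
  have hp := m.c.card_K_prime hG
  haveI : Fact (Nat.card ↥K').Prime := ⟨hp⟩
  obtain ⟨k, hk, hk1, hko, hkz⟩ := m.exists_gen hG
  have hKM : K' ≤ M := m.c.K_le.trans inf_le_left
  by_cases hfix : Cfsg.sigmaCore M ⊓ Subgroup.centralizer (K' : Set G) = ⊥
  · refine Cfsg.Agent.H2.BG11.nilpotent_of_fpf_prime hp hko
      (le_normalizer_sigmaCore M (hKM hk)) ?_
    intro y hy hky
    have h1 : y ∈ Cfsg.sigmaCore M ⊓ Subgroup.centralizer (K' : Set G) := by
      refine Subgroup.mem_inf.mpr ⟨hy, ?_⟩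
      rw [← hkz, centralizer_zpowers_eq, Subgroup.mem_centralizer_singleton_iff]
      have e : y * k = (k * y * k⁻¹)⁻¹ * (k * y * k⁻¹) * y * k := by group
      have : k * y = y * k := by
        have e1 : k * y = k * y * k⁻¹ * k := by group
        rw [e1, hky]
      exact this.symm
    rw [hfix, Subgroup.mem_bot] at h1
    exact h1
  · have hσ := m.card_K_not_sigma hG
    have hdM : Nat.card ↥K' ∣ Nat.card ↥M := Subgroup.card_dvd_of_le hKM
    have hτ : Nat.card ↥K' ∈ Cfsg.tau2 M := by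
      rcases Cfsg.Agent.H2.BG13.tau_cases hG m.c.hM hp hdM hσ with h | h | h
      · exfalso
        have := Cfsg.Agent.Lib.Helper4.BG14.mem_kappa_of_fixed hG hσ h.2.2.2.2 hKM rfl hfix
        rw [m.hκ] at this
        exact this
      · exact h
      · exfalso
        have := Cfsg.Agent.Lib.Helper4.BG14.mem_kappa_of_fixed hG hσ h.2.2.2 hKM rfl hfix
        rw [m.hκ] at this
        exact this
    obtain ⟨B, hBM, hBe, hBc⟩ := Cfsg.Agent.Lib.BG127H7.exists_elem_of_tau2 hτ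
    exact (Cfsg.Agent.S1417.result hG M m.c.hM _ hτ B ⟨hBM, hBe, hBc⟩).1

/-- `N_G(M_σ) = M` -/
theorem mem_of_mem_normalizer (hG : Cfsg.IsMinSimpleOddOrder G) (m : MCfg M N K' U' L x t) {g : G}
    (hg : g ∈ Subgroup.normalizer ((Cfsg.sigmaCore M : Subgroup G) : Set G)) : g ∈ M := by
  have h1 : Cfsg.sigmaCore M ≠ ⊥ := by
    intro h
    have := m.c.hxσ
    rw [h, Subgroup.mem_bot] at this
    exact m.c.hx1 this
  have h2 : Cfsg.sigmaCore M ≠ ⊤ := ne_top_of_le_coatom m.c.hM (sigmaCore_le M)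
  have h3 := normalizer_ne_top' hG h1 h2
  have h4 : M ≤ Subgroup.normalizer ((Cfsg.sigmaCore M : Subgroup G) : Set G) :=
    le_normalizer_sigmaCore M
  rcases eq_or_lt_of_le h4 with h | h
  · rw [h]; exact hg
  · exact absurd (m.c.hM.2 _ h) h3

/-- clause 3 of S1376: `M_F` is not a TI-subset -/
theorem not_TI (hG : Cfsg.IsMinSimpleOddOrder G) (m : MCfg M N K' U' L x t) :
    ¬ Cfsg.IsTISubset (Cfsg.fittingHallOf M : Set G) := by
  rw [← sigmaCore_eq_fittingHallOf hG m.c.hM (m.nilpotent_sigmaCore hG)]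
  intro hTI
  have hnot : ¬ Subgroup.centralizer ({x} : Set G) ≤ M := m.c.hxM
  apply hnot
  intro g hg
  by_contra hgM
  have hgn : g ∉ Subgroup.normalizer ((Cfsg.sigmaCore M : Subgroup G) : Set G) :=
    fun h => hgM (m.mem_of_mem_normalizer hG h)
  have hgx : g * x * g⁻¹ = x := by
    have := Subgroup.mem_centralizer_singleton_iff.mp hg
    rw [this]; group
  exact m.c.hx1 (hTI g hgn x m.c.hxσ (by rw [hgx]; exact m.c.hxσ))

end MCfg

namespace MCfg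

variable {M N K' U' L : Subgroup G} {x : G} {t : ℕ}

theorem t_not_dvd_E (hG : Cfsg.IsMinSimpleOddOrder G) (m : MCfg M N K' U' L x t) :
    ¬ t ∣ Nat.card ↥(M ⊓ L : Subgroup G) := fun h =>
  Cfsg.Agent.H2.BG12.not_mem_sigma_of_dvd_compl hG m.c.hM m.hcompl m.c.ht h (m.c.t_mem_sigma hG)

/-- `E_M = M ∩ L` is abelian (A0 + `C_M(x) = U' ≤ M_σ`) -/
theorem E_comm (hG : Cfsg.IsMinSimpleOddOrder G) (m : MCfg M N K' U' L x t) :
    ∀ a ∈ M ⊓ L, ∀ b ∈ M ⊓ L, a * b = b * a := by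
  haveI : Fact t.Prime := ⟨m.c.ht⟩
  have hnil := m.nilpotent_sigmaCore hG
  have hS1 := sylIn_Oq_of_nilpotent hnil t
  have hxS : x ∈ Cfsg.Agent.H2.BGU.Oq t (Cfsg.sigmaCore M) := by
    have hz : Subgroup.zpowers x ≤ Cfsg.sigmaCore M := Subgroup.zpowers_le.mpr m.c.hxσ
    have hzp : IsPGroup t ↥(Subgroup.zpowers x) := by
      apply IsPGroup.of_card (n := 1)
      rw [Nat.card_zpowers, m.c.hxt, pow_one]
    exact Cfsg.Agent.H2.BGU.le_Oq_of_isPGroup hnil hz hzp (Subgroup.mem_zpowers x)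
  have hSM : IsSylowIn t (Cfsg.Agent.H2.BGU.Oq t (Cfsg.sigmaCore M)) M := by
    refine ⟨(Cfsg.Agent.H2.BGU.Oq_le t _).trans (sigmaCore_le M), ?_⟩
    rw [hS1.2, Cfsg.Agent.Lib.BG127H7.card_of_isComplIn m.hcompl,
      Nat.factorization_mul Nat.card_pos.ne' Nat.card_pos.ne']
    have : (Nat.card ↥(M ⊓ L : Subgroup G)).factorization t = 0 :=
      Nat.factorization_eq_zero_of_not_dvd (m.t_not_dvd_E hG)
    rw [Finsupp.add_apply, this, zero_add]
  have hSne : Cfsg.Agent.H2.BGU.Oq t (Cfsg.sigmaCore M) ≠ ⊥ := by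
    intro h
    rw [h, Subgroup.mem_bot] at hxS
    exact m.c.hx1 hxS
  have hnar := Cfsg.Agent.Lib.Helper4.BG13.autNar_of_not_beta hG m.c.hM (m.c.t_not_beta hG) hSM hSne
  have hES : M ⊓ L ≤ Subgroup.normalizer
      ((Cfsg.Agent.H2.BGU.Oq t (Cfsg.sigmaCore M) : Subgroup G) : Set G) :=
    inf_le_left.trans (Cfsg.Agent.H2.BG11.ExcTriple.le_normalizer_Oq_sigmaCore t M)
  have hcomm := Cfsg.Agent.Lib.Helper4.BG13.commutator_le_centralizer_of_autNar hG hnar hES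
    (m.t_not_dvd_E hG)
  have hbot : ⁅(M ⊓ L : Subgroup G), (M ⊓ L : Subgroup G)⁆ = ⊥ := by
    rw [eq_bot_iff, ← m.hcompl.2.2.1]
    have h1 : ⁅(M ⊓ L : Subgroup G), (M ⊓ L : Subgroup G)⁆ ≤ M ⊓ L := by
      rw [Subgroup.commutator_le]
      intro a ha b hb
      rw [commutatorElement_def]
      exact Subgroup.mul_mem _ (Subgroup.mul_mem _ (Subgroup.mul_mem _ ha hb)
        (Subgroup.inv_mem _ ha)) (Subgroup.inv_mem _ hb)
    refine le_inf h1 ?_
    refine le_trans ?_ m.hUσ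
    rw [← m.c.centralizer_eq]
    refine le_inf (h1.trans inf_le_left) ?_
    exact hcomm.trans (Subgroup.centralizer_le (Set.singleton_subset_iff.mpr hxS))
  intro a ha b hb
  have h2 : ⁅a, b⁆ ∈ ⁅(M ⊓ L : Subgroup G), (M ⊓ L : Subgroup G)⁆ :=
    Subgroup.commutator_mem_commutator ha hb
  rw [hbot, Subgroup.mem_bot, commutatorElement_def] at h2
  have e : a * b = a * b * a⁻¹ * b⁻¹ * (b * a) := by group
  rw [e, h2, one_mul]

end MCfg

namespace MCfg

variable {M N K' U' L : Subgroup G} {x : G} {t : ℕ}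

theorem sigmaCore_ne_bot (m : MCfg M N K' U' L x t) : Cfsg.sigmaCore M ≠ ⊥ := by
  intro h
  have := m.c.hxσ
  rw [h, Subgroup.mem_bot] at this
  exact m.c.hx1 this

/-- a subgroup of `E_M = M ∩ L` centralizing `x` is trivial -/
theorem eq_bot_of_le_centralizer (m : MCfg M N K' U' L x t) {X : Subgroup G} (hXE : X ≤ M ⊓ L)
    (hXc : X ≤ Subgroup.centralizer ({x} : Set G)) : X = ⊥ := by
  rw [eq_bot_iff, ← m.hcompl.2.2.1]
  refine le_inf hXE (le_trans ?_ m.hUσ)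
  rw [← m.c.centralizer_eq]
  exact le_inf (hXE.trans inf_le_left) hXc

/-- **Lemma Q**: `p' ∉ τ₂(M)` -/
theorem card_K_not_tau2 (hG : Cfsg.IsMinSimpleOddOrder G) (m : MCfg M N K' U' L x t) :
    Nat.card ↥K' ∉ Cfsg.tau2 M := by
  intro hτ
  have hp := m.c.card_K_prime hG
  haveI : Fact (Nat.card ↥K').Prime := ⟨hp⟩
  obtain ⟨B, hBE, hBe, hBc⟩ := Cfsg.Agent.Lib.BG127H7.exists_elem_le_compl m.hcompl hτ
  by_cases hab : ∀ S : Sylow (Nat.card ↥K') G, ¬ IsMulCommutative (S : Subgroup G)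
  · obtain ⟨-, ⟨hc, -⟩, -⟩ := Cfsg.Agent.S1419.result hG M m.c.hM (M ⊓ L) m.hcompl _ hτ hab B
      ⟨hBE, hBe, hBc⟩
    have h0 : B ⊓ Subgroup.centralizer ((Cfsg.sigmaCore M : Subgroup G) : Set G) = ⊥ :=
      m.eq_bot_of_le_centralizer (inf_le_left.trans hBE)
        (inf_le_right.trans (Subgroup.centralizer_le (Set.singleton_subset_iff.mpr m.c.hxσ)))
    rw [h0, Subgroup.card_bot] at hc
    exact hp.one_lt.ne hc
  · push Not at hab
    have hBM : B ≤ M := hBE.trans inf_le_left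
    have hpσ : ¬ Nat.card ↥K' ∣ Nat.card ↥(Cfsg.sigmaCore M) := fun hd =>
      m.card_K_not_sigma hG (mem_sigma_of_dvd_sigmaCore hG m.c.hM hp hd)
    obtain ⟨b, hbB, hb1, hfix⟩ := exists_fixed_of_rank_two hBe (le_of_eq hBc.symm)
      (hBM.trans (le_normalizer_sigmaCore M)) hpσ m.sigmaCore_ne_bot
    have hbo : orderOf b = Nat.card ↥K' := orderOf_eq_prime (hBe.2 b hbB) hb1
    have hXc : Nat.card ↥(Subgroup.zpowers b) = Nat.card ↥K' := by rw [Nat.card_zpowers, hbo]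
    have hXB : Subgroup.zpowers b ≤ B := Subgroup.zpowers_le.mpr hbB
    have hfix' : Cfsg.sigmaCore M ⊓
        Subgroup.centralizer ((Subgroup.zpowers b : Subgroup G) : Set G) ≠ ⊥ := by
      rw [centralizer_zpowers_eq]; exact hfix
    obtain ⟨hCM, -⟩ := (Cfsg.Agent.S1418.result hG M m.c.hM (M ⊓ L) m.hcompl _ hτ B
      ⟨hBE, hBe, hBc⟩).2.2 _ hXB hXc hfix'
    -- `X₁ ≤ L_σ`
    have hXp : IsPGroup (Nat.card ↥K') ↥(Subgroup.zpowers b) :=
      IsPGroup.of_card (n := 1) (by rw [hXc, pow_one])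
    have hXσ : Subgroup.zpowers b ≤ Cfsg.sigmaCore L :=
      Cfsg.Agent.H2.BG11.le_sigmaCore_of_pgroup hG m.h.hL (m.card_K_mem_sigma_L hG)
        ((hXB.trans hBE).trans inf_le_right) hXp
    obtain ⟨S', hS'⟩ := (hXp.comap_subtype (K := Cfsg.sigmaCore L)).exists_le_sylow
    have hbS' : b ∈ (S' : Subgroup ↥(Cfsg.sigmaCore L)).map (Cfsg.sigmaCore L).subtype :=
      ⟨⟨b, hXσ (Subgroup.mem_zpowers b)⟩,
        hS' (Subgroup.mem_subgroupOf.mpr (Subgroup.mem_zpowers b)), rfl⟩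
    have hS'p : IsPGroup (Nat.card ↥K')
        ↥((S' : Subgroup ↥(Cfsg.sigmaCore L)).map (Cfsg.sigmaCore L).subtype) :=
      S'.isPGroup'.map _
    have hS'comm := Cfsg.Agent.H2.BG12.comm_of_sylow_abelian hab hS'p
    have hS'M : (S' : Subgroup ↥(Cfsg.sigmaCore L)).map (Cfsg.sigmaCore L).subtype ≤ M := by
      refine le_trans ?_ hCM
      intro z hz
      rw [centralizer_zpowers_eq, Subgroup.mem_centralizer_singleton_iff]
      exact hS'comm z hz b hbS'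
    have hKst : Kst L (Kst N K') = K' := by
      rw [m.h.Kst_eq hG]
      exact inf_eq_left.mpr
        (partner_le_sigmaCore hG m.c.hN m.c.hK m.c.hK1 le_rfl hp m.h.hL m.h.hNL)
    have hd : Nat.card ↥K' ∣ Nat.card ↥(Cfsg.sigmaCore L ⊓
        Subgroup.centralizer ((Kst N K' : Subgroup G) : Set G) : Subgroup G) := by
      have : Cfsg.sigmaCore L ⊓ Subgroup.centralizer ((Kst N K' : Subgroup G) : Set G) = K' :=
        hKst
      rw [this]
    obtain ⟨huniq, hS'L, -⟩ := (Cfsg.Agent.S1431.result hG L m.h.hL (Kst N K') m.h.hK1L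
      (m.h.K1_ne_bot hG)).2.2.1 _ hp hd S'
    exact m.M_ne_L hG
      (Cfsg.Agent.Lib.Helper4.BGUniq.le_of_inUniqueMaximal huniq m.c.hM hS'M m.h.hL hS'L)

end MCfg

/-- subgroup version of `nilpotent_of_central_fixed` -/
theorem nilpotent_of_central_fixed_sub {X Z : Subgroup G} {b : G} {r : ℕ} (hr : r.Prime)
    (hb : orderOf b = r) (hbX : b ∈ Subgroup.normalizer (X : Set G))
    (hcop : (Nat.card ↥X).Coprime r) (hZX : Z ≤ X) (hZc : ∀ z ∈ Z, ∀ q ∈ X, q * z = z * q)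
    (hfix : ∀ q ∈ X, b * q * b⁻¹ = q → q ∈ Z) (hZfix : ∀ z ∈ Z, b * z * b⁻¹ = z) :
    Group.IsNilpotent ↥X := by
  apply nilpotent_of_central_fixed (Cfsg.Agent.H2.BG11.conjAut X b hbX) hr ?_ hcop (Z.subgroupOf X)
  · intro z hz
    rw [Subgroup.mem_center_iff]
    intro q
    apply Subtype.ext
    exact hZc z.1 (Subgroup.mem_subgroupOf.mp hz) q.1 q.2
  · intro q hq
    rw [Subgroup.mem_subgroupOf]
    apply hfix q.1 q.2
    have := congrArg Subtype.val hq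
    rwa [Cfsg.Agent.H2.BG11.conjAut_apply] at this
  · intro z hz
    apply Subtype.ext
    rw [Cfsg.Agent.H2.BG11.conjAut_apply]
    exact hZfix z.1 (Subgroup.mem_subgroupOf.mp hz)
  · ext q
    rw [Cfsg.Agent.H2.BG11.conjAut_pow, ← hb, pow_orderOf_eq_one]
    simp

namespace MCfg

variable {M N K' U' L : Subgroup G} {x : G} {t : ℕ}

/-- `K'` has rank one in `M` -/
theorem K_rank_one (hG : Cfsg.IsMinSimpleOddOrder G) (m : MCfg M N K' U' L x t) :
    Cfsg.PRankLE (Nat.card ↥K') 1 ↥M := by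
  have hp := m.c.card_K_prime hG
  have hdM : Nat.card ↥K' ∣ Nat.card ↥M :=
    Subgroup.card_dvd_of_le (m.c.K_le.trans inf_le_left)
  rcases Cfsg.Agent.H2.BG13.tau_cases hG m.c.hM hp hdM (m.card_K_not_sigma hG) with h | h | h
  · exact h.2.2.2.2
  · exact absurd h (m.card_K_not_tau2 hG)
  · exact h.2.2.2

/-- `K'` acts fixed-point-freely on `M_σ` -/
theorem K_fpf (hG : Cfsg.IsMinSimpleOddOrder G) (m : MCfg M N K' U' L x t) :
    Cfsg.sigmaCore M ⊓ Subgroup.centralizer (K' : Set G) = ⊥ := by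
  by_contra hfix
  have hp := m.c.card_K_prime hG
  haveI : Fact (Nat.card ↥K').Prime := ⟨hp⟩
  have := Cfsg.Agent.Lib.Helper4.BG14.mem_kappa_of_fixed hG (m.card_K_not_sigma hG)
    (m.K_rank_one hG) (m.c.K_le.trans inf_le_left) rfl hfix
  rw [m.hκ] at this
  exact this

theorem K_le_sigmaCore_L (hG : Cfsg.IsMinSimpleOddOrder G) (m : MCfg M N K' U' L x t) :
    K' ≤ Cfsg.sigmaCore L :=
  partner_le_sigmaCore hG m.c.hN m.c.hK m.c.hK1 le_rfl (m.c.card_K_prime hG) m.h.hL m.h.hNL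

theorem Kst_L_eq (hG : Cfsg.IsMinSimpleOddOrder G) (m : MCfg M N K' U' L x t) :
    Cfsg.sigmaCore L ⊓ Subgroup.centralizer ((Kst N K' : Subgroup G) : Set G) = K' := by
  have h1 : Kst L (Kst N K') = K' ⊓ Cfsg.sigmaCore L := m.h.Kst_eq hG
  rw [inf_eq_left.mpr (m.K_le_sigmaCore_L hG)] at h1
  exact h1

theorem K_comm (hG : Cfsg.IsMinSimpleOddOrder G) (m : MCfg M N K' U' L x t) {a b : G}
    (ha : a ∈ K') (hb : b ∈ K') : a * b = b * a :=
  m.E_comm hG a (m.K_le_E hG ha) b (m.K_le_E hG hb)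

/-- an element `y ∈ K'*` of prime order `r ∈ κ(L)` with `C_{L_σ}(y) = K'` -/
theorem exists_y (hG : Cfsg.IsMinSimpleOddOrder G) (m : MCfg M N K' U' L x t) :
    ∃ (y : G) (r : ℕ), r.Prime ∧ orderOf y = r ∧ y ∈ Kst N K' ∧ r ∈ Cfsg.kappa L ∧
      Cfsg.sigmaCore L ⊓ Subgroup.centralizer ({y} : Set G) = K' := by
  have hne := Kst_ne_bot hG m.c.hN m.c.hK m.c.hK1
  have h1 : Nat.card ↥(Kst N K') ≠ 1 := fun h => hne (Subgroup.card_eq_one.mp h)
  obtain ⟨r, hr, hrd⟩ := Nat.exists_prime_and_dvd h1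
  haveI : Fact r.Prime := ⟨hr⟩
  obtain ⟨y, hy⟩ := exists_prime_orderOf_dvd_card' r hrd
  have hyo : orderOf (y : G) = r := by rw [Subgroup.orderOf_coe, hy]
  have hy1 : (y : G) ≠ 1 := by
    intro h
    rw [h, orderOf_one] at hyo
    exact hr.one_lt.ne hyo
  refine ⟨(y : G), r, hr, hyo, y.2, m.h.hK1L.2.1 r hr hrd, ?_⟩
  rw [(Cfsg.Agent.S1430.result hG L m.h.hL (Kst N K') m.h.hK1L (m.h.K1_ne_bot hG)).1 (y : G) y.2
    hy1]
  exact m.Kst_L_eq hG

/-- `L₁ := C_{L_σ}(K')` is nilpotent -/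
theorem nilpotent_L1 (hG : Cfsg.IsMinSimpleOddOrder G) (m : MCfg M N K' U' L x t) :
    Group.IsNilpotent ↥(Cfsg.sigmaCore L ⊓ Subgroup.centralizer (K' : Set G) : Subgroup G) := by
  obtain ⟨y, r, hr, hyo, hyK, hrκ, hCy⟩ := m.exists_y hG
  have hyL : y ∈ L := m.h.hK1L.1 hyK
  have hyC : y ∈ Subgroup.centralizer (K' : Set G) := (Subgroup.mem_inf.mp hyK).2
  have hyn : y ∈ Subgroup.normalizer
      ((Cfsg.sigmaCore L ⊓ Subgroup.centralizer (K' : Set G) : Subgroup G) : Set G) := by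
    have h1 : Subgroup.zpowers y ≤ Subgroup.normalizer
        ((Cfsg.sigmaCore L ⊓ Subgroup.centralizer (K' : Set G) : Subgroup G) : Set G) := by
      apply Cfsg.Agent.Lib.Helper8.BGTen.le_normalizer_inf
      · exact (Subgroup.zpowers_le.mpr hyL).trans (le_normalizer_sigmaCore L)
      · exact Subgroup.zpowers_le.mpr (Subgroup.le_normalizer hyC)
    exact h1 (Subgroup.mem_zpowers y)
  have hrσ : ¬ r ∣ Nat.card ↥(Cfsg.sigmaCore L) := fun hd =>
    hrκ.2.2.1 (mem_sigma_of_dvd_sigmaCore hG m.h.hL hr hd)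
  have hcop : (Nat.card ↥(Cfsg.sigmaCore L ⊓ Subgroup.centralizer (K' : Set G) :
      Subgroup G)).Coprime r := by
    apply Nat.Coprime.symm
    rw [Nat.Prime.coprime_iff_not_dvd hr]
    exact fun hd => hrσ (hd.trans (Subgroup.card_dvd_of_le inf_le_left))
  have hKC : K' ≤ Subgroup.centralizer (K' : Set G) := by
    intro a ha
    rw [Subgroup.mem_centralizer_iff]
    intro b hb
    exact m.K_comm hG hb ha
  refine nilpotent_of_central_fixed_sub hr hyo hyn hcop (le_inf (m.K_le_sigmaCore_L hG) hKC)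
    ?_ ?_ ?_
  · intro z hz q hq
    exact (Subgroup.mem_centralizer_iff.mp (Subgroup.mem_inf.mp hq).2 z hz).symm
  · intro q hq hyq
    rw [← hCy]
    refine Subgroup.mem_inf.mpr ⟨(Subgroup.mem_inf.mp hq).1, ?_⟩
    rw [Subgroup.mem_centralizer_singleton_iff]
    have e : y * q = y * q * y⁻¹ * y := by group
    rw [e, hyq]
  · intro z hz
    have h1 := Subgroup.mem_centralizer_iff.mp hyC z hz
    rw [← h1]; group

end MCfg

namespace MCfg

variable {M N K' U' L : Subgroup G} {x : G} {t : ℕ}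

/-- a `p'`-element of `C_{L_σ}(K')` outside `K'` -/
theorem exists_z (hG : Cfsg.IsMinSimpleOddOrder G) (m : MCfg M N K' U' L x t) :
    ∃ z : G, z ∈ Cfsg.sigmaCore L ∧ z ∈ Subgroup.centralizer (K' : Set G) ∧ z ∉ K' ∧
      IsPGroup (Nat.card ↥K') ↥(Subgroup.zpowers z) := by
  have hp := m.c.card_K_prime hG
  haveI : Fact (Nat.card ↥K').Prime := ⟨hp⟩
  obtain ⟨S', hS'⟩ := ((m.K_isPGroup hG).comap_subtype (K := Cfsg.sigmaCore L)).exists_le_sylow
  obtain ⟨SG, hSGdef⟩ : ∃ SG : Subgroup G,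
    SG = (S' : Subgroup ↥(Cfsg.sigmaCore L)).map (Cfsg.sigmaCore L).subtype := ⟨_, rfl⟩
  have hKσ := m.K_le_sigmaCore_L hG
  have hKS : K' ≤ SG := by
    intro a ha
    rw [hSGdef]
    exact ⟨⟨a, hKσ ha⟩, hS' (Subgroup.mem_subgroupOf.mpr ha), rfl⟩
  have hSGp : IsPGroup (Nat.card ↥K') ↥SG := by rw [hSGdef]; exact S'.isPGroup'.map _
  have hSGσ : SG ≤ Cfsg.sigmaCore L := by rw [hSGdef]; exact Subgroup.map_subtype_le _
  have hd : Nat.card ↥K' ∣ Nat.card ↥(Cfsg.sigmaCore L ⊓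
      Subgroup.centralizer ((Kst N K' : Subgroup G) : Set G) : Subgroup G) := by
    rw [m.Kst_L_eq hG]
  obtain ⟨-, -, hnle⟩ := (Cfsg.Agent.S1431.result hG L m.h.hL (Kst N K') m.h.hK1L
    (m.h.K1_ne_bot hG)).2.2.1 _ hp hd S'
  rw [m.Kst_L_eq hG, ← hSGdef] at hnle
  -- a nontrivial central element of `SG`
  haveI : Nontrivial ↥SG := by
    obtain ⟨k, hk, hk1⟩ := Cfsg.Agent.Lib.Helper4.BG14.exists_ne_one_of_ne_bot m.c.hK1
    exact ⟨⟨⟨k, hKS hk⟩, 1, fun h => hk1 (congrArg Subtype.val h)⟩⟩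
  haveI := hSGp.center_nontrivial
  obtain ⟨z₀, hz₀⟩ := exists_ne (1 : ↥(Subgroup.center ↥SG))
  have hwS : ((z₀ : ↥SG) : G) ∈ SG := (z₀ : ↥SG).2
  have hw1 : ((z₀ : ↥SG) : G) ≠ 1 := by
    intro h
    apply hz₀
    apply Subtype.ext
    apply Subtype.ext
    exact h
  have hwc : ∀ a ∈ SG, a * ((z₀ : ↥SG) : G) = ((z₀ : ↥SG) : G) * a := by
    intro a ha
    have := Subgroup.mem_center_iff.mp z₀.2 ⟨a, ha⟩
    exact congrArg Subtype.val this
  have hzp : ∀ z ∈ SG, IsPGroup (Nat.card ↥K') ↥(Subgroup.zpowers z) := fun z hz =>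
    hSGp.to_le (Subgroup.zpowers_le.mpr hz)
  by_cases hwK : ((z₀ : ↥SG) : G) ∈ K'
  · -- `K' = ⟨w⟩` is central in `SG`
    have hzw : Subgroup.zpowers ((z₀ : ↥SG) : G) = K' := by
      apply Subgroup.eq_of_le_of_card_ge (Subgroup.zpowers_le.mpr hwK)
      rw [Nat.card_zpowers]
      have hd : orderOf ((z₀ : ↥SG) : G) ∣ Nat.card ↥K' := by
        have := orderOf_dvd_natCard (⟨_, hwK⟩ : ↥K')
        rwa [Subgroup.orderOf_mk] at this
      rcases (Nat.dvd_prime hp).mp hd with h | h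
      · exact absurd (orderOf_eq_one_iff.mp h) hw1
      · rw [h]
    obtain ⟨z, hzS, hzK⟩ := SetLike.not_le_iff_exists.mp hnle
    refine ⟨z, hSGσ hzS, ?_, hzK, hzp z hzS⟩
    rw [← hzw, centralizer_zpowers_eq, Subgroup.mem_centralizer_singleton_iff]
    exact hwc z hzS
  · refine ⟨_, hSGσ hwS, ?_, hwK, hzp _ hwS⟩
    rw [Subgroup.mem_centralizer_iff]
    intro a ha
    exact hwc a (hKS ha)

/-- **Lemma P**: `O_{p'}(C_{L_σ}(K'))` is not cyclic -/
theorem not_isCyclic_Oq (hG : Cfsg.IsMinSimpleOddOrder G) (m : MCfg M N K' U' L x t) :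
    ¬ IsCyclic ↥(Cfsg.Agent.H2.BGU.Oq (Nat.card ↥K')
      (Cfsg.sigmaCore L ⊓ Subgroup.centralizer (K' : Set G))) := by
  intro hcyc
  have hp := m.c.card_K_prime hG
  haveI : Fact (Nat.card ↥K').Prime := ⟨hp⟩
  have hnil := m.nilpotent_L1 hG
  obtain ⟨P, hPdef⟩ : ∃ P : Subgroup G, P = Cfsg.Agent.H2.BGU.Oq (Nat.card ↥K')
    (Cfsg.sigmaCore L ⊓ Subgroup.centralizer (K' : Set G)) := ⟨_, rfl⟩
  rw [← hPdef] at hcyc
  have hPp : IsPGroup (Nat.card ↥K') ↥P := hPdef ▸ Cfsg.Agent.H2.BGU.isPGroup_Oq hp _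
  have hPL1 : P ≤ Cfsg.sigmaCore L ⊓ Subgroup.centralizer (K' : Set G) :=
    hPdef ▸ Cfsg.Agent.H2.BGU.Oq_le _ _
  obtain ⟨z, hzσ, hzC, hzK, hzp⟩ := m.exists_z hG
  have hzP : z ∈ P := by
    rw [hPdef]
    exact Cfsg.Agent.H2.BGU.le_Oq_of_isPGroup hnil
      (Subgroup.zpowers_le.mpr (Subgroup.mem_inf.mpr ⟨hzσ, hzC⟩)) hzp (Subgroup.mem_zpowers z)
  have hKC : K' ≤ Subgroup.centralizer (K' : Set G) := by
    intro a ha
    rw [Subgroup.mem_centralizer_iff]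
    intro b hb
    exact m.K_comm hG hb ha
  have hKP : K' ≤ P := by
    rw [hPdef]
    exact Cfsg.Agent.H2.BGU.le_Oq_of_isPGroup hnil (le_inf (m.K_le_sigmaCore_L hG) hKC)
      (m.K_isPGroup hG)
  obtain ⟨y, r, hr, hyo, hyK, hrκ, hCy⟩ := m.exists_y hG
  have hyL : y ∈ L := m.h.hK1L.1 hyK
  have hyC : y ∈ Subgroup.centralizer (K' : Set G) := (Subgroup.mem_inf.mp hyK).2
  have hyn : Subgroup.zpowers y ≤ Subgroup.normalizer ((P : Subgroup G) : Set G) := by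
    rw [hPdef]
    refine le_trans ?_ (Cfsg.Agent.H2.BGU.normalizer_le_normalizer_Oq _ _)
    apply Cfsg.Agent.Lib.Helper8.BGTen.le_normalizer_inf
    · exact (Subgroup.zpowers_le.mpr hyL).trans (le_normalizer_sigmaCore L)
    · exact Subgroup.zpowers_le.mpr (Subgroup.le_normalizer hyC)
  have hrp : r ≠ Nat.card ↥K' := by
    intro h
    exact hrκ.2.2.1 (h ▸ m.card_K_mem_sigma_L hG)
  have hcop : (Nat.card ↥(Subgroup.zpowers y)).Coprime (Nat.card ↥P) := by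
    rw [Nat.card_zpowers, hyo]
    obtain ⟨n, hn⟩ := hPp.exists_card_eq
    rw [hn]
    exact Nat.Coprime.pow_right n ((Nat.coprime_primes hr hp).mpr hrp)
  haveI := hcyc
  have hPab : IsMulCommutative ↥P := ⟨⟨fun a b => by
    obtain ⟨g, hg⟩ := IsCyclic.exists_generator (α := ↥P)
    obtain ⟨i, rfl⟩ := Subgroup.mem_zpowers_iff.mp (hg a)
    obtain ⟨j, rfl⟩ := Subgroup.mem_zpowers_iff.mp (hg b)
    rw [← zpow_add, ← zpow_add, add_comm]⟩⟩
  have hbot := Cfsg.Agent.H1.commutator_inf_centralizer_eq_bot_of_abelian P (Subgroup.zpowers y)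
    hPab hyn hcop
  have hcommP : ⁅P, Subgroup.zpowers y⁆ ≤ P := by
    rw [Subgroup.commutator_le]
    intro a ha b hb
    rw [commutatorElement_def]
    have h1 : b * a⁻¹ * b⁻¹ ∈ P :=
      (Subgroup.mem_normalizer_iff.mp (hyn hb) a⁻¹).mp (P.inv_mem ha)
    have e : a * b * a⁻¹ * b⁻¹ = a * (b * a⁻¹ * b⁻¹) := by group
    rw [e]; exact P.mul_mem ha h1
  have hKY : K' ≤ Subgroup.centralizer ((Subgroup.zpowers y : Subgroup G) : Set G) := by
    rw [centralizer_zpowers_eq]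
    intro a ha
    rw [Subgroup.mem_centralizer_singleton_iff]
    exact Subgroup.mem_centralizer_iff.mp hyC a ha
  have hcomm0 : ⁅P, Subgroup.zpowers y⁆ = ⊥ := by
    by_contra hne
    have h1 := inf_ne_bot_of_cyclic_pgroup hcyc hPp hcommP hKP hne m.c.hK1
    apply h1
    rw [eq_bot_iff, ← hbot]
    exact inf_le_inf_left _ hKY
  have hPK : P ≤ K' := by
    intro a ha
    rw [← hCy]
    refine Subgroup.mem_inf.mpr ⟨(Subgroup.mem_inf.mp (hPL1 ha)).1, ?_⟩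
    rw [Subgroup.mem_centralizer_singleton_iff]
    have h2 : ⁅a, y⁆ ∈ ⁅P, Subgroup.zpowers y⁆ :=
      Subgroup.commutator_mem_commutator ha (Subgroup.mem_zpowers y)
    rw [hcomm0, Subgroup.mem_bot, commutatorElement_def] at h2
    have e : a * y = a * y * a⁻¹ * y⁻¹ * (y * a) := by group
    rw [e, h2, one_mul]
  exact hzK (hPK hzP)

end MCfg

namespace MCfg

variable {M N K' U' L : Subgroup G} {x : G} {t : ℕ}

/-- elements of prime order of `E_M = M ∩ L` act fixed-point-freely on `M_σ` -/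
theorem E_fpf_prime (hG : Cfsg.IsMinSimpleOddOrder G) (m : MCfg M N K' U' L x t) {e : G} {s : ℕ}
    (he : e ∈ M ⊓ L) (hs : s.Prime) (hes : orderOf e = s) :
    Cfsg.sigmaCore M ⊓ Subgroup.centralizer ({e} : Set G) = ⊥ := by
  by_contra hfix
  haveI : Fact s.Prime := ⟨hs⟩
  have hp := m.c.card_K_prime hG
  haveI : Fact (Nat.card ↥K').Prime := ⟨hp⟩
  have he1 : e ≠ 1 := by
    intro h
    rw [h, orderOf_one] at hes
    exact hs.one_lt.ne hes
  obtain ⟨heM, heL⟩ := Subgroup.mem_inf.mp he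
  have hXc : Nat.card ↥(Subgroup.zpowers e) = s := by rw [Nat.card_zpowers, hes]
  have hXp : IsPGroup s ↥(Subgroup.zpowers e) := IsPGroup.of_card (n := 1) (by rw [hXc, pow_one])
  have hsE : s ∣ Nat.card ↥(M ⊓ L : Subgroup G) := by
    have := orderOf_dvd_natCard (⟨e, he⟩ : ↥(M ⊓ L : Subgroup G))
    rwa [Subgroup.orderOf_mk, hes] at this
  have hsσ : s ∉ Cfsg.sigma M :=
    Cfsg.Agent.H2.BG12.not_mem_sigma_of_dvd_compl hG m.c.hM m.hcompl hs hsE
  have hsM : s ∣ Nat.card ↥M := hsE.trans (Subgroup.card_dvd_of_le inf_le_left)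
  have hfixX : Cfsg.sigmaCore M ⊓
      Subgroup.centralizer ((Subgroup.zpowers e : Subgroup G) : Set G) ≠ ⊥ := by
    rw [centralizer_zpowers_eq]; exact hfix
  have hXM : Subgroup.zpowers e ≤ M := Subgroup.zpowers_le.mpr heM
  have hτ : s ∈ Cfsg.tau2 M := by
    rcases Cfsg.Agent.H2.BG13.tau_cases hG m.c.hM hs hsM hsσ with h | h | h
    · exfalso
      have := Cfsg.Agent.Lib.Helper4.BG14.mem_kappa_of_fixed hG hsσ h.2.2.2.2 hXM hXc hfixX
      rw [m.hκ] at this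
      exact this
    · exact h
    · exfalso
      have := Cfsg.Agent.Lib.Helper4.BG14.mem_kappa_of_fixed hG hsσ h.2.2.2 hXM hXc hfixX
      rw [m.hκ] at this
      exact this
  obtain ⟨yy, hyy⟩ := (Subgroup.ne_bot_iff_exists_ne_one).mp hfix
  obtain ⟨hyσ, hyC⟩ := Subgroup.mem_inf.mp yy.2
  have hhat : e ∈ Cfsg.sigmaHat M := by
    refine ⟨heM, (yy : G), hyσ, fun h => hyy (Subtype.ext h), ?_⟩
    exact (Subgroup.mem_centralizer_singleton_iff.mp hyC).symm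
  obtain ⟨hCM, huniq⟩ := (Cfsg.Agent.S1420.result hG M m.c.hM (M ⊓ L) m.hcompl).2.2.2 e heM he1
    (fun p hp' hpd => by
      rw [hes] at hpd
      rw [(Nat.prime_dvd_prime_iff_eq hp' hs).mp hpd]; exact hτ) hhat
  have hsp : s ≠ Nat.card ↥K' := fun h => m.card_K_not_tau2 hG (h ▸ hτ)
  have hXL : Subgroup.zpowers e ≤ L := Subgroup.zpowers_le.mpr heL
  by_cases hsL : s ∈ Cfsg.sigma L
  · have heσ : Subgroup.zpowers e ≤ Cfsg.sigmaCore L :=
      Cfsg.Agent.H2.BG11.le_sigmaCore_of_pgroup hG m.h.hL hsL hXL hXp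
    have heC : Subgroup.zpowers e ≤ Subgroup.centralizer (K' : Set G) := by
      rw [Subgroup.zpowers_le, Subgroup.mem_centralizer_iff]
      intro a ha
      exact m.E_comm hG a (m.K_le_E hG ha) e he
    have hnil := m.nilpotent_L1 hG
    have h1 : Subgroup.zpowers e ≤ Cfsg.Agent.H2.BGU.Oq s
        (Cfsg.sigmaCore L ⊓ Subgroup.centralizer (K' : Set G)) :=
      Cfsg.Agent.H2.BGU.le_Oq_of_isPGroup hnil (le_inf heσ heC) hXp
    have h2 := Cfsg.Agent.H2.BGU.Oq_commute hp hs (Ne.symm hsp)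
      (Cfsg.sigmaCore L ⊓ Subgroup.centralizer (K' : Set G))
    have h3 : Cfsg.Agent.H2.BGU.Oq (Nat.card ↥K')
        (Cfsg.sigmaCore L ⊓ Subgroup.centralizer (K' : Set G)) ≤ M := by
      intro a ha
      apply hCM
      rw [Subgroup.mem_centralizer_singleton_iff]
      exact (Subgroup.mem_centralizer_iff.mp (h2 ha) e (h1 (Subgroup.mem_zpowers e))).symm
    have hcyc := Cfsg.Agent.Lib.Helper4.BGTw.isCyclic_of_pRankLE_one hG (m.K_rank_one hG) h3
      (Cfsg.Agent.H2.BGU.isPGroup_Oq hp _)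
    exact m.not_isCyclic_Oq hG hcyc
  · obtain ⟨k, hk, hk1, hko, hkz⟩ := m.exists_gen hG
    have hkσ : k ∈ Cfsg.sigmaCore L := m.K_le_sigmaCore_L hG hk
    have hek : e ∈ L ⊓ Subgroup.centralizer ({k} : Set G) := by
      refine Subgroup.mem_inf.mpr ⟨heL, ?_⟩
      rw [Subgroup.mem_centralizer_singleton_iff]
      exact m.E_comm hG e he k (m.K_le_E hG hk)
    rcases Cfsg.Agent.S1432.result hG L m.h.hL k hkσ hk1 e hek he1 (fun p hp' hpd => by
      rw [hes] at hpd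
      rw [(Nat.prime_dvd_prime_iff_eq hp' hs).mp hpd]; exact hsL) with ⟨hκ, -⟩ | ⟨-, -, hCL, huL⟩
    · have hsκ : s ∈ Cfsg.kappa L := hκ s hs (hes ▸ dvd_rfl)
      have hsolv : Group.IsSolvable ↥L := solvable_of_ne_top hG m.h.hL.1
      obtain ⟨l, hl, hle⟩ := Cfsg.Agent.H1.isPiHallOf_dominance (Cfsg.kappa L) (Kst N K') L
        (Subgroup.zpowers e) hsolv m.h.hK1L hXL (fun p hp' hpd => by
          rw [hXc] at hpd
          rw [(Nat.prime_dvd_prime_iff_eq hp' hs).mp hpd]; exact hsκ)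
      have hY : cj l⁻¹ (Subgroup.zpowers e) ≤ Kst N K' :=
        cj_le_iff.mpr (by rw [inv_inv]; exact hle)
      have hYp : (Nat.card ↥(cj l⁻¹ (Subgroup.zpowers e))).Prime := by
        rw [card_cj, hXc]; exact hs
      obtain ⟨-, -, hu⟩ := uniq_of_le_Kst hG m.c.hN m.c.hK m.c.hK1 hY hYp
      have h1 : cj l⁻¹ M = N := by
        apply hu (cj l⁻¹ M) (isCoatom_cj m.c.hM l⁻¹)
        rw [← cj_centralizer]
        apply cj_mono
        rw [centralizer_zpowers_eq]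
        exact hCM
      apply m.c.hnc l
      rw [← h1, cj_cj_inv]
    · exact m.M_ne_L hG (huL M m.c.hM hCM)

/-- `E_M = M ∩ L` acts fixed-point-freely on `M_σ` -/
theorem E_fpf (hG : Cfsg.IsMinSimpleOddOrder G) (m : MCfg M N K' U' L x t) {e : G}
    (he : e ∈ M ⊓ L) (he1 : e ≠ 1) :
    Cfsg.sigmaCore M ⊓ Subgroup.centralizer ({e} : Set G) = ⊥ := by
  have ho : orderOf e ≠ 1 := fun h => he1 (orderOf_eq_one_iff.mp h)
  obtain ⟨s, hs, hsd⟩ := Nat.exists_prime_and_dvd ho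
  have h1 : orderOf (e ^ (orderOf e / s)) = s :=
    orderOf_pow_orderOf_div (orderOf_pos e).ne' hsd
  have h2 := m.E_fpf_prime hG (Subgroup.pow_mem _ he (orderOf e / s)) hs h1
  rw [eq_bot_iff, ← h2]
  apply inf_le_inf_left
  intro a ha
  rw [Subgroup.mem_centralizer_singleton_iff] at ha ⊢
  exact ((Commute.pow_right (show Commute a e from ha) _)).eq

end MCfg

namespace MCfg

variable {M N K' U' L : Subgroup G} {x : G} {t : ℕ}

/-- every prime divisor of `|E_M|` has rank one in `M` -/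
theorem E_rank_one (hG : Cfsg.IsMinSimpleOddOrder G) (m : MCfg M N K' U' L x t) {p : ℕ}
    (hp : p.Prime) (hpd : p ∣ Nat.card ↥(M ⊓ L : Subgroup G)) : Cfsg.PRankLE p 1 ↥M := by
  haveI : Fact p.Prime := ⟨hp⟩
  have hpσ : p ∉ Cfsg.sigma M :=
    Cfsg.Agent.H2.BG12.not_mem_sigma_of_dvd_compl hG m.c.hM m.hcompl hp hpd
  have hpM : p ∣ Nat.card ↥M := hpd.trans (Subgroup.card_dvd_of_le inf_le_left)
  rcases Cfsg.Agent.H2.BG13.tau_cases hG m.c.hM hp hpM hpσ with h | h | h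
  · exact h.2.2.2.2
  · exfalso
    obtain ⟨B, hBE, hBe, hBc⟩ := Cfsg.Agent.Lib.BG127H7.exists_elem_le_compl m.hcompl h
    have hpσ' : ¬ p ∣ Nat.card ↥(Cfsg.sigmaCore M) := fun hd =>
      hpσ (mem_sigma_of_dvd_sigmaCore hG m.c.hM hp hd)
    obtain ⟨b, hbB, hb1, hfix⟩ := exists_fixed_of_rank_two hBe (le_of_eq hBc.symm)
      ((hBE.trans inf_le_left).trans (le_normalizer_sigmaCore M)) hpσ' m.sigmaCore_ne_bot
    exact hfix (m.E_fpf hG (hBE hbB) hb1)
  · exact h.2.2.2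

/-- `E_M = M ∩ L` is cyclic -/
theorem E_cyclic (hG : Cfsg.IsMinSimpleOddOrder G) (m : MCfg M N K' U' L x t) :
    IsCyclic ↥(M ⊓ L : Subgroup G) := by
  haveI hcomm : IsMulCommutative ↥(M ⊓ L : Subgroup G) :=
    ⟨⟨fun a b => Subtype.ext (m.E_comm hG a.1 a.2 b.1 b.2)⟩⟩
  haveI hnil : Group.IsNilpotent ↥(M ⊓ L : Subgroup G) :=
    ⟨⟨1, Subgroup.upperCentralSeries_one_eq_top_iff.mpr hcomm⟩⟩
  haveI hZ : IsZGroup ↥(M ⊓ L : Subgroup G) := by
    refine ⟨fun p hp P => ?_⟩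
    haveI : Fact p.Prime := ⟨hp⟩
    by_cases hpd : p ∣ Nat.card ↥(M ⊓ L : Subgroup G)
    · have hr := m.E_rank_one hG hp hpd
      have hc : IsCyclic ↥((P : Subgroup ↥(M ⊓ L : Subgroup G)).map (M ⊓ L).subtype) :=
        Cfsg.Agent.Lib.Helper4.BGTw.isCyclic_of_pRankLE_one hG hr
          ((Subgroup.map_subtype_le _).trans inf_le_left) (P.isPGroup'.map _)
      exact ((P : Subgroup ↥(M ⊓ L : Subgroup G)).equivMapOfInjective (M ⊓ L).subtype
        (M ⊓ L).subtype_injective).isCyclic.mpr hc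
    · have h1 : Nat.card ↥(P : Subgroup ↥(M ⊓ L : Subgroup G)) = 1 := by
        rw [Sylow.card_eq_multiplicity, Nat.factorization_eq_zero_of_not_dvd hpd, pow_zero]
      haveI : Subsingleton ↥(P : Subgroup ↥(M ⊓ L : Subgroup G)) :=
        (Nat.card_eq_one_iff_unique.mp h1).1
      exact isCyclic_of_subsingleton
  infer_instance

/-- clause 2 of S1376: `E_M`, as a subgroup of `M`, is a cyclic Frobenius complement -/
theorem frobenius (hG : Cfsg.IsMinSimpleOddOrder G) (m : MCfg M N K' U' L x t) :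
    ∃ E : Subgroup ↥M, Cfsg.IsFrobeniusComplement E ∧ IsCyclic ↥E := by
  refine ⟨(M ⊓ L).subgroupOf M, ⟨?_, ?_, ?_⟩, ?_⟩
  · intro h0
    obtain ⟨k, hk, hk1⟩ := Cfsg.Agent.Lib.Helper4.BG14.exists_ne_one_of_ne_bot m.c.hK1
    have hkE := m.K_le_E hG hk
    have h1 : (⟨k, hkE.1⟩ : ↥M) ∈ (M ⊓ L).subgroupOf M := Subgroup.mem_subgroupOf.mpr hkE
    rw [h0, Subgroup.mem_bot] at h1
    exact hk1 (congrArg Subtype.val h1)
  · intro h0
    apply m.sigmaCore_ne_bot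
    rw [eq_bot_iff, ← m.hcompl.2.2.1]
    intro y hy
    have hyM : y ∈ M := sigmaCore_le M hy
    have h1 : (⟨y, hyM⟩ : ↥M) ∈ (M ⊓ L).subgroupOf M := by rw [h0]; exact Subgroup.mem_top _
    exact Subgroup.mem_inf.mpr ⟨Subgroup.mem_subgroupOf.mp h1, hy⟩
  · intro g hg
    rw [eq_bot_iff]
    intro a ha
    obtain ⟨ha1, ha2⟩ := Subgroup.mem_inf.mp ha
    rw [Subgroup.mem_pointwise_smul_iff_inv_smul_mem] at ha2
    have haE : (a : G) ∈ M ⊓ L := Subgroup.mem_subgroupOf.mp ha1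
    have hbE : (g : G)⁻¹ * (a : G) * (g : G) ∈ M ⊓ L := by
      have := Subgroup.mem_subgroupOf.mp ha2
      simpa [MulAut.smul_def, MulAut.conj_apply] using this
    have hgE : (g : G) ∉ M ⊓ L := fun h => hg (Subgroup.mem_subgroupOf.mpr h)
    obtain ⟨e₀, he₀, n, hn, hgn⟩ := m.hcompl.2.2.2 (g : G) g.2
    have hn1 : n ≠ 1 := by
      intro h
      rw [h, mul_one] at hgn
      exact hgE (hgn ▸ he₀)
    rw [Subgroup.mem_bot]
    by_contra ha1'
    have ha1G : (a : G) ≠ 1 := fun h => ha1' (Subtype.ext h)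
    -- `n⁻¹ a n ∈ E`
    have h1 : n⁻¹ * (a : G) * n ∈ M ⊓ L := by
      have e1 : (g : G)⁻¹ * (a : G) * (g : G) = n⁻¹ * (e₀⁻¹ * (a : G) * e₀) * n := by
        rw [hgn]; group
      have e2 : e₀⁻¹ * (a : G) * e₀ = (a : G) := by
        have := m.E_comm hG (a : G) haE e₀ he₀
        rw [mul_assoc, this]; group
      rw [e1, e2] at hbE
      exact hbE
    have haM : (a : G) ∈ M := haE.1
    have h2 : (a : G)⁻¹ * (n⁻¹ * (a : G) * n) ∈ (M ⊓ L) ⊓ Cfsg.sigmaCore M := by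
      refine Subgroup.mem_inf.mpr ⟨Subgroup.mul_mem _ (Subgroup.inv_mem _ haE) h1, ?_⟩
      have h3 : (a : G)⁻¹ * n⁻¹ * ((a : G)⁻¹)⁻¹ ∈ Cfsg.sigmaCore M :=
        (Subgroup.mem_normalizer_iff.mp (le_normalizer_sigmaCore M (M.inv_mem haM)) n⁻¹).mp
          (Subgroup.inv_mem _ hn)
      have e3 : (a : G)⁻¹ * (n⁻¹ * (a : G) * n) = (a : G)⁻¹ * n⁻¹ * ((a : G)⁻¹)⁻¹ * n := by group
      rw [e3]
      exact Subgroup.mul_mem _ h3 hn
    rw [m.hcompl.2.2.1, Subgroup.mem_bot] at h2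
    have h4 : n * (a : G) = (a : G) * n := by
      have e4 : n * (a : G) = n * (a : G) * ((a : G)⁻¹ * (n⁻¹ * (a : G) * n)) := by
        rw [h2, mul_one]
      rw [e4]; group
    have h5 : n ∈ Cfsg.sigmaCore M ⊓ Subgroup.centralizer ({(a : G)} : Set G) :=
      Subgroup.mem_inf.mpr ⟨hn, Subgroup.mem_centralizer_singleton_iff.mpr h4⟩
    rw [m.E_fpf hG haE ha1G, Subgroup.mem_bot] at h5
    exact hn1 h5
  · haveI := m.E_cyclic hG
    exact (Subgroup.subgroupOfEquivOfLe (inf_le_left : M ⊓ L ≤ M)).isCyclic.mpr inferInstance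

end MCfg

/-- **S1376** from S1435 -/
theorem s1376_of (hG : Cfsg.IsMinSimpleOddOrder G) (h35 : Hyp1435 G)
    (M : Subgroup G) (hM : IsCoatom M) (x : G) (hx : x ∈ Cfsg.sigmaCore M) (hx1 : x ≠ 1)
    (hxM : ¬ Subgroup.centralizer ({x} : Set G) ≤ M)
    (N : Subgroup G) (hN : IsCoatom N) (hxN : Subgroup.centralizer ({x} : Set G) ≤ N)
    (hkN : (Cfsg.kappa N).Nonempty) :
    Cfsg.kappa M = ∅ ∧ (∃ E : Subgroup ↥M, Cfsg.IsFrobeniusComplement E ∧ IsCyclic E) ∧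
      ¬ Cfsg.IsTISubset (Cfsg.fittingHallOf M : Set G) := by
  have ho : orderOf x ≠ 1 := fun h => hx1 (orderOf_eq_one_iff.mp h)
  obtain ⟨t, ht, htd⟩ := Nat.exists_prime_and_dvd ho
  obtain ⟨z, hzdef⟩ : ∃ z : G, z = x ^ (orderOf x / t) := ⟨_, rfl⟩
  have hzo : orderOf z = t := hzdef ▸ orderOf_pow_orderOf_div (orderOf_pos x).ne' htd
  have hz : z ∈ Cfsg.sigmaCore M := hzdef ▸ Subgroup.pow_mem _ hx _
  have hz1 : z ≠ 1 := by
    intro h
    rw [h, orderOf_one] at hzo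
    exact ht.one_lt.ne hzo
  have hCxz : Subgroup.centralizer ({x} : Set G) ≤ Subgroup.centralizer ({z} : Set G) := by
    intro a ha
    rw [Subgroup.mem_centralizer_singleton_iff] at ha ⊢
    rw [hzdef]
    exact ((Commute.pow_right (show Commute a x from ha) _)).eq
  have hzM : ¬ Subgroup.centralizer ({z} : Set G) ≤ M := fun h => hxM (hCxz.trans h)
  obtain ⟨N₁, ⟨hN₁, hCN₁⟩, -⟩ := s1375 hG M hM z hz hz1 hzM
  obtain ⟨N₀, -, huniq₀, -⟩ := s1375 hG M hM x hx hx1 hxM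
  have e1 : N = N₀ := huniq₀ N hN hxN
  have e2 : N₁ = N₀ := huniq₀ N₁ hN₁ (hCxz.trans hCN₁)
  have hzN : Subgroup.centralizer ({z} : Set G) ≤ N := by rw [e1, ← e2]; exact hCN₁
  obtain ⟨K', U', c⟩ := exists_ncfg hG hM hz hzo ht hzM hN hzN hkN
  obtain ⟨L, m⟩ := exists_mcfg hG h35 c
  exact ⟨m.hκ, m.frobenius hG, m.not_TI hG⟩

end Cfsg.Agent.Lib.helper3.BG14
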