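import Mathlib
import Cfsg.Agent.Lib.helper3.BG14G
import Cfsg.Agent.Lib.helper3.BG14D
import Cfsg.Agent.Lib.Helper4.Rank2Aut2
import Cfsg.Agent.Lib.Helper4.NarrowData
import Cfsg.Agent.Lib.Helper4.BG13A
import Cfsg.Agent.Lib.Helper7.BG14PG
import Cfsg.Agent.H2.BG14.I
import Cfsg.Agent.S1351
import Cfsg.Agent.S1352
import Cfsg.Agent.Lib.Helper4.Nilpotent

/-!
# B&G Section 14, part I (helper3): Lemma 14.13 (a) = S1436 (a)

* `aut_eq_one_of_narrow` : an automorphism of prime order `r > q` of a narrow `q`-group is trivial.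
* `PCfg.mem_beta` : B&G 12.14 (g) / 14.4 (d): in the configuration `(M, x, N)` every prime of
  `σ(N)` dividing `|M|` lies in `β(N)`.
* `s1436_a_of` : S1436 (a).
-/

set_option autoImplicit false
set_option linter.unusedSectionVars false
set_option linter.unusedVariables false
set_option linter.style.haveILetI false
set_option maxHeartbeats 1000000
open Cfsg
open scoped commutatorElement Pointwise

namespace Cfsg.Agent.Lib.helper3.BG14

open Cfsg.Agent.Lib.Helper7 (IsSylowIn exists_isSylowIn_ge card_subgroupOf_of_le)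
open Cfsg.Agent.Lib.Helper8.BGTen Cfsg.Agent.Lib.Helper4.BGTrans
open Cfsg.Agent.Lib.helper3.BG11 Cfsg.Agent.Lib.helper3.BG12 Cfsg.Agent.Lib.helper3.BG13

universe u

/-- an automorphism of prime order `r > q` of a narrow `q`-group (`q` odd) is trivial -/
theorem aut_eq_one_of_narrow {q : ℕ} [hq : Fact q.Prime] (hq2 : q ≠ 2) {Q : Type u} [Group Q]
    [Finite Q] (hQ : IsPGroup q Q) (hn : Cfsg.IsNarrow q Q) (σ : MulAut Q) {r : ℕ} (hr : r.Prime)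
    (hqr : q < r) (hσ : σ ^ r = 1) : σ = 1 := by
  by_cases hr2 : Cfsg.PRankLE q 2 Q
  · exact Cfsg.Agent.Lib.Helper4.Rank2Aut2.eq_one_of_prime_gt hq2 hQ hr2 σ hr hqr hσ
  rcases hn with h | ⟨R₀, R₁, h0, h1, -, hcomm, hC⟩
  · exact absurd h hr2
  have hE₀ : Cfsg.IsElementaryAbelian q R₀ := by
    haveI : IsCyclic ↥R₀ := isCyclic_of_prime_card h0
    refine ⟨IsCyclic.isMulCommutative, fun a ha => ?_⟩
    have := pow_card_eq_one' (G := ↥R₀) (x := ⟨a, ha⟩)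
    rw [h0] at this
    have h9 := congrArg Subtype.val this
    simpa using h9
  have hc : Cfsg.PRankLE q 2 ↥(Subgroup.centralizer (R₀ : Set Q)) := by
    rw [← hC]
    exact Cfsg.Agent.Lib.Helper4.NarrowSolv.pRankLE_of_mul R₀ R₁ h0 h1 hcomm
  obtain ⟨h5, -⟩ := Cfsg.Agent.Lib.Helper4.NarrowData.narrow_aut hq2 hQ hr2 R₀ hE₀ hc
  have hcop : r.Coprime q := (Nat.coprime_primes hr hq.out).mpr (by omega)
  have h6 : σ ^ (q - 1) = 1 := h5 σ r hσ hcop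
  have hq1 : 1 < q := hq.out.one_lt
  have hg : Nat.gcd (q - 1) r = 1 := by
    rw [Nat.gcd_comm]
    apply (Nat.Prime.coprime_iff_not_dvd hr).mpr
    intro hd
    have := Nat.le_of_dvd (by omega) hd
    omega
  have h7 : σ ^ Nat.gcd (q - 1) r = 1 := pow_gcd_eq_one.mpr ⟨h6, hσ⟩
  rwa [hg, pow_one] at h7

variable {G : Type u} [Group G] [Finite G]

/-- an element `a` with `a ^ r = 1`, `r > q` prime, normalizing a narrow `q`-subgroup `Q` of `G`
centralizes `Q` -/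
theorem mem_centralizer_of_narrow {q : ℕ} [hq : Fact q.Prime] (hq2 : q ≠ 2) {Q : Subgroup G}
    (hQ : IsPGroup q ↥Q) (hn : Cfsg.IsNarrow q ↥Q) {a : G}
    (ha : a ∈ Subgroup.normalizer (Q : Set G)) {r : ℕ} (hr : r.Prime) (hqr : q < r)
    (har : a ^ r = 1) : a ∈ Subgroup.centralizer (Q : Set G) := by
  set c := Cfsg.Agent.Lib.Helper4.Rank2Aut.conjHom Q (Subgroup.normalizer (Q : Set G)) le_rfl with hc
  have h1 : (c ⟨a, ha⟩) ^ r = 1 := by
    rw [← map_pow]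
    have : (⟨a, ha⟩ : ↥(Subgroup.normalizer (Q : Set G))) ^ r = 1 := by
      apply Subtype.ext
      rw [Subgroup.coe_pow, Subgroup.coe_one]
      exact har
    rw [this, map_one]
  have h4 : c ⟨a, ha⟩ = 1 := aut_eq_one_of_narrow hq2 hQ hn _ hr hqr h1
  rw [Subgroup.mem_centralizer_iff]
  intro x hx
  have h5 := congrArg (fun σ : MulAut ↥Q => ((σ ⟨x, hx⟩ : ↥Q) : G)) h4
  simp only [MulAut.one_apply] at h5
  have h6 : a * x * a⁻¹ = x := h5
  rw [mul_inv_eq_iff_eq_mul] at h6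
  exact h6.symm

/-- a Sylow `q`-subgroup of `M` (as a subgroup of `G`), `q ∉ β(M)`, is narrow -/
theorem isNarrow_of_not_beta (hG : Cfsg.IsMinSimpleOddOrder G) {M : Subgroup G} (hM : IsCoatom M)
    {q : ℕ} [hq : Fact q.Prime] (hqβ : q ∉ Cfsg.beta M) {S : Subgroup G}
    (hS : IsSylowIn q S M) (hqM : q ∣ Nat.card ↥M) : Cfsg.IsNarrow q ↥S := by
  obtain ⟨R, hR⟩ := hS.exists_sylow
  have hnarR := Cfsg.Agent.Lib.Helper5.BGBeta.sylow_narrow hG (uT hG) hM hqM hqβ R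
  rw [hR] at hnarR
  exact Cfsg.Agent.Lib.Helper5.BGBeta.isNarrow_of_mulEquiv (Subgroup.subgroupOfEquivOfLe hS.1) hnarR

/-- the configuration `(M, x, N)`: `x ∈ M_σ` of prime order `t`, `C_G(x) ≤ N`, `C_G(x) ⊄ M`, with the
consequences of S1375 / B&G 12.14 -/
structure PCfg (M N : Subgroup G) (x : G) (t : ℕ) : Prop where
  hM : IsCoatom M
  hN : IsCoatom N
  hxσ : x ∈ Cfsg.sigmaCore M
  hxt : orderOf x = t
  ht : t.Prime
  hxM : ¬ Subgroup.centralizer ({x} : Set G) ≤ M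
  hxN : Subgroup.centralizer ({x} : Set G) ≤ N
  hNM : N ≠ M
  hnc : ∀ g : G, cj g N ≠ M
  htτ : t ∈ Cfsg.tau2 N
  hnil : Group.IsNilpotent ↥(Cfsg.sigmaCore N)
  hdisj : ∀ p : ℕ, p ∈ Cfsg.sigma M → p ∉ Cfsg.sigma N
  hbot : Cfsg.sigmaCore N ⊓ M = ⊥
  hcompl : Cfsg.IsComplIn (M ⊓ N) (Cfsg.sigmaCore N) N
  huniq : ∀ L : Subgroup G, IsCoatom L → Subgroup.centralizer ({x} : Set G) ≤ L → L = N

theorem exists_pcfg (hG : Cfsg.IsMinSimpleOddOrder G) {M N : Subgroup G} (hM : IsCoatom M)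
    {x : G} (hx : x ∈ Cfsg.sigmaCore M) {t : ℕ} (hxt : orderOf x = t) (ht : t.Prime)
    (hxM : ¬ Subgroup.centralizer ({x} : Set G) ≤ M) (hN : IsCoatom N)
    (hxN : Subgroup.centralizer ({x} : Set G) ≤ N) : PCfg M N x t := by
  haveI : Fact t.Prime := ⟨ht⟩
  have hx1 : x ≠ 1 := by
    intro h
    rw [h, orderOf_one] at hxt
    exact ht.one_lt.ne hxt
  obtain ⟨N', hN', hCN', hNM, hnc, htτ, hnil, hdis, hbot, hcompl⟩ :=
    exists_max_of_prime hG hM hx hxM (t := t) (hxt ▸ dvd_rfl)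
  obtain ⟨N₀, ⟨hN₀, hCN₀⟩, huniq, -⟩ := s1375 hG M hM x hx hx1 hxM
  have e1 : N = N₀ := huniq N hN hxN
  have e2 : N' = N₀ := huniq N' hN' hCN'
  have e3 : N' = N := e2.trans e1.symm
  rw [e3] at hNM hnc htτ hnil hdis hbot hcompl
  exact ⟨hM, hN, hx, hxt, ht, hxM, hxN, hNM, hnc, htτ, hnil, hdis, hbot, hcompl,
    fun L hL hCL => (huniq L hL hCL).trans e1.symm⟩

namespace PCfg

variable {M N : Subgroup G} {x : G} {t : ℕ}

theorem hx1 (c : PCfg M N x t) : x ≠ 1 := by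
  intro h
  have := c.hxt
  rw [h, orderOf_one] at this
  exact c.ht.one_lt.ne this

theorem t_mem_sigma (hG : Cfsg.IsMinSimpleOddOrder G) (c : PCfg M N x t) : t ∈ Cfsg.sigma M := by
  apply mem_sigma_of_dvd_sigmaCore hG c.hM c.ht
  have h1 : Subgroup.zpowers x ≤ Cfsg.sigmaCore M := by
    rw [Subgroup.zpowers_le]; exact c.hxσ
  have h2 := Subgroup.card_dvd_of_le h1
  rwa [Nat.card_zpowers, c.hxt] at h2

/-- the elementary abelian subgroup `A ≤ M ∩ N` of order `t²`, with `N_G(A) ≤ M` -/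
theorem exists_A (hG : Cfsg.IsMinSimpleOddOrder G) (c : PCfg M N x t) :
    ∃ A : Subgroup G, A ≤ M ⊓ N ∧ Cfsg.IsElementaryAbelian t A ∧ Nat.card ↥A = t ^ 2 ∧
      Subgroup.normalizer (A : Set G) ≤ M := by
  haveI : Fact t.Prime := ⟨c.ht⟩
  obtain ⟨A, hAE, hAe, hAc⟩ := Cfsg.Agent.Lib.BG127H7.exists_elem_le_compl c.hcompl c.htτ
  obtain ⟨E₀, hE₀⟩ := Cfsg.Agent.Lib.helper3.BG12.exists_compl hG c.hM
  have hN := (Cfsg.Agent.S1420.result hG M c.hM E₀ hE₀).2.2.1 t A (c.t_mem_sigma hG)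
    (Cfsg.Agent.Lib.Helper4.BGTrans.isPGroup_of_elementary hAe) (hAE.trans inf_le_left)
    (Cfsg.Agent.Lib.BG127H7.not_isCyclic_of_elem c.ht hAe hAc)
  exact ⟨A, hAE, hAe, hAc, hN⟩

/-- `t ∉ β(M)` (B&G 12.11(a)) -/
theorem t_not_beta (hG : Cfsg.IsMinSimpleOddOrder G) (c : PCfg M N x t) :
    t ∉ Cfsg.beta M := by
  haveI : Fact t.Prime := ⟨c.ht⟩
  obtain ⟨A, hAE, hAe, hAc, hNA⟩ := c.exists_A hG
  exact (Cfsg.Agent.H1.BG14.tau2_subset_sigma hG c.hN c.hcompl c.htτ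
    ⟨hAE, hAe, hAc⟩ c.hM hNA t c.htτ).2

/-- **B&G 12.14 (g) / 14.4 (d)**: every prime of `σ(N)` dividing `|M|` lies in `β(N)` -/
theorem mem_beta (hG : Cfsg.IsMinSimpleOddOrder G) (c : PCfg M N x t) {p : ℕ}
    (hpN : p ∈ Cfsg.sigma N) (hpM : p ∣ Nat.card ↥M) : p ∈ Cfsg.beta N := by
  by_contra hβ
  haveI : Fact t.Prime := ⟨c.ht⟩
  haveI : Fact p.Prime := ⟨hpN.1⟩
  obtain ⟨A, hAE, hAe, hAc, hNA⟩ := c.exists_A hG
  have htN : t ∉ Cfsg.sigma N := c.htτ.2.1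
  have hpt : p ≠ t := fun h => htN (h ▸ hpN)
  have hpσM : p ∉ Cfsg.sigma M := fun h => c.hdisj p h hpN
  have hAp : IsPGroup t ↥A := Cfsg.Agent.Lib.Helper4.BGTrans.isPGroup_of_elementary hAe
  have hAN : A ≤ N := hAE.trans inf_le_right
  have hAM : A ≤ M := hAE.trans inf_le_left
  -- an `A`-invariant Sylow `p`-subgroup `P` of `N`
  obtain ⟨P, hPσ, hPS, hAP⟩ := exists_invariant_sylow_sigmaCore hG c.hN hpN (S := A) hAN
    (fun s hs hsd => by
      have : s = t := by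
        rw [hAc] at hsd
        exact (Nat.prime_dvd_prime_iff_eq hs c.ht).mp (hs.dvd_of_dvd_pow hsd)
      rw [this]; exact htN)
  have hpNd : p ∣ Nat.card ↥N := hpN.2.1
  have hP1 : P ≠ ⊥ := Cfsg.Agent.Lib.Helper7.IsSylowIn.ne_bot hPS hpNd
  have hPn : Cfsg.IsNarrow p ↥P := isNarrow_of_not_beta hG c.hN hβ hPS hpNd
  have hp2 : p ≠ 2 := ne_two_of_dvd_card hG (hpNd.trans (Subgroup.card_subgroup_dvd_card N))
  have htM : t ∣ Nat.card ↥M := (c.t_mem_sigma hG).2.1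
  have ht2 : t ≠ 2 := ne_two_of_dvd_card hG (htM.trans (Subgroup.card_subgroup_dvd_card M))
  -- `t < p`
  have htp : t < p := by
    by_contra hle
    have hlt : p < t := lt_of_le_of_ne (not_lt.mp hle) hpt
    have hAcP : ∀ a ∈ A, a ∈ Subgroup.centralizer (P : Set G) := fun a ha =>
      mem_centralizer_of_narrow hp2 hPS.isPGroup hPn (hAP ha) c.ht hlt (hAe.2 a ha)
    have h17 := (Cfsg.Agent.S1417.result hG N c.hN t c.htτ A ⟨hAN, hAe, hAc⟩).2.2.2.1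
    apply hP1
    rw [eq_bot_iff, ← h17]
    intro z hz
    refine Subgroup.mem_inf.mpr ⟨hPσ hz, ?_⟩
    rw [Subgroup.mem_centralizer_iff]
    intro a ha
    exact (Subgroup.mem_centralizer_iff.mp (hAcP a ha) z hz).symm
  -- an element `y ∈ M` of order `p`
  obtain ⟨y, hy⟩ := exists_prime_orderOf_dvd_card' p hpM
  have hyo : orderOf (y : G) = p := by rw [Subgroup.orderOf_coe, hy]
  have hYM : Subgroup.zpowers (y : G) ≤ M := by
    rw [Subgroup.zpowers_le]; exact y.2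
  obtain ⟨T, hTσ, hTS, hYT⟩ := exists_invariant_sylow_sigmaCore hG c.hM (c.t_mem_sigma hG)
    (S := Subgroup.zpowers (y : G)) hYM
    (fun s hs hsd => by
      have : s = p := by
        rw [Nat.card_zpowers, hyo] at hsd
        exact (Nat.prime_dvd_prime_iff_eq hs hpN.1).mp hsd
      rw [this]; exact hpσM)
  have hTn : Cfsg.IsNarrow t ↥T := isNarrow_of_not_beta hG c.hM (c.t_not_beta hG) hTS htM
  have hyT : (y : G) ∈ Subgroup.centralizer (T : Set G) :=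
    mem_centralizer_of_narrow ht2 hTS.isPGroup hTn (hYT (Subgroup.mem_zpowers _)) hpN.1 htp
      (by rw [← hyo]; exact pow_orderOf_eq_one _)
  obtain ⟨m, hm, hmA⟩ := Cfsg.Agent.Lib.Helper7.IsSylowIn.exists_conj_le hTS hAp hAM
  -- `m⁻¹ y m ∈ C_G(A) ≤ M ∩ N`
  have h18 := (Cfsg.Agent.S1418.result hG N c.hN (M ⊓ N) c.hcompl t c.htτ A ⟨hAE, hAe, hAc⟩).2.1
  have hy' : m⁻¹ * (y : G) * m ∈ Subgroup.centralizer (A : Set G) := by
    rw [Subgroup.mem_centralizer_iff]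
    intro a ha
    have h1 := Subgroup.mem_centralizer_iff.mp hyT _ (hmA a ha)
    calc a * (m⁻¹ * (y : G) * m) = m⁻¹ * (m * a * m⁻¹ * (y : G)) * m := by group
      _ = m⁻¹ * ((y : G) * (m * a * m⁻¹)) * m := by rw [h1]
      _ = m⁻¹ * (y : G) * m * a := by group
  have hy'E : m⁻¹ * (y : G) * m ∈ M ⊓ N := by
    have := h18.1 hy'
    rw [h18.2.1] at this
    exact this
  have hy'o : orderOf (m⁻¹ * (y : G) * m) = p := by
    have : m⁻¹ * (y : G) * m = m⁻¹ * (y : G) * m⁻¹⁻¹ := by rw [inv_inv]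
    rw [this, Cfsg.Agent.H2.BG14.orderOf_conj_elt, hyo]
  have hpd : p ∣ Nat.card ↥(M ⊓ N : Subgroup G) := by
    rw [← hy'o]
    exact Subgroup.orderOf_dvd_natCard _ hy'E
  exact Cfsg.Agent.H2.BG12.not_mem_sigma_of_dvd_compl hG c.hN c.hcompl hpN.1 hpd hpN

end PCfg

/-- a prime `p ∈ κ(H)` lies in `σ(L)` for a maximal subgroup `L` with `κ(L) ≠ ∅` (the partner) -/
theorem exists_partner_of_mem_kappa (hG : Cfsg.IsMinSimpleOddOrder G) {H : Subgroup G}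
    (hH : IsCoatom H) {p : ℕ} (hp : p ∈ Cfsg.kappa H) :
    ∃ L : Subgroup G, IsCoatom L ∧ p ∈ Cfsg.sigma L ∧ (Cfsg.kappa L).Nonempty := by
  haveI : Fact p.Prime := ⟨hp.1⟩
  have hs : Group.IsSolvable ↥H := solvable_of_ne_top hG hH.1
  obtain ⟨K, hK⟩ := Cfsg.Agent.H1.exists_isPiHallOf (Cfsg.kappa H) H hs
  have hpK : p ∣ Nat.card ↥K := by
    have h1 := Cfsg.Agent.H1.card_eq_relIndex_mul_card hK.1
    have h2 : p ∣ K.relIndex H * Nat.card ↥K := h1 ▸ hp.2.1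
    rcases (Nat.Prime.dvd_mul hp.1).mp h2 with h | h
    · exact absurd h (hK.2.2 p hp.1 hp)
    · exact h
  have hK1 : K ≠ ⊥ := by
    intro h0
    rw [h0, Subgroup.card_bot] at hpK
    exact hp.1.one_lt.ne' (Nat.dvd_one.mp hpK)
  obtain ⟨y, hy⟩ := exists_prime_orderOf_dvd_card' p hpK
  have hyo : orderOf (y : G) = p := by rw [Subgroup.orderOf_coe, hy]
  obtain ⟨X, hXdef⟩ : ∃ X : Subgroup G, X = Subgroup.zpowers (y : G) := ⟨_, rfl⟩
  have hXK : X ≤ K := by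
    rw [hXdef, Subgroup.zpowers_le]; exact y.2
  have hXc : Nat.card ↥X = p := by rw [hXdef, Nat.card_zpowers, hyo]
  have hXp : (Nat.card ↥X).Prime := hXc ▸ hp.1
  have hX1 : X ≠ ⊥ := partner_ne_bot hXp
  obtain ⟨L, hL, hNL⟩ := exists_coatom_ge
    (normalizer_ne_top' hG hX1 (ne_top_of_le_coatom hH (hXK.trans hK.1)))
  refine ⟨L, hL, ?_, ?_⟩
  · have := partner_mem_sigma hG hH hK hK1 hXK hXp hL hNL
    rwa [hXc] at this
  · have hne := Kst_ne_bot hG hH hK hK1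
    have hc : Nat.card ↥(Kst H K) ≠ 1 := fun h => hne (Subgroup.card_eq_one.mp h)
    obtain ⟨q, hq, hqd⟩ := Nat.exists_prime_and_dvd hc
    exact ⟨q, Kst_kappa hG hH hK hK1 hXK hXp hL hNL hq hqd⟩

/-- `p ∈ κ(H) ∩ σ(N)` forces `κ(N) ≠ ∅` -/
theorem kappa_nonempty_of_mem_kappa (hG : Cfsg.IsMinSimpleOddOrder G) {H N : Subgroup G}
    (hH : IsCoatom H) (hN : IsCoatom N) {p : ℕ} (hpH : p ∈ Cfsg.kappa H)
    (hpN : p ∈ Cfsg.sigma N) : (Cfsg.kappa N).Nonempty := by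
  obtain ⟨L, hL, hpL, hκL⟩ := exists_partner_of_mem_kappa hG hH hpH
  obtain ⟨g, hg⟩ := (Cfsg.Agent.S1378.result hG).2 L N hL hN ⟨p, hpL, hpN⟩
  have h1 : Cfsg.kappa N = Cfsg.kappa L := by
    rw [hg]
    exact Cfsg.Agent.H2.BG14.kappa_cj hG hL g
  rw [h1]
  exact hκL

/-- an ideal prime `p ∉ σ(H)` has rank at most one in the maximal subgroup `H` -/
theorem pRankLE_one_of_ideal (hG : Cfsg.IsMinSimpleOddOrder G) {H : Subgroup G} (hH : IsCoatom H)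
    {p : ℕ} (hi : Cfsg.IsIdealPrime p G) (hpσ : p ∉ Cfsg.sigma H) : Cfsg.PRankLE p 1 ↥H := by
  haveI : Fact p.Prime := ⟨hi.1⟩
  have hr2 : Cfsg.PRankLE p 2 ↥H := by
    by_contra h2
    exact hpσ (alpha_subset_sigma hG (uT hG) hH ⟨hi.1, h2⟩)
  by_contra hr1
  exact (Cfsg.Agent.S1408.result hG H hH p hpσ hr2 hr1).1 hi

namespace PCfg

variable {M N : Subgroup G} {x : G} {t : ℕ}

/-- S1436 (a), first half, in the case `κ(N) = ∅` -/
theorem kappa_eq_empty (hG : Cfsg.IsMinSimpleOddOrder G) (c : PCfg M N x t)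
    (hκN : Cfsg.kappa N = ∅) {p : ℕ} (hpN : p ∈ Cfsg.sigma N) (hpM : p ∣ Nat.card ↥M) :
    Cfsg.kappa M = ∅ := by
  by_contra hne
  obtain ⟨q, hq⟩ := Set.nonempty_iff_ne_empty.mpr hne
  haveI : Fact t.Prime := ⟨c.ht⟩
  have hpσM : p ∉ Cfsg.sigma M := fun h => c.hdisj p h hpN
  by_cases hpκ : p ∈ Cfsg.kappa M
  · obtain ⟨r, hr⟩ := kappa_nonempty_of_mem_kappa hG c.hM c.hN hpκ hpN
    rw [hκN] at hr
    exact hr
  · obtain ⟨⟨K, hK⟩, hcyc⟩ := Cfsg.Agent.S1351.result hG M c.hM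
    have hKc := hcyc K hK
    obtain ⟨⟨U, hKU⟩, -⟩ := Cfsg.Agent.S1352.result hG M c.hM K hKc hK
    have hK1 : K ≠ ⊥ := by
      intro h0
      have h1 := Cfsg.Agent.H1.card_eq_relIndex_mul_card hK.1
      have h2 : Nat.card ↥K = 1 := by rw [h0, Subgroup.card_bot]
      rw [h2, mul_one] at h1
      exact hK.2.2 q hq.1 hq (h1 ▸ hq.2.1)
    have hE := Cfsg.Agent.Lib.Helper7.BG14P.sup_compl hG c.hM hKU
    have hU1 : U ≠ ⊥ := by
      intro h0
      rw [h0, bot_sup_eq] at hE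
      have h1 := Cfsg.Agent.H2.BG12.card_compl_mul hE
      have h2 : p ∣ Nat.card ↥K * Nat.card ↥(Cfsg.sigmaCore M) := h1 ▸ hpM
      rcases (Nat.Prime.dvd_mul hpN.1).mp h2 with h | h
      · exact hpκ (hK.2.1 p hpN.1 h)
      · exact hpσM (mem_sigma_of_dvd_sigmaCore hG c.hM hpN.1 h)
    exact c.t_not_beta hG
      (Cfsg.Agent.Lib.Helper7.BG14P.mem_beta_of_mem_sigma hG c.hM hKU hK1 hU1 (c.t_mem_sigma hG))

/-- S1436 (a), second half, in the case `κ(N) = ∅` -/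
theorem tau2_eq_empty (hG : Cfsg.IsMinSimpleOddOrder G) (c : PCfg M N x t)
    (hκN : Cfsg.kappa N = ∅) (hκM : Cfsg.kappa M = ∅) {p : ℕ} (hpN : p ∈ Cfsg.sigma N)
    (hpM : p ∣ Nat.card ↥M) : Cfsg.tau2 M = ∅ := by
  by_contra hne
  obtain ⟨s, hs⟩ := Set.nonempty_iff_ne_empty.mpr hne
  haveI : Fact t.Prime := ⟨c.ht⟩
  haveI : Fact p.Prime := ⟨hpN.1⟩
  haveI : Fact s.Prime := ⟨hs.1⟩
  have hβ := c.mem_beta hG hpN hpM
  have hi : Cfsg.IsIdealPrime p G := hβ.2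
  have hpσM : p ∉ Cfsg.sigma M := fun h => c.hdisj p h hpN
  have hr1 : Cfsg.PRankLE p 1 ↥M := pRankLE_one_of_ideal hG c.hM hi hpσM
  obtain ⟨E₀, hE₀⟩ := Cfsg.Agent.Lib.helper3.BG12.exists_compl hG c.hM
  obtain ⟨B, hBE, hBe, hBc⟩ := Cfsg.Agent.Lib.BG127H7.exists_elem_le_compl hE₀ hs
  have hBM : B ≤ M := hBE.trans hE₀.1
  have hBp : IsPGroup s ↥B := Cfsg.Agent.Lib.Helper4.BGTrans.isPGroup_of_elementary hBe
  obtain ⟨hnil, -, -, h17d, h17e, -⟩ :=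
    Cfsg.Agent.S1417.result hG M c.hM s hs B ⟨hBM, hBe, hBc⟩
  obtain ⟨⟨h18n, -⟩, ⟨h18c, h18e, -⟩, h18u⟩ :=
    Cfsg.Agent.S1418.result hG M c.hM E₀ hE₀ s hs B ⟨hBE, hBe, hBc⟩
  have hσ1 : Cfsg.sigmaCore M ≠ ⊥ := by
    intro h
    have := c.hxσ
    rw [h, Subgroup.mem_bot] at this
    exact c.hx1 this
  -- an element `y ∈ E₀` of order `p`
  have hpE : p ∣ Nat.card ↥E₀ := by
    have h1 := Cfsg.Agent.H2.BG12.card_compl_mul hE₀
    have h2 : p ∣ Nat.card ↥E₀ * Nat.card ↥(Cfsg.sigmaCore M) := h1 ▸ hpM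
    rcases (Nat.Prime.dvd_mul hpN.1).mp h2 with h | h
    · exact h
    · exact absurd (mem_sigma_of_dvd_sigmaCore hG c.hM hpN.1 h) hpσM
  obtain ⟨y, hy⟩ := exists_prime_orderOf_dvd_card' p hpE
  have hyo : orderOf (y : G) = p := by rw [Subgroup.orderOf_coe, hy]
  have hyE : (y : G) ∈ E₀ := y.2
  have hyM : (y : G) ∈ M := hE₀.1 hyE
  have hy1 : (y : G) ≠ 1 := by
    intro h
    rw [h, orderOf_one] at hyo
    exact hpN.1.one_lt.ne hyo
  -- `y` acts fixed-point-freely on `M_σ`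
  have hfpf : ∀ w ∈ Cfsg.sigmaCore M, (y : G) * w = w * (y : G) → w = 1 := by
    intro w hw hyw
    by_contra hw1
    have := Cfsg.Agent.H1.BG14.mem_kappa_of_fixed_point hG c.hM hpσM hr1 hyM hyo hw hw1 hyw
    rw [hκM] at this
    exact this
  have hyB : (y : G) ∈ Subgroup.normalizer (B : Set G) := h18n hyE
  have hyσ : (y : G) ∈ Subgroup.normalizer ((Cfsg.sigmaCore M : Subgroup G) : Set G) :=
    le_normalizer_sigmaCore M hyM
  have hBn : B ≤ Subgroup.normalizer ((Cfsg.sigmaCore M : Subgroup G) : Set G) :=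
    hBM.trans (le_normalizer_sigmaCore M)
  -- `C_B(y) ≠ 1`
  have hb₀ : ∃ b₀ ∈ B, b₀ ≠ 1 ∧ (y : G) * b₀ = b₀ * (y : G) := by
    by_contra hcon
    push Not at hcon
    have hyH : (y : G) ∈ Subgroup.normalizer ((Cfsg.sigmaCore M ⊔ B : Subgroup G) : Set G) := by
      have h1 := le_normalizer_sup (A := Subgroup.zpowers (y : G)) (U := Cfsg.sigmaCore M) (V := B)
        (Subgroup.zpowers_le.mpr hyσ) (Subgroup.zpowers_le.mpr hyB)
      exact h1 (Subgroup.mem_zpowers _)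
    have hcopB := coprime_sigmaCore_of_isPGroup hG c.hM hs.2.1 hBp
    have hdisj : Cfsg.sigmaCore M ⊓ B = ⊥ :=
      (Subgroup.disjoint_of_coprime_natCard hcopB.symm).eq_bot
    have hHfpf : ∀ h ∈ Cfsg.sigmaCore M ⊔ B, (y : G) * h * (y : G)⁻¹ = h → h = 1 := by
      intro h hh hyh
      obtain ⟨w, hw, b, hb, rfl⟩ := Cfsg.Agent.Lib.Helper7.BG14P.exists_mul_of_mem_sup hBn hh
      have hw' : (y : G) * w * (y : G)⁻¹ ∈ Cfsg.sigmaCore M :=
        (Subgroup.mem_normalizer_iff.mp hyσ w).mp hw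
      have hb' : (y : G) * b * (y : G)⁻¹ ∈ B := (Subgroup.mem_normalizer_iff.mp hyB b).mp hb
      have e0 : (y : G) * w * (y : G)⁻¹ * ((y : G) * b * (y : G)⁻¹) = w * b := by
        rw [← hyh]; group
      have e : w⁻¹ * ((y : G) * w * (y : G)⁻¹) = b * ((y : G) * b * (y : G)⁻¹)⁻¹ := by
        calc w⁻¹ * ((y : G) * w * (y : G)⁻¹)
            = w⁻¹ * ((y : G) * w * (y : G)⁻¹ * ((y : G) * b * (y : G)⁻¹)) *
                ((y : G) * b * (y : G)⁻¹)⁻¹ := by group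
          _ = w⁻¹ * (w * b) * ((y : G) * b * (y : G)⁻¹)⁻¹ := by rw [e0]
          _ = b * ((y : G) * b * (y : G)⁻¹)⁻¹ := by group
      have hmem : w⁻¹ * ((y : G) * w * (y : G)⁻¹) ∈ Cfsg.sigmaCore M ⊓ B := by
        refine Subgroup.mem_inf.mpr ⟨Subgroup.mul_mem _ (Subgroup.inv_mem _ hw) hw', ?_⟩
        rw [e]
        exact Subgroup.mul_mem _ hb (Subgroup.inv_mem _ hb')
      rw [hdisj, Subgroup.mem_bot] at hmem
      have hw2 : (y : G) * w * (y : G)⁻¹ = w := by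
        have h9 : w * (w⁻¹ * ((y : G) * w * (y : G)⁻¹)) = w * 1 := by rw [hmem]
        rw [mul_one, mul_inv_cancel_left] at h9
        exact h9
      have hb2 : (y : G) * b * (y : G)⁻¹ = b := by
        rw [hmem] at e
        have h9 : b * ((y : G) * b * (y : G)⁻¹)⁻¹ * ((y : G) * b * (y : G)⁻¹) =
            1 * ((y : G) * b * (y : G)⁻¹) := by rw [← e]
        rw [inv_mul_cancel_right, one_mul] at h9
        exact h9.symm
      have hw1 : w = 1 := hfpf w hw (mul_inv_eq_iff_eq_mul.mp hw2)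
      have hb1 : b = 1 := by
        by_contra hb1
        exact hcon b hb hb1 (mul_inv_eq_iff_eq_mul.mp hb2)
      rw [hw1, hb1, one_mul]
    haveI hHnil : Group.IsNilpotent ↥(Cfsg.sigmaCore M ⊔ B : Subgroup G) :=
      Cfsg.Agent.H2.BG11.nilpotent_of_fpf_prime hpN.1 hyo hyH hHfpf
    have hcent : Cfsg.sigmaCore M ≤ Subgroup.centralizer (B : Set G) := by
      intro w hw
      rw [Subgroup.mem_centralizer_iff]
      intro b hb
      have hwH : w ∈ Cfsg.sigmaCore M ⊔ B := Subgroup.mem_sup_left hw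
      have hbH : b ∈ Cfsg.sigmaCore M ⊔ B := Subgroup.mem_sup_right hb
      have hcop : (orderOf (⟨b, hbH⟩ : ↥(Cfsg.sigmaCore M ⊔ B : Subgroup G))).Coprime
          (orderOf (⟨w, hwH⟩ : ↥(Cfsg.sigmaCore M ⊔ B : Subgroup G))) := by
        rw [← Subgroup.orderOf_coe, ← Subgroup.orderOf_coe]
        exact Nat.Coprime.coprime_dvd_left (Subgroup.orderOf_dvd_natCard _ hb)
          (Nat.Coprime.coprime_dvd_right (Subgroup.orderOf_dvd_natCard _ hw) hcopB)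
      have h9 := Cfsg.Agent.Lib.Helper4.Nilpotent.commute_of_coprime_orderOf
        ↥(Cfsg.sigmaCore M ⊔ B : Subgroup G) ⟨b, hbH⟩ ⟨w, hwH⟩ hcop
      exact congrArg Subtype.val h9
    apply hσ1
    rw [eq_bot_iff, ← h17d]
    exact le_inf le_rfl hcent
  obtain ⟨b₀, hb₀B, hb₀1, hyb₀⟩ := hb₀
  -- the maximal subgroup `L ⊇ N_G(B)`
  have hB1 : B ≠ ⊥ := by
    intro h
    rw [h, Subgroup.card_bot] at hBc
    have : 1 < s ^ 2 := Nat.one_lt_pow two_ne_zero hs.1.one_lt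
    omega
  obtain ⟨L, hL, hNL⟩ := exists_coatom_ge
    (normalizer_ne_top' hG hB1 (ne_top_of_le_coatom c.hM hBM))
  have hsL : s ∈ Cfsg.sigma L :=
    (Cfsg.Agent.H1.BG14.tau2_subset_sigma hG c.hM hE₀ hs ⟨hBE, hBe, hBc⟩ hL hNL s hs).1
  have hLM : L ≠ M := by
    rintro rfl
    exact hs.2.1 hsL
  have hBL : B ≤ L := Subgroup.le_normalizer.trans hNL
  have hEL : E₀ ≤ L := h18n.trans hNL
  have hyL : (y : G) ∈ L := hEL hyE
  have hBσL : B ≤ Cfsg.sigmaCore L := Cfsg.Agent.H2.BG11.le_sigmaCore_of_pgroup hG hL hsL hBL hBp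
  have hσML : Cfsg.sigmaCore M ⊓ L = ⊥ := h17e L hL hLM hBL
  -- `p ∉ σ(L)`
  have hpσL : p ∉ Cfsg.sigma L := by
    intro hpL
    obtain ⟨g, hg⟩ := (Cfsg.Agent.S1378.result hG).2 L N hL c.hN ⟨p, hpL, hpN⟩
    have htL : t ∣ Nat.card ↥L := by
      obtain ⟨A, hAE, hAe, hAc, -⟩ := c.exists_A hG
      have h1 : t ∣ Nat.card ↥A := by rw [hAc]; exact dvd_pow_self t two_ne_zero
      have h2 : Nat.card ↥A ∣ Nat.card ↥N := Subgroup.card_dvd_of_le (hAE.trans inf_le_right)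
      have h3 : Nat.card ↥N = Nat.card ↥L := by rw [hg]; exact card_cj g L
      exact h3 ▸ h1.trans h2
    obtain ⟨b, hbB, hb1, hfix⟩ := exists_fixed_of_rank_two hBe (le_of_eq hBc.symm) hBn
      (not_dvd_sigmaCore hG c.hM hs.1 hs.2.1) hσ1
    have hbo : orderOf b = s := orderOf_eq_prime (hBe.2 b hbB) hb1
    have hXc : Nat.card ↥(Subgroup.zpowers b) = s := by rw [Nat.card_zpowers, hbo]
    have hCb := h18u (Subgroup.zpowers b) (Subgroup.zpowers_le.mpr hbB) hXc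
      (by rw [centralizer_zpowers_eq]; exact hfix)
    rw [centralizer_zpowers_eq] at hCb
    have hbL : ¬ Subgroup.centralizer ({b} : Set G) ≤ L := by
      intro hle
      apply hfix
      rw [eq_bot_iff, ← hσML]
      intro z hz
      exact Subgroup.mem_inf.mpr ⟨(Subgroup.mem_inf.mp hz).1, hle (Subgroup.mem_inf.mp hz).2⟩
    have c' : PCfg L M b s := exists_pcfg hG hL (hBσL hbB) hbo hs.1 hbL c.hM hCb.1
    exact c.t_not_beta hG (c'.mem_beta hG (c.t_mem_sigma hG) htL)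
  -- S1432 for `(L, b₀, y)`
  have h32 := Cfsg.Agent.S1432.result hG L hL b₀ (hBσL hb₀B) hb₀1 (y : G)
    (Subgroup.mem_inf.mpr ⟨hyL, Subgroup.mem_centralizer_singleton_iff.mpr hyb₀⟩) hy1
    (fun q hq hqd => by
      rw [hyo] at hqd
      have : q = p := (Nat.prime_dvd_prime_iff_eq hq hpN.1).mp hqd
      rw [this]; exact hpσL)
  rcases h32 with ⟨h1, -⟩ | ⟨h1, -, -⟩
  · have hpκL : p ∈ Cfsg.kappa L := h1 p hpN.1 (hyo ▸ dvd_rfl)
    obtain ⟨r, hr⟩ := kappa_nonempty_of_mem_kappa hG hL c.hN hpκL hpN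
    rw [hκN] at hr
    exact hr
  · have hpτL : p ∈ Cfsg.tau2 L := h1 p hpN.1 (hyo ▸ dvd_rfl)
    exact hpτL.2.2.2 (pRankLE_one_of_ideal hG hL hi hpσL)

end PCfg

/-- S1436 (a) in the case `κ(N) ≠ ∅` (no hypothesis on `σ(N) ∩ π(M)` is needed) -/
theorem MCfg.tau2_eq_empty {M N K' U' L : Subgroup G} {x : G} {t : ℕ}
    (hG : Cfsg.IsMinSimpleOddOrder G) (m : MCfg M N K' U' L x t) : Cfsg.tau2 M = ∅ := by
  by_contra hne
  obtain ⟨s, hs⟩ := Set.nonempty_iff_ne_empty.mpr hne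
  haveI : Fact s.Prime := ⟨hs.1⟩
  obtain ⟨B, hBE, hBe, hBc⟩ := Cfsg.Agent.Lib.BG127H7.exists_elem_le_compl m.hcompl hs
  have h1 : s ∣ Nat.card ↥B := by rw [hBc]; exact dvd_pow_self s two_ne_zero
  exact hs.2.2.2 (m.E_rank_one hG hs.1 (h1.trans (Subgroup.card_dvd_of_le hBE)))

/-- **S1436** (B&G Lemma 14.13) from S1435 -/
theorem s1436_of (hG : Cfsg.IsMinSimpleOddOrder G) (h35 : Hyp1435 G)
    (M : Subgroup G) (hM : IsCoatom M) (x : G) (hx : x ∈ Cfsg.sigmaCore M) (hx1 : x ≠ 1)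
    (hxM : ¬ Subgroup.centralizer ({x} : Set G) ≤ M)
    (N : Subgroup G) (hN : IsCoatom N) (hxN : Subgroup.centralizer ({x} : Set G) ≤ N) :
    ((∃ p ∈ Cfsg.sigma N, p ∣ Nat.card M) → Cfsg.kappa M = ∅ ∧ Cfsg.tau2 M = ∅) ∧
      ∀ (y : G) (N' : Subgroup G) (g : G), y ∈ Cfsg.sigmaCore M → y ≠ 1 →
        ¬ Subgroup.centralizer ({y} : Set G) ≤ M → IsCoatom N' →
        Subgroup.centralizer ({y} : Set G) ≤ N' →
        N'.map (MulAut.conj g).toMonoidHom = N → ∃ m ∈ M, N'.map (MulAut.conj m).toMonoidHom = N := by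
  refine ⟨?_, fun y N' g hy hy1 hyM hN' hyN' hg =>
    s1436_b hG M hM x hx hx1 hxM N hN hxN y N' g hy hy1 hyM hN' hyN' hg⟩
  rintro ⟨p, hpN, hpM⟩
  have ho : orderOf x ≠ 1 := fun h => hx1 (orderOf_eq_one_iff.mp h)
  obtain ⟨t, ht, htd⟩ := Nat.exists_prime_and_dvd ho
  obtain ⟨z, hzdef⟩ : ∃ z : G, z = x ^ (orderOf x / t) := ⟨_, rfl⟩
  have hzo : orderOf z = t := hzdef ▸ orderOf_pow_orderOf_div (orderOf_pos x).ne' htd
  have hz : z ∈ Cfsg.sigmaCore M := hzdef ▸ Subgroup.pow_mem _ hx _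
  have hz1 : z ≠ 1 := by
    intro h
    rw [h, orderOf_one] at hzo
    exact ht.one_lt.ne hzo
  have hCxz : Subgroup.centralizer ({x} : Set G) ≤ Subgroup.centralizer ({z} : Set G) := by
    intro a ha
    rw [Subgroup.mem_centralizer_singleton_iff] at ha ⊢
    rw [hzdef]
    exact ((Commute.pow_right (show Commute a x from ha) _)).eq
  have hzM : ¬ Subgroup.centralizer ({z} : Set G) ≤ M := fun h => hxM (hCxz.trans h)
  obtain ⟨N₁, ⟨hN₁, hCN₁⟩, -⟩ := s1375 hG M hM z hz hz1 hzM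
  obtain ⟨N₀, -, huniq₀, -⟩ := s1375 hG M hM x hx hx1 hxM
  have e1 : N = N₀ := huniq₀ N hN hxN
  have e2 : N₁ = N₀ := huniq₀ N₁ hN₁ (hCxz.trans hCN₁)
  have hzN : Subgroup.centralizer ({z} : Set G) ≤ N := by rw [e1, ← e2]; exact hCN₁
  by_cases hkN : (Cfsg.kappa N).Nonempty
  · obtain ⟨K', U', c⟩ := exists_ncfg hG hM hz hzo ht hzM hN hzN hkN
    obtain ⟨L, m⟩ := exists_mcfg hG h35 c
    exact ⟨m.hκ, m.tau2_eq_empty hG⟩
  · have hκN : Cfsg.kappa N = ∅ := Set.not_nonempty_iff_eq_empty.mp hkN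
    have c := exists_pcfg hG hM hz hzo ht hzM hN hzN
    have hκM := c.kappa_eq_empty hG hκN hpN hpM
    exact ⟨hκM, c.tau2_eq_empty hG hκN hκM hpN hpM⟩

end Cfsg.Agent.Lib.helper3.BG14
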