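import Mathlib
import Cfsg.Prelude.Def_Characters
import Cfsg.Agent.Lib.helper3.CentralChar
import Cfsg.Agent.Lib.helper3.CharBasic2
import Cfsg.Agent.Lib.Lead.PGroup
import Cfsg.Agent.S0136

set_option autoImplicit false
set_option linter.style.haveILetI false
set_option linter.unusedSectionVars false

/-!
# Faithful irreducible representations and cyclic centres
-/

namespace Cfsg.Agent.Lib.helper3.Central

open Cfsg Module Cfsg.Agent.Lib.helper3.IndFun Cfsg.Agent.Lib.helper3.CharBasic
open Cfsg.Agent.Lib.helper3.Irr
open scoped ComplexConjugate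

variable {G : Type*} [Group G]

/-- A group with a faithful irreducible complex representation has a cyclic centre. -/
theorem isCyclic_center_of_faithful_irreducible [Finite G] {V : Type*} [AddCommGroup V]
    [Module ℂ V] [FiniteDimensional ℂ V] (ρ : Representation ℂ G V) [ρ.IsIrreducible]
    (hinj : Function.Injective ρ) : IsCyclic (Subgroup.center G) := by
  classical
  letI : Fintype G := Fintype.ofFinite G
  haveI := nontrivial_of_irreducible ρ
  have hsc : ∀ z : Subgroup.center G, ∃ c : ℂ, ρ (z : G) = c • LinearMap.id :=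
    fun z => exists_scalar_of_central ρ z z.2
  choose c hc using hsc
  have hsmul : ∀ a b : ℂ, a • (LinearMap.id : V →ₗ[ℂ] V) = b • LinearMap.id → a = b := by
    intro a b h
    obtain ⟨v, hv⟩ := exists_ne (0 : V)
    have h2 := congrArg (fun T : V →ₗ[ℂ] V => T v) h
    simp only [LinearMap.smul_apply, LinearMap.id_apply] at h2
    exact smul_left_injective ℂ hv h2
  let f : Subgroup.center G →* ℂ :=
    { toFun := c
      map_one' := by
        apply hsmul
        rw [← hc, one_smul]
        simp
        rfl
      map_mul' := by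
        intro x y
        apply hsmul
        rw [← hc]
        have : ((x * y : Subgroup.center G) : G) = (x : G) * (y : G) := rfl
        rw [this, map_mul, hc x, hc y]
        ext v
        simp only [Module.End.mul_apply, LinearMap.smul_apply, LinearMap.id_apply, map_smul,
          mul_smul]
        rw [smul_comm] }
  apply isCyclic_of_injective_ringHom f
  intro x y hxy
  apply Subtype.ext
  apply hinj
  rw [hc x, hc y]
  show (c x) • _ = (c y) • _
  have : c x = c y := hxy
  rw [this]

/-- In a nontrivial finite `p`-group with cyclic centre there is a non-identity element lying in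
every nontrivial normal subgroup. -/
theorem exists_mem_all_normal [Finite G] (p : ℕ) [Fact p.Prime] (hG : IsPGroup p G)
    [Nontrivial G] (hZ : IsCyclic (Subgroup.center G)) :
    ∃ z₀ : G, z₀ ≠ 1 ∧ ∀ N : Subgroup G, N.Normal → N ≠ ⊥ → z₀ ∈ N := by
  classical
  letI : Fintype (Subgroup.center G) := Fintype.ofFinite _
  haveI := hZ
  -- an element of order p in the centre
  have hZnt : Nontrivial (Subgroup.center G) := hG.center_nontrivial
  have hZp : IsPGroup p (Subgroup.center G) := hG.to_subgroup _
  obtain ⟨k, hk0, hk⟩ := hZp.nontrivial_iff_card.mp hZnt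
  have hpdvd : p ∣ Nat.card (Subgroup.center G) := by
    rw [hk]; exact dvd_pow_self _ (ne_of_gt hk0)
  obtain ⟨z, hz⟩ := exists_prime_orderOf_dvd_card' p hpdvd
  have hp := (Fact.out : p.Prime)
  refine ⟨(z : G), ?_, ?_⟩
  · intro h
    have : z = 1 := Subtype.ext h
    rw [this, orderOf_one] at hz
    exact hp.one_lt.ne hz
  · intro N hN hNbot
    haveI := hN
    obtain ⟨w, hwN, hwZ, hw1⟩ :=
      Cfsg.Agent.Lib.Lead.PGroup.exists_mem_center_of_normal hG N hNbot
    -- an element of order p in ⟨w⟩
    set w' : Subgroup.center G := ⟨w, hwZ⟩ with hw'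
    have hw'1 : w' ≠ 1 := by
      intro h; apply hw1; exact congrArg Subtype.val h
    obtain ⟨j, hj⟩ := (hZp.to_subgroup (Subgroup.zpowers w')).exists_card_eq
    have hcardw : Nat.card (Subgroup.zpowers w') = orderOf w' := Nat.card_zpowers w'
    have hj0 : j ≠ 0 := by
      intro h
      rw [h, pow_zero, hcardw, orderOf_eq_one_iff] at hj
      exact hw'1 hj
    have hpdvd' : p ∣ Nat.card (Subgroup.zpowers w') := by
      rw [hj]; exact dvd_pow_self _ hj0
    obtain ⟨u, hu⟩ := exists_prime_orderOf_dvd_card' p hpdvd'
    -- `u` and `z` both satisfy `x ^ p = 1`; the set of such is at most `p` big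
    set T : Finset (Subgroup.center G) := Finset.univ.filter (fun x => x ^ p = 1) with hT
    have hTle : T.card ≤ p := IsCyclic.card_pow_eq_one_le hp.pos
    set u' : Subgroup.center G := (u : Subgroup.center G) with hu'
    have hu'ord : orderOf u' = p := by
      rw [hu', Subgroup.orderOf_coe, hu]
    letI : Fintype (Subgroup.zpowers u') := Fintype.ofFinite _
    have hsub : ((Subgroup.zpowers u' : Set (Subgroup.center G))).toFinset ⊆ T := by
      intro x hx
      rw [Set.mem_toFinset] at hx
      rw [hT, Finset.mem_filter]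
      refine ⟨Finset.mem_univ _, ?_⟩
      obtain ⟨i, rfl⟩ := Subgroup.mem_zpowers_iff.mp hx
      rw [← zpow_natCast, ← zpow_mul, mul_comm, zpow_mul, zpow_natCast, ← hu'ord,
        pow_orderOf_eq_one, one_zpow]
    have hcardu : ((Subgroup.zpowers u' : Set (Subgroup.center G))).toFinset.card = p := by
      rw [Set.toFinset_card, ← Nat.card_eq_fintype_card]
      exact (Nat.card_zpowers u').trans hu'ord
    have heq : ((Subgroup.zpowers u' : Set (Subgroup.center G))).toFinset = T :=
      Finset.eq_of_subset_of_card_le hsub (by rw [hcardu]; exact hTle)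
    have hzT : z ∈ T := by
      rw [hT, Finset.mem_filter]
      refine ⟨Finset.mem_univ _, ?_⟩
      rw [← hz, pow_orderOf_eq_one]
    rw [← heq, Set.mem_toFinset] at hzT
    -- so `z ∈ ⟨u'⟩ ≤ ⟨w'⟩`, hence `z ∈ N`
    have hu'w : u' ∈ Subgroup.zpowers w' := u.2
    have hzw : z ∈ Subgroup.zpowers w' :=
      (Subgroup.zpowers_le.mpr hu'w) hzT
    obtain ⟨i, hi⟩ := Subgroup.mem_zpowers_iff.mp hzw
    have : (z : G) = w ^ i := by
      rw [← hi]
      simp [hw']
    rw [this]
    exact N.zpow_mem hwN i

/-- A finite `p`-group with cyclic centre has a faithful irreducible representation. -/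
theorem exists_faithful_irreducible [Finite G] (p : ℕ) [Fact p.Prime] (hG : IsPGroup p G)
    (hZ : IsCyclic (Subgroup.center G)) :
    ∃ (n : ℕ) (ρ : Representation ℂ G (Fin n → ℂ)), ρ.IsIrreducible ∧ Function.Injective ρ := by
  classical
  rcases subsingleton_or_nontrivial G with hsub | hnt
  · obtain ⟨n, ρ, hirr, -⟩ := (isIrrCharacter_one (G := G))
    exact ⟨n, ρ, hirr, fun a b _ => Subsingleton.elim a b⟩
  · obtain ⟨z₀, hz1, hzN⟩ := exists_mem_all_normal p hG hZ
    have hex : ∃ χ : IrrCharacter G, (χ : G → ℂ) z₀ ≠ (χ : G → ℂ) 1 := by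
      by_contra hcon
      push Not at hcon
      have := (Cfsg.Agent.S0136.result z₀ 1).mpr hcon
      exact hz1 (isConj_one_left.mp this)
    obtain ⟨⟨χ, n, ρ, hirr, rfl⟩, hχ⟩ := hex
    refine ⟨n, ρ, hirr, ?_⟩
    rw [← MonoidHom.ker_eq_bot_iff]
    by_contra hker
    have hz := hzN ρ.ker inferInstance hker
    apply hχ
    show ρ.character z₀ = ρ.character 1
    rw [MonoidHom.mem_ker] at hz
    simp only [Representation.character, hz, map_one]

end Cfsg.Agent.Lib.helper3.Central
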