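import Mathlib
import Cfsg.Prelude.Def_Characters
import Cfsg.Agent.Lib.helper3.BrauerInd5
import Cfsg.Agent.Lib.helper3.Solomon2

/-!
# Artin's induction theorem

`artin_induction` : `|G|` times a character is an integer combination of functions induced from
linear characters of cyclic subgroups.
-/

set_option autoImplicit false
set_option linter.style.haveILetI false
set_option linter.unusedSectionVars false

namespace Cfsg.Agent.Lib.helper3.BrauerInd

open Cfsg Module Cfsg.Agent.Lib.helper3.IndFun Cfsg.Agent.Lib.helper3.CharBasic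
open Cfsg.Agent.Lib.helper3.Irr Cfsg.Agent.Lib.helper3.IndFunTrans Cfsg.Agent.Lib.helper3.Lin
open Cfsg.Agent.Lib.helper3.QuasiElem

universe u

/-- The additive group generated by the functions induced from linear characters of cyclic
subgroups. -/
def ASpan (G : Type*) [Group G] [Fintype G] : AddSubgroup (G → ℂ) :=
  AddSubgroup.closure {f | ∃ (A : Subgroup G) (lam : A →* ℂˣ),
    IsCyclic A ∧ f = indFun A (fun e => ((lam e : ℂˣ) : ℂ))}

theorem isNilpotent_of_isCyclic' {A : Type*} [Group A] (hA : IsCyclic A) : Group.IsNilpotent A := by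
  letI : CommGroup A := IsCyclic.commGroup
  exact CommGroup.isNilpotent

/-- Characters induced from cyclic subgroups lie in `ASpan`. -/
theorem indFun_mem_aspan {G : Type u} [Group G] [Fintype G]
    (A : Subgroup G) (hA : IsCyclic A) (φ : A → ℂ) (hφ : IsCharacter A φ) :
    indFun A φ ∈ ASpan G := by
  classical
  letI : Fintype A := Fintype.ofFinite A
  haveI : Group.IsNilpotent A := isNilpotent_of_isCyclic' hA
  obtain ⟨m, hm⟩ := exists_decomposition_of_isCharacter hφ
  rw [hm, indFun_sum]
  apply AddSubgroup.sum_mem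
  intro ψ _
  rw [indFun_smul, Nat.cast_smul_eq_nsmul]
  apply AddSubgroup.nsmul_mem
  obtain ⟨E', lam, hlam⟩ := nilpotent_monomial (ψ : A → ℂ) ψ.2
  rw [hlam, indFun_trans_map]
  apply AddSubgroup.subset_closure
  refine ⟨E'.map A.subtype,
    lam.comp (E'.equivMapOfInjective A.subtype A.subtype_injective).symm.toMonoidHom, ?_, rfl⟩
  haveI : IsCyclic E' := Subgroup.isCyclic E'
  exact isCyclic_of_surjective (E'.equivMapOfInjective A.subtype A.subtype_injective)
    (E'.equivMapOfInjective A.subtype A.subtype_injective).surjective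

theorem cast_mem_aspan {G : Type u} [Group G] [Fintype G] {F : G → ℤ}
    (hF : F ∈ PSpanZ (fun D : Subgroup G => IsCyclic D)) : (fun x => (F x : ℂ)) ∈ ASpan G := by
  induction hF using AddSubgroup.closure_induction with
  | mem F hF =>
    obtain ⟨H, hH, rfl⟩ := hF
    rw [piZ_cast]
    apply AddSubgroup.subset_closure
    exact ⟨H, 1, hH, by simp⟩
  | zero =>
    have : (fun x : G => (((0 : G → ℤ) x : ℤ) : ℂ)) = 0 := by
      funext x
      simp
    rw [this]
    exact AddSubgroup.zero_mem _
  | add F F' _ _ h1 h2 =>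
    have : (fun x => ((F + F') x : ℂ)) = (fun x => (F x : ℂ)) + fun x => (F' x : ℂ) := by
      funext x
      simp
    rw [this]
    exact AddSubgroup.add_mem _ h1 h2
  | neg F _ h =>
    have : (fun x => ((-F) x : ℂ)) = -fun x => (F x : ℂ) := by
      funext x
      simp
    rw [this]
    exact AddSubgroup.neg_mem _ h

/-- Artin's induction theorem. -/
theorem artin_induction {G : Type u} [Group G] [Fintype G] (χ : G → ℂ) (hχ : IsCharacter G χ) :
    (Nat.card G : ℂ) • χ ∈ ASpan G := by
  classical
  have hχcf := isClassFunction_of_isCharacter hχ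
  have key : ∀ f ∈ ASpan G, f * χ ∈ ASpan G := by
    intro f hf
    induction hf using AddSubgroup.closure_induction with
    | mem f hf =>
      obtain ⟨A, lam, hA, rfl⟩ := hf
      rw [← indFun_mul_restrict A _ χ hχcf]
      exact indFun_mem_aspan A hA _
        (isCharacter_mul (isCharacter_of_hom lam) (isCharacter_restrict hχ A))
    | zero => rw [zero_mul]; exact AddSubgroup.zero_mem _
    | add f g _ _ h1 h2 => rw [add_mul]; exact AddSubgroup.add_mem _ h1 h2
    | neg f _ h => rw [neg_mul]; exact AddSubgroup.neg_mem _ h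
  have h0 := card_mul_mem (G := G) (fun _ => (1 : ℤ)) (fun _ _ => rfl) (fun _ _ _ => rfl)
  have h1 := key _ (cast_mem_aspan h0)
  have : (fun x : G => (((Nat.card G : ℤ) * 1 : ℤ) : ℂ)) * χ = (Nat.card G : ℂ) • χ := by
    funext x
    simp
  rwa [this] at h1

theorem neg_list_sum'' {G : Type*} [Group G] [Fintype G]
    (l : List ((E : Subgroup G) × ((E →* ℂˣ) × ℤ))) :
    -(l.map fun t => (t.2.2 : ℂ) • indFun t.1 (fun e => ((t.2.1 e : ℂˣ) : ℂ))).sum
      = (l.map ((fun t : (E : Subgroup G) × ((E →* ℂˣ) × ℤ) =>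
          (t.2.2 : ℂ) • indFun t.1 (fun e => ((t.2.1 e : ℂˣ) : ℂ))) ∘
          fun t => ⟨t.1, (t.2.1, -t.2.2)⟩)).sum :=
  neg_list_sum' l

theorem ASpan.exists_list {G : Type*} [Group G] [Fintype G] {f : G → ℂ} (hf : f ∈ ASpan G) :
    ∃ l : List ((E : Subgroup G) × ((E →* ℂˣ) × ℤ)),
      (∀ t ∈ l, IsCyclic t.1) ∧
      f = (l.map fun t => (t.2.2 : ℂ) • indFun t.1 (fun e => ((t.2.1 e : ℂˣ) : ℂ))).sum := by
  induction hf using AddSubgroup.closure_induction with
  | mem f hf =>
    obtain ⟨E, lam, hE, rfl⟩ := hf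
    refine ⟨[⟨E, (lam, 1)⟩], ?_, ?_⟩
    · intro t ht
      rw [List.mem_singleton] at ht
      subst ht
      exact hE
    · simp
  | zero => exact ⟨[], by simp, by simp⟩
  | add f g _ _ h1 h2 =>
    obtain ⟨l, hl, rfl⟩ := h1
    obtain ⟨l', hl', rfl⟩ := h2
    refine ⟨l ++ l', ?_, ?_⟩
    · intro t ht
      rcases List.mem_append.1 ht with h | h
      · exact hl t h
      · exact hl' t h
    · rw [List.map_append, List.sum_append]
  | neg f _ h =>
    obtain ⟨l, hl, rfl⟩ := h
    refine ⟨l.map (fun t => ⟨t.1, (t.2.1, -t.2.2)⟩), ?_, ?_⟩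
    · intro t ht
      obtain ⟨s, hs, rfl⟩ := List.mem_map.1 ht
      exact hl s hs
    · rw [List.map_map]
      exact neg_list_sum' l

end Cfsg.Agent.Lib.helper3.BrauerInd
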