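import Mathlib
import Cfsg.Agent.H1.BLD
import Cfsg.Agent.Lib.helper3.BLPartG

set_option autoImplicit false
set_option linter.style.haveILetI false
set_option linter.unusedSectionVars false
set_option linter.unusedVariables false

/-!
# Brauer-Leonard: coherence of the families `fam h θ` at the level of `G`
-/

namespace Cfsg.Agent.Lib.helper3.BLCoh

open Cfsg Cfsg.Agent.Lib.helper3.Irr Cfsg.Agent.Lib.helper3.IndFun
open Cfsg.Agent.Lib.helper3.CharBasic Cfsg.Agent.Lib.helper3.IndFunTI Cfsg.Agent.H1.BL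
open scoped ComplexConjugate
open Classical

variable {G : Type*} [Group G] [Fintype G] {N₀ : Subgroup G} {P V : Subgroup ↥N₀}
  [hPn : P.Normal] [hVn : V.Normal]

/-- The support set `A = C ∖ V`. -/
def setA (P V : Subgroup ↥N₀) : Set ↥N₀ := {a | a ∈ P ⊔ V ∧ a ∉ V}

theorem mem_setA (a : ↥N₀) : a ∈ setA P V ↔ a ∈ P ⊔ V ∧ a ∉ V := Iff.rfl

theorem setA_inv : ∀ a ∈ setA P V, ∀ n : ↥N₀, n * a * n⁻¹ ∈ setA P V := by
  intro a ha n
  refine ⟨(inferInstance : (P ⊔ V).Normal).conj_mem a ha.1 n, fun hv => ha.2 ?_⟩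
  have := hVn.conj_mem _ hv n⁻¹
  have e : n⁻¹ * (n * a * n⁻¹) * n⁻¹⁻¹ = a := by group
  rwa [e] at this

theorem one_not_mem_setA : (1 : ↥N₀) ∉ setA P V := fun h => h.2 V.one_mem

theorem fam_irr (h : Hyp P V) {θ : ↥V → ℂ} (hθ : IsIrrCharacter ↥V θ) :
    ∀ ξ ∈ fam h θ, IsIrrCharacter ↥N₀ ξ := by
  rintro ξ ⟨lam, hne, rfl⟩
  exact isIrrCharacter_xi h lam.2 hθ hne

theorem fam_eq_off (h : Hyp P V) (θ : ↥V → ℂ) :
    ∀ ξ ∈ fam h θ, ∀ ξ' ∈ fam h θ, ∀ n, n ∉ setA P V → ξ n = ξ' n := by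
  rintro ξ ⟨lam, hne, rfl⟩ ξ' ⟨lam', hne', rfl⟩ n hn
  exact xi_eq_off_A h θ (lin_one h lam.2) (lin_one h lam'.2) hn

/-- Coherence for the family attached to `θ`, with the consequences (C1) and (C2). -/
theorem exists_coherent (h : Hyp P V)
    (hTI : ∀ a : ↥N₀, a ∈ P ⊔ V → a ∉ V → ∀ y : G, y * (a : G) * y⁻¹ ∈ N₀ → y ∈ N₀)
    (θ : ↥V → ℂ) (hθ : IsIrrCharacter ↥V θ)
    (htwo : ∃ ξ ∈ fam h θ, ∃ ξ' ∈ fam h θ, ξ ≠ ξ') :
    ∃ (ε : ℂ) (Λ : (↥N₀ → ℂ) → (G → ℂ)), (ε = 1 ∨ ε = -1) ∧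
      (∀ ξ ∈ fam h θ, IsIrrCharacter G (Λ ξ)) ∧
      (∀ ξ ∈ fam h θ, ∀ ξ' ∈ fam h θ, ξ ≠ ξ' → Λ ξ ≠ Λ ξ') ∧
      (∀ ξ ∈ fam h θ, ∀ ξ' ∈ fam h θ, indFun N₀ (ξ - ξ') = ε • (Λ ξ - Λ ξ')) ∧
      (∀ ψ : G → ℂ, IsIrrCharacter G ψ → ∀ lam lam' : IrrCharacter ↥P,
        lam.1 ≠ (fun _ => 1) → lam'.1 ≠ (fun _ => 1) →
        mm h (fun n : ↥N₀ => ψ n) lam.1 θ - mm h (fun n : ↥N₀ => ψ n) lam'.1 θ
          = ε * ((if ψ = Λ (xi h lam.1 θ) then 1 else 0)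
            - (if ψ = Λ (xi h lam'.1 θ) then 1 else 0))) ∧
      (∀ ξ ∈ fam h θ, ∀ ξ' ∈ fam h θ,
        (fun n : ↥N₀ => Λ ξ n) - (fun n : ↥N₀ => Λ ξ' n) = ε • (ξ - ξ')) := by
  have hTI' : ∀ a ∈ setA P V, ∀ y : G, y * (a : G) * y⁻¹ ∈ N₀ → y ∈ N₀ :=
    fun a ha => hTI a ha.1 ha.2
  have hirr := fam_irr h hθ
  have hS := fam_eq_off h θ
  obtain ⟨T, hT1, hT2, hT3⟩ := Cfsg.Agent.Lib.helper3.BLPartG.exists_coherent_data N₀ (setA P V)
    hTI' setA_inv one_not_mem_setA (fam h θ) hirr htwo hS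
  obtain ⟨ξ₁, hξ₁, -⟩ := id htwo
  -- equal degrees
  have hdeg : ∀ ξ ∈ fam h θ, T ξ 1 = T ξ₁ 1 := by
    intro ξ hξ
    have h1 := congrFun (hT2 ξ hξ ξ₁ hξ₁) 1
    rw [Pi.sub_apply, indFun_one_of_apply_one_eq_zero N₀ (ξ - ξ₁) (by
      rw [Pi.sub_apply, hS ξ hξ ξ₁ hξ₁ 1 one_not_mem_setA, sub_self])] at h1
    exact sub_eq_zero.mp h1
  have hposneg : ∀ a b : G → ℂ, IsIrrCharacter G a → IsIrrCharacter G (-b) → a 1 = b 1 → False := by
    intro a b ha hb hab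
    obtain ⟨d, hd0, hd⟩ := exists_pos_nat_apply_one ha
    obtain ⟨d', hd'0, hd'⟩ := exists_pos_nat_apply_one hb
    rw [Pi.neg_apply] at hd'
    have h2 : ((d + d' : ℕ) : ℂ) = 0 := by
      push_cast
      rw [← hd, ← hd', hab]
      ring
    have h3 : d + d' = 0 := by exact_mod_cast h2
    omega
  obtain ⟨ε, hεdef⟩ : ∃ ε : ℂ, ε = if IsIrrCharacter G (T ξ₁) then 1 else -1 := ⟨_, rfl⟩
  have hε : ε = 1 ∨ ε = -1 := by
    rw [hεdef]
    split_ifs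
    · left; rfl
    · right; rfl
  have hεε : ε * ε = 1 := by
    rcases hε with rfl | rfl <;> norm_num
  have hεc : conj ε = ε := by
    rcases hε with rfl | rfl <;> simp
  have hΛirr : ∀ ξ ∈ fam h θ, IsIrrCharacter G (ε • T ξ) := by
    intro ξ hξ
    by_cases h1 : IsIrrCharacter G (T ξ₁)
    · have : ε = 1 := by rw [hεdef, if_pos h1]
      rw [this, one_smul]
      rcases hT1 ξ hξ with h2 | h2
      · exact h2
      · exact absurd (hdeg ξ hξ).symm (fun hh => hposneg _ _ h1 h2 hh)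
    · have : ε = -1 := by rw [hεdef, if_neg h1]
      rw [this, neg_one_smul]
      have h1' : IsIrrCharacter G (-(T ξ₁)) := by
        rcases hT1 ξ₁ hξ₁ with h2 | h2
        · exact absurd h2 h1
        · exact h2
      rcases hT1 ξ hξ with h2 | h2
      · exact absurd (hdeg ξ hξ) (fun hh => hposneg _ _ h2 h1' hh)
      · exact h2
  have hind : ∀ ξ ∈ fam h θ, ∀ ξ' ∈ fam h θ, indFun N₀ (ξ - ξ') = ε • (ε • T ξ - ε • T ξ') := by
    intro ξ hξ ξ' hξ'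
    rw [← smul_sub, smul_smul, hεε, one_smul, hT2 ξ hξ ξ' hξ']
  have hcf : ∀ ξ ∈ fam h θ, IsClassFunction ↥N₀ ξ := fun ξ hξ =>
    isClassFunction_of_isCharacter (isCharacter_of_isIrrCharacter (hirr ξ hξ))
  refine ⟨ε, fun ξ => ε • T ξ, hε, hΛirr, ?_, hind, ?_, ?_⟩
  · intro ξ hξ ξ' hξ' hne heq
    have h1 := irr_classInner_self (hΛirr ξ hξ)
    have heq' : ε • T ξ = ε • T ξ' := heq
    rw [heq'] at h1
    have h2 : classInner (ε • T ξ) (ε • T ξ') = 0 := by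
      rw [classInner_smul_left, classInner_smul_right, hT3 ξ hξ ξ' hξ' hne, mul_zero, mul_zero]
    rw [heq'] at h2
    rw [h2] at h1
    exact zero_ne_one h1
  · intro ψ hψ lam lam' hne hne'
    have hξ : xi h lam.1 θ ∈ fam h θ := ⟨lam, hne, rfl⟩
    have hξ' : xi h lam'.1 θ ∈ fam h θ := ⟨lam', hne', rfl⟩
    have hψcf : IsClassFunction G ψ :=
      isClassFunction_of_isCharacter (isCharacter_of_isIrrCharacter hψ)
    have hrescf : IsClassFunction ↥N₀ (fun n : ↥N₀ => ψ n) := by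
      intro g k
      exact hψcf (g : G) (k : G)
    have e1 : mm h (fun n : ↥N₀ => ψ n) lam.1 θ
        = classInner (fun n : ↥N₀ => ψ n) (xi h lam.1 θ) :=
      (classInner_xi h lam.1 θ _ hrescf).symm
    have e2 : mm h (fun n : ↥N₀ => ψ n) lam'.1 θ
        = classInner (fun n : ↥N₀ => ψ n) (xi h lam'.1 θ) :=
      (classInner_xi h lam'.1 θ _ hrescf).symm
    rw [e1, e2, ← classInner_sub_right]
    have e3 : classInner (fun n : ↥N₀ => ψ n) (xi h lam.1 θ - xi h lam'.1 θ)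
        = classInner ψ (indFun N₀ (xi h lam.1 θ - xi h lam'.1 θ)) := by
      rw [← classInner_conj_symm, ← frobenius_reciprocity N₀ _ ψ hψcf, classInner_conj_symm]
    rw [e3, hind _ hξ _ hξ', classInner_smul_right, hεc, classInner_sub_right,
      irr_classInner_eq hψ (hΛirr _ hξ), irr_classInner_eq hψ (hΛirr _ hξ')]
  · intro ξ hξ ξ' hξ'
    have h1 := hT2 ξ hξ ξ' hξ'
    have hvan : ∀ n, n ∉ setA P V → (ξ - ξ') n = 0 := by
      intro n hn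
      rw [Pi.sub_apply, hS ξ hξ ξ' hξ' n hn, sub_self]
    have hcfd : IsClassFunction ↥N₀ (ξ - ξ') := by
      intro g k
      rw [Pi.sub_apply, Pi.sub_apply, hcf ξ hξ g k, hcf ξ' hξ' g k]
    funext n
    have h2 := Cfsg.Agent.Lib.helper3.BLPartG.indFun_restrict_of_TI N₀ (setA P V) hTI' setA_inv
      (ξ - ξ') hcfd hvan n
    rw [← h1] at h2
    simp only [Pi.sub_apply, Pi.smul_apply, smul_eq_mul] at h2 ⊢
    rw [← mul_sub, h2]

end Cfsg.Agent.Lib.helper3.BLCoh
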