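import Mathlib

/-!
# Brauer's order formula for dihedral Sylow `2`-subgroups: generic coprime-coset lemmas
-/

set_option autoImplicit false
set_option linter.style.haveILetI false
set_option linter.unusedSectionVars false
set_option linter.unusedVariables false

namespace Cfsg.Agent.Lib.helper3.DihOrd

/-- A power that kills the elements of exponent `o` and fixes `y`. -/
theorem exists_pow_eq {X : Type*} [Group X] (y : X) (o : ℕ) (hcop : (orderOf y).Coprime o) :
    ∃ m : ℕ, ∀ c : X, Commute y c → c ^ o = 1 → (y * c) ^ m = y := by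
  obtain ⟨m, hm1, hm0⟩ := Nat.chineseRemainder hcop 1 0
  refine ⟨m, ?_⟩
  intro c hyc hc
  rw [hyc.mul_pow]
  have h1 : y ^ m = y ^ 1 := pow_eq_pow_iff_modEq.mpr hm1
  have h2 : c ^ m = 1 := by
    obtain ⟨k, hk⟩ := (Nat.modEq_zero_iff_dvd.mp hm0)
    rw [hk, pow_mul, hc, one_pow]
  rw [h1, h2, pow_one, mul_one]

/-- An involution `a` with `a b = y c` (`b` an involution, `c` of odd order commuting with `y`)
inverts `y`. -/
theorem inverts_of_mul_eq {X : Type*} [Group X] (y c a b : X) (ha : a * a = 1) (hb : b * b = 1)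
    (hyc : Commute y c) (o : ℕ) (hco : c ^ o = 1) (hcop : (orderOf y).Coprime o)
    (hab : a * b = y * c) : a * y * a⁻¹ = y⁻¹ ∧ b * y * b⁻¹ = y⁻¹ := by
  obtain ⟨m, hm⟩ := exists_pow_eq y o hcop
  have hm1 := hm c hyc hco
  have hainv : a⁻¹ = a := inv_eq_of_mul_eq_one_left ha
  have hbinv : b⁻¹ = b := inv_eq_of_mul_eq_one_left hb
  have h1 : a * (y * c) * a⁻¹ = (y * c)⁻¹ := by
    rw [← hab, mul_inv_rev, hainv, hbinv]
    calc a * (a * b) * a = (a * a) * b * a := by group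
      _ = b * a := by rw [ha, one_mul]
  have h2 : b * (y * c) * b⁻¹ = (y * c)⁻¹ := by
    rw [← hab, mul_inv_rev, hainv, hbinv]
    calc b * (a * b) * b = b * a * (b * b) := by group
      _ = b * a := by rw [hb, mul_one]
  constructor
  · calc a * y * a⁻¹ = a * (y * c) ^ m * a⁻¹ := by rw [hm1]
      _ = (a * (y * c) * a⁻¹) ^ m := (conj_pow).symm
      _ = ((y * c)⁻¹) ^ m := by rw [h1]
      _ = y⁻¹ := by rw [inv_pow, hm1]
  · calc b * y * b⁻¹ = b * (y * c) ^ m * b⁻¹ := by rw [hm1]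
      _ = (b * (y * c) * b⁻¹) ^ m := (conj_pow).symm
      _ = ((y * c)⁻¹) ^ m := by rw [h2]
      _ = y⁻¹ := by rw [inv_pow, hm1]

/-- An element inverting `y` centralizes the involution `y ^ j`. -/
theorem commute_of_inverts {X : Type*} [Group X] (y a : X) (h : a * y * a⁻¹ = y⁻¹) (j : ℕ)
    (hJ : y ^ j * y ^ j = 1) : a * y ^ j = y ^ j * a := by
  have h1 : a * y ^ j * a⁻¹ = (y ^ j)⁻¹ := by
    rw [← conj_pow, h, inv_pow]
  have h2 : (y ^ j)⁻¹ = y ^ j := inv_eq_of_mul_eq_one_left hJ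
  rw [h2] at h1
  calc a * y ^ j = a * y ^ j * a⁻¹ * a := by group
    _ = y ^ j * a := by rw [h1]

open Classical in
/-- Averages over the coset `y W` and over `y C_W(y)` of a function invariant under conjugation
by the normal subgroup `W`, of order prime to the order of `y`. -/
theorem coset_avg {X : Type*} [Group X] [Fintype X] (W : Subgroup X) [hWn : W.Normal] (y : X)
    (hcop : (orderOf y).Coprime (Nat.card W)) (F : X → ℂ)
    (hF : ∀ d ∈ W, ∀ g, F (d * g * d⁻¹) = F g) :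
    ((Finset.univ.filter (fun w : X => w ∈ W)).card : ℂ)
        * ∑ c ∈ Finset.univ.filter (fun c : X => c ∈ W ∧ c * y = y * c), F (y * c)
      = ((Finset.univ.filter (fun c : X => c ∈ W ∧ c * y = y * c)).card : ℂ)
        * ∑ w ∈ Finset.univ.filter (fun w : X => w ∈ W), F (y * w) := by
  obtain ⟨Ws, hWs⟩ : ∃ Ws : Finset X, Ws = Finset.univ.filter (fun w : X => w ∈ W) := ⟨_, rfl⟩
  obtain ⟨Zs, hZs⟩ : ∃ Zs : Finset X,
      Zs = Finset.univ.filter (fun c : X => c ∈ W ∧ c * y = y * c) := ⟨_, rfl⟩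
  rw [← hWs, ← hZs]
  have hmemW : ∀ w : X, w ∈ Ws ↔ w ∈ W := by
    intro w; rw [hWs, Finset.mem_filter]; simp
  have hmemZ : ∀ c : X, c ∈ Zs ↔ c ∈ W ∧ c * y = y * c := by
    intro c; rw [hZs, Finset.mem_filter]; simp
  have hpowW : ∀ c ∈ W, c ^ (Nat.card W) = 1 := by
    intro c hc
    have := pow_card_eq_one' (G := W) (x := ⟨c, hc⟩)
    exact congrArg Subtype.val this
  obtain ⟨m, hm⟩ := exists_pow_eq y (Nat.card W) hcop
  -- the key step
  have hkey : ∀ e c c' : X, e ∈ W → c ∈ Zs → c' ∈ Zs → e * (y * c) * e⁻¹ = y * c' →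
      e * y = y * e := by
    intro e c c' he hc hc' h
    rw [hmemZ] at hc hc'
    have h1 := hm c hc.2.symm (hpowW c hc.1)
    have h2 := hm c' hc'.2.symm (hpowW c' hc'.1)
    have h3 : e * y * e⁻¹ = y := by
      calc e * y * e⁻¹ = e * (y * c) ^ m * e⁻¹ := by rw [h1]
        _ = (e * (y * c) * e⁻¹) ^ m := (conj_pow).symm
        _ = y := by rw [h, h2]
    calc e * y = e * y * e⁻¹ * e := by group
      _ = y * e := by rw [h3]
  obtain ⟨Φ, hΦ⟩ : ∃ Φ : X × X → X, Φ = fun p => p.1 * (y * p.2) * p.1⁻¹ := ⟨_, rfl⟩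
  obtain ⟨B, hB⟩ : ∃ B : Finset X, B = Ws.image (fun w => y * w) := ⟨_, rfl⟩
  have hBcard : B.card = Ws.card := by
    rw [hB]
    exact Finset.card_image_of_injective _ (mul_right_injective y)
  have hmaps : ∀ p ∈ Ws ×ˢ Zs, Φ p ∈ B := by
    rintro ⟨d, c⟩ hp
    rw [Finset.mem_product, hmemW, hmemZ] at hp
    rw [hB, Finset.mem_image]
    refine ⟨y⁻¹ * (d * (y * c) * d⁻¹), ?_, ?_⟩
    · rw [hmemW]
      have h1 : y⁻¹ * (d * (y * c) * d⁻¹) = (y⁻¹ * d * y⁻¹⁻¹) * (c * d⁻¹) := by group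
      rw [h1]
      exact W.mul_mem (hWn.conj_mem d hp.1 y⁻¹) (W.mul_mem hp.2.1 (W.inv_mem hp.1))
    · rw [hΦ]
      simp only
      group
  -- the fibres have at most `|Zs|` elements
  have hfib : ∀ g ∈ B, ((Ws ×ˢ Zs).filter (fun p => Φ p = g)).card ≤ Zs.card := by
    intro g _
    by_cases hne : ((Ws ×ˢ Zs).filter (fun p => Φ p = g)).Nonempty
    · obtain ⟨⟨d₀, c₀⟩, hp₀⟩ := hne
      rw [Finset.mem_filter, Finset.mem_product, hmemW] at hp₀
      obtain ⟨⟨hd₀, hc₀⟩, hg₀⟩ := hp₀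
      simp only at hd₀ hc₀
      apply Finset.card_le_card_of_injOn (fun p => d₀⁻¹ * p.1)
      · rintro ⟨d, c⟩ hp
        rw [Finset.mem_coe, Finset.mem_filter, Finset.mem_product, hmemW] at hp
        obtain ⟨⟨hd, hc⟩, hg⟩ := hp
        simp only at hd hc
        rw [Finset.mem_coe, hmemZ]
        refine ⟨W.mul_mem (W.inv_mem hd₀) hd, ?_⟩
        apply hkey (d₀⁻¹ * d) c c₀ (W.mul_mem (W.inv_mem hd₀) hd) hc hc₀
        rw [hΦ] at hg hg₀
        simp only at hg hg₀
        calc d₀⁻¹ * d * (y * c) * (d₀⁻¹ * d)⁻¹ = d₀⁻¹ * (d * (y * c) * d⁻¹) * d₀ := by group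
          _ = d₀⁻¹ * (d₀ * (y * c₀) * d₀⁻¹) * d₀ := by rw [hg, hg₀]
          _ = y * c₀ := by group
      · rintro ⟨d, c⟩ hp ⟨d', c'⟩ hp' heq
        rw [Finset.mem_coe, Finset.mem_filter] at hp hp'
        simp only at heq
        have hdd : d = d' := mul_left_cancel heq
        have hg := hp.2
        have hg' := hp'.2
        rw [hΦ] at hg hg'
        simp only at hg hg'
        rw [← hg', hdd] at hg
        have hcc : c = c' := by
          have h5 : d' * (y * c) = d' * (y * c') := mul_right_cancel hg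
          exact mul_left_cancel (mul_left_cancel h5)
        rw [hdd, hcc]
    · rw [Finset.not_nonempty_iff_eq_empty] at hne
      rw [hne, Finset.card_empty]
      exact Nat.zero_le _
  have hsumcard : ∑ g ∈ B, ((Ws ×ˢ Zs).filter (fun p => Φ p = g)).card = (Ws ×ˢ Zs).card :=
    (Finset.card_eq_sum_card_fiberwise hmaps).symm
  have hfibeq : ∀ g ∈ B, ((Ws ×ˢ Zs).filter (fun p => Φ p = g)).card = Zs.card := by
    have h1 : ∑ g ∈ B, ((Ws ×ˢ Zs).filter (fun p => Φ p = g)).card = ∑ _g ∈ B, Zs.card := by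
      rw [hsumcard, Finset.card_product, Finset.sum_const, smul_eq_mul, hBcard]
    exact (Finset.sum_eq_sum_iff_of_le hfib).mp h1
  -- the double count
  have h1 : ∑ p ∈ Ws ×ˢ Zs, F (Φ p) = (Zs.card : ℂ) * ∑ w ∈ Ws, F (y * w) := by
    rw [← Finset.sum_fiberwise_of_maps_to hmaps]
    have h2 : ∀ g ∈ B, ∑ p ∈ (Ws ×ˢ Zs).filter (fun p => Φ p = g), F (Φ p)
        = (Zs.card : ℂ) * F g := by
      intro g hg
      rw [Finset.sum_congr rfl (fun p hp => by rw [(Finset.mem_filter.mp hp).2]),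
        Finset.sum_const, hfibeq g hg, nsmul_eq_mul]
    rw [Finset.sum_congr rfl h2, ← Finset.mul_sum, hB,
      Finset.sum_image (fun a _ b _ h => mul_right_injective y h)]
  have h2 : ∑ p ∈ Ws ×ˢ Zs, F (Φ p) = (Ws.card : ℂ) * ∑ c ∈ Zs, F (y * c) := by
    rw [Finset.sum_product]
    have h3 : ∀ d ∈ Ws, ∑ c ∈ Zs, F (Φ (d, c)) = ∑ c ∈ Zs, F (y * c) := by
      intro d hd
      apply Finset.sum_congr rfl
      intro c _
      rw [hΦ]
      exact hF d ((hmemW d).mp hd) _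
    rw [Finset.sum_congr rfl h3, Finset.sum_const, nsmul_eq_mul]
  rw [← h2, h1]

end Cfsg.Agent.Lib.helper3.DihOrd
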