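import Mathlib
import Cfsg.Agent.Lib.helper3.DihOrd1

/-!
# Sylow `p`-subgroups with `C_G(x) = C_G(P)` for all nonidentity `x ∈ P`: the structure of the
centralizer and the normalizer
-/

set_option autoImplicit false
set_option linter.style.haveILetI false
set_option linter.unusedSectionVars false
set_option linter.unusedVariables false

namespace Cfsg.Agent.Lib.helper3.BLStruct

open Cfsg.Agent.Lib.helper3.DihOrd

variable {G : Type*} [Group G] [Finite G]

theorem orderOf_conj_eq {X : Type*} [Group X] (g a : X) : orderOf (g * a * g⁻¹) = orderOf a := by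
  have := (MulAut.conj g).orderOf_eq a
  rw [MulAut.conj_apply] at this
  exact this

/-- A `p`-element normalizing a Sylow `p`-subgroup lies in it. -/
theorem mem_sylow_of_mem_normalizer {p : ℕ} [Fact p.Prime] (P : Sylow p G) (g : G)
    (hg : g ∈ Subgroup.normalizer ((P : Subgroup G) : Set G)) (k : ℕ) (hgo : orderOf g = p ^ k) :
    g ∈ (P : Subgroup G) := by
  have hz : IsPGroup p (Subgroup.zpowers g) :=
    IsPGroup.of_card (n := k) (by rw [Nat.card_zpowers, hgo])
  have hle : Subgroup.zpowers g ≤ Subgroup.normalizer ((P : Subgroup G) : Set G) := by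
    rw [Subgroup.zpowers_le]
    exact hg
  have hsup : IsPGroup p ↥(Subgroup.zpowers g ⊔ (P : Subgroup G)) :=
    hz.to_sup_of_normal_right' P.2 hle
  have := P.is_maximal' hsup le_sup_right
  have h1 : Subgroup.zpowers g ≤ (P : Subgroup G) := by
    rw [← this]
    exact le_sup_left
  exact h1 (Subgroup.mem_zpowers g)

/-- The elements of order prime to `p` lie in a normal subgroup of `p`-power index. -/
theorem mem_of_coprime_order {X : Type*} [Group X] [Finite X] {p : ℕ} (K : Subgroup X)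
    [K.Normal] (k : ℕ) (hidx : K.index = p ^ k) (g : X) (hg : (orderOf g).Coprime p) : g ∈ K := by
  rw [← QuotientGroup.eq_one_iff]
  have h1 : (g : X ⧸ K) ^ orderOf g = 1 := by
    rw [← QuotientGroup.mk_pow, pow_orderOf_eq_one]
    rfl
  have h2 : (g : X ⧸ K) ^ (p ^ k) = 1 := by
    have : Nat.card (X ⧸ K) = p ^ k := by
      rw [← hidx]
      rfl
    rw [← this]
    exact pow_card_eq_one'
  have h3 : orderOf (g : X ⧸ K) ∣ Nat.gcd (orderOf g) (p ^ k) :=
    Nat.dvd_gcd (orderOf_dvd_of_pow_eq_one h1) (orderOf_dvd_of_pow_eq_one h2)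
  have h4 : Nat.gcd (orderOf g) (p ^ k) = 1 := Nat.Coprime.pow_right k hg
  rw [h4, Nat.dvd_one, orderOf_eq_one_iff] at h3
  exact h3

/-- Conjugation by `y` maps the finite subgroup `P` into itself: then `y` normalizes `P`. -/
theorem mem_normalizer_of_conj_le (P : Subgroup G) (y : G)
    (h : ∀ q ∈ P, y * q * y⁻¹ ∈ P) : y ∈ Subgroup.normalizer (P : Set G) := by
  rw [Subgroup.mem_normalizer_iff]
  intro q
  constructor
  · exact h q
  · intro hq
    obtain ⟨φ, hφ⟩ : ∃ φ : P → P, φ = fun q => ⟨y * (q : G) * y⁻¹, h q q.2⟩ := ⟨_, rfl⟩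
    have hinj : Function.Injective φ := by
      intro a b hab
      rw [hφ] at hab
      have h1 := congrArg Subtype.val hab
      simp only at h1
      apply Subtype.ext
      exact mul_left_cancel (mul_right_cancel h1)
    obtain ⟨a, ha⟩ := Finite.surjective_of_injective hinj ⟨y * q * y⁻¹, hq⟩
    rw [hφ] at ha
    have h1 := congrArg Subtype.val ha
    simp only at h1
    have h2 : (a : G) = q := mul_left_cancel (mul_right_cancel h1)
    rw [← h2]
    exact a.2

/-- The structure of `C_G(P)` and the `TI`-type property of `N_G(P)`. -/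
theorem exists_structure (p : ℕ) (hp : p.Prime) (P : Sylow p G)
    (hstar : ∀ x ∈ (P : Subgroup G), x ≠ 1 →
      Subgroup.centralizer ({x} : Set G) = Subgroup.centralizer ((P : Subgroup G) : Set G)) :
    ∃ V : Subgroup G, V ≤ Subgroup.centralizer ((P : Subgroup G) : Set G)
      ∧ (P : Subgroup G) ⊓ V = ⊥
      ∧ (P : Subgroup G) ⊔ V = Subgroup.centralizer ((P : Subgroup G) : Set G)
      ∧ (∀ n ∈ Subgroup.normalizer ((P : Subgroup G) : Set G), ∀ v ∈ V, n * v * n⁻¹ ∈ V)
      ∧ (∀ x ∈ (P : Subgroup G), ∀ v ∈ V, x ≠ 1 → ∀ y : G,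
          y * (x * v) * y⁻¹ ∈ Subgroup.normalizer ((P : Subgroup G) : Set G) →
          y ∈ Subgroup.normalizer ((P : Subgroup G) : Set G)) := by
  haveI : Fact p.Prime := ⟨hp⟩
  obtain ⟨C, hC⟩ : ∃ C : Subgroup G, C = Subgroup.centralizer ((P : Subgroup G) : Set G) :=
    ⟨_, rfl⟩
  rw [← hC]
  have hCmem : ∀ c : G, c ∈ C ↔ ∀ q ∈ (P : Subgroup G), q * c = c * q := by
    intro c
    rw [hC, Subgroup.mem_centralizer_iff]
    rfl
  -- `P` is abelian
  have hPC : (P : Subgroup G) ≤ C := by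
    by_cases hP1 : Nontrivial ↥(P : Subgroup G)
    · haveI := hP1
      haveI : Nontrivial (Subgroup.center ↥(P : Subgroup G)) := P.2.center_nontrivial
      obtain ⟨z, hz⟩ := exists_ne (1 : Subgroup.center ↥(P : Subgroup G))
      have hx1 : ((z : ↥(P : Subgroup G)) : G) ≠ 1 := by
        intro h
        apply hz
        apply Subtype.ext
        apply Subtype.ext
        exact h
      have h1 := hstar ((z : ↥(P : Subgroup G)) : G) (z : ↥(P : Subgroup G)).2 hx1
      rw [← hC] at h1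
      rw [← h1]
      intro q hq
      rw [Subgroup.mem_centralizer_singleton_iff]
      have h2 := Subgroup.mem_center_iff.mp z.2 ⟨q, hq⟩
      have h3 := congrArg Subtype.val h2
      rw [Subgroup.coe_mul, Subgroup.coe_mul] at h3
      exact h3
    · rw [not_nontrivial_iff_subsingleton] at hP1
      intro q hq
      have : (⟨q, hq⟩ : ↥(P : Subgroup G)) = 1 := Subsingleton.elim _ _
      have h1 : q = 1 := congrArg Subtype.val this
      rw [h1]
      exact C.one_mem
  have hPcomm : ∀ a ∈ (P : Subgroup G), ∀ b ∈ (P : Subgroup G), a * b = b * a :=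
    fun a ha b hb => (hCmem b).mp (hPC hb) a ha
  -- the Sylow subgroup of `C` and the transfer
  obtain ⟨P', hP'⟩ : ∃ P' : Sylow p ↥C, P' = P.subtype hPC := ⟨_, rfl⟩
  have hP'mem : ∀ c : ↥C, c ∈ (P' : Subgroup ↥C) ↔ (c : G) ∈ (P : Subgroup G) := by
    intro c
    rw [hP', Sylow.coe_subtype, Subgroup.mem_subgroupOf]
  have hcent : Subgroup.normalizer ((P' : Subgroup ↥C) : Set ↥C)
      ≤ Subgroup.centralizer ((P' : Subgroup ↥C) : Set ↥C) := by
    intro c _
    rw [Subgroup.mem_centralizer_iff]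
    intro q hq
    apply Subtype.ext
    rw [Subgroup.coe_mul, Subgroup.coe_mul]
    exact (hCmem c).mp c.2 q ((hP'mem q).mp hq)
  obtain ⟨K, hK⟩ : ∃ K : Subgroup ↥C, K = (MonoidHom.transferSylow P' hcent).ker := ⟨_, rfl⟩
  haveI hKn : K.Normal := by
    rw [hK]
    infer_instance
  have hcompl : Subgroup.IsComplement' K (P' : Subgroup ↥C) := by
    rw [hK]
    exact MonoidHom.ker_transferSylow_isComplement' P' hcent
  have hKp : ¬ p ∣ Nat.card K := by
    rw [hK]
    exact MonoidHom.not_dvd_card_ker_transferSylow P' hcent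
  obtain ⟨k, hk⟩ : ∃ k : ℕ, Nat.card (P' : Subgroup ↥C) = p ^ k :=
    (IsPGroup.iff_card.mp P'.2)
  have hKidx : K.index = p ^ k := by
    rw [← hk]
    exact hcompl.symm.index_eq_card
  have hKmem : ∀ c : ↥C, c ∈ K ↔ (orderOf (c : G)).Coprime p := by
    intro c
    rw [Subgroup.orderOf_coe]
    constructor
    · intro hc
      have h1 : orderOf c ∣ Nat.card K := by
        have := orderOf_dvd_natCard (⟨c, hc⟩ : K)
        rw [Subgroup.orderOf_mk] at this
        exact this
      rw [Nat.coprime_comm, hp.coprime_iff_not_dvd]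
      intro h2
      exact hKp (h2.trans h1)
    · intro hc
      exact mem_of_coprime_order K k hKidx c hc
  obtain ⟨V, hV⟩ : ∃ V : Subgroup G, V = K.map C.subtype := ⟨_, rfl⟩
  have hVmem : ∀ v : G, v ∈ V ↔ v ∈ C ∧ (orderOf v).Coprime p := by
    intro v
    rw [hV, Subgroup.mem_map]
    constructor
    · rintro ⟨c, hc, rfl⟩
      exact ⟨c.2, (hKmem c).mp hc⟩
    · rintro ⟨hvC, hvo⟩
      exact ⟨⟨v, hvC⟩, (hKmem ⟨v, hvC⟩).mpr hvo, rfl⟩
  have hNC : ∀ n ∈ Subgroup.normalizer ((P : Subgroup G) : Set G), ∀ c ∈ C,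
      n * c * n⁻¹ ∈ C := by
    intro n hn c hc
    rw [hCmem]
    intro q hq
    have hq' : n⁻¹ * q * n⁻¹⁻¹ ∈ (P : Subgroup G) :=
      (Subgroup.mem_normalizer_iff.mp (Subgroup.inv_mem _ hn) q).mp hq
    have h1 := (hCmem c).mp hc _ hq'
    calc q * (n * c * n⁻¹) = n * ((n⁻¹ * q * n⁻¹⁻¹) * c) * n⁻¹ := by group
      _ = n * (c * (n⁻¹ * q * n⁻¹⁻¹)) * n⁻¹ := by rw [h1]
      _ = n * c * n⁻¹ * q := by group
  refine ⟨V, ?_, ?_, ?_, ?_, ?_⟩
  · intro v hv
    exact ((hVmem v).mp hv).1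
  · rw [eq_bot_iff]
    intro x hx
    rw [Subgroup.mem_inf] at hx
    rw [Subgroup.mem_bot]
    obtain ⟨hxP, hxV⟩ := hx
    obtain ⟨hxC, hxo⟩ := (hVmem x).mp hxV
    obtain ⟨j, hj⟩ := (P.2 ⟨x, hxP⟩)
    have h1 : x ^ p ^ j = 1 := congrArg Subtype.val hj
    have h2 : orderOf x ∣ p ^ j := orderOf_dvd_of_pow_eq_one h1
    have h3 : orderOf x ∣ Nat.gcd (orderOf x) (p ^ j) := Nat.dvd_gcd dvd_rfl h2
    rw [Nat.Coprime.pow_right j hxo, Nat.dvd_one, orderOf_eq_one_iff] at h3
    exact h3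
  · apply le_antisymm
    · exact sup_le hPC (fun v hv => ((hVmem v).mp hv).1)
    · intro c hc
      have h1 : (⟨c, hc⟩ : ↥C) ∈ K ⊔ (P' : Subgroup ↥C) := by
        rw [hcompl.sup_eq_top]
        exact Subgroup.mem_top _
      rw [sup_comm] at h1
      have h2 : ((P' : Subgroup ↥C) ⊔ K).map C.subtype ≤ (P : Subgroup G) ⊔ V := by
        rw [Subgroup.map_sup, ← hV]
        apply sup_le_sup_right
        rintro _ ⟨q, hq, rfl⟩
        exact (hP'mem q).mp hq
      exact h2 ⟨⟨c, hc⟩, h1, rfl⟩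
  · intro n hn v hv
    obtain ⟨hvC, hvo⟩ := (hVmem v).mp hv
    rw [hVmem]
    refine ⟨hNC n hn v hvC, ?_⟩
    rw [orderOf_conj_eq]
    exact hvo
  · intro x hx v hv hx1 y hy
    obtain ⟨hvC, hvo⟩ := (hVmem v).mp hv
    have hxv : Commute x v := (hCmem v).mp hvC x hx
    obtain ⟨j, hj⟩ : ∃ j : ℕ, orderOf x = p ^ j := by
      obtain ⟨j, hj⟩ := (P.2 ⟨x, hx⟩)
      have h1 : x ^ p ^ j = 1 := congrArg Subtype.val hj
      obtain ⟨i, -, hi⟩ := (Nat.dvd_prime_pow hp).mp (orderOf_dvd_of_pow_eq_one h1)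
      exact ⟨i, hi⟩
    have hcop : (orderOf x).Coprime (orderOf v) := by
      rw [hj]
      exact Nat.Coprime.pow_left j hvo.symm
    obtain ⟨m, hm⟩ := exists_pow_eq x (orderOf v) hcop
    have hm1 := hm v hxv (pow_orderOf_eq_one v)
    -- `y x y⁻¹` lies in `P`
    have h1 : y * x * y⁻¹ ∈ Subgroup.normalizer ((P : Subgroup G) : Set G) := by
      rw [← hm1, ← conj_pow]
      exact Subgroup.pow_mem _ hy m
    have h2 : y * x * y⁻¹ ∈ (P : Subgroup G) :=
      mem_sylow_of_mem_normalizer P _ h1 j (by rw [orderOf_conj_eq, hj])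
    have h3 : y * x * y⁻¹ ≠ 1 := by
      intro h
      apply hx1
      calc x = y⁻¹ * (y * x * y⁻¹) * y := by group
        _ = 1 := by rw [h]; group
    have h4 := hstar _ h2 h3
    rw [← hC] at h4
    -- `y P y⁻¹ ≤ P`
    apply mem_normalizer_of_conj_le
    intro q hq
    have h5 : y * q * y⁻¹ ∈ C := by
      rw [← h4, Subgroup.mem_centralizer_singleton_iff]
      have := hPcomm q hq x hx
      calc y * q * y⁻¹ * (y * x * y⁻¹) = y * (q * x) * y⁻¹ := by group
        _ = y * (x * q) * y⁻¹ := by rw [this]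
        _ = y * x * y⁻¹ * (y * q * y⁻¹) := by group
    have h6 : y * q * y⁻¹ ∈ Subgroup.normalizer ((P : Subgroup G) : Set G) := by
      rw [hC] at h5
      exact Subgroup.centralizer_le_normalizer _ h5
    obtain ⟨i, hi⟩ : ∃ i : ℕ, orderOf q = p ^ i := by
      obtain ⟨i, hi⟩ := (P.2 ⟨q, hq⟩)
      have h1 : q ^ p ^ i = 1 := congrArg Subtype.val hi
      obtain ⟨i', -, hi'⟩ := (Nat.dvd_prime_pow hp).mp (orderOf_dvd_of_pow_eq_one h1)
      exact ⟨i', hi'⟩
    exact mem_sylow_of_mem_normalizer P _ h6 i (by rw [orderOf_conj_eq, hi])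

/-- Burnside's normal `p`-complement, as a normal subgroup of index `|P|`. -/
theorem exists_normal_index (p : ℕ) [Fact p.Prime] (P : Sylow p G)
    (h : Subgroup.normalizer ((P : Subgroup G) : Set G)
      ≤ Subgroup.centralizer ((P : Subgroup G) : Set G)) :
    ∃ K : Subgroup G, K.Normal ∧ K.index = Nat.card P := by
  refine ⟨(MonoidHom.transferSylow P h).ker, inferInstance, ?_⟩
  exact (MonoidHom.ker_transferSylow_isComplement' P h).symm.index_eq_card

end Cfsg.Agent.Lib.helper3.BLStruct
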