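import Mathlib
import Cfsg.Prelude.Def_Characters
import Cfsg.Agent.Lib.helper3.NilpPow
import Cfsg.Agent.Lib.helper3.BrauerInd5
import Cfsg.Agent.Lib.helper3.BrauerChar

/-!
# The Brauer–Suzuki transfer theorem, part 1: the power maps and the extension of class functions
-/

set_option autoImplicit false
set_option linter.style.haveILetI false
set_option linter.unusedSectionVars false

namespace Cfsg.Agent.Lib.helper3.BST

open Cfsg Cfsg.Agent.Lib.helper3.NilpPow Cfsg.Agent.Lib.helper3.BrauerInd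
open Cfsg.Agent.Lib.helper3.Irr
open scoped ComplexConjugate

universe u

/-- The hypotheses of the transfer theorem, with chosen exponents `b` (projection onto the
`H`-part) and `c` (projection onto the complementary part). -/
structure Setup {G : Type u} [Group G] (H : Subgroup G) (m n b c : ℕ) : Prop where
  hm : Nat.card H = m
  hn : H.index = n
  hcop : Nat.Coprime m n
  hbn : n ∣ b
  hbm : b ≡ 1 [MOD m]
  hcm : m ∣ c
  hcn : c ≡ 1 [MOD n]
  hfus : ∀ x ∈ H, ∀ y ∈ H, IsConj x y → ∃ h ∈ H, h * x * h⁻¹ = y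
  helem : ∀ (E : Subgroup G) (p : ℕ), p.Prime → IsElementary p E → Nat.card E ∣ Nat.card H →
    ∃ g : G, E.map (MulAut.conj g).toMonoidHom ≤ H

section basic

variable {G : Type u} [Group G] [Finite G] {H : Subgroup G} {m n b c : ℕ}

theorem Setup.card_eq (S : Setup H m n b c) : Nat.card G = m * n := by
  rw [← S.hm, ← S.hn]; exact (Subgroup.card_mul_index H).symm

theorem Setup.pow_card (S : Setup H m n b c) (g : G) : g ^ (m * n) = 1 := by
  rw [← S.card_eq]; exact pow_card_eq_one'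

theorem Setup.pow_b_pow (S : Setup H m n b c) (g : G) : (g ^ b) ^ m = 1 := by
  obtain ⟨k, hk⟩ := S.hbn
  rw [← pow_mul, hk, mul_comm n k, mul_assoc, mul_comm n m, mul_comm k, pow_mul, S.pow_card,
    one_pow]

theorem Setup.pow_c_pow (S : Setup H m n b c) (g : G) : (g ^ c) ^ n = 1 := by
  obtain ⟨k, hk⟩ := S.hcm
  rw [← pow_mul, hk, mul_comm m k, mul_assoc, mul_comm k, pow_mul, S.pow_card, one_pow]

theorem Setup.pow_b_of_pow_m (S : Setup H m n b c) {x : G} (hx : x ^ m = 1) : x ^ b = x := by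
  have h1 : orderOf x ∣ m := orderOf_dvd_of_pow_eq_one hx
  have h3 : b ≡ 1 [MOD orderOf x] := S.hbm.of_dvd h1
  have := pow_eq_pow_iff_modEq.mpr h3
  rw [pow_one] at this
  exact this

theorem Setup.pow_c_of_pow_n (S : Setup H m n b c) {x : G} (hx : x ^ n = 1) : x ^ c = x := by
  have h1 : orderOf x ∣ n := orderOf_dvd_of_pow_eq_one hx
  have h3 : c ≡ 1 [MOD orderOf x] := S.hcn.of_dvd h1
  have := pow_eq_pow_iff_modEq.mpr h3
  rw [pow_one] at this
  exact this

theorem Setup.pow_b_of_pow_n (S : Setup H m n b c) {x : G} (hx : x ^ n = 1) : x ^ b = 1 := by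
  obtain ⟨k, hk⟩ := S.hbn
  rw [hk, pow_mul, hx, one_pow]

theorem Setup.pow_c_of_pow_m (S : Setup H m n b c) {x : G} (hx : x ^ m = 1) : x ^ c = 1 := by
  obtain ⟨k, hk⟩ := S.hcm
  rw [hk, pow_mul, hx, one_pow]

theorem Setup.add_modEq (S : Setup H m n b c) : b + c ≡ 1 [MOD m * n] := by
  rw [← Nat.modEq_and_modEq_iff_modEq_mul S.hcop]
  constructor
  · have h0 : c ≡ 0 [MOD m] := (Nat.modEq_zero_iff_dvd).mpr S.hcm
    have := S.hbm.add h0
    simpa using this
  · have h0 : b ≡ 0 [MOD n] := (Nat.modEq_zero_iff_dvd).mpr S.hbn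
    have := h0.add S.hcn
    simpa using this

theorem Setup.pow_b_mul_pow_c (S : Setup H m n b c) (g : G) : g ^ b * g ^ c = g := by
  rw [← pow_add]
  have h1 : orderOf g ∣ m * n := orderOf_dvd_of_pow_eq_one (S.pow_card g)
  have h3 : b + c ≡ 1 [MOD orderOf g] := S.add_modEq.of_dvd h1
  have := pow_eq_pow_iff_modEq.mpr h3
  rw [pow_one] at this
  exact this

theorem Setup.pow_m_of_mem (S : Setup H m n b c) {h : G} (hh : h ∈ H) : h ^ m = 1 := by
  have : (⟨h, hh⟩ : H) ^ m = 1 := by rw [← S.hm]; exact pow_card_eq_one'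
  have h2 := congrArg (Subtype.val) this
  simpa using h2

theorem Setup.pow_b_pow_b (S : Setup H m n b c) (g : G) : (g ^ b) ^ b = g ^ b :=
  S.pow_b_of_pow_m (S.pow_b_pow g)

/-- Cyclic subgroups are elementary for every prime. -/
theorem isElementary_zpowers (y : G) (p : ℕ) [hp : Fact p.Prime] :
    IsElementary p (Subgroup.zpowers y) := by
  obtain ⟨a, r, hr, hN⟩ := Nat.exists_eq_pow_mul_and_not_dvd (orderOf_pos y).ne' p hp.out.ne_one
  apply isElementary_of (Subgroup.zpowers y) (y ^ p ^ a)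
  · exact Subgroup.pow_mem _ (Subgroup.mem_zpowers y) _
  · intro e he
    obtain ⟨i, rfl⟩ := Subgroup.mem_zpowers_iff.mp he
    rw [← zpow_natCast y (p ^ a)]
    exact (Commute.zpow_zpow_self y _ _).eq
  · rw [orderOf_pow' y (pow_ne_zero a hp.out.ne_zero), hN, Nat.gcd_mul_right_left]
    rw [Nat.mul_div_cancel_left _ (pow_pos hp.out.pos a)]
    exact ((Nat.Prime.coprime_iff_not_dvd hp.out).mpr hr).symm
  · intro e he
    obtain ⟨i, rfl⟩ := Subgroup.mem_zpowers_iff.mp he
    refine ⟨a, ?_⟩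
    rw [Subgroup.mem_zpowers_iff]
    refine ⟨i, ?_⟩
    rw [← zpow_natCast, ← zpow_natCast, ← zpow_mul, ← zpow_mul, mul_comm]

/-- The `b`-th power of any element is conjugate to an element of `H`. -/
theorem Setup.exists_conj_mem (S : Setup H m n b c) (g : G) :
    ∃ h : H, IsConj (g ^ b) (h : G) := by
  haveI : Fact (Nat.Prime 2) := ⟨Nat.prime_two⟩
  have hel := isElementary_zpowers (g ^ b) 2
  have hcard : Nat.card (Subgroup.zpowers (g ^ b)) ∣ Nat.card H := by
    rw [Nat.card_zpowers, S.hm]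
    exact orderOf_dvd_of_pow_eq_one (S.pow_b_pow g)
  obtain ⟨x, hx⟩ := S.helem _ 2 Nat.prime_two hel hcard
  have hmem : x * g ^ b * x⁻¹ ∈ H := by
    apply hx
    refine ⟨g ^ b, Subgroup.mem_zpowers _, ?_⟩
    simp [MulAut.conj_apply]
  exact ⟨⟨_, hmem⟩, isConj_iff.mpr ⟨x, rfl⟩⟩

end basic

end Cfsg.Agent.Lib.helper3.BST
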