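import Mathlib
import Cfsg.Prelude.Def_Characters
import Cfsg.Agent.Lib.helper3.BST1

/-!
# The Brauer–Suzuki transfer theorem, part 2: extended class functions are generalized characters
-/

set_option autoImplicit false
set_option linter.style.haveILetI false
set_option linter.unusedSectionVars false

namespace Cfsg.Agent.Lib.helper3.BST

open Cfsg Cfsg.Agent.Lib.helper3.NilpPow Cfsg.Agent.Lib.helper3.BrauerInd
open Cfsg.Agent.Lib.helper3.Irr
open scoped ComplexConjugate

universe u

section tilde

variable {G : Type u} [Group G] [Finite G] {H : Subgroup G} {m n b c : ℕ}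

/-- The chosen element of `H` conjugate to the `b`-th power of `g`. -/
noncomputable def Setup.hpart (S : Setup H m n b c) (g : G) : H :=
  Classical.choose (S.exists_conj_mem g)

theorem Setup.hpart_spec (S : Setup H m n b c) (g : G) : IsConj (g ^ b) (S.hpart g : G) :=
  Classical.choose_spec (S.exists_conj_mem g)

/-- The extension of a function on `H` to `G`. -/
noncomputable def Setup.tilde (S : Setup H m n b c) (θ : H → ℂ) : G → ℂ :=
  fun g => θ (S.hpart g)

/-- A class function of `H` is invariant under `G`-fusion. -/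
theorem Setup.apply_eq_of_isConj (S : Setup H m n b c) {θ : H → ℂ} (hθ : IsClassFunction H θ)
    {h₁ h₂ : H} (hc : IsConj (h₁ : G) (h₂ : G)) : θ h₁ = θ h₂ := by
  obtain ⟨k, hk, hkk⟩ := S.hfus h₁ h₁.2 h₂ h₂.2 hc
  have : h₂ = (⟨k, hk⟩ : H) * h₁ * (⟨k, hk⟩ : H)⁻¹ := Subtype.ext hkk.symm
  rw [this, hθ]

theorem Setup.tilde_eq (S : Setup H m n b c) {θ : H → ℂ} (hθ : IsClassFunction H θ) (g : G)
    (h : H) (hc : IsConj (g ^ b) (h : G)) : S.tilde θ g = θ h := by
  unfold Setup.tilde
  apply S.apply_eq_of_isConj hθ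
  exact (S.hpart_spec g).symm.trans hc

theorem Setup.isClassFunction_tilde (S : Setup H m n b c) {θ : H → ℂ}
    (hθ : IsClassFunction H θ) : IsClassFunction G (S.tilde θ) := by
  intro g x
  apply S.tilde_eq hθ
  have h1 : (x * g * x⁻¹) ^ b = x * g ^ b * x⁻¹ := conj_pow
  rw [h1]
  have h2 : IsConj (g ^ b) (x * g ^ b * x⁻¹) := isConj_iff.mpr ⟨x, rfl⟩
  exact h2.symm.trans (S.hpart_spec g)

theorem Setup.tilde_apply_mem (S : Setup H m n b c) {θ : H → ℂ} (hθ : IsClassFunction H θ)
    (h : H) : S.tilde θ (h : G) = θ h := by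
  apply S.tilde_eq hθ
  rw [S.pow_b_of_pow_m (S.pow_m_of_mem h.2)]

theorem Setup.tilde_pow_b (S : Setup H m n b c) {θ : H → ℂ} (hθ : IsClassFunction H θ)
    (g : G) : S.tilde θ (g ^ b) = S.tilde θ g := by
  apply S.tilde_eq hθ
  rw [S.pow_b_pow_b]
  exact S.hpart_spec g

theorem Setup.tilde_one (S : Setup H m n b c) : S.tilde (fun _ : H => (1 : ℂ)) = fun _ => 1 := rfl

/-- The restriction of the extension to an elementary subgroup is a character. -/
theorem Setup.isCharacter_tilde_restrict (S : Setup H m n b c) {θ : H → ℂ}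
    (hθ : IsCharacter H θ) (E : Subgroup G) (p : ℕ) (hp : p.Prime) (hE : IsElementary p E) :
    IsCharacter E (fun e : E => S.tilde θ (e : G)) := by
  haveI : Fact p.Prime := ⟨hp⟩
  have hθc : IsClassFunction H θ := isClassFunction_of_isCharacter hθ
  haveI hnil : Group.IsNilpotent E := isNilpotent_of_isElementary hE
  have hcardE : Nat.card E ∣ n * m := by
    rw [mul_comm, ← S.card_eq]; exact Subgroup.card_subgroup_dvd_card E
  obtain ⟨π, hπ⟩ : ∃ π : E →* E, ∀ x, π x = x ^ b :=
    ⟨powHom n m b hcardE S.hcop.symm S.hbn S.hbm, fun x => rfl⟩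
  -- the image of the power map, as a subgroup of `G`
  obtain ⟨E', hE'⟩ : ∃ E' : Subgroup G, E' = (π.range).map E.subtype := ⟨_, rfl⟩
  have hel1 : IsElementary p π.range := isElementary_subgroup hE π.range
  have hel2 : IsElementary p E' := by
    rw [hE']
    exact isElementary_of_mulEquiv
      (Subgroup.equivMapOfInjective π.range E.subtype E.subtype_injective) hel1
  have hcardE' : Nat.card E' ∣ Nat.card H := by
    rw [S.hm]
    apply card_dvd_of_forall_pow n m
    · rw [mul_comm, ← S.card_eq]; exact Subgroup.card_subgroup_dvd_card E'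
    · exact S.hcop.symm
    · rintro ⟨v, hv⟩
      rw [hE'] at hv
      obtain ⟨w, ⟨e, rfl⟩, rfl⟩ := hv
      apply Subtype.ext
      simp only [Subgroup.coe_pow, Subgroup.coe_one, Subgroup.coe_subtype, hπ]
      exact S.pow_b_pow (e : G)
  obtain ⟨x, hx⟩ := S.helem E' p hp hel2 hcardE'
  have hmem : ∀ e : E, x * (e : G) ^ b * x⁻¹ ∈ H := by
    intro e
    apply hx
    refine ⟨(e : G) ^ b, ?_, ?_⟩
    · rw [hE']
      refine ⟨π e, ⟨e, rfl⟩, ?_⟩
      simp [hπ]
    · simp [MulAut.conj_apply]
  obtain ⟨f, hf⟩ : ∃ f : E →* H, ∀ e : E, ((f e : H) : G) = x * (e : G) ^ b * x⁻¹ := by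
    refine ⟨((MulAut.conj x).toMonoidHom.comp (E.subtype.comp π)).codRestrict H ?_, ?_⟩
    · intro e
      have := hmem e
      simpa [hπ, MulAut.conj_apply] using this
    · intro e
      simp [hπ, MulAut.conj_apply]
  have heq : (fun e : E => S.tilde θ (e : G)) = fun e : E => θ (f e) := by
    funext e
    apply S.tilde_eq hθc
    rw [hf]
    exact isConj_iff.mpr ⟨x, rfl⟩
  rw [heq]
  exact isCharacter_comp hθ f

/-- The extension of a character of `H` is a generalized character of `G`. -/
theorem Setup.isGeneralizedCharacter_tilde [Fintype G] (S : Setup H m n b c) {θ : H → ℂ}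
    (hθ : IsCharacter H θ) : IsGeneralizedCharacter G (S.tilde θ) := by
  apply brauer_characterization _ (S.isClassFunction_tilde (isClassFunction_of_isCharacter hθ))
  intro E p hp hE
  refine ⟨_, 0, S.isCharacter_tilde_restrict hθ E p hp hE, isCharacter_zero, ?_⟩
  rw [sub_zero]

end tilde

end Cfsg.Agent.Lib.helper3.BST
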