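import Mathlib
import Cfsg.Prelude.Def_Characters
import Cfsg.Agent.Lib.helper3.BST2
import Cfsg.Agent.Lib.Helper4.FrobDiv

/-!
# The Brauer–Suzuki transfer theorem, part 3: centralizers
-/

set_option autoImplicit false
set_option linter.style.haveILetI false
set_option linter.unusedSectionVars false

namespace Cfsg.Agent.Lib.helper3.BST

open Cfsg Cfsg.Agent.Lib.helper3.NilpPow Cfsg.Agent.Lib.helper3.BrauerInd
open Cfsg.Agent.Lib.helper3.Irr
open scoped ComplexConjugate

universe u

section cent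

variable {G : Type u} [Group G] [Finite G] {H : Subgroup G} {m n b c : ℕ}

/-- A Sylow subgroup (for a prime dividing the order of `H`) of the centralizer of an element
of `H` has order dividing that of the centralizer in `H`. -/
theorem Setup.sylow_card_dvd (S : Setup H m n b c) {h : G} (hh : h ∈ H) (p : ℕ)
    [hp : Fact p.Prime] (hpm : p ∣ m)
    (P : Sylow p (Subgroup.centralizer ({h} : Set G))) :
    Nat.card P ∣ Nat.card (H ⊓ Subgroup.centralizer ({h} : Set G) : Subgroup G) := by
  obtain ⟨C, hC⟩ : ∃ C : Subgroup G, C = Subgroup.centralizer ({h} : Set G) := ⟨_, rfl⟩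
  subst hC
  have hmemC : ∀ {x : G}, x ∈ Subgroup.centralizer ({h} : Set G) ↔ h * x = x * h := by
    intro x
    rw [Subgroup.mem_centralizer_iff]
    simp only [Set.mem_singleton_iff, forall_eq]
  have hhC : h ∈ Subgroup.centralizer ({h} : Set G) := hmemC.mpr rfl
  obtain ⟨hc, hhc⟩ : ∃ hc : Subgroup.centralizer ({h} : Set G), (hc : G) = h := ⟨⟨h, hhC⟩, rfl⟩
  have hcen : ∀ x : Subgroup.centralizer ({h} : Set G), x * hc = hc * x := by
    intro x
    apply Subtype.ext
    simp only [Subgroup.coe_mul, hhc]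
    exact (hmemC.mp x.2).symm
  haveI hZn : (Subgroup.zpowers hc).Normal := by
    constructor
    intro z hz g
    obtain ⟨i, rfl⟩ := Subgroup.mem_zpowers_iff.mp hz
    have : g * hc ^ i * g⁻¹ = hc ^ i := by
      have h1 : Commute g hc := hcen g
      rw [(h1.zpow_right i).eq, mul_inv_cancel_right]
    rw [this]
    exact hz
  obtain ⟨EC, hEC⟩ : ∃ EC : Subgroup (Subgroup.centralizer ({h} : Set G)),
      EC = (P : Subgroup _) ⊔ Subgroup.zpowers hc := ⟨_, rfl⟩
  have hECmem : ∀ e ∈ EC, ∃ u ∈ (P : Subgroup _), ∃ i : ℤ, u * hc ^ i = e := by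
    intro e he
    rw [hEC, Subgroup.mem_sup_of_normal_right] at he
    obtain ⟨u, hu, z, hz, rfl⟩ := he
    obtain ⟨i, rfl⟩ := Subgroup.mem_zpowers_iff.mp hz
    exact ⟨u, hu, i, rfl⟩
  -- the order of `P` divides `m`
  have hcardC : Nat.card (Subgroup.centralizer ({h} : Set G)) ∣ n * m := by
    rw [mul_comm, ← S.card_eq]; exact Subgroup.card_subgroup_dvd_card _
  have hpn : Nat.Coprime p n := by
    rw [Nat.Prime.coprime_iff_not_dvd hp.out]
    intro hn
    exact Nat.Prime.not_dvd_one hp.out (S.hcop ▸ Nat.dvd_gcd hpm hn)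
  have hPm : Nat.card P ∣ m := by
    have h1 : Nat.card P ∣ n * m := dvd_trans (Subgroup.card_subgroup_dvd_card _) hcardC
    obtain ⟨k, hk⟩ := IsPGroup.iff_card.mp P.isPGroup'
    rw [hk] at h1 ⊢
    exact (Nat.Coprime.pow_left k hpn).dvd_of_dvd_mul_left h1
  have hhm : hc ^ m = 1 := by
    apply Subtype.ext
    simp only [Subgroup.coe_pow, hhc, Subgroup.coe_one]
    exact S.pow_m_of_mem hh
  have hECpow : ∀ e ∈ EC, e ^ m = 1 := by
    intro e he
    obtain ⟨u, hu, i, rfl⟩ := hECmem e he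
    have hcomm : Commute u (hc ^ i) := (show Commute u hc from hcen u).zpow_right i
    rw [hcomm.mul_pow]
    have h1 : u ^ m = 1 := by
      have h2 : (⟨u, hu⟩ : (P : Subgroup _)) ^ Nat.card P = 1 := pow_card_eq_one'
      have h3 : u ^ Nat.card P = 1 := by
        have := congrArg Subtype.val h2
        simp only [SubgroupClass.coe_pow, OneMemClass.coe_one] at this
        exact this
      obtain ⟨k, hk⟩ := hPm
      rw [hk, pow_mul, h3, one_pow]
    rw [h1, one_mul, ← zpow_natCast, ← zpow_mul, mul_comm, zpow_mul, zpow_natCast, hhm, one_zpow]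
  -- `EC` is elementary
  obtain ⟨a, r, hr, hN⟩ := Nat.exists_eq_pow_mul_and_not_dvd (orderOf_pos hc).ne' p hp.out.ne_one
  have helEC : IsElementary p EC := by
    apply isElementary_of EC (hc ^ p ^ a)
    · rw [hEC]
      exact (le_sup_right : Subgroup.zpowers hc ≤ _)
        (Subgroup.pow_mem _ (Subgroup.mem_zpowers hc) _)
    · intro e _
      exact ((show Commute e hc from hcen e).pow_right _).eq
    · rw [orderOf_pow' hc (pow_ne_zero a hp.out.ne_zero), hN, Nat.gcd_mul_right_left]
      rw [Nat.mul_div_cancel_left _ (pow_pos hp.out.pos a)]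
      exact ((Nat.Prime.coprime_iff_not_dvd hp.out).mpr hr).symm
    · intro e he
      obtain ⟨u, hu, i, rfl⟩ := hECmem e he
      obtain ⟨j, hj⟩ := P.isPGroup' ⟨u, hu⟩
      have hj' : u ^ p ^ j = 1 := by
        have := congrArg Subtype.val hj
        simpa using this
      refine ⟨j + a, ?_⟩
      have hcomm : Commute u (hc ^ i) := (show Commute u hc from hcen u).zpow_right i
      rw [hcomm.mul_pow, pow_add, pow_mul, hj', one_pow, one_mul, Subgroup.mem_zpowers_iff]
      refine ⟨i * (p ^ j : ℕ), ?_⟩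
      rw [← zpow_natCast (hc ^ i), ← zpow_natCast hc, ← zpow_mul, ← zpow_mul]
      congr 1
      push_cast
      ring
  obtain ⟨E, hE⟩ : ∃ E : Subgroup G, E = EC.map (Subgroup.subtype _) := ⟨_, rfl⟩
  have helE : IsElementary p E := by
    rw [hE]
    exact isElementary_of_mulEquiv
      (Subgroup.equivMapOfInjective EC (Subgroup.subtype _) (Subgroup.subtype_injective _)) helEC
  have hcardE : Nat.card E ∣ Nat.card H := by
    rw [S.hm]
    apply card_dvd_of_forall_pow n m
    · rw [mul_comm, ← S.card_eq]; exact Subgroup.card_subgroup_dvd_card E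
    · exact S.hcop.symm
    · rintro ⟨v, hv⟩
      rw [hE] at hv
      obtain ⟨w, hw, rfl⟩ := hv
      apply Subtype.ext
      have := congrArg Subtype.val (hECpow w hw)
      simpa using this
  obtain ⟨g, hg⟩ := S.helem E p hp.out helE hcardE
  have hconjmem : ∀ w ∈ EC, g * (w : G) * g⁻¹ ∈ H := by
    intro w hw
    apply hg
    refine ⟨(w : G), ?_, ?_⟩
    · rw [hE]; exact ⟨w, hw, rfl⟩
    · simp [MulAut.conj_apply]
  have hhEC : hc ∈ EC := by
    rw [hEC]
    exact (le_sup_right : Subgroup.zpowers hc ≤ _) (Subgroup.mem_zpowers hc)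
  have h1 := hconjmem hc hhEC
  rw [hhc] at h1
  obtain ⟨k, hk, hkk⟩ := S.hfus _ h1 _ hh (isConj_iff.mpr ⟨g, rfl⟩).symm
  obtain ⟨t, ht⟩ : ∃ t : G, t = k * g := ⟨_, rfl⟩
  have htC : h * t = t * h := by
    have : t * h * t⁻¹ = h := by
      calc t * h * t⁻¹ = k * (g * h * g⁻¹) * k⁻¹ := by rw [ht]; group
        _ = h := hkk
    calc h * t = (t * h * t⁻¹) * t := by rw [this]
      _ = t * h := by group
  -- the conjugate of `P` by `t` lies in the centralizer in `H`
  obtain ⟨P', hP'⟩ : ∃ P' : Subgroup G,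
      P' = ((P : Subgroup (Subgroup.centralizer ({h} : Set G))).map
        (Subgroup.centralizer ({h} : Set G)).subtype).map
      (MulAut.conj t).toMonoidHom := ⟨_, rfl⟩
  have hcardP' : Nat.card P' = Nat.card P := by
    rw [hP', Subgroup.card_map_of_injective (MulAut.conj t).injective,
      Subgroup.card_map_of_injective (Subgroup.subtype_injective _)]
  have hkey : ∀ u : Subgroup.centralizer ({h} : Set G), u ∈ (P : Subgroup _) →
      t * (u : G) * t⁻¹ ∈ H ∧ t * (u : G) * t⁻¹ ∈ Subgroup.centralizer ({h} : Set G) := by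
    intro u hu
    have huEC : u ∈ EC := by rw [hEC]; exact Subgroup.mem_sup_left hu
    refine ⟨?_, ?_⟩
    · have h2 := hconjmem u huEC
      have h3 : t * (u : G) * t⁻¹ = k * (g * (u : G) * g⁻¹) * k⁻¹ := by rw [ht]; group
      rw [h3]
      exact H.mul_mem (H.mul_mem hk h2) (H.inv_mem hk)
    · rw [hmemC]
      have hu' : h * (u : G) = (u : G) * h := hmemC.mp u.2
      have htinv : t⁻¹ * h = h * t⁻¹ := by
        calc t⁻¹ * h = t⁻¹ * (h * t) * t⁻¹ := by group
          _ = t⁻¹ * (t * h) * t⁻¹ := by rw [htC]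
          _ = h * t⁻¹ := by group
      calc h * (t * (u : G) * t⁻¹) = (h * t) * (u : G) * t⁻¹ := by group
        _ = t * (h * (u : G)) * t⁻¹ := by rw [htC]; group
        _ = t * (u : G) * (h * t⁻¹) := by rw [hu']; group
        _ = t * (u : G) * t⁻¹ * h := by rw [← htinv]; group
  have hle : P' ≤ H ⊓ Subgroup.centralizer ({h} : Set G) := by
    intro x hx
    rw [hP'] at hx
    obtain ⟨y, hy, rfl⟩ := hx
    obtain ⟨u, hu, rfl⟩ := hy
    have := hkey u hu
    exact Subgroup.mem_inf.mpr this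
  rw [← hcardP']
  exact Subgroup.card_dvd_of_le hle

/-- The index of the centralizer in `H` in the full centralizer divides `n`. -/
theorem Setup.card_centralizer_dvd (S : Setup H m n b c) {h : G} (hh : h ∈ H) :
    Nat.card (Subgroup.centralizer ({h} : Set G)) ∣
      Nat.card (H ⊓ Subgroup.centralizer ({h} : Set G) : Subgroup G) *
        Nat.gcd n (Nat.card (Subgroup.centralizer ({h} : Set G))) := by
  obtain ⟨cG, hcG⟩ : ∃ cG : ℕ, cG = Nat.card (Subgroup.centralizer ({h} : Set G)) := ⟨_, rfl⟩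
  obtain ⟨cH, hcH⟩ : ∃ cH : ℕ,
      cH = Nat.card (H ⊓ Subgroup.centralizer ({h} : Set G) : Subgroup G) := ⟨_, rfl⟩
  rw [← hcG, ← hcH]
  have hdvd : cH ∣ cG := by
    rw [hcG, hcH]; exact Subgroup.card_dvd_of_le inf_le_right
  obtain ⟨d, hd⟩ := hdvd
  have hcG0 : cG ≠ 0 := by rw [hcG]; exact Nat.card_pos.ne'
  have hcGmn : cG ∣ m * n := by
    rw [hcG, ← S.card_eq]; exact Subgroup.card_subgroup_dvd_card _
  have hcop : Nat.Coprime d m := by
    apply Nat.coprime_of_dvd
    intro p hp hpd hpm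
    haveI : Fact p.Prime := ⟨hp⟩
    obtain ⟨P⟩ : Nonempty (Sylow p (Subgroup.centralizer ({h} : Set G))) := inferInstance
    have h1 := S.sylow_card_dvd hh p hpm P
    rw [Sylow.card_eq_multiplicity, ← hcG, ← hcH] at h1
    have h2 : p ^ (cG.factorization p + 1) ∣ cG := by
      rw [pow_succ]
      conv_rhs => rw [hd]
      exact mul_dvd_mul h1 hpd
    exact Nat.pow_succ_factorization_not_dvd hcG0 hp h2
  have hdn : d ∣ n := by
    have h1 : d ∣ m * n := dvd_trans ⟨cH, by rw [hd, mul_comm]⟩ hcGmn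
    exact hcop.dvd_of_dvd_mul_left h1
  have hdg : d ∣ Nat.gcd n cG := Nat.dvd_gcd hdn ⟨cH, by rw [hd, mul_comm]⟩
  have h9 : cH * d ∣ cH * Nat.gcd n cG := mul_dvd_mul_left cH hdg
  rwa [← hd] at h9

/-- The number of elements of the centralizer of `x` of order dividing `n`. -/
noncomputable def Ncount (n : ℕ) (x : G) : ℕ :=
  Nat.card {y : G // y ∈ Subgroup.centralizer ({x} : Set G) ∧ y ^ n = 1}

theorem Ncount_pos (n : ℕ) (x : G) : 0 < Ncount n x := by
  unfold Ncount
  haveI : Nonempty {y : G // y ∈ Subgroup.centralizer ({x} : Set G) ∧ y ^ n = 1} :=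
    ⟨⟨1, Subgroup.one_mem _, one_pow n⟩⟩
  exact Nat.card_pos

/-- Frobenius' theorem in the centralizer. -/
theorem gcd_dvd_Ncount (n : ℕ) (x : G) :
    Nat.gcd n (Nat.card (Subgroup.centralizer ({x} : Set G))) ∣ Ncount n x := by
  have h1 := Cfsg.Agent.Lib.Helper4.FrobDiv.frobenius_gcd_dvd
    (G := Subgroup.centralizer ({x} : Set G)) n
  have h2 : Nat.card {g : Subgroup.centralizer ({x} : Set G) // g ^ n = 1} = Ncount n x := by
    unfold Ncount
    apply Nat.card_congr
    refine ⟨fun y => ⟨(y.1 : G), y.1.2, ?_⟩, fun y => ⟨⟨y.1, y.2.1⟩, ?_⟩, ?_, ?_⟩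
    · have := congrArg Subtype.val y.2
      simpa using this
    · apply Subtype.ext
      simpa using y.2.2
    · intro y; rfl
    · intro y; rfl
  rw [← h2]
  exact h1

/-- The key divisibility. -/
theorem Setup.card_centralizer_dvd_mul (S : Setup H m n b c) {h : G} (hh : h ∈ H) :
    Nat.card (Subgroup.centralizer ({h} : Set G)) ∣
      Nat.card (H ⊓ Subgroup.centralizer ({h} : Set G) : Subgroup G) * Ncount n h :=
  dvd_trans (S.card_centralizer_dvd hh) (mul_dvd_mul_left _ (gcd_dvd_Ncount n h))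

end cent

end Cfsg.Agent.Lib.helper3.BST
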