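import Mathlib
import Cfsg.Prelude.Def_Characters
import Cfsg.Agent.Lib.helper3.BST3
import Cfsg.Agent.Lib.helper3.Irr7

/-!
# The Brauer–Suzuki transfer theorem, part 4: counting
-/

set_option autoImplicit false
set_option linter.style.haveILetI false
set_option linter.unusedSectionVars false

namespace Cfsg.Agent.Lib.helper3.BST

open Cfsg Cfsg.Agent.Lib.helper3.NilpPow Cfsg.Agent.Lib.helper3.BrauerInd
open Cfsg.Agent.Lib.helper3.Irr
open scoped ComplexConjugate

universe u

section count

theorem natCard_subtype_eq_sum {α : Type*} [Fintype α] (p : α → Prop) [DecidablePred p] :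
    Nat.card {a // p a} = ∑ a, if p a then 1 else 0 := by
  rw [Nat.card_eq_fintype_card, Fintype.card_subtype, Finset.card_filter]

theorem sum_card_fiber {α β : Type*} [Fintype α] [Fintype β] [DecidableEq β] (f : α → β) :
    ∑ y : β, Nat.card {a // f a = y} = Nat.card α := by
  classical
  simp_rw [natCard_subtype_eq_sum]
  rw [Finset.sum_comm]
  simp [Nat.card_eq_fintype_card]

theorem mem_centralizer_singleton {K : Type*} [Group K] {x y : K} :
    y ∈ Subgroup.centralizer ({x} : Set K) ↔ x * y = y * x := by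
  rw [Subgroup.mem_centralizer_iff]
  simp only [Set.mem_singleton_iff, forall_eq]

variable {G : Type u} [Group G] [Fintype G] {H : Subgroup G} [Fintype H] {m n b c : ℕ}

/-- The fibers of the power map. -/
theorem Setup.card_fiber (S : Setup H m n b c) {x : G} (hx : x ^ m = 1) :
    Nat.card {g : G // g ^ b = x} = Ncount n x := by
  unfold Ncount
  apply Nat.card_congr
  refine ⟨fun g => ⟨g.1 ^ c, ?_, S.pow_c_pow g.1⟩, fun y => ⟨x * y.1, ?_⟩, ?_, ?_⟩
  · obtain ⟨g, hg⟩ := g
    rw [mem_centralizer_singleton]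
    show x * g ^ c = g ^ c * x
    rw [← hg]
    exact (Commute.pow_pow_self g b c).eq
  · have hy : Commute x y.1 := mem_centralizer_singleton.mp y.2.1
    rw [hy.mul_pow, S.pow_b_of_pow_m hx, S.pow_b_of_pow_n y.2.2, mul_one]
  · intro g
    apply Subtype.ext
    obtain ⟨g, hg⟩ := g
    show x * g ^ c = g
    rw [← hg]
    exact S.pow_b_mul_pow_c g
  · intro y
    apply Subtype.ext
    show (x * y.1) ^ c = y.1
    have hy : Commute x y.1 := mem_centralizer_singleton.mp y.2.1
    rw [hy.mul_pow, S.pow_c_of_pow_m hx, S.pow_c_of_pow_n y.2.2, one_mul]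

/-- The elements of `H` conjugate to the `b`-th power of `g`, weighted by their centralizer
orders in `H`, count `H`. -/
theorem Setup.sum_centralizer (S : Setup H m n b c) [DecidableEq G]
    [∀ g : G, DecidablePred fun h : H => IsConj (g ^ b) (h : G)] (g : G) :
    ∑ h : H, (if IsConj (g ^ b) (h : G) then
      Nat.card (Subgroup.centralizer ({h} : Set H)) else 0) = Nat.card H := by
  classical
  obtain ⟨h₀, hh₀⟩ : ∃ h₀ : H, h₀ = S.hpart g := ⟨_, rfl⟩
  have hspec : IsConj (g ^ b) (h₀ : G) := hh₀ ▸ S.hpart_spec g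
  have hiff : ∀ h : H, IsConj (g ^ b) (h : G) ↔ IsConj h h₀ := by
    intro h
    constructor
    · intro hc
      have h1 : IsConj (h : G) (h₀ : G) := hc.symm.trans hspec
      obtain ⟨k, hk, hkk⟩ := S.hfus _ h.2 _ h₀.2 h1
      exact isConj_iff.mpr ⟨⟨k, hk⟩, Subtype.ext hkk⟩
    · intro hc
      obtain ⟨k, hk⟩ := isConj_iff.mp hc
      have h1 : IsConj (h : G) (h₀ : G) := by
        refine isConj_iff.mpr ⟨(k : G), ?_⟩
        have := congrArg Subtype.val hk
        simpa using this
      exact hspec.trans h1.symm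
  have hterm : ∀ h : H, (if IsConj (g ^ b) (h : G) then
      Nat.card (Subgroup.centralizer ({h} : Set H)) else 0) =
      Nat.card {y : H // y * h₀ * y⁻¹ = h} := by
    intro h
    split_ifs with hc
    · exact (card_conj_eq_card_centralizer ((hiff h).mp hc)).symm
    · have : ¬ IsConj h h₀ := fun h' => hc ((hiff h).mpr h')
      exact (card_conj_eq_zero this).symm
  simp_rw [hterm]
  exact sum_card_fiber (fun y : H => y * h₀ * y⁻¹)

/-- Counting the elements whose `b`-th power is conjugate to a given element of `H`. -/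
theorem Setup.card_conj_pow (S : Setup H m n b c) (h : G) (hh : h ∈ H) :
    Nat.card {g : G // IsConj (g ^ b) h} * Nat.card (Subgroup.centralizer ({h} : Set G)) =
      Nat.card G * Ncount n h := by
  classical
  have h1 : ∀ g : G, Nat.card {y : G // y * g ^ b * y⁻¹ = h} =
      if IsConj (g ^ b) h then Nat.card (Subgroup.centralizer ({h} : Set G)) else 0 := by
    intro g
    split_ifs with hc
    · exact card_conj_eq_card_centralizer hc.symm
    · have : ¬ IsConj h (g ^ b) := fun h' => hc h'.symm
      exact card_conj_eq_zero this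
  have h2 : ∀ y : G, Nat.card {g : G // y * g ^ b * y⁻¹ = h} = Ncount n h := by
    intro y
    rw [← S.card_fiber (S.pow_m_of_mem hh)]
    apply Nat.card_congr
    refine ⟨fun g => ⟨y * g.1 * y⁻¹, ?_⟩, fun g => ⟨y⁻¹ * g.1 * y, ?_⟩, ?_, ?_⟩
    · rw [conj_pow]; exact g.2
    · have : (y⁻¹ * g.1 * y) ^ b = y⁻¹ * g.1 ^ b * y := by
        have := conj_pow (a := y⁻¹) (b := g.1) (i := b)
        simpa using this
      rw [this, g.2]; group
    · intro g; apply Subtype.ext; simp only; group
    · intro g; apply Subtype.ext; simp only; group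
  have h3 : ∑ g : G, Nat.card {y : G // y * g ^ b * y⁻¹ = h} =
      ∑ y : G, Nat.card {g : G // y * g ^ b * y⁻¹ = h} := by
    simp_rw [natCard_subtype_eq_sum]
    exact Finset.sum_comm
  simp_rw [h1, h2] at h3
  rw [Finset.sum_const, Finset.card_univ, smul_eq_mul, ← Nat.card_eq_fintype_card] at h3
  rw [← h3, natCard_subtype_eq_sum, Finset.sum_mul]
  apply Finset.sum_congr rfl
  intro g _
  split_ifs <;> simp

/-- The centralizer in `H`, as a subgroup of `H` and as a subgroup of `G`. -/
theorem card_centralizer_subgroup (h : H) :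
    Nat.card (Subgroup.centralizer ({h} : Set H)) =
      Nat.card (H ⊓ Subgroup.centralizer ({(h : G)} : Set G) : Subgroup G) := by
  apply Nat.card_congr
  refine ⟨fun y => ⟨(y.1 : G), Subgroup.mem_inf.mpr ⟨y.1.2, ?_⟩⟩,
    fun y => ⟨⟨y.1, (Subgroup.mem_inf.mp y.2).1⟩, ?_⟩, ?_, ?_⟩
  · rw [mem_centralizer_singleton]
    have := mem_centralizer_singleton.mp y.2
    have h2 := congrArg Subtype.val this
    simpa using h2
  · rw [mem_centralizer_singleton]
    apply Subtype.ext
    have := mem_centralizer_singleton.mp (Subgroup.mem_inf.mp y.2).2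
    simpa using this
  · intro y; rfl
  · intro y; rfl

/-- The multiplicities. -/
theorem Setup.exists_mult (S : Setup H m n b c) :
    ∃ k : H → ℕ, (∀ h, 1 ≤ k h) ∧ ∀ h : H,
      k h * Nat.card (Subgroup.centralizer ({(h : G)} : Set G)) =
        Nat.card (Subgroup.centralizer ({h} : Set H)) * Ncount n (h : G) := by
  have hdvd : ∀ h : H, Nat.card (Subgroup.centralizer ({(h : G)} : Set G)) ∣
      Nat.card (Subgroup.centralizer ({h} : Set H)) * Ncount n (h : G) := by
    intro h
    rw [card_centralizer_subgroup]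
    exact S.card_centralizer_dvd_mul h.2
  choose k hk using hdvd
  refine ⟨k, ?_, ?_⟩
  · intro h
    rcases Nat.eq_zero_or_pos (k h) with h0 | h0
    · exfalso
      have := hk h
      rw [h0, mul_zero] at this
      have h1 : 0 < Nat.card (Subgroup.centralizer ({h} : Set H)) := Nat.card_pos
      have h2 := Ncount_pos n (h : G)
      have := Nat.mul_pos h1 h2
      omega
    · exact h0
  · intro h
    rw [hk h, mul_comm]

/-- The main counting identity, with multiplicities. -/
theorem Setup.sum_pow_eq (S : Setup H m n b c) (k : H → ℕ)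
    (hk : ∀ h : H, k h * Nat.card (Subgroup.centralizer ({(h : G)} : Set G)) =
        Nat.card (Subgroup.centralizer ({h} : Set H)) * Ncount n (h : G))
    (F : G → ℂ) (hF : IsClassFunction G F) :
    (Nat.card H : ℂ) * ∑ g : G, F (g ^ b) = (Nat.card G : ℂ) * ∑ h : H, F h * (k h : ℂ) := by
  classical
  have hconj : ∀ {x y : G}, IsConj x y → F x = F y := by
    intro x y hxy
    obtain ⟨z, hz⟩ := isConj_iff.mp hxy
    rw [← hz, hF]
  have h1 : ∀ g : G, (Nat.card H : ℂ) * F (g ^ b) = ∑ h : H, (if IsConj (g ^ b) (h : G) then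
      (Nat.card (Subgroup.centralizer ({h} : Set H)) : ℂ) * F h else 0) := by
    intro g
    have := S.sum_centralizer g
    rw [← this]
    push_cast
    rw [Finset.sum_mul]
    apply Finset.sum_congr rfl
    intro h _
    split_ifs with hc
    · rw [hconj hc]
    · rw [zero_mul]
  rw [Finset.mul_sum]
  simp_rw [h1]
  rw [Finset.sum_comm, Finset.mul_sum]
  apply Finset.sum_congr rfl
  intro h _
  rw [← Finset.sum_filter, Finset.sum_const, nsmul_eq_mul]
  have h2 : ((Finset.univ.filter fun g : G => IsConj (g ^ b) (h : G)).card : ℂ) =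
      (Nat.card {g : G // IsConj (g ^ b) (h : G)} : ℂ) := by
    rw [Nat.card_eq_fintype_card, Fintype.card_subtype]
  rw [h2]
  have h3 := S.card_conj_pow (h : G) h.2
  have h4 := hk h
  have hcG : (Nat.card (Subgroup.centralizer ({(h : G)} : Set G)) : ℂ) ≠ 0 := by
    exact_mod_cast Nat.card_pos.ne'
  have h3' : (Nat.card {g : G // IsConj (g ^ b) (h : G)} : ℂ) *
      (Nat.card (Subgroup.centralizer ({(h : G)} : Set G)) : ℂ) =
      (Nat.card G : ℂ) * (Ncount n (h : G) : ℂ) := by exact_mod_cast h3
  have h4' : (k h : ℂ) * (Nat.card (Subgroup.centralizer ({(h : G)} : Set G)) : ℂ) =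
      (Nat.card (Subgroup.centralizer ({h} : Set H)) : ℂ) * (Ncount n (h : G) : ℂ) := by
    exact_mod_cast h4
  apply mul_right_cancel₀ hcG
  calc (Nat.card {g : G // IsConj (g ^ b) (h : G)} : ℂ) *
        ((Nat.card (Subgroup.centralizer ({h} : Set H)) : ℂ) * F h) *
        (Nat.card (Subgroup.centralizer ({(h : G)} : Set G)) : ℂ)
      = ((Nat.card {g : G // IsConj (g ^ b) (h : G)} : ℂ) *
        (Nat.card (Subgroup.centralizer ({(h : G)} : Set G)) : ℂ)) *
        ((Nat.card (Subgroup.centralizer ({h} : Set H)) : ℂ) * F h) := by ring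
    _ = (Nat.card G : ℂ) * (F h * ((Nat.card (Subgroup.centralizer ({h} : Set H)) : ℂ) *
        (Ncount n (h : G) : ℂ))) := by rw [h3']; ring
    _ = (Nat.card G : ℂ) * (F h * (k h : ℂ)) *
        (Nat.card (Subgroup.centralizer ({(h : G)} : Set G)) : ℂ) := by rw [← h4']; ring

/-- All multiplicities are one. -/
theorem Setup.mult_eq_one (S : Setup H m n b c) (k : H → ℕ) (hk1 : ∀ h, 1 ≤ k h)
    (hk : ∀ h : H, k h * Nat.card (Subgroup.centralizer ({(h : G)} : Set G)) =
        Nat.card (Subgroup.centralizer ({h} : Set H)) * Ncount n (h : G)) (h : H) :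
    k h = 1 := by
  classical
  have h1 := S.sum_pow_eq k hk (fun _ => 1) (fun _ _ => rfl)
  simp only [Finset.sum_const, Finset.card_univ, nsmul_eq_mul, mul_one, one_mul] at h1
  rw [← Nat.card_eq_fintype_card, mul_comm] at h1
  have hG : (Nat.card G : ℂ) ≠ 0 := by exact_mod_cast Nat.card_pos.ne'
  have h2 : (Nat.card H : ℂ) = ∑ h : H, (k h : ℂ) := mul_left_cancel₀ hG h1
  have h3 : Nat.card H = ∑ h : H, k h := by exact_mod_cast h2
  by_contra hne
  have hlt : ∑ h : H, 1 < ∑ h : H, k h := by
    apply Finset.sum_lt_sum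
    · intro i _; exact hk1 i
    · exact ⟨h, Finset.mem_univ h, lt_of_le_of_ne (hk1 h) (Ne.symm hne)⟩
  rw [Finset.sum_const, Finset.card_univ, smul_eq_mul, mul_one, ← Nat.card_eq_fintype_card] at hlt
  omega

/-- The main counting identity. -/
theorem Setup.sum_pow (S : Setup H m n b c) (F : G → ℂ) (hF : IsClassFunction G F) :
    (Nat.card H : ℂ) * ∑ g : G, F (g ^ b) = (Nat.card G : ℂ) * ∑ h : H, F h := by
  obtain ⟨k, hk1, hk⟩ := S.exists_mult
  rw [S.sum_pow_eq k hk F hF]
  congr 1
  apply Finset.sum_congr rfl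
  intro h _
  rw [S.mult_eq_one k hk1 hk h, Nat.cast_one, mul_one]

/-- The number of elements of order dividing `n`. -/
theorem Setup.card_pow_n (S : Setup H m n b c) : Nat.card {g : G // g ^ n = 1} = n := by
  obtain ⟨k, hk1, hk⟩ := S.exists_mult
  have h1 := hk 1
  rw [S.mult_eq_one k hk1 hk 1, one_mul] at h1
  have h2 : Nat.card (Subgroup.centralizer ({((1 : H) : G)} : Set G)) = Nat.card G := by
    have : Subgroup.centralizer ({((1 : H) : G)} : Set G) = ⊤ := by
      rw [eq_top_iff]
      intro x _
      rw [mem_centralizer_singleton]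
      simp
    rw [this]
    exact Subgroup.card_top
  have h3 : Nat.card (Subgroup.centralizer ({(1 : H)} : Set H)) = Nat.card H := by
    have : Subgroup.centralizer ({(1 : H)} : Set H) = ⊤ := by
      rw [eq_top_iff]
      intro x _
      rw [mem_centralizer_singleton]
      simp
    rw [this]
    exact Subgroup.card_top
  have h4 : Ncount n ((1 : H) : G) = Nat.card {g : G // g ^ n = 1} := by
    unfold Ncount
    apply Nat.card_congr
    refine ⟨fun y => ⟨y.1, y.2.2⟩, fun y => ⟨y.1, ?_, y.2⟩, ?_, ?_⟩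
    · rw [mem_centralizer_singleton]; simp
    · intro y; rfl
    · intro y; rfl
  rw [h2, h3, h4, S.card_eq, S.hm] at h1
  have hm0 : 0 < m := by rw [← S.hm]; exact Nat.card_pos
  exact (Nat.eq_of_mul_eq_mul_left hm0 h1).symm

end count

end Cfsg.Agent.Lib.helper3.BST
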