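import Mathlib
import Cfsg.Prelude.Def_Characters
import Cfsg.Agent.Lib.helper3.BST4
import Cfsg.Agent.Lib.helper3.NormOne
import Cfsg.Agent.Lib.helper3.PDeg5
import Cfsg.Agent.Lib.helper3.Tifn1

/-!
# The Brauer–Suzuki transfer theorem, part 5: the normal complement
-/

set_option autoImplicit false
set_option linter.style.haveILetI false
set_option linter.unusedSectionVars false

namespace Cfsg.Agent.Lib.helper3.BST

open Cfsg Cfsg.Agent.Lib.helper3.NilpPow Cfsg.Agent.Lib.helper3.BrauerInd
open Cfsg.Agent.Lib.helper3.Irr Cfsg.Agent.Lib.helper3.PDeg Cfsg.Agent.Lib.helper3.CharBasic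
open scoped ComplexConjugate

universe u

section final

variable {G : Type u} [Group G] [Fintype G] {H : Subgroup G} [Fintype H] {m n b c : ℕ}

/-- The extension map is an isometry. -/
theorem Setup.classInner_tilde (S : Setup H m n b c) {θ φ : H → ℂ} (hθ : IsClassFunction H θ)
    (hφ : IsClassFunction H φ) : classInner (S.tilde θ) (S.tilde φ) = classInner θ φ := by
  unfold classInner
  obtain ⟨F, hF⟩ : ∃ F : G → ℂ, F = fun g => S.tilde θ g * conj (S.tilde φ g) := ⟨_, rfl⟩
  have hFc : IsClassFunction G F := by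
    intro g x
    rw [hF]
    simp only
    rw [S.isClassFunction_tilde hθ g x, S.isClassFunction_tilde hφ g x]
  have hFb : ∀ g : G, F (g ^ b) = F g := by
    intro g
    rw [hF]
    simp only
    rw [S.tilde_pow_b hθ, S.tilde_pow_b hφ]
  have hFH : ∀ h : H, F h = θ h * conj (φ h) := by
    intro h
    rw [hF]
    simp only
    rw [S.tilde_apply_mem hθ, S.tilde_apply_mem hφ]
  have h1 := S.sum_pow F hFc
  simp_rw [hFb, hFH] at h1
  have hG : (Nat.card G : ℂ) ≠ 0 := by exact_mod_cast Nat.card_pos.ne'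
  have hH : (Nat.card H : ℂ) ≠ 0 := by exact_mod_cast Nat.card_pos.ne'
  have h2 : ∑ g : G, S.tilde θ g * conj (S.tilde φ g) = ∑ g : G, F g := by
    rw [hF]
  rw [h2]
  field_simp
  rw [mul_comm, h1, mul_comm]

/-- The extension of an irreducible character is irreducible. -/
theorem Setup.isIrrCharacter_tilde (S : Setup H m n b c) {θ : H → ℂ}
    (hθ : IsIrrCharacter H θ) : IsIrrCharacter G (S.tilde θ) := by
  have hθc : IsCharacter H θ := isCharacter_of_isIrrCharacter hθ
  have hθcf : IsClassFunction H θ := isClassFunction_of_isCharacter hθc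
  have hgen := S.isGeneralizedCharacter_tilde hθc
  have hnorm : classInner (S.tilde θ) (S.tilde θ) = 1 := by
    rw [S.classInner_tilde hθcf hθcf, irr_classInner_eq hθ hθ, if_pos rfl]
  obtain ⟨a, ha | ha⟩ := exists_irr_of_norm_one hgen hnorm
  · rw [ha]; exact a.2
  · exfalso
    have h1 : S.tilde θ ((1 : H) : G) = θ 1 := S.tilde_apply_mem hθcf 1
    rw [ha] at h1
    simp only [Pi.neg_apply, OneMemClass.coe_one] at h1
    obtain ⟨d, hd, hd'⟩ := exists_pos_nat_apply_one hθ
    obtain ⟨e, he, he'⟩ := exists_pos_nat_apply_one a.2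
    rw [hd', he'] at h1
    have h2 : ((e : ℤ) : ℂ) + ((d : ℤ) : ℂ) = 0 := by
      push_cast
      rw [← h1]; ring
    have h3 : (e : ℤ) + (d : ℤ) = 0 := by exact_mod_cast h2
    omega

/-- An element of `H` at which all irreducible characters take their degree is trivial. -/
theorem eq_one_of_forall_irr {K : Type*} [Group K] [Fintype K] (h : K)
    (hh : ∀ θ : IrrCharacter K, (θ : K → ℂ) h = (θ : K → ℂ) 1) : h = 1 := by
  by_contra hne
  have h1 := Cfsg.Agent.Lib.helper3.Tifn.sum_degree_mul_apply hne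
  simp_rw [hh] at h1
  have h2 : (∑ θ : IrrCharacter K, (θ : K → ℂ) 1 * (θ : K → ℂ) 1) ≠ 0 := by
    have h3 : ∀ θ : IrrCharacter K, ∃ d : ℕ, 0 < d ∧ (θ : K → ℂ) 1 = d := fun θ =>
      exists_pos_nat_apply_one θ.2
    choose d hd hd' using h3
    simp_rw [hd']
    have h4 : (∑ θ : IrrCharacter K, (d θ : ℂ) * (d θ : ℂ)) =
        ((∑ θ : IrrCharacter K, d θ * d θ : ℕ) : ℂ) := by push_cast; rfl
    rw [h4]
    have h5 : 0 < ∑ θ : IrrCharacter K, d θ * d θ := by
      apply Finset.sum_pos
      · intro θ _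
        exact Nat.mul_pos (hd θ) (hd θ)
      · exact ⟨⟨fun _ => 1, isIrrCharacter_one⟩, Finset.mem_univ _⟩
    exact_mod_cast h5.ne'
  exact h2 h1

/-- The transfer theorem from the set-up. -/
theorem Setup.exists_normal_complement (S : Setup H m n b c) :
    ∃ K : Subgroup G, K.Normal ∧ K ⊔ H = ⊤ ∧ K ⊓ H = ⊥ := by
  classical
  have hirr : ∀ θ : IrrCharacter H, IsIrrCharacter G (S.tilde (θ : H → ℂ)) := fun θ =>
    S.isIrrCharacter_tilde θ.2
  obtain ⟨K, hK⟩ : ∃ K : Subgroup G,
      K = ⨅ θ : IrrCharacter H, kerSub (isCharacter_of_isIrrCharacter (hirr θ)) := ⟨_, rfl⟩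
  have hKn : K.Normal := by
    rw [hK]
    exact Subgroup.normal_iInf_normal fun θ => inferInstance
  have hmemK : ∀ g : G, g ∈ K ↔ g ^ n = 1 := by
    intro g
    rw [hK, Subgroup.mem_iInf]
    have h1cf : ∀ θ : IrrCharacter H, IsClassFunction H (θ : H → ℂ) := fun θ =>
      isClassFunction_of_isCharacter (isCharacter_of_isIrrCharacter θ.2)
    have hone : ∀ θ : IrrCharacter H, S.tilde (θ : H → ℂ) 1 = (θ : H → ℂ) 1 := by
      intro θ
      have := S.tilde_apply_mem (h1cf θ) 1
      simpa using this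
    constructor
    · intro hg
      have h2 : S.hpart g = 1 := by
        apply eq_one_of_forall_irr
        intro θ
        have := hg θ
        rw [mem_kerSub, hone] at this
        exact this
      have h3 := S.hpart_spec g
      rw [h2] at h3
      have h4 : g ^ b = 1 := by
        have : IsConj (1 : G) (g ^ b) := by
          have h5 : ((1 : H) : G) = 1 := rfl
          rw [h5] at h3
          exact h3.symm
        exact (isConj_one_right.mp this)
      have h5 := S.pow_b_mul_pow_c g
      rw [h4, one_mul] at h5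
      rw [← h5]
      exact S.pow_c_pow g
    · intro hg θ
      rw [mem_kerSub, hone]
      apply S.tilde_eq (h1cf θ)
      rw [S.pow_b_of_pow_n hg]
      exact IsConj.refl _
  have hcardK : Nat.card K = n := by
    rw [← S.card_pow_n]
    apply Nat.card_congr
    exact Equiv.subtypeEquivRight hmemK
  have hcompl : Subgroup.IsComplement' K H := by
    apply Subgroup.isComplement'_of_coprime
    · rw [hcardK, S.hm, mul_comm, S.card_eq]
    · rw [hcardK, S.hm]; exact S.hcop.symm
  exact ⟨K, hKn, hcompl.sup_eq_top, hcompl.disjoint.eq_bot⟩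

end final

/-- The Brauer–Suzuki transfer theorem. -/
theorem transfer {G : Type u} [Group G] [Finite G] (H : Subgroup G)
    (hHall : Nat.Coprime (Nat.card H) H.index)
    (hfus : ∀ x ∈ H, ∀ y ∈ H, IsConj x y → ∃ h ∈ H, h * x * h⁻¹ = y)
    (helem : ∀ (E : Subgroup G) (p : ℕ), p.Prime → IsElementary p E → Nat.card E ∣ Nat.card H →
      ∃ g : G, E.map (MulAut.conj g).toMonoidHom ≤ H) :
    ∃ K : Subgroup G, K.Normal ∧ K ⊔ H = ⊤ ∧ K ⊓ H = ⊥ := by
  classical
  letI : Fintype G := Fintype.ofFinite G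
  letI : Fintype H := Fintype.ofFinite H
  obtain ⟨b, hbn, hbm⟩ := exists_exponent H.index (Nat.card H) hHall.symm
  obtain ⟨c, hcm, hcn⟩ := exists_exponent (Nat.card H) H.index hHall
  have S : Setup H (Nat.card H) H.index b c :=
    ⟨rfl, rfl, hHall, hbn, hbm, hcm, hcn, hfus, helem⟩
  exact S.exists_normal_complement

end Cfsg.Agent.Lib.helper3.BST
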