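import Mathlib
import Cfsg.Prelude.Def_Blocks
import Cfsg.Agent.Lib.helper3.DefectOrder3
import Cfsg.Agent.Lib.helper3.BlockInd

/-!
# The block parts of a character and central characters
-/

set_option autoImplicit false
set_option linter.style.haveILetI false
set_option linter.unusedSectionVars false

namespace Cfsg.Agent.Lib.helper3.Block

open Cfsg Cfsg.Agent.Lib.helper3.LocalM Cfsg.Agent.Lib.helper3.CharBasic
open Cfsg.Agent.Lib.helper3.Irr Cfsg.Agent.Lib.helper3.Central Cfsg.Agent.Lib.helper3.Lin
open Cfsg.Agent.Lib.helper3.IndFun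
open scoped ComplexConjugate

variable {M : Ideal AlgInt}

/-- A quotient of natural numbers in the local ideal has numerator zero or of larger valuation. -/
theorem natCast_div_memLocalIdeal {p : ℕ} (hM : IsPModular p M) (n N : ℕ) (hN : N ≠ 0)
    (h : MemLocalIdeal M ((n : ℂ) / (N : ℂ))) :
    n = 0 ∨ N.factorization p < n.factorization p := by
  haveI hMp := isPrime_of_isPModular hM
  have hp : p.Prime := hM.1
  by_cases hn : n = 0
  · exact Or.inl hn
  · right
    by_contra hcon
    push Not at hcon
    obtain ⟨n', hn'⟩ : p ^ n.factorization p ∣ n := Nat.ordProj_dvd n p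
    obtain ⟨N', hN'⟩ : p ^ N.factorization p ∣ N := Nat.ordProj_dvd N p
    have hn'p : ¬ p ∣ n' := by
      intro h1
      have h2 : p ^ (n.factorization p + 1) ∣ n := by
        rw [pow_succ]
        conv_rhs => rw [hn']
        exact mul_dvd_mul_left _ h1
      exact Nat.pow_succ_factorization_not_dvd hn hp h2
    have hp0 : (p : ℂ) ≠ 0 := by
      have : p ≠ 0 := hp.ne_zero
      exact_mod_cast this
    have hn0 : (n : ℂ) ≠ 0 := by exact_mod_cast hn
    have hN0 : (N : ℂ) ≠ 0 := by exact_mod_cast hN
    have hn'0 : (n' : ℂ) ≠ 0 := by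
      have : n' ≠ 0 := by
        intro h0
        rw [h0, mul_zero] at hn'
        exact hn hn'
      exact_mod_cast this
    apply not_memLocalIdeal_one (M := M)
    have h1 : MemLocalRing M ((N : ℂ) / (n : ℂ)) := by
      refine ⟨((p ^ (N.factorization p - n.factorization p) * N' : ℕ) : AlgInt), (n' : AlgInt),
        ?_, ?_⟩
      · rw [natCast_mem_iff hM]
        exact hn'p
      · have e1 : (N : ℂ) = (p : ℂ) ^ N.factorization p * (N' : ℂ) := by
          conv_lhs => rw [hN']
          push_cast
          rfl
        have e2 : (n : ℂ) = (p : ℂ) ^ n.factorization p * (n' : ℂ) := by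
          conv_lhs => rw [hn']
          push_cast
          rfl
        have e3 : (p : ℂ) ^ N.factorization p = (p : ℂ) ^ (N.factorization p - n.factorization p)
            * (p : ℂ) ^ n.factorization p := by
          rw [← pow_add, Nat.sub_add_cancel hcon]
        have hpn0 : (p : ℂ) ^ n.factorization p ≠ 0 := pow_ne_zero _ hp0
        rw [e1, e2, e3]
        push_cast
        field_simp
    have h2 := memLocalIdeal_mul_localRing h1 h
    have h3 : (N : ℂ) / (n : ℂ) * ((n : ℂ) / (N : ℂ)) = 1 := by
      field_simp
    rwa [h3] at h2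

/-- A quotient of natural numbers congruent to one modulo the local ideal has numerator and
denominator of equal valuation. -/
theorem natCast_div_sub_one_memLocalIdeal {p : ℕ} (hM : IsPModular p M) (n N : ℕ) (hN : N ≠ 0)
    (h : MemLocalIdeal M ((n : ℂ) / (N : ℂ) - 1)) :
    n ≠ 0 ∧ n.factorization p = N.factorization p := by
  haveI hMp := isPrime_of_isPModular hM
  have hMtop : M ≠ ⊤ := hM.2.1.ne_top
  have hN0 : (N : ℂ) ≠ 0 := by exact_mod_cast hN
  have hn : n ≠ 0 := by
    intro h0
    rw [h0, Nat.cast_zero, zero_div, zero_sub] at h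
    apply not_memLocalIdeal_one (M := M)
    have := memLocalIdeal_neg h
    rwa [neg_neg] at this
  have hn0 : (n : ℂ) ≠ 0 := by exact_mod_cast hn
  refine ⟨hn, ?_⟩
  have hloc : MemLocalRing M ((n : ℂ) / (N : ℂ)) := by
    have h1 : MemLocalRing M ((n : ℂ) / (N : ℂ) - 1) := by
      obtain ⟨a, b, -, hb, hab⟩ := h
      exact ⟨a, b, hb, hab⟩
    have h2 := memLocalRing_add h1 (memLocalRing_of_integral (M := M) isIntegral_one)
    rwa [sub_add_cancel] at h2
  rcases lt_trichotomy (n.factorization p) (N.factorization p) with hlt | heq | hgt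
  · exfalso
    -- N / n lies in the local ideal
    have h1 : MemLocalIdeal M ((N : ℂ) / (n : ℂ)) := by
      by_contra hcon
      -- use the previous lemma in contrapositive form: compute directly
      have hp : p.Prime := hM.1
      obtain ⟨n', hn'⟩ : p ^ n.factorization p ∣ n := Nat.ordProj_dvd n p
      obtain ⟨N', hN'⟩ : p ^ N.factorization p ∣ N := Nat.ordProj_dvd N p
      have hn'p : ¬ p ∣ n' := by
        intro h1
        have h2 : p ^ (n.factorization p + 1) ∣ n := by
          rw [pow_succ]
          conv_rhs => rw [hn']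
          exact mul_dvd_mul_left _ h1
        exact Nat.pow_succ_factorization_not_dvd hn hp h2
      have hp0 : (p : ℂ) ≠ 0 := by
        have : p ≠ 0 := hp.ne_zero
        exact_mod_cast this
      have hn'0 : (n' : ℂ) ≠ 0 := by
        have : n' ≠ 0 := by
          intro h0
          rw [h0, mul_zero] at hn'
          exact hn hn'
        exact_mod_cast this
      apply hcon
      obtain ⟨t, ht⟩ : ∃ t, N.factorization p = n.factorization p + 1 + t :=
        ⟨N.factorization p - (n.factorization p + 1), by omega⟩
      refine ⟨(p : AlgInt) * ((p ^ t * N' : ℕ) : AlgInt), (n' : AlgInt), M.mul_mem_right _ hM.2.2,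
        ?_, ?_⟩
      · rw [natCast_mem_iff hM]
        exact hn'p
      · have e1 : (N : ℂ) = (p : ℂ) ^ N.factorization p * (N' : ℂ) := by
          conv_lhs => rw [hN']
          push_cast
          rfl
        have e2 : (n : ℂ) = (p : ℂ) ^ n.factorization p * (n' : ℂ) := by
          conv_lhs => rw [hn']
          push_cast
          rfl
        have hpn0 : (p : ℂ) ^ n.factorization p ≠ 0 := pow_ne_zero _ hp0
        rw [e1, e2, ht, pow_add, pow_add, pow_one]
        push_cast
        field_simp
    apply not_memLocalIdeal_one (M := M)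
    have h2 := memLocalIdeal_mul_localRing hloc h1
    have h3 : (n : ℂ) / (N : ℂ) * ((N : ℂ) / (n : ℂ)) = 1 := by
      field_simp
    rwa [h3] at h2
  · exact heq
  · exfalso
    -- n / N lies in the local ideal
    have hp : p.Prime := hM.1
    obtain ⟨n', hn'⟩ : p ^ n.factorization p ∣ n := Nat.ordProj_dvd n p
    obtain ⟨N', hN'⟩ : p ^ N.factorization p ∣ N := Nat.ordProj_dvd N p
    have hN'p : ¬ p ∣ N' := by
      intro h1
      have h2 : p ^ (N.factorization p + 1) ∣ N := by
        rw [pow_succ]
        conv_rhs => rw [hN']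
        exact mul_dvd_mul_left _ h1
      exact Nat.pow_succ_factorization_not_dvd hN hp h2
    have hp0 : (p : ℂ) ≠ 0 := by
      have : p ≠ 0 := hp.ne_zero
      exact_mod_cast this
    have hN'0 : (N' : ℂ) ≠ 0 := by
      have : N' ≠ 0 := by
        intro h0
        rw [h0, mul_zero] at hN'
        exact hN hN'
      exact_mod_cast this
    obtain ⟨t, ht⟩ : ∃ t, n.factorization p = N.factorization p + 1 + t :=
      ⟨n.factorization p - (N.factorization p + 1), by omega⟩
    have h1 : MemLocalIdeal M ((n : ℂ) / (N : ℂ)) := by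
      refine ⟨(p : AlgInt) * ((p ^ t * n' : ℕ) : AlgInt), (N' : AlgInt), M.mul_mem_right _ hM.2.2,
        ?_, ?_⟩
      · rw [natCast_mem_iff hM]
        exact hN'p
      · have e1 : (N : ℂ) = (p : ℂ) ^ N.factorization p * (N' : ℂ) := by
          conv_lhs => rw [hN']
          push_cast
          rfl
        have e2 : (n : ℂ) = (p : ℂ) ^ n.factorization p * (n' : ℂ) := by
          conv_lhs => rw [hn']
          push_cast
          rfl
        have hpN0 : (p : ℂ) ^ N.factorization p ≠ 0 := pow_ne_zero _ hp0
        rw [e1, e2, ht, pow_add, pow_add, pow_one]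
        push_cast
        field_simp
    apply not_memLocalIdeal_one (M := M)
    have h2 := memLocalIdeal_sub h1 h
    rwa [sub_sub_cancel] at h2

variable {G : Type*} [Group G] [Fintype G]

open Classical in
/-- The central character of a character `Ψ` paired with the idempotent of `B` computes the degree
of the `B`-part of `Ψ`. -/
theorem sum_classes_blockCoeff_mul_centralChar_char (B : Set (IrrCharacter G))
    (m : IrrCharacter G → ℕ) (Ψ : G → ℂ)
    (hΨ : Ψ = ∑ ψ : IrrCharacter G, (m ψ : ℂ) • (ψ : G → ℂ)) :
    (∑ C : ConjClasses G, blockCoeff B (Quotient.out C) * centralChar Ψ (Quotient.out C)) * Ψ 1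
      = ∑ χ : IrrCharacter G, (if χ ∈ B then (1 : ℂ) else 0) * ((m χ : ℂ) * (χ : G → ℂ) 1) := by
  have hΨc : IsCharacter G Ψ := by
    rw [hΨ]
    exact isCharacter_of_decomposition m
  have hΨcf := isClassFunction_of_isCharacter hΨc
  obtain ⟨c, hc⟩ : ∃ c : IrrCharacter G → ℂ, c = fun χ => if χ ∈ B then (1 : ℂ) else 0 :=
    ⟨_, rfl⟩
  have hF : ∀ g h : G, coef c (h * g * h⁻¹) * Ψ (h * g * h⁻¹) = coef c g * Ψ g := by
    intro g h
    rw [coef_conj, hΨcf g h]
  have h1 : ∑ g : G, coef c g * Ψ g
      = ∑ χ : IrrCharacter G, (if χ ∈ B then (1 : ℂ) else 0) * ((m χ : ℂ) * (χ : G → ℂ) 1) := by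
    have h2 : ∀ g : G, coef c g * Ψ g
        = ∑ χ : IrrCharacter G, (m χ : ℂ) * (coef c g * (χ : G → ℂ) g) := by
      intro g
      rw [hΨ, Finset.sum_apply, Finset.mul_sum]
      apply Finset.sum_congr rfl
      intro χ _
      rw [Pi.smul_apply, smul_eq_mul]
      ring
    rw [Finset.sum_congr rfl (fun g _ => h2 g), Finset.sum_comm]
    apply Finset.sum_congr rfl
    intro χ _
    rw [← Finset.mul_sum, sum_coef_mul, hc]
    ring
  rw [← h1, sum_class_fun (fun g : G => coef c g * Ψ g) hF, Finset.sum_mul]
  apply Finset.sum_congr rfl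
  intro C _
  rw [blockCoeff_eq_coef, ← hc]
  unfold centralChar
  by_cases h0 : Ψ 1 = 0
  · have hz : Ψ (Quotient.out C) = 0 := by
      obtain ⟨n, ρ, hρ⟩ := hΨc
      rw [← hρ] at h0 ⊢
      rw [Representation.char_one] at h0
      have hV : Module.finrank ℂ (Fin n → ℂ) = 0 := by exact_mod_cast h0
      have hsub : Subsingleton (Fin n → ℂ) := by
        rw [← Module.finrank_zero_iff (R := ℂ)]
        exact hV
      have hρ0 : ρ (Quotient.out C) = 0 := by
        apply LinearMap.ext
        intro v
        exact Subsingleton.elim _ _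
      unfold Representation.character
      rw [hρ0, map_zero]
    rw [h0, hz, mul_zero, mul_zero, mul_zero]
  · field_simp

end Cfsg.Agent.Lib.helper3.Block
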