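import Mathlib
import Cfsg.Prelude.Def_Characters
import Cfsg.Prelude.Def_Blocks
import Cfsg.Agent.Lib.helper3.CProd5

set_option autoImplicit false
set_option linter.style.haveILetI false
set_option linter.unusedSectionVars false

/-!
# The structure of a block with defect group `P` when `G = P · C_G(P)`
-/

namespace Cfsg.Agent.Lib.helper3.Block

open Cfsg Cfsg.Agent.Lib.helper3.LocalM Cfsg.Agent.Lib.helper3.CharBasic
open Cfsg.Agent.Lib.helper3.Irr Cfsg.Agent.Lib.helper3.IndFun Cfsg.Agent.Lib.helper3.Central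
open scoped ComplexConjugate

universe u

variable {G : Type u} [Group G] [Fintype G] {M : Ideal AlgInt}

theorem normal_of_sup_centralizer (P : Subgroup G)
    (hG : P ⊔ Subgroup.centralizer (P : Set G) = ⊤) : P.Normal := by
  refine ⟨?_⟩
  intro n hn g
  obtain ⟨d, c, rfl⟩ := exists_mul_of_sup_eq_top P hG g
  have hc : (c : G) * n * (c : G)⁻¹ = n := by
    have := (Subgroup.mem_centralizer_iff.mp c.2) n hn
    rw [← this]
    group
  have : (d : G) * (c : G) * n * ((d : G) * (c : G))⁻¹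
      = (d : G) * ((c : G) * n * (c : G)⁻¹) * (d : G)⁻¹ := by group
  rw [this, hc]
  exact P.mul_mem (P.mul_mem d.2 hn) (P.inv_mem d.2)

theorem index_center_eq_index (P : Subgroup G)
    (hG : P ⊔ Subgroup.centralizer (P : Set G) = ⊤) :
    ((P ⊓ Subgroup.centralizer (P : Set G)).subgroupOf (Subgroup.centralizer (P : Set G))).index
      = P.index := by
  haveI := normal_of_sup_centralizer P hG
  have h1 := Subgroup.relIndex_sup_right (H := Subgroup.centralizer (P : Set G)) (K := P)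
  rw [sup_comm, hG, Subgroup.relIndex_top_right] at h1
  rw [h1, Subgroup.relIndex, Subgroup.inf_subgroupOf_right]

/-- Uniqueness of the product decomposition. -/
theorem prod_decomp_unique (P : Subgroup G) [Fintype P] (θ : G → ℂ) (ζ ζ' : IrrCharacter P)
    (ψ ψ' : IrrCharacter ↥(Subgroup.centralizer (P : Set G)))
    (h : ∀ (d : P) (c : ↥(Subgroup.centralizer (P : Set G))),
      θ ((d : G) * (c : G)) = (ζ : P → ℂ) d * (ψ : ↥(Subgroup.centralizer (P : Set G)) → ℂ) c)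
    (h' : ∀ (d : P) (c : ↥(Subgroup.centralizer (P : Set G))),
      θ ((d : G) * (c : G)) = (ζ' : P → ℂ) d * (ψ' : ↥(Subgroup.centralizer (P : Set G)) → ℂ) c) :
    ζ = ζ' ∧ ψ = ψ' := by
  have hψ1 := apply_one_ne_zero ψ.2
  have hψ'1 := apply_one_ne_zero ψ'.2
  have hζ1 := apply_one_ne_zero ζ.2
  have e1 : ∀ d : P, (ζ : P → ℂ) d
      = ((ψ' : ↥(Subgroup.centralizer (P : Set G)) → ℂ) 1
        / (ψ : ↥(Subgroup.centralizer (P : Set G)) → ℂ) 1) * (ζ' : P → ℂ) d := by
    intro d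
    have := (h d 1).symm.trans (h' d 1)
    field_simp
    rw [this]
    ring
  have hζ : ζ = ζ' := by
    by_contra hne
    have h0 := irr_classInner_eq_zero ζ.2 ζ'.2 (fun h => hne (Subtype.ext h))
    have h1 : (ζ : P → ℂ) = ((ψ' : ↥(Subgroup.centralizer (P : Set G)) → ℂ) 1
        / (ψ : ↥(Subgroup.centralizer (P : Set G)) → ℂ) 1) • (ζ' : P → ℂ) := by
      funext d
      rw [Pi.smul_apply, smul_eq_mul]
      exact e1 d
    rw [h1, classInner_smul_left, irr_classInner_self ζ'.2, mul_one] at h0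
    exact div_ne_zero hψ'1 hψ1 h0
  refine ⟨hζ, ?_⟩
  apply Subtype.ext
  funext c
  have := (h 1 c).symm.trans (h' 1 c)
  rw [← hζ] at this
  exact mul_left_cancel₀ hζ1 this

/-- The `P`-factor of a character with `P` in its kernel is trivial. -/
theorem const_one_of_kernel (P : Subgroup G) [Fintype P] (θ : G → ℂ) (ζ : IrrCharacter P)
    (ψ : IrrCharacter ↥(Subgroup.centralizer (P : Set G)))
    (h : ∀ (d : P) (c : ↥(Subgroup.centralizer (P : Set G))),
      θ ((d : G) * (c : G)) = (ζ : P → ℂ) d * (ψ : ↥(Subgroup.centralizer (P : Set G)) → ℂ) c)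
    (hker : ∀ x ∈ P, θ x = θ 1) (d : P) : (ζ : P → ℂ) d = 1 := by
  have hψ1 := apply_one_ne_zero ψ.2
  have e1 : ∀ d : P, (ζ : P → ℂ) d = (ζ : P → ℂ) 1 := by
    intro d
    have h1 := h d 1
    have h2 := h 1 1
    simp only [OneMemClass.coe_one, mul_one] at h1 h2
    rw [hker d d.2, h2] at h1
    exact (mul_right_cancel₀ hψ1 h1).symm
  obtain ⟨n, hn0, hn⟩ := exists_pos_nat_apply_one ζ.2
  have h1 := irr_classInner_self ζ.2
  rw [classInner_apply] at h1
  have h2 : ∑ g : P, (ζ : P → ℂ) g * conj ((ζ : P → ℂ) g) = (Nat.card P : ℂ) * ((n : ℂ) * n) := by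
    rw [Finset.sum_congr rfl (fun g _ => by rw [e1 g, hn, Complex.conj_natCast]),
      Finset.sum_const, Finset.card_univ, nsmul_eq_mul, Nat.card_eq_fintype_card]
  rw [h2, ← mul_assoc, inv_mul_cancel₀ (card_ne_zero_complex P), one_mul] at h1
  have h3 : n * n = 1 := by exact_mod_cast h1
  have h4 : n = 1 := by nlinarith
  rw [e1 d, hn, h4, Nat.cast_one]

/-- **Structure of a block with defect group `P` in `G = P · C_G(P)`.** -/
theorem cprod_structure {p : ℕ} [hp : Fact p.Prime] (hM : IsPModular p M) (P : Subgroup G)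
    (hP : IsPGroup p P) (hG : P ⊔ Subgroup.centralizer (P : Set G) = ⊤)
    [Fintype ↥(Subgroup.centralizer (P : Set G))]
    (B : Set (IrrCharacter G)) (hB : IsPBlock M B) (hD : IsDefectGroup p M B P) :
    ∃ θ₀ ∈ B, ∃ (ζ₀ : IrrCharacter P) (ψ₀ : IrrCharacter ↥(Subgroup.centralizer (P : Set G))),
      (∀ (d : P) (c : ↥(Subgroup.centralizer (P : Set G))), (θ₀ : G → ℂ) ((d : G) * (c : G))
        = (ζ₀ : P → ℂ) d * (ψ₀ : ↥(Subgroup.centralizer (P : Set G)) → ℂ) c)
      ∧ (∀ d : P, (ζ₀ : P → ℂ) d = 1)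
      ∧ (∀ x ∈ P, (θ₀ : G → ℂ) x = (θ₀ : G → ℂ) 1)
      ∧ (charDegree (θ₀ : G → ℂ)).factorization p = P.index.factorization p
      ∧ (charDegree (ψ₀ : ↥(Subgroup.centralizer (P : Set G)) → ℂ)).factorization p
        = ((P ⊓ Subgroup.centralizer (P : Set G)).subgroupOf
            (Subgroup.centralizer (P : Set G))).index.factorization p
      ∧ ∀ (θ : IrrCharacter G) (ζ : IrrCharacter P)
          (ψ : IrrCharacter ↥(Subgroup.centralizer (P : Set G))),
          (∀ (d : P) (c : ↥(Subgroup.centralizer (P : Set G))), (θ : G → ℂ) ((d : G) * (c : G))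
            = (ζ : P → ℂ) d * (ψ : ↥(Subgroup.centralizer (P : Set G)) → ℂ) c) →
          (θ ∈ B ↔ ψ ∈ blockOf M (ψ₀ : ↥(Subgroup.centralizer (P : Set G)) → ℂ)) := by
  classical
  haveI hMp := isPrime_of_isPModular hM
  letI : Fintype P := Fintype.ofFinite _
  haveI := normal_of_sup_centralizer P hG
  obtain ⟨θ₀, hθ₀B, hker, hdeg⟩ := exists_canonical hM P hP B hB hD
  obtain ⟨ζ₀, ψ₀, hθ₀⟩ := exists_prod_decomp P hG θ₀
  have hζ₀ := const_one_of_kernel P (θ₀ : G → ℂ) ζ₀ ψ₀ hθ₀ hker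
  refine ⟨θ₀, hθ₀B, ζ₀, ψ₀, hθ₀, hζ₀, hker, hdeg, ?_, ?_⟩
  · rw [index_center_eq_index P hG, ← hdeg]
    congr 2
    unfold charDegree
    have := hθ₀ 1 1
    rw [OneMemClass.coe_one, OneMemClass.coe_one, mul_one, hζ₀ 1, one_mul] at this
    rw [this]
  · intro θ ζ ψ hθ
    have hBeq : B = blockOf M (θ₀ : G → ℂ) :=
      isPBlock_eq_of_mem hB ⟨θ₀, rfl⟩ θ₀ hθ₀B (sameBlock_refl hMp.ne_top _)
    rw [hBeq]
    exact sameBlock_iff_of_prod hM P hP hG θ₀ θ ζ₀ ζ ψ₀ ψ hθ₀ hθ

end Cfsg.Agent.Lib.helper3.Block
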