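import Mathlib
import Cfsg.Prelude.Def_Characters
import Cfsg.Prelude.Def_Blocks
import Cfsg.Agent.Lib.helper3.CProd6

set_option autoImplicit false
set_option linter.style.haveILetI false
set_option linter.unusedSectionVars false

/-!
# Parametrization of a block with defect group `P` in `G = P · C_G(P)` by `Irr(P)`
-/

namespace Cfsg.Agent.Lib.helper3.Block

open Cfsg Cfsg.Agent.Lib.helper3.LocalM Cfsg.Agent.Lib.helper3.CharBasic
open Cfsg.Agent.Lib.helper3.Irr Cfsg.Agent.Lib.helper3.IndFun Cfsg.Agent.Lib.helper3.Central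
open scoped ComplexConjugate

universe u

variable {G : Type u} [Group G] [Fintype G] {M : Ideal AlgInt}

theorem zc_isPGroup {p : ℕ} (P : Subgroup G) (hP : IsPGroup p P) :
    IsPGroup p ((P ⊓ Subgroup.centralizer (P : Set G)).subgroupOf
      (Subgroup.centralizer (P : Set G))) := by
  have h1 : IsPGroup p ↥(P ⊓ Subgroup.centralizer (P : Set G)) := hP.to_le inf_le_left
  exact h1.of_equiv (Subgroup.subgroupOfEquivOfLe inf_le_right).symm

theorem zc_le_center (P : Subgroup G) :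
    (P ⊓ Subgroup.centralizer (P : Set G)).subgroupOf (Subgroup.centralizer (P : Set G))
      ≤ Subgroup.center ↥(Subgroup.centralizer (P : Set G)) := by
  intro z hz
  rw [Subgroup.mem_subgroupOf] at hz
  rw [Subgroup.mem_center_iff]
  intro y
  apply Subtype.ext
  have hy := y.2
  rw [Subgroup.mem_centralizer_iff] at hy
  exact (hy _ (Subgroup.mem_inf.mp hz).1).symm

/-- Two members with the same `P`-factor and `C_G(P)`-factors in the block of `ψ₀` are equal. -/
theorem prod_eq_of_same_factor {p : ℕ} [hp : Fact p.Prime] (hM : IsPModular p M) (P : Subgroup G)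
    (hP : IsPGroup p P) (hG : P ⊔ Subgroup.centralizer (P : Set G) = ⊤)
    [Fintype ↥(Subgroup.centralizer (P : Set G))]
    (ψ₀ : IrrCharacter ↥(Subgroup.centralizer (P : Set G)))
    (hdeg : (charDegree (ψ₀ : ↥(Subgroup.centralizer (P : Set G)) → ℂ)).factorization p
        = ((P ⊓ Subgroup.centralizer (P : Set G)).subgroupOf
            (Subgroup.centralizer (P : Set G))).index.factorization p)
    (θ θ' : IrrCharacter G) (ζ : IrrCharacter P)
    (ψ ψ' : IrrCharacter ↥(Subgroup.centralizer (P : Set G)))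
    (hψ : ψ ∈ blockOf M (ψ₀ : ↥(Subgroup.centralizer (P : Set G)) → ℂ))
    (hψ' : ψ' ∈ blockOf M (ψ₀ : ↥(Subgroup.centralizer (P : Set G)) → ℂ))
    (hθ : ∀ (d : P) (c : ↥(Subgroup.centralizer (P : Set G))),
        (θ : G → ℂ) ((d : G) * (c : G))
          = (ζ : P → ℂ) d * (ψ : ↥(Subgroup.centralizer (P : Set G)) → ℂ) c)
    (hθ' : ∀ (d : P) (c : ↥(Subgroup.centralizer (P : Set G))),
        (θ' : G → ℂ) ((d : G) * (c : G))
          = (ζ : P → ℂ) d * (ψ' : ↥(Subgroup.centralizer (P : Set G)) → ℂ) c) :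
    θ = θ' ∧ ψ = ψ' := by
  have hζ1 := apply_one_ne_zero ζ.2
  have hZp := zc_isPGroup P hP
  have hZc := zc_le_center P
  obtain ⟨h1, -⟩ := apply_one_eq_of_sameBlock hM _ hZp hZc ψ₀ hdeg ψ hψ
  obtain ⟨h1', -⟩ := apply_one_eq_of_sameBlock hM _ hZp hZc ψ₀ hdeg ψ' hψ'
  have key : ∀ (φ : IrrCharacter ↥(Subgroup.centralizer (P : Set G))) (τ : IrrCharacter G),
      (∀ (d : P) (c : ↥(Subgroup.centralizer (P : Set G))),
        (τ : G → ℂ) ((d : G) * (c : G))
          = (ζ : P → ℂ) d * (φ : ↥(Subgroup.centralizer (P : Set G)) → ℂ) c) →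
      ∀ (z : ↥(Subgroup.centralizer (P : Set G))) (hz : (z : G) ∈ P),
        (φ : ↥(Subgroup.centralizer (P : Set G)) → ℂ) z
          = (ζ : P → ℂ) ⟨(z : G), hz⟩ * (φ : ↥(Subgroup.centralizer (P : Set G)) → ℂ) 1
            / (ζ : P → ℂ) 1 := by
    intro φ τ hτ z hz
    have e1 := hτ ⟨(z : G), hz⟩ 1
    have e2 := hτ 1 z
    simp only [OneMemClass.coe_one, mul_one, one_mul] at e1 e2
    rw [eq_div_iff hζ1, mul_comm, ← e2, e1]
  have hψeq : ψ = ψ' := by
    apply eq_of_sameBlock_of_central_eq hM _ hZp hZc ψ₀ hdeg ψ ψ' hψ hψ'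
    intro z hz
    rw [Subgroup.mem_subgroupOf] at hz
    have hzP := (Subgroup.mem_inf.mp hz).1
    rw [key ψ θ hθ z hzP, key ψ' θ' hθ' z hzP, h1, h1']
  refine ⟨?_, hψeq⟩
  apply Subtype.ext
  funext g
  obtain ⟨d, c, rfl⟩ := exists_mul_of_sup_eq_top P hG g
  rw [hθ, hθ', hψeq]

/-- Every irreducible character of `P` is the `P`-factor of a member of the block. -/
theorem exists_prod_in_block {p : ℕ} [hp : Fact p.Prime] (hM : IsPModular p M) (P : Subgroup G)
    (hP : IsPGroup p P) (hG : P ⊔ Subgroup.centralizer (P : Set G) = ⊤)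
    [Fintype ↥(Subgroup.centralizer (P : Set G))]
    (ψ₀ : IrrCharacter ↥(Subgroup.centralizer (P : Set G))) (ζ : IrrCharacter P) :
    ∃ (θ : IrrCharacter G) (ψ : IrrCharacter ↥(Subgroup.centralizer (P : Set G))),
      ψ ∈ blockOf M (ψ₀ : ↥(Subgroup.centralizer (P : Set G)) → ℂ) ∧
      ∀ (d : P) (c : ↥(Subgroup.centralizer (P : Set G))),
        (θ : G → ℂ) ((d : G) * (c : G))
          = (ζ : P → ℂ) d * (ψ : ↥(Subgroup.centralizer (P : Set G)) → ℂ) c := by
  classical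
  letI : Fintype P := Fintype.ofFinite _
  have hζ1 := apply_one_ne_zero ζ.2
  have hZp := zc_isPGroup P hP
  have hZc := zc_le_center P
  obtain ⟨ZP, hZP⟩ : ∃ ZP : Subgroup P,
      ZP = (P ⊓ Subgroup.centralizer (P : Set G)).subgroupOf P := ⟨_, rfl⟩
  have hZPc : ZP ≤ Subgroup.center P := by
    intro z hz
    rw [hZP, Subgroup.mem_subgroupOf] at hz
    rw [Subgroup.mem_center_iff]
    intro y
    apply Subtype.ext
    have := (Subgroup.mem_inf.mp hz).2
    rw [Subgroup.mem_centralizer_iff] at this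
    exact this y y.2
  letI : Fintype ZP := Fintype.ofFinite _
  letI : Fintype ↥((P ⊓ Subgroup.centralizer (P : Set G)).subgroupOf
      (Subgroup.centralizer (P : Set G))) := Fintype.ofFinite _
  have hirrP := (isIrrCharacter_central_quot ZP hZPc ζ).1
  obtain ⟨iso, hiso⟩ : ∃ iso : ↥((P ⊓ Subgroup.centralizer (P : Set G)).subgroupOf
      (Subgroup.centralizer (P : Set G))) ≃* ZP,
      ∀ z, (((iso z : ZP) : P) : G) = ((z : ↥(Subgroup.centralizer (P : Set G))) : G) := by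
    rw [hZP]
    exact ⟨(Subgroup.subgroupOfEquivOfLe inf_le_right).trans
      (Subgroup.subgroupOfEquivOfLe inf_le_left).symm, fun z => rfl⟩
  have hlam := isIrrCharacter_comp_mulEquiv iso hirrP
  obtain ⟨ψ, hψb, hψ⟩ := exists_over_of_central_defect hM _ hZp hZc ψ₀ _ hlam
  have hcompat : ∀ (z : G) (hzP : z ∈ P) (hzC : z ∈ Subgroup.centralizer (P : Set G)),
      (ζ : P → ℂ) ⟨z, hzP⟩ * (ψ : ↥(Subgroup.centralizer (P : Set G)) → ℂ) 1
        = (ζ : P → ℂ) 1 * (ψ : ↥(Subgroup.centralizer (P : Set G)) → ℂ) ⟨z, hzC⟩ := by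
    intro z hzP hzC
    have hmem : (⟨z, hzC⟩ : ↥(Subgroup.centralizer (P : Set G)))
        ∈ (P ⊓ Subgroup.centralizer (P : Set G)).subgroupOf
          (Subgroup.centralizer (P : Set G)) := by
      rw [Subgroup.mem_subgroupOf]
      exact Subgroup.mem_inf.mpr ⟨hzP, hzC⟩
    have h1 := hψ ⟨⟨z, hzC⟩, hmem⟩
    beta_reduce at h1
    have h2 : ((iso ⟨⟨z, hzC⟩, hmem⟩ : ZP) : P) = ⟨z, hzP⟩ := by
      apply Subtype.ext
      exact hiso _
    rw [h2] at h1
    simp only at h1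
    rw [h1]
    field_simp
  obtain ⟨θ, hθ⟩ := exists_of_prod P hG ζ ψ hcompat
  exact ⟨θ, ψ, hψb, hθ⟩

end Cfsg.Agent.Lib.helper3.Block
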