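import Mathlib
import Cfsg.Prelude.Def_Characters
import Cfsg.Prelude.Def_Blocks
import Cfsg.Agent.Lib.helper3.CProd7

set_option autoImplicit false
set_option linter.style.haveILetI false
set_option linter.unusedSectionVars false

/-!
# Values of the members of a block with defect group `P` in `G = P · C_G(P)`
-/

namespace Cfsg.Agent.Lib.helper3.Block

open Cfsg Cfsg.Agent.Lib.helper3.LocalM Cfsg.Agent.Lib.helper3.CharBasic
open Cfsg.Agent.Lib.helper3.Irr Cfsg.Agent.Lib.helper3.IndFun Cfsg.Agent.Lib.helper3.Central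
open scoped ComplexConjugate

universe u

variable {G : Type u} [Group G] [Fintype G] {M : Ideal AlgInt}

/-- Values of a product character whose `C_G(P)`-factor lies in the block of `ψ₀`. -/
theorem prod_values {p : ℕ} [hp : Fact p.Prime] (hM : IsPModular p M) (P : Subgroup G)
    (hP : IsPGroup p P) (hG : P ⊔ Subgroup.centralizer (P : Set G) = ⊤)
    [Fintype ↥(Subgroup.centralizer (P : Set G))]
    (ψ₀ : IrrCharacter ↥(Subgroup.centralizer (P : Set G)))
    (hdeg : (charDegree (ψ₀ : ↥(Subgroup.centralizer (P : Set G)) → ℂ)).factorization p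
        = ((P ⊓ Subgroup.centralizer (P : Set G)).subgroupOf
            (Subgroup.centralizer (P : Set G))).index.factorization p)
    (θ : IrrCharacter G) (ζ : IrrCharacter P)
    (ψ : IrrCharacter ↥(Subgroup.centralizer (P : Set G)))
    (hψ : ψ ∈ blockOf M (ψ₀ : ↥(Subgroup.centralizer (P : Set G)) → ℂ))
    (hθ : ∀ (d : P) (c : ↥(Subgroup.centralizer (P : Set G))),
        (θ : G → ℂ) ((d : G) * (c : G))
          = (ζ : P → ℂ) d * (ψ : ↥(Subgroup.centralizer (P : Set G)) → ℂ) c) :
    (∀ (y : P) (x : G) (hx : x ∈ Subgroup.centralizer (P : Set G)), ¬ p ∣ orderOf x →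
        (θ : G → ℂ) ((y : G) * x)
          = (ζ : P → ℂ) y * (ψ₀ : ↥(Subgroup.centralizer (P : Set G)) → ℂ) ⟨x, hx⟩)
      ∧ ∀ z : G, (∀ y : G, IsPPart p z y → y ∉ P) → (θ : G → ℂ) z = 0 := by
  have hZp := zc_isPGroup P hP
  have hZc := zc_le_center P
  obtain ⟨-, hdegψ⟩ := apply_one_eq_of_sameBlock hM _ hZp hZc ψ₀ hdeg ψ hψ
  constructor
  · intro y x hx hreg
    have h1 := hθ y ⟨x, hx⟩
    simp only at h1
    rw [h1]
    congr 1
    apply apply_eq_of_sameBlock_central_defect hM _ hZp hZc ψ₀ hdeg ψ hψ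
    rw [← Subgroup.orderOf_coe]
    exact hreg
  · intro z hz
    obtain ⟨d, c, rfl⟩ := exists_mul_of_sup_eq_top P hG z
    rw [hθ]
    have : (ψ : ↥(Subgroup.centralizer (P : Set G)) → ℂ) c = 0 := by
      apply apply_eq_zero_of_central_defect _ hZp hZc ψ hdegψ
      intro z' s hs hzs
      have hz'P : ((z' : ↥(Subgroup.centralizer (P : Set G))) : G) ∈ P := by
        have := z'.2
        rw [Subgroup.mem_subgroupOf] at this
        exact (Subgroup.mem_inf.mp this).1
      have hyP : (d : G) * ((z' : ↥(Subgroup.centralizer (P : Set G))) : G) ∈ P :=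
        P.mul_mem d.2 hz'P
      apply hz _ _ hyP
      refine ⟨(s : G), ?_, ?_, ?_, ?_⟩
      · rw [mul_assoc, ← Subgroup.coe_mul, hzs]
      · exact ((Subgroup.mem_centralizer_iff.mp s.2) _ hyP)
      · obtain ⟨k, hk⟩ := (IsPGroup.iff_orderOf.mp hP) ⟨_, hyP⟩
        refine ⟨k, ?_⟩
        rw [← hk, ← Subgroup.orderOf_coe]
      · rw [Subgroup.orderOf_coe]
        exact hs
    rw [this, mul_zero]

end Cfsg.Agent.Lib.helper3.Block
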