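import Mathlib
import Cfsg.Prelude.Def_Characters
import Cfsg.Prelude.Def_Blocks
import Cfsg.Agent.Lib.helper3.Irr10

set_option autoImplicit false
set_option linter.style.haveILetI false
set_option linter.unusedSectionVars false

/-!
# The central character of an induced function
-/

namespace Cfsg.Agent.Lib.helper3.Irr

open Cfsg Module Cfsg.Agent.Lib.helper3.IndFun Cfsg.Agent.Lib.helper3.CharBasic
open scoped ComplexConjugate

variable {G : Type*} [Group G]

/-- Summing a function over the conjugates `x⁻¹ g x` counts each conjugate `|C(g)|` times. -/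
theorem sum_conj_eq_card_centralizer_mul [Fintype G] (F : G → ℂ) (g : G) [DecidableEq G] :
    ∑ x : G, F (x⁻¹ * g * x)
      = (Nat.card (Subgroup.centralizer ({g} : Set G)) : ℂ)
        * ∑ y ∈ Finset.univ.filter (fun y : G => IsConj g y), F y := by
  classical
  have h1 : ∀ x : G, F (x⁻¹ * g * x) = ∑ y : G, if x * y * x⁻¹ = g then F y else 0 := by
    intro x
    rw [Finset.sum_eq_single (x⁻¹ * g * x)]
    · rw [if_pos (by group)]
    · intro y _ hy
      rw [if_neg]
      intro h
      apply hy
      rw [← h]; group
    · intro h; exact absurd (Finset.mem_univ _) h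
  simp_rw [h1]
  rw [Finset.sum_comm, Finset.mul_sum, Finset.sum_filter]
  apply Finset.sum_congr rfl
  intro y _
  have h2 : ∑ x : G, (if x * y * x⁻¹ = g then F y else 0)
      = (Nat.card {x : G // x * y * x⁻¹ = g} : ℂ) * F y := by
    rw [← Finset.sum_filter, Finset.sum_const, nsmul_eq_mul, Nat.card_eq_fintype_card,
      Fintype.card_subtype]
  rw [h2]
  split_ifs with hc
  · rw [card_conj_eq_card_centralizer hc]
  · rw [card_conj_eq_zero hc, Nat.cast_zero, zero_mul]

theorem inducedCentralChar_eq [Fintype G] (H : Subgroup G) (ξ : H → ℂ) (g : G) :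
    inducedCentralChar H ξ g = centralChar (indFun H ξ) g := by
  classical
  letI : Fintype H := Fintype.ofFinite H
  unfold inducedCentralChar centralChar
  have hset : {h : H | IsConj g (h : G)}
      = ↑(Finset.univ.filter (fun h : H => IsConj g (h : G))) := by
    ext h; simp
  rw [hset, finsum_mem_coe_finset]
  rw [indFun_apply_one, indFun_apply, sum_conj_eq_card_centralizer_mul]
  -- the sum over conjugates in `G` of the extension by zero is the sum over `H`
  have hsum : ∑ y ∈ Finset.univ.filter (fun y : G => IsConj g y), extendByZero H ξ y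
      = ∑ h ∈ Finset.univ.filter (fun h : H => IsConj g (h : G)), ξ h := by
    rw [Finset.sum_filter, Finset.sum_filter]
    have : ∀ y : G, (if IsConj g y then extendByZero H ξ y else 0)
        = extendByZero H (fun h : H => if IsConj g (h : G) then ξ h else 0) y := by
      intro y
      by_cases hy : y ∈ H
      · rw [extendByZero_mem H _ hy, extendByZero_mem H _ hy]
      · rw [extendByZero_not_mem H _ hy, extendByZero_not_mem H _ hy, ite_self]
    simp_rw [this]
    exact sum_extendByZero H _
  rw [hsum]
  have hG : (Nat.card G : ℂ) = (Nat.card (Subgroup.centralizer ({g} : Set G)) : ℂ)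
      * ((Subgroup.centralizer ({g} : Set G)).index : ℂ) := by
    rw [← Nat.cast_mul, Subgroup.card_mul_index]
  have hG' : (Nat.card G : ℂ) = (Nat.card H : ℂ) * (H.index : ℂ) := by
    rw [← Nat.cast_mul, Subgroup.card_mul_index]
  have hH : (Nat.card H : ℂ) ≠ 0 := card_ne_zero_complex H
  have hC : (Nat.card (Subgroup.centralizer ({g} : Set G)) : ℂ) ≠ 0 := card_ne_zero_complex _
  have hidx : (H.index : ℂ) ≠ 0 := by
    have : H.index ≠ 0 := Subgroup.index_ne_zero_of_finite
    exact_mod_cast this
  have hidxC : ((Subgroup.centralizer ({g} : Set G)).index : ℂ) ≠ 0 := by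
    have : (Subgroup.centralizer ({g} : Set G)).index ≠ 0 := Subgroup.index_ne_zero_of_finite
    exact_mod_cast this
  by_cases hξ1 : ξ 1 = 0
  · simp [hξ1]
  · have key : ((Subgroup.centralizer ({g} : Set G)).index : ℂ)
        * (Nat.card (Subgroup.centralizer ({g} : Set G)) : ℂ)
        = (Nat.card H : ℂ) * (H.index : ℂ) := by
      rw [← hG', hG, mul_comm]
    rw [← Finset.sum_div]
    field_simp
    linear_combination (-(∑ h ∈ Finset.univ.filter (fun h : H => IsConj g (h : G)), ξ h)) * key
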