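import Mathlib
import Cfsg.Agent.Lib.Lead.PSolvable
import Cfsg.Agent.H1.GlaubermanConj
import Cfsg.Agent.S0023
import Cfsg.Agent.S4602

set_option autoImplicit false

namespace Cfsg.Agent.Lib.helper3.ClassSz

open Cfsg

variable {G : Type*} [Group G]

/-- second isomorphism theorem, index form with the normal subgroup on the right -/
theorem relIndex_sup_of_normal [Finite G] (N M : Subgroup G) [M.Normal] :
    N.relIndex (N ⊔ M) = N.relIndex M := by
  have h1 : M.relIndex (N ⊔ M) = M.relIndex N := Subgroup.relIndex_sup_right N M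
  -- cards
  have c1 : M.relIndex (N ⊔ M) * Nat.card M = Nat.card ↥(N ⊔ M) := by
    have := Subgroup.relIndex_mul_relIndex ⊥ M (N ⊔ M) bot_le le_sup_right
    rw [Subgroup.relIndex_bot_left, Subgroup.relIndex_bot_left] at this
    rw [mul_comm]; exact this
  have c2 : N.relIndex (N ⊔ M) * Nat.card N = Nat.card ↥(N ⊔ M) := by
    have := Subgroup.relIndex_mul_relIndex ⊥ N (N ⊔ M) bot_le le_sup_left
    rw [Subgroup.relIndex_bot_left, Subgroup.relIndex_bot_left] at this
    rw [mul_comm]; exact this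
  have c3 : M.relIndex N * Nat.card ↥(N ⊓ M) = Nat.card N := by
    have := Subgroup.relIndex_mul_relIndex ⊥ (N ⊓ M) N bot_le inf_le_left
    rw [Subgroup.relIndex_bot_left, Subgroup.relIndex_bot_left, inf_comm,
      Subgroup.inf_relIndex_right] at this
    rw [mul_comm, inf_comm]; exact this
  have c4 : N.relIndex M * Nat.card ↥(N ⊓ M) = Nat.card M := by
    have := Subgroup.relIndex_mul_relIndex ⊥ (N ⊓ M) M bot_le inf_le_right
    rw [Subgroup.relIndex_bot_left, Subgroup.relIndex_bot_left,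
      Subgroup.inf_relIndex_right] at this
    rw [mul_comm]; exact this
  have hpos : 0 < M.relIndex N * Nat.card ↥(N ⊓ M) := by
    rw [c3]; exact Nat.card_pos
  have : N.relIndex (N ⊔ M) * (M.relIndex N * Nat.card ↥(N ⊓ M)) =
      N.relIndex M * (M.relIndex N * Nat.card ↥(N ⊓ M)) := by
    rw [c3, c2, ← c1, h1, ← c4, ← c3]; ring
  exact Nat.eq_of_mul_eq_mul_right hpos this

/-- lifting `q`-elements along a surjection of finite groups -/
theorem exists_lift_of_orderOf_pow [Finite G] {G' : Type*} [Group G'] (f : G →* G')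
    (hf : Function.Surjective f) (q : ℕ) [hq : Fact q.Prime] (y' : G') (k : ℕ)
    (hy' : orderOf y' = q ^ k) :
    ∃ y : G, f y = y' ∧ ∃ j : ℕ, orderOf y = q ^ j := by
  obtain ⟨g, rfl⟩ := hf y'
  have hn : orderOf g ≠ 0 := (orderOf_pos g).ne'
  obtain ⟨a, m, hm, hnam⟩ := Nat.exists_eq_pow_mul_and_not_dvd hn q hq.out.ne_one
  have hcop : Nat.Coprime m (q ^ a) :=
    Nat.Coprime.pow_right a ((Nat.Prime.coprime_iff_not_dvd hq.out).2 hm).symm
  have hka : q ^ k ∣ q ^ a := by
    have h1 : q ^ k ∣ q ^ a * m := by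
      rw [← hy', ← hnam]; exact orderOf_map_dvd f g
    exact (Nat.Coprime.pow_left k ((Nat.Prime.coprime_iff_not_dvd hq.out).2 hm)).dvd_of_dvd_mul_right h1
  by_cases ha1 : q ^ a = 1
  · -- then the image is trivial
    refine ⟨1, ?_, 0, by simp⟩
    have : q ^ k = 1 := Nat.eq_one_of_dvd_one (ha1 ▸ hka)
    rw [this, orderOf_eq_one_iff] at hy'
    rw [map_one, hy']
  have h1lt : 1 < q ^ a := by
    have : 0 < q ^ a := pow_pos hq.out.pos a
    omega
  obtain ⟨m', -, hm'⟩ := Nat.exists_mul_mod_eq_one_of_coprime hcop h1lt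
  refine ⟨g ^ (m * m'), ?_, ?_⟩
  · rw [map_pow]
    conv_rhs => rw [← pow_one (f g)]
    rw [pow_eq_pow_iff_modEq, hy']
    have h2 : m * m' ≡ 1 [MOD q ^ a] := by
      unfold Nat.ModEq
      rw [hm', Nat.mod_eq_of_lt h1lt]
    exact h2.of_dvd hka
  · have : (g ^ (m * m')) ^ (q ^ a) = 1 := by
      rw [← pow_mul]
      have : m * m' * q ^ a = orderOf g * m' := by rw [hnam]; ring
      rw [this, pow_mul, pow_orderOf_eq_one, one_pow]
    exact (Nat.dvd_prime_pow hq.out).1 (orderOf_dvd_of_pow_eq_one this) |>.imp fun j hj => hj.2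

/-- the class-size hypothesis passes to homomorphic images -/
theorem hyp_of_surjective [Finite G] {G' : Type*} [Group G'] (f : G →* G')
    (hf : Function.Surjective f) (p q : ℕ) [Fact q.Prime]
    (h : ∀ y : G, (∃ k : ℕ, orderOf y = q ^ k) →
      ¬ p ∣ (Subgroup.centralizer ({y} : Set G)).index) :
    ∀ y : G', (∃ k : ℕ, orderOf y = q ^ k) →
      ¬ p ∣ (Subgroup.centralizer ({y} : Set G')).index := by
  rintro y' ⟨k, hk⟩ hdvd
  obtain ⟨y, rfl, hj⟩ := exists_lift_of_orderOf_pow f hf q y' k hk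
  apply h y hj
  have h1 : (Subgroup.centralizer ({y} : Set G)).map f ≤
      Subgroup.centralizer ({f y} : Set G') := by
    rintro _ ⟨c, hc, rfl⟩
    have hc' : c ∈ Subgroup.centralizer ({y} : Set G) := hc
    rw [Subgroup.mem_centralizer_singleton_iff] at hc' ⊢
    rw [← map_mul, ← map_mul, hc']
  exact dvd_trans hdvd (dvd_trans (Subgroup.index_dvd_of_le h1) (Subgroup.index_map_dvd _ hf))

/-- a subgroup of index prime to `p` contains a Sylow `p`-subgroup -/
theorem exists_sylow_le_of_not_dvd_index [Finite G] (p : ℕ) [Fact p.Prime] (C : Subgroup G)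
    (hC : ¬ p ∣ C.index) : ∃ P : Sylow p G, (P : Subgroup G) ≤ C := by
  have hp : p.Prime := Fact.out
  obtain ⟨P₀⟩ : Nonempty (Sylow p ↥C) := inferInstance
  have hidx : ¬ p ∣ ((P₀ : Subgroup ↥C).map C.subtype).index := by
    rw [Subgroup.index_map_subtype]
    intro h
    rcases (Nat.Prime.dvd_mul hp).1 h with h | h
    · exact P₀.not_dvd_index h
    · exact hC h
  refine ⟨(P₀.isPGroup'.map C.subtype).toSylow hidx, ?_⟩
  show (P₀ : Subgroup ↥C).map C.subtype ≤ C
  exact Subgroup.map_subtype_le _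

/-- elements of a Sylow `q`-subgroup are `q`-elements -/
theorem orderOf_of_mem_sylow [Finite G] (q : ℕ) [hq : Fact q.Prime] (Q : Sylow q G) {x : G}
    (hx : x ∈ (Q : Subgroup G)) : ∃ k : ℕ, orderOf x = q ^ k := by
  obtain ⟨k, hk⟩ := Q.isPGroup' ⟨x, hx⟩
  have hxk : x ^ q ^ k = 1 := by
    have := congrArg Subtype.val hk
    simpa using this
  exact (Nat.dvd_prime_pow hq.out).1 (orderOf_dvd_of_pow_eq_one hxk) |>.imp fun j hj => hj.2

/-- the `p`-solvable case: all Sylow `q`-subgroups lie in `O_{p'}(G)` -/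
theorem sylow_le_pPrimeCore [Finite G] (p q : ℕ) [Fact p.Prime] [Fact q.Prime] (hpq : p ≠ q)
    (hsolv : IsPSolvable p G)
    (h : ∀ y : G, (∃ k : ℕ, orderOf y = q ^ k) →
      ¬ p ∣ (Subgroup.centralizer ({y} : Set G)).index) (Q : Sylow q G) :
    (Q : Subgroup G) ≤ pPrimeCore p G := by
  have hp : p.Prime := Fact.out
  have hq : q.Prime := Fact.out
  have hKn : (Cfsg.pPrimeCore p G).Normal := Cfsg.Agent.H1.pPrimeCore_normal p
  have hsolq : Cfsg.IsPSolvable p (G ⧸ Cfsg.pPrimeCore p G) :=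
    Cfsg.Agent.Lib.Lead.PSolvable.IsPSolvable.quotient _ hsolv
  have hbot : Cfsg.pPrimeCore p (G ⧸ Cfsg.pPrimeCore p G) = ⊥ :=
    Cfsg.Agent.H2.pPrimeCore_quotient_eq_bot p
  have hHH := Cfsg.Agent.Lib.Lead.PSolvable.centralizer_pCore_le hsolq hbot
  have hsurj : Function.Surjective (QuotientGroup.mk' (Cfsg.pPrimeCore p G)) :=
    QuotientGroup.mk'_surjective _
  have hRp : IsPGroup p ↥(Cfsg.pCore p (G ⧸ Cfsg.pPrimeCore p G)) := Cfsg.Agent.H1.pCore_isPGroup p
  intro x hx
  obtain ⟨k, hk⟩ := orderOf_of_mem_sylow q Q hx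
  obtain ⟨P, hPC⟩ := exists_sylow_le_of_not_dvd_index p _ (h x ⟨k, hk⟩)
  have hRP : Cfsg.pCore p (G ⧸ Cfsg.pPrimeCore p G) ≤
      (P : Subgroup G).map (QuotientGroup.mk' _) := by
    have := Cfsg.Agent.H1.pCore_le_sylow (P.mapSurjective hsurj)
    rwa [Sylow.coe_mapSurjective] at this
  have hxbar : QuotientGroup.mk' (Cfsg.pPrimeCore p G) x ∈
      Subgroup.centralizer ((Cfsg.pCore p (G ⧸ Cfsg.pPrimeCore p G) : Subgroup _) : Set _) := by
    rw [Subgroup.mem_centralizer_iff]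
    intro ybar hybar
    obtain ⟨y, hyP, rfl⟩ := hRP hybar
    have := Subgroup.mem_centralizer_singleton_iff.1 (hPC hyP)
    rw [← map_mul, ← map_mul, this]
  have hxR := hHH hxbar
  obtain ⟨j, hj⟩ := hRp ⟨_, hxR⟩
  have hxj : (QuotientGroup.mk' (Cfsg.pPrimeCore p G) x) ^ p ^ j = 1 := by
    have := congrArg Subtype.val hj
    simpa using this
  have hxk : x ^ q ^ k = 1 := by rw [← hk]; exact pow_orderOf_eq_one x
  have hx1 : QuotientGroup.mk' (Cfsg.pPrimeCore p G) x = 1 :=
    Cfsg.Agent.S4602.eq_one_of_pow_pow hp hq hpq hxj (by rw [← map_pow, hxk, map_one])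
  exact (QuotientGroup.eq_one_iff _).1 hx1

end Cfsg.Agent.Lib.helper3.ClassSz
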