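import Mathlib
import Cfsg.Agent.Lib.helper3.ClassSz1

set_option autoImplicit false

namespace Cfsg.Agent.Lib.helper3.ClassSz

open Cfsg

variable {G : Type*} [Group G]

theorem relIndex_map_subtype' (D : Subgroup G) (P₀ : Subgroup ↥D) :
    (P₀.map D.subtype).relIndex D = P₀.index := by
  unfold Subgroup.relIndex Subgroup.subgroupOf
  rw [Subgroup.comap_map_eq_self_of_injective D.subtype_injective]

theorem isSolvable_of_sylow [Finite G] (q : ℕ) [Fact q.Prime] (Q : Sylow q G) :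
    Group.IsSolvable ↥(Q : Subgroup G) := by
  haveI : Group.IsNilpotent ↥(Q : Subgroup G) := Q.isPGroup'.isNilpotent
  infer_instance

/-- the coprime-action step: for a normal `q'`-subgroup `M` and a Sylow `q`-subgroup `Q`, some
Sylow `p`-subgroup of `M` is centralized by `Q` -/
theorem exists_sylow_centralized [Finite G] (p q : ℕ) [Fact p.Prime] [Fact q.Prime]
    (h : ∀ y : G, (∃ k : ℕ, orderOf y = q ^ k) →
      ¬ p ∣ (Subgroup.centralizer ({y} : Set G)).index)
    (M : Subgroup G) [hMn : M.Normal] (hM : (Nat.card M).Coprime q) (Q : Sylow q G) :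
    ∃ P₁ : Sylow p M, ∀ y ∈ (Q : Subgroup G),
      (P₁ : Subgroup M).map M.subtype ≤ Subgroup.centralizer ({y} : Set G) := by
  have hp : p.Prime := Fact.out
  have hq : q.Prime := Fact.out
  have hQM : (Q : Subgroup G) ≤ Subgroup.normalizer (M : Set G) := by
    rw [Subgroup.normalizer_eq_top]; exact le_top
  obtain ⟨n, hn⟩ := IsPGroup.iff_card.1 Q.isPGroup'
  have hcop : (Nat.card (Q : Subgroup G)).Coprime (Nat.card M) := by
    rw [hn]; exact Nat.Coprime.pow_left n hM.symm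
  have hsolvQ : Group.IsSolvable ↥(Q : Subgroup G) := isSolvable_of_sylow q Q
  obtain ⟨P₁, hP₁⟩ := Cfsg.Agent.S0023.result (Q : Subgroup G) M hQM hcop (Or.inl hsolvQ) p
  refine ⟨P₁, ?_⟩
  intro y hy
  obtain ⟨A, hA⟩ : ∃ A : Subgroup G, A = Subgroup.zpowers y := ⟨_, rfl⟩
  have hAQ : A ≤ (Q : Subgroup G) := by
    rw [hA, Subgroup.zpowers_le]; exact hy
  have hAM : A ≤ Subgroup.normalizer (M : Set G) := hAQ.trans hQM
  have hcopA : (Nat.card A).Coprime (Nat.card M) :=
    Nat.Coprime.coprime_dvd_left (Subgroup.card_dvd_of_le hAQ) hcop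
  have hsolvA : Group.IsSolvable ↥A :=
    Group.isSolvable_of_isSolvable_injective (f := Subgroup.inclusion hAQ)
      (Subgroup.inclusion_injective hAQ)
  obtain ⟨C, hC⟩ : ∃ C : Subgroup G, C = Subgroup.centralizer ({y} : Set G) := ⟨_, rfl⟩
  have hCidx : ¬ p ∣ C.index := hC ▸ h y (orderOf_of_mem_sylow q Q hy)
  have hDidx : ¬ p ∣ (C ⊓ M).relIndex M := by
    rw [Subgroup.inf_relIndex_right, ← relIndex_sup_of_normal C M]
    exact fun hd => hCidx (dvd_trans hd (Subgroup.relIndex_dvd_index_of_le le_sup_left))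
  obtain ⟨P₀⟩ : Nonempty (Sylow p ↥(C ⊓ M)) := inferInstance
  obtain ⟨P₂, hP₂⟩ : ∃ P₂ : Subgroup G, P₂ = (P₀ : Subgroup ↥(C ⊓ M)).map (C ⊓ M).subtype :=
    ⟨_, rfl⟩
  have hP₂D : P₂ ≤ C ⊓ M := hP₂ ▸ Subgroup.map_subtype_le _
  have hP₂pg : IsPGroup p ↥P₂ := hP₂ ▸ P₀.isPGroup'.map _
  have hP₂idx : ¬ p ∣ (P₂.subgroupOf M).index := by
    show ¬ p ∣ P₂.relIndex M
    rw [← Subgroup.relIndex_mul_relIndex P₂ (C ⊓ M) M hP₂D inf_le_right, hP₂,
      relIndex_map_subtype']
    intro hd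
    rcases (Nat.Prime.dvd_mul hp).1 hd with hd | hd
    · exact P₀.not_dvd_index hd
    · exact hDidx hd
  have hP₂pg' : IsPGroup p ↥(P₂.subgroupOf M) := hP₂pg.comap_subtype
  obtain ⟨g, hg⟩ := MulAction.exists_smul_eq M P₁ (hP₂pg'.toSylow hP₂idx)
  have hconj : P₂ = ((P₁ : Subgroup M).map M.subtype).map (MulAut.conj (g : G)).toMonoidHom := by
    rw [← Cfsg.Agent.H1.sylow_smul_map_subtype, hg]
    show P₂ = (P₂.subgroupOf M).map M.subtype
    rw [Subgroup.map_subgroupOf_eq_of_le (hP₂D.trans inf_le_right)]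
  -- both are `A`-invariant
  have hAP₁ : A ≤ Subgroup.normalizer (((P₁ : Subgroup M).map M.subtype : Subgroup G) : Set G) :=
    hAQ.trans hP₁
  have hP₂C : P₂ ≤ C := hP₂D.trans inf_le_left
  have hAP₂ : A ≤ Subgroup.normalizer ((P₂ : Subgroup G) : Set G) := by
    rw [hA, Subgroup.zpowers_le, Subgroup.mem_normalizer_iff]
    intro x
    constructor
    · intro hx
      have := hP₂C hx
      rw [hC, Subgroup.mem_centralizer_singleton_iff] at this
      rw [← this, mul_inv_cancel_right]; exact hx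
    · intro hx
      have := hP₂C hx
      rw [hC, Subgroup.mem_centralizer_singleton_iff] at this
      have e : y * x * y⁻¹ * y = y * (y * x * y⁻¹) := this
      have e2 : x = y * x * y⁻¹ := by
        have : y * x = y * (y * x * y⁻¹) := by rw [← e]; group
        exact mul_left_cancel this
      rw [e2]; exact hx
  -- conjugate back by an element centralizing `A`
  obtain ⟨c, hc, hc2⟩ := Cfsg.Agent.H1.conj_centralizer_of_invariant A M P₂
    ((P₁ : Subgroup M).map M.subtype) hAM hcopA (Or.inl hsolvA) hAP₂ hAP₁ (g : G)⁻¹ (inv_mem g.2)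
    (by rw [hconj, Cfsg.Agent.H1.map_conj_map_conj, inv_mul_cancel, Cfsg.Agent.H1.map_conj_one])
  have hcy : c * y = y * c := by
    have := (Subgroup.mem_inf.1 hc).2
    rw [Subgroup.mem_centralizer_iff] at this
    exact (this y (hA ▸ Subgroup.mem_zpowers y)).symm
  intro x hx
  rw [hc2, Cfsg.Agent.H1.mem_map_conj_iff] at hx
  have hx' := hP₂C hx
  rw [hC, Subgroup.mem_centralizer_singleton_iff] at hx'
  rw [Subgroup.mem_centralizer_singleton_iff]
  -- `x = c * (c⁻¹ * x * c) * c⁻¹`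
  have hcy' : c⁻¹ * y = y * c⁻¹ := by
    have : c⁻¹ * (c * y) * c⁻¹ = c⁻¹ * (y * c) * c⁻¹ := by rw [hcy]
    simpa [mul_assoc] using this.symm
  have e : x = c * (c⁻¹ * x * c) * c⁻¹ := by group
  rw [e]
  calc c * (c⁻¹ * x * c) * c⁻¹ * y = c * ((c⁻¹ * x * c) * y) * c⁻¹ := by
        rw [mul_assoc, mul_assoc, hcy', ← mul_assoc, ← mul_assoc, ← mul_assoc, ← mul_assoc]
        simp only [mul_assoc]
    _ = c * (y * (c⁻¹ * x * c)) * c⁻¹ := by rw [hx']
    _ = y * (c * (c⁻¹ * x * c) * c⁻¹) := by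
        rw [← mul_assoc, hcy]; simp only [mul_assoc]

end Cfsg.Agent.Lib.helper3.ClassSz
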