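import Mathlib
import Cfsg.Agent.Lib.helper3.ClassSz2

set_option autoImplicit false

namespace Cfsg.Agent.Lib.helper3.ClassSz

open Cfsg Cfsg.Agent.Lib.Lead.PSolvable

universe u

/-- the `q`-solvable case: the normalizer of a Sylow `q`-subgroup has index prime to `p` -/
theorem not_dvd_index_normalizer_aux (p q : ℕ) [Fact p.Prime] [Fact q.Prime] :
    ∀ (n : ℕ) (G : Type u) [Group G] [Finite G], Nat.card G = n → IsPSolvable q G →
      (∀ y : G, (∃ k : ℕ, orderOf y = q ^ k) →
        ¬ p ∣ (Subgroup.centralizer ({y} : Set G)).index) →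
      ∀ Q : Sylow q G, ¬ p ∣ (Subgroup.normalizer ((Q : Subgroup G) : Set G)).index := by
  have hp : p.Prime := Fact.out
  have hq : q.Prime := Fact.out
  intro n
  induction n using Nat.strong_induction_on with
  | _ n ih =>
  intro G _ _ hcard hsolv h Q
  rcases subsingleton_or_nontrivial G with hsub | hnt
  · have : Subgroup.normalizer ((Q : Subgroup G) : Set G) = ⊤ := Subsingleton.elim _ _
    rw [this, Subgroup.index_top]
    exact fun hd => hp.one_lt.ne' (Nat.dvd_one.1 hd)
  obtain ⟨M, hMn, hMbot, hM⟩ := IsPSolvable.exists_normal hsolv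
  have := hMn
  have hsurj : Function.Surjective (QuotientGroup.mk' M) := QuotientGroup.mk'_surjective M
  have hcardlt : Nat.card (G ⧸ M) < n := by
    rw [← hcard, ← Subgroup.index_eq_card, ← M.card_mul_index]
    have h1 : 1 < Nat.card M := (Subgroup.one_lt_card_iff_ne_bot M).2 hMbot
    have h2 : 0 < M.index := Nat.pos_of_ne_zero Subgroup.index_ne_zero_of_finite
    nlinarith
  have hsolvq : IsPSolvable q (G ⧸ M) := IsPSolvable.quotient M hsolv
  have hq' := hyp_of_surjective (QuotientGroup.mk' M) hsurj p q h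
  have hind := ih _ hcardlt (G ⧸ M) rfl hsolvq hq' (Q.mapSurjective hsurj)
  rw [Sylow.coe_mapSurjective] at hind
  obtain ⟨H, hH⟩ : ∃ H : Subgroup G, H = (Subgroup.normalizer
      (((Q : Subgroup G).map (QuotientGroup.mk' M) : Subgroup (G ⧸ M)) : Set (G ⧸ M))).comap
        (QuotientGroup.mk' M) := ⟨_, rfl⟩
  have hHidx : ¬ p ∣ H.index := by
    rw [hH, Subgroup.index_comap_of_surjective _ hsurj]; exact hind
  obtain ⟨N, hN⟩ : ∃ N : Subgroup G, N = Subgroup.normalizer ((Q : Subgroup G) : Set G) :=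
    ⟨_, rfl⟩
  rw [← hN]
  have hQN : (Q : Subgroup G) ≤ N := hN ▸ Subgroup.le_normalizer
  have hNH : N ≤ H := by
    rw [hH, hN]; intro x hx
    rw [Subgroup.mem_comap]
    exact Subgroup.le_normalizer_map (QuotientGroup.mk' M) ⟨x, hx, rfl⟩
  -- Frattini
  have hHle : H ≤ N ⊔ M := by
    intro x hx
    rw [hH, Subgroup.mem_comap] at hx
    obtain ⟨K, hK⟩ : ∃ K : Subgroup G, K = (Q : Subgroup G) ⊔ M := ⟨_, rfl⟩
    have h1 : (Q : Subgroup G) ≤ K := hK ▸ le_sup_left
    have hKle : K ≤ N ⊔ M := hK ▸ sup_le_sup_right hQN M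
    have h2 : ((x • Q : Sylow q G) : Subgroup G) ≤ K := by
      intro w hw
      have hw' : x⁻¹ * w * x ∈ (Q : Subgroup G) := (Cfsg.Agent.H1.mem_sylow_smul x w Q).1 hw
      -- image of `w` lies in the image of `Q`
      have h3 : QuotientGroup.mk' M w ∈ (Q : Subgroup G).map (QuotientGroup.mk' M) := by
        have h4 : QuotientGroup.mk' M (x⁻¹ * w * x) ∈ (Q : Subgroup G).map (QuotientGroup.mk' M) :=
          ⟨_, hw', rfl⟩
        have h5 := (Subgroup.mem_normalizer_iff.1 hx _).1 h4
        have e : QuotientGroup.mk' M x * QuotientGroup.mk' M (x⁻¹ * w * x) *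
            (QuotientGroup.mk' M x)⁻¹ = QuotientGroup.mk' M w := by
          rw [← map_inv, ← map_mul, ← map_mul]
          congr 1; group
        rwa [e] at h5
      obtain ⟨z, hz, hzw⟩ := h3
      have h6 : z⁻¹ * w ∈ M := by
        have := (QuotientGroup.eq (s := M) (a := z) (b := w)).1 hzw
        exact this
      have e : w = z * (z⁻¹ * w) := by group
      rw [e, hK]
      exact mul_mem (Subgroup.mem_sup_left hz) (Subgroup.mem_sup_right h6)
    obtain ⟨k, hkK, hk⟩ := Cfsg.Agent.H1.sylow_conj_in_subgroup Q (x • Q) K h1 h2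
    have h7 : (x⁻¹ * k) • Q = Q := by
      rw [mul_smul, hk, ← mul_smul, inv_mul_cancel, one_smul]
    have h8 : x⁻¹ * k ∈ N := hN ▸ Sylow.smul_eq_iff_mem_normalizer.1 h7
    have e : x = k * (x⁻¹ * k)⁻¹ := by group
    rw [e]
    exact mul_mem (hKle hkK) (Subgroup.mem_sup_left (inv_mem h8))
  -- the relative index in `M`
  have hrel : ¬ p ∣ N.relIndex M := by
    rcases hM with hM | hM
    · have : M ≤ N := (hM.le_sylow_of_normal Q).trans hQN
      rw [Subgroup.relIndex_eq_one.2 this]
      exact fun hd => hp.one_lt.ne' (Nat.dvd_one.1 hd)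
    · obtain ⟨P₁, hP₁⟩ := exists_sylow_centralized p q h M hM Q
      have hP₁N : (P₁ : Subgroup M).map M.subtype ≤ N := by
        intro x hx
        rw [hN, Subgroup.mem_normalizer_iff]
        intro y
        constructor
        · intro hy
          have := Subgroup.mem_centralizer_singleton_iff.1 (hP₁ y hy hx)
          rw [this, mul_inv_cancel_right]; exact hy
        · intro hy
          have := Subgroup.mem_centralizer_singleton_iff.1 (hP₁ _ hy hx)
          have e2 : y = x * y * x⁻¹ := by
            have : x * y = x * (x * y * x⁻¹) := by rw [this]; group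
            exact mul_left_cancel this
          rw [e2]; exact hy
      intro hd
      have h9 : N.relIndex M ∣ ((P₁ : Subgroup M).map M.subtype).relIndex M :=
        Subgroup.relIndex_dvd_of_le_left M hP₁N
      rw [relIndex_map_subtype'] at h9
      exact P₁.not_dvd_index (dvd_trans hd h9)
  rw [← Subgroup.relIndex_mul_index hNH]
  intro hd
  rcases (Nat.Prime.dvd_mul hp).1 hd with hd | hd
  · apply hrel
    rw [← relIndex_sup_of_normal N M, ← Subgroup.relIndex_mul_relIndex N H (N ⊔ M) hNH hHle]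
    exact dvd_mul_of_dvd_left hd _
  · exact hHidx hd

theorem not_dvd_index_normalizer {G : Type u} [Group G] [Finite G] (p q : ℕ) [Fact p.Prime]
    [Fact q.Prime] (hsolv : IsPSolvable q G)
    (h : ∀ y : G, (∃ k : ℕ, orderOf y = q ^ k) →
        ¬ p ∣ (Subgroup.centralizer ({y} : Set G)).index) (Q : Sylow q G) :
    ¬ p ∣ (Subgroup.normalizer ((Q : Subgroup G) : Set G)).index :=
  not_dvd_index_normalizer_aux p q _ G rfl hsolv h Q

end Cfsg.Agent.Lib.helper3.ClassSz
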