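import Mathlib
import Cfsg.Prelude.Def_Characters
import Cfsg.Agent.Lib.helper3.Degrees
import Cfsg.Agent.Lib.helper3.Irr10
import Cfsg.Agent.Lib.helper3.PDeg5

set_option autoImplicit false
set_option linter.style.haveILetI false
set_option linter.unusedSectionVars false

/-!
# Characters induced from a Sylow subgroup, by degree counting
-/

namespace Cfsg.Agent.Lib.helper3.CodegSyl

open Cfsg Module Cfsg.Agent.Lib.helper3.IndFun Cfsg.Agent.Lib.helper3.CharBasic
open Cfsg.Agent.Lib.helper3.Irr Cfsg.Agent.Lib.helper3.Central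
open scoped ComplexConjugate

variable {G : Type*} [Group G] [Fintype G]

/-- If `ψ` is an irreducible constituent of `χ` restricted to `H`, then `χ(1) ≤ |G:H| ψ(1)`. -/
theorem degree_le_of_constituent_restrict (H : Subgroup G) [Fintype H] {χ : G → ℂ}
    (hχ : IsIrrCharacter G χ) (ψ : IrrCharacter H)
    (h : classInner (ψ : H → ℂ) (fun x : H => χ x) ≠ 0) {a b : ℕ} (ha : χ 1 = a)
    (hb : (ψ : H → ℂ) 1 = b) : a ≤ H.index * b := by
  have hχc := isCharacter_of_isIrrCharacter hχ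
  have hind : IsCharacter G (indFun H (ψ : H → ℂ)) :=
    isCharacter_indFun H _ (isCharacter_of_isIrrCharacter ψ.2)
  have hfr := frobenius_reciprocity H (ψ : H → ℂ) χ (isClassFunction_of_isCharacter hχc)
  have h1 : classInner (indFun H (ψ : H → ℂ)) ((⟨χ, hχ⟩ : IrrCharacter G) : G → ℂ) ≠ 0 := by
    show classInner (indFun H (ψ : H → ℂ)) χ ≠ 0
    rw [hfr]; exact h
  have h2 : indFun H (ψ : H → ℂ) 1 = ((H.index * b : ℕ) : ℂ) := by
    rw [indFun_apply_one, hb]; push_cast; ring
  exact constituent_degree_le hind ⟨χ, hχ⟩ h1 h2 ha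

/-- Degree counting: an irreducible character of degree `|G:H| p^e`, with `H` a `p`-group of index
prime to `p`, is induced from `H`. -/
theorem exists_induced_eq (p : ℕ) [hp : Fact p.Prime] (H : Subgroup G) (hH : IsPGroup p H)
    (hcop : ¬ p ∣ H.index) (χ : G → ℂ) (hχ : IsIrrCharacter G χ) (e : ℕ)
    (hdeg : χ 1 = ((H.index * p ^ e : ℕ) : ℂ)) :
    ∃ θ : H → ℂ, IsIrrCharacter H θ ∧ χ = indFun H θ := by
  classical
  letI : Fintype H := Fintype.ofFinite H
  have hχc := isCharacter_of_isIrrCharacter hχ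
  have hres : IsCharacter H (fun x : H => χ x) := isCharacter_restrict hχc H
  obtain ⟨m, hm⟩ := exists_decomposition_of_isCharacter hres
  obtain ⟨a', ha'⟩ := (IsPGroup.iff_card).mp hH
  have hpow : ∀ ψ : IrrCharacter H, ∃ f : ℕ, (ψ : H → ℂ) 1 = ((p ^ f : ℕ) : ℂ) := by
    intro ψ
    obtain ⟨n, hn1, hn2, _⟩ := irr_degree_dvd_card ψ.2
    rw [ha'] at hn2
    obtain ⟨f, _, hf⟩ := (Nat.dvd_prime_pow hp.out).mp hn2
    exact ⟨f, by rw [hn1, hf]⟩
  choose f hf using hpow
  have hmψ : ∀ ψ : IrrCharacter H, classInner (fun x : H => χ x) (ψ : H → ℂ) = m ψ := by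
    intro ψ
    rw [hm]
    exact classInner_decomposition_left _ ψ
  have hle : ∀ ψ : IrrCharacter H, m ψ ≠ 0 → e ≤ f ψ := by
    intro ψ hψ
    have h1 : classInner (ψ : H → ℂ) (fun x : H => χ x) ≠ 0 := by
      rw [← classInner_conj_symm, hmψ]
      simpa using hψ
    have h2 := degree_le_of_constituent_restrict H hχ ψ h1 hdeg (hf ψ)
    have hidx : 0 < H.index := Nat.pos_of_ne_zero Subgroup.index_ne_zero_of_finite
    have h3 : p ^ e ≤ p ^ f ψ := Nat.le_of_mul_le_mul_left h2 hidx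
    exact (Nat.pow_le_pow_iff_right hp.out.one_lt).mp h3
  have hsum : H.index * p ^ e = ∑ ψ : IrrCharacter H, m ψ * p ^ f ψ := by
    have h1 := congrFun hm 1
    simp only [Finset.sum_apply, Pi.smul_apply, smul_eq_mul] at h1
    have h2 : χ ((1 : H) : G) = χ 1 := by rw [Subgroup.coe_one]
    rw [h2, hdeg] at h1
    have h3 : ((H.index * p ^ e : ℕ) : ℂ) = ((∑ ψ : IrrCharacter H, m ψ * p ^ f ψ : ℕ) : ℂ) := by
      rw [h1]
      push_cast
      apply Finset.sum_congr rfl
      intro ψ _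
      rw [hf ψ]; push_cast; ring
    exact_mod_cast h3
  have hex : ∃ ψ : IrrCharacter H, m ψ ≠ 0 ∧ f ψ = e := by
    by_contra hne
    push Not at hne
    have hdvd : p ^ (e + 1) ∣ H.index * p ^ e := by
      rw [hsum]
      apply Finset.dvd_sum
      intro ψ _
      by_cases hψ : m ψ = 0
      · rw [hψ, zero_mul]; exact dvd_zero _
      · have h1 := hle ψ hψ
        have h2 := hne ψ hψ
        have h3 : e + 1 ≤ f ψ := by omega
        exact Dvd.dvd.mul_left (pow_dvd_pow p h3) _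
    rw [pow_succ, mul_comm (p ^ e) p] at hdvd
    have hpe : 0 < p ^ e := pow_pos hp.out.pos e
    have : p ∣ H.index := by
      have h4 : p * p ^ e ∣ H.index * p ^ e := hdvd
      exact Nat.dvd_of_mul_dvd_mul_right hpe h4
    exact hcop this
  obtain ⟨ψ, hψ0, hψe⟩ := hex
  refine ⟨(ψ : H → ℂ), ψ.2, ?_⟩
  have hind : IsCharacter G (indFun H (ψ : H → ℂ)) :=
    isCharacter_indFun H _ (isCharacter_of_isIrrCharacter ψ.2)
  have hfr := frobenius_reciprocity H (ψ : H → ℂ) χ (isClassFunction_of_isCharacter hχc)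
  have h1 : classInner (indFun H (ψ : H → ℂ)) ((⟨χ, hχ⟩ : IrrCharacter G) : G → ℂ) ≠ 0 := by
    show classInner (indFun H (ψ : H → ℂ)) χ ≠ 0
    rw [hfr, ← classInner_conj_symm, hmψ]
    simpa using hψ0
  have hsub := isCharacter_sub_of_classInner_ne_zero hind ⟨χ, hχ⟩ h1
  have hzero : (indFun H (ψ : H → ℂ) - χ) 1 = 0 := by
    rw [Pi.sub_apply, indFun_apply_one, hf ψ, hψe, hdeg]
    push_cast; ring
  have h0 := Cfsg.Agent.Lib.helper3.PDeg.eq_zero_of_apply_one_eq_zero hsub hzero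
  have := sub_eq_zero.mp h0
  exact this.symm

/-- If the function induced from a character `θ` of `H` is irreducible, then `θ` has the degree of an
irreducible character of `H`. -/
theorem degree_eq_of_induced_irr (H : Subgroup G) (θ : H → ℂ) (hθ : IsCharacter H θ)
    (hχ : IsIrrCharacter G (indFun H θ)) : ∃ ψ : IrrCharacter H, θ 1 = (ψ : H → ℂ) 1 := by
  classical
  letI : Fintype H := Fintype.ofFinite H
  obtain ⟨χ, hχdef⟩ : ∃ χ, χ = indFun H θ := ⟨_, rfl⟩
  rw [← hχdef] at hχ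
  have hχc := isCharacter_of_isIrrCharacter hχ
  have hfr := frobenius_reciprocity H θ χ (isClassFunction_of_isCharacter hχc)
  rw [← hχdef, irr_classInner_self hχ] at hfr
  have hdec := isCharacter_eq_sum_classInner hθ
  have h1 : (1 : ℂ) = ∑ ψ : IrrCharacter H, classInner θ (ψ : H → ℂ) *
      classInner (ψ : H → ℂ) (fun x : H => χ x) := by
    conv_lhs => rw [hfr, hdec]
    rw [classInner_sum_left]
    apply Finset.sum_congr rfl
    intro ψ _
    rw [classInner_smul_left]
  have hex : ∃ ψ : IrrCharacter H, classInner θ (ψ : H → ℂ) ≠ 0 ∧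
      classInner (ψ : H → ℂ) (fun x : H => χ x) ≠ 0 := by
    by_contra hne
    push Not at hne
    have : ∑ ψ : IrrCharacter H, classInner θ (ψ : H → ℂ) *
        classInner (ψ : H → ℂ) (fun x : H => χ x) = 0 := by
      apply Finset.sum_eq_zero
      intro ψ _
      by_cases h : classInner θ (ψ : H → ℂ) = 0
      · rw [h, zero_mul]
      · rw [hne ψ h, mul_zero]
    rw [this] at h1
    exact one_ne_zero h1
  obtain ⟨ψ, hψ1, hψ2⟩ := hex
  refine ⟨ψ, ?_⟩
  obtain ⟨t, ht⟩ := exists_nat_apply_one hθ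
  obtain ⟨s, hs⟩ := exists_nat_apply_one (isCharacter_of_isIrrCharacter ψ.2)
  have hχ1 : χ 1 = ((H.index * t : ℕ) : ℂ) := by
    rw [hχdef, indFun_apply_one, ht]; push_cast; ring
  have h2 := degree_le_of_constituent_restrict H hχ ψ hψ2 hχ1 hs
  have h3 : s ≤ t := constituent_degree_le hθ ψ hψ1 ht hs
  have hidx : 0 < H.index := Nat.pos_of_ne_zero Subgroup.index_ne_zero_of_finite
  have h4 : t ≤ s := Nat.le_of_mul_le_mul_left h2 hidx
  rw [ht, hs, le_antisymm h4 h3]

end Cfsg.Agent.Lib.helper3.CodegSyl
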