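import Mathlib

/-!
# The arithmetic behind the odd weights
-/

set_option autoImplicit false

namespace Cfsg.Agent.Lib.helper3.Contrib

theorem odd_weights_arith {ι : Type*} (S : Finset ι) (a : ι → ℕ) (D l : ℕ)
    (hodd : ∀ χ ∈ S, Odd (a χ)) (hsum : ∑ χ ∈ S, a χ ≤ D * l)
    (hk : ∀ χ ∈ S, S.card ≤ D * a χ) :
    (Odd (Nat.sqrt l) → S.card ≤ Nat.sqrt l * D) ∧
    (¬ Odd (Nat.sqrt l) → (Nat.sqrt l + 1) * S.card ≤ l * D) ∧
    (l ≤ 3 → S.card ≤ D) := by
  rcases S.eq_empty_or_nonempty with hS | hS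
  · subst hS
    simp
  obtain ⟨χ0, hχ0, hmin⟩ := Finset.exists_min_image S a hS
  obtain ⟨k, hk0⟩ : ∃ k, k = S.card := ⟨_, rfl⟩
  obtain ⟨A, hA⟩ : ∃ A, A = a χ0 := ⟨_, rfl⟩
  have h1 : k * A ≤ D * l := by
    calc k * A = ∑ _χ ∈ S, A := by rw [Finset.sum_const, smul_eq_mul, hk0]
      _ ≤ ∑ χ ∈ S, a χ := Finset.sum_le_sum (fun χ hχ => by rw [hA]; exact hmin χ hχ)
      _ ≤ D * l := hsum
  have h2 : k ≤ D * A := by
    rw [hk0, hA]
    exact hk χ0 hχ0
  have hAodd : Odd A := by
    rw [hA]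
    exact hodd χ0 hχ0
  obtain ⟨s, hs⟩ : ∃ s, s = Nat.sqrt l := ⟨_, rfl⟩
  have hs1 : s * s ≤ l := by
    rw [hs]
    exact Nat.sqrt_le l
  have hs2 : l < (s + 1) * (s + 1) := by
    rw [hs]
    exact Nat.lt_succ_sqrt l
  have hs3 : l ≤ s * (s + 2) := by
    have : (s + 1) * (s + 1) = s * (s + 2) + 1 := by ring
    omega
  rw [← hk0, ← hs]
  have part1 : Odd s → k ≤ s * D := by
    intro hsodd
    by_cases hAs : A ≤ s
    · calc k ≤ D * A := h2
        _ ≤ D * s := Nat.mul_le_mul_left _ hAs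
        _ = s * D := mul_comm _ _
    · have hA2 : s + 2 ≤ A := by
        obtain ⟨r, hr⟩ := hAodd
        obtain ⟨t, ht⟩ := hsodd
        omega
      have h3 : k * (s + 2) ≤ (s * D) * (s + 2) := by
        calc k * (s + 2) ≤ k * A := Nat.mul_le_mul_left _ hA2
          _ ≤ D * l := h1
          _ ≤ D * (s * (s + 2)) := Nat.mul_le_mul_left _ hs3
          _ = (s * D) * (s + 2) := by ring
      exact Nat.le_of_mul_le_mul_right h3 (by omega)
  refine ⟨part1, ?_, ?_⟩
  · intro hsodd
    rw [Nat.not_odd_iff_even] at hsodd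
    by_cases hAs : A ≤ s
    · have hA2 : A + 1 ≤ s := by
        obtain ⟨r, hr⟩ := hAodd
        obtain ⟨t, ht⟩ := hsodd
        omega
      have h3 : (s + 1) * A ≤ s * s := by
        obtain ⟨t, rfl⟩ : ∃ t, s = A + 1 + t := ⟨s - (A + 1), by omega⟩
        nlinarith [Nat.zero_le (A * t)]
      calc (s + 1) * k ≤ (s + 1) * (D * A) := Nat.mul_le_mul_left _ h2
        _ = D * ((s + 1) * A) := by ring
        _ ≤ D * (s * s) := Nat.mul_le_mul_left _ h3
        _ ≤ D * l := Nat.mul_le_mul_left _ hs1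
        _ = l * D := mul_comm _ _
    · calc (s + 1) * k ≤ A * k := Nat.mul_le_mul_right _ (by omega)
        _ = k * A := mul_comm _ _
        _ ≤ D * l := h1
        _ = l * D := mul_comm _ _
  · intro hl
    rcases Nat.eq_zero_or_pos l with h0 | h0
    · rw [h0, mul_zero] at h1
      have hApos : 0 < A := hAodd.pos
      have hk00 : k = 0 := by
        rcases Nat.eq_zero_or_pos k with h | h
        · exact h
        · have := Nat.mul_pos h hApos
          omega
      omega
    · have hs' : s = 1 := by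
        have h3 : s ≤ 1 := by
          by_contra h
          have h4 : 2 ≤ s := by omega
          have : 2 * 2 ≤ s * s := Nat.mul_le_mul h4 h4
          omega
        have h4 : 1 ≤ s := by
          by_contra h
          have h5 : s = 0 := by omega
          subst h5
          omega
        omega
      have := part1 (by rw [hs']; exact odd_one)
      rw [hs', one_mul] at this
      exact this

end Cfsg.Agent.Lib.helper3.Contrib
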