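import Mathlib
import Cfsg.Prelude.Def_Characters
import Cfsg.Prelude.Def_OddOrderLocal
import Cfsg.Agent.Lib.helper3.CycTI4

set_option autoImplicit false
set_option linter.style.haveILetI false
set_option linter.unusedSectionVars false

/-!
# Coefficient functions on the dual of `W = W₁ × W₂` with few nonzero values
-/

namespace Cfsg.Agent.Lib.helper3.CycTI

open Cfsg Cfsg.Agent.Lib.helper3.IndFun Cfsg.Agent.Lib.helper3.Irr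

variable {G : Type*} [Group G]

theorem few_coefficients [Finite G] (W₁ W₂ : Subgroup G) (hW : IsSelfNormalizingCyclic W₁ W₂)
    (hodd : Odd (Nat.card ↥(W₁ ⊔ W₂))) (hlt : Nat.card W₁ < Nat.card W₂)
    (a : (↥(W₁ ⊔ W₂) →* ℂˣ) → ℂ)
    (hrel : ∀ φ ∈ trivOn W₁ W₂ W₂, ∀ ψ ∈ trivOn W₁ W₂ W₁, a (φ * ψ) + a 1 = a φ + a ψ)
    (hfew : Nat.card {ω : ↥(W₁ ⊔ W₂) →* ℂˣ // a ω ≠ 0} < 2 * Nat.card W₁) :
    (∀ ω, a ω = 0) ∨
    (∃ (ψ₀ : ↥(W₁ ⊔ W₂) →* ℂˣ) (b : ℂ), ∀ ω, (ω * ψ₀⁻¹ ∈ trivOn W₁ W₂ W₂ → a ω = b) ∧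
      (ω * ψ₀⁻¹ ∉ trivOn W₁ W₂ W₂ → a ω = 0)) ∨
    (∃ (φ₀ : ↥(W₁ ⊔ W₂) →* ℂˣ) (b : ℂ), ∀ ω, (ω * φ₀⁻¹ ∈ trivOn W₁ W₂ W₁ → a ω = b) ∧
      (ω * φ₀⁻¹ ∉ trivOn W₁ W₂ W₁ → a ω = 0)) := by
  classical
  obtain ⟨hcomp, hΦc, hΨc⟩ := isComplement_trivOn W₁ W₂ hW
  have hcyc : IsCyclic ↥(W₁ ⊔ W₂) := hW.2.2.2.2.1
  haveI : Finite (↥(W₁ ⊔ W₂) →* ℂˣ) :=
    Nat.finite_of_card_ne_zero (by rw [card_dual_sup W₁ W₂ hcyc]; exact Nat.card_pos.ne')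
  letI : Fintype (trivOn W₁ W₂ W₂) := Fintype.ofFinite _
  letI : Fintype (trivOn W₁ W₂ W₁) := Fintype.ofFinite _
  have hdisj := hcomp.disjoint
  rw [Subgroup.disjoint_def] at hdisj
  have hbij : Function.Bijective (fun p : trivOn W₁ W₂ W₂ × trivOn W₁ W₂ W₁ =>
      ((p.1 : ↥(W₁ ⊔ W₂) →* ℂˣ)) * (p.2 : ↥(W₁ ⊔ W₂) →* ℂˣ)) := hcomp
  -- parity
  have hIJ : Fintype.card (trivOn W₁ W₂ W₂) + 2 ≤ Fintype.card (trivOn W₁ W₂ W₁) := by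
    rw [← Nat.card_eq_fintype_card, ← Nat.card_eq_fintype_card, hΦc, hΨc]
    rw [card_sup W₁ W₂ hW, Nat.odd_mul] at hodd
    obtain ⟨⟨k, hk⟩, ⟨l, hl⟩⟩ := hodd
    omega
  obtain ⟨x, hx⟩ : ∃ x : trivOn W₁ W₂ W₂ → ℂ, x = fun φ : ↥(trivOn W₁ W₂ W₂) => a φ.1 := ⟨_, rfl⟩
  obtain ⟨y, hy⟩ : ∃ y : trivOn W₁ W₂ W₁ → ℂ, y = fun ψ : ↥(trivOn W₁ W₂ W₁) => a ψ.1 := ⟨_, rfl⟩
  have hA : ∀ (φ : trivOn W₁ W₂ W₂) (ψ : trivOn W₁ W₂ W₁),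
      a ((φ : ↥(W₁ ⊔ W₂) →* ℂˣ) * ψ) = x φ + y ψ - a 1 := by
    intro φ ψ
    rw [hx, hy]
    have := hrel φ φ.2 ψ ψ.2
    linear_combination this
  have hcount : (Finset.univ.filter (fun p : trivOn W₁ W₂ W₂ × trivOn W₁ W₂ W₁ =>
      x p.1 + y p.2 - a 1 ≠ 0)).card = Nat.card {ω : ↥(W₁ ⊔ W₂) →* ℂˣ // a ω ≠ 0} := by
    rw [← Fintype.card_subtype, ← Nat.card_eq_fintype_card]
    apply Nat.card_congr
    refine Equiv.subtypeEquiv (Equiv.ofBijective _ hbij) ?_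
    intro p
    rw [Equiv.ofBijective_apply, hA]
  have hfew' : (Finset.univ.filter (fun p : trivOn W₁ W₂ W₂ × trivOn W₁ W₂ W₁ =>
      x p.1 + y p.2 - a 1 ≠ 0)).card < 2 * Fintype.card (trivOn W₁ W₂ W₂) := by
    rw [hcount, ← Nat.card_eq_fintype_card, hΦc]
    exact hfew
  rcases matrix_trichotomy x y (a 1) hIJ hfew' with h | ⟨j₀, b, h⟩ | ⟨i₀, b, h⟩
  · left
    intro ω
    obtain ⟨⟨φ, ψ⟩, rfl⟩ := hbij.2 ω
    simp only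
    rw [hA, h]
  · right; left
    refine ⟨(j₀ : ↥(W₁ ⊔ W₂) →* ℂˣ), b, ?_⟩
    intro ω
    obtain ⟨⟨φ, ψ⟩, rfl⟩ := hbij.2 ω
    simp only
    have hiff : (φ : ↥(W₁ ⊔ W₂) →* ℂˣ) * ψ * (j₀ : ↥(W₁ ⊔ W₂) →* ℂˣ)⁻¹ ∈ trivOn W₁ W₂ W₂
        ↔ ψ = j₀ := by
      constructor
      · intro hmem
        apply Subtype.ext
        apply hom_ext_sup W₁ W₂
        · intro w hw
          rw [ψ.2 w hw, j₀.2 w hw]
        · intro w hw
          have := hmem w hw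
          rw [MonoidHom.mul_apply, MonoidHom.mul_apply, MonoidHom.inv_apply, φ.2 w hw, one_mul,
            mul_inv_eq_one] at this
          exact this
      · intro heq w hw
        rw [heq, MonoidHom.mul_apply, MonoidHom.mul_apply, MonoidHom.inv_apply, φ.2 w hw, one_mul,
          mul_inv_cancel]
    rw [hA, h, hiff]
    constructor
    · intro heq; rw [if_pos heq]
    · intro hne; rw [if_neg hne]
  · right; right
    refine ⟨(i₀ : ↥(W₁ ⊔ W₂) →* ℂˣ), b, ?_⟩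
    intro ω
    obtain ⟨⟨φ, ψ⟩, rfl⟩ := hbij.2 ω
    simp only
    have hiff : (φ : ↥(W₁ ⊔ W₂) →* ℂˣ) * ψ * (i₀ : ↥(W₁ ⊔ W₂) →* ℂˣ)⁻¹ ∈ trivOn W₁ W₂ W₁
        ↔ φ = i₀ := by
      constructor
      · intro hmem
        apply Subtype.ext
        apply hom_ext_sup W₁ W₂
        · intro w hw
          have := hmem w hw
          rw [MonoidHom.mul_apply, MonoidHom.mul_apply, MonoidHom.inv_apply, ψ.2 w hw, mul_one,
            mul_inv_eq_one] at this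
          exact this
        · intro w hw
          rw [φ.2 w hw, i₀.2 w hw]
      · intro heq w hw
        rw [heq, MonoidHom.mul_apply, MonoidHom.mul_apply, MonoidHom.inv_apply, ψ.2 w hw, mul_one,
          mul_inv_cancel]
    rw [hA, h, hiff]
    constructor
    · intro heq; rw [if_pos heq]
    · intro hne; rw [if_neg hne]

end Cfsg.Agent.Lib.helper3.CycTI
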