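import Mathlib
import Cfsg.Prelude.Def_Characters
import Cfsg.Prelude.Def_OddOrderLocal
import Cfsg.Prelude.Def_OddOrderChar
import Cfsg.Agent.Lib.helper3.CycTI5

set_option autoImplicit false
set_option linter.style.haveILetI false
set_option linter.unusedSectionVars false

/-!
# Class functions vanishing on the TI-set of a cyclic TI-family
-/

namespace Cfsg.Agent.Lib.helper3.CycTI

open Cfsg Cfsg.Agent.Lib.helper3.IndFun Cfsg.Agent.Lib.helper3.Irr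
open scoped ComplexConjugate

variable {G : Type*} [Group G]

theorem alphaFun_eq_zero (W₁ W₂ : Subgroup G) (a b : ↥(W₁ ⊔ W₂) →* ℂˣ)
    (ha : ∀ w : ↥(W₁ ⊔ W₂), (w : G) ∈ W₂ → a w = 1)
    (hb : ∀ w : ↥(W₁ ⊔ W₂), (w : G) ∈ W₁ → b w = 1)
    (x : ↥(W₁ ⊔ W₂)) (hx : (x : G) ∈ W₁ ∨ (x : G) ∈ W₂) : alphaFun a b x = 0 := by
  unfold alphaFun
  rcases hx with h | h
  · rw [hb x h]; simp
  · rw [ha x h]; simp

/-- The relation between the coefficients of a class function vanishing on `W \ (W₁ ∪ W₂)`. -/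
theorem coeff_relation [Fintype G] (W₁ W₂ : Subgroup G)
    (χ : (↥(W₁ ⊔ W₂) →* ℂˣ) → (G → ℂ)) (hχ : IsCyclicTIFamily W₁ W₂ χ)
    (θ : G → ℂ) (hθ : IsClassFunction G θ)
    (hθV : ∀ w : ↥(W₁ ⊔ W₂), (w : G) ∉ W₁ → (w : G) ∉ W₂ → θ w = 0)
    (φ ψ : ↥(W₁ ⊔ W₂) →* ℂˣ) (hφ : φ ∈ trivOn W₁ W₂ W₂) (hψ : ψ ∈ trivOn W₁ W₂ W₁) :
    classInner θ (χ (φ * ψ)) + classInner θ (χ 1) = classInner θ (χ φ) + classInner θ (χ ψ) := by
  classical
  letI : Fintype ↥(W₁ ⊔ W₂) := Fintype.ofFinite _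
  by_cases hφ1 : φ = 1
  · have : φ * ψ = ψ := by
      rw [hφ1]; apply MonoidHom.ext; intro w; simp
    rw [this, hφ1, add_comm]
  by_cases hψ1 : ψ = 1
  · have : φ * ψ = φ := by
      rw [hψ1]; apply MonoidHom.ext; intro w; simp
    rw [this, hψ1]
  have hind := hχ.induced_eq φ ψ hφ1 hψ1 hφ hψ
  have h0 : classInner θ (indFun (W₁ ⊔ W₂) (alphaFun φ ψ)) = 0 := by
    rw [← classInner_conj_symm, frobenius_reciprocity (W₁ ⊔ W₂) _ θ hθ]
    have : classInner (alphaFun φ ψ) (fun w : ↥(W₁ ⊔ W₂) => θ w) = 0 := by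
      rw [classInner_apply]
      have hz : ∀ w : ↥(W₁ ⊔ W₂), alphaFun φ ψ w * conj (θ w) = 0 := by
        intro w
        by_cases hw : (w : G) ∈ W₁ ∨ (w : G) ∈ W₂
        · rw [alphaFun_eq_zero W₁ W₂ φ ψ hφ hψ w hw, zero_mul]
        · push Not at hw
          rw [hθV w hw.1 hw.2, map_zero, mul_zero]
      rw [Finset.sum_congr rfl (fun w _ => hz w), Finset.sum_const_zero, mul_zero]
    rw [this, map_zero]
  have hfun : (fun g => 1 - χ φ g - χ ψ g + χ (φ * ψ) g) = χ 1 - χ φ - χ ψ + χ (φ * ψ) := by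
    funext g
    simp [hχ.map_one]
  have hα : (fun w : ↥(W₁ ⊔ W₂) => 1 - (φ w : ℂ) - (ψ w : ℂ) + (φ w : ℂ) * (ψ w : ℂ))
      = alphaFun φ ψ := rfl
  rw [hα, hfun] at hind
  rw [hind, classInner_add_right, classInner_sub_right, classInner_sub_right] at h0
  linear_combination h0

end Cfsg.Agent.Lib.helper3.CycTI
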