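import Mathlib
import Cfsg.Prelude.Def_Characters
import Cfsg.Agent.Lib.helper3.Lin

set_option autoImplicit false
set_option linter.style.haveILetI false
set_option linter.unusedSectionVars false

/-!
# Irreducible characters up to sign
-/

namespace Cfsg.Agent.Lib.helper3.Signed

open Cfsg Module Cfsg.Agent.Lib.helper3.IndFun Cfsg.Agent.Lib.helper3.CharBasic
open Cfsg.Agent.Lib.helper3.Irr
open scoped ComplexConjugate

variable {X : Type*} [Group X] [Fintype X]

theorem inner_self {α : X → ℂ} (hα : IsIrrCharacter X α ∨ IsIrrCharacter X (-α)) :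
    classInner α α = 1 := by
  rcases hα with h | h
  · exact irr_classInner_self h
  · have := irr_classInner_self h
    rwa [classInner_neg_left, classInner_neg_right, neg_neg] at this

theorem apply_one_ne_zero' {α : X → ℂ} (hα : IsIrrCharacter X α ∨ IsIrrCharacter X (-α)) :
    α 1 ≠ 0 := by
  rcases hα with h | h
  · exact apply_one_ne_zero h
  · have := apply_one_ne_zero h
    simpa using this

theorem irr_neg_ne {χ ψ : X → ℂ} (hχ : IsIrrCharacter X χ) (hψ : IsIrrCharacter X ψ) :
    χ ≠ -ψ := by
  intro h
  obtain ⟨n, hn, hn1⟩ := exists_pos_nat_apply_one hχ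
  obtain ⟨m, hm, hm1⟩ := exists_pos_nat_apply_one hψ
  have := congrFun h 1
  rw [Pi.neg_apply, hn1, hm1] at this
  have h2 : ((n + m : ℕ) : ℂ) = 0 := by push_cast; rw [this]; ring
  have h3 : n + m = 0 := by exact_mod_cast h2
  omega

/-- Trichotomy for the inner product of two signed irreducible characters. -/
theorem inner_cases {α β : X → ℂ} (hα : IsIrrCharacter X α ∨ IsIrrCharacter X (-α))
    (hβ : IsIrrCharacter X β ∨ IsIrrCharacter X (-β)) :
    (α = β ∧ classInner α β = 1) ∨ (α = -β ∧ classInner α β = -1) ∨ classInner α β = 0 := by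
  classical
  rcases hα with ha | ha <;> rcases hβ with hb | hb
  · rw [irr_classInner_eq ha hb]
    by_cases h : α = β
    · left; exact ⟨h, if_pos h⟩
    · right; right; exact if_neg h
  · have := irr_classInner_eq ha hb
    rw [classInner_neg_right] at this
    by_cases h : α = -β
    · right; left
      refine ⟨h, ?_⟩
      rw [if_pos h] at this
      rw [← this, neg_neg]
    · right; right
      rw [if_neg h] at this
      simpa using this
  · have := irr_classInner_eq ha hb
    rw [classInner_neg_left] at this
    by_cases h : -α = β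
    · right; left
      refine ⟨by rw [← h, neg_neg], ?_⟩
      rw [if_pos h] at this
      rw [← this, neg_neg]
    · right; right
      rw [if_neg h] at this
      simpa using this
  · have := irr_classInner_eq ha hb
    rw [classInner_neg_left, classInner_neg_right, neg_neg] at this
    by_cases h : -α = -β
    · left
      exact ⟨neg_injective h, by rw [this, if_pos h]⟩
    · right; right
      rw [this, if_neg h]

theorem four_lemma (α β γ δ : X → ℂ) (hα : IsIrrCharacter X α ∨ IsIrrCharacter X (-α))
    (hβ : IsIrrCharacter X β ∨ IsIrrCharacter X (-β))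
    (hγ : IsIrrCharacter X γ ∨ IsIrrCharacter X (-γ))
    (hδ : IsIrrCharacter X δ ∨ IsIrrCharacter X (-δ)) (u v : ℝ) (hu : u ≠ 0) (hv : v ≠ 0)
    (hab : classInner α β = 0) (hcd : classInner γ δ = 0)
    (hmix : classInner (α - β) ((u : ℂ) • γ - (v : ℂ) • δ) = 0) (h1 : α 1 = β 1)
    (h2 : (u : ℂ) * γ 1 = (v : ℂ) * δ 1) : classInner α γ = 0 := by
  have huC : (u : ℂ) ≠ 0 := by exact_mod_cast hu
  have hvC : (v : ℂ) ≠ 0 := by exact_mod_cast hv
  have hba : classInner β α = 0 := by
    rw [← classInner_conj_symm, hab, map_zero]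
  have hγ1 := apply_one_ne_zero' hγ
  have hδ1 := apply_one_ne_zero' hδ
  rw [classInner_sub_left, classInner_sub_right, classInner_sub_right, classInner_smul_right,
    classInner_smul_right, classInner_smul_right, classInner_smul_right, Complex.conj_ofReal,
    Complex.conj_ofReal] at hmix
  rcases inner_cases hα hγ with ⟨hag, hag1⟩ | ⟨hag, hag1⟩ | h0
  · -- α = γ
    exfalso
    have hαδ : classInner α δ = 0 := by rw [hag]; exact hcd
    have hβγ : classInner β γ = 0 := by rw [← hag]; exact hba
    rw [hag1, hαδ, hβγ] at hmix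
    rcases inner_cases hβ hδ with ⟨hbd, hbd1⟩ | ⟨hbd, hbd1⟩ | h0
    · rw [hbd1] at hmix
      rw [hag, hbd] at h1
      have huv : (u : ℂ) = -(v : ℂ) := by linear_combination hmix
      rw [huv, h1] at h2
      have : (v : ℂ) * δ 1 = 0 := by linear_combination (-1 / 2 : ℂ) * h2
      rcases mul_eq_zero.mp this with h | h
      · exact hvC h
      · exact hδ1 h
    · rw [hbd1] at hmix
      rw [hag, hbd, Pi.neg_apply] at h1
      have huv : (u : ℂ) = (v : ℂ) := by linear_combination hmix
      rw [huv, h1] at h2
      have : (v : ℂ) * δ 1 = 0 := by linear_combination (-1 / 2 : ℂ) * h2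
      rcases mul_eq_zero.mp this with h | h
      · exact hvC h
      · exact hδ1 h
    · rw [h0] at hmix
      apply huC
      linear_combination hmix
  · -- α = -γ
    exfalso
    have hαδ : classInner α δ = 0 := by rw [hag, classInner_neg_left, hcd, neg_zero]
    have hβγ : classInner β γ = 0 := by
      have : γ = -α := by rw [hag, neg_neg]
      rw [this, classInner_neg_right, hba, neg_zero]
    rw [hag1, hαδ, hβγ] at hmix
    rcases inner_cases hβ hδ with ⟨hbd, hbd1⟩ | ⟨hbd, hbd1⟩ | h0
    · rw [hbd1] at hmix
      rw [hag, hbd, Pi.neg_apply] at h1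
      have huv : (u : ℂ) = (v : ℂ) := by linear_combination -hmix
      have h3 : γ 1 = -δ 1 := by linear_combination -h1
      rw [huv, h3] at h2
      have : (v : ℂ) * δ 1 = 0 := by linear_combination (-1 / 2 : ℂ) * h2
      rcases mul_eq_zero.mp this with h | h
      · exact hvC h
      · exact hδ1 h
    · rw [hbd1] at hmix
      rw [hag, hbd, Pi.neg_apply, Pi.neg_apply] at h1
      have huv : (u : ℂ) = -(v : ℂ) := by linear_combination -hmix
      have h3 : γ 1 = δ 1 := by linear_combination -h1
      rw [huv, h3] at h2
      have : (v : ℂ) * δ 1 = 0 := by linear_combination (-1 / 2 : ℂ) * h2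
      rcases mul_eq_zero.mp this with h | h
      · exact hvC h
      · exact hδ1 h
    · rw [h0] at hmix
      apply huC
      linear_combination -hmix
  · exact h0

end Cfsg.Agent.Lib.helper3.Signed
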