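import Mathlib
import Cfsg.Prelude.Def_Characters
import Cfsg.Prelude.Def_OddOrderLocal
import Cfsg.Prelude.Def_OddOrderChar
import Cfsg.Agent.Lib.helper3.CycTI6
import Cfsg.Agent.Lib.helper3.Signed

set_option autoImplicit false
set_option linter.style.haveILetI false
set_option linter.unusedSectionVars false

/-!
# Uniqueness of the cyclic TI-family: the abstract part
-/

namespace Cfsg.Agent.Lib.helper3.CycTI

open Cfsg Cfsg.Agent.Lib.helper3.IndFun Cfsg.Agent.Lib.helper3.Irr
open Cfsg.Agent.Lib.helper3.Signed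
open scoped ComplexConjugate

variable {G : Type*} [Group G] [Fintype G]

/-- A sum of three orthogonal signed irreducible characters written in two ways. -/
theorem three_term {a b c a' b' c' : G → ℂ}
    (ha : IsIrrCharacter G a ∨ IsIrrCharacter G (-a))
    (ha' : IsIrrCharacter G a' ∨ IsIrrCharacter G (-a'))
    (hb' : IsIrrCharacter G b' ∨ IsIrrCharacter G (-b'))
    (hc' : IsIrrCharacter G c' ∨ IsIrrCharacter G (-c'))
    (hab : classInner a b = 0) (hac : classInner a c = 0)
    (hab' : classInner a' b' = 0) (hac' : classInner a' c' = 0) (hbc' : classInner b' c' = 0)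
    (h : a + b - c = a' + b' - c') : a = a' ∨ a = b' ∨ a = -c' := by
  have h1 : classInner a (a + b - c) = 1 := by
    rw [classInner_sub_right, classInner_add_right, inner_self ha, hab, hac]
    ring
  rw [h, classInner_sub_right, classInner_add_right] at h1
  rcases inner_cases ha ha' with ⟨e, -⟩ | ⟨e, -⟩ | e0
  · left; exact e
  · exfalso
    have e1 : classInner a b' = 0 := by rw [e, classInner_neg_left, hab', neg_zero]
    have e2 : classInner a c' = 0 := by rw [e, classInner_neg_left, hac', neg_zero]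
    have e3 : classInner a a' = -1 := by
      rw [e, classInner_neg_left, inner_self ha']
    rw [e1, e2, e3] at h1
    norm_num at h1
  · rcases inner_cases ha hb' with ⟨e, -⟩ | ⟨e, -⟩ | e1
    · right; left; exact e
    · exfalso
      have e2 : classInner a c' = 0 := by rw [e, classInner_neg_left, hbc', neg_zero]
      have e3 : classInner a b' = -1 := by
        rw [e, classInner_neg_left, inner_self hb']
      rw [e0, e2, e3] at h1
      norm_num at h1
    · rcases inner_cases ha hc' with ⟨e, e'⟩ | ⟨e, -⟩ | e2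
      · exfalso
        rw [e0, e1, e'] at h1
        norm_num at h1
      · right; right; exact e
      · exfalso
        rw [e0, e1, e2] at h1
        norm_num at h1

/-- The abstract uniqueness step: two relations with disjoint witnesses pin down a member. -/
theorem eq_of_two_relations {ι : Type*} (χ χ' : ι → (G → ℂ))
    (hs : ∀ i, IsIrrCharacter G (χ i) ∨ IsIrrCharacter G (-χ i))
    (hs' : ∀ i, IsIrrCharacter G (χ' i) ∨ IsIrrCharacter G (-χ' i))
    (ho : ∀ i j, i ≠ j → classInner (χ i) (χ j) = 0)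
    (ho' : ∀ i j, i ≠ j → classInner (χ' i) (χ' j) = 0)
    (a b₁ c₁ b₂ c₂ : ι) (hab₁ : a ≠ b₁) (hac₁ : a ≠ c₁) (hbc₁ : b₁ ≠ c₁)
    (hab₂ : a ≠ b₂) (hac₂ : a ≠ c₂) (hbc₂ : b₂ ≠ c₂)
    (hbb : b₁ ≠ b₂) (hbc : b₁ ≠ c₂) (hcb : c₁ ≠ b₂) (hcc : c₁ ≠ c₂)
    (h₁ : χ a + χ b₁ - χ c₁ = χ' a + χ' b₁ - χ' c₁)
    (h₂ : χ a + χ b₂ - χ c₂ = χ' a + χ' b₂ - χ' c₂) : χ a = χ' a := by
  have t₁ := three_term (hs a) (hs' a) (hs' b₁) (hs' c₁) (ho a b₁ hab₁) (ho a c₁ hac₁)
    (ho' a b₁ hab₁) (ho' a c₁ hac₁) (ho' b₁ c₁ hbc₁) h₁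
  have t₂ := three_term (hs a) (hs' a) (hs' b₂) (hs' c₂) (ho a b₂ hab₂) (ho a c₂ hac₂)
    (ho' a b₂ hab₂) (ho' a c₂ hac₂) (ho' b₂ c₂ hbc₂) h₂
  rcases t₁ with e | e | e
  · exact e
  · rcases t₂ with f | f | f
    · exact f
    · exfalso
      have h0 := ho' b₁ b₂ hbb
      rw [← e, ← f, inner_self (hs a)] at h0
      exact one_ne_zero h0
    · exfalso
      have h0 := ho' b₁ c₂ hbc
      have f' : χ' c₂ = -χ a := by rw [f, neg_neg]
      rw [← e, f', classInner_neg_right, inner_self (hs a)] at h0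
      norm_num at h0
  · rcases t₂ with f | f | f
    · exact f
    · exfalso
      have h0 := ho' c₁ b₂ hcb
      have e' : χ' c₁ = -χ a := by rw [e, neg_neg]
      rw [← f, e', classInner_neg_left, inner_self (hs a)] at h0
      norm_num at h0
    · exfalso
      have h0 := ho' c₁ c₂ hcc
      have e' : χ' c₁ = -χ a := by rw [e, neg_neg]
      have f' : χ' c₂ = -χ a := by rw [f, neg_neg]
      rw [e', f', classInner_neg_left, classInner_neg_right, neg_neg, inner_self (hs a)] at h0
      exact one_ne_zero h0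

end Cfsg.Agent.Lib.helper3.CycTI
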