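import Mathlib
import Cfsg.Prelude.Def_Characters
import Cfsg.Prelude.Def_OddOrderLocal
import Cfsg.Prelude.Def_OddOrderChar
import Cfsg.Agent.Lib.helper3.CycTI7

set_option autoImplicit false
set_option linter.style.haveILetI false
set_option linter.unusedSectionVars false

/-!
# Uniqueness of the cyclic TI-family
-/

namespace Cfsg.Agent.Lib.helper3.CycTI

open Cfsg Cfsg.Agent.Lib.helper3.IndFun Cfsg.Agent.Lib.helper3.Irr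
open Cfsg.Agent.Lib.helper3.Signed
open scoped ComplexConjugate

/-- A nontrivial group of odd order has an element different from its inverse. -/
theorem exists_ne_inv {A : Type*} [Group A] [Finite A] (hodd : Odd (Nat.card A))
    (hne : Nat.card A ≠ 1) : ∃ x : A, x ≠ 1 ∧ x⁻¹ ≠ 1 ∧ x ≠ x⁻¹ := by
  have hnt : Nontrivial A := by
    rw [← Finite.one_lt_card_iff_nontrivial]
    have : 0 < Nat.card A := Nat.card_pos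
    omega
  obtain ⟨x, hx⟩ := exists_ne (1 : A)
  refine ⟨x, hx, fun h => hx (inv_eq_one.mp h), ?_⟩
  intro h
  apply hx
  have h2 : x ^ 2 = 1 := by
    rw [pow_two]
    nth_rewrite 2 [h]
    exact mul_inv_cancel x
  have hd2 : orderOf x ∣ 2 := orderOf_dvd_of_pow_eq_one h2
  have hdc : orderOf x ∣ Nat.card A := orderOf_dvd_natCard x
  have hoddx : Odd (orderOf x) := by
    obtain ⟨c, hc⟩ := hdc
    rw [hc] at hodd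
    exact (Nat.odd_mul.mp hodd).1
  have h1 : orderOf x = 1 := by
    rcases (Nat.dvd_prime Nat.prime_two).mp hd2 with h | h
    · exact h
    · rw [h] at hoddx
      exact absurd hoddx (by decide)
  exact orderOf_eq_one_iff.mp h1

/-- Cancellation in the dual group. -/
theorem eq_one_of_eq_mul_right {X : Type*} [Group X] (φ ψ : X →* ℂˣ) (h : φ = φ * ψ) : ψ = 1 := by
  apply MonoidHom.ext
  intro w
  have := congrArg (fun f : X →* ℂˣ => f w) h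
  simp only [MonoidHom.mul_apply] at this
  rw [MonoidHom.one_apply]
  exact left_eq_mul.mp this

/-- Cancellation in the dual group. -/
theorem eq_one_of_eq_mul_left {X : Type*} [Group X] (φ ψ : X →* ℂˣ) (h : ψ = φ * ψ) : φ = 1 := by
  apply MonoidHom.ext
  intro w
  have := congrArg (fun f : X →* ℂˣ => f w) h
  simp only [MonoidHom.mul_apply] at this
  rw [MonoidHom.one_apply]
  exact right_eq_mul.mp this

variable {G : Type*} [Group G] [Fintype G]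

/-- The relation between the members of the family coming from the induction identity. -/
theorem family_relation (W₁ W₂ : Subgroup G) (χ χ' : (↥(W₁ ⊔ W₂) →* ℂˣ) → (G → ℂ))
    (hχ : IsCyclicTIFamily W₁ W₂ χ) (hχ' : IsCyclicTIFamily W₁ W₂ χ')
    (φ ψ : ↥(W₁ ⊔ W₂) →* ℂˣ) (hφ1 : φ ≠ 1) (hψ1 : ψ ≠ 1) (hφ : φ ∈ trivOn W₁ W₂ W₂)
    (hψ : ψ ∈ trivOn W₁ W₂ W₁) :
    χ φ + χ ψ - χ (φ * ψ) = χ' φ + χ' ψ - χ' (φ * ψ) := by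
  have h1 := hχ.induced_eq φ ψ hφ1 hψ1 hφ hψ
  have h2 := hχ'.induced_eq φ ψ hφ1 hψ1 hφ hψ
  rw [h1] at h2
  funext g
  have := congrFun h2 g
  simp only [Pi.add_apply, Pi.sub_apply]
  linear_combination -this

/-- The cyclic TI-family is unique. -/
theorem family_unique (W₁ W₂ : Subgroup G) (hW : IsSelfNormalizingCyclic W₁ W₂)
    (hodd : Odd (Nat.card ↥(W₁ ⊔ W₂))) (χ χ' : (↥(W₁ ⊔ W₂) →* ℂˣ) → (G → ℂ))
    (hχ : IsCyclicTIFamily W₁ W₂ χ) (hχ' : IsCyclicTIFamily W₁ W₂ χ') : χ = χ' := by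
  classical
  obtain ⟨hcompl, hcΦ, hcΨ⟩ := isComplement_trivOn W₁ W₂ hW
  have hc := card_sup W₁ W₂ hW
  rw [hc] at hodd
  obtain ⟨hodd₁, hodd₂⟩ := Nat.odd_mul.mp hodd
  have hne₁ : Nat.card W₁ ≠ 1 := fun h => hW.1 (Subgroup.card_eq_one.mp h)
  have hne₂ : Nat.card W₂ ≠ 1 := fun h => hW.2.1 (Subgroup.card_eq_one.mp h)
  haveI : Finite (trivOn W₁ W₂ W₂) :=
    Nat.finite_of_card_ne_zero (by rw [hcΦ]; exact Nat.card_pos.ne')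
  haveI : Finite (trivOn W₁ W₂ W₁) :=
    Nat.finite_of_card_ne_zero (by rw [hcΨ]; exact Nat.card_pos.ne')
  obtain ⟨⟨φ₀, hφ₀⟩, hφ₀1, hφ₀i1, hφ₀ne⟩ :=
    exists_ne_inv (A := trivOn W₁ W₂ W₂) (by rw [hcΦ]; exact hodd₁) (by rw [hcΦ]; exact hne₁)
  obtain ⟨⟨ψ₀, hψ₀⟩, hψ₀1, hψ₀i1, hψ₀ne⟩ :=
    exists_ne_inv (A := trivOn W₁ W₂ W₁) (by rw [hcΨ]; exact hodd₂) (by rw [hcΨ]; exact hne₂)
  have hφ₀1' : φ₀ ≠ 1 := fun h => hφ₀1 (Subtype.ext h)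
  have hφ₀i1' : φ₀⁻¹ ≠ 1 := fun h => hφ₀i1 (Subtype.ext h)
  have hφ₀ne' : φ₀ ≠ φ₀⁻¹ := fun h => hφ₀ne (Subtype.ext h)
  have hψ₀1' : ψ₀ ≠ 1 := fun h => hψ₀1 (Subtype.ext h)
  have hψ₀i1' : ψ₀⁻¹ ≠ 1 := fun h => hψ₀i1 (Subtype.ext h)
  have hψ₀ne' : ψ₀ ≠ ψ₀⁻¹ := fun h => hψ₀ne (Subtype.ext h)
  have hφ₀i : φ₀⁻¹ ∈ trivOn W₁ W₂ W₂ := inv_mem hφ₀
  have hψ₀i : ψ₀⁻¹ ∈ trivOn W₁ W₂ W₁ := inv_mem hψ₀
  have ho : ∀ i j, i ≠ j → classInner (χ i) (χ j) = 0 := by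
    intro i j hij
    rw [hχ.orthonormal, if_neg hij]
  have ho' : ∀ i j, i ≠ j → classInner (χ' i) (χ' j) = 0 := by
    intro i j hij
    rw [hχ'.orthonormal, if_neg hij]
  -- the members indexed by characters trivial on `W₂`
  have hΦ : ∀ φ ∈ trivOn W₁ W₂ W₂, χ φ = χ' φ := by
    intro φ hφ
    by_cases hφ1 : φ = 1
    · rw [hφ1, hχ.map_one, hχ'.map_one]
    · have key : ∀ ψ ∈ trivOn W₁ W₂ W₁, ψ ≠ 1 → φ ≠ ψ ∧ φ ≠ φ * ψ ∧ ψ ≠ φ * ψ := by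
        intro ψ hψ hψ1
        refine ⟨ne_of_trivial W₁ W₂ φ ψ hφ1 hφ hψ, ?_, ?_⟩
        · intro h
          exact hψ1 (eq_one_of_eq_mul_right _ _ h)
        · intro h
          exact hφ1 (eq_one_of_eq_mul_left _ _ h)
      obtain ⟨h1, h2, h3⟩ := key ψ₀ hψ₀ hψ₀1'
      obtain ⟨h4, h5, h6⟩ := key ψ₀⁻¹ hψ₀i hψ₀i1'
      exact eq_of_two_relations χ χ' hχ.irr_or_neg hχ'.irr_or_neg ho ho' φ ψ₀ (φ * ψ₀) ψ₀⁻¹
        (φ * ψ₀⁻¹) h1 h2 h3 h4 h5 h6 hψ₀ne'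
        (ne_one_mul W₁ W₂ φ ψ₀⁻¹ hφ1 hφ hψ₀i ψ₀ hψ₀).symm
        (ne_one_mul W₁ W₂ φ ψ₀ hφ1 hφ hψ₀ ψ₀⁻¹ hψ₀i)
        (fun h => hψ₀ne' (mul_left_cancel h))
        (family_relation W₁ W₂ χ χ' hχ hχ' φ ψ₀ hφ1 hψ₀1' hφ hψ₀)
        (family_relation W₁ W₂ χ χ' hχ hχ' φ ψ₀⁻¹ hφ1 hψ₀i1' hφ hψ₀i)
  -- the members indexed by characters trivial on `W₁`
  have hΨ : ∀ ψ ∈ trivOn W₁ W₂ W₁, χ ψ = χ' ψ := by
    intro ψ hψ
    by_cases hψ1 : ψ = 1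
    · rw [hψ1, hχ.map_one, hχ'.map_one]
    · have key : ∀ φ ∈ trivOn W₁ W₂ W₂, φ ≠ 1 → ψ ≠ φ ∧ ψ ≠ φ * ψ ∧ φ ≠ φ * ψ := by
        intro φ hφ hφ1
        refine ⟨(ne_of_trivial W₁ W₂ φ ψ hφ1 hφ hψ).symm, ?_, ?_⟩
        · intro h
          exact hφ1 (eq_one_of_eq_mul_left _ _ h)
        · intro h
          exact hψ1 (eq_one_of_eq_mul_right _ _ h)
      obtain ⟨h1, h2, h3⟩ := key φ₀ hφ₀ hφ₀1'
      obtain ⟨h4, h5, h6⟩ := key φ₀⁻¹ hφ₀i hφ₀i1'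
      have r₁ := family_relation W₁ W₂ χ χ' hχ hχ' φ₀ ψ hφ₀1' hψ1 hφ₀ hψ
      have r₂ := family_relation W₁ W₂ χ χ' hχ hχ' φ₀⁻¹ ψ hφ₀i1' hψ1 hφ₀i hψ
      rw [add_comm (χ φ₀), add_comm (χ' φ₀)] at r₁
      rw [add_comm (χ φ₀⁻¹), add_comm (χ' φ₀⁻¹)] at r₂
      exact eq_of_two_relations χ χ' hχ.irr_or_neg hχ'.irr_or_neg ho ho' ψ φ₀ (φ₀ * ψ) φ₀⁻¹
        (φ₀⁻¹ * ψ) h1 h2 h3 h4 h5 h6 hφ₀ne'
        (mul_ne_one' W₁ W₂ φ₀⁻¹ ψ hψ1 hφ₀i hψ φ₀ hφ₀).symm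
        (mul_ne_one' W₁ W₂ φ₀ ψ hψ1 hφ₀ hψ φ₀⁻¹ hφ₀i)
        (fun h => hφ₀ne' (mul_right_cancel h)) r₁ r₂
  -- the general member
  funext ω
  obtain ⟨⟨⟨φ, hφ⟩, ⟨ψ, hψ⟩⟩, hω⟩ := hcompl.2 ω
  have hω' : φ * ψ = ω := hω
  rw [← hω']
  by_cases hφ1 : φ = 1
  · have e : φ * ψ = ψ := by rw [hφ1]; exact one_mul ψ
    rw [e]
    exact hΨ ψ hψ
  by_cases hψ1 : ψ = 1
  · have e : φ * ψ = φ := by rw [hψ1]; exact mul_one φ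
    rw [e]
    exact hΦ φ hφ
  have r := family_relation W₁ W₂ χ χ' hχ hχ' φ ψ hφ1 hψ1 hφ hψ
  rw [hΦ φ hφ, hΨ ψ hψ] at r
  exact sub_right_inj.mp r

end Cfsg.Agent.Lib.helper3.CycTI
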