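import Mathlib
import Cfsg.Prelude.Def_Characters
import Cfsg.Prelude.Def_OddOrderLocal
import Cfsg.Prelude.Def_OddOrderChar
import Cfsg.Agent.Lib.helper3.CycTI8
import Cfsg.Agent.Lib.helper3.GalPow2

set_option autoImplicit false
set_option linter.style.haveILetI false
set_option linter.unusedSectionVars false

/-!
# Twisting the cyclic TI-family by a power map
-/

namespace Cfsg.Agent.Lib.helper3.CycTI

open Cfsg Cfsg.Agent.Lib.helper3.IndFun Cfsg.Agent.Lib.helper3.Irr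
open Cfsg.Agent.Lib.helper3.Signed Cfsg.Agent.Lib.helper3.GalPow
open scoped ComplexConjugate

variable {G : Type*} [Group G] [Fintype G]

/-- Induction commutes with power maps that preserve non-membership. -/
theorem indFun_pow (H : Subgroup G) (θ : H → ℂ) (k : ℕ) (hk : ∀ y : G, y ^ k ∈ H → y ∈ H)
    (g : G) : indFun H θ (g ^ k) = indFun H (fun h => θ (h ^ k)) g := by
  rw [indFun_apply, indFun_apply]
  congr 1
  apply Finset.sum_congr rfl
  intro x _
  have e : x⁻¹ * g ^ k * x = (x⁻¹ * g * x) ^ k := by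
    have := conj_pow (a := x⁻¹) (b := g) (i := k)
    rw [inv_inv] at this
    exact this.symm
  rw [e]
  by_cases hy : x⁻¹ * g * x ∈ H
  · rw [extendByZero_mem H _ (H.pow_mem hy k), extendByZero_mem H _ hy]
    rfl
  · rw [extendByZero_not_mem H _ (fun h => hy (hk _ h)), extendByZero_not_mem H _ hy]

theorem hom_one_pow {X : Type*} [Group X] (n : ℕ) : (1 : X →* ℂˣ) ^ n = 1 := by
  apply MonoidHom.ext
  intro w
  rw [MonoidHom.pow_apply, MonoidHom.one_apply, one_pow]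

theorem hom_mul_pow {X : Type*} [Group X] (φ ψ : X →* ℂˣ) (n : ℕ) :
    (φ * ψ) ^ n = φ ^ n * ψ ^ n := by
  apply MonoidHom.ext
  intro w
  rw [MonoidHom.pow_apply, MonoidHom.mul_apply, MonoidHom.mul_apply, MonoidHom.pow_apply,
    MonoidHom.pow_apply, mul_pow]

/-- The family twisted by a power map. -/
def twist (W₁ W₂ : Subgroup G) (χ : (↥(W₁ ⊔ W₂) →* ℂˣ) → (G → ℂ)) (k k' : ℕ) :
    (↥(W₁ ⊔ W₂) →* ℂˣ) → (G → ℂ) :=
  fun ω g => χ (ω ^ k') (g ^ k)

section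

variable (W₁ W₂ : Subgroup G) (χ : (↥(W₁ ⊔ W₂) →* ℂˣ) → (G → ℂ)) (k k' : ℕ)
  (hk : k.Coprime (Nat.card G)) (hkk : ∀ g : G, g ^ (k * k') = g)

include hkk in
theorem hom_pow_pow (ω : ↥(W₁ ⊔ W₂) →* ℂˣ) : (ω ^ k') ^ k = ω := by
  apply MonoidHom.ext
  intro w
  rw [MonoidHom.pow_apply, MonoidHom.pow_apply, ← pow_mul, ← map_pow]
  congr 1
  apply Subtype.ext
  rw [Subgroup.coe_pow, mul_comm]
  exact hkk _

include hkk in
theorem hom_pow_apply_pow (ω : ↥(W₁ ⊔ W₂) →* ℂˣ) (w : ↥(W₁ ⊔ W₂)) :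
    (ω ^ k') (w ^ k) = ω w := by
  rw [MonoidHom.pow_apply, map_pow, ← pow_mul, ← map_pow]
  congr 1
  apply Subtype.ext
  rw [Subgroup.coe_pow]
  exact hkk _

include hkk in
theorem hom_pow_injective {ω ω' : ↥(W₁ ⊔ W₂) →* ℂˣ} (h : ω ^ k' = ω' ^ k') : ω = ω' := by
  rw [← hom_pow_pow W₁ W₂ k k' hkk ω, ← hom_pow_pow W₁ W₂ k k' hkk ω', h]

include hk hkk in
/-- The twisted family is again a cyclic TI-family. -/
theorem isCyclicTIFamily_twist (hχ : IsCyclicTIFamily W₁ W₂ χ) :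
    IsCyclicTIFamily W₁ W₂ (twist W₁ W₂ χ k k') := by
  classical
  have hmem : ∀ (U : Subgroup G) (y : G), y ^ k ∈ U → y ∈ U := by
    intro U y hy
    have := U.pow_mem hy k'
    rw [← pow_mul, hkk] at this
    exact this
  refine ⟨?_, ?_, ?_, ?_, ?_⟩
  · intro ω
    rcases hχ.irr_or_neg (ω ^ k') with h | h
    · left
      exact isIrrCharacter_pow h k hk
    · right
      exact isIrrCharacter_pow h k hk
  · intro ω ω'
    show classInner (fun g => χ (ω ^ k') (g ^ k)) (fun g => χ (ω' ^ k') (g ^ k)) = _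
    rw [classInner_pow_pow _ _ k hk, hχ.orthonormal]
    by_cases h : ω = ω'
    · rw [if_pos h, if_pos (by rw [h])]
    · rw [if_neg h, if_neg (fun h' => h (hom_pow_injective W₁ W₂ k k' hkk h'))]
  · funext g
    show χ (1 ^ k') (g ^ k) = 1
    rw [hom_one_pow, hχ.map_one]
  · intro ω w hw₁ hw₂
    show χ (ω ^ k') ((w : G) ^ k) = (ω w : ℂ)
    have e : (w : G) ^ k = ((w ^ k : ↥(W₁ ⊔ W₂)) : G) := (Subgroup.coe_pow _ w k).symm
    rw [e, hχ.eq_on (ω ^ k') (w ^ k) (fun h => hw₁ (hmem W₁ _ (by rw [← e] at h; exact h)))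
      (fun h => hw₂ (hmem W₂ _ (by rw [← e] at h; exact h))),
      hom_pow_apply_pow W₁ W₂ k k' hkk]
  · intro φ ψ hφ1 hψ1 hφ hψ
    have hφ' : φ ^ k' ≠ 1 := by
      intro h
      apply hφ1
      rw [← hom_pow_pow W₁ W₂ k k' hkk φ, h, hom_one_pow]
    have hψ' : ψ ^ k' ≠ 1 := by
      intro h
      apply hψ1
      rw [← hom_pow_pow W₁ W₂ k k' hkk ψ, h, hom_one_pow]
    have h1 := hχ.induced_eq (φ ^ k') (ψ ^ k') hφ' hψ'
      (fun w hw => by rw [MonoidHom.pow_apply, hφ w hw, one_pow])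
      (fun w hw => by rw [MonoidHom.pow_apply, hψ w hw, one_pow])
    funext g
    have h2 := congrFun h1 (g ^ k)
    rw [indFun_pow (W₁ ⊔ W₂) _ k (hmem _) g] at h2
    show _ = 1 - χ (φ ^ k') (g ^ k) - χ (ψ ^ k') (g ^ k) + χ ((φ * ψ) ^ k') (g ^ k)
    rw [hom_mul_pow, ← h2]
    congr 1
    funext w
    rw [hom_pow_apply_pow W₁ W₂ k k' hkk, hom_pow_apply_pow W₁ W₂ k k' hkk]

end

end Cfsg.Agent.Lib.helper3.CycTI
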