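import Mathlib
import Cfsg.Prelude.Def_Characters
import Cfsg.Prelude.Def_OddOrderLocal
import Cfsg.Prelude.Def_OddOrderChar
import Cfsg.Agent.Lib.helper3.CycTI9
import Cfsg.Agent.Lib.helper3.Cyclo
import Cfsg.Agent.Lib.helper3.AlgInt

set_option autoImplicit false
set_option linter.style.haveILetI false
set_option linter.unusedSectionVars false

/-!
# Rationality of the values of the cyclic TI-family
-/

namespace Cfsg.Agent.Lib.helper3.CycTI

open Cfsg Cfsg.Agent.Lib.helper3.IndFun Cfsg.Agent.Lib.helper3.Irr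
open Cfsg.Agent.Lib.helper3.Signed Cfsg.Agent.Lib.helper3.GalPow
open scoped ComplexConjugate

/-- Lifting a residue coprime to a divisor to a residue coprime to the number. -/
theorem exists_coprime_lift (n d : ℕ) (hn : 0 < n) (hd : d ∣ n) (k₀ : ℕ) (h : k₀.Coprime d) :
    ∃ k : ℕ, k.Coprime n ∧ k ≡ k₀ [MOD d] := by
  haveI : NeZero n := ⟨hn.ne'⟩
  obtain ⟨u, hu⟩ := ZMod.unitsMap_surjective hd (ZMod.unitOfCoprime k₀ h)
  refine ⟨(u : ZMod n).val, ZMod.val_coe_unit_coprime u, ?_⟩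
  have h1 := congrArg Units.val hu
  rw [ZMod.unitsMap_def, Units.coe_map, ZMod.coe_unitOfCoprime] at h1
  rw [← ZMod.natCast_eq_natCast_iff, ← h1]
  show (((u : ZMod n).val : ℕ) : ZMod d) = (ZMod.castHom hd (ZMod d)) (u : ZMod n)
  rw [ZMod.castHom_apply, ZMod.natCast_val]

/-- An inverse modulo `n`. -/
theorem exists_mul_modEq_one (n k : ℕ) (h : k.Coprime n) : ∃ k' : ℕ, k * k' ≡ 1 [MOD n] := by
  obtain ⟨u, hu⟩ : ∃ u : (ZMod n)ˣ, (u : ZMod n) = (k : ZMod n) :=
    ⟨ZMod.unitOfCoprime k h, ZMod.coe_unitOfCoprime k h⟩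
  rcases Nat.eq_zero_or_pos n with h0 | hpos
  · subst h0
    rw [Nat.coprime_zero_right] at h
    exact ⟨1, by rw [h]⟩
  · haveI : NeZero n := ⟨hpos.ne'⟩
    refine ⟨((u⁻¹ : (ZMod n)ˣ) : ZMod n).val, ?_⟩
    rw [← ZMod.natCast_eq_natCast_iff]
    push_cast
    rw [ZMod.natCast_val, ZMod.cast_id', id, ← hu, Units.mul_inv]

variable {G : Type*} [Group G] [Fintype G]

/-- The values of the cyclic TI-family at elements of order coprime to the order of the linear
character are invariant under coprime power maps. -/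
theorem family_pow_invariant (W₁ W₂ : Subgroup G) (hW : IsSelfNormalizingCyclic W₁ W₂)
    (hodd : Odd (Nat.card ↥(W₁ ⊔ W₂))) (χ : (↥(W₁ ⊔ W₂) →* ℂˣ) → (G → ℂ))
    (hχ : IsCyclicTIFamily W₁ W₂ χ) (ω : ↥(W₁ ⊔ W₂) →* ℂˣ) (g : G)
    (hg : Nat.Coprime (orderOf g) (orderOf ω)) (t : ℕ) (ht : t.Coprime (Nat.card G)) :
    χ ω (g ^ t) = χ ω g := by
  classical
  have hcyc : IsCyclic ↥(W₁ ⊔ W₂) := hW.2.2.2.2.1
  have hn : 0 < Nat.card G := Nat.card_pos
  -- the order of `ω` divides the order of the group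
  have hωn : orderOf ω ∣ Nat.card G := by
    have h1 : orderOf ω ∣ Nat.card (↥(W₁ ⊔ W₂) →* ℂˣ) := orderOf_dvd_natCard ω
    rw [card_dual_sup W₁ W₂ hcyc] at h1
    exact h1.trans (Subgroup.card_subgroup_dvd_card _)
  have hgn : orderOf g ∣ Nat.card G := orderOf_dvd_natCard g
  have hd : orderOf g * orderOf ω ∣ Nat.card G := Nat.Coprime.mul_dvd_of_dvd_of_dvd hg hgn hωn
  -- the Chinese remainder
  obtain ⟨k₀, hk₀g, hk₀ω⟩ := Nat.chineseRemainder hg t 1
  have hk₀cop : k₀.Coprime (orderOf g * orderOf ω) := by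
    apply Nat.Coprime.mul_right
    · have h1 : t.Coprime (orderOf g) := Nat.Coprime.coprime_dvd_right hgn ht
      rw [Nat.Coprime, hk₀g.gcd_eq]
      exact h1
    · rw [Nat.Coprime, hk₀ω.gcd_eq]
      exact Nat.gcd_one_left _
  obtain ⟨k, hkcop, hkk₀⟩ := exists_coprime_lift (Nat.card G) _ hn hd k₀ hk₀cop
  have hkg : k ≡ t [MOD orderOf g] := (hkk₀.of_dvd (Dvd.intro _ rfl)).trans hk₀g
  have hkω : k ≡ 1 [MOD orderOf ω] := (hkk₀.of_dvd (Dvd.intro_left _ rfl)).trans hk₀ω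
  obtain ⟨k', hkk'⟩ := exists_mul_modEq_one (Nat.card G) k hkcop
  have hkk : ∀ y : G, y ^ (k * k') = y := by
    intro y
    have h1 : k * k' ≡ 1 [MOD orderOf y] := hkk'.of_dvd (orderOf_dvd_natCard y)
    have h2 := pow_eq_pow_iff_modEq.mpr h1
    rw [pow_one] at h2
    exact h2
  -- equivariance
  have hfam := isCyclicTIFamily_twist W₁ W₂ χ k k' hkcop hkk hχ
  have heq := family_unique W₁ W₂ hW hodd χ (twist W₁ W₂ χ k k') hχ hfam
  have h1 : χ ω g = χ (ω ^ k') (g ^ k) := congrFun (congrFun heq ω) g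
  have hωk : ω ^ k = ω := by
    have h2 : ω ^ k = ω ^ 1 := by
      rw [← pow_mod_orderOf ω k, ← pow_mod_orderOf ω 1]
      congr 1
    rw [h2, pow_one]
  have hωk' : ω ^ k' = ω := by
    have h3 := hom_pow_pow W₁ W₂ k' k (fun y => by rw [mul_comm]; exact hkk y) ω
    rw [hωk] at h3
    exact h3
  have hgt : g ^ t = g ^ k := (pow_eq_pow_iff_modEq.mpr hkg).symm
  rw [hgt, h1, hωk']

/-- The values of the cyclic TI-family at elements of order coprime to the order of the linear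
character are integers. -/
theorem family_int_value (W₁ W₂ : Subgroup G) (hW : IsSelfNormalizingCyclic W₁ W₂)
    (hodd : Odd (Nat.card ↥(W₁ ⊔ W₂))) (χ : (↥(W₁ ⊔ W₂) →* ℂˣ) → (G → ℂ))
    (hχ : IsCyclicTIFamily W₁ W₂ χ) (ω : ↥(W₁ ⊔ W₂) →* ℂˣ) (g : G)
    (hg : Nat.Coprime (orderOf g) (orderOf ω)) : ∃ n : ℤ, χ ω g = n := by
  classical
  have : NeZero (Nat.card G) := ⟨Nat.card_pos.ne'⟩
  have hn : ∀ y : G, y ^ Nat.card G = 1 := fun y => pow_card_eq_one'
  have hinv := family_pow_invariant W₁ W₂ hW hodd χ hχ ω g hg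
  -- the value of an irreducible character invariant under power maps is an integer
  have key : ∀ (d : ℕ) (ρ : Representation ℂ G (Fin d → ℂ)),
      (∀ t : ℕ, t.Coprime (Nat.card G) → ρ.character (g ^ t) = ρ.character g) →
      ∃ z : ℤ, ρ.character g = z := by
    intro d ρ hfix
    obtain ⟨a, hint, ha, hσa⟩ := Cfsg.Agent.Lib.helper3.Cyclo.exists_cyclo_lift (Nat.card G) hn ρ g
    have hfix' : ∀ σ : CyclotomicField (Nat.card G) ℚ ≃ₐ[ℚ] CyclotomicField (Nat.card G) ℚ,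
        σ a = a := by
      intro σ
      obtain ⟨t, ht, hσ⟩ := Cfsg.Agent.Lib.helper3.Cyclo.aut_zeta (Nat.card G) σ
      apply Cfsg.Agent.Lib.helper3.Cyclo.emb_injective (Nat.card G)
      rw [hσa σ t hσ, ha]
      exact hfix t ht
    obtain ⟨q, hq⟩ := Cfsg.Agent.Lib.helper3.Cyclo.exists_rat_of_fixed (Nat.card G) a hfix'
    have hval : ρ.character g = (q : ℂ) := by
      rw [← ha, hq, AlgHom.commutes]
      rfl
    have hintC : IsIntegral ℤ (q : ℂ) := by
      rw [← hval, ← ha]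
      exact hint.map (Cfsg.Agent.Lib.helper3.Cyclo.emb (Nat.card G))
    obtain ⟨z, hz⟩ := Cfsg.Agent.Lib.helper3.AlgInt.exists_int_of_isIntegral_ratCast hintC
    refine ⟨z, ?_⟩
    rw [hval, ← hz]
    push_cast
    rfl
  rcases hχ.irr_or_neg ω with ⟨d, ρ, -, hρ⟩ | ⟨d, ρ, -, hρ⟩
  · rw [← hρ] at hinv ⊢
    exact key d ρ hinv
  · have h1 : ∀ y : G, χ ω y = -ρ.character y := by
      intro y
      have := congrFun hρ y
      rw [Pi.neg_apply] at this
      rw [this, neg_neg]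
    obtain ⟨z, hz⟩ := key d ρ (by
      intro t ht
      have := hinv t ht
      rw [h1, h1] at this
      exact neg_injective this)
    refine ⟨-z, ?_⟩
    rw [h1, hz]
    push_cast
    rfl

end Cfsg.Agent.Lib.helper3.CycTI
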