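import Mathlib
import Cfsg.Prelude.Def_Characters
import Cfsg.Agent.Lib.helper3.PRes1

set_option autoImplicit false
set_option linter.style.haveILetI false
set_option linter.unusedSectionVars false

/-!
# Invariant constituents detected modulo `p`
-/

namespace Cfsg.Agent.Lib.helper3.DadeDet

open Cfsg Module Cfsg.Agent.Lib.helper3.IndFun Cfsg.Agent.Lib.helper3.CharBasic
open Cfsg.Agent.Lib.helper3.Irr Cfsg.Agent.Lib.helper3.PRes
open scoped ComplexConjugate

variable {E : Type*} [Group E]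

theorem classInner_conjFun_conjFun [Finite E] (D : Subgroup E) [hD : D.Normal] [Fintype D]
    (a b : D → ℂ) (g : E) : classInner (conjFun D a g) (conjFun D b g) = classInner a b := by
  rw [conjFun_eq_comp, conjFun_eq_comp]
  exact classInner_comp_mulEquiv (MulAut.conjNormal g : D ≃* D) a b

/-- If `ψ Θ` and `Θ` have inner product prime to `p`, for invariant characters `ψ`, `Θ` of a
normal subgroup of `p`-power index, then `Θ` has an invariant irreducible constituent of
multiplicity prime to `p`. -/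
theorem exists_invariant_constituent_of_not_dvd [Finite E] (D : Subgroup E) [hD : D.Normal]
    [Fintype D] (p k : ℕ) (hp : p.Prime) (hidx : D.index = p ^ k) (ψ Θ : D → ℂ)
    (hψ : IsCharacter D ψ) (hΘ : IsCharacter D Θ)
    (hψinv : ∀ (g : E) (x : D), ψ ⟨g * x * g⁻¹, hD.conj_mem (x : E) x.2 g⟩ = ψ x)
    (hΘinv : ∀ (g : E) (x : D), Θ ⟨g * x * g⁻¹, hD.conj_mem (x : E) x.2 g⟩ = Θ x)
    (J : ℕ) (hJ : classInner (ψ * Θ) Θ = J) (hpJ : ¬ p ∣ J) :
    ∃ φ : IrrCharacter D,
      (∀ (g : E) (x : D), (φ : D → ℂ) ⟨g * x * g⁻¹, hD.conj_mem (x : E) x.2 g⟩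
        = (φ : D → ℂ) x) ∧
      ∃ c : ℕ, classInner Θ (φ : D → ℂ) = c ∧ ¬ p ∣ c := by
  classical
  letI : Fintype E := Fintype.ofFinite E
  letI := conjAction D
  choose c hc using fun φ : IrrCharacter D => exists_nat_classInner_of_isCharacter hΘ φ
  choose n hn using fun φ : IrrCharacter D =>
    exists_nat_classInner_of_isCharacter_of_isCharacter
      (isCharacter_mul hψ (isCharacter_of_isIrrCharacter φ.2)) hΘ
  have hψc : ∀ g : E, conjFun D ψ g = ψ := fun g => funext (hψinv g)
  have hΘc : ∀ g : E, conjFun D Θ g = Θ := fun g => funext (hΘinv g)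
  by_contra hcon
  push Not at hcon
  have hsum : ((∑ φ : IrrCharacter D, ((c φ : ℤ) * (n φ : ℤ)) : ℤ) : ℂ) = (J : ℂ) := by
    rw [← hJ]
    have h1 : ψ * Θ = ∑ φ : IrrCharacter D, (c φ : ℂ) • (ψ * (φ : D → ℂ)) := by
      conv_lhs => rw [isCharacter_eq_sum_classInner hΘ]
      rw [Finset.mul_sum]
      apply Finset.sum_congr rfl
      intro φ _
      rw [hc φ, mul_smul_comm]
    rw [h1, classInner_sum_left]
    push_cast
    apply Finset.sum_congr rfl
    intro φ _
    rw [classInner_smul_left, hn φ]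
  have hdvd : (p : ℤ) ∣ ∑ φ : IrrCharacter D, ((c φ : ℤ) * (n φ : ℤ)) := by
    apply dvd_sum_of_orbits (Γ := E) p (fun φ : IrrCharacter D => (c φ : ℤ) * (n φ : ℤ))
    · intro g φ
      have h2 : ((g • φ : IrrCharacter D) : D → ℂ) = conjFun D (φ : D → ℂ) g⁻¹ := by
        rw [conjFun_eq_comp]
        rfl
      have e1 : c (g • φ) = c φ := by
        have h1 : ((c (g • φ) : ℕ) : ℂ) = (c φ : ℂ) := by
          rw [← hc, ← hc, h2]
          conv_lhs => rw [← hΘc g⁻¹]
          exact classInner_conjFun_conjFun D Θ _ g⁻¹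
        exact_mod_cast h1
      have e2 : n (g • φ) = n φ := by
        have h1 : ((n (g • φ) : ℕ) : ℂ) = (n φ : ℂ) := by
          rw [← hn, ← hn, h2]
          have h3 : ψ * conjFun D (φ : D → ℂ) g⁻¹ = conjFun D (ψ * (φ : D → ℂ)) g⁻¹ := by
            conv_lhs => rw [← hψc g⁻¹]
            rfl
          rw [h3]
          conv_lhs => rw [← hΘc g⁻¹]
          exact classInner_conjFun_conjFun D _ Θ g⁻¹
        exact_mod_cast h1
      simp only [e1, e2]
    · intro φ
      exact conjAction_card_orbit_pow D p k hp hidx φ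
    · intro φ hφ
      have h2 := hcon φ ((conjAction_fixed_iff D φ).mp hφ) (c φ) (hc φ)
      apply Dvd.dvd.mul_right
      exact_mod_cast h2
  apply hpJ
  have h3 : (∑ φ : IrrCharacter D, ((c φ : ℤ) * (n φ : ℤ)) : ℤ) = (J : ℤ) := by
    exact_mod_cast hsum
  rw [h3] at hdvd
  exact_mod_cast hdvd

end Cfsg.Agent.Lib.helper3.DadeDet
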