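import Mathlib
import Cfsg.Prelude.Def_Characters
import Cfsg.Agent.Lib.helper3.DadeDet1
import Cfsg.Agent.Lib.helper3.BrauerInd4

set_option autoImplicit false
set_option linter.style.haveILetI false
set_option linter.unusedSectionVars false

/-!
# Dade's detection of invariant characters on `p`-elementary subgroups: the key formula
-/

namespace Cfsg.Agent.Lib.helper3.DadeDet

open Cfsg Module Cfsg.Agent.Lib.helper3.IndFun Cfsg.Agent.Lib.helper3.CharBasic
open Cfsg.Agent.Lib.helper3.Irr Cfsg.Agent.Lib.helper3.PRes Cfsg.Agent.Lib.helper3.BrauerInd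
open scoped ComplexConjugate

variable {G : Type*} [Group G]

theorem extendByZero_mul_extendByZero (E N : Subgroup G) (ψ : E → ℂ) (w : N → ℂ) (g : G) :
    extendByZero E ψ g * extendByZero N w g
      = extendByZero (E ⊓ N) (fun x => ψ ⟨x, x.2.1⟩ * w ⟨x, x.2.2⟩) g := by
  by_cases h1 : g ∈ E
  · by_cases h2 : g ∈ N
    · rw [extendByZero_mem E ψ h1, extendByZero_mem N w h2,
        extendByZero_mem (E ⊓ N) _ ⟨h1, h2⟩]
    · rw [extendByZero_not_mem N w h2, mul_zero, extendByZero_not_mem]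
      exact fun h => h2 h.2
  · rw [extendByZero_not_mem E ψ h1, zero_mul, extendByZero_not_mem]
    exact fun h => h1 h.1

/-- The key formula. -/
theorem key_formula [Fintype G] (N : Subgroup G) [hN : N.Normal] [Fintype N] (ϑ : N → ℂ)
    (hinv : ∀ (g : G) (n : N), ϑ ⟨g * n * g⁻¹, hN.conj_mem (n : G) n.2 g⟩ = ϑ n)
    (E : Subgroup G) [Fintype E] [Fintype ↥(E ⊓ N)] (ψ : E → ℂ) :
    classInner ((fun n : N => indFun E ψ n) * ϑ) ϑ
      = ((Nat.card G : ℂ) * (Nat.card ↥(E ⊓ N) : ℂ) / ((Nat.card N : ℂ) * (Nat.card E : ℂ))) *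
        classInner ((fun x : ↥(E ⊓ N) => ψ ⟨x, x.2.1⟩) * fun x : ↥(E ⊓ N) => ϑ ⟨x, x.2.2⟩)
          (fun x : ↥(E ⊓ N) => ϑ ⟨x, x.2.2⟩) := by
  classical
  obtain ⟨w, hw⟩ : ∃ w : N → ℂ, w = fun n => ϑ n * conj (ϑ n) := ⟨_, rfl⟩
  obtain ⟨W, hW⟩ : ∃ W : G → ℂ, W = extendByZero N w := ⟨_, rfl⟩
  have hWcf : IsClassFunction G W := by
    intro g h
    rw [hW]
    by_cases hg : g ∈ N
    · rw [extendByZero_mem N w hg, extendByZero_mem N w (hN.conj_mem g hg h), hw]
      simp only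
      rw [hinv h ⟨g, hg⟩]
    · rw [extendByZero_not_mem N w hg, extendByZero_not_mem]
      intro hmem
      apply hg
      have := hN.conj_mem _ hmem h⁻¹
      simpa [mul_assoc] using this
  have hWconj : ∀ g : G, conj (W g) = W g := by
    intro g
    rw [hW]
    by_cases hg : g ∈ N
    · rw [extendByZero_mem N w hg, hw]
      simp only
      rw [map_mul, Complex.conj_conj, mul_comm]
    · rw [extendByZero_not_mem N w hg, map_zero]
  -- left side as a sum over `G`
  have h1 : classInner ((fun n : N => indFun E ψ n) * ϑ) ϑ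
      = (Nat.card N : ℂ)⁻¹ * ∑ g : G, indFun E ψ g * W g := by
    rw [classInner_apply]
    congr 1
    have := sum_extendByZero_mul N w (indFun E ψ)
    rw [hW]
    simp_rw [mul_comm (indFun E ψ _) (extendByZero N w _)]
    rw [this]
    apply Finset.sum_congr rfl
    intro n _
    rw [hw]
    simp only [Pi.mul_apply]
    ring
  have h2 : ∑ g : G, indFun E ψ g * W g = (Nat.card G : ℂ) * classInner (indFun E ψ) W := by
    rw [classInner_apply, ← mul_assoc, mul_inv_cancel₀ (card_ne_zero_complex G), one_mul]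
    apply Finset.sum_congr rfl
    intro g _
    rw [hWconj]
  have h3 : classInner (indFun E ψ) W = (Nat.card E : ℂ)⁻¹ * ∑ e : E, ψ e * W e := by
    rw [frobenius_reciprocity E ψ W hWcf, classInner_apply]
    congr 1
    apply Finset.sum_congr rfl
    intro e _
    rw [hWconj]
  have h4 : ∑ e : E, ψ e * W e
      = ∑ x : ↥(E ⊓ N), ψ ⟨x, x.2.1⟩ * w ⟨x, x.2.2⟩ := by
    rw [← sum_extendByZero_mul E ψ W, ← sum_extendByZero (E ⊓ N)]
    apply Finset.sum_congr rfl
    intro g _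
    rw [hW]
    exact extendByZero_mul_extendByZero E N ψ w g
  rw [h1, h2, h3, h4, classInner_apply]
  have h5 : ∑ x : ↥(E ⊓ N), ψ ⟨x, x.2.1⟩ * w ⟨x, x.2.2⟩
      = ∑ x : ↥(E ⊓ N), ((fun x : ↥(E ⊓ N) => ψ ⟨x, x.2.1⟩) * fun x : ↥(E ⊓ N) => ϑ ⟨x, x.2.2⟩) x
          * conj (ϑ ⟨x, x.2.2⟩) := by
    apply Finset.sum_congr rfl
    intro x _
    rw [hw]
    simp only [Pi.mul_apply]
    ring
  rw [h5]
  have hD : (Nat.card ↥(E ⊓ N) : ℂ) ≠ 0 := card_ne_zero_complex _
  have hNne : (Nat.card N : ℂ) ≠ 0 := card_ne_zero_complex _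
  have hEne : (Nat.card E : ℂ) ≠ 0 := card_ne_zero_complex _
  field_simp

end Cfsg.Agent.Lib.helper3.DadeDet
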