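import Mathlib
import Cfsg.Prelude.Def_Characters
import Cfsg.Agent.Lib.helper3.DadeDet2

set_option autoImplicit false
set_option linter.style.haveILetI false
set_option linter.unusedSectionVars false

/-!
# Dade's detection of invariant characters on `p`-elementary subgroups
-/

namespace Cfsg.Agent.Lib.helper3.DadeDet

open Cfsg Module Cfsg.Agent.Lib.helper3.IndFun Cfsg.Agent.Lib.helper3.CharBasic
open Cfsg.Agent.Lib.helper3.Irr Cfsg.Agent.Lib.helper3.PRes Cfsg.Agent.Lib.helper3.BrauerInd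
open scoped ComplexConjugate

variable {G : Type*} [Group G]

/-- The intersection `E ⊓ N` as a subgroup of `E`. -/
def eqv (E N : Subgroup G) : N.subgroupOf E ≃* ↥(E ⊓ N) where
  toFun x := ⟨((x : E) : G), ⟨(x : E).2, Subgroup.mem_subgroupOf.1 x.2⟩⟩
  invFun y := ⟨⟨(y : G), y.2.1⟩, Subgroup.mem_subgroupOf.2 y.2.2⟩
  left_inv _ := rfl
  right_inv _ := rfl
  map_mul' _ _ := rfl

/-- The inner product on `E ⊓ N` written with a `finsum`. -/
noncomputable def innerD (E N : Subgroup G) (a b : ↥(E ⊓ N) → ℂ) : ℂ :=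
  (Nat.card ↥(E ⊓ N) : ℂ)⁻¹ * ∑ᶠ x : ↥(E ⊓ N), a x * conj (b x)

theorem innerD_eq (E N : Subgroup G) [Fintype ↥(E ⊓ N)] (a b : ↥(E ⊓ N) → ℂ) :
    innerD E N a b = classInner a b := by
  unfold innerD
  rw [classInner_apply, finsum_eq_sum_of_fintype]

theorem ratio_eq_index [Finite G] (N E : Subgroup G) [hN : N.Normal] :
    (Nat.card G : ℂ) * (Nat.card ↥(E ⊓ N) : ℂ) / ((Nat.card N : ℂ) * (Nat.card E : ℂ))
      = ((E ⊔ N).index : ℂ) := by
  have h1 : N.relIndex (E ⊔ N) = N.relIndex E := Subgroup.relIndex_sup_right E N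
  have h2 := Subgroup.relIndex_mul_index (le_sup_right : N ≤ E ⊔ N)
  have h3 := Subgroup.card_mul_index N
  have h4 := Subgroup.card_mul_index (N.subgroupOf E)
  have h5 : Nat.card (N.subgroupOf E) = Nat.card ↥(E ⊓ N) := Nat.card_congr (eqv E N).toEquiv
  have h6 : (N.subgroupOf E).index = N.relIndex E := rfl
  rw [h1] at h2
  rw [h5, h6] at h4
  have hNne : (Nat.card N : ℂ) ≠ 0 := card_ne_zero_complex _
  have hEne : (Nat.card E : ℂ) ≠ 0 := card_ne_zero_complex _
  rw [div_eq_iff (mul_ne_zero hNne hEne)]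
  have : Nat.card G * Nat.card ↥(E ⊓ N) = (E ⊔ N).index * (Nat.card N * Nat.card E) := by
    rw [← h3, ← h2, ← h4]
    ring
  exact_mod_cast this

/-- The candidates produced by Brauer's theorem. -/
def Good (p : ℕ) (N : Subgroup G) (ϑ : N → ℂ) : Prop :=
  ∃ (E : Subgroup G) (ψ : E → ℂ), IsElementary p E ∧ IsCharacter E ψ ∧ E ⊔ N = ⊤ ∧
    ∃ J : ℕ, innerD E N ((fun x : ↥(E ⊓ N) => ψ ⟨x, x.2.1⟩) * fun x : ↥(E ⊓ N) => ϑ ⟨x, x.2.2⟩)
      (fun x : ↥(E ⊓ N) => ϑ ⟨x, x.2.2⟩) = J ∧ ¬ p ∣ J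

/-- Brauer's theorem produces a good `p`-elementary subgroup. -/
theorem exists_good [Fintype G] (p : ℕ) [hp : Fact p.Prime] (N : Subgroup G) [hN : N.Normal]
    (k : ℕ) (hind : N.index = p ^ k) (ϑ : N → ℂ) (hϑ : IsIrrCharacter N ϑ)
    (hinv : ∀ (g : G) (n : N), ϑ ⟨g * n * g⁻¹, hN.conj_mem (n : G) n.2 g⟩ = ϑ n) :
    Good p N ϑ := by
  classical
  letI : Fintype N := Fintype.ofFinite N
  have hϑc := isCharacter_of_isIrrCharacter hϑ
  obtain ⟨Φ, hΦ⟩ : ∃ Φ : (G → ℂ) → ℂ,
      Φ = fun f => classInner ((fun n : N => f n) * ϑ) ϑ := ⟨_, rfl⟩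
  have hΦadd : ∀ f g, Φ (f + g) = Φ f + Φ g := by
    intro f g
    rw [hΦ]
    simp only
    have : (fun n : N => (f + g) n) * ϑ = (fun n : N => f n) * ϑ + (fun n : N => g n) * ϑ := by
      funext n
      simp only [Pi.add_apply, Pi.mul_apply]
      ring
    rw [this, classInner_add_left]
  have hΦneg : ∀ f, Φ (-f) = -Φ f := by
    intro f
    rw [hΦ]
    simp only
    have : (fun n : N => (-f) n) * ϑ = -((fun n : N => f n) * ϑ) := by
      funext n
      simp only [Pi.neg_apply, Pi.mul_apply]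
      ring
    rw [this, classInner_neg_left]
  have hΦzero : Φ 0 = 0 := by
    rw [hΦ]
    simp only
    have : (fun n : N => (0 : G → ℂ) n) * ϑ = 0 := by
      funext n
      simp
    rw [this, classInner_zero_left]
  have key : ∀ f ∈ BSpan p G, ∃ z : ℤ, Φ f = z ∧ (¬ (p : ℤ) ∣ z → Good p N ϑ) := by
    intro f hf
    induction hf using AddSubgroup.closure_induction with
    | mem f hf =>
      obtain ⟨E, ψ, hE, hψ, rfl⟩ := hf
      letI : Fintype E := Fintype.ofFinite E
      letI : Fintype ↥(E ⊓ N) := Fintype.ofFinite _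
      have h1 := key_formula N ϑ hinv E ψ
      rw [ratio_eq_index N E] at h1
      have hψD : IsCharacter ↥(E ⊓ N) (fun x : ↥(E ⊓ N) => ψ ⟨x, x.2.1⟩) :=
        isCharacter_comp hψ (Subgroup.inclusion (inf_le_left : E ⊓ N ≤ E))
      have hϑD : IsCharacter ↥(E ⊓ N) (fun x : ↥(E ⊓ N) => ϑ ⟨x, x.2.2⟩) :=
        isCharacter_comp hϑc (Subgroup.inclusion (inf_le_right : E ⊓ N ≤ N))
      obtain ⟨J, hJ⟩ := exists_nat_classInner_of_isCharacter_of_isCharacter
        (isCharacter_mul hψD hϑD) hϑD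
      refine ⟨((E ⊔ N).index : ℤ) * J, ?_, ?_⟩
      · rw [hΦ]
        simp only
        rw [h1, hJ]
        push_cast
        rfl
      · intro hnd
        have hidx : ¬ p ∣ (E ⊔ N).index := by
          intro h
          apply hnd
          apply Dvd.dvd.mul_right
          exact_mod_cast h
        have hJp : ¬ p ∣ J := by
          intro h
          apply hnd
          apply Dvd.dvd.mul_left
          exact_mod_cast h
        have hdvd : (E ⊔ N).index ∣ p ^ k := by
          rw [← hind]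
          exact Subgroup.index_dvd_of_le le_sup_right
        obtain ⟨j, -, hj⟩ := (Nat.dvd_prime_pow hp.out).1 hdvd
        have hj0 : j = 0 := by
          by_contra h
          apply hidx
          rw [hj]
          exact dvd_pow_self p h
        rw [hj0, pow_zero, Subgroup.index_eq_one] at hj
        refine ⟨E, ψ, hE, hψ, hj, J, ?_, hJp⟩
        rw [innerD_eq]
        exact hJ
    | zero =>
      refine ⟨0, ?_, ?_⟩
      · rw [hΦzero]
        simp
      · intro h
        exact absurd (dvd_zero _) h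
    | add f g _ _ h1 h2 =>
      obtain ⟨z1, hz1, hg1⟩ := h1
      obtain ⟨z2, hz2, hg2⟩ := h2
      refine ⟨z1 + z2, ?_, ?_⟩
      · rw [hΦadd, hz1, hz2]
        push_cast
        rfl
      · intro h
        by_cases h3 : (p : ℤ) ∣ z1
        · apply hg2
          intro h4
          exact h (dvd_add h3 h4)
        · exact hg1 h3
    | neg f _ h1 =>
      obtain ⟨z1, hz1, hg1⟩ := h1
      refine ⟨-z1, ?_, ?_⟩
      · rw [hΦneg, hz1]
        push_cast
        rfl
      · intro h
        apply hg1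
        intro h3
        exact h ((dvd_neg).2 h3)
  obtain ⟨m₀, hm₀, hmem⟩ := brauer_local (G := G) p
  obtain ⟨z, hz, hgood⟩ := key _ hmem
  apply hgood
  have h1 : Φ (fun _ : G => (m₀ : ℂ)) = m₀ := by
    rw [hΦ]
    simp only
    have : (fun _ : N => (m₀ : ℂ)) * ϑ = (m₀ : ℂ) • ϑ := by
      funext n
      simp
    rw [this, classInner_smul_left, irr_classInner_self hϑ, mul_one]
  rw [h1] at hz
  have : m₀ = z := by exact_mod_cast hz
  rw [← this]
  exact hm₀

end Cfsg.Agent.Lib.helper3.DadeDet
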