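import Mathlib
import Cfsg.Prelude.Def_Characters
import Cfsg.Agent.Lib.helper3.DadeDet3

set_option autoImplicit false
set_option linter.style.haveILetI false
set_option linter.unusedSectionVars false

/-!
# Dade's detection of invariant characters on `p`-elementary subgroups: conclusion
-/

namespace Cfsg.Agent.Lib.helper3.DadeDet

open Cfsg Module Cfsg.Agent.Lib.helper3.IndFun Cfsg.Agent.Lib.helper3.CharBasic
open Cfsg.Agent.Lib.helper3.Irr Cfsg.Agent.Lib.helper3.PRes Cfsg.Agent.Lib.helper3.BrauerInd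
open scoped ComplexConjugate

variable {G : Type*} [Group G]

theorem dade_detection [Fintype G] (p : ℕ) [hp : Fact p.Prime] (N : Subgroup G) [hN : N.Normal]
    (k : ℕ) (hind : N.index = p ^ k) (ϑ : N → ℂ) (hϑ : IsIrrCharacter N ϑ)
    (hinv : ∀ (g : G) (n : N), ϑ ⟨g * n * g⁻¹, hN.conj_mem (n : G) n.2 g⟩ = ϑ n) :
    ∃ (E : Subgroup G) (φ : ↥(E ⊓ N) → ℂ), IsElementary p E ∧ E ⊔ N = ⊤ ∧
      IsIrrCharacter ↥(E ⊓ N) φ ∧
      (∀ (g : G) (hg : g ∈ E) (x : ↥(E ⊓ N)),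
        φ ⟨g * x * g⁻¹, ⟨(E.mul_mem (E.mul_mem hg x.2.1) (E.inv_mem hg)),
          hN.conj_mem (x : G) x.2.2 g⟩⟩ = φ x) ∧
      ∃ m : ℕ, ¬ p ∣ m ∧ innerD E N (fun x : ↥(E ⊓ N) => ϑ ⟨x, x.2.2⟩) φ = m := by
  classical
  obtain ⟨E, ψ, hE, hψ, hEN, J, hJ, hJp⟩ := exists_good p N k hind ϑ hϑ hinv
  letI : Fintype E := Fintype.ofFinite E
  letI : Fintype ↥(E ⊓ N) := Fintype.ofFinite _
  letI : Fintype (N.subgroupOf E) := Fintype.ofFinite _
  have hϑc := isCharacter_of_isIrrCharacter hϑ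
  have hidx' : (N.subgroupOf E).index = p ^ k := by
    have h1 : (N.subgroupOf E).index = N.relIndex E := rfl
    rw [h1, ← Subgroup.relIndex_sup_right E N, hEN, Subgroup.relIndex_top_right, hind]
  obtain ⟨ψ', hψ'def⟩ : ∃ ψ' : N.subgroupOf E → ℂ, ψ' = fun x : N.subgroupOf E => ψ x := ⟨_, rfl⟩
  obtain ⟨Θ', hΘ'def⟩ : ∃ Θ' : N.subgroupOf E → ℂ,
      Θ' = fun x : N.subgroupOf E => ϑ ⟨((x : E) : G), Subgroup.mem_subgroupOf.1 x.2⟩ :=
    ⟨_, rfl⟩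
  have hψ' : IsCharacter (N.subgroupOf E) ψ' := by
    rw [hψ'def]
    exact isCharacter_restrict hψ _
  have hΘ' : IsCharacter (N.subgroupOf E) Θ' := by
    rw [hΘ'def]
    exact isCharacter_comp hϑc ((Subgroup.inclusion (inf_le_right : E ⊓ N ≤ N)).comp
      (eqv E N).toMonoidHom)
  have hψ'inv : ∀ (g : E) (x : N.subgroupOf E),
      ψ' ⟨g * x * g⁻¹, (inferInstance : (N.subgroupOf E).Normal).conj_mem (x : E) x.2 g⟩
        = ψ' x := by
    intro g x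
    rw [hψ'def]
    exact isClassFunction_of_isCharacter hψ x g
  have hΘ'inv : ∀ (g : E) (x : N.subgroupOf E),
      Θ' ⟨g * x * g⁻¹, (inferInstance : (N.subgroupOf E).Normal).conj_mem (x : E) x.2 g⟩
        = Θ' x := by
    intro g x
    rw [hΘ'def]
    exact hinv (g : G) ⟨((x : E) : G), Subgroup.mem_subgroupOf.1 x.2⟩
  have hJ' : classInner (ψ' * Θ') Θ' = J := by
    rw [← hJ, innerD_eq, hψ'def, hΘ'def]
    exact classInner_comp_mulEquiv (eqv E N)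
      ((fun x : ↥(E ⊓ N) => ψ ⟨x, x.2.1⟩) * fun x : ↥(E ⊓ N) => ϑ ⟨x, x.2.2⟩)
      (fun x : ↥(E ⊓ N) => ϑ ⟨x, x.2.2⟩)
  obtain ⟨φ', hφ'inv, c, hc, hcp⟩ := exists_invariant_constituent_of_not_dvd (N.subgroupOf E)
    p k hp.out hidx' ψ' Θ' hψ' hΘ' hψ'inv hΘ'inv J hJ' hJp
  refine ⟨E, fun y => (φ' : N.subgroupOf E → ℂ) ((eqv E N).symm y), hE, hEN,
    isIrrCharacter_comp_mulEquiv (eqv E N).symm φ'.2, ?_, c, hcp, ?_⟩
  · intro g hg x
    exact hφ'inv ⟨g, hg⟩ ((eqv E N).symm x)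
  · rw [innerD_eq, ← hc, hΘ'def]
    exact classInner_comp_mulEquiv (eqv E N).symm
      (fun x : N.subgroupOf E => ϑ ⟨((x : E) : G), Subgroup.mem_subgroupOf.1 x.2⟩)
      (φ' : N.subgroupOf E → ℂ)

end Cfsg.Agent.Lib.helper3.DadeDet
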