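import Mathlib
import Cfsg.Prelude.Def_Blocks
import Cfsg.Agent.Lib.helper3.DeficiencyClass

set_option autoImplicit false
set_option linter.style.haveILetI false
set_option linter.unusedSectionVars false

/-!
# Blocks of centralizers of central elements of defect groups, II
-/

namespace Cfsg.Agent.Lib.helper3.Block

open Cfsg Module Cfsg.Agent.Lib.helper3.CharBasic Cfsg.Agent.Lib.helper3.Irr
open Cfsg.Agent.Lib.helper3.Central Cfsg.Agent.Lib.helper3.LocalM Cfsg.Agent.Lib.helper3.IndFun
open Cfsg.Agent.Lib.helper3.Lin Cfsg.Agent.Lib.helper3.HallNilp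
open scoped ComplexConjugate

universe u

variable {G : Type u} [Group G] [Fintype G] {M : Ideal AlgInt}

open Classical in
/-- For a central `p`-element `y` of a defect group of `B`, some block of `C_G(y)` inducing `B`
has defect at least that of `B`. -/
theorem exists_induced_defect_ge {p : ℕ} [hp : Fact p.Prime] (hM : IsPModular p M)
    (B : Set (IrrCharacter G)) (hB : IsPBlock M B) (D : Subgroup G)
    (hD : IsDefectGroup p M B D) (y : G) (hyD : y ∈ D) (hyZ : ∀ d ∈ D, d * y = y * d)
    (k : ℕ) (hy : orderOf y = p ^ k) :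
    ∃ b : Set (IrrCharacter (Subgroup.centralizer ({y} : Set G))),
      IsInducedBlock M (Subgroup.centralizer ({y} : Set G)) b B
        ∧ blockDefect p B ≤ blockDefect p b := by
  haveI hMp := isPrime_of_isPModular hM
  have hMtop : M ≠ ⊤ := hM.2.1.ne_top
  by_contra hcon
  push Not at hcon
  have hDcard := Cfsg.Agent.S0908.result p M hM B hB D hD
  obtain ⟨g₀, hg₀, P, hDP⟩ := id hD
  have hg₀reg : ¬ p ∣ orderOf g₀ := by
    intro h
    have := blockCoeff_eq_zero_of_dvd hM B hB g₀ h
    apply hg₀.2.1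
    rw [this]
    exact memLocalIdeal_zero hMtop
  have hDcomm : ∀ d ∈ D, d * g₀ = g₀ * d := by
    intro d hd
    rw [hDP] at hd
    obtain ⟨v, -, hv⟩ := hd
    rw [← hv]
    exact Subgroup.mem_centralizer_singleton_iff.mp v.2
  have hcomm : y * g₀ = g₀ * y := hDcomm y hyD
  -- a character of height zero
  obtain ⟨χ₀, hB'⟩ := id hB
  have hχ₀ : χ₀ ∈ B := by
    rw [hB']
    exact sameBlock_refl hMtop _
  obtain ⟨χ, hχ, hχmin⟩ := exists_minExp (p := p) (B := B) ⟨χ₀, hχ₀⟩
  have h0 : blockHeight p B (χ : G → ℂ) = 0 := by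
    rw [blockHeight_eq, hχmin, Nat.sub_self]
  have hunit := not_memLocalIdeal_apply_of_height_zero hM B hB χ hχ h0 g₀ hg₀
  have hχc := isCharacter_of_isIrrCharacter χ.2
  have hχcf := isClassFunction_of_isCharacter hχc
  obtain ⟨w, hwM, hw⟩ := exists_mem_sub_eq hχc hM y g₀ k
    (by rw [← hy, pow_orderOf_eq_one]) hcomm
  have hunit2 : ¬ MemLocalIdeal M ((χ : G → ℂ) (y * g₀)) := by
    intro h
    apply hunit
    have e : (χ : G → ℂ) g₀ = (χ : G → ℂ) (y * g₀) - (w : ℂ) := by
      rw [hw]
      ring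
    rw [e]
    exact memLocalIdeal_sub h (memLocalIdeal_of_mem hwM hMtop)
  apply hunit2
  -- the centralizer
  have hg₀H : g₀ ∈ Subgroup.centralizer ({y} : Set G) :=
    Subgroup.mem_centralizer_singleton_iff.mpr hcomm.symm
  have hyH : y ∈ Subgroup.centralizer ({y} : Set G) :=
    Subgroup.mem_centralizer_singleton_iff.mpr rfl
  obtain ⟨gH, hgH⟩ : ∃ gH : Subgroup.centralizer ({y} : Set G), gH = ⟨g₀, hg₀H⟩ := ⟨_, rfl⟩
  obtain ⟨yH, hyHdef⟩ : ∃ yH : Subgroup.centralizer ({y} : Set G), yH = ⟨y, hyH⟩ := ⟨_, rfl⟩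
  have hgHreg : ¬ p ∣ orderOf gH := by
    rw [← Subgroup.orderOf_coe, hgH]
    exact hg₀reg
  have hyHcent : yH ∈ Subgroup.center (Subgroup.centralizer ({y} : Set G)) := by
    rw [Subgroup.mem_center_iff]
    intro c
    apply Subtype.ext
    rw [hyHdef]
    exact Subgroup.mem_centralizer_singleton_iff.mp c.2
  have hcommC : ∀ c : Subgroup.centralizer ({y} : Set G), y * (c : G) = (c : G) * y :=
    fun c => (Subgroup.mem_centralizer_singleton_iff.mp c.2).symm
  -- the order of the centralizer of `gH`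
  have hDle : D ≤ (Subgroup.centralizer ({gH} : Set (Subgroup.centralizer ({y} : Set G)))).map
      (Subgroup.centralizer ({y} : Set G)).subtype := by
    intro d hd
    have hdH : d ∈ Subgroup.centralizer ({y} : Set G) :=
      Subgroup.mem_centralizer_singleton_iff.mpr (hyZ d hd)
    refine ⟨⟨d, hdH⟩, ?_, rfl⟩
    rw [SetLike.mem_coe, Subgroup.mem_centralizer_singleton_iff]
    apply Subtype.ext
    rw [hgH]
    exact hDcomm d hd
  have hdvd : p ^ blockDefect p B ∣
      Nat.card (Subgroup.centralizer ({gH} : Set (Subgroup.centralizer ({y} : Set G)))) := by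
    rw [← hDcard, ← Subgroup.card_map_of_injective
      (Subgroup.subtype_injective (Subgroup.centralizer ({y} : Set G)))]
    exact Subgroup.card_dvd_of_le hDle
  have hfacle : blockDefect p B ≤
      (Nat.card (Subgroup.centralizer
        ({gH} : Set (Subgroup.centralizer ({y} : Set G))))).factorization p :=
    (Nat.Prime.pow_dvd_iff_le_factorization hp.out Nat.card_pos.ne').mp hdvd
  -- the shifted class function
  obtain ⟨ϑ, hϑ⟩ : ∃ ϑ : Subgroup.centralizer ({y} : Set G) → ℂ,
      ϑ = fun c : Subgroup.centralizer ({y} : Set G) => (χ : G → ℂ) (y * (c : G)) := ⟨_, rfl⟩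
  have hϑcf : IsClassFunction (Subgroup.centralizer ({y} : Set G)) ϑ := by
    intro c t
    rw [hϑ]
    show (χ : G → ℂ) (y * ((t * c * t⁻¹ : Subgroup.centralizer ({y} : Set G)) : G))
      = (χ : G → ℂ) (y * (c : G))
    have e1 : y * ((t * c * t⁻¹ : Subgroup.centralizer ({y} : Set G)) : G)
        = (t : G) * (y * (c : G)) * (t : G)⁻¹ := by
      push_cast
      rw [← mul_assoc, ← mul_assoc, hcommC t]
      group
    rw [e1, hχcf]
  have hϑint : ∀ ψ : IrrCharacter (Subgroup.centralizer ({y} : Set G)),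
      IsIntegral ℤ (classInner ϑ (ψ : Subgroup.centralizer ({y} : Set G) → ℂ)) := by
    intro ψ
    have h1 := isIntegral_classInner_central_shift
      (isCharacter_restrict hχc (Subgroup.centralizer ({y} : Set G))) yH hyHcent ψ
    have h2 : (fun g : Subgroup.centralizer ({y} : Set G) =>
        (fun h : Subgroup.centralizer ({y} : Set G) => (χ : G → ℂ) h) (yH * g)) = ϑ := by
      rw [hϑ]
      funext g
      show (χ : G → ℂ) ((yH * g : Subgroup.centralizer ({y} : Set G)) : G) = _
      rw [Subgroup.coe_mul, hyHdef]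
    rw [h2] at h1
    exact h1
  have hexp : ϑ gH = ∑ ψ : IrrCharacter (Subgroup.centralizer ({y} : Set G)),
      classInner ϑ (ψ : Subgroup.centralizer ({y} : Set G) → ℂ)
        * (ψ : Subgroup.centralizer ({y} : Set G) → ℂ) gH := by
    have h1 := classFunction_eq_sum ϑ hϑcf
    conv_lhs => rw [h1]
    simp only [Finset.sum_apply, Pi.smul_apply, smul_eq_mul]
  have hϑg : ϑ gH = (χ : G → ℂ) (y * g₀) := by rw [hϑ, hgH]
  rw [← hϑg, hexp, sum_eq_sum_blocks (M := M)
    (fun ψ : IrrCharacter (Subgroup.centralizer ({y} : Set G)) =>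
      classInner ϑ (ψ : Subgroup.centralizer ({y} : Set G) → ℂ)
          * (ψ : Subgroup.centralizer ({y} : Set G) → ℂ) gH)]
  apply memLocalIdeal_sum
  intro b hb
  have hb' := (mem_blocksFinset b).mp hb
  by_cases hind : IsInducedBlock M (Subgroup.centralizer ({y} : Set G)) b B
  · have hlt := hcon b hind
    apply memLocalIdeal_sum
    intro ψ _
    by_cases hψ : ψ ∈ b
    · rw [if_pos hψ, one_mul]
      apply memLocalIdeal_mul_integral _ (hϑint ψ)
      apply memLocalIdeal_apply_of_defect_lt hM b ψ hψ gH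
      omega
    · rw [if_neg hψ, zero_mul]
      exact memLocalIdeal_zero hMtop
  · have := second_main_char hM y k hy B hB χ hχ b hb' hind gH hgHreg
    rw [← hϑ] at this
    rw [this]
    exact memLocalIdeal_zero hMtop

end Cfsg.Agent.Lib.helper3.Block
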