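import Mathlib
import Cfsg.Agent.Lib.helper3.KleinGrp2

/-!
# Brauer's order formula for dihedral Sylow `2`-subgroups: counting pairs of involutions in a
group with a normal `2`-complement and dihedral quotient
-/

set_option autoImplicit false
set_option linter.style.haveILetI false
set_option linter.unusedSectionVars false
set_option linter.unusedVariables false

namespace Cfsg.Agent.Lib.helper3.DihOrd

open DihedralGroup

variable {C : Type*} [Group C] [Fintype C] {N : ℕ} [NeZero N]

open Classical in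
/-- The involutions of `C` over the element `q` of the dihedral quotient. -/
noncomputable def inv2 (Φ : C →* DihedralGroup N) (q : DihedralGroup N) : Finset C :=
  Finset.univ.filter (fun u => orderOf u = 2 ∧ Φ u = q)

theorem mem_inv2 (Φ : C →* DihedralGroup N) (q : DihedralGroup N) (u : C) :
    u ∈ inv2 Φ q ↔ orderOf u = 2 ∧ Φ u = q := by
  unfold inv2
  rw [Finset.mem_filter]
  simp

theorem mul_self_of_orderOf_two {X : Type*} [Group X] {a : X} (h : orderOf a = 2) : a * a = 1 := by
  have := pow_orderOf_eq_one a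
  rw [h, pow_two] at this
  exact this

theorem ne_one_of_orderOf_two {X : Type*} [Group X] {a : X} (h : orderOf a = 2) : a ≠ 1 := by
  intro h1
  rw [h1, orderOf_one] at h
  omega

theorem orderOf_conj' {X : Type*} [Group X] (g a : X) : orderOf (g * a * g⁻¹) = orderOf a := by
  have := (MulAut.conj g).orderOf_eq a
  rw [MulAut.conj_apply] at this
  exact this

/-- The image of an involution is not trivial. -/
theorem map_ne_one (Φ : C →* DihedralGroup N) (hodd : Odd (Nat.card Φ.ker)) {u : C}
    (hu : orderOf u = 2) : Φ u ≠ 1 := by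
  intro h
  have hk : u ∈ Φ.ker := h
  have h1 := pow_card_eq_one' (G := Φ.ker) (x := ⟨u, hk⟩)
  have h2 : u ^ (Nat.card Φ.ker) = 1 := congrArg Subtype.val h1
  obtain ⟨j, hj⟩ := hodd
  rw [hj, pow_succ, pow_mul, pow_two, mul_self_of_orderOf_two hu, one_pow, one_mul] at h2
  exact ne_one_of_orderOf_two hu h2

/-- The number of involutions over `q` is a class function of `q`. -/
theorem card_inv2_conj (Φ : C →* DihedralGroup N) (g : C) (q : DihedralGroup N) :
    (inv2 Φ (Φ g * q * (Φ g)⁻¹)).card = (inv2 Φ q).card := by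
  apply Finset.card_nbij' (fun u => g⁻¹ * u * g) (fun u => g * u * g⁻¹)
  · intro u hu
    rw [Finset.mem_coe, mem_inv2] at hu ⊢
    refine ⟨?_, ?_⟩
    · have := orderOf_conj' g⁻¹ u
      rw [inv_inv] at this
      rw [this]
      exact hu.1
    · rw [map_mul, map_mul, hu.2, map_inv]
      group
  · intro u hu
    rw [Finset.mem_coe, mem_inv2] at hu ⊢
    refine ⟨?_, ?_⟩
    · rw [orderOf_conj']
      exact hu.1
    · rw [map_mul, map_mul, hu.2, map_inv]
  · intro u _
    simp only
    group
  · intro u _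
    simp only
    group

open Classical in
/-- The pairs of involutions with given product of the images. -/
theorem card_pairs_eq_sum (Φ : C →* DihedralGroup N) (d : DihedralGroup N) :
    (Finset.univ.filter (fun p : C × C =>
        orderOf p.1 = 2 ∧ orderOf p.2 = 2 ∧ Φ p.1 * Φ p.2 = d)).card
      = ∑ q : DihedralGroup N, (inv2 Φ q).card * (inv2 Φ (q⁻¹ * d)).card := by
  have hmaps : ∀ p ∈ (Finset.univ.filter (fun p : C × C =>
        orderOf p.1 = 2 ∧ orderOf p.2 = 2 ∧ Φ p.1 * Φ p.2 = d)), Φ p.1 ∈ (Finset.univ :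
        Finset (DihedralGroup N)) := fun _ _ => Finset.mem_univ _
  rw [Finset.card_eq_sum_card_fiberwise hmaps]
  apply Finset.sum_congr rfl
  intro q _
  rw [← Finset.card_product]
  congr 1
  ext ⟨u, v⟩
  rw [Finset.mem_filter, Finset.mem_filter, Finset.mem_product, mem_inv2, mem_inv2]
  simp only [Finset.mem_univ, true_and]
  constructor
  · rintro ⟨⟨hu, hv, hd⟩, hq⟩
    refine ⟨⟨hu, hq⟩, hv, ?_⟩
    rw [← hd, ← hq]
    group
  · rintro ⟨⟨hu, hq⟩, hv, hd⟩
    refine ⟨⟨hu, hv, ?_⟩, hq⟩
    rw [hq, hd]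
    group

/-- Sums over the dihedral group. -/
theorem sum_dihedral {α : Type*} [AddCommMonoid α] (f : DihedralGroup N → α) :
    ∑ q : DihedralGroup N, f q = ∑ i : ZMod N, f (r i) + ∑ i : ZMod N, f (sr i) := by
  rw [← Fintype.sum_equiv (equivSum (n := N)).symm (fun x => f ((equivSum (n := N)).symm x)) f
    (fun x => rfl), Fintype.sum_sum_type]
  rfl

/-- The elements `j` of `ZMod N` with `j + j = 0`. -/
theorem eq_of_add_self {h : ℕ} (hN : N = 2 * h) (j : ZMod N) (hj : j + j = 0) :
    j = 0 ∨ j = (h : ZMod N) := by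
  have h1 : ((j.val + j.val : ℕ) : ZMod N) = 0 := by
    rw [Nat.cast_add, ZMod.natCast_zmod_val]
    exact hj
  rw [ZMod.natCast_eq_zero_iff] at h1
  have h2 : j.val < N := ZMod.val_lt j
  obtain ⟨k, hk⟩ := h1
  have hN0 : 0 < N := Nat.pos_of_ne_zero (NeZero.ne N)
  have hk2 : k = 0 ∨ k = 1 := by
    have : N * k < N * 2 := by omega
    have := Nat.lt_of_mul_lt_mul_left this
    omega
  rcases hk2 with h0 | h0
  · left
    rw [h0, mul_zero] at hk
    have : j.val = 0 := by omega
    exact (ZMod.val_eq_zero j).mp this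
  · right
    rw [h0, mul_one] at hk
    have : j.val = h := by omega
    rw [← this, ZMod.natCast_zmod_val]

/-- Sums over `ZMod N` as sums over a range. -/
theorem sum_zmod {α : Type*} [AddCommMonoid α] (f : ZMod N → α) :
    ∑ i : ZMod N, f i = ∑ j ∈ Finset.range N, f (j : ZMod N) := by
  symm
  apply Finset.sum_nbij' (i := fun j : ℕ => (j : ZMod N)) (j := fun i : ZMod N => i.val)
  · intro j _
    exact Finset.mem_univ _
  · intro i _
    rw [Finset.mem_range]
    exact ZMod.val_lt i
  · intro j hj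
    rw [Finset.mem_range] at hj
    exact ZMod.val_cast_of_lt hj
  · intro i _
    exact ZMod.natCast_zmod_val i
  · intro j _
    rfl

theorem sum_range_parity (h A B : ℕ) :
    ∑ j ∈ Finset.range (2 * h), (if Even j then A else B) = h * (A + B) := by
  induction h with
  | zero => simp
  | succ k ih =>
    rw [show 2 * (k + 1) = 2 * k + 1 + 1 by ring, Finset.sum_range_succ, Finset.sum_range_succ, ih]
    have h1 : Even (2 * k) := even_two_mul k
    have h2 : ¬ Even (2 * k + 1) := by
      rw [Nat.not_even_iff_odd]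
      exact odd_two_mul_add_one k
    rw [if_pos h1, if_neg h2]
    ring

section count

variable (Φ : C →* DihedralGroup N) (hsurj : Function.Surjective Φ)
  (hodd : Odd (Nat.card Φ.ker)) {h : ℕ} (hN : N = 2 * h)

include hsurj in
/-- The number of involutions over a reflection depends on the parity only. -/
theorem card_inv2_sr_add (i k : ZMod N) :
    (inv2 Φ (sr (i + k + k))).card = (inv2 Φ (sr i)).card := by
  obtain ⟨g, hg⟩ := hsurj (r (-k))
  have := card_inv2_conj Φ g (sr i)
  rw [hg, inv_r, r_mul_sr, sr_mul_r, neg_neg] at this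
  rw [← this]
  congr 3
  ring

include hsurj hN in
theorem card_inv2_sr_natCast (j : ℕ) :
    (inv2 Φ (sr (j : ZMod N))).card
      = if Even j then (inv2 Φ (sr 0)).card else (inv2 Φ (sr 1)).card := by
  by_cases hj : Even j
  · rw [if_pos hj]
    obtain ⟨m, hm⟩ := hj
    have := card_inv2_sr_add Φ hsurj 0 (m : ZMod N)
    rw [← this, hm]
    congr 3
    push_cast
    ring
  · rw [if_neg hj]
    rw [Nat.not_even_iff_odd] at hj
    obtain ⟨m, hm⟩ := hj
    have := card_inv2_sr_add Φ hsurj 1 (m : ZMod N)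
    rw [← this, hm]
    congr 3
    push_cast
    ring

include hodd hN in
/-- Two involutions over rotations do not multiply to a nontrivial rotation. -/
theorem card_inv2_r_mul (l : ZMod N) (hl : l ≠ 0) (i : ZMod N) :
    (inv2 Φ (r i)).card * (inv2 Φ ((r i)⁻¹ * r l)).card = 0 := by
  by_contra hne
  rw [mul_eq_zero, not_or] at hne
  obtain ⟨h1, h2⟩ := hne
  obtain ⟨u, hu⟩ := Finset.card_pos.mp (Nat.pos_of_ne_zero h1)
  obtain ⟨v, hv⟩ := Finset.card_pos.mp (Nat.pos_of_ne_zero h2)
  rw [mem_inv2] at hu hv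
  rw [inv_r, r_mul_r] at hv
  have key : ∀ (w : C) (j : ZMod N), orderOf w = 2 → Φ w = r j → j = (h : ZMod N) := by
    intro w j hw hj
    have h3 : Φ w * Φ w = 1 := by rw [← map_mul, mul_self_of_orderOf_two hw, map_one]
    rw [hj, r_mul_r, one_def] at h3
    have h4 : j + j = 0 := by
      injection h3
    rcases eq_of_add_self hN j h4 with h5 | h5
    · exfalso
      apply map_ne_one Φ hodd hw
      rw [hj, h5, r_zero]
    · exact h5
  have e1 := key u i hu.1 hu.2
  have e2 := key v (-i + l) hv.1 hv.2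
  apply hl
  have e3 : l = (h : ZMod N) + (h : ZMod N) := by
    rw [e1] at e2
    calc l = (h : ZMod N) + (-(h : ZMod N) + l) := by ring
      _ = (h : ZMod N) + (h : ZMod N) := by rw [e2]
  rw [e3, ← Nat.cast_add, ZMod.natCast_eq_zero_iff, hN]
  exact ⟨1, by ring⟩

open Classical in
include hsurj hodd hN in
/-- The number of pairs of involutions whose images multiply to the rotation `r l`. -/
theorem card_pairs (l : ℕ) (hl : (l : ZMod N) ≠ 0) :
    (Finset.univ.filter (fun p : C × C =>
        orderOf p.1 = 2 ∧ orderOf p.2 = 2 ∧ Φ p.1 * Φ p.2 = r (l : ZMod N))).card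
      = if Even l then h * ((inv2 Φ (sr 0)).card ^ 2 + (inv2 Φ (sr 1)).card ^ 2)
        else N * ((inv2 Φ (sr 0)).card * (inv2 Φ (sr 1)).card) := by
  rw [card_pairs_eq_sum, sum_dihedral,
    Finset.sum_eq_zero (fun i _ => card_inv2_r_mul Φ hodd hN (l : ZMod N) hl i), zero_add,
    sum_zmod]
  obtain ⟨A, hA⟩ : ∃ A : ℕ, A = (inv2 Φ (sr 0)).card := ⟨_, rfl⟩
  obtain ⟨B, hB⟩ : ∃ B : ℕ, B = (inv2 Φ (sr 1)).card := ⟨_, rfl⟩
  rw [← hA, ← hB]
  have h1 : ∀ j ∈ Finset.range N, (inv2 Φ (sr (j : ZMod N))).card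
      * (inv2 Φ ((sr (j : ZMod N))⁻¹ * r (l : ZMod N))).card
      = if Even l then (if Even j then A ^ 2 else B ^ 2) else A * B := by
    intro j _
    rw [inv_sr, sr_mul_r, ← Nat.cast_add, card_inv2_sr_natCast Φ hsurj hN,
      card_inv2_sr_natCast Φ hsurj hN, ← hA, ← hB]
    by_cases hl2 : Even l
    · rw [if_pos hl2]
      by_cases hj : Even j
      · rw [if_pos hj, if_pos hj, if_pos (hj.add hl2)]
        ring
      · rw [if_neg hj, if_neg hj, if_neg (by rw [Nat.even_add]; tauto)]
        ring
    · rw [if_neg hl2]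
      by_cases hj : Even j
      · rw [if_pos hj, if_neg (by rw [Nat.even_add]; tauto)]
      · rw [if_neg hj, if_pos (by rw [Nat.even_add]; tauto)]
        ring
  rw [Finset.sum_congr rfl h1]
  by_cases hl2 : Even l
  · simp only [if_pos hl2]
    rw [hN, sum_range_parity]
  · simp only [if_neg hl2]
    rw [Finset.sum_const, Finset.card_range, smul_eq_mul]

end count

end Cfsg.Agent.Lib.helper3.DihOrd
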