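import Mathlib
import Cfsg.Agent.Lib.helper3.DihOrd2

/-!
# Brauer's order formula for dihedral Sylow `2`-subgroups: the number of involutions over a
reflection
-/

set_option autoImplicit false
set_option linter.style.haveILetI false
set_option linter.unusedSectionVars false
set_option linter.unusedVariables false

namespace Cfsg.Agent.Lib.helper3.DihOrd

open DihedralGroup Cfsg.Agent.Lib.helper3.Klein

variable {C : Type*} [Group C] [Fintype C] {N : ℕ} [NeZero N]

theorem natCast_half_ne_zero {h : ℕ} (hN : N = 2 * h) : (h : ZMod N) ≠ 0 := by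
  intro h0
  rw [ZMod.natCast_eq_zero_iff] at h0
  have hN0 : N ≠ 0 := NeZero.ne N
  obtain ⟨k, hk⟩ := h0
  rcases Nat.eq_zero_or_pos k with hk0 | hk0
  · rw [hk0, mul_zero] at hk
    omega
  · have : N ≤ N * k := Nat.le_mul_of_pos_right N hk0
    omega

/-- The centralizer of a reflection in the dihedral group. -/
theorem commute_sr_iff {h : ℕ} (hN : N = 2 * h) (i : ZMod N) (q : DihedralGroup N) :
    q * sr i = sr i * q ↔ q = r 0 ∨ q = r (h : ZMod N) ∨ q = sr i ∨ q = sr (i + (h : ZMod N)) := by
  have hhh : (h : ZMod N) + (h : ZMod N) = 0 := by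
    rw [← Nat.cast_add, ZMod.natCast_eq_zero_iff, hN]
    exact ⟨1, by ring⟩
  rcases q with j | j
  · rw [r_mul_sr, sr_mul_r]
    constructor
    · intro hq
      have h1 : i - j = i + j := by injection hq
      have h2 : j + j = 0 := by linear_combination h1.symm
      rcases eq_of_add_self hN j h2 with h3 | h3
      · left; rw [h3]
      · right; left; rw [h3]
    · rintro (hq | hq | hq | hq)
      · have h1 : j = 0 := by injection hq
        rw [h1]; congr 1; ring
      · have h1 : j = (h : ZMod N) := by injection hq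
        rw [h1]; congr 1
        linear_combination (-1 : ZMod N) * hhh
      · exact absurd hq (by rintro ⟨⟩)
      · exact absurd hq (by rintro ⟨⟩)
  · rw [sr_mul_sr, sr_mul_sr]
    constructor
    · intro hq
      have h1 : i - j = j - i := by injection hq
      have h2 : (j - i) + (j - i) = 0 := by linear_combination (-1 : ZMod N) * h1
      rcases eq_of_add_self hN (j - i) h2 with h3 | h3
      · right; right; left
        congr 1
        linear_combination h3
      · right; right; right
        congr 1
        linear_combination h3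
    · rintro (hq | hq | hq | hq)
      · exact absurd hq (by rintro ⟨⟩)
      · exact absurd hq (by rintro ⟨⟩)
      · have h1 : j = i := by injection hq
        rw [h1]
      · have h1 : j = i + (h : ZMod N) := by injection hq
        rw [h1]; congr 1
        linear_combination (-1 : ZMod N) * hhh

theorem card_centralizer_sr {h : ℕ} (hN : N = 2 * h) (i : ZMod N) :
    (Finset.univ.filter (fun q : DihedralGroup N => q * sr i = sr i * q)).card = 4 := by
  have hh0 := natCast_half_ne_zero hN
  have h1 : Finset.univ.filter (fun q : DihedralGroup N => q * sr i = sr i * q)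
      = {r 0, r (h : ZMod N), sr i, sr (i + (h : ZMod N))} := by
    ext q
    rw [Finset.mem_filter, commute_sr_iff hN]
    simp only [Finset.mem_univ, true_and, Finset.mem_insert, Finset.mem_singleton]
  rw [h1, Finset.card_insert_of_notMem, Finset.card_insert_of_notMem,
    Finset.card_insert_of_notMem, Finset.card_singleton]
  · simp only [Finset.mem_singleton]
    intro hq
    have h2 : i = i + (h : ZMod N) := by injection hq
    apply hh0
    linear_combination -h2
  · simp only [Finset.mem_insert, Finset.mem_singleton, not_or]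
    exact ⟨by rintro ⟨⟩, by rintro ⟨⟩⟩
  · simp only [Finset.mem_insert, Finset.mem_singleton, not_or]
    refine ⟨?_, by rintro ⟨⟩, by rintro ⟨⟩⟩
    intro hq
    have h2 : (0 : ZMod N) = (h : ZMod N) := by injection hq
    exact hh0 h2.symm

section count

variable (Φ : C →* DihedralGroup N) (hsurj : Function.Surjective Φ)
  (hodd : Odd (Nat.card Φ.ker)) {h : ℕ} (hN : N = 2 * h)

open Classical in
include hsurj in
/-- The fibres of `Φ`. -/
theorem card_fiber (q : DihedralGroup N) :
    (Finset.univ.filter (fun g : C => Φ g = q)).card = Nat.card Φ.ker := by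
  obtain ⟨g₀, hg₀⟩ := hsurj q
  rw [Nat.card_eq_fintype_card, Fintype.card_subtype]
  symm
  apply Finset.card_nbij' (fun k => g₀ * k) (fun g => g₀⁻¹ * g)
  · intro k hk
    rw [Finset.mem_coe, Finset.mem_filter] at hk ⊢
    refine ⟨Finset.mem_univ _, ?_⟩
    have : Φ k = 1 := hk.2
    rw [map_mul, this, mul_one, hg₀]
  · intro g hg
    rw [Finset.mem_coe, Finset.mem_filter] at hg ⊢
    refine ⟨Finset.mem_univ _, ?_⟩
    show Φ (g₀⁻¹ * g) = 1
    rw [map_mul, map_inv, hg.2, hg₀, inv_mul_cancel]
  · intro k _
    simp only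
    group
  · intro g _
    simp only
    group

open Classical in
include hsurj hodd hN in
/-- The number of involutions over the reflection `sr i`, in terms of the centralizer of one of
them. -/
theorem card_inv2_mul_card_centralizer (t : C) (ht : orderOf t = 2) (i : ZMod N)
    (hΦt : Φ t = sr i) :
    (inv2 Φ (sr i)).card * Nat.card (Subgroup.centralizer ({t} : Set C))
      = 4 * Nat.card Φ.ker := by
  have htt : t * t = 1 := mul_self_of_orderOf_two ht
  have htinv : t⁻¹ = t := inv_eq_of_mul_eq_one_left htt
  obtain ⟨D, hD⟩ : ∃ D : Finset C,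
      D = Finset.univ.filter (fun g : C => Φ g * sr i = sr i * Φ g) := ⟨_, rfl⟩
  -- first count
  have hD1 : D.card = 4 * Nat.card Φ.ker := by
    have hmaps : ∀ g ∈ D, Φ g ∈ Finset.univ.filter
        (fun q : DihedralGroup N => q * sr i = sr i * q) := by
      intro g hg
      rw [hD, Finset.mem_filter] at hg
      rw [Finset.mem_filter]
      exact ⟨Finset.mem_univ _, hg.2⟩
    rw [Finset.card_eq_sum_card_fiberwise hmaps]
    have h1 : ∀ q ∈ Finset.univ.filter (fun q : DihedralGroup N => q * sr i = sr i * q),
        (D.filter (fun g => Φ g = q)).card = Nat.card Φ.ker := by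
      intro q hq
      rw [Finset.mem_filter] at hq
      rw [← card_fiber Φ hsurj q]
      congr 1
      ext g
      rw [Finset.mem_filter, Finset.mem_filter, hD, Finset.mem_filter]
      constructor
      · rintro ⟨_, h2⟩
        exact ⟨Finset.mem_univ _, h2⟩
      · rintro ⟨_, h2⟩
        refine ⟨⟨Finset.mem_univ _, ?_⟩, h2⟩
        rw [h2]
        exact hq.2
    rw [Finset.sum_congr rfl h1, Finset.sum_const, card_centralizer_sr hN, smul_eq_mul]
  -- second count
  obtain ⟨o, ho⟩ : ∃ o : ℕ, o = Nat.card Φ.ker := ⟨_, rfl⟩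
  have hoodd : Odd o := by rw [ho]; exact hodd
  have hKo : ∀ k : C, Φ k = 1 → k ^ o = 1 := by
    intro k hk
    have hk' : k ∈ Φ.ker := hk
    have := pow_card_eq_one' (G := Φ.ker) (x := ⟨k, hk'⟩)
    rw [ho]
    exact congrArg Subtype.val this
  have hconj : ∀ u ∈ inv2 Φ (sr i), ∃ g₀ : C, g₀ * t * g₀⁻¹ = u := by
    intro u hu
    rw [mem_inv2] at hu
    obtain ⟨k, hk⟩ : ∃ k : C, k = u * t⁻¹ := ⟨_, rfl⟩
    have hkΦ : Φ k = 1 := by
      rw [hk, map_mul, map_inv, hu.2, hΦt, mul_inv_cancel]
    have huk : u = k * t := by rw [hk]; group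
    have huu : u * u = 1 := mul_self_of_orderOf_two hu.1
    have hinvk : t * k * t⁻¹ = k⁻¹ := by
      have h1 : k * t * (k * t) = 1 := by rw [← huk]; exact huu
      have h2 : t * k * t = k⁻¹ := by
        calc t * k * t = k⁻¹ * (k * t * (k * t)) := by group
          _ = k⁻¹ := by rw [h1, mul_one]
      rw [htinv]
      exact h2
    obtain ⟨l, hl⟩ := conj_of_inverted t k htt o hoodd (hKo k hkΦ) hinvk
    exact ⟨l, by rw [huk, hl]⟩
  have hD2 : D.card = (inv2 Φ (sr i)).card * Nat.card (Subgroup.centralizer ({t} : Set C)) := by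
    have hmaps : ∀ g ∈ D, g * t * g⁻¹ ∈ inv2 Φ (sr i) := by
      intro g hg
      rw [hD, Finset.mem_filter] at hg
      rw [mem_inv2]
      refine ⟨by rw [orderOf_conj']; exact ht, ?_⟩
      rw [map_mul, map_mul, hΦt, hg.2, map_inv]
      group
    rw [Finset.card_eq_sum_card_fiberwise hmaps]
    have h1 : ∀ u ∈ inv2 Φ (sr i), (D.filter (fun g => g * t * g⁻¹ = u)).card
        = Nat.card (Subgroup.centralizer ({t} : Set C)) := by
      intro u hu
      obtain ⟨g₀, hg₀⟩ := hconj u hu
      rw [mem_inv2] at hu
      rw [Nat.card_eq_fintype_card, Fintype.card_subtype]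
      apply Finset.card_nbij' (fun g => g₀⁻¹ * g) (fun c => g₀ * c)
      · intro g hg
        rw [Finset.mem_coe, Finset.mem_filter] at hg
        rw [Finset.mem_coe, Finset.mem_filter, Subgroup.mem_centralizer_singleton_iff]
        refine ⟨Finset.mem_univ _, ?_⟩
        have h2 : g * t * g⁻¹ = g₀ * t * g₀⁻¹ := by rw [hg.2, hg₀]
        calc g₀⁻¹ * g * t = g₀⁻¹ * (g * t * g⁻¹) * g := by group
          _ = g₀⁻¹ * (g₀ * t * g₀⁻¹) * g := by rw [h2]
          _ = t * (g₀⁻¹ * g) := by group
      · intro c hc
        rw [Finset.mem_coe, Finset.mem_filter, Subgroup.mem_centralizer_singleton_iff] at hc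
        rw [Finset.mem_coe, Finset.mem_filter]
        have h2 : g₀ * c * t * (g₀ * c)⁻¹ = u := by
          calc g₀ * c * t * (g₀ * c)⁻¹ = g₀ * (c * t) * c⁻¹ * g₀⁻¹ := by group
            _ = g₀ * (t * c) * c⁻¹ * g₀⁻¹ := by rw [hc.2]
            _ = g₀ * t * g₀⁻¹ := by group
            _ = u := hg₀
        refine ⟨?_, h2⟩
        rw [hD, Finset.mem_filter]
        refine ⟨Finset.mem_univ _, ?_⟩
        have h3 : Φ (g₀ * c) * sr i * (Φ (g₀ * c))⁻¹ = sr i := by
          rw [← hΦt, ← map_inv, ← map_mul, ← map_mul, h2, hu.2, hΦt]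
        calc Φ (g₀ * c) * sr i = Φ (g₀ * c) * sr i * (Φ (g₀ * c))⁻¹ * Φ (g₀ * c) := by group
          _ = sr i * Φ (g₀ * c) := by rw [h3]
      · intro g _
        simp only
        group
      · intro c _
        simp only
        group
    rw [Finset.sum_congr rfl h1, Finset.sum_const, smul_eq_mul]
  rw [← hD2, hD1]

end count

end Cfsg.Agent.Lib.helper3.DihOrd
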