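import Mathlib
import Cfsg.Agent.H1.Dihedral
import Cfsg.Agent.Lib.helper3.DihOrd1
import Cfsg.Agent.Lib.helper3.DihOrd3

/-!
# Brauer's order formula for dihedral Sylow `2`-subgroups: the homomorphism onto the dihedral
group and the averaged count
-/

set_option autoImplicit false
set_option linter.style.haveILetI false
set_option linter.unusedSectionVars false
set_option linter.unusedVariables false

namespace Cfsg.Agent.Lib.helper3.DihOrd

open DihedralGroup Cfsg.Agent.H1

/-- An injective homomorphism from the dihedral group, from an element of order `N ≥ 3` and an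
involution inverting it. -/
theorem dihedralHom_injective {Q : Type*} [Group Q] (N : ℕ) (hN3 : 3 ≤ N) (a b : Q)
    (ha : orderOf a = N) (hbb : b * b = 1) (hrel : b * a * b⁻¹ = a⁻¹) :
    Function.Injective (dihedralHom a N (by rw [← ha]; exact pow_orderOf_eq_one a) b hbb hrel) := by
  have haN : a ^ N = 1 := by rw [← ha]; exact pow_orderOf_eq_one a
  rw [injective_iff_map_eq_one]
  rintro (i | i) hi
  · rw [dihedralHom_r, zmodPow_eq_one_iff a N haN ha.symm] at hi
    rw [hi]
    rfl
  · exfalso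
    rw [dihedralHom_sr] at hi
    obtain ⟨k, -, hk⟩ := zmodPow_exists_zpow a N haN i
    rw [hk] at hi
    have hb : b = (a ^ k)⁻¹ := eq_inv_of_mul_eq_one_left hi
    have hcomm : Commute b a := by
      rw [hb]
      exact ((Commute.refl a).zpow_left k).inv_left
    have h1 : a⁻¹ = a := by
      rw [← hrel, hcomm.eq, mul_assoc, mul_inv_cancel, mul_one]
    have h2 : a ^ 2 = 1 := by
      rw [pow_two]
      nth_rewrite 1 [← h1]
      exact inv_mul_cancel a
    have h3 : orderOf a ∣ 2 := orderOf_dvd_of_pow_eq_one h2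
    rw [ha] at h3
    have := Nat.le_of_dvd (by norm_num) h3
    omega

/-- A group with a normal subgroup `W` of odd order and index `2 N`, and two elements
generating a dihedral `2`-group of order `2 N`, maps onto the dihedral group with kernel `W`. -/
theorem exists_hom {X : Type*} [Group X] [Finite X] (W : Subgroup X) [hWn : W.Normal]
    (hW : Odd (Nat.card W)) (N : ℕ) (hN3 : 3 ≤ N) (hN2 : ∃ m : ℕ, N = 2 ^ m)
    (hidx : W.index = 2 * N) (s t : X) (hs : orderOf s = N) (htt : t * t = 1)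
    (hrel : t * s * t⁻¹ = s⁻¹) :
    ∃ Φ : X →* DihedralGroup N, Function.Surjective Φ ∧ (∀ x : X, Φ x = 1 ↔ x ∈ W)
      ∧ Φ s = r 1 ∧ Φ t = sr 0 := by
  haveI : NeZero N := ⟨by omega⟩
  obtain ⟨π, hπ⟩ : ∃ π : X →* X ⧸ W, π = QuotientGroup.mk' W := ⟨_, rfl⟩
  have hπker : ∀ x : X, π x = 1 ↔ x ∈ W := by
    intro x
    rw [hπ]
    exact QuotientGroup.eq_one_iff x
  have hπsurj : Function.Surjective π := by
    rw [hπ]
    exact QuotientGroup.mk'_surjective W
  obtain ⟨a, ha⟩ : ∃ a : X ⧸ W, a = π s := ⟨_, rfl⟩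
  obtain ⟨b, hb⟩ : ∃ b : X ⧸ W, b = π t := ⟨_, rfl⟩
  have hbb : b * b = 1 := by rw [hb, ← map_mul, htt, map_one]
  have hrel' : b * a * b⁻¹ = a⁻¹ := by
    rw [ha, hb, ← map_inv, ← map_mul, ← map_mul, hrel, map_inv]
  have hsN : s ^ N = 1 := by rw [← hs]; exact pow_orderOf_eq_one s
  have haN : a ^ N = 1 := by rw [ha, ← map_pow, hsN, map_one]
  have hcop : Nat.Coprime N (Nat.card W) := by
    obtain ⟨m, hm⟩ := hN2
    rw [hm]
    apply Nat.Coprime.pow_left
    rw [Nat.coprime_two_left]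
    exact hW
  have hao : orderOf a = N := by
    apply Nat.dvd_antisymm (orderOf_dvd_of_pow_eq_one haN)
    have h1 : a ^ orderOf a = 1 := pow_orderOf_eq_one a
    rw [ha, ← map_pow, hπker] at h1
    have h2 : (s ^ orderOf (π s)) ^ (Nat.card W) = 1 := by
      have := pow_card_eq_one' (G := W) (x := ⟨_, h1⟩)
      exact congrArg Subtype.val this
    have h3 : (s ^ orderOf (π s)) ^ N = 1 := by
      rw [← pow_mul, mul_comm, pow_mul, hsN, one_pow]
    have h4 : orderOf (s ^ orderOf (π s)) ∣ Nat.gcd N (Nat.card W) :=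
      Nat.dvd_gcd (orderOf_dvd_of_pow_eq_one h3) (orderOf_dvd_of_pow_eq_one h2)
    rw [hcop.gcd_eq_one, Nat.dvd_one, orderOf_eq_one_iff] at h4
    rw [← hs, ha]
    exact orderOf_dvd_of_pow_eq_one h4
  obtain ⟨f, hf⟩ : ∃ f : DihedralGroup N →* X ⧸ W,
      f = dihedralHom a N (by rw [← hao]; exact pow_orderOf_eq_one a) b hbb hrel' := ⟨_, rfl⟩
  have hfinj : Function.Injective f := by
    rw [hf]
    exact dihedralHom_injective N hN3 a b hao hbb hrel'
  have hfbij : Function.Bijective f := by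
    apply Function.Injective.bijective_of_nat_card_le hfinj
    rw [DihedralGroup.nat_card, ← hidx]
    exact le_of_eq rfl
  obtain ⟨e, he⟩ : ∃ e : DihedralGroup N ≃* X ⧸ W, e = MulEquiv.ofBijective f hfbij := ⟨_, rfl⟩
  have hef : ∀ d : DihedralGroup N, e d = f d := by
    intro d
    rw [he]
    rfl
  refine ⟨e.symm.toMonoidHom.comp π, ?_, ?_, ?_, ?_⟩
  · intro d
    obtain ⟨x, hx⟩ := hπsurj (e d)
    refine ⟨x, ?_⟩
    show e.symm (π x) = d
    rw [hx, MulEquiv.symm_apply_apply]
  · intro x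
    show e.symm (π x) = 1 ↔ x ∈ W
    rw [← hπker, MulEquiv.map_eq_one_iff]
  · show e.symm (π s) = r 1
    rw [MulEquiv.symm_apply_eq, hef, hf, dihedralHom_r, zmodPow_one, ha]
  · show e.symm (π t) = sr 0
    rw [MulEquiv.symm_apply_eq, hef, hf, dihedralHom_sr, zmodPow_zero, mul_one, hb]

variable {C : Type*} [Group C] [Fintype C] {N : ℕ} [NeZero N]

open Classical in
/-- The number of pairs of involutions with given product. -/
noncomputable def pairCount (g : C) : ℂ :=
  ((Finset.univ.filter (fun p : C × C => orderOf p.1 = 2 ∧ orderOf p.2 = 2 ∧ p.1 * p.2 = g)).card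
    : ℂ)

open Classical in
theorem mem_pairSet_iff (g : C) (p : C × C) :
    p ∈ Finset.univ.filter (fun p : C × C => orderOf p.1 = 2 ∧ orderOf p.2 = 2 ∧ p.1 * p.2 = g)
      ↔ orderOf p.1 = 2 ∧ orderOf p.2 = 2 ∧ p.1 * p.2 = g := by
  rw [Finset.mem_filter]
  simp

open Classical in
theorem pairCount_conj (d g : C) : pairCount (d * g * d⁻¹) = pairCount g := by
  unfold pairCount
  congr 1
  apply Finset.card_nbij' (fun p => (d⁻¹ * p.1 * d, d⁻¹ * p.2 * d))
    (fun p => (d * p.1 * d⁻¹, d * p.2 * d⁻¹))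
  · rintro ⟨u, v⟩ hp
    rw [Finset.mem_coe, Finset.mem_filter] at hp ⊢
    obtain ⟨-, hu, hv, huv⟩ := hp
    simp only at hu hv huv
    refine ⟨Finset.mem_univ _, ?_, ?_, ?_⟩
    · have := orderOf_conj' d⁻¹ u
      rw [inv_inv] at this
      rw [this]
      exact hu
    · have := orderOf_conj' d⁻¹ v
      rw [inv_inv] at this
      rw [this]
      exact hv
    · calc d⁻¹ * u * d * (d⁻¹ * v * d) = d⁻¹ * (u * v) * d := by group
        _ = d⁻¹ * (d * g * d⁻¹) * d := by rw [huv]
        _ = g := by group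
  · rintro ⟨u, v⟩ hp
    rw [Finset.mem_coe, Finset.mem_filter] at hp ⊢
    obtain ⟨-, hu, hv, huv⟩ := hp
    simp only at hu hv huv
    refine ⟨Finset.mem_univ _, ?_, ?_, ?_⟩
    · rw [orderOf_conj']
      exact hu
    · rw [orderOf_conj']
      exact hv
    · calc d * u * d⁻¹ * (d * v * d⁻¹) = d * (u * v) * d⁻¹ := by group
        _ = d * g * d⁻¹ := by rw [huv]
  · rintro ⟨u, v⟩ _
    simp only
    apply Prod.ext <;> simp only <;> group
  · rintro ⟨u, v⟩ _
    simp only
    apply Prod.ext <;> simp only <;> group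

open Classical in
/-- The sum of the pair counts over a coset of the kernel. -/
theorem sum_pairCount_coset (Φ : C →* DihedralGroup N) (W : Subgroup C)
    (hker : ∀ x : C, Φ x = 1 ↔ x ∈ W) (y : C) :
    ∑ w ∈ Finset.univ.filter (fun w : C => w ∈ W), pairCount (y * w)
      = ((Finset.univ.filter (fun p : C × C =>
          orderOf p.1 = 2 ∧ orderOf p.2 = 2 ∧ Φ p.1 * Φ p.2 = Φ y)).card : ℂ) := by
  have hmaps : ∀ p ∈ Finset.univ.filter (fun p : C × C =>
      orderOf p.1 = 2 ∧ orderOf p.2 = 2 ∧ Φ p.1 * Φ p.2 = Φ y),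
      y⁻¹ * (p.1 * p.2) ∈ Finset.univ.filter (fun w : C => w ∈ W) := by
    intro p hp
    rw [Finset.mem_filter] at hp ⊢
    refine ⟨Finset.mem_univ _, ?_⟩
    rw [← hker, map_mul, map_mul, hp.2.2.2, map_inv, inv_mul_cancel]
  rw [Finset.card_eq_sum_card_fiberwise hmaps]
  push_cast
  apply Finset.sum_congr rfl
  intro w hw
  rw [Finset.mem_filter] at hw
  unfold pairCount
  congr 1
  congr 1
  ext ⟨u, v⟩
  rw [Finset.mem_filter, Finset.mem_filter, Finset.mem_filter]
  simp only [Finset.mem_univ, true_and]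
  constructor
  · rintro ⟨hu, hv, huv⟩
    refine ⟨⟨hu, hv, ?_⟩, ?_⟩
    · have hw1 : Φ w = 1 := (hker w).mpr hw.2
      rw [← map_mul, huv, map_mul, hw1, mul_one]
    · rw [huv]
      group
  · rintro ⟨⟨hu, hv, -⟩, huv⟩
    refine ⟨hu, hv, ?_⟩
    rw [← huv]
    group

open Classical in
/-- The centralizer of `y` in `W`, as a finset. -/
noncomputable def centW (W : Subgroup C) (y : C) : Finset C :=
  Finset.univ.filter (fun c : C => c ∈ W ∧ c * y = y * c)

open Classical in
theorem mem_centW (W : Subgroup C) (y c : C) : c ∈ centW W y ↔ c ∈ W ∧ c * y = y * c := by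
  unfold centW
  rw [Finset.mem_filter]
  simp

/-- The averaged pair count over `y C_W(y)`, `W` the kernel of `Φ`, `Φ y` a nontrivial
rotation. -/
theorem avg_pairs (Φ : C →* DihedralGroup N) (hsurj : Function.Surjective Φ) (W : Subgroup C)
    (hker : ∀ x : C, Φ x = 1 ↔ x ∈ W)
    (hodd : Odd (Nat.card W)) {h : ℕ} (hN : N = 2 * h) (y : C) (l : ℕ)
    (hy : Φ y = r (l : ZMod N)) (hl : (l : ZMod N) ≠ 0)
    (hcop : (orderOf y).Coprime (Nat.card W)) :
    (Nat.card W : ℂ) * ∑ c ∈ centW W y, pairCount (y * c)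
      = ((centW W y).card : ℂ)
        * ((if Even l then h * ((inv2 Φ (sr 0)).card ^ 2 + (inv2 Φ (sr 1)).card ^ 2)
          else N * ((inv2 Φ (sr 0)).card * (inv2 Φ (sr 1)).card) : ℕ) : ℂ) := by
  classical
  have hW : W = Φ.ker := by
    ext x
    rw [MonoidHom.mem_ker, hker]
  haveI : W.Normal := by
    rw [hW]
    infer_instance
  have hodd' : Odd (Nat.card Φ.ker) := by
    rw [← hW]
    exact hodd
  have h1 := coset_avg W y hcop pairCount (fun d _ g => pairCount_conj d g)
  rw [sum_pairCount_coset Φ W hker y, hy, card_pairs Φ hsurj hodd' hN l hl] at h1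
  unfold centW
  rw [← h1]
  congr 2
  rw [Nat.card_eq_fintype_card, Fintype.card_subtype]

end Cfsg.Agent.Lib.helper3.DihOrd
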