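import Mathlib
import Cfsg.Agent.S0514
import Cfsg.Agent.Lib.helper3.DihOrd4

/-!
# Brauer's order formula for dihedral Sylow `2`-subgroups: the group theory
-/

set_option autoImplicit false
set_option linter.style.haveILetI false
set_option linter.unusedSectionVars false
set_option linter.unusedVariables false

namespace Cfsg.Agent.Lib.helper3.DihOrd

open DihedralGroup Cfsg.Agent.H1

universe u

variable {G : Type u} [Group G] [Finite G]

/-- Every involution is conjugate into a given Sylow `2`-subgroup. -/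
theorem exists_conj_mem_sylow (P : Sylow 2 G) (u : G) (hu : orderOf u = 2) :
    ∃ g : G, g * u * g⁻¹ ∈ (P : Subgroup G) := by
  haveI : Fact (Nat.Prime 2) := ⟨Nat.prime_two⟩
  have hp : IsPGroup 2 (Subgroup.zpowers u) :=
    IsPGroup.of_card (n := 1) (by rw [Nat.card_zpowers, hu, pow_one])
  obtain ⟨Q, hQ⟩ := hp.exists_le_sylow
  obtain ⟨g, hg⟩ := MulAction.exists_smul_eq G Q P
  refine ⟨g, ?_⟩
  rw [← hg, Sylow.coe_subgroup_smul]
  have h1 : u ∈ (Q : Subgroup G) := hQ (Subgroup.mem_zpowers u)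
  have h2 := Subgroup.smul_mem_pointwise_smul u (MulAut.conj g) (Q : Subgroup G) h1
  rw [MulAut.smul_def, MulAut.conj_apply] at h2
  exact h2

section setup

variable (n : ℕ) (hn : 3 ≤ n) (P : Sylow 2 G) (σ τ : G)
  (hσo : orderOf σ = 2 ^ (n - 1)) (hτo : orderOf τ = 2) (hrel : τ * σ * τ⁻¹ = σ⁻¹)
  (hgen : Subgroup.closure ({σ, τ} : Set G) = (P : Subgroup G))

include hn in
theorem two_pow_facts : 2 ^ (n - 1) = 2 * 2 ^ (n - 2) ∧ 3 ≤ 2 ^ (n - 1) ∧ 2 ≤ 2 ^ (n - 2)
    ∧ Even (2 ^ (n - 2)) := by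
  obtain ⟨m, rfl⟩ : ∃ m, n = m + 3 := ⟨n - 3, by omega⟩
  have e1 : m + 3 - 1 = m + 2 := by omega
  have e2 : m + 3 - 2 = m + 1 := by omega
  rw [e1, e2]
  have h1 : 1 ≤ 2 ^ m := Nat.one_le_two_pow
  refine ⟨by ring, ?_, ?_, ?_⟩
  · rw [pow_succ, pow_succ]; omega
  · rw [pow_succ]; omega
  · exact ⟨2 ^ m, by ring⟩

include hn hσo in
theorem orderOf_J : orderOf (σ ^ (2 ^ (n - 2))) = 2 := by
  obtain ⟨hN, hN3, hh2, -⟩ := two_pow_facts n hn
  haveI : Fact (Nat.Prime 2) := ⟨Nat.prime_two⟩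
  apply orderOf_eq_prime
  · rw [← pow_mul, mul_comm, ← hN, ← hσo]
    exact pow_orderOf_eq_one σ
  · intro h
    have := orderOf_dvd_of_pow_eq_one h
    rw [hσo, hN] at this
    have h2 := Nat.le_of_dvd (by omega) this
    omega

include hn hσo hτo hrel in
/-- The homomorphism from the dihedral group onto `P`. -/
theorem exists_dihedral_param :
    ∃ f : DihedralGroup (2 ^ (n - 1)) →* G, Function.Injective f ∧ f (r 1) = σ ∧ f (sr 0) = τ
      ∧ f.range = Subgroup.closure ({σ, τ} : Set G) := by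
  obtain ⟨hN, hN3, hh2, -⟩ := two_pow_facts n hn
  have hττ : τ * τ = 1 := mul_self_of_orderOf_two hτo
  have hσN : σ ^ (2 ^ (n - 1)) = 1 := by rw [← hσo]; exact pow_orderOf_eq_one σ
  refine ⟨dihedralHom σ (2 ^ (n - 1)) hσN τ hττ hrel,
    dihedralHom_injective (2 ^ (n - 1)) hN3 σ τ hσo hττ hrel, ?_, ?_, ?_⟩
  · rw [dihedralHom_r, zmodPow_one]
  · rw [dihedralHom_sr, zmodPow_zero, mul_one]
  · have hσm : σ ∈ Subgroup.closure ({σ, τ} : Set G) := Subgroup.subset_closure (by simp)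
    have hτm : τ ∈ Subgroup.closure ({σ, τ} : Set G) := Subgroup.subset_closure (by simp)
    apply le_antisymm
    · rintro _ ⟨(i | i), rfl⟩
      · obtain ⟨k, -, hk⟩ := zmodPow_exists_zpow σ (2 ^ (n - 1)) hσN i
        rw [dihedralHom_r, hk]
        exact Subgroup.zpow_mem _ hσm k
      · obtain ⟨k, -, hk⟩ := zmodPow_exists_zpow σ (2 ^ (n - 1)) hσN i
        rw [dihedralHom_sr, hk]
        exact Subgroup.mul_mem _ hτm (Subgroup.zpow_mem _ hσm k)
    · rw [Subgroup.closure_le]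
      rintro z (rfl | hz)
      · exact ⟨r 1, by rw [dihedralHom_r, zmodPow_one]⟩
      · rw [Set.mem_singleton_iff] at hz
        subst hz
        exact ⟨sr 0, by rw [dihedralHom_sr, zmodPow_zero, mul_one]⟩

include hn hσo hτo hrel hgen in
theorem nonempty_iso : Nonempty (↥(P : Subgroup G) ≃* DihedralGroup (2 ^ (n - 1))) := by
  obtain ⟨f, hinj, -, -, hrange⟩ := exists_dihedral_param n hn σ τ hσo hτo hrel
  rw [hgen] at hrange
  exact ⟨((MonoidHom.ofInjective hinj).trans (MulEquiv.subgroupCongr hrange)).symm⟩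

include hn hσo hτo hrel hgen in
theorem card_P : Nat.card (P : Subgroup G) = 2 * 2 ^ (n - 1) := by
  obtain ⟨e⟩ := nonempty_iso n hn P σ τ hσo hτo hrel hgen
  rw [Nat.card_congr e.toEquiv, DihedralGroup.nat_card]

include hn hσo hτo hrel hgen in
/-- All involutions are conjugate to the central involution of `P`, if those of `P` are. -/
theorem all_involutions_conj
    (hconj : IsConj (σ ^ (2 ^ (n - 2))) τ ∧ IsConj (σ ^ (2 ^ (n - 2))) (σ * τ)) (u : G)
    (hu : orderOf u = 2) : IsConj (σ ^ (2 ^ (n - 2))) u := by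
  obtain ⟨hN, hN3, hh2, -⟩ := two_pow_facts n hn
  haveI : NeZero (2 ^ (n - 1)) := ⟨by omega⟩
  obtain ⟨f, hinj, hfσ, hfτ, hrange⟩ := exists_dihedral_param n hn σ τ hσo hτo hrel
  rw [hgen] at hrange
  obtain ⟨g, hg⟩ := exists_conj_mem_sylow P u hu
  have hcu : IsConj u (g * u * g⁻¹) := isConj_iff.mpr ⟨g, rfl⟩
  rw [← hrange] at hg
  obtain ⟨d, hd⟩ := hg
  have hdo : orderOf d = 2 := by
    rw [← orderOf_injective f hinj, hd, orderOf_conj', hu]
  have hfr : ∀ k : ℕ, f (r (k : ZMod (2 ^ (n - 1)))) = σ ^ k := by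
    intro k
    rw [← r_one_pow, map_pow, hfσ]
  suffices h : IsConj (σ ^ (2 ^ (n - 2))) (f d) by
    rw [hd] at h
    exact h.trans hcu.symm
  rcases d with i | i
  · -- a rotation of order two
    have h1 : (r i : DihedralGroup (2 ^ (n - 1))) * r i = 1 := mul_self_of_orderOf_two hdo
    rw [r_mul_r, one_def] at h1
    have h2 : i + i = 0 := by injection h1
    rcases eq_of_add_self hN i h2 with h3 | h3
    · exfalso
      rw [h3, r_zero, orderOf_one] at hdo
      omega
    · rw [h3, hfr]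
  · -- a reflection
    have hsr : ∀ i j : ZMod (2 ^ (n - 1)), IsConj (f (sr (i + j + j))) (f (sr i)) := by
      intro i j
      rw [isConj_iff]
      refine ⟨f (r j), ?_⟩
      rw [← map_inv, ← map_mul, ← map_mul, inv_r, r_mul_sr, sr_mul_r]
      congr 2
      ring
    have hστ : f (sr (-1)) = σ * τ := by
      have h1 : (sr (-1) : DihedralGroup (2 ^ (n - 1))) = r 1 * sr 0 := by
        rw [r_mul_sr]; congr 1; ring
      rw [h1, map_mul, hfσ, hfτ]
    rcases Nat.even_or_odd' i.val with ⟨m, hm | hm⟩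
    · have h1 : i = 0 + (m : ZMod (2 ^ (n - 1))) + (m : ZMod (2 ^ (n - 1))) := by
        rw [← ZMod.natCast_zmod_val i, hm]
        push_cast
        ring
      rw [h1]
      have := hsr 0 (m : ZMod (2 ^ (n - 1)))
      rw [hfτ] at this
      exact hconj.1.trans this.symm
    · have h1 : i = -1 + ((m : ZMod (2 ^ (n - 1))) + 1) + ((m : ZMod (2 ^ (n - 1))) + 1) := by
        rw [← ZMod.natCast_zmod_val i, hm]
        push_cast
        ring
      rw [h1]
      have := hsr (-1) ((m : ZMod (2 ^ (n - 1))) + 1)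
      rw [hστ] at this
      exact hconj.2.trans this.symm

include hn hσo hτo hrel hgen in
/-- `P` centralizes its central involution. -/
theorem P_le_centralizer :
    (P : Subgroup G) ≤ Subgroup.centralizer ({σ ^ (2 ^ (n - 2))} : Set G) := by
  have hJ := orderOf_J n hn σ hσo
  have hJJ := mul_self_of_orderOf_two hJ
  have hJinv : (σ ^ (2 ^ (n - 2)))⁻¹ = σ ^ (2 ^ (n - 2)) := inv_eq_of_mul_eq_one_left hJJ
  rw [← hgen, Subgroup.closure_le]
  rintro z (rfl | hz)
  · rw [SetLike.mem_coe, Subgroup.mem_centralizer_singleton_iff]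
    exact (pow_mul_comm' z _).symm
  · rw [Set.mem_singleton_iff] at hz
    subst hz
    rw [SetLike.mem_coe, Subgroup.mem_centralizer_singleton_iff]
    have h1 : z * σ ^ (2 ^ (n - 2)) * z⁻¹ = σ ^ (2 ^ (n - 2)) := by
      rw [← conj_pow, hrel, inv_pow, hJinv]
    calc z * σ ^ (2 ^ (n - 2)) = z * σ ^ (2 ^ (n - 2)) * z⁻¹ * z := by group
      _ = σ ^ (2 ^ (n - 2)) * z := by rw [h1]

include hn hσo hτo hrel hgen in
/-- The normal `2`-complement of the centralizer of the central involution and the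
homomorphism onto the dihedral group. -/
theorem exists_complement_hom (hσ : σ ∈ (P : Subgroup G)) (hτ : τ ∈ (P : Subgroup G)) :
    ∃ (W : Subgroup ↥(Subgroup.centralizer ({σ ^ (2 ^ (n - 2))} : Set G)))
      (Φ : ↥(Subgroup.centralizer ({σ ^ (2 ^ (n - 2))} : Set G)) →* DihedralGroup (2 ^ (n - 1))),
      W.Normal ∧ Odd (Nat.card W) ∧ W.index = 2 ^ n ∧ Function.Surjective Φ
      ∧ (∀ x, Φ x = 1 ↔ x ∈ W)
      ∧ Φ ⟨σ, P_le_centralizer n hn P σ τ hσo hτo hrel hgen hσ⟩ = r 1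
      ∧ Φ ⟨τ, P_le_centralizer n hn P σ τ hσo hτo hrel hgen hτ⟩ = sr 0 := by
  obtain ⟨hN, hN3, hh2, -⟩ := two_pow_facts n hn
  haveI : Fact (Nat.Prime 2) := ⟨Nat.prime_two⟩
  have hJ := orderOf_J n hn σ hσo
  have hPle := P_le_centralizer n hn P σ τ hσo hτo hrel hgen
  obtain ⟨W, hWn, hWodd, k, hk⟩ := Cfsg.Agent.S0514.result P (2 ^ (n - 1)) (by omega)
    (nonempty_iso n hn P σ τ hσo hτo hrel hgen) (σ ^ (2 ^ (n - 2))) hJ
  haveI := hWn
  have hcardP := card_P n hn P σ τ hσo hτo hrel hgen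
  have hPn : Nat.card (P : Subgroup G) = 2 ^ n := by
    rw [hcardP, ← pow_succ']
    congr 1
    omega
  -- the index of `W`
  have hidx : W.index = 2 ^ n := by
    have hcardC : W.index * Nat.card W
        = Nat.card ↥(Subgroup.centralizer ({σ ^ (2 ^ (n - 2))} : Set G)) :=
      Subgroup.index_mul_card W
    have h1 : 2 ^ n ∣ Nat.card ↥(Subgroup.centralizer ({σ ^ (2 ^ (n - 2))} : Set G)) := by
      rw [← hPn]
      exact Subgroup.card_dvd_of_le hPle
    have hcopW : Nat.Coprime (2 ^ n) (Nat.card W) := by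
      apply Nat.Coprime.pow_left
      rw [Nat.coprime_two_left]
      exact hWodd
    have h2 : 2 ^ n ∣ W.index := by
      rw [← hcardC] at h1
      exact hcopW.dvd_of_dvd_mul_right h1
    have h3 : W.index ∣ Nat.card G := by
      have : W.index ∣ Nat.card ↥(Subgroup.centralizer ({σ ^ (2 ^ (n - 2))} : Set G)) :=
        Dvd.intro _ hcardC
      exact this.trans (Subgroup.card_subgroup_dvd_card _)
    have h4 : Nat.card G = (P : Subgroup G).index * 2 ^ n := by
      rw [← hPn]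
      exact ((P : Subgroup G).index_mul_card).symm
    have h5 : ¬ 2 ∣ (P : Subgroup G).index := P.not_dvd_index
    have hcopI : Nat.Coprime (2 ^ k) (P : Subgroup G).index := by
      apply Nat.Coprime.pow_left
      exact (Nat.Prime.coprime_iff_not_dvd Nat.prime_two).mpr h5
    have h6 : 2 ^ k ∣ 2 ^ n := by
      rw [hk, h4] at h3
      exact hcopI.dvd_of_dvd_mul_left h3
    rw [hk] at h2 ⊢
    exact Nat.dvd_antisymm h6 h2
  have hidx' : W.index = 2 * 2 ^ (n - 1) := by
    rw [hidx, ← pow_succ']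
    congr 1
    omega
  obtain ⟨Φ, hsurj, hker, hΦσ, hΦτ⟩ := exists_hom W hWodd (2 ^ (n - 1)) hN3 ⟨n - 1, rfl⟩ hidx'
    (⟨σ, hPle hσ⟩ : ↥(Subgroup.centralizer ({σ ^ (2 ^ (n - 2))} : Set G)))
    ⟨τ, hPle hτ⟩ (by rw [Subgroup.orderOf_mk]; exact hσo)
    (by
      apply Subtype.ext
      exact mul_self_of_orderOf_two hτo)
    (by
      apply Subtype.ext
      push_cast
      exact hrel)
  exact ⟨W, Φ, hWn, hWodd, hidx, hsurj, hker, hΦσ, hΦτ⟩

end setup

end Cfsg.Agent.Lib.helper3.DihOrd
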