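import Mathlib
import Cfsg.Prelude.Def_Blocks
import Cfsg.Agent.Lib.helper3.KleinOrd2
import Cfsg.Agent.Lib.helper3.DihOrd4

/-!
# Brauer's order formula for dihedral Sylow `2`-subgroups: the principal block part of the class
multiplication coefficients
-/

set_option autoImplicit false
set_option linter.style.haveILetI false
set_option linter.unusedSectionVars false
set_option linter.unusedVariables false

namespace Cfsg.Agent.Lib.helper3.DihOrd

open Cfsg Module Cfsg.Agent.Lib.helper3.CharBasic Cfsg.Agent.Lib.helper3.Irr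
open Cfsg.Agent.Lib.helper3.Central Cfsg.Agent.Lib.helper3.IndFun
open Cfsg.Agent.Lib.helper3.Block
open scoped ComplexConjugate

universe u

variable {G : Type u} [Group G] [Fintype G] {M : Ideal AlgInt}

open Classical in
/-- The pairs of involutions of `G` with product `y c` (`c` of odd order commuting with the
`2`-element `y`) lie in the centralizer of the involution `J` of `⟨y⟩`. -/
theorem mulCount_eq_pairCount (J : G) (hJ : orderOf J = 2)
    (hone : ∀ u : G, orderOf u = 2 → IsConj J u)
    [Fintype ↥(Subgroup.centralizer ({J} : Set G))] (y : G) (j : ℕ) (hJy : J = y ^ j) (o : ℕ)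
    (hyo : (orderOf y).Coprime o) (g : ↥(Subgroup.centralizer ({J} : Set G))) (c : G)
    (hg : (g : G) = y * c) (hyc : Commute y c) (hco : c ^ o = 1) :
    mulCount J J (g : G) = pairCount g := by
  have hJJ : J * J = 1 := mul_self_of_orderOf_two hJ
  unfold mulCount pairCount
  rw [Nat.card_eq_fintype_card, Fintype.card_subtype]
  congr 1
  symm
  apply Finset.card_bij (fun q _ => ((q.1 : G), (q.2 : G)))
  · rintro ⟨a, b⟩ hq
    obtain ⟨ha, hb, hab⟩ := (mem_pairSet_iff g (a, b)).mp hq
    simp only at ha hb hab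
    refine Finset.mem_filter.mpr ⟨Finset.mem_univ _,
      hone a (by rw [Subgroup.orderOf_coe]; exact ha),
      hone b (by rw [Subgroup.orderOf_coe]; exact hb), ?_⟩
    have h2 := congrArg Subtype.val hab
    rw [Subgroup.coe_mul] at h2
    exact h2
  · rintro ⟨a, b⟩ _ ⟨a', b'⟩ _ heq
    simp only [Prod.mk.injEq] at heq
    exact Prod.ext (Subtype.ext heq.1) (Subtype.ext heq.2)
  · rintro ⟨a, b⟩ hp
    obtain ⟨-, ha, hb, hab⟩ := Finset.mem_filter.mp hp
    simp only at ha hb hab
    have hao : orderOf a = 2 := by rw [orderOf_of_isConj ha, hJ]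
    have hbo : orderOf b = 2 := by rw [orderOf_of_isConj hb, hJ]
    have haa : a * a = 1 := mul_self_of_orderOf_two hao
    have hbb : b * b = 1 := mul_self_of_orderOf_two hbo
    rw [hg] at hab
    obtain ⟨h1, h2⟩ := inverts_of_mul_eq y c a b haa hbb hyc o hco hyo hab
    have hJ' : y ^ j * y ^ j = 1 := by rw [← hJy]; exact hJJ
    have h3 := commute_of_inverts y a h1 j hJ'
    have h4 := commute_of_inverts y b h2 j hJ'
    rw [← hJy] at h3 h4
    have haC : a ∈ Subgroup.centralizer ({J} : Set G) :=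
      Subgroup.mem_centralizer_singleton_iff.mpr h3
    have hbC : b ∈ Subgroup.centralizer ({J} : Set G) :=
      Subgroup.mem_centralizer_singleton_iff.mpr h4
    refine ⟨(⟨a, haC⟩, ⟨b, hbC⟩), ?_, rfl⟩
    refine (mem_pairSet_iff g _).mpr ⟨?_, ?_, ?_⟩
    · show orderOf (⟨a, haC⟩ : ↥(Subgroup.centralizer ({J} : Set G))) = 2
      rw [← Subgroup.orderOf_coe]
      exact hao
    · show orderOf (⟨b, hbC⟩ : ↥(Subgroup.centralizer ({J} : Set G))) = 2
      rw [← Subgroup.orderOf_coe]
      exact hbo
    · apply Subtype.ext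
      rw [Subgroup.coe_mul, hg]
      exact hab

open Classical in
/-- The principal block part of the class multiplication coefficient of the involutions at the
`2`-element `y`, as an averaged count in the centralizer of the involution of `⟨y⟩`. -/
theorem principal_part_pairs (hM : IsPModular 2 M) (J : G) (hJ : orderOf J = 2)
    (hone : ∀ u : G, orderOf u = 2 → IsConj J u)
    [Fintype ↥(Subgroup.centralizer ({J} : Set G))]
    (W : Subgroup ↥(Subgroup.centralizer ({J} : Set G))) [hWn : W.Normal]
    (hWodd : Odd (Nat.card W)) (m : ℕ) (hidx : W.index = 2 ^ m)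
    (y : G) (k : ℕ) (hyo : orderOf y = 2 ^ k) (j : ℕ) (hJy : J = y ^ j)
    (hyJ : y ∈ Subgroup.centralizer ({J} : Set G)) :
    ∑ χ : IrrCharacter G, (if χ ∈ principalBlock M G then (1 : ℂ) else 0)
        * (classInner (fun c => mulCount J J c) (χ : G → ℂ) * (χ : G → ℂ) y)
      = ((centW W ⟨y, hyJ⟩).card : ℂ)⁻¹
        * ∑ c ∈ centW W ⟨y, hyJ⟩, pairCount (⟨y, hyJ⟩ * c) := by
  haveI hp : Fact (Nat.Prime 2) := ⟨Nat.prime_two⟩
  haveI : Fintype ↥(Subgroup.centralizer ({y} : Set G)) := Fintype.ofFinite _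
  have hle : Subgroup.centralizer ({y} : Set G) ≤ Subgroup.centralizer ({J} : Set G) := by
    intro g hg
    rw [Subgroup.mem_centralizer_singleton_iff] at hg ⊢
    rw [hJy]
    have hc : Commute g y := hg
    exact (hc.pow_right j)
  obtain ⟨ι, hι⟩ : ∃ ι : ↥(Subgroup.centralizer ({y} : Set G)) →*
      ↥(Subgroup.centralizer ({J} : Set G)), ι = Subgroup.inclusion hle := ⟨_, rfl⟩
  have hιcoe : ∀ x : ↥(Subgroup.centralizer ({y} : Set G)), ((ι x : ↥(Subgroup.centralizer
      ({J} : Set G))) : G) = (x : G) := by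
    intro x
    rw [hι]
    rfl
  have hιinj : Function.Injective ι := by
    rw [hι]
    exact Subgroup.inclusion_injective hle
  obtain ⟨K, hK⟩ : ∃ K : Subgroup ↥(Subgroup.centralizer ({y} : Set G)), K = W.comap ι :=
    ⟨_, rfl⟩
  haveI hKn : K.Normal := by
    rw [hK]
    infer_instance
  haveI : Fintype K := Fintype.ofFinite _
  have hKmem : ∀ x : ↥(Subgroup.centralizer ({y} : Set G)), x ∈ K ↔ ι x ∈ W := by
    intro x
    rw [hK, Subgroup.mem_comap]
  have hKdvd : Nat.card K ∣ Nat.card W := by
    have hinj : Function.Injective ((ι.comp K.subtype).codRestrict W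
        (fun x => (hKmem x.1).mp x.2)) := by
      intro a b hab
      have h1 : ι a.1 = ι b.1 := congrArg Subtype.val hab
      exact Subtype.ext (hιinj h1)
    exact Subgroup.card_dvd_of_injective _ hinj
  have hKodd : Odd (Nat.card K) := Odd.of_dvd_nat hWodd hKdvd
  have hKp : (Nat.card K).Coprime 2 := by
    rw [Nat.coprime_two_right]
    exact hKodd
  obtain ⟨j', hj'⟩ : ∃ j' : ℕ, K.index = 2 ^ j' := by
    have h1 : K.index ∣ W.index := by
      rw [hK, Subgroup.index_comap]
      exact Subgroup.relIndex_dvd_index_of_normal W ι.range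
    rw [hidx] at h1
    obtain ⟨j', -, h2⟩ := (Nat.dvd_prime_pow Nat.prime_two).mp h1
    exact ⟨j', h2⟩
  rw [principal_part_eq_avg hM y k hyo K hKp j' hj' (fun c => mulCount J J c)
    (mulCount_isClassFunction J J)]
  obtain ⟨y', hy'⟩ : ∃ y' : ↥(Subgroup.centralizer ({J} : Set G)), y' = ⟨y, hyJ⟩ := ⟨_, rfl⟩
  rw [← hy']
  have hy'coe : (y' : G) = y := by rw [hy']
  obtain ⟨Zs, hZs⟩ : ∃ Zs : Finset ↥(Subgroup.centralizer ({J} : Set G)),
      Zs = centW W y' := ⟨_, rfl⟩
  rw [← hZs]
  -- reindexing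
  have hre : ∀ F' : ↥(Subgroup.centralizer ({J} : Set G)) → ℂ,
      ∑ h : K, F' (ι (h : ↥(Subgroup.centralizer ({y} : Set G)))) = ∑ c ∈ Zs, F' c := by
    intro F'
    apply Finset.sum_bij (fun (h : K) _ => ι (h : ↥(Subgroup.centralizer ({y} : Set G))))
    · intro h _
      rw [hZs, mem_centW]
      refine ⟨(hKmem h.1).mp h.2, ?_⟩
      apply Subtype.ext
      rw [Subgroup.coe_mul, Subgroup.coe_mul, hιcoe, hy'coe]
      exact Subgroup.mem_centralizer_singleton_iff.mp h.1.2
    · intro a _ b _ hab
      exact Subtype.ext (hιinj hab)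
    · intro c hc
      rw [hZs, mem_centW] at hc
      obtain ⟨hcW, hcy⟩ := hc
      have h1 : (c : G) ∈ Subgroup.centralizer ({y} : Set G) := by
        rw [Subgroup.mem_centralizer_singleton_iff]
        have := congrArg Subtype.val hcy
        rw [Subgroup.coe_mul, Subgroup.coe_mul, hy'coe] at this
        exact this
      have h2 : ι ⟨(c : G), h1⟩ = c := by
        apply Subtype.ext
        rw [hιcoe]
      refine ⟨⟨⟨(c : G), h1⟩, (hKmem _).mpr (by rw [h2]; exact hcW)⟩, Finset.mem_univ _, h2⟩
    · intro h _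
      rfl
  have hcard : (Nat.card K : ℂ) = (Zs.card : ℂ) := by
    have := hre (fun _ => 1)
    rw [Finset.sum_const, Finset.sum_const, Finset.card_univ, nsmul_eq_mul, nsmul_eq_mul, mul_one,
      mul_one] at this
    rw [Nat.card_eq_fintype_card]
    exact this
  rw [hcard, ← hre (fun c => pairCount (y' * c))]
  congr 1
  apply Finset.sum_congr rfl
  intro h _
  have hcop : (orderOf y).Coprime (Nat.card W) := by
    rw [hyo]
    apply Nat.Coprime.pow_left
    rw [Nat.coprime_two_left]
    exact hWodd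
  have hpow : ((h : ↥(Subgroup.centralizer ({y} : Set G))) : G) ^ (Nat.card W) = 1 := by
    have h1 := pow_card_eq_one' (G := W) (x := ⟨ι h.1, (hKmem h.1).mp h.2⟩)
    have h2 := congrArg Subtype.val h1
    rw [Subgroup.coe_pow] at h2
    have h3 := congrArg Subtype.val h2
    rw [Subgroup.coe_pow] at h3
    simp only [OneMemClass.coe_one] at h3
    rw [hιcoe] at h3
    exact h3
  have hcomm : Commute y ((h : ↥(Subgroup.centralizer ({y} : Set G))) : G) :=
    (Subgroup.mem_centralizer_singleton_iff.mp h.1.2).symm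
  have hg : ((y' * ι (h : ↥(Subgroup.centralizer ({y} : Set G))) :
      ↥(Subgroup.centralizer ({J} : Set G))) : G)
      = y * ((h : ↥(Subgroup.centralizer ({y} : Set G))) : G) := by
    rw [Subgroup.coe_mul, hιcoe, hy'coe]
  rw [← mulCount_eq_pairCount J hJ hone y j hJy (Nat.card W) hcop _ _ hg hcomm hpow, hg]

end Cfsg.Agent.Lib.helper3.DihOrd
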