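import Mathlib
import Cfsg.Prelude.Def_Blocks
import Cfsg.Agent.Lib.helper3.KleinOrd4
import Cfsg.Agent.Lib.helper3.DihOrd5
import Cfsg.Agent.Lib.helper3.DihOrd6

/-!
# Brauer's order formula for dihedral Sylow `2`-subgroups: the block sums at `σ` and `σ²`
-/

set_option autoImplicit false
set_option linter.style.haveILetI false
set_option linter.unusedSectionVars false
set_option linter.unusedVariables false

namespace Cfsg.Agent.Lib.helper3.DihOrd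

open Cfsg Module Cfsg.Agent.Lib.helper3.CharBasic Cfsg.Agent.Lib.helper3.Irr
open Cfsg.Agent.Lib.helper3.Central Cfsg.Agent.Lib.helper3.IndFun
open Cfsg.Agent.Lib.helper3.Block DihedralGroup
open scoped ComplexConjugate

universe u

variable {G : Type u} [Group G] [Fintype G] {M : Ideal AlgInt}

/-- The joint centralizer of `J` and `t` is the centralizer of `t` in the centralizer of `J`. -/
theorem card_centralizer_pair (J t : G) (ht : t ∈ Subgroup.centralizer ({J} : Set G)) :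
    Nat.card (Subgroup.centralizer ({J, t} : Set G))
      = Nat.card (Subgroup.centralizer
          ({(⟨t, ht⟩ : ↥(Subgroup.centralizer ({J} : Set G)))} : Set _)) := by
  have hmap : (Subgroup.centralizer
      ({(⟨t, ht⟩ : ↥(Subgroup.centralizer ({J} : Set G)))} : Set _)).map
        (Subgroup.centralizer ({J} : Set G)).subtype = Subgroup.centralizer ({J, t} : Set G) := by
    ext g
    rw [Subgroup.mem_map, Subgroup.mem_centralizer_iff]
    constructor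
    · rintro ⟨c, hc, rfl⟩
      intro x hx
      rcases hx with rfl | hx
      · exact (Subgroup.mem_centralizer_singleton_iff.mp c.2).symm
      · rw [Set.mem_singleton_iff] at hx
        subst hx
        have := Subgroup.mem_centralizer_singleton_iff.mp hc
        have h2 := congrArg Subtype.val this
        rw [Subgroup.coe_mul, Subgroup.coe_mul] at h2
        exact h2.symm
    · intro h
      have hgJ : g ∈ Subgroup.centralizer ({J} : Set G) := by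
        rw [Subgroup.mem_centralizer_singleton_iff]
        exact (h J (by simp)).symm
      refine ⟨⟨g, hgJ⟩, ?_, rfl⟩
      rw [Subgroup.mem_centralizer_singleton_iff]
      apply Subtype.ext
      rw [Subgroup.coe_mul, Subgroup.coe_mul]
      exact (h t (by simp)).symm
  rw [← hmap, Subgroup.card_subtype]

/-- The class multiplication inner product for a real class. -/
theorem classInner_mulCount_real (J : G) (hJJ : J * J = 1) (χ : IrrCharacter G) :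
    classInner (fun c => mulCount J J c) (χ : G → ℂ)
      = (Nat.card G : ℂ)⁻¹ * (((cls J).card : ℂ) * ((cls J).card : ℂ) * (χ : G → ℂ) J
          * (χ : G → ℂ) J / (χ : G → ℂ) 1) := by
  rw [classInner_mulCount J J χ.2]
  have hJinv : J⁻¹ = J := inv_eq_of_mul_eq_one_left hJJ
  have h1 : conj ((χ : G → ℂ) J) = (χ : G → ℂ) J := by
    rw [← isCharacter_apply_inv (isCharacter_of_isIrrCharacter χ.2) J, hJinv]
  have h2 : conj ((χ : G → ℂ) 1) = (χ : G → ℂ) 1 := by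
    rw [apply_one_eq_charDegree, Complex.conj_natCast]
  rw [map_div₀, map_mul, map_mul, map_mul, Complex.conj_natCast, h1, h2]

open Classical in
/-- The sums `Θ(σ)` and `Θ(σ²)` over the principal block. -/
theorem theta_formula (hM : IsPModular 2 M) (n : ℕ) (hn : 3 ≤ n) (P : Sylow 2 G) (σ τ : G)
    (hσ : σ ∈ (P : Subgroup G)) (hτ : τ ∈ (P : Subgroup G)) (hσo : orderOf σ = 2 ^ (n - 1))
    (hτo : orderOf τ = 2) (hrel : τ * σ * τ⁻¹ = σ⁻¹)
    (hgen : Subgroup.closure ({σ, τ} : Set G) = (P : Subgroup G))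
    (hconj : IsConj (σ ^ (2 ^ (n - 2))) τ ∧ IsConj (σ ^ (2 ^ (n - 2))) (σ * τ))
    (l : ℕ) (hl : l = 1 ∨ l = 2) :
    ∑ χ : IrrCharacter G, (if χ ∈ principalBlock M G then (1 : ℂ) else 0)
        * ((χ : G → ℂ) (σ ^ (2 ^ (n - 2))) ^ 2 * (χ : G → ℂ) (σ ^ l) / (χ : G → ℂ) 1)
      = (if l = 2 then
          4 * (Nat.card (Subgroup.centralizer ({σ ^ (2 ^ (n - 2))} : Set G)) : ℂ) ^ 3
            * (((Nat.card (Subgroup.centralizer ({σ ^ (2 ^ (n - 2)), τ} : Set G)) : ℂ)⁻¹) ^ 2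
              + ((Nat.card (Subgroup.centralizer ({σ ^ (2 ^ (n - 2)), σ * τ} : Set G))
                : ℂ)⁻¹) ^ 2)
        else
          8 * (Nat.card (Subgroup.centralizer ({σ ^ (2 ^ (n - 2))} : Set G)) : ℂ) ^ 3
            * ((Nat.card (Subgroup.centralizer ({σ ^ (2 ^ (n - 2)), τ} : Set G)) : ℂ)⁻¹
              * (Nat.card (Subgroup.centralizer ({σ ^ (2 ^ (n - 2)), σ * τ} : Set G)) : ℂ)⁻¹))
        / (Nat.card G : ℂ) := by
  haveI hp : Fact (Nat.Prime 2) := ⟨Nat.prime_two⟩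
  obtain ⟨hN, hN3, hh2, hheven⟩ := two_pow_facts n hn
  haveI : NeZero (2 ^ (n - 1)) := ⟨by omega⟩
  have hJ : orderOf (σ ^ (2 ^ (n - 2))) = 2 := orderOf_J n hn σ hσo
  have hJJ := mul_self_of_orderOf_two hJ
  have hone := all_involutions_conj n hn P σ τ hσo hτo hrel hgen hconj
  have hPle := P_le_centralizer n hn P σ τ hσo hτo hrel hgen
  haveI : Fintype ↥(Subgroup.centralizer ({σ ^ (2 ^ (n - 2))} : Set G)) := Fintype.ofFinite _
  obtain ⟨W, Φ, hWn, hWodd, hidx, hsurj, hker, hΦσ, hΦτ⟩ :=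
    exists_complement_hom n hn P σ τ hσo hτo hrel hgen hσ hτ
  haveI := hWn
  -- the element `y`
  have hl0 : 0 < l ∧ l < 2 ^ (n - 1) ∧ l ∣ 2 ^ (n - 2) := by
    rcases hl with rfl | rfl
    · exact ⟨by omega, by omega, one_dvd _⟩
    · exact ⟨by omega, by omega, hheven.two_dvd⟩
  obtain ⟨k, hk⟩ : ∃ k : ℕ, orderOf (σ ^ l) = 2 ^ k := by
    have h1 : orderOf (σ ^ l) ∣ 2 ^ (n - 1) := by
      rw [← hσo]
      exact orderOf_pow_dvd l
    obtain ⟨k, -, h2⟩ := (Nat.dvd_prime_pow Nat.prime_two).mp h1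
    exact ⟨k, h2⟩
  have hJy : σ ^ (2 ^ (n - 2)) = (σ ^ l) ^ (2 ^ (n - 2) / l) := by
    rw [← pow_mul, Nat.mul_div_cancel' hl0.2.2]
  have hσJ : σ ∈ Subgroup.centralizer ({σ ^ (2 ^ (n - 2))} : Set G) := hPle hσ
  have hτJ : τ ∈ Subgroup.centralizer ({σ ^ (2 ^ (n - 2))} : Set G) := hPle hτ
  have hyJ : σ ^ l ∈ Subgroup.centralizer ({σ ^ (2 ^ (n - 2))} : Set G) :=
    Subgroup.pow_mem _ hσJ l
  have h1 := principal_part_pairs hM (σ ^ (2 ^ (n - 2))) hJ hone W hWodd n hidx (σ ^ l) k hk _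
    hJy hyJ
  have hΦy : Φ ⟨σ ^ l, hyJ⟩ = r (l : ZMod (2 ^ (n - 1))) := by
    have : (⟨σ ^ l, hyJ⟩ : ↥(Subgroup.centralizer ({σ ^ (2 ^ (n - 2))} : Set G)))
        = ⟨σ, hσJ⟩ ^ l := by
      apply Subtype.ext
      rw [Subgroup.coe_pow]
    rw [this, map_pow, hΦσ, r_one_pow]
  have hl' : (l : ZMod (2 ^ (n - 1))) ≠ 0 := by
    intro h0
    rw [ZMod.natCast_eq_zero_iff] at h0
    have := Nat.le_of_dvd hl0.1 h0
    omega
  have hcop : (orderOf (⟨σ ^ l, hyJ⟩ : ↥(Subgroup.centralizer ({σ ^ (2 ^ (n - 2))} : Set G)))).Coprime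
      (Nat.card W) := by
    rw [Subgroup.orderOf_mk, hk]
    apply Nat.Coprime.pow_left
    rw [Nat.coprime_two_left]
    exact hWodd
  have h2 := avg_pairs Φ hsurj W hker hWodd hN ⟨σ ^ l, hyJ⟩ l hΦy hl' hcop
  -- the numbers of involutions over the reflections
  have hWk : W = Φ.ker := by
    ext x
    rw [MonoidHom.mem_ker, hker]
  have hodd' : Odd (Nat.card Φ.ker) := by
    rw [← hWk]
    exact hWodd
  have h3 := card_inv2_mul_card_centralizer Φ hsurj hodd' hN ⟨τ, hτJ⟩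
    (by rw [Subgroup.orderOf_mk]; exact hτo) 0 hΦτ
  have hστJ : σ * τ ∈ Subgroup.centralizer ({σ ^ (2 ^ (n - 2))} : Set G) :=
    Subgroup.mul_mem _ hσJ hτJ
  have hστo : orderOf (σ * τ) = 2 := by
    have := orderOf_of_isConj hconj.2
    rw [this]
    exact hJ
  have hΦστ : Φ ⟨σ * τ, hστJ⟩ = sr (-1) := by
    have : (⟨σ * τ, hστJ⟩ : ↥(Subgroup.centralizer ({σ ^ (2 ^ (n - 2))} : Set G)))
        = ⟨σ, hσJ⟩ * ⟨τ, hτJ⟩ := rfl
    rw [this, map_mul, hΦσ, hΦτ, r_mul_sr]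
    congr 1
    ring
  have h4 := card_inv2_mul_card_centralizer Φ hsurj hodd' hN ⟨σ * τ, hστJ⟩
    (by rw [Subgroup.orderOf_mk]; exact hστo) (-1) hΦστ
  have h5 : (inv2 Φ (sr (-1))).card = (inv2 Φ (sr 1)).card := by
    have := card_inv2_sr_add Φ hsurj (-1) 1
    rw [← this]
    congr 3
    ring
  rw [h5, ← card_centralizer_pair, ← hWk] at h4
  rw [← card_centralizer_pair, ← hWk] at h3
  -- the class size
  have hclc : (cls (σ ^ (2 ^ (n - 2)))).card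
      * Nat.card (Subgroup.centralizer ({σ ^ (2 ^ (n - 2))} : Set G)) = Nat.card G := by
    have h6 : (cls (σ ^ (2 ^ (n - 2)))).card
        = (Subgroup.centralizer ({σ ^ (2 ^ (n - 2))} : Set G)).index := by
      rw [← card_class_eq_index (σ ^ (2 ^ (n - 2)))]
      unfold cls
      congr!
    rw [h6]
    exact Subgroup.index_mul_card _
  have hWc : 2 ^ n * Nat.card W
      = Nat.card (Subgroup.centralizer ({σ ^ (2 ^ (n - 2))} : Set G)) := by
    rw [← hidx]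
    exact Subgroup.index_mul_card W
  have hn2 : 2 ^ n = 2 * 2 ^ (n - 1) := by
    rw [← pow_succ']
    congr 1
    omega
  -- names
  obtain ⟨Zc, hZc⟩ : ∃ Zc : ℕ, Zc = (centW W ⟨σ ^ l, hyJ⟩).card := ⟨_, rfl⟩
  have hZc0 : Zc ≠ 0 := by
    rw [hZc]
    apply Finset.card_ne_zero.mpr
    refine ⟨1, ?_⟩
    rw [mem_centW]
    exact ⟨W.one_mem, by rw [one_mul, mul_one]⟩
  obtain ⟨S, hS⟩ : ∃ S : ℂ, S = ∑ c ∈ centW W ⟨σ ^ l, hyJ⟩, pairCount (⟨σ ^ l, hyJ⟩ * c) :=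
    ⟨_, rfl⟩
  rw [← hZc, ← hS] at h1 h2
  obtain ⟨m0, hm0⟩ : ∃ m0 : ℕ, m0 = (inv2 Φ (sr 0)).card := ⟨_, rfl⟩
  obtain ⟨m1, hm1⟩ : ∃ m1 : ℕ, m1 = (inv2 Φ (sr 1)).card := ⟨_, rfl⟩
  obtain ⟨w, hw⟩ : ∃ w : ℕ, w = Nat.card W := ⟨_, rfl⟩
  obtain ⟨c, hc⟩ : ∃ c : ℕ, c = Nat.card (Subgroup.centralizer ({σ ^ (2 ^ (n - 2))} : Set G)) :=
    ⟨_, rfl⟩
  obtain ⟨ct, hct⟩ : ∃ ct : ℕ,
      ct = Nat.card (Subgroup.centralizer ({σ ^ (2 ^ (n - 2)), τ} : Set G)) := ⟨_, rfl⟩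
  obtain ⟨cs, hcs⟩ : ∃ cs : ℕ,
      cs = Nat.card (Subgroup.centralizer ({σ ^ (2 ^ (n - 2)), σ * τ} : Set G)) := ⟨_, rfl⟩
  obtain ⟨cl, hcl⟩ : ∃ cl : ℕ, cl = (cls (σ ^ (2 ^ (n - 2)))).card := ⟨_, rfl⟩
  obtain ⟨g, hg⟩ : ∃ g : ℕ, g = Nat.card G := ⟨_, rfl⟩
  obtain ⟨hh, hhh⟩ : ∃ hh : ℕ, hh = 2 ^ (n - 2) := ⟨_, rfl⟩
  rw [← hm0, ← hm1, ← hw, ← hhh] at h2
  rw [← hm0, ← hw, ← hct] at h3
  rw [← hm1, ← hw, ← hcs] at h4
  rw [← hcl, ← hc, ← hg] at hclc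
  rw [← hw, ← hc, hn2, hN, ← hhh] at hWc
  rw [hN, ← hhh] at h2
  rw [← hc, ← hct, ← hcs, ← hg]
  -- the left side
  have h6 : ∀ χ : IrrCharacter G, (if χ ∈ principalBlock M G then (1 : ℂ) else 0)
      * (classInner (fun c => mulCount (σ ^ (2 ^ (n - 2))) (σ ^ (2 ^ (n - 2))) c) (χ : G → ℂ)
        * (χ : G → ℂ) (σ ^ l))
      = ((g : ℂ)⁻¹ * ((cl : ℂ) * (cl : ℂ))) * ((if χ ∈ principalBlock M G then (1 : ℂ) else 0)
        * ((χ : G → ℂ) (σ ^ (2 ^ (n - 2))) ^ 2 * (χ : G → ℂ) (σ ^ l) / (χ : G → ℂ) 1)) := by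
    intro χ
    rw [classInner_mulCount_real _ hJJ χ, ← hcl, ← hg]
    ring
  rw [Finset.sum_congr rfl (fun χ _ => h6 χ), ← Finset.mul_sum] at h1
  obtain ⟨Θ, hΘ⟩ : ∃ Θ : ℂ, Θ = ∑ χ : IrrCharacter G,
      (if χ ∈ principalBlock M G then (1 : ℂ) else 0)
        * ((χ : G → ℂ) (σ ^ (2 ^ (n - 2))) ^ 2 * (χ : G → ℂ) (σ ^ l) / (χ : G → ℂ) 1) := ⟨_, rfl⟩
  rw [← hΘ] at h1 ⊢
  -- positivity
  have hw0 : (w : ℂ) ≠ 0 := by
    have : w ≠ 0 := by rw [hw]; exact Nat.card_pos.ne'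
    exact_mod_cast this
  have hct0 : (ct : ℂ) ≠ 0 := by
    have : ct ≠ 0 := by rw [hct]; exact Nat.card_pos.ne'
    exact_mod_cast this
  have hcs0 : (cs : ℂ) ≠ 0 := by
    have : cs ≠ 0 := by rw [hcs]; exact Nat.card_pos.ne'
    exact_mod_cast this
  have hg0 : (g : ℂ) ≠ 0 := by
    have : g ≠ 0 := by rw [hg]; exact Nat.card_pos.ne'
    exact_mod_cast this
  have hc0 : (c : ℂ) ≠ 0 := by
    have : c ≠ 0 := by rw [hc]; exact Nat.card_pos.ne'
    exact_mod_cast this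
  have hZ0 : (Zc : ℂ) ≠ 0 := by exact_mod_cast hZc0
  have hh0 : (hh : ℂ) ≠ 0 := by
    have : hh ≠ 0 := by rw [hhh]; positivity
    exact_mod_cast this
  have hclcC : (cl : ℂ) * (c : ℂ) = (g : ℂ) := by exact_mod_cast hclc
  have hcl0 : (cl : ℂ) ≠ 0 := by
    intro h
    rw [h, zero_mul] at hclcC
    exact hg0 hclcC.symm
  have hWcC : 2 * (2 * (hh : ℂ)) * (w : ℂ) = (c : ℂ) := by exact_mod_cast hWc
  have h3C : (m0 : ℂ) * (ct : ℂ) = 4 * (w : ℂ) := by exact_mod_cast h3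
  have h4C : (m1 : ℂ) * (cs : ℂ) = 4 * (w : ℂ) := by exact_mod_cast h4
  have e0 : (m0 : ℂ) = 4 * (w : ℂ) / (ct : ℂ) := eq_div_of_mul_eq hct0 h3C
  have e1 : (m1 : ℂ) = 4 * (w : ℂ) / (cs : ℂ) := eq_div_of_mul_eq hcs0 h4C
  -- the value of `S`
  have hSval : S = (Zc : ℂ) * ((if Even l then hh * (m0 ^ 2 + m1 ^ 2)
      else 2 * hh * (m0 * m1) : ℕ) : ℂ) / (w : ℂ) := by
    rw [eq_div_iff hw0, mul_comm]
    exact h2
  rw [hSval] at h1
  have hΘval : Θ = (g : ℂ) / ((cl : ℂ) * (cl : ℂ)) * (((if Even l then hh * (m0 ^ 2 + m1 ^ 2)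
      else 2 * hh * (m0 * m1) : ℕ) : ℂ) / (w : ℂ)) := by
    have h7 : (Zc : ℂ)⁻¹ * ((Zc : ℂ) * ((if Even l then hh * (m0 ^ 2 + m1 ^ 2)
        else 2 * hh * (m0 * m1) : ℕ) : ℂ) / (w : ℂ))
        = ((if Even l then hh * (m0 ^ 2 + m1 ^ 2) else 2 * hh * (m0 * m1) : ℕ) : ℂ) / (w : ℂ) := by
      field_simp
    rw [h7] at h1
    rw [← h1]
    field_simp
  rw [hΘval, ← hclcC, ← hWcC]
  rcases hl with rfl | rfl
  · have hne : ¬ Even 1 := by decide
    rw [if_neg hne, if_neg (by norm_num)]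
    push_cast
    rw [e0, e1]
    field_simp
    ring
  · have he : Even 2 := by decide
    rw [if_pos he, if_pos rfl]
    push_cast
    rw [e0, e1]
    field_simp
    ring

end Cfsg.Agent.Lib.helper3.DihOrd
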