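import Mathlib
import Cfsg.Prelude.Def_Blocks

/-!
# Brauer's order formula for dihedral Sylow `2`-subgroups: auxiliary sums
-/

set_option autoImplicit false
set_option linter.style.haveILetI false
set_option linter.unusedSectionVars false
set_option linter.unusedVariables false

namespace Cfsg.Agent.Lib.helper3.DihOrd

open Classical in
/-- A sum over a set consisting of four elements and an injective family. -/
theorem sum_ite_five {α : Type*} [Fintype α] {ι : Type*} [Fintype ι] (S : Set α) (a b c d : α)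
    (e : ι → α) (he : Function.Injective e) (hab : a ≠ b) (hac : a ≠ c) (had : a ≠ d)
    (hbc : b ≠ c) (hbd : b ≠ d) (hcd : c ≠ d)
    (hae : ∀ j, e j ≠ a) (hbe : ∀ j, e j ≠ b) (hce : ∀ j, e j ≠ c) (hde : ∀ j, e j ≠ d)
    (hS : ∀ x, x ∈ S ↔ x = a ∨ x = b ∨ x = c ∨ x = d ∨ ∃ j, x = e j) (f : α → ℂ) :
    ∑ x : α, (if x ∈ S then (1 : ℂ) else 0) * f x
      = f a + f b + f c + f d + ∑ j : ι, f (e j) := by
  obtain ⟨T, hT⟩ : ∃ T : Finset α,
      T = insert a (insert b (insert c (insert d (Finset.univ.image e)))) := ⟨_, rfl⟩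
  have hmem : ∀ x : α, x ∈ S ↔ x ∈ T := by
    intro x
    rw [hS, hT]
    simp only [Finset.mem_insert, Finset.mem_image, Finset.mem_univ, true_and]
    constructor
    · rintro (h | h | h | h | ⟨j, h⟩)
      · exact Or.inl h
      · exact Or.inr (Or.inl h)
      · exact Or.inr (Or.inr (Or.inl h))
      · exact Or.inr (Or.inr (Or.inr (Or.inl h)))
      · exact Or.inr (Or.inr (Or.inr (Or.inr ⟨j, h.symm⟩)))
    · rintro (h | h | h | h | ⟨j, h⟩)
      · exact Or.inl h
      · exact Or.inr (Or.inl h)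
      · exact Or.inr (Or.inr (Or.inl h))
      · exact Or.inr (Or.inr (Or.inr (Or.inl h)))
      · exact Or.inr (Or.inr (Or.inr (Or.inr ⟨j, h.symm⟩)))
  have h1 : ∀ x : α, (if x ∈ S then (1 : ℂ) else 0) * f x = if x ∈ T then f x else 0 := by
    intro x
    by_cases hx : x ∈ S
    · rw [if_pos hx, if_pos ((hmem x).mp hx), one_mul]
    · rw [if_neg hx, if_neg (fun h => hx ((hmem x).mpr h)), zero_mul]
  rw [Finset.sum_congr rfl (fun x _ => h1 x), Finset.sum_ite_mem, Finset.univ_inter, hT]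
  have hd : d ∉ Finset.univ.image e := by
    rw [Finset.mem_image]
    rintro ⟨j, -, h⟩
    exact hde j h
  have hc : c ∉ insert d (Finset.univ.image e) := by
    rw [Finset.mem_insert, Finset.mem_image]
    rintro (h | ⟨j, -, h⟩)
    · exact hcd h
    · exact hce j h
  have hb : b ∉ insert c (insert d (Finset.univ.image e)) := by
    rw [Finset.mem_insert, Finset.mem_insert, Finset.mem_image]
    rintro (h | h | ⟨j, -, h⟩)
    · exact hbc h
    · exact hbd h
    · exact hbe j h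
  have ha : a ∉ insert b (insert c (insert d (Finset.univ.image e))) := by
    rw [Finset.mem_insert, Finset.mem_insert, Finset.mem_insert, Finset.mem_image]
    rintro (h | h | h | ⟨j, -, h⟩)
    · exact hab h
    · exact hac h
    · exact had h
    · exact hae j h
  rw [Finset.sum_insert ha, Finset.sum_insert hb, Finset.sum_insert hc, Finset.sum_insert hd,
    Finset.sum_image (fun x _ y _ h => he h)]
  ring

/-- A half power of a primitive root of even order. -/
theorem pow_half_eq_neg_one {ζ : ℂ} {h : ℕ} (hh : 0 < h) (hζ : IsPrimitiveRoot ζ (2 * h)) :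
    ζ ^ h = -1 := by
  have h1 : (ζ ^ h) ^ 2 = 1 := by
    rw [← pow_mul, mul_comm]
    exact hζ.pow_eq_one
  have h2 : ζ ^ h ≠ 1 := hζ.pow_ne_one_of_pos_of_lt hh.ne' (by omega)
  have h3 : (ζ ^ h - 1) * (ζ ^ h + 1) = 0 := by
    linear_combination h1
  rcases mul_eq_zero.mp h3 with h4 | h4
  · exact absurd (sub_eq_zero.mp h4) h2
  · exact eq_neg_of_add_eq_zero_left h4

/-- The sums of the values of the characters `χ^{(j)}`. -/
theorem root_sum {ζ : ℂ} {h : ℕ} (hh : 2 ≤ h) (hζ : IsPrimitiveRoot ζ (2 * h)) (l : ℕ)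
    (hl0 : 0 < l) (hl : l < 2 * h) :
    ∑ j : Fin (h - 1), (ζ ^ (((j : ℕ) + 1) * l) + (ζ ^ (((j : ℕ) + 1) * l))⁻¹)
      = if Even l then -2 else 0 := by
  have hζh := pow_half_eq_neg_one (by omega : 0 < h) hζ
  have hζN : ζ ^ (2 * h) = 1 := hζ.pow_eq_one
  obtain ⟨w, hw⟩ : ∃ w : ℂ, w = ζ ^ l := ⟨_, rfl⟩
  have hw1 : w ≠ 1 := by
    rw [hw]
    exact hζ.pow_ne_one_of_pos_of_lt hl0.ne' hl
  have hwh : w ^ h = (-1) ^ l := by
    rw [hw, ← pow_mul, mul_comm, pow_mul, hζh]
  have hwN : w ^ (2 * h) = 1 := by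
    rw [hw, ← pow_mul, mul_comm, pow_mul, hζN, one_pow]
  have hw0 : w ≠ 0 := by
    intro h0
    rw [h0, zero_pow (by omega)] at hwN
    exact zero_ne_one hwN
  have hterm : ∀ j : Fin (h - 1), ζ ^ (((j : ℕ) + 1) * l) = w ^ ((j : ℕ) + 1) := by
    intro j
    rw [hw, ← pow_mul, mul_comm]
  -- the inverse powers
  have hinv : ∀ j : Fin (h - 1), (w ^ ((j : ℕ) + 1))⁻¹
      = (-1) ^ l * w ^ (((Fin.rev j : Fin (h - 1)) : ℕ) + 1) := by
    intro j
    have hj : (j : ℕ) < h - 1 := j.2
    rw [Fin.val_rev, ← hwh, ← pow_add]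
    apply inv_eq_of_mul_eq_one_right
    rw [← pow_add]
    have : (j : ℕ) + 1 + (h + (h - 1 - ((j : ℕ) + 1) + 1)) = 2 * h := by omega
    rw [this, hwN]
  simp_rw [hterm, hinv]
  rw [Finset.sum_add_distrib, ← Finset.mul_sum]
  have hrev : ∑ j : Fin (h - 1), w ^ (((Fin.rev j : Fin (h - 1)) : ℕ) + 1)
      = ∑ j : Fin (h - 1), w ^ ((j : ℕ) + 1) :=
    Equiv.sum_comp Fin.revPerm (fun j : Fin (h - 1) => w ^ ((j : ℕ) + 1))
  rw [hrev]
  by_cases hle : Even l
  · rw [if_pos hle, hle.neg_one_pow, one_mul]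
    rw [hle.neg_one_pow] at hwh
    have hgeom : ∑ i ∈ Finset.range h, w ^ i = 0 := by
      have h1 := geom_sum_mul w h
      rw [hwh, sub_self] at h1
      rcases mul_eq_zero.mp h1 with h2 | h2
      · exact h2
      · exact absurd (sub_eq_zero.mp h2) hw1
    have hsplit : ∑ i ∈ Finset.range h, w ^ i
        = ∑ j : Fin (h - 1), w ^ ((j : ℕ) + 1) + 1 := by
      have : h = (h - 1) + 1 := by omega
      rw [this, Finset.sum_range_succ', pow_zero, Finset.sum_range]
      simp
    rw [hgeom] at hsplit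
    linear_combination -2 * hsplit
  · rw [if_neg hle]
    rw [Nat.not_even_iff_odd] at hle
    rw [hle.neg_one_pow]
    ring

end Cfsg.Agent.Lib.helper3.DihOrd
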