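import Mathlib
import Cfsg.Prelude.Def_Blocks
import Cfsg.Agent.S4481
import Cfsg.Agent.Lib.helper3.DihOrd7
import Cfsg.Agent.Lib.helper3.DihOrd8

/-!
# Brauer's order formula for dihedral Sylow `2`-subgroups with one class of involutions
-/

set_option autoImplicit false
set_option linter.style.haveILetI false
set_option linter.unusedSectionVars false
set_option linter.unusedVariables false

namespace Cfsg.Agent.Lib.helper3.DihOrd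

open Cfsg Module Cfsg.Agent.Lib.helper3.CharBasic Cfsg.Agent.Lib.helper3.Irr
open Cfsg.Agent.Lib.helper3.Central Cfsg.Agent.Lib.helper3.IndFun
open Cfsg.Agent.Lib.helper3.Block DihedralGroup
open scoped ComplexConjugate

universe u

variable {G : Type u} [Group G] [Fintype G] {M : Ideal AlgInt}

theorem sq_of_sign {δ : ℤ} (hδ : δ = 1 ∨ δ = -1) : (δ : ℂ) * (δ : ℂ) = 1 := by
  rcases hδ with h | h <;> rw [h] <;> norm_num

open Classical in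
/-- **Brauer's order formula** for dihedral Sylow `2`-subgroups (complex form). -/
theorem dihedral_order_formula (hM : IsPModular 2 M) (n : ℕ) (hn : 3 ≤ n) (P : Sylow 2 G)
    (σ τ : G) (hσ : σ ∈ (P : Subgroup G)) (hτ : τ ∈ (P : Subgroup G))
    (hσo : orderOf σ = 2 ^ (n - 1)) (hτo : orderOf τ = 2) (hrel : τ * σ * τ⁻¹ = σ⁻¹)
    (hgen : Subgroup.closure ({σ, τ} : Set G) = (P : Subgroup G))
    (hconj : IsConj (σ ^ (2 ^ (n - 2))) τ ∧ IsConj (σ ^ (2 ^ (n - 2))) (σ * τ))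
    (χ₁ : IrrCharacter G) (hχ₁ : χ₁ ∈ principalBlock M G)
    (h1 : (χ₁ : G → ℂ) ≠ (fun _ => 1)) (δ₁ : ℤ) (hδ₁ : δ₁ = 1 ∨ δ₁ = -1)
    (hval : ∀ l : ℕ, 0 < l → l < 2 ^ (n - 1) → (χ₁ : G → ℂ) (σ ^ l) = δ₁) :
    (charDegree (χ₁ : G → ℂ) : ℤ) ≠ δ₁ ∧
    (Nat.card G : ℂ) * ((charDegree (χ₁ : G → ℂ) : ℂ) - δ₁) ^ 2
      = 2 * (charDegree (χ₁ : G → ℂ) : ℂ) * ((charDegree (χ₁ : G → ℂ) : ℂ) + δ₁)
        * (Nat.card (Subgroup.centralizer ({σ ^ (2 ^ (n - 2))} : Set G)) : ℂ) ^ 3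
        * ((Nat.card (Subgroup.centralizer ({σ ^ (2 ^ (n - 2)), τ} : Set G)) : ℂ)⁻¹
          + (Nat.card (Subgroup.centralizer ({σ ^ (2 ^ (n - 2)), σ * τ} : Set G)) : ℂ)⁻¹) ^ 2 := by
  obtain ⟨hN, hN3, hh2, hheven⟩ := two_pow_facts n hn
  have hN0 : 2 ^ (n - 1) ≠ 0 := by omega
  obtain ⟨ζ, hζ⟩ : ∃ ζ : ℂ, IsPrimitiveRoot ζ (2 ^ (n - 1)) :=
    ⟨_, Complex.isPrimitiveRoot_exp _ hN0⟩
  have hP := nonempty_iso n hn P σ τ hσo hτo hrel hgen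
  obtain ⟨-, χ₁', χ₂, χ₃, χ', d₁, d₂, d₃, hd₁, hd₂, hd₃, hinj, h1f, h2f, h3f, h12, h13, h23,
    hχ'ne, hB, hvals, hodd⟩ := Cfsg.Agent.S4481.result M hM n hn P hP σ hσ hσo ζ hζ
  rw [hN] at hζ
  have hζh := pow_half_eq_neg_one (by omega : 0 < 2 ^ (n - 2)) hζ
  have hl1 : (0 : ℕ) < 1 ∧ 1 < 2 ^ (n - 1) := ⟨by omega, by omega⟩
  have hl2 : (0 : ℕ) < 2 ∧ 2 < 2 ^ (n - 1) := ⟨by omega, by omega⟩
  have hlh : 0 < 2 ^ (n - 2) ∧ 2 ^ (n - 2) < 2 ^ (n - 1) := ⟨by omega, by omega⟩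
  have hsq1 := sq_of_sign hδ₁
  have hsqd1 := sq_of_sign hd₁
  have hsqd2 := sq_of_sign hd₂
  have hsqd3 := sq_of_sign hd₃
  -- the powers of `ζ ^ h`
  have hpm : ∀ j : Fin (2 ^ (n - 2) - 1), ζ ^ (((j : ℕ) + 1) * 2 ^ (n - 2)) = 1
      ∨ ζ ^ (((j : ℕ) + 1) * 2 ^ (n - 2)) = -1 := by
    intro j
    rw [mul_comm, pow_mul, hζh]
    exact neg_one_pow_eq_or ℂ _
  -- identification of `χ₁`
  have hχeq : χ₁ = χ₁' := by
    rw [hB, Set.mem_setOf_eq] at hχ₁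
    rcases hχ₁ with h | h | h | h | ⟨j, h⟩
    · exact absurd h h1
    · exact h
    · exfalso
      have e1 := (hvals 1 hl1.1 hl1.2).2.1
      have e2 := (hvals 2 hl2.1 hl2.2).2.1
      rw [← h, hval 1 hl1.1 hl1.2] at e1
      rw [← h, hval 2 hl2.1 hl2.2] at e2
      have p1 : ((-1 : ℂ)) ^ (1 + 1) = 1 := by norm_num
      have p2 : ((-1 : ℂ)) ^ (2 + 1) = -1 := by norm_num
      rw [p1] at e1
      rw [p2] at e2
      have e3 : (d₂ : ℂ) = 0 := by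
        linear_combination (-1 / 2 : ℂ) * e1 + (1 / 2 : ℂ) * e2
      rw [e3, mul_zero] at hsqd2
      exact zero_ne_one hsqd2
    · exfalso
      have e1 := (hvals 1 hl1.1 hl1.2).2.2.1
      have e2 := (hvals 2 hl2.1 hl2.2).2.2.1
      rw [← h, hval 1 hl1.1 hl1.2] at e1
      rw [← h, hval 2 hl2.1 hl2.2] at e2
      have p1 : ((-1 : ℂ)) ^ (1 + 1) = 1 := by norm_num
      have p2 : ((-1 : ℂ)) ^ (2 + 1) = -1 := by norm_num
      rw [p1] at e1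
      rw [p2] at e2
      have e3 : (d₃ : ℂ) = 0 := by
        linear_combination (-1 / 2 : ℂ) * e1 + (1 / 2 : ℂ) * e2
      rw [e3, mul_zero] at hsqd3
      exact zero_ne_one hsqd3
    · exfalso
      have e1 := (hvals _ hlh.1 hlh.2).2.2.2 j
      rw [← h, hval _ hlh.1 hlh.2] at e1
      rcases hpm j with h5 | h5
      · rw [h5] at e1
        have e2 : (δ₁ : ℂ) = 2 * (d₁ : ℂ) := by
          rw [e1]; norm_num; ring
        have e3 : δ₁ = 2 * d₁ := by exact_mod_cast e2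
        rcases hδ₁ with h6 | h6 <;> rcases hd₁ with h7 | h7 <;> omega
      · rw [h5] at e1
        have e2 : (δ₁ : ℂ) = -2 * (d₁ : ℂ) := by
          rw [e1]; norm_num; ring
        have e3 : δ₁ = -2 * d₁ := by exact_mod_cast e2
        rcases hδ₁ with h6 | h6 <;> rcases hd₁ with h7 | h7 <;> omega
  have hδeq : d₁ = δ₁ := by
    have e1 := (hvals 1 hl1.1 hl1.2).1
    rw [← hχeq, hval 1 hl1.1 hl1.2] at e1
    exact_mod_cast e1.symm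
  subst hχeq
  subst hδeq
  -- the trivial character
  obtain ⟨χ₀, hχ₀⟩ : ∃ χ₀ : IrrCharacter G, χ₀ = Cfsg.Agent.Lib.helper3.PrincOnly.one G :=
    ⟨_, rfl⟩
  have hχ₀coe : (χ₀ : G → ℂ) = fun _ => (1 : ℂ) := by rw [hχ₀]; rfl
  have h01 : χ₀ ≠ χ₁ := by
    intro h
    apply h1f
    rw [← h, hχ₀coe]
  have h02 : χ₀ ≠ χ₂ := by
    intro h
    apply h2f
    rw [← h, hχ₀coe]
  have h03 : χ₀ ≠ χ₃ := by
    intro h
    apply h3f
    rw [← h, hχ₀coe]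
  have h0e : ∀ j, χ' j ≠ χ₀ := by
    intro j h
    apply (hχ'ne j).2.2.2
    rw [h, hχ₀coe]
  have hS : ∀ χ : IrrCharacter G, χ ∈ principalBlock M G
      ↔ χ = χ₀ ∨ χ = χ₁ ∨ χ = χ₂ ∨ χ = χ₃ ∨ ∃ j, χ = χ' j := by
    intro χ
    rw [hB, Set.mem_setOf_eq]
    constructor
    · rintro (h | h | h | h | h)
      · left
        apply Subtype.ext
        rw [h, hχ₀coe]
      · right; left; exact h
      · right; right; left; exact h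
      · right; right; right; left; exact h
      · right; right; right; right; exact h
    · rintro (h | h | h | h | h)
      · left
        rw [h, hχ₀coe]
      · right; left; exact h
      · right; right; left; exact h
      · right; right; right; left; exact h
      · right; right; right; right; exact h
  -- the degrees
  obtain ⟨x₁, hx₁⟩ : ∃ x₁ : ℕ, x₁ = charDegree (χ₁ : G → ℂ) := ⟨_, rfl⟩
  obtain ⟨x₂, hx₂⟩ : ∃ x₂ : ℕ, x₂ = charDegree (χ₂ : G → ℂ) := ⟨_, rfl⟩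
  obtain ⟨x₃, hx₃⟩ : ∃ x₃ : ℕ, x₃ = charDegree (χ₃ : G → ℂ) := ⟨_, rfl⟩
  have hdg1 : (χ₁ : G → ℂ) 1 = (x₁ : ℂ) := by rw [hx₁]; exact apply_one_eq_charDegree χ₁
  have hdg2 : (χ₂ : G → ℂ) 1 = (x₂ : ℂ) := by rw [hx₂]; exact apply_one_eq_charDegree χ₂
  have hdg3 : (χ₃ : G → ℂ) 1 = (x₃ : ℂ) := by rw [hx₃]; exact apply_one_eq_charDegree χ₃
  have hx₁0 : (x₁ : ℂ) ≠ 0 := by
    rw [hx₁]
    exact_mod_cast charDegree_ne_zero χ₁
  have hx₂0 : (x₂ : ℂ) ≠ 0 := by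
    rw [hx₂]
    exact_mod_cast charDegree_ne_zero χ₂
  have hx₃0 : (x₃ : ℂ) ≠ 0 := by
    rw [hx₃]
    exact_mod_cast charDegree_ne_zero χ₃
  have hdgj : ∀ j : Fin (2 ^ (n - 2) - 1), (χ' j : G → ℂ) 1 = (x₁ : ℂ) + (d₁ : ℂ) := by
    intro j
    have e1 := (hodd 1 (by rw [orderOf_one]; exact odd_one) j).2
    rw [hdg1] at e1
    linear_combination (-(d₁ : ℂ)) * e1 - ((χ' j : G → ℂ) 1 - (x₁ : ℂ)) * hsqd1
  obtain ⟨j₀⟩ : Nonempty (Fin (2 ^ (n - 2) - 1)) := ⟨⟨0, by omega⟩⟩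
  have hxd0 : (x₁ : ℂ) + (d₁ : ℂ) ≠ 0 := by
    rw [← hdgj j₀, apply_one_eq_charDegree]
    exact_mod_cast charDegree_ne_zero (χ' j₀)
  rw [← hx₁]
  -- the values at `J`
  have hJ1 : (χ₁ : G → ℂ) (σ ^ (2 ^ (n - 2))) = (d₁ : ℂ) := hval _ hlh.1 hlh.2
  have hJ2 : (χ₂ : G → ℂ) (σ ^ (2 ^ (n - 2))) ^ 2 = 1 := by
    rw [(hvals _ hlh.1 hlh.2).2.1, mul_pow, ← pow_mul, mul_comm _ 2, pow_mul, neg_one_sq, one_pow,
      mul_one, pow_two, hsqd2]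
  have hJ3 : (χ₃ : G → ℂ) (σ ^ (2 ^ (n - 2))) ^ 2 = 1 := by
    rw [(hvals _ hlh.1 hlh.2).2.2.1, mul_pow, ← pow_mul, mul_comm _ 2, pow_mul, neg_one_sq,
      one_pow, mul_one, pow_two, hsqd3]
  have hJj : ∀ j : Fin (2 ^ (n - 2) - 1), (χ' j : G → ℂ) (σ ^ (2 ^ (n - 2))) ^ 2 = 4 := by
    intro j
    rw [(hvals _ hlh.1 hlh.2).2.2.2 j]
    rcases hpm j with h5 | h5 <;> rw [h5] <;> norm_num <;> linear_combination 4 * hsqd1
  -- the two sums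
  have key : ∀ l : ℕ, l = 1 ∨ l = 2 →
      ∑ χ : IrrCharacter G, (if χ ∈ principalBlock M G then (1 : ℂ) else 0)
        * ((χ : G → ℂ) (σ ^ (2 ^ (n - 2))) ^ 2 * (χ : G → ℂ) (σ ^ l) / (χ : G → ℂ) 1)
      = 1 + (d₁ : ℂ) / (x₁ : ℂ) + (d₂ : ℂ) * (-1) ^ (l + 1) / (x₂ : ℂ)
        + (d₃ : ℂ) * (-1) ^ (l + 1) / (x₃ : ℂ)
        + 4 * (d₁ : ℂ) / ((x₁ : ℂ) + (d₁ : ℂ)) * (if Even l then -2 else 0) := by
    intro l hl
    have hl0 : 0 < l ∧ l < 2 ^ (n - 1) := by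
      rcases hl with rfl | rfl
      · exact hl1
      · exact hl2
    rw [sum_ite_five (principalBlock M G) χ₀ χ₁ χ₂ χ₃ χ' hinj h01 h02 h03 h12 h13 h23 h0e
      (fun j => (hχ'ne j).1) (fun j => (hχ'ne j).2.1) (fun j => (hχ'ne j).2.2.1) hS]
    rw [hχ₀coe, hJ1, hJ2, hJ3, hdg1, hdg2, hdg3, hval l hl0.1 hl0.2,
      (hvals l hl0.1 hl0.2).2.1, (hvals l hl0.1 hl0.2).2.2.1]
    have hsum : ∑ j : Fin (2 ^ (n - 2) - 1), (χ' j : G → ℂ) (σ ^ (2 ^ (n - 2))) ^ 2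
        * (χ' j : G → ℂ) (σ ^ l) / (χ' j : G → ℂ) 1
        = 4 * (d₁ : ℂ) / ((x₁ : ℂ) + (d₁ : ℂ)) * (if Even l then -2 else 0) := by
      rw [← root_sum hh2 hζ l hl0.1 (by rw [← hN]; exact hl0.2), Finset.mul_sum]
      apply Finset.sum_congr rfl
      intro j _
      rw [hJj j, hdgj j, (hvals l hl0.1 hl0.2).2.2.2 j]
      ring
    rw [hsum]
    have e1 : (d₁ : ℂ) ^ 2 * (d₁ : ℂ) = (d₁ : ℂ) := by
      rw [pow_two, hsqd1, one_mul]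
    rw [e1]
    ring
  have k1 := key 1 (Or.inl rfl)
  have k2 := key 2 (Or.inr rfl)
  rw [theta_formula hM n hn P σ τ hσ hτ hσo hτo hrel hgen hconj 1 (Or.inl rfl)] at k1
  rw [theta_formula hM n hn P σ τ hσ hτ hσo hτo hrel hgen hconj 2 (Or.inr rfl)] at k2
  rw [if_neg (by norm_num)] at k1
  rw [if_pos rfl] at k2
  have hne1 : ¬ Even 1 := by decide
  have he2 : Even 2 := by decide
  rw [if_neg hne1] at k1
  rw [if_pos he2] at k2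
  -- names
  obtain ⟨c, hc⟩ : ∃ c : ℕ, c = Nat.card (Subgroup.centralizer ({σ ^ (2 ^ (n - 2))} : Set G)) :=
    ⟨_, rfl⟩
  obtain ⟨ct, hct⟩ : ∃ ct : ℕ,
      ct = Nat.card (Subgroup.centralizer ({σ ^ (2 ^ (n - 2)), τ} : Set G)) := ⟨_, rfl⟩
  obtain ⟨cs, hcs⟩ : ∃ cs : ℕ,
      cs = Nat.card (Subgroup.centralizer ({σ ^ (2 ^ (n - 2)), σ * τ} : Set G)) := ⟨_, rfl⟩
  obtain ⟨g, hg⟩ : ∃ g : ℕ, g = Nat.card G := ⟨_, rfl⟩
  rw [← hc, ← hct, ← hcs, ← hg] at k1 k2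
  rw [← hc, ← hct, ← hcs, ← hg]
  have hct0 : (ct : ℂ) ≠ 0 := by
    have : ct ≠ 0 := by rw [hct]; exact Nat.card_pos.ne'
    exact_mod_cast this
  have hcs0 : (cs : ℂ) ≠ 0 := by
    have : cs ≠ 0 := by rw [hcs]; exact Nat.card_pos.ne'
    exact_mod_cast this
  have hg0 : (g : ℂ) ≠ 0 := by
    have : g ≠ 0 := by rw [hg]; exact Nat.card_pos.ne'
    exact_mod_cast this
  have hc0 : (c : ℂ) ≠ 0 := by
    have : c ≠ 0 := by rw [hc]; exact Nat.card_pos.ne'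
    exact_mod_cast this
  -- the identity
  have hmain : (g : ℂ) * ((x₁ : ℂ) - (d₁ : ℂ)) ^ 2
      = 2 * (x₁ : ℂ) * ((x₁ : ℂ) + (d₁ : ℂ)) * (c : ℂ) ^ 3
        * ((ct : ℂ)⁻¹ + (cs : ℂ)⁻¹) ^ 2 := by
    have k3 : (2 : ℂ) + 2 * (d₁ : ℂ) / (x₁ : ℂ) - 8 * (d₁ : ℂ) / ((x₁ : ℂ) + (d₁ : ℂ))
        = 4 * (c : ℂ) ^ 3 * ((ct : ℂ)⁻¹ + (cs : ℂ)⁻¹) ^ 2 / (g : ℂ) := by
      have e1 : ((-1 : ℂ)) ^ (1 + 1) = 1 := by norm_num
      have e2 : ((-1 : ℂ)) ^ (2 + 1) = -1 := by norm_num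
      rw [e1] at k1
      rw [e2] at k2
      linear_combination -k1 - k2
    have k4 : (2 : ℂ) + 2 * (d₁ : ℂ) / (x₁ : ℂ) - 8 * (d₁ : ℂ) / ((x₁ : ℂ) + (d₁ : ℂ))
        = 2 * ((x₁ : ℂ) - (d₁ : ℂ)) ^ 2 / ((x₁ : ℂ) * ((x₁ : ℂ) + (d₁ : ℂ))) := by
      field_simp
      ring
    rw [k4] at k3
    obtain ⟨S, hS⟩ : ∃ S : ℂ, S = (ct : ℂ)⁻¹ + (cs : ℂ)⁻¹ := ⟨_, rfl⟩
    rw [← hS] at k3 ⊢
    rw [div_eq_div_iff (mul_ne_zero hx₁0 hxd0) hg0] at k3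
    linear_combination (1 / 2 : ℂ) * k3
  refine ⟨?_, hmain⟩
  intro heq
  have heqC : (x₁ : ℂ) = (d₁ : ℂ) := by exact_mod_cast heq
  rw [heqC, sub_self] at hmain
  have hsum0 : (ct : ℂ)⁻¹ + (cs : ℂ)⁻¹ ≠ 0 := by
    have h5 : (ct : ℂ)⁻¹ + (cs : ℂ)⁻¹ = ((ct + cs : ℕ) : ℂ) / ((ct : ℂ) * (cs : ℂ)) := by
      push_cast
      field_simp
      ring
    rw [h5]
    apply div_ne_zero
    · have : ct + cs ≠ 0 := by
        have : ct ≠ 0 := by rw [hct]; exact Nat.card_pos.ne'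
        omega
      exact_mod_cast this
    · exact mul_ne_zero hct0 hcs0
  have hd0 : (d₁ : ℂ) ≠ 0 := by
    intro h0
    rw [h0, mul_zero] at hsqd1
    exact zero_ne_one hsqd1
  have hrhs : 2 * (d₁ : ℂ) * ((d₁ : ℂ) + (d₁ : ℂ)) * (c : ℂ) ^ 3
      * ((ct : ℂ)⁻¹ + (cs : ℂ)⁻¹) ^ 2 ≠ 0 := by
    apply mul_ne_zero
    · apply mul_ne_zero
      · apply mul_ne_zero
        · exact mul_ne_zero two_ne_zero hd0
        · rw [← two_mul]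
          exact mul_ne_zero two_ne_zero hd0
      · exact pow_ne_zero 3 hc0
    · exact pow_ne_zero 2 hsum0
  apply hrhs
  rw [← hmain]
  ring

end Cfsg.Agent.Lib.helper3.DihOrd
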