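import Cfsg.Agent.Lib.Lead.ES2Perp
import Cfsg.Agent.Lib.Lead.Extraspecial2Model

/-!
# Centralizer of a noncentral involution in an extraspecial 2-group

In lead's elementary framework `ES z` (centre `{1, z}`, squares and commutators in `{1, z}`):
for `t` a noncentral involution of `E`,

* `card_centralizer`: `2 * |C_E(t)| = |E|`;
* `double_centralizer`: `C_E(C_E(t)) = {1, t, z, t z}`;
* `quotient_ES`, `card_quotient`, `quotient_nonabelian`: any quotient `M` of `C_E(t)` with kernel
  `{1, t}` is again of the same kind, with centre `{1, image of z}`, of order `|E| / 4`,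
  nonabelian when `32 ≤ |E|`.
-/

set_option autoImplicit false
open Cfsg
open scoped commutatorElement

namespace Cfsg.Agent.Lib.helper3.ESInvCent

open Cfsg.Agent.S2880 (Ctx kmul half)
open Cfsg.Agent.Lead.ES2

variable {E : Type*} [Group E]

/-- a noncentral element has a partner with commutator `z` -/
theorem exists_noncomm {z : E} (hes : ES z) {t : E} (ht1 : t ≠ 1) (htz : t ≠ z) :
    ∃ s : E, ⁅t, s⁆ = z := by
  by_contra h
  push_neg at h
  have hcen : ∀ x : E, x * t = t * x := by
    intro x
    have h1 := (hes.ctx.comm t x).resolve_right (h x)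
    exact (commutatorElement_eq_one_iff_mul_comm.mp h1).symm
  rcases hes.cent t hcen with h1 | h1
  · exact ht1 h1
  · exact htz h1

/-- E1a: the centralizer of a noncentral element has index two -/
theorem card_centralizer [Finite E] {z : E} (hes : ES z) {t : E} (ht1 : t ≠ 1) (htz : t ≠ z) :
    2 * Nat.card (Subgroup.centralizer ({t} : Set E)) = Nat.card E := by
  obtain ⟨s₀, hs₀⟩ := exists_noncomm hes ht1 htz
  have h := half hes.ctx (MonoidHom.id E) 1 (Or.inl rfl) t s₀
    (by rw [MonoidHom.id_apply, hs₀]; exact hes.ctx.ne)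
  rw [← h]
  congr 1
  apply Nat.card_congr
  refine Equiv.subtypeEquivRight (fun s => ?_)
  rw [Subgroup.mem_centralizer_singleton_iff, MonoidHom.id_apply,
    commutatorElement_eq_one_iff_mul_comm]
  exact eq_comm

/-- E1b: the double centralizer of a noncentral involution `t` is `{1, t, z, t z}` -/
theorem double_centralizer {z : E} (hes : ES z) {t : E} (ht : t * t = 1)
    (c : E) (hc : ∀ x : E, x * t = t * x → x * c = c * x) :
    c = 1 ∨ c = t ∨ c = z ∨ c = t * z := by
  have C := hes.ctx
  by_cases hcen : ∀ x : E, x * c = c * x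
  · rcases hes.cent c hcen with h | h
    · exact Or.inl h
    · exact Or.inr (Or.inr (Or.inl h))
  · push_neg at hcen
    obtain ⟨s₀, hs₀⟩ := hcen
    have h1 : ⁅s₀, c⁆ = z :=
      (C.comm s₀ c).resolve_left (fun h => hs₀ (commutatorElement_eq_one_iff_mul_comm.mp h))
    have h2 : ⁅s₀, t⁆ = z :=
      (C.comm s₀ t).resolve_left
        (fun h => hs₀ (hc s₀ (commutatorElement_eq_one_iff_mul_comm.mp h)))
    have key : ∀ e : E, ⁅e, c⁆ = ⁅e, t⁆ := by
      intro e
      rcases C.comm e t with h | h
      · rw [h]
        exact commutatorElement_eq_one_iff_mul_comm.mpr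
          (hc e (commutatorElement_eq_one_iff_mul_comm.mp h))
      · rw [h]
        have h3 : ⁅e * s₀, t⁆ = 1 := by rw [kmul' C, h, h2, C.sq]
        have h4 : ⁅e * s₀, c⁆ = 1 :=
          commutatorElement_eq_one_iff_mul_comm.mpr
            (hc _ (commutatorElement_eq_one_iff_mul_comm.mp h3))
        rw [kmul' C, h1] at h4
        rcases C.comm e c with h5 | h5
        · rw [h5, one_mul] at h4; exact absurd h4 C.ne
        · exact h5
    have hct : ∀ x : E, x * (c * t) = (c * t) * x := by
      intro x
      apply commutatorElement_eq_one_iff_mul_comm.mp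
      rw [kmul C, key x]
      rcases C.comm x t with h | h <;> rw [h]
      · simp
      · exact C.sq
    have htinv : t⁻¹ = t := inv_eq_of_mul_eq_one_right ht
    rcases hes.cent (c * t) hct with h | h
    · right; left
      have h5 : c = t⁻¹ := eq_inv_of_mul_eq_one_left h
      rw [h5, htinv]
    · right; right; right
      have h5 : c = z * t⁻¹ := eq_mul_inv_of_mul_eq h
      rw [h5, htinv]; exact (C.cen t).symm

theorem z_mem_centralizer {z : E} (C : Ctx z) (t : E) :
    z ∈ Subgroup.centralizer ({t} : Set E) := by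
  rw [Subgroup.mem_centralizer_singleton_iff]; exact (C.cen t).symm

theorem self_mem_centralizer (t : E) : t ∈ Subgroup.centralizer ({t} : Set E) := by
  rw [Subgroup.mem_centralizer_singleton_iff]

/-- E2 (abstract form): a quotient of `C_E(t)` with kernel `{1, t}` is again of type `ES`, with
centre `{1, image of z}` -/
theorem quotient_ES {z : E} (hes : ES z) {t : E} (ht : t * t = 1) (ht1 : t ≠ 1) (htz : t ≠ z)
    {M : Type*} [Group M] (φ : ↥(Subgroup.centralizer ({t} : Set E)) →* M)
    (hsurj : Function.Surjective φ)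
    (hker : ∀ c : ↥(Subgroup.centralizer ({t} : Set E)), φ c = 1 ↔ (c : E) = 1 ∨ (c : E) = t) :
    ES (φ ⟨z, z_mem_centralizer hes.ctx t⟩) := by
  have C := hes.ctx
  set z' : ↥(Subgroup.centralizer ({t} : Set E)) := ⟨z, z_mem_centralizer hes.ctx t⟩ with hz'
  have hval : ∀ a : ↥(Subgroup.centralizer ({t} : Set E)),
      ((a : E) = 1 ∨ (a : E) = z) → φ a = 1 ∨ φ a = φ z' := by
    rintro a (h | h)
    · left; rw [show a = 1 from Subtype.ext h, map_one]
    · right; rw [show a = z' from Subtype.ext h]
  refine ⟨⟨?_, ?_, ?_, ?_, ?_⟩, ?_⟩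
  · intro h
    rcases (hker z').mp h with h | h
    · exact C.ne h
    · exact htz h.symm
  · rw [← map_mul, show z' * z' = 1 from Subtype.ext C.sq, map_one]
  · intro x
    obtain ⟨a, rfl⟩ := hsurj x
    rw [← map_mul, ← map_mul]
    congr 1
    exact Subtype.ext (C.cen a)
  · intro x y
    obtain ⟨a, rfl⟩ := hsurj x
    obtain ⟨b, rfl⟩ := hsurj y
    rw [← map_commutatorElement]
    apply hval
    have h := C.comm (a : E) (b : E)
    simpa [commutatorElement_def] using h
  · intro x
    obtain ⟨a, rfl⟩ := hsurj x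
    rw [← map_mul]
    apply hval
    exact C.sqr (a : E)
  · intro w hw
    obtain ⟨c, rfl⟩ := hsurj w
    have hc : ∀ x : E, x * t = t * x → x * (c : E) = (c : E) * x := by
      intro x hx
      have hxm : x ∈ Subgroup.centralizer ({t} : Set E) :=
        Subgroup.mem_centralizer_singleton_iff.mpr hx
      have h1 := hw (φ ⟨x, hxm⟩)
      have h2 : φ ⁅(⟨x, hxm⟩ : ↥(Subgroup.centralizer ({t} : Set E))), c⁆ = 1 := by
        rw [map_commutatorElement]; exact commutatorElement_eq_one_iff_mul_comm.mpr h1
      have h3 : (⁅(⟨x, hxm⟩ : ↥(Subgroup.centralizer ({t} : Set E))), c⁆ :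
          ↥(Subgroup.centralizer ({t} : Set E))).1 = ⁅x, (c : E)⁆ := by
        simp [commutatorElement_def]
      apply commutatorElement_eq_one_iff_mul_comm.mp
      rcases (hker _).mp h2 with h4 | h4
      · rw [← h3]; exact h4
      · exfalso
        rw [h3] at h4
        rcases C.comm x (c : E) with h5 | h5
        · exact ht1 (h4.symm.trans h5)
        · exact htz (h4.symm.trans h5)
    rcases double_centralizer hes ht (c : E) hc with h | h | h | h
    · left; rw [show c = 1 from Subtype.ext h, map_one]
    · left; exact (hker c).mpr (Or.inr h)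
    · right; rw [show c = z' from Subtype.ext h]
    · right
      have h5 : c = ⟨t, self_mem_centralizer t⟩ * z' := Subtype.ext h
      rw [h5, map_mul, (hker ⟨t, self_mem_centralizer t⟩).mpr (Or.inr rfl), one_mul]

/-- E2 (abstract form): the quotient has order `|E| / 4` -/
theorem card_quotient [Finite E] {z : E} (hes : ES z) {t : E} (ht : t * t = 1) (ht1 : t ≠ 1)
    (htz : t ≠ z)
    {M : Type*} [Group M] (φ : ↥(Subgroup.centralizer ({t} : Set E)) →* M)
    (hsurj : Function.Surjective φ)
    (hker : ∀ c : ↥(Subgroup.centralizer ({t} : Set E)), φ c = 1 ↔ (c : E) = 1 ∨ (c : E) = t) :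
    4 * Nat.card M = Nat.card E := by
  have h1 : Nat.card ↥(Subgroup.centralizer ({t} : Set E)) = Nat.card M * Nat.card φ.ker := by
    rw [← Nat.card_congr (QuotientGroup.quotientKerEquivOfSurjective φ hsurj).toEquiv]
    exact Subgroup.card_eq_card_quotient_mul_card_subgroup φ.ker
  set t' : ↥(Subgroup.centralizer ({t} : Set E)) := ⟨t, self_mem_centralizer t⟩ with ht'
  have hot : orderOf t' = 2 := by
    apply orderOf_eq_prime
    · rw [pow_two]; exact Subtype.ext ht
    · intro h; exact ht1 (congrArg Subtype.val h)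
  have h2 : φ.ker = Subgroup.zpowers t' := by
    ext c
    rw [MonoidHom.mem_ker, hker, Cfsg.Agent.Lead.ES2Perp.mem_zpowers_two hot]
    constructor
    · rintro (h | h)
      · left; exact Subtype.ext h
      · right; exact Subtype.ext h
    · rintro (h | h)
      · left; rw [h]; rfl
      · right; rw [h]
  have h3 : Nat.card φ.ker = 2 := by rw [h2, Nat.card_zpowers, hot]
  have h4 := card_centralizer hes ht1 htz
  rw [h1, h3] at h4
  rw [← h4]; ring

/-- E2 (abstract form): the quotient is nonabelian once `32 ≤ |E|` -/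
theorem quotient_nonabelian [Finite E] {z : E} (hes : ES z) {t : E} (ht : t * t = 1)
    (ht1 : t ≠ 1) (htz : t ≠ z)
    {M : Type*} [Group M] (φ : ↥(Subgroup.centralizer ({t} : Set E)) →* M)
    (hsurj : Function.Surjective φ)
    (hker : ∀ c : ↥(Subgroup.centralizer ({t} : Set E)), φ c = 1 ↔ (c : E) = 1 ∨ (c : E) = t)
    (h32 : 32 ≤ Nat.card E) : ¬ ∀ x y : M, ⁅x, y⁆ = 1 := by
  intro hab
  haveI : Finite M := Finite.of_surjective φ hsurj
  have hes' := quotient_ES hes ht ht1 htz φ hsurj hker
  have h2 := (abelian_case hes' hab).2.1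
  have h4 := card_quotient hes ht ht1 htz φ hsurj hker
  omega

end Cfsg.Agent.Lib.helper3.ESInvCent
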