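import Mathlib
import Cfsg.Prelude.Def_Characters
import Cfsg.Agent.Lib.helper3.DadeDet4
import Cfsg.Agent.Lib.helper3.TransferChar
import Cfsg.Agent.Lib.helper3.Irr15

set_option autoImplicit false
set_option linter.style.haveILetI false
set_option linter.unusedSectionVars false

/-!
# Extension of invariant characters when a Sylow subgroup is well behaved: preparations
-/

namespace Cfsg.Agent.Lib.helper3.Ext826

open Cfsg Module Cfsg.Agent.Lib.helper3.IndFun Cfsg.Agent.Lib.helper3.CharBasic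
open Cfsg.Agent.Lib.helper3.Irr Cfsg.Agent.Lib.helper3.PRes Cfsg.Agent.Lib.helper3.BrauerInd
open Cfsg.Agent.Lib.helper3.DadeDet
open scoped ComplexConjugate commutatorElement

variable {G : Type*} [Group G]

/-- The key formula with a general invariant function. -/
theorem key_formula' [Fintype G] (N : Subgroup G) [hN : N.Normal] [Fintype N] (ϑ : N → ℂ)
    (hinv : ∀ (g : G) (n : N), ϑ ⟨g * n * g⁻¹, hN.conj_mem (n : G) n.2 g⟩ = ϑ n)
    (E : Subgroup G) [Fintype E] [Fintype ↥(E ⊓ N)] (ψ : E → ℂ) :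
    classInner (fun n : N => indFun E ψ n) ϑ
      = ((Nat.card G : ℂ) * (Nat.card ↥(E ⊓ N) : ℂ) / ((Nat.card N : ℂ) * (Nat.card E : ℂ))) *
        classInner (fun x : ↥(E ⊓ N) => ψ ⟨x, x.2.1⟩) (fun x : ↥(E ⊓ N) => ϑ ⟨x, x.2.2⟩) := by
  classical
  obtain ⟨W, hW⟩ : ∃ W : G → ℂ, W = extendByZero N ϑ := ⟨_, rfl⟩
  have hWcf : IsClassFunction G W := by
    intro g h
    rw [hW]
    by_cases hg : g ∈ N
    · rw [extendByZero_mem N ϑ hg, extendByZero_mem N ϑ (hN.conj_mem g hg h)]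
      exact hinv h ⟨g, hg⟩
    · rw [extendByZero_not_mem N ϑ hg, extendByZero_not_mem]
      intro hmem
      apply hg
      have := hN.conj_mem _ hmem h⁻¹
      simpa [mul_assoc] using this
  have h1 : classInner (fun n : N => indFun E ψ n) ϑ
      = (Nat.card N : ℂ)⁻¹ * ∑ g : G, indFun E ψ g * conj (W g) := by
    rw [classInner_apply]
    congr 1
    have := sum_extendByZero_mul N (fun n => conj (ϑ n)) (indFun E ψ)
    rw [hW]
    simp_rw [← extendByZero_conj, mul_comm (indFun E ψ _) (extendByZero N _ _)]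
    rw [this]
    apply Finset.sum_congr rfl
    intro n _
    ring
  have h2 : ∑ g : G, indFun E ψ g * conj (W g) = (Nat.card G : ℂ) * classInner (indFun E ψ) W := by
    rw [classInner_apply, ← mul_assoc, mul_inv_cancel₀ (card_ne_zero_complex G), one_mul]
  have h3 : classInner (indFun E ψ) W = (Nat.card E : ℂ)⁻¹ * ∑ e : E, ψ e * conj (W e) := by
    rw [frobenius_reciprocity E ψ W hWcf, classInner_apply]
  have h4 : ∑ e : E, ψ e * conj (W e)
      = ∑ x : ↥(E ⊓ N), ψ ⟨x, x.2.1⟩ * conj (ϑ ⟨x, x.2.2⟩) := by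
    rw [← sum_extendByZero_mul E ψ (fun g => conj (W g)), ← sum_extendByZero (E ⊓ N)]
    apply Finset.sum_congr rfl
    intro g _
    rw [hW, ← extendByZero_conj]
    exact extendByZero_mul_extendByZero E N ψ (fun n => conj (ϑ n)) g
  rw [h1, h2, h3, h4, classInner_apply]
  have hD : (Nat.card ↥(E ⊓ N) : ℂ) ≠ 0 := card_ne_zero_complex _
  have hNne : (Nat.card N : ℂ) ≠ 0 := card_ne_zero_complex _
  have hEne : (Nat.card E : ℂ) ≠ 0 := card_ne_zero_complex _
  field_simp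

/-- A central subgroup all of whose linear characters extend meets the commutator subgroup
trivially. -/
theorem eq_one_of_mem_commutator (P A : Subgroup G) (hAP : A ≤ P) [Finite A]
    (hcent : ∀ x ∈ A, ∀ y ∈ P, x * y = y * x)
    (hlin : ∀ lam : A → ℂ, IsCharacter A lam → lam 1 = 1 →
      ∃ μ : P → ℂ, IsCharacter P μ ∧ μ 1 = 1 ∧ ∀ x : A, μ ⟨(x : G), hAP x.2⟩ = lam x)
    (x : G) (hxA : x ∈ A) (hxc : x ∈ ⁅P, P⁆) : x = 1 := by
  classical
  by_contra hx1
  letI : CommGroup A :=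
    { (inferInstance : Group A) with
      mul_comm := fun a b => Subtype.ext (hcent a a.2 b (hAP b.2)) }
  haveI : NeZero ((Monoid.exponent A : ℕ) : ℂ) := by
    constructor
    have : Monoid.exponent A ≠ 0 := Monoid.exponent_ne_zero_of_finite
    exact_mod_cast this
  have hne : (⟨x, hxA⟩ : A) ≠ 1 := by
    intro h
    exact hx1 (congrArg Subtype.val h)
  obtain ⟨f, hf⟩ := CommGroup.exists_apply_ne_one_of_hasEnoughRootsOfUnity A ℂ hne
  obtain ⟨μ, hμ, hμ1, hμA⟩ := hlin (fun a => ((f a : ℂˣ) : ℂ))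
    (Cfsg.Agent.Lib.helper3.Lin.isCharacter_of_hom f) (by simp)
  obtain ⟨μ', hμ'⟩ : ∃ μ' : P →* ℂˣ, ∀ y : P, ((μ' y : ℂˣ) : ℂ) = μ y :=
    ⟨Cfsg.Agent.Lib.helper3.Lin.toUnitsHom hμ hμ1,
      fun y => Cfsg.Agent.Lib.helper3.Lin.toUnitsHom_apply hμ hμ1 y⟩
  have hle : ⁅P, P⁆ ≤ μ'.ker.map P.subtype := by
    rw [Subgroup.commutator_le]
    intro a ha b hb
    refine ⟨⁅(⟨a, ha⟩ : P), ⟨b, hb⟩⁆, ?_, rfl⟩
    rw [SetLike.mem_coe, MonoidHom.mem_ker, map_commutatorElement]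
    exact commutatorElement_eq_one_iff_commute.2 (Commute.all _ _)
  obtain ⟨y, hy, hyx⟩ := hle hxc
  have hyeq : y = ⟨x, hAP hxA⟩ := Subtype.ext hyx
  rw [SetLike.mem_coe, MonoidHom.mem_ker] at hy
  apply hf
  have h1 := hμA ⟨x, hxA⟩
  rw [← hμ', ← hyeq, hy] at h1
  apply Units.ext
  rw [← h1]

/-- A linear character of a subgroup meeting the commutator subgroup trivially extends. -/
theorem exists_linear_extension {E : Type*} [Group E] [Finite E] (D : Subgroup E)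
    (hD : ∀ x ∈ D, x ∈ commutator E → x = 1) (φ : D → ℂ) (hφ : IsCharacter D φ)
    (hφ1 : φ 1 = 1) :
    ∃ ψ : E → ℂ, IsCharacter E ψ ∧ ψ 1 = 1 ∧ ∀ x : D, ψ x = φ x := by
  classical
  obtain ⟨f, hf⟩ : ∃ f : D →* ℂˣ, ∀ y : D, ((f y : ℂˣ) : ℂ) = φ y :=
    ⟨Cfsg.Agent.Lib.helper3.Lin.toUnitsHom hφ hφ1,
      fun y => Cfsg.Agent.Lib.helper3.Lin.toUnitsHom_apply hφ hφ1 y⟩
  obtain ⟨ι, hι⟩ : ∃ ι : D →* Abelianization E, ι = (Abelianization.of).comp D.subtype :=
    ⟨_, rfl⟩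
  have hinj : Function.Injective ι := by
    rw [injective_iff_map_eq_one]
    intro a ha
    rw [hι, MonoidHom.comp_apply, ← MonoidHom.mem_ker, Abelianization.ker_of] at ha
    exact Subtype.ext (hD a a.2 ha)
  obtain ⟨f', hf'⟩ : ∃ f' : ι.range →* ℂˣ, f' = f.comp (MonoidHom.ofInjective hinj).symm.toMonoidHom :=
    ⟨_, rfl⟩
  haveI : NeZero ((Monoid.exponent (Abelianization E) : ℕ) : ℂ) := by
    constructor
    have : Monoid.exponent (Abelianization E) ≠ 0 := Monoid.exponent_ne_zero_of_finite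
    exact_mod_cast this
  obtain ⟨F, hF⟩ := MonoidHom.domRestrict_surjective (M := ℂ) ι.range f'
  refine ⟨fun e => ((F (Abelianization.of e) : ℂˣ) : ℂ),
    Cfsg.Agent.Lib.helper3.Lin.isCharacter_of_hom (F.comp Abelianization.of), by simp, ?_⟩
  intro x
  have h1 : F (Abelianization.of (x : E)) = f' ⟨ι x, ⟨x, rfl⟩⟩ := by
    rw [← hF, MonoidHom.domRestrictHom_apply, MonoidHom.domRestrict_apply, hι]
    rfl
  show ((F (Abelianization.of (x : E)) : ℂˣ) : ℂ) = φ x
  rw [h1, hf', MonoidHom.comp_apply, ← hf x]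
  congr 2
  have : (⟨ι x, ⟨x, rfl⟩⟩ : ι.range) = MonoidHom.ofInjective hinj x := rfl
  rw [this]
  exact (MonoidHom.ofInjective hinj).symm_apply_apply x

end Cfsg.Agent.Lib.helper3.Ext826
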