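import Mathlib
import Cfsg.Prelude.Def_Characters
import Cfsg.Agent.Lib.helper3.Ext826a

set_option autoImplicit false
set_option linter.style.haveILetI false
set_option linter.unusedSectionVars false

/-!
# Extension of invariant characters when a Sylow subgroup is well behaved: elementary groups
-/

namespace Cfsg.Agent.Lib.helper3.Ext826

open Cfsg
open scoped ComplexConjugate commutatorElement

theorem commutatorElement_mul_central_left {E : Type*} [Group E] (a b c : E)
    (hc : c ∈ Subgroup.center E) : ⁅a * c, b⁆ = ⁅a, b⁆ := by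
  have h := Subgroup.mem_center_iff.1 hc
  rw [commutatorElement_def, commutatorElement_def, mul_inv_rev, mul_assoc a c b, ← h b]
  group

theorem commutatorElement_mul_central_right {E : Type*} [Group E] (a b c : E)
    (hc : c ∈ Subgroup.center E) : ⁅a, b * c⁆ = ⁅a, b⁆ := by
  have h := Subgroup.mem_center_iff.1 hc
  rw [commutatorElement_def, commutatorElement_def, mul_inv_rev, mul_assoc a (b * c),
    mul_assoc b c, ← h a⁻¹]
  group

/-- In a `p`-elementary group every commutator is a commutator of elements of a `p`-subgroup. -/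
theorem exists_pSubgroup_commutator {E : Type*} [Group E] [Finite E] (p : ℕ) [hp : Fact p.Prime]
    (hE : IsElementary p E) :
    ∃ Q : Subgroup E, IsPGroup p Q ∧ ∀ a b : E, ∃ q₁ ∈ Q, ∃ q₂ ∈ Q, ⁅a, b⁆ = ⁅q₁, q₂⁆ := by
  classical
  obtain ⟨x, hxc, hcop, k, hk⟩ := hE
  obtain ⟨C, hC⟩ : ∃ C : Subgroup E, C = Subgroup.zpowers x := ⟨_, rfl⟩
  have hCle : C ≤ Subgroup.center E := by
    rw [hC, Subgroup.zpowers_le]
    exact hxc
  haveI hCn : C.Normal := by
    constructor
    intro n hn g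
    have h := Subgroup.mem_center_iff.1 (hCle hn) g
    rw [h, mul_inv_cancel_right]
    exact hn
  have hCcard : Nat.card C = orderOf x := by
    rw [hC]
    exact Nat.card_zpowers x
  have hCcop : Nat.Coprime (Nat.card C) p := by
    rw [hCcard]
    exact hcop
  obtain ⟨Q₀⟩ := (inferInstance : Nonempty (Sylow p E))
  have hEcard : Nat.card C * p ^ k = Nat.card E := by
    rw [← hk, ← hC]
    exact Subgroup.card_mul_index C
  obtain ⟨j, hj⟩ := (IsPGroup.iff_card.1 Q₀.isPGroup')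
  have hQidx : ¬ p ∣ (Q₀ : Subgroup E).index := Sylow.not_dvd_index Q₀
  have hQcard : Nat.card (Q₀ : Subgroup E) * (Q₀ : Subgroup E).index = Nat.card E :=
    Subgroup.card_mul_index _
  have hjk : p ^ k ∣ p ^ j := by
    have h1 : p ^ k ∣ p ^ j * (Q₀ : Subgroup E).index := by
      rw [← hj, hQcard, ← hEcard]
      exact dvd_mul_left _ _
    exact (Nat.Coprime.pow_left k
      ((Nat.Prime.coprime_iff_not_dvd hp.out).2 hQidx)).dvd_of_dvd_mul_right h1
  have hcopQC : Nat.Coprime (Nat.card (Q₀ : Subgroup E)) (Nat.card C) := by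
    rw [hj]
    exact (Nat.Coprime.pow_left j hCcop.symm)
  have htop : (Q₀ : Subgroup E) ⊔ C = ⊤ := by
    apply (Subgroup.card_eq_iff_eq_top _).1
    apply Nat.dvd_antisymm (Subgroup.card_subgroup_dvd_card _)
    have h1 : Nat.card (Q₀ : Subgroup E) ∣ Nat.card ↥((Q₀ : Subgroup E) ⊔ C) :=
      Subgroup.card_dvd_of_le le_sup_left
    have h2 : Nat.card C ∣ Nat.card ↥((Q₀ : Subgroup E) ⊔ C) :=
      Subgroup.card_dvd_of_le le_sup_right
    have h3 := Nat.Coprime.mul_dvd_of_dvd_of_dvd hcopQC h1 h2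
    have h4 : Nat.card E ∣ Nat.card (Q₀ : Subgroup E) * Nat.card C := by
      rw [← hEcard, hj, mul_comm]
      exact Nat.mul_dvd_mul_right hjk _
    exact h4.trans h3
  have hdecomp : ∀ e : E, ∃ q ∈ (Q₀ : Subgroup E), ∃ c ∈ C, e = q * c := by
    intro e
    have he : e ∈ ((Q₀ : Subgroup E) ⊔ C : Subgroup E) := by
      rw [htop]
      exact Subgroup.mem_top e
    rw [← SetLike.mem_coe, Subgroup.mul_normal] at he
    obtain ⟨q, hq, c, hc, rfl⟩ := Set.mem_mul.1 he
    exact ⟨q, hq, c, hc, rfl⟩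
  refine ⟨Q₀, Q₀.isPGroup', ?_⟩
  intro a b
  obtain ⟨q₁, hq₁, c₁, hc₁, rfl⟩ := hdecomp a
  obtain ⟨q₂, hq₂, c₂, hc₂, rfl⟩ := hdecomp b
  refine ⟨q₁, hq₁, q₂, hq₂, ?_⟩
  rw [commutatorElement_mul_central_left _ _ _ (hCle hc₁),
    commutatorElement_mul_central_right _ _ _ (hCle hc₂)]

variable {G : Type*} [Group G]

/-- A `p`-elementary subgroup meets the normal subgroup trivially inside its commutator subgroup
as soon as this holds for a Sylow `p`-subgroup. -/
theorem eq_one_of_mem_commutator_elementary [Finite G] (p : ℕ) [hp : Fact p.Prime]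
    (N : Subgroup G) [hN : N.Normal] (P : Sylow p G)
    (hP : ∀ x ∈ (P : Subgroup G) ⊓ N, x ∈ ⁅(P : Subgroup G), (P : Subgroup G)⁆ → x = 1)
    (E : Subgroup G) (hE : IsElementary p E) (y : E) (hyN : (y : G) ∈ N)
    (hyc : y ∈ commutator E) : y = 1 := by
  classical
  obtain ⟨Q₀, hQ₀, hcomm⟩ := exists_pSubgroup_commutator p hE
  have h1 : commutator E ≤ ⁅Q₀, Q₀⁆ := by
    rw [commutator_def, Subgroup.commutator_le]
    intro a _ b _
    obtain ⟨q₁, hq₁, q₂, hq₂, h⟩ := hcomm a b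
    rw [h]
    exact Subgroup.commutator_mem_commutator hq₁ hq₂
  obtain ⟨Q, hQ⟩ : ∃ Q : Subgroup G, Q = Q₀.map E.subtype := ⟨_, rfl⟩
  have hQp : IsPGroup p Q := by
    rw [hQ]
    exact hQ₀.map E.subtype
  obtain ⟨Q', hQ'⟩ := hQp.exists_le_sylow
  obtain ⟨g, hg⟩ := MulAction.exists_smul_eq G P Q'
  have h2 : (y : G) ∈ ⁅Q, Q⁆ := by
    rw [hQ, ← Subgroup.map_commutator]
    exact ⟨y, h1 hyc, rfl⟩
  have h3 : ⁅Q, Q⁆ ≤ ⁅(Q' : Subgroup G), (Q' : Subgroup G)⁆ := Subgroup.commutator_mono hQ' hQ'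
  have h4 : (Q' : Subgroup G) = (P : Subgroup G).map (MulAut.conj g).toMonoidHom := by
    rw [← hg, Sylow.coe_subgroup_smul, Subgroup.pointwise_smul_def]
    rfl
  have h5 := h3 h2
  rw [h4, ← Subgroup.map_commutator] at h5
  obtain ⟨z, hz, hzy⟩ := h5
  have hcP : ⁅(P : Subgroup G), (P : Subgroup G)⁆ ≤ (P : Subgroup G) := by
    rw [Subgroup.commutator_le]
    intro a ha b hb
    exact Subgroup.mul_mem _ (Subgroup.mul_mem _ (Subgroup.mul_mem _ ha hb)
      (Subgroup.inv_mem _ ha)) (Subgroup.inv_mem _ hb)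
  have hzy' : g * z * g⁻¹ = (y : G) := hzy
  have hzN : z ∈ N := by
    have h6 : z = g⁻¹ * (y : G) * g⁻¹⁻¹ := by
      rw [← hzy']
      group
    rw [h6]
    exact hN.conj_mem _ hyN _
  have hz1 : z = 1 := hP z ⟨hcP hz, hzN⟩ hz
  apply Subtype.ext
  rw [← hzy', hz1]
  simp

end Cfsg.Agent.Lib.helper3.Ext826
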