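import Mathlib
import Cfsg.Prelude.Def_Characters
import Cfsg.Agent.Lib.helper3.Ext826b
import Cfsg.Agent.Lib.helper3.SolvRam
import Cfsg.Agent.Lib.helper3.FullyRam
import Cfsg.Agent.Lib.helper3.Irr10

set_option autoImplicit false
set_option linter.style.haveILetI false
set_option linter.unusedSectionVars false

/-!
# Extension of invariant characters when a Sylow subgroup is well behaved: conclusion
-/

namespace Cfsg.Agent.Lib.helper3.Ext826

open Cfsg Module Cfsg.Agent.Lib.helper3.IndFun Cfsg.Agent.Lib.helper3.CharBasic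
open Cfsg.Agent.Lib.helper3.Irr Cfsg.Agent.Lib.helper3.PRes Cfsg.Agent.Lib.helper3.BrauerInd
open Cfsg.Agent.Lib.helper3.DadeDet
open scoped ComplexConjugate commutatorElement

universe u

variable {G : Type u} [Group G]

theorem extension_826 [Fintype G] (p : ℕ) [hp : Fact p.Prime] (N : Subgroup G) [hN : N.Normal]
    (k : ℕ) (hind : N.index = p ^ k) (P : Sylow p G)
    (hcent : ∀ x ∈ (P : Subgroup G) ⊓ N, ∀ y ∈ (P : Subgroup G), x * y = y * x)
    (hlin : ∀ lam : ↥((P : Subgroup G) ⊓ N) → ℂ, IsCharacter ↥((P : Subgroup G) ⊓ N) lam →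
      lam 1 = 1 → ∃ μ : ↥(P : Subgroup G) → ℂ, IsCharacter ↥(P : Subgroup G) μ ∧ μ 1 = 1 ∧
        ∀ x : ↥((P : Subgroup G) ⊓ N), μ ⟨(x : G), x.2.1⟩ = lam x)
    (ϑ : N → ℂ) (hϑ : IsIrrCharacter N ϑ)
    (hinv : ∀ (g : G) (n : N), ϑ ⟨g * n * g⁻¹, hN.conj_mem (n : G) n.2 g⟩ = ϑ n) :
    ∃ χ : G → ℂ, IsIrrCharacter G χ ∧ ∀ n : N, χ n = ϑ n := by
  classical
  letI : Fintype N := Fintype.ofFinite N
  obtain ⟨E, φ, hE, hEN, hφ, hφinv, m, hm, hinner⟩ := dade_detection p N k hind ϑ hϑ hinv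
  letI : Fintype E := Fintype.ofFinite E
  letI : Fintype ↥(E ⊓ N) := Fintype.ofFinite _
  letI : Fintype (N.subgroupOf E) := Fintype.ofFinite _
  have hϑc := isCharacter_of_isIrrCharacter hϑ
  have hB := eq_one_of_mem_commutator (P : Subgroup G) ((P : Subgroup G) ⊓ N) inf_le_left
    hcent hlin
  have hC := eq_one_of_mem_commutator_elementary p N P (fun x hx hxc => hB x hx hxc) E hE
  -- `E ⊓ N` is abelian
  have hDcomm : ∀ a b : N.subgroupOf E, a * b = b * a := by
    intro a b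
    have h0 : ⁅(a : E), (b : E)⁆ = ((⁅a, b⁆ : N.subgroupOf E) : E) :=
      (map_commutatorElement (N.subgroupOf E).subtype a b).symm
    have h1 : ⁅(a : E), (b : E)⁆ = 1 := by
      apply hC
      · rw [h0]
        exact Subgroup.mem_subgroupOf.1 (⁅a, b⁆ : N.subgroupOf E).2
      · rw [commutator_def]
        exact Subgroup.commutator_mem_commutator (Subgroup.mem_top _) (Subgroup.mem_top _)
    exact Subtype.ext (commutatorElement_eq_one_iff_mul_comm.1 h1)
  obtain ⟨φ', hφ'def⟩ : ∃ φ' : N.subgroupOf E → ℂ, φ' = fun y => φ (eqv E N y) := ⟨_, rfl⟩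
  have hφ' : IsIrrCharacter (N.subgroupOf E) φ' := by
    rw [hφ'def]
    exact isIrrCharacter_comp_mulEquiv (eqv E N) hφ
  have hφ'1 : φ' 1 = 1 := apply_one_eq_one_of_comm hDcomm hφ'
  obtain ⟨ψ, hψ, hψ1, hψD⟩ := exists_linear_extension (N.subgroupOf E)
    (fun x hx hxc => hC x (Subgroup.mem_subgroupOf.1 hx) hxc) φ'
    (isCharacter_of_isIrrCharacter hφ') hφ'1
  have hψφ : (fun x : ↥(E ⊓ N) => ψ ⟨x, x.2.1⟩) = φ := by
    funext x
    have h1 := hψD ((eqv E N).symm x)
    rw [hφ'def] at h1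
    simp only [MulEquiv.apply_symm_apply] at h1
    exact h1
  -- the induced character
  obtain ⟨Ψ, hΨdef⟩ : ∃ Ψ : G → ℂ, Ψ = indFun E ψ := ⟨_, rfl⟩
  have hΨ : IsCharacter G Ψ := by
    rw [hΨdef]
    exact isCharacter_indFun E ψ hψ
  have hkey : classInner (fun n : N => Ψ n) ϑ = (m : ℂ) := by
    rw [hΨdef, key_formula' N ϑ hinv E ψ, ratio_eq_index, hEN, Subgroup.index_top, Nat.cast_one,
      one_mul, hψφ, ← classInner_conj_symm, ← innerD_eq, hinner, Complex.conj_natCast]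
  -- decomposition
  have hres : ∀ χ : IrrCharacter G, ∃ e : ℕ, classInner (fun n : N => (χ : G → ℂ) n) ϑ = e := by
    intro χ
    exact exists_nat_classInner_of_isCharacter
      (isCharacter_restrict (isCharacter_of_isIrrCharacter χ.2) N) ⟨ϑ, hϑ⟩
  choose ef hef using hres
  have hmult : ∀ χ : IrrCharacter G, ∃ a : ℕ, classInner Ψ (χ : G → ℂ) = a :=
    fun χ => exists_nat_classInner_of_isCharacter hΨ χ
  choose af haf using hmult
  have hsum : (m : ℂ) = ∑ χ : IrrCharacter G, ((af χ * ef χ : ℕ) : ℂ) := by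
    rw [← hkey]
    have h1 : (fun n : N => Ψ n)
        = ∑ χ : IrrCharacter G, classInner Ψ (χ : G → ℂ) • (fun n : N => (χ : G → ℂ) n) := by
      funext n
      have h2 := congrFun (isCharacter_eq_sum_classInner hΨ) (n : G)
      rw [h2]
      simp only [Finset.sum_apply, Pi.smul_apply]
    rw [h1, classInner_sum_left]
    apply Finset.sum_congr rfl
    intro χ _
    rw [classInner_smul_left, haf, hef]
    push_cast
    rfl
  have hsumN : m = ∑ χ : IrrCharacter G, af χ * ef χ := by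
    have : (m : ℂ) = ((∑ χ : IrrCharacter G, af χ * ef χ : ℕ) : ℂ) := by
      rw [hsum]
      push_cast
      rfl
    exact_mod_cast this
  obtain ⟨χ, hχp⟩ : ∃ χ : IrrCharacter G, ¬ p ∣ af χ * ef χ := by
    by_contra hcon
    push Not at hcon
    apply hm
    rw [hsumN]
    exact Finset.dvd_sum (fun χ _ => hcon χ)
  have hpe : ¬ p ∣ ef χ := fun h => hχp (Dvd.dvd.mul_left h _)
  have he0 : ef χ ≠ 0 := by
    intro h
    apply hpe
    rw [h]
    exact dvd_zero p
  have hcon : classInner (fun n : N => (χ : G → ℂ) n) ϑ ≠ 0 := by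
    rw [hef]
    exact_mod_cast he0
  have hrestr := restrict_eq_smul_of_invariant N (χ : G → ℂ) χ.2 ϑ hϑ hcon hinv
  rw [hef] at hrestr
  obtain ⟨c, hcpos, hc⟩ := exists_pos_nat_apply_one χ.2
  obtain ⟨d, hdpos, hd⟩ := exists_pos_nat_apply_one hϑ
  have hsolv : Group.IsSolvable (G ⧸ N) := by
    have hcard : Nat.card (G ⧸ N) = p ^ k := by
      rw [← hind]
      rfl
    have hpg : IsPGroup p (G ⧸ N) := IsPGroup.of_card hcard
    haveI : Group.IsNilpotent (G ⧸ N) := hpg.isNilpotent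
    infer_instance
  have hdvd : c ∣ d * N.index :=
    Cfsg.Agent.Lib.helper3.SolvRam.degree_dvd_aux (Nat.card G) G N rfl hsolv (χ : G → ℂ) ϑ χ.2 hϑ
      hcon c d hc hd
  have hced : c = ef χ * d := by
    have h1 := congrFun hrestr (1 : N)
    simp only [Pi.smul_apply, smul_eq_mul] at h1
    rw [hd] at h1
    have h2 : ((1 : N) : G) = 1 := rfl
    rw [h2, hc] at h1
    exact_mod_cast h1
  have hedvd : ef χ ∣ p ^ k := by
    rw [hced, hind, mul_comm d] at hdvd
    exact Nat.dvd_of_mul_dvd_mul_right hdpos hdvd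
  have he1 : ef χ = 1 := by
    obtain ⟨j, _, hj⟩ := (Nat.dvd_prime_pow hp.out).1 hedvd
    rcases Nat.eq_zero_or_pos j with h0 | hpos
    · rw [hj, h0, pow_zero]
    · exfalso
      apply hpe
      rw [hj]
      exact dvd_pow_self p hpos.ne'
  refine ⟨(χ : G → ℂ), χ.2, ?_⟩
  intro n
  have h1 := congrFun hrestr n
  rw [he1] at h1
  simpa using h1

end Cfsg.Agent.Lib.helper3.Ext826
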