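import Mathlib
import Cfsg.Prelude.Def_Characters
import Cfsg.Agent.Lib.helper3.Extraspecial
import Cfsg.Agent.Lib.helper3.Lin

set_option autoImplicit false
set_option linter.style.haveILetI false
set_option linter.unusedSectionVars false

/-!
# Induced characters of extraspecial groups
-/

namespace Cfsg.Agent.Lib.helper3.Central

open Cfsg Module Cfsg.Agent.Lib.helper3.IndFun Cfsg.Agent.Lib.helper3.CharBasic
open Cfsg.Agent.Lib.helper3.Irr Cfsg.Agent.Lib.helper3.Cyclo Cfsg.Agent.Lib.helper3.Lin
open scoped ComplexConjugate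

variable {G : Type*} [Group G]

theorem extraspecial_induced [Fintype G] (p n : ℕ) [hp : Fact p.Prime]
    (hcomm : commutator G = Subgroup.center G) (hZ : Nat.card (Subgroup.center G) = p)
    (hcard : Nat.card G = p ^ (2 * n + 1)) (A : Subgroup G)
    (hA : Nat.card A = p ^ (n + 1)) (lam : A → ℂ) (hlam : IsCharacter A lam ∧ lam 1 = 1)
    (hZA : ∃ a : A, (a : G) ∈ Subgroup.center G ∧ lam a ≠ 1) :
    IsIrrCharacter G (indFun A lam) ∧ ∀ x : G, x ∉ Subgroup.center G → indFun A lam x = 0 := by
  classical
  letI : Fintype A := Fintype.ofFinite A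
  letI : Fintype (Subgroup.center G) := Fintype.ofFinite _
  obtain ⟨hlamc, hlam1⟩ := hlam
  obtain ⟨a, haZ, halam⟩ := hZA
  have hmul : ∀ x y : A, lam (x * y) = lam x * lam y := map_mul_of_apply_one_eq_one hlamc hlam1
  -- `Z ≤ A`
  have ha1 : (⟨(a : G), haZ⟩ : Subgroup.center G) ≠ 1 := by
    intro h
    apply halam
    have : (a : G) = 1 := congrArg Subtype.val h
    have : a = 1 := Subtype.ext this
    rw [this, hlam1]
  have hZleA : Subgroup.center G ≤ A := by
    intro z hz
    have : (⟨z, hz⟩ : Subgroup.center G) ∈ Subgroup.zpowers (⟨(a : G), haZ⟩ : Subgroup.center G) :=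
      mem_zpowers_of_prime_card hZ ha1
    obtain ⟨k, hk⟩ := Subgroup.mem_zpowers_iff.mp this
    have hk' : (a : G) ^ k = z := by
      have := congrArg Subtype.val hk
      simpa using this
    rw [← hk']
    exact A.zpow_mem a.2 k
  -- the restriction of `lam` to the centre as a homomorphism
  let μ : Subgroup.center G →* ℂ :=
    { toFun := fun z => lam ⟨(z : G), hZleA z.2⟩
      map_one' := hlam1
      map_mul' := fun x y => hmul ⟨(x : G), hZleA x.2⟩ ⟨(y : G), hZleA y.2⟩ }
  have hμ : ∀ z : Subgroup.center G, z ≠ 1 → μ z ≠ 1 := by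
    apply hom_ne_one_of_prime_card hZ μ
    exact ⟨⟨(a : G), haZ⟩, halam⟩
  -- multiplication by central elements
  have hext : ∀ (w : G) (z : Subgroup.center G),
      extendByZero A lam (w * z) = extendByZero A lam w * μ z := by
    intro w z
    by_cases hw : w ∈ A
    · have hwz : w * (z : G) ∈ A := A.mul_mem hw (hZleA z.2)
      rw [extendByZero_mem A lam hw, extendByZero_mem A lam hwz]
      exact hmul ⟨w, hw⟩ ⟨(z : G), hZleA z.2⟩
    · have hwz : w * (z : G) ∉ A := by
        intro h
        apply hw
        have : w = w * (z : G) * (z : G)⁻¹ := by group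
        rw [this]
        exact A.mul_mem h (A.inv_mem (hZleA z.2))
      rw [extendByZero_not_mem A lam hw, extendByZero_not_mem A lam hwz, zero_mul]
  have hψz : ∀ (x : G) (z : Subgroup.center G),
      indFun A lam (x * z) = μ z * indFun A lam x := by
    intro x z
    rw [indFun_apply, indFun_apply]
    have : ∀ y : G, extendByZero A lam (y⁻¹ * (x * z) * y)
        = extendByZero A lam (y⁻¹ * x * y) * μ z := by
      intro y
      have hc : y⁻¹ * (x * (z : G)) * y = (y⁻¹ * x * y) * (z : G) := by
        have := Subgroup.mem_center_iff.mp z.2 y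
        calc y⁻¹ * (x * (z : G)) * y = y⁻¹ * x * ((z : G) * y) := by group
          _ = y⁻¹ * x * (y * (z : G)) := by rw [this]
          _ = (y⁻¹ * x * y) * (z : G) := by group
      rw [hc, hext]
    simp_rw [this]
    rw [← Finset.sum_mul]
    ring
  have hcf := indFun_isClassFunction A lam
  have hvan : ∀ x : G, x ∉ Subgroup.center G → indFun A lam x = 0 := by
    intro x hx
    obtain ⟨y, z, hz, hyz⟩ := exists_conj_eq_mul_commutator hcomm x hx
    have h1 : indFun A lam (y⁻¹ * x * y) = indFun A lam x := by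
      have := hcf x y⁻¹
      rw [inv_inv] at this
      exact this
    rw [hyz, hψz] at h1
    have h2 : (μ z - 1) * indFun A lam x = 0 := by linear_combination h1
    rcases mul_eq_zero.mp h2 with h | h
    · exact absurd (sub_eq_zero.mp h) (hμ z hz)
    · exact h
  refine ⟨?_, hvan⟩
  -- irreducibility
  have hchar := isCharacter_indFun A lam hlamc
  apply isIrrCharacter_of_classInner_self_eq_one hchar
  rw [classInner_apply]
  rw [← Finset.sum_filter_add_sum_filter_not Finset.univ (fun g : G => g ∈ Subgroup.center G)]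
  have h2 : ∑ g ∈ Finset.univ.filter (fun g : G => ¬ g ∈ Subgroup.center G),
      indFun A lam g * conj (indFun A lam g) = 0 := by
    apply Finset.sum_eq_zero
    intro g hg
    rw [hvan g (Finset.mem_filter.mp hg).2, zero_mul]
  rw [h2, add_zero, Finset.sum_subtype (p := fun g : G => g ∈ Subgroup.center G) _ (by simp)]
  have hidx : A.index = p ^ n := by
    have h1 := A.card_mul_index
    rw [hA, hcard] at h1
    have : p ^ (n + 1) * A.index = p ^ (n + 1) * p ^ n := by rw [h1]; ring
    exact Nat.eq_of_mul_eq_mul_left (Nat.pow_pos hp.out.pos) this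
  have h3 : ∀ z : Subgroup.center G, indFun A lam (z : G) * conj (indFun A lam (z : G))
      = ((p ^ n : ℕ) : ℂ) ^ 2 := by
    intro z
    have h4 : indFun A lam (z : G) = μ z * ((p ^ n : ℕ) : ℂ) := by
      have := hψz 1 z
      rw [one_mul, indFun_apply_one, hlam1, mul_one, hidx] at this
      exact this
    have h5 : μ z * conj (μ z) = 1 := by
      have hz : (z : Subgroup.center G) ^ orderOf z = 1 := pow_orderOf_eq_one z
      have h6 : μ z ^ orderOf z = 1 := by rw [← map_pow, hz, map_one]
      have h7 : ‖μ z‖ = 1 := norm_eq_one_of_pow_eq_one (orderOf_pos z) h6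
      rw [Complex.mul_conj, Complex.normSq_eq_norm_sq, h7]
      simp
    rw [h4, map_mul, Complex.conj_natCast]
    calc μ z * ((p ^ n : ℕ) : ℂ) * (conj (μ z) * ((p ^ n : ℕ) : ℂ))
        = (μ z * conj (μ z)) * ((p ^ n : ℕ) : ℂ) ^ 2 := by ring
      _ = ((p ^ n : ℕ) : ℂ) ^ 2 := by rw [h5, one_mul]
  simp_rw [h3]
  rw [Finset.sum_const, Finset.card_univ, nsmul_eq_mul, ← Nat.card_eq_fintype_card, hZ, hcard]
  push_cast
  have hpne : (p : ℂ) ≠ 0 := by exact_mod_cast hp.out.ne_zero
  field_simp
  ring

end Cfsg.Agent.Lib.helper3.Central
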