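import Mathlib
import Cfsg.Prelude.Def_Characters
import Cfsg.Agent.Lib.helper3.Fr1
import Cfsg.Agent.Lib.helper3.Lagr
import Cfsg.Agent.Lib.helper3.GlFpf2
import Cfsg.Agent.Lib.helper3.AbelianInertia
import Cfsg.Agent.Lib.helper3.Gallagher3
import Cfsg.Agent.Lib.helper3.CycExt2
import Cfsg.Agent.S0868

/-!
# Fully ramified characters under a Frobenius action of a cyclic quotient
-/

set_option autoImplicit false
set_option linter.style.haveILetI false
set_option linter.unusedSectionVars false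

namespace Cfsg.Agent.Lib.helper3.Fr

open Cfsg Module Cfsg.Agent.Lib.helper3.Irr Cfsg.Agent.Lib.helper3.CharBasic
open Cfsg.Agent.Lib.helper3.IndFun Cfsg.Agent.Lib.helper3.Lagr
open scoped ComplexConjugate

variable {Γ : Type*} [Group Γ] [Fintype Γ]

/-- The norm of an extension on a coset of `N` outside `G`. -/
theorem sum_coset_N (G N : Subgroup Γ) [hG : G.Normal] [hN : N.Normal] [Fintype G] [Fintype N]
    (hNG : N ≤ G)
    (hfrob : ∀ x : Γ, x ∉ G → ∀ g : Γ, g ∈ G → x * g * x⁻¹ * g⁻¹ ∈ N → g ∈ N)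
    (ξ : Γ → ℂ) (hξ : IsIrrCharacter Γ ξ) (hξG : IsIrrCharacter G (fun g : G => ξ g))
    (y : Γ) (hy : y ∉ G) :
    ∑ n : N, ξ ((n : Γ) * y) * conj (ξ ((n : Γ) * y)) = (Nat.card N : ℂ) := by
  have hcf := isClassFunction_of_isCharacter (isCharacter_of_isIrrCharacter hξ)
  have h1 := (Cfsg.Agent.S0868.result G ξ hξ hξG ξ hξ _ rfl).2.2 rfl
  have h2 := congrFun h1 y
  have hG0 : (Nat.card G : ℂ) ≠ 0 := card_ne_zero_complex G
  have hN0 : (Nat.card N : ℂ) ≠ 0 := card_ne_zero_complex N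
  have h3 : ∑ g : G, ξ ((g : Γ) * y) * conj (ξ ((g : Γ) * y)) = (Nat.card G : ℂ) := by
    have h2' : (Nat.card G : ℂ) * ((Nat.card G : ℂ)⁻¹
        * ∑ g : G, ξ ((g : Γ) * y) * conj (ξ ((g : Γ) * y))) = (Nat.card G : ℂ) * 1 := by
      rw [h2]
    rw [← mul_assoc, mul_inv_cancel₀ hG0, one_mul, mul_one] at h2'
    exact h2'
  have h4 := sum_G_eq G N hNG hfrob (fun z => ξ z * conj (ξ z)) (by
    intro x a
    show ξ (a * x * a⁻¹) * conj (ξ (a * x * a⁻¹)) = ξ x * conj (ξ x)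
    rw [hcf x a]) y hy
  rw [h3] at h4
  have h5 : (Nat.card G : ℂ) * (Nat.card N : ℂ)
      = (Nat.card G : ℂ) * ∑ n : N, ξ ((n : Γ) * y) * conj (ξ ((n : Γ) * y)) := by
    rw [← h4]
    ring
  exact (mul_left_cancel₀ hG0 h5).symm

/-- The norm of the restriction of an extension to a complement-like subgroup `H`. -/
theorem sum_H (G N H : Subgroup Γ) [hG : G.Normal] [hN : N.Normal] [Fintype G] [Fintype N]
    [Fintype H] (hNG : N ≤ G) (hNH : N ≤ H) (hHG : H ⊓ G = N)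
    (hfrob : ∀ x : Γ, x ∉ G → ∀ g : Γ, g ∈ G → x * g * x⁻¹ * g⁻¹ ∈ N → g ∈ N)
    (ξ : Γ → ℂ) (hξ : IsIrrCharacter Γ ξ) (hξG : IsIrrCharacter G (fun g : G => ξ g))
    (θ : N → ℂ) (hθ : IsIrrCharacter N θ) (e : ℕ) (hξN : ∀ n : N, ξ n = (e : ℂ) * θ n) :
    ∑ h : H, ξ (h : Γ) * conj (ξ (h : Γ))
      = (e : ℂ) ^ 2 * (Nat.card N : ℂ) + ((Nat.card H : ℂ) - (Nat.card N : ℂ)) := by
  classical
  have hN0 : (Nat.card N : ℂ) ≠ 0 := card_ne_zero_complex N
  -- translate by elements of `N`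
  have h1 : ∀ n : N, ∑ h : H, ξ (h : Γ) * conj (ξ (h : Γ))
      = ∑ h : H, ξ ((n : Γ) * h) * conj (ξ ((n : Γ) * h)) := by
    intro n
    exact (Equiv.sum_comp (Equiv.mulLeft (⟨n, hNH n.2⟩ : H))
      (fun h : H => ξ (h : Γ) * conj (ξ (h : Γ)))).symm
  have h2 : (Nat.card N : ℂ) * ∑ h : H, ξ (h : Γ) * conj (ξ (h : Γ))
      = ∑ h : H, ∑ n : N, ξ ((n : Γ) * h) * conj (ξ ((n : Γ) * h)) := by
    rw [Finset.sum_comm, ← Finset.sum_congr rfl (fun n _ => h1 n), Finset.sum_const,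
      Finset.card_univ, nsmul_eq_mul, Nat.card_eq_fintype_card]
  -- the inner sums
  have hin : ∀ h : H, (h : Γ) ∈ N →
      ∑ n : N, ξ ((n : Γ) * h) * conj (ξ ((n : Γ) * h)) = (e : ℂ) ^ 2 * (Nat.card N : ℂ) := by
    intro h hh
    have h3 : ∑ n : N, ξ ((n : Γ) * h) * conj (ξ ((n : Γ) * h))
        = ∑ n : N, ξ (n : Γ) * conj (ξ (n : Γ)) :=
      Equiv.sum_comp (Equiv.mulRight (⟨h, hh⟩ : N)) (fun n : N => ξ (n : Γ) * conj (ξ (n : Γ)))
    rw [h3]
    have h4 := irr_classInner_self hθ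
    rw [classInner_apply] at h4
    have h5 : ∑ n : N, θ n * conj (θ n) = (Nat.card N : ℂ) := by
      have h6 : (Nat.card N : ℂ) * ((Nat.card N : ℂ)⁻¹ * ∑ n : N, θ n * conj (θ n))
          = (Nat.card N : ℂ) * 1 := by rw [h4]
      rw [← mul_assoc, mul_inv_cancel₀ hN0, one_mul, mul_one] at h6
      exact h6
    rw [← h5, Finset.mul_sum]
    apply Finset.sum_congr rfl
    intro n _
    rw [hξN n, map_mul, Complex.conj_natCast]
    ring
  have hout : ∀ h : H, (h : Γ) ∉ N →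
      ∑ n : N, ξ ((n : Γ) * h) * conj (ξ ((n : Γ) * h)) = (Nat.card N : ℂ) := by
    intro h hh
    apply sum_coset_N G N hNG hfrob ξ hξ hξG
    intro hG'
    apply hh
    rw [← hHG]
    exact ⟨h.2, hG'⟩
  have h3 : ∑ h : H, ∑ n : N, ξ ((n : Γ) * h) * conj (ξ ((n : Γ) * h))
      = ∑ h : H, (if (h : Γ) ∈ N then (e : ℂ) ^ 2 * (Nat.card N : ℂ) else (Nat.card N : ℂ)) := by
    apply Finset.sum_congr rfl
    intro h _
    split_ifs with hh
    · exact hin h hh
    · exact hout h hh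
  have hcount : (Finset.univ.filter (fun h : H => (h : Γ) ∈ N)).card = Nat.card N := by
    rw [← Fintype.card_subtype, ← Nat.card_eq_fintype_card]
    exact Nat.card_congr (Subgroup.subgroupOfEquivOfLe hNH).toEquiv
  have hcount2 : (Finset.univ.filter (fun h : H => ¬ (h : Γ) ∈ N)).card
      = Nat.card H - Nat.card N := by
    have := Finset.card_filter_add_card_filter_not (s := (Finset.univ : Finset H))
      (fun h : H => (h : Γ) ∈ N)
    rw [hcount, Finset.card_univ, ← Nat.card_eq_fintype_card] at this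
    omega
  have hle : Nat.card N ≤ Nat.card H := Subgroup.card_le_of_le hNH
  rw [h3, Finset.sum_ite, Finset.sum_const, Finset.sum_const, hcount, hcount2] at h2
  have h4 : (Nat.card N : ℂ) * ∑ h : H, ξ (h : Γ) * conj (ξ (h : Γ))
      = (Nat.card N : ℂ) * ((e : ℂ) ^ 2 * (Nat.card N : ℂ)
        + ((Nat.card H : ℂ) - (Nat.card N : ℂ))) := by
    rw [h2, nsmul_eq_mul, nsmul_eq_mul, Nat.cast_sub hle]
    ring
  exact mul_left_cancel₀ hN0 h4

/-- The arithmetic core: a character `ψ` of `K` restricting to `e θ` on a normal subgroup `M`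
with cyclic quotient, whose norm is `(e² + m - 1)/m` with `m = |K : M|`, forces
`m ∣ e - 1` or `m ∣ e + 1`. -/
theorem cyclic_ramified {K : Type*} [Group K] [Fintype K] (M : Subgroup K) [hM : M.Normal]
    [Fintype M] (hcyc : IsCyclic (K ⧸ M)) (hm : 2 ≤ M.index)
    (θ : M → ℂ) (hθ : IsIrrCharacter M θ)
    (hinv : ∀ (g : K) (n : M), θ ⟨g * n * g⁻¹, hM.conj_mem (n : K) n.2 g⟩ = θ n)
    (ψ : K → ℂ) (hψ : IsCharacter K ψ) (e : ℕ) (hψM : ∀ n : M, ψ n = (e : ℂ) * θ n)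
    (hnorm : (M.index : ℂ) * classInner ψ ψ = (e : ℂ) ^ 2 + (M.index : ℂ) - 1) :
    (M.index : ℤ) ∣ (e : ℤ) - 1 ∨ (M.index : ℤ) ∣ (e : ℤ) + 1 := by
  classical
  letI : Fintype (K ⧸ M) := Fintype.ofFinite _
  -- the quotient is commutative
  have hQcomm : ∀ a b : K ⧸ M, a * b = b * a := by
    obtain ⟨q, hq⟩ := hcyc.exists_generator
    intro a b
    obtain ⟨i, rfl⟩ := Subgroup.mem_zpowers_iff.mp (hq a)
    obtain ⟨j, rfl⟩ := Subgroup.mem_zpowers_iff.mp (hq b)
    rw [← zpow_add, ← zpow_add, add_comm]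
  have hab : ∀ x y : K, x * y * x⁻¹ * y⁻¹ ∈ M := by
    intro x y
    rw [← QuotientGroup.eq_one_iff]
    have : ((x * y * x⁻¹ * y⁻¹ : K) : K ⧸ M)
        = (x : K ⧸ M) * (y : K ⧸ M) * (x : K ⧸ M)⁻¹ * (y : K ⧸ M)⁻¹ := by simp
    rw [this, hQcomm (x : K ⧸ M) (y : K ⧸ M)]
    group
  obtain ⟨η, hη, hηM⟩ := Cfsg.Agent.Lib.helper3.CycExt.exists_extension_of_cyclic M hcyc θ hθ hinv
  have hηc := isCharacter_of_isIrrCharacter hη
  have hηcf := isClassFunction_of_isCharacter hηc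
  have hψcf := isClassFunction_of_isCharacter hψ
  have hηMeq : (fun n : M => η n) = θ := funext hηM
  have hηMirr : IsIrrCharacter M (fun n : M => η n) := by
    rw [hηMeq]
    exact hθ
  have hgal := gallagher_inflate M η hηc (apply_one_ne_zero hη) hηMirr
  have hind : indFun M θ = ∑ β : IrrCharacter (K ⧸ M), inflate M (β : K ⧸ M → ℂ) * η := by
    have h1 := indFun_mul_restrict M (fun _ => (1 : ℂ)) η hηcf
    have h2 : ((fun _ : M => (1 : ℂ)) * fun h : M => η h) = θ := by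
      rw [hηMeq]
      funext n
      simp
    rw [h2, indFun_one_eq_sum_inflate M hab, Finset.sum_mul] at h1
    exact h1
  choose c hc using fun β : IrrCharacter (K ⧸ M) =>
    exists_nat_classInner_of_isCharacter hψ ⟨inflate M (β : K ⧸ M → ℂ) * η, hgal.1 β⟩
  -- the sum of the multiplicities
  have hsumc : ∑ β : IrrCharacter (K ⧸ M), (c β : ℂ) = (e : ℂ) := by
    have h1 : classInner ψ (indFun M θ) = ∑ β : IrrCharacter (K ⧸ M), (c β : ℂ) := by
      rw [hind, classInner_sum_right]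
      apply Finset.sum_congr rfl
      intro β _
      exact hc β
    rw [← h1, ← classInner_conj_symm, frobenius_reciprocity M θ ψ hψcf]
    have h2 : (fun h : M => ψ h) = (e : ℂ) • θ := by
      funext n
      rw [hψM n]
      rfl
    rw [h2, classInner_smul_right, irr_classInner_self hθ]
    simp
  obtain ⟨b, hb⟩ := exists_decomposition_of_isCharacter hψ
  have hB : classInner ψ ψ = ((∑ φ : IrrCharacter K, b φ ^ 2 : ℕ) : ℂ) := by
    conv_lhs => rw [hb]
    exact classInner_self_decomposition b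
  have hcb : ∀ β : IrrCharacter (K ⧸ M),
      c β = b ⟨inflate M (β : K ⧸ M → ℂ) * η, hgal.1 β⟩ := by
    intro β
    have h1 := hc β
    rw [hb] at h1
    have h2 := classInner_decomposition_left (fun φ : IrrCharacter K => (b φ : ℂ))
      ⟨inflate M (β : K ⧸ M → ℂ) * η, hgal.1 β⟩
    rw [h2] at h1
    exact_mod_cast h1.symm
  have hginj : Function.Injective (fun β : IrrCharacter (K ⧸ M) =>
      (⟨inflate M (β : K ⧸ M → ℂ) * η, hgal.1 β⟩ : IrrCharacter K)) := by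
    intro β γ hβγ
    exact hgal.2 β γ (congrArg Subtype.val hβγ)
  have hle : ∑ β : IrrCharacter (K ⧸ M), c β ^ 2 ≤ ∑ φ : IrrCharacter K, b φ ^ 2 := by
    have h1 : ∑ β : IrrCharacter (K ⧸ M), c β ^ 2
        = ∑ φ ∈ Finset.univ.image (fun β : IrrCharacter (K ⧸ M) =>
          (⟨inflate M (β : K ⧸ M → ℂ) * η, hgal.1 β⟩ : IrrCharacter K)), b φ ^ 2 := by
      rw [Finset.sum_image (fun x _ y _ hxy => hginj hxy)]
      apply Finset.sum_congr rfl
      intro β _
      rw [hcb β]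
    rw [h1]
    exact Finset.sum_le_sum_of_subset (Finset.subset_univ _)
  have hcardirr : Fintype.card (IrrCharacter (K ⧸ M)) = M.index := by
    rw [← Nat.card_eq_fintype_card, Cfsg.Agent.Lib.helper3.GlFpf.card_irr_of_comm hQcomm,
      Subgroup.index_eq_card]
  -- integer forms
  have hmB : (M.index : ℤ) * (∑ φ : IrrCharacter K, (b φ : ℤ) ^ 2)
      = (e : ℤ) ^ 2 + (M.index : ℤ) - 1 := by
    have h1 : (((M.index : ℤ) * (∑ φ : IrrCharacter K, (b φ : ℤ) ^ 2) : ℤ) : ℂ)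
        = (((e : ℤ) ^ 2 + (M.index : ℤ) - 1 : ℤ) : ℂ) := by
      push_cast
      rw [← hnorm, hB]
      push_cast
      rfl
    exact Int.cast_injective (α := ℂ) h1
  have hsumcZ : ∑ β : IrrCharacter (K ⧸ M), (c β : ℤ) = (e : ℤ) := by
    have h1 : ((∑ β : IrrCharacter (K ⧸ M), (c β : ℤ) : ℤ) : ℂ) = ((e : ℤ) : ℂ) := by
      push_cast
      exact hsumc
    exact Int.cast_injective (α := ℂ) h1
  have hleZ : ∑ β : IrrCharacter (K ⧸ M), (c β : ℤ) ^ 2 ≤ ∑ φ : IrrCharacter K, (b φ : ℤ) ^ 2 := by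
    exact_mod_cast hle
  have hm' : (2 : ℤ) ≤ (M.index : ℤ) := by exact_mod_cast hm
  have hVle : V (fun β : IrrCharacter (K ⧸ M) => (c β : ℤ)) ≤ (M.index : ℤ) - 1 := by
    unfold V
    rw [hcardirr, hsumcZ]
    nlinarith
  rcases V_eq_zero_or_ge (fun β : IrrCharacter (K ⧸ M) => (c β : ℤ))
    (by rw [hcardirr]; omega) with ⟨-, hconst⟩ | hge
  · -- constant multiplicities: impossible
    exfalso
    obtain ⟨β₀⟩ : Nonempty (IrrCharacter (K ⧸ M)) := by
      rw [← Fintype.card_pos_iff, hcardirr]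
      omega
    have he : (e : ℤ) = (M.index : ℤ) * (c β₀ : ℤ) := by
      rw [← hsumcZ, Finset.sum_congr rfl (fun β _ => hconst β β₀), Finset.sum_const,
        Finset.card_univ, hcardirr]
      simp
    have hdvd : (M.index : ℤ) ∣ 1 := by
      refine ⟨(M.index : ℤ) * (c β₀ : ℤ) ^ 2 + 1 - ∑ φ : IrrCharacter K, (b φ : ℤ) ^ 2, ?_⟩
      rw [he] at hmB
      linear_combination hmB
    have := Int.le_of_dvd one_pos hdvd
    omega
  · rw [hcardirr] at hge
    have hVeq : V (fun β : IrrCharacter (K ⧸ M) => (c β : ℤ))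
        = (Fintype.card (IrrCharacter (K ⧸ M)) : ℤ) - 1 := by
      rw [hcardirr]
      omega
    obtain ⟨β₀, k, ε, hε, hstruct⟩ := structure_of_V_eq
      (fun β : IrrCharacter (K ⧸ M) => (c β : ℤ)) (by rw [hcardirr]; exact hm) hVeq
    have he : (e : ℤ) = (M.index : ℤ) * k + ε := by
      rw [← hsumcZ, Finset.sum_congr rfl (fun β _ => hstruct β), Finset.sum_add_distrib,
        Finset.sum_const, Finset.card_univ, hcardirr, Finset.sum_ite_eq',
        if_pos (Finset.mem_univ _)]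
      simp
    rcases hε with rfl | rfl
    · left
      exact ⟨k, by rw [he]; ring⟩
    · right
      exact ⟨k, by rw [he]; ring⟩

/-- The divisibility for an extension `ξ` to `Γ` of the fully ramified character. -/
theorem frob_ramified (G N : Subgroup Γ) [hG : G.Normal] [hN : N.Normal] [Fintype G] [Fintype N]
    (hNG : N ≤ G) (hGtop : G ≠ ⊤) (hcyc : IsCyclic (Γ ⧸ G))
    (hfrob : ∀ x : Γ, x ∉ G → ∀ g : Γ, g ∈ G → x * g * x⁻¹ * g⁻¹ ∈ N → g ∈ N)
    (θ : N → ℂ) (hθ : IsIrrCharacter N θ)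
    (hinv : ∀ (x : Γ) (n : N), θ ⟨x * n * x⁻¹, hN.conj_mem n n.2 x⟩ = θ n)
    (ξ : Γ → ℂ) (hξ : IsIrrCharacter Γ ξ) (hξG : IsIrrCharacter G (fun g : G => ξ g))
    (e : ℕ) (hξN : ∀ n : N, ξ n = (e : ℂ) * θ n) :
    (G.index : ℤ) ∣ (e : ℤ) - 1 ∨ (G.index : ℤ) ∣ (e : ℤ) + 1 := by
  classical
  obtain ⟨x₀, hgen⟩ := exists_gen G hcyc
  have hx₀ : x₀ ∉ G := by
    intro hx
    apply hGtop
    rw [eq_top_iff]
    intro y _
    obtain ⟨k, hk⟩ := hgen y
    have : y = (y * (x₀ ^ k)⁻¹) * x₀ ^ k := by group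
    rw [this]
    exact G.mul_mem hk (G.zpow_mem hx k)
  obtain ⟨H, hH⟩ : ∃ H : Subgroup Γ, H = HH N x₀ := ⟨_, rfl⟩
  letI : Fintype H := Fintype.ofFinite H
  have hNH : N ≤ H := hH ▸ le_sup_left
  have hHG : H ⊓ G = N := hH ▸ HH_inf_G G N x₀ hNG hfrob hx₀
  have hrel : N.relIndex H = G.index := hH ▸ relIndex_HH G N x₀ hNG hfrob hx₀ hgen
  have hcycH : IsCyclic (H ⧸ N.subgroupOf H) := by
    subst hH
    exact isCyclic_quot N x₀
  letI : Fintype (N.subgroupOf H) := Fintype.ofFinite _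
  obtain ⟨eN, heN⟩ : ∃ eN : N.subgroupOf H ≃* N, ∀ n, ((eN n : N) : Γ) = ((n : H) : Γ) :=
    ⟨Subgroup.subgroupOfEquivOfLe hNH, fun _ => rfl⟩
  have hθH : IsIrrCharacter (N.subgroupOf H) (fun n : N.subgroupOf H => θ (eN n)) :=
    isIrrCharacter_comp_mulEquiv eN hθ
  have hinvH : ∀ (g : H) (n : N.subgroupOf H),
      (fun n : N.subgroupOf H => θ (eN n)) ⟨g * n * g⁻¹,
        (inferInstance : (N.subgroupOf H).Normal).conj_mem (n : H) n.2 g⟩
        = (fun n : N.subgroupOf H => θ (eN n)) n := by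
    intro g n
    show θ (eN _) = θ (eN n)
    rw [← hinv (g : Γ) (eN n)]
    congr 1
    apply Subtype.ext
    rw [heN]
    push_cast
    rw [heN]
  have hψ : IsCharacter H (fun h : H => ξ (h : Γ)) :=
    isCharacter_restrict (isCharacter_of_isIrrCharacter hξ) H
  have hψM : ∀ n : N.subgroupOf H, (fun h : H => ξ (h : Γ)) n
      = (e : ℂ) * (fun n : N.subgroupOf H => θ (eN n)) n := by
    intro n
    have := hξN (eN n)
    rw [heN] at this
    exact this
  have hidx : (N.subgroupOf H).index = G.index := hrel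
  have hG1 : G.index ≠ 1 := fun h => hGtop (Subgroup.index_eq_one.mp h)
  have hG0 : G.index ≠ 0 := Subgroup.index_ne_zero_of_finite
  have hm : 2 ≤ (N.subgroupOf H).index := by
    rw [hidx]
    omega
  have hcardH : Nat.card H = Nat.card N * (N.subgroupOf H).index := by
    rw [← Subgroup.card_mul_index (N.subgroupOf H),
      Nat.card_congr eN.toEquiv]
  have hnorm : ((N.subgroupOf H).index : ℂ) * classInner (fun h : H => ξ (h : Γ))
      (fun h : H => ξ (h : Γ)) = (e : ℂ) ^ 2 + ((N.subgroupOf H).index : ℂ) - 1 := by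
    rw [classInner_apply, sum_H G N H hNG hNH hHG hfrob ξ hξ hξG θ hθ e hξN, hcardH]
    have hN0 : (Nat.card N : ℂ) ≠ 0 := card_ne_zero_complex N
    have hi0 : ((N.subgroupOf H).index : ℂ) ≠ 0 := by
      rw [hidx]
      exact_mod_cast hG0
    push_cast
    field_simp
    ring
  have key := cyclic_ramified (N.subgroupOf H) hcycH hm _ hθH hinvH _ hψ e hψM hnorm
  rw [hidx] at key
  exact key

end Cfsg.Agent.Lib.helper3.Fr
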