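import Mathlib
import Cfsg.Agent.Lib.helper3.Frob

/-!
# The class number of a Frobenius group
-/

set_option autoImplicit false
set_option linter.style.haveILetI false
set_option linter.unusedSectionVars false

namespace Cfsg.Agent.Lib.helper3.FrobClass

universe u

section general

variable {X : Type*} [Group X] [Fintype X]

theorem mem_centralizer_singleton {K : Type*} [Group K] {x y : K} :
    y ∈ Subgroup.centralizer ({x} : Set K) ↔ x * y = y * x := by
  rw [Subgroup.mem_centralizer_iff]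
  simp only [Set.mem_singleton_iff, forall_eq]

/-- The number of commuting pairs as a sum of centralizer orders. -/
theorem card_comm_eq_sum :
    Nat.card { p : X × X // Commute p.1 p.2 } =
      ∑ x : X, Nat.card (Subgroup.centralizer ({x} : Set X)) := by
  classical
  rw [Nat.card_congr (Equiv.subtypeProdEquivSigmaSubtype (Commute (S := X))), Nat.card_sigma]
  apply Finset.sum_congr rfl
  intro x _
  apply Nat.card_congr
  exact Equiv.subtypeEquivRight (fun y => by
    rw [mem_centralizer_singleton]; rfl)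

theorem sum_centralizer_eq :
    ∑ x : X, Nat.card (Subgroup.centralizer ({x} : Set X)) =
      Nat.card (ConjClasses X) * Nat.card X := by
  rw [← card_comm_eq_sum, card_comm_eq_card_conjClasses_mul_card]

theorem card_centralizer_conj (g x : X) :
    Nat.card (Subgroup.centralizer ({g * x * g⁻¹} : Set X)) =
      Nat.card (Subgroup.centralizer ({x} : Set X)) := by
  apply Nat.card_congr
  refine ⟨fun y => ⟨g⁻¹ * y.1 * g, ?_⟩, fun y => ⟨g * y.1 * g⁻¹, ?_⟩, ?_, ?_⟩
  · have := mem_centralizer_singleton.mp y.2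
    rw [mem_centralizer_singleton]
    calc x * (g⁻¹ * y.1 * g) = g⁻¹ * ((g * x * g⁻¹) * y.1) * g := by group
      _ = g⁻¹ * (y.1 * (g * x * g⁻¹)) * g := by rw [this]
      _ = g⁻¹ * y.1 * g * x := by group
  · have := mem_centralizer_singleton.mp y.2
    rw [mem_centralizer_singleton]
    calc g * x * g⁻¹ * (g * y.1 * g⁻¹) = g * (x * y.1) * g⁻¹ := by group
      _ = g * (y.1 * x) * g⁻¹ := by rw [this]
      _ = g * y.1 * g⁻¹ * (g * x * g⁻¹) := by group
  · intro y; apply Subtype.ext; simp only; group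
  · intro y; apply Subtype.ext; simp only; group

end general

section frob

variable {G : Type u} [Group G] [Fintype G] (K H : Subgroup G) [hK : K.Normal]

/-- Elements of `G` as products. -/
theorem exists_mul (hKH' : K ⊔ H = ⊤) (g : G) : ∃ k ∈ K, ∃ h ∈ H, g = k * h := by
  have hg : g ∈ K ⊔ H := by rw [hKH']; exact Subgroup.mem_top g
  rw [Subgroup.mem_sup_of_normal_left] at hg
  obtain ⟨k, hk, h, hh, rfl⟩ := hg
  exact ⟨k, hk, h, hh, rfl⟩

theorem eq_one_of_mem_of_mem (hKH : K ⊓ H = ⊥) {x : G} (hxK : x ∈ K) (hxH : x ∈ H) : x = 1 := by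
  have : x ∈ K ⊓ H := Subgroup.mem_inf.mpr ⟨hxK, hxH⟩
  rw [hKH] at this
  exact Subgroup.mem_bot.mp this

/-- The centralizer in `G` of a non-identity element of `H` lies in `H`. -/
theorem centralizer_le_H (hKH : K ⊓ H = ⊥) (hKH' : K ⊔ H = ⊤)
    (hfpf : ∀ h ∈ H, h ≠ 1 → ∀ k ∈ K, h * k = k * h → k = 1) {h : G} (hh : h ∈ H) (hh1 : h ≠ 1)
    {g : G} (hg : h * g = g * h) : g ∈ H := by
  obtain ⟨k, hk, h', hh', rfl⟩ := exists_mul K H hKH' g
  -- `k h' h h'⁻¹ k⁻¹ = h`
  have h1 : k * (h' * h * h'⁻¹) * k⁻¹ = h := by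
    calc k * (h' * h * h'⁻¹) * k⁻¹ = (k * h') * h * (k * h')⁻¹ := by group
      _ = (h * (k * h')) * (k * h')⁻¹ := by rw [hg]
      _ = h := by group
  obtain ⟨h₂, hh₂⟩ : ∃ h₂ : G, h₂ = h' * h * h'⁻¹ := ⟨_, rfl⟩
  have hh₂H : h₂ ∈ H := by rw [hh₂]; exact H.mul_mem (H.mul_mem hh' hh) (H.inv_mem hh')
  rw [← hh₂] at h1
  have h2 : h * h₂⁻¹ ∈ K := by
    have : h * h₂⁻¹ = k * (h₂ * k⁻¹ * h₂⁻¹) := by rw [← h1]; group
    rw [this]
    exact K.mul_mem hk (hK.conj_mem _ (K.inv_mem hk) h₂)
  have h3 : h * h₂⁻¹ = 1 :=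
    eq_one_of_mem_of_mem K H hKH h2 (H.mul_mem hh (H.inv_mem hh₂H))
  have h4 : h₂ = h := by
    calc h₂ = (h * h₂⁻¹)⁻¹ * h := by group
      _ = h := by rw [h3]; group
  rw [h4] at h1
  have h5 : h * k = k * h := by
    calc h * k = (k * h * k⁻¹) * k := by rw [h1]
      _ = k * h := by group
  rw [hfpf h hh hh1 k hk h5, one_mul]
  exact hh'

/-- The sum of the centralizer orders over `K`. -/
theorem sum_K (hKH' : K ⊔ H = ⊤)
    (hfpf : ∀ h ∈ H, h ≠ 1 → ∀ k ∈ K, h * k = k * h → k = 1) [Fintype K] :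
    ∑ k : K, Nat.card (Subgroup.centralizer ({(k : G)} : Set G)) + Nat.card K =
      Nat.card (ConjClasses K) * Nat.card K + Nat.card G := by
  classical
  have hcent := Cfsg.Agent.Lib.helper3.Irr.centralizer_le_of_frobenius K H hKH' hfpf
  rw [← sum_centralizer_eq]
  have hterm : ∀ k : K, k ≠ 1 → Nat.card (Subgroup.centralizer ({(k : G)} : Set G)) =
      Nat.card (Subgroup.centralizer ({k} : Set K)) := by
    intro k hk1
    have hk1' : (k : G) ≠ 1 := fun h => hk1 (Subtype.ext h)
    have hle := hcent (k : G) k.2 hk1'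
    apply Nat.card_congr
    refine ⟨fun y => ⟨⟨y.1, hle y.2⟩, ?_⟩, fun y => ⟨(y.1 : G), ?_⟩, ?_, ?_⟩
    · rw [mem_centralizer_singleton]
      apply Subtype.ext
      exact mem_centralizer_singleton.mp y.2
    · rw [mem_centralizer_singleton]
      have := mem_centralizer_singleton.mp y.2
      have h2 := congrArg Subtype.val this
      simpa using h2
    · intro y; rfl
    · intro y; rfl
  have h1 : Nat.card (Subgroup.centralizer ({((1 : K) : G)} : Set G)) = Nat.card G := by
    have : Subgroup.centralizer ({((1 : K) : G)} : Set G) = ⊤ := by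
      rw [eq_top_iff]
      intro x _
      rw [mem_centralizer_singleton]; simp
    rw [this]; exact Subgroup.card_top
  have h2 : Nat.card (Subgroup.centralizer ({(1 : K)} : Set K)) = Nat.card K := by
    have : Subgroup.centralizer ({(1 : K)} : Set K) = ⊤ := by
      rw [eq_top_iff]
      intro x _
      rw [mem_centralizer_singleton]; simp
    rw [this]; exact Subgroup.card_top
  rw [← Finset.add_sum_erase Finset.univ _ (Finset.mem_univ (1 : K)),
    ← Finset.add_sum_erase Finset.univ (fun k : K => Nat.card (Subgroup.centralizer ({k} : Set K)))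
      (Finset.mem_univ (1 : K)), h1, h2]
  have h3 : ∑ k ∈ Finset.univ.erase (1 : K),
      Nat.card (Subgroup.centralizer ({(k : G)} : Set G)) =
      ∑ k ∈ Finset.univ.erase (1 : K), Nat.card (Subgroup.centralizer ({k} : Set K)) := by
    apply Finset.sum_congr rfl
    intro k hk
    exact hterm k (Finset.ne_of_mem_erase hk)
  rw [h3]
  ring

/-- The parametrization of the complement of `K`. -/
theorem exists_conj_of_not_mem (hKH' : K ⊔ H = ⊤)
    (hfpf : ∀ h ∈ H, h ≠ 1 → ∀ k ∈ K, h * k = k * h → k = 1) {g : G} (hg : g ∉ K) :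
    ∃ k ∈ K, ∃ h ∈ H, h ≠ 1 ∧ g = k * h * k⁻¹ := by
  obtain ⟨k, hk, h, hh, rfl⟩ := exists_mul K H hKH' g
  have hh1 : h ≠ 1 := by
    intro h1
    apply hg
    rw [h1, mul_one]; exact hk
  have hmem : ∀ k' : K, (k' : G) * h * (k' : G)⁻¹ * h⁻¹ ∈ K := by
    intro k'
    have : (k' : G) * h * (k' : G)⁻¹ * h⁻¹ = k' * (h * (k' : G)⁻¹ * h⁻¹) := by group
    rw [this]
    exact K.mul_mem k'.2 (hK.conj_mem _ (K.inv_mem k'.2) h)
  obtain ⟨f, hf⟩ : ∃ f : K → K, ∀ k' : K, ((f k' : K) : G) = (k' : G) * h * (k' : G)⁻¹ * h⁻¹ :=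
    ⟨fun k' => ⟨_, hmem k'⟩, fun _ => rfl⟩
  have hinj : Function.Injective f := by
    intro a b hab
    have h1 : (a : G) * h * (a : G)⁻¹ * h⁻¹ = (b : G) * h * (b : G)⁻¹ * h⁻¹ := by
      rw [← hf, ← hf, hab]
    have h2 : (a : G) * h * (a : G)⁻¹ = (b : G) * h * (b : G)⁻¹ := mul_right_cancel h1
    have h3 : h * ((b : G)⁻¹ * a) = ((b : G)⁻¹ * a) * h := by
      calc h * ((b : G)⁻¹ * a) = (b : G)⁻¹ * ((b : G) * h * (b : G)⁻¹) * a := by group
        _ = (b : G)⁻¹ * ((a : G) * h * (a : G)⁻¹) * a := by rw [h2]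
        _ = ((b : G)⁻¹ * a) * h := by group
    have h4 := hfpf h hh hh1 _ (K.mul_mem (K.inv_mem b.2) a.2) h3
    apply Subtype.ext
    have : (a : G) = b * ((b : G)⁻¹ * a) := by group
    rw [this, h4, mul_one]
  have hsurj : Function.Surjective f := Finite.injective_iff_surjective.mp hinj
  obtain ⟨k', hk'⟩ := hsurj ⟨k, hk⟩
  have hk'' : (k' : G) * h * (k' : G)⁻¹ * h⁻¹ = k := by rw [← hf, hk']
  refine ⟨k', k'.2, h, hh, hh1, ?_⟩
  rw [← hk'']; group

/-- The sum of the centralizer orders over the complement of `K`. -/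
theorem sum_not_K (hKH : K ⊓ H = ⊥) (hKH' : K ⊔ H = ⊤)
    (hfpf : ∀ h ∈ H, h ≠ 1 → ∀ k ∈ K, h * k = k * h → k = 1) [Fintype K] [Fintype H]
    [DecidablePred (· ∈ K)] :
    ∑ g ∈ Finset.univ.filter (fun g : G => g ∉ K),
        Nat.card (Subgroup.centralizer ({g} : Set G)) + Nat.card K * Nat.card H =
      Nat.card K * (Nat.card (ConjClasses H) * Nat.card H) := by
  classical
  -- the parametrization
  have hbij : ∑ g ∈ Finset.univ.filter (fun g : G => g ∉ K),
      Nat.card (Subgroup.centralizer ({g} : Set G)) =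
      ∑ p ∈ (Finset.univ : Finset K) ×ˢ (Finset.univ.erase (1 : H)),
        Nat.card (Subgroup.centralizer ({(p.2 : G)} : Set G)) := by
    symm
    apply Finset.sum_bij (fun (p : K × H) _ => (p.1 : G) * (p.2 : G) * (p.1 : G)⁻¹)
    · intro p hp
      rw [Finset.mem_product] at hp
      have hp2 : p.2 ≠ 1 := Finset.ne_of_mem_erase hp.2
      rw [Finset.mem_filter]
      refine ⟨Finset.mem_univ _, ?_⟩
      intro hmem
      apply hp2
      apply Subtype.ext
      apply eq_one_of_mem_of_mem K H hKH _ p.2.2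
      have : (p.2 : G) = (p.1 : G)⁻¹ * ((p.1 : G) * (p.2 : G) * (p.1 : G)⁻¹) * (p.1 : G) := by
        group
      rw [this]
      exact K.mul_mem (K.mul_mem (K.inv_mem p.1.2) hmem) p.1.2
    · intro p hp q hq hpq
      rw [Finset.mem_product] at hp hq
      have hp2 : p.2 ≠ 1 := Finset.ne_of_mem_erase hp.2
      -- modulo `K`
      have h1 : (p.2 : G) * (q.2 : G)⁻¹ ∈ K := by
        have e : (p.2 : G) * (q.2 : G)⁻¹ =
            ((p.1 : G)⁻¹ * (q.1 : G)) * ((q.2 : G) * ((q.1 : G)⁻¹ * (p.1 : G)) * (q.2 : G)⁻¹) := by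
          have : (p.2 : G) = (p.1 : G)⁻¹ * ((q.1 : G) * (q.2 : G) * (q.1 : G)⁻¹) * (p.1 : G) := by
            rw [← hpq]; group
          rw [this]; group
        rw [e]
        exact K.mul_mem (K.mul_mem (K.inv_mem p.1.2) q.1.2)
          (hK.conj_mem _ (K.mul_mem (K.inv_mem q.1.2) p.1.2) _)
      have h2 : (p.2 : G) * (q.2 : G)⁻¹ = 1 :=
        eq_one_of_mem_of_mem K H hKH h1 (H.mul_mem p.2.2 (H.inv_mem q.2.2))
      have h3 : (p.2 : G) = (q.2 : G) := by
        calc (p.2 : G) = (p.2 : G) * (q.2 : G)⁻¹ * (q.2 : G) := by group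
          _ = (q.2 : G) := by rw [h2, one_mul]
      have h4 : (p.2 : G) * ((q.1 : G)⁻¹ * (p.1 : G)) = ((q.1 : G)⁻¹ * (p.1 : G)) * (p.2 : G) := by
        rw [← h3] at hpq
        calc (p.2 : G) * ((q.1 : G)⁻¹ * (p.1 : G)) =
            (q.1 : G)⁻¹ * ((q.1 : G) * (p.2 : G) * (q.1 : G)⁻¹) * (p.1 : G) := by group
          _ = (q.1 : G)⁻¹ * ((p.1 : G) * (p.2 : G) * (p.1 : G)⁻¹) * (p.1 : G) := by rw [hpq]
          _ = ((q.1 : G)⁻¹ * (p.1 : G)) * (p.2 : G) := by group
      have hp2' : (p.2 : G) ≠ 1 := fun h => hp2 (Subtype.ext h)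
      have h5 := hfpf (p.2 : G) p.2.2 hp2' _ (K.mul_mem (K.inv_mem q.1.2) p.1.2) h4
      have h6 : (p.1 : G) = (q.1 : G) := by
        calc (p.1 : G) = (q.1 : G) * ((q.1 : G)⁻¹ * (p.1 : G)) := by group
          _ = (q.1 : G) := by rw [h5, mul_one]
      exact Prod.ext (Subtype.ext h6) (Subtype.ext h3)
    · intro g hg
      rw [Finset.mem_filter] at hg
      obtain ⟨k, hk, h, hh, hh1, rfl⟩ := exists_conj_of_not_mem K H hKH' hfpf hg.2
      refine ⟨(⟨k, hk⟩, ⟨h, hh⟩), ?_, rfl⟩
      rw [Finset.mem_product]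
      exact ⟨Finset.mem_univ _, Finset.mem_erase.mpr ⟨fun e => hh1 (congrArg Subtype.val e),
        Finset.mem_univ _⟩⟩
    · intro p _
      exact (card_centralizer_conj (p.1 : G) (p.2 : G)).symm
  rw [hbij, Finset.sum_product]
  simp only [Finset.sum_const, Finset.card_univ, smul_eq_mul]
  rw [← Nat.card_eq_fintype_card, ← sum_centralizer_eq, ← Nat.mul_add]
  congr 1
  have hterm : ∀ h : H, h ≠ 1 → Nat.card (Subgroup.centralizer ({(h : G)} : Set G)) =
      Nat.card (Subgroup.centralizer ({h} : Set H)) := by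
    intro h hh1
    have hh1' : (h : G) ≠ 1 := fun e => hh1 (Subtype.ext e)
    apply Nat.card_congr
    refine ⟨fun y => ⟨⟨y.1, centralizer_le_H K H hKH hKH' hfpf h.2 hh1'
      (mem_centralizer_singleton.mp y.2)⟩, ?_⟩, fun y => ⟨(y.1 : G), ?_⟩, ?_, ?_⟩
    · rw [mem_centralizer_singleton]
      apply Subtype.ext
      exact mem_centralizer_singleton.mp y.2
    · rw [mem_centralizer_singleton]
      have := mem_centralizer_singleton.mp y.2
      have h2 := congrArg Subtype.val this
      simpa using h2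
    · intro y; rfl
    · intro y; rfl
  have h2 : Nat.card (Subgroup.centralizer ({(1 : H)} : Set H)) = Nat.card H := by
    have : Subgroup.centralizer ({(1 : H)} : Set H) = ⊤ := by
      rw [eq_top_iff]
      intro x _
      rw [mem_centralizer_singleton]; simp
    rw [this]; exact Subgroup.card_top
  rw [← Finset.add_sum_erase Finset.univ (fun h : H => Nat.card (Subgroup.centralizer ({h} : Set H)))
      (Finset.mem_univ (1 : H)), h2, add_comm]
  congr 1
  apply Finset.sum_congr rfl
  intro h hh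
  exact hterm h (Finset.ne_of_mem_erase hh)

/-- The class number of a Frobenius group. -/
theorem class_number (hKH : K ⊓ H = ⊥) (hKH' : K ⊔ H = ⊤)
    (hfpf : ∀ h ∈ H, h ≠ 1 → ∀ k ∈ K, h * k = k * h → k = 1) :
    Nat.card H * Nat.card (ConjClasses G) + 1 =
      Nat.card H * Nat.card (ConjClasses H) + Nat.card (ConjClasses K) := by
  classical
  letI : Fintype K := Fintype.ofFinite K
  letI : Fintype H := Fintype.ofFinite H
  have hG : Nat.card G = Nat.card K * Nat.card H := by
    have hc : Subgroup.IsComplement' K H := by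
      apply Subgroup.isComplement'_of_disjoint_and_mul_eq_univ
      · rw [disjoint_iff]; exact hKH
      · rw [← Subgroup.normal_mul, hKH']; rfl
    exact hc.card_mul_card.symm
  have h1 := sum_K K H hKH' hfpf
  have h2 := sum_not_K K H hKH hKH' hfpf
  have h3 := sum_centralizer_eq (X := G)
  have hsplit : ∑ g : G, Nat.card (Subgroup.centralizer ({g} : Set G)) =
      ∑ k : K, Nat.card (Subgroup.centralizer ({(k : G)} : Set G)) +
      ∑ g ∈ Finset.univ.filter (fun g : G => g ∉ K),
        Nat.card (Subgroup.centralizer ({g} : Set G)) := by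
    rw [← Finset.sum_filter_add_sum_filter_not Finset.univ (fun g : G => g ∈ K)]
    congr 1
    rw [← Finset.sum_subtype (Finset.univ.filter (fun g : G => g ∈ K))
      (fun g => by simp) (fun g => Nat.card (Subgroup.centralizer ({g} : Set G)))]
  rw [hsplit] at h3
  have hK0 : 0 < Nat.card K := Nat.card_pos
  apply Nat.eq_of_mul_eq_mul_left hK0
  have key : Nat.card (ConjClasses G) * Nat.card G + Nat.card K + Nat.card K * Nat.card H =
      Nat.card (ConjClasses K) * Nat.card K + Nat.card G +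
        Nat.card K * (Nat.card (ConjClasses H) * Nat.card H) := by
    rw [← h3, ← h1, ← h2]; ring
  rw [hG] at key
  have key2 : Nat.card K * (Nat.card H * Nat.card (ConjClasses G) + 1) + Nat.card K * Nat.card H =
      Nat.card K * (Nat.card H * Nat.card (ConjClasses H) + Nat.card (ConjClasses K)) +
        Nat.card K * Nat.card H := by
    calc Nat.card K * (Nat.card H * Nat.card (ConjClasses G) + 1) + Nat.card K * Nat.card H
        = Nat.card (ConjClasses G) * (Nat.card K * Nat.card H) + Nat.card K +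
          Nat.card K * Nat.card H := by ring
      _ = Nat.card (ConjClasses K) * Nat.card K + Nat.card K * Nat.card H +
        Nat.card K * (Nat.card (ConjClasses H) * Nat.card H) := key
      _ = _ := by ring
  exact Nat.add_right_cancel key2

end frob

end Cfsg.Agent.Lib.helper3.FrobClass
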