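import Mathlib
import Cfsg.Prelude.Def_Blocks
import Cfsg.Agent.Lib.helper3.TransferChar
import Cfsg.Agent.Lib.helper3.Gallagher3

/-!
# Counting lemmas for characters of cyclic quotients
-/

set_option autoImplicit false
set_option linter.style.haveILetI false
set_option linter.unusedSectionVars false

namespace Cfsg.Agent.Lib.helper3.GalCount

open Cfsg Module Cfsg.Agent.Lib.helper3.Irr Cfsg.Agent.Lib.helper3.Lin
open scoped Pointwise

/-- In a finite cyclic group of order divisible by the prime `p`, exactly `p` elements have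
`p`-th power one. -/
theorem card_pow_eq_one_of_cyclic (Q : Type*) [Group Q] [Finite Q] [IsCyclic Q] (p : ℕ)
    [hp : Fact p.Prime] (hdvd : p ∣ Nat.card Q) : Nat.card {q : Q // q ^ p = 1} = p := by
  classical
  letI : Fintype Q := Fintype.ofFinite Q
  apply le_antisymm
  · have h := IsCyclic.card_pow_eq_one_le (α := Q) hp.out.pos
    rw [Nat.card_eq_fintype_card, Fintype.card_subtype]
    exact h
  · obtain ⟨g, hg⟩ := exists_prime_orderOf_dvd_card' (G := Q) p hdvd
    have hcard : Nat.card (Subgroup.zpowers g) = p := by rw [Nat.card_zpowers, hg]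
    let f : Subgroup.zpowers g → {q : Q // q ^ p = 1} := fun x => ⟨x.1, by
      obtain ⟨x, hx⟩ := x
      obtain ⟨i, rfl⟩ := Subgroup.mem_zpowers_iff.mp hx
      show (g ^ i) ^ p = 1
      rw [← zpow_natCast, ← zpow_mul, mul_comm, zpow_mul, zpow_natCast, ← hg, pow_orderOf_eq_one,
        one_zpow]⟩
    have hinj : Function.Injective f := by
      intro x y hxy
      apply Subtype.ext
      have := congrArg (fun t : {q : Q // q ^ p = 1} => (t : Q)) hxy
      exact this
    calc p = Nat.card (Subgroup.zpowers g) := hcard.symm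
      _ ≤ Nat.card {q : Q // q ^ p = 1} := Nat.card_le_card_of_injective f hinj

/-- The number of homomorphisms of `p`-th power one from a cyclic group of order divisible by
`p` to `ℂˣ` is `p`. -/
theorem card_hom_pow_eq_one (Q : Type*) [CommGroup Q] [Finite Q] [IsCyclic Q] (p : ℕ)
    [hp : Fact p.Prime] (hdvd : p ∣ Nat.card Q) :
    Nat.card {μ : Q →* ℂˣ // μ ^ p = 1} = p := by
  haveI : NeZero (Nat.card Q) := ⟨Nat.card_pos.ne'⟩
  obtain ⟨e⟩ := IsCyclic.monoidHom_equiv_self Q ℂ
  refine Eq.trans ?_ (card_pow_eq_one_of_cyclic Q p hdvd)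
  apply Nat.card_congr
  refine Equiv.subtypeEquiv e.toEquiv ?_
  intro μ
  show μ ^ p = 1 ↔ (e μ) ^ p = 1
  rw [← map_pow, MulEquiv.map_eq_one_iff]

/-- A normal subgroup of `p`-power index and a Sylow `p`-subgroup generate the group. -/
theorem sup_sylow_eq_top {G : Type*} [Group G] [Finite G] (p : ℕ) [hp : Fact p.Prime]
    (N : Subgroup G) (j : ℕ) (hidx : N.index = p ^ j) (P : Sylow p G) :
    N ⊔ (P : Subgroup G) = ⊤ := by
  apply Subgroup.index_eq_one.mp
  have h1 : (N ⊔ (P : Subgroup G)).index ∣ p ^ j := by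
    rw [← hidx]
    exact Subgroup.index_dvd_of_le le_sup_left
  have h2 : (N ⊔ (P : Subgroup G)).index ∣ (P : Subgroup G).index :=
    Subgroup.index_dvd_of_le le_sup_right
  have h3 : ¬ p ∣ (P : Subgroup G).index := P.not_dvd_index
  have hcop : Nat.Coprime (p ^ j) (P : Subgroup G).index :=
    Nat.Coprime.pow_left j ((Nat.Prime.coprime_iff_not_dvd hp.out).mpr h3)
  exact Nat.eq_one_of_dvd_coprimes hcop h1 h2

/-- Every element is a product of an element of `N` and an element of the Sylow subgroup. -/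
theorem exists_mul_of_sup_sylow {G : Type*} [Group G] [Finite G] (p : ℕ) [hp : Fact p.Prime]
    (N : Subgroup G) [hN : N.Normal] (j : ℕ) (hidx : N.index = p ^ j) (P : Sylow p G) (g : G) :
    ∃ n ∈ N, ∃ y ∈ (P : Subgroup G), g = n * y := by
  have hg : g ∈ N ⊔ (P : Subgroup G) := by
    rw [sup_sylow_eq_top p N j hidx P]
    exact Subgroup.mem_top g
  have hset : ((N ⊔ (P : Subgroup G) : Subgroup G) : Set G) = (N : Set G) * (P : Subgroup G) :=
    Subgroup.normal_mul N (P : Subgroup G)
  have : g ∈ (N : Set G) * ((P : Subgroup G) : Set G) := by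
    rw [← hset]
    exact hg
  obtain ⟨n, hn, y, hy, rfl⟩ := Set.mem_mul.mp this
  exact ⟨n, hn, y, hy, rfl⟩

end Cfsg.Agent.Lib.helper3.GalCount
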