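import Mathlib
import Cfsg.Prelude.Def_Blocks
import Cfsg.Prelude.Def_Transfer
import Cfsg.Agent.Lib.helper3.PRes2
import Cfsg.Agent.Lib.helper3.HeightZero5
import Cfsg.Agent.Lib.helper3.PrincNormal
import Cfsg.Agent.Lib.helper3.BlockCover3
import Cfsg.Agent.Lib.helper3.TransferChar
import Cfsg.Agent.Lib.helper3.Gallagher3

set_option autoImplicit false
set_option linter.style.haveILetI false
set_option linter.unusedSectionVars false

/-!
# Linear characters in the principal block

* characters over a member of the principal block of a normal subgroup of `p`-power index lie in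
  the principal block;
* the linear characters of the principal block form a group, of order prime to `p` when the
  abelianization has order prime to `p`.
-/

namespace Cfsg.Agent.Lib.helper3.PrincLin

open Cfsg Module Cfsg.Agent.Lib.helper3.IndFun Cfsg.Agent.Lib.helper3.CharBasic
open Cfsg.Agent.Lib.helper3.Irr Cfsg.Agent.Lib.helper3.Block Cfsg.Agent.Lib.helper3.LocalM
open Cfsg.Agent.Lib.helper3.Lin
open scoped ComplexConjugate

universe u

section overs

variable {G : Type u} [Group G] [Fintype G] {M : Ideal AlgInt}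

/-- Over a member of the principal block of a normal subgroup of `p`-power index lie only members
of the principal block. -/
theorem mem_principalBlock_of_over {p : ℕ} [hp : Fact p.Prime] (hM : IsPModular p M)
    (N : Subgroup G) [hN : N.Normal] [Fintype N] (hidx : ∃ k : ℕ, N.index = p ^ k)
    (θ : IrrCharacter N) (hθ : θ ∈ principalBlock M N) (χ : IrrCharacter G)
    (hχ : classInner (fun n : N => (χ : G → ℂ) n) (θ : N → ℂ) ≠ 0) :
    χ ∈ principalBlock M G := by
  haveI hMp := isPrime_of_isPModular hM
  have hMtop : M ≠ ⊤ := hM.2.1.ne_top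
  obtain ⟨χ₀, hχ₀, hχ₀'⟩ := exists_over_mem_principalBlock hM N θ hθ
  have h1 : SameBlock M (χ₀ : G → ℂ) (χ : G → ℂ) := by
    apply sameBlock_of_congr_of_index_pow hM N hidx χ₀ χ
    intro n hn
    rw [centralChar_eq_of_over N χ₀ θ hχ₀' ⟨n, hn⟩, centralChar_eq_of_over N χ θ hχ ⟨n, hn⟩,
      sub_self]
    exact memLocalIdeal_zero hMtop
  exact sameBlock_trans (show SameBlock M (fun _ : G => (1 : ℂ)) (χ₀ : G → ℂ) from hχ₀) h1

end overs

section lin

variable {N : Type u} [Group N] [Finite N] {M : Ideal AlgInt}

theorem isIntegral_hom (f : N →* ℂˣ) (n : N) : IsIntegral ℤ ((f n : ℂˣ) : ℂ) :=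
  isIntegral_of_isCharacter (isCharacter_of_hom f) n

theorem centralChar_hom (f : N →* ℂˣ) (n : N) :
    centralChar (fun x : N => ((f x : ℂˣ) : ℂ)) n
      = ((Subgroup.centralizer ({n} : Set N)).index : ℂ) * ((f n : ℂˣ) : ℂ) := by
  unfold centralChar
  simp

/-- The homomorphisms to `ℂˣ` whose character lies in the principal block. -/
def linSub (M : Ideal AlgInt) [hMp : M.IsPrime] (N : Type u) [Group N] [Finite N] :
    Subgroup (N →* ℂˣ) where
  carrier := {f | SameBlock M (fun _ : N => (1 : ℂ)) (fun x : N => ((f x : ℂˣ) : ℂ))}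
  one_mem' := by
    show SameBlock M (fun _ : N => (1 : ℂ)) (fun x : N => (((1 : N →* ℂˣ) x : ℂˣ) : ℂ))
    have : (fun x : N => (((1 : N →* ℂˣ) x : ℂˣ) : ℂ)) = fun _ : N => (1 : ℂ) := by
      funext x
      simp
    rw [this]
    exact sameBlock_refl hMp.ne_top _
  mul_mem' := by
    intro f f' hf hf'
    show SameBlock M (fun _ : N => (1 : ℂ)) (fun x : N => (((f * f') x : ℂˣ) : ℂ))
    intro n
    have h1 := hf n
    have h2 := hf' n
    rw [centralChar_one_fun, centralChar_hom] at h1 h2
    rw [centralChar_one_fun, centralChar_hom]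
    have h3 := memLocalIdeal_mul_localRing (memLocalRing_of_integral (M := M) (isIntegral_hom f n)) h2
    have h4 := memLocalIdeal_add h1 h3
    convert h4 using 1
    rw [MonoidHom.mul_apply, Units.val_mul]
    ring
  inv_mem' := by
    intro f hf
    show SameBlock M (fun _ : N => (1 : ℂ)) (fun x : N => (((f⁻¹) x : ℂˣ) : ℂ))
    intro n
    have h1 := hf n
    rw [centralChar_one_fun, centralChar_hom] at h1
    rw [centralChar_one_fun, centralChar_hom]
    have h3 := memLocalIdeal_mul_localRing
      (memLocalRing_of_integral (M := M) (isIntegral_hom f⁻¹ n)) h1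
    have h4 := memLocalIdeal_neg h3
    convert h4 using 1
    rw [MonoidHom.inv_apply, Units.val_inv_eq_inv_val]
    have hne : ((f n : ℂˣ) : ℂ) ≠ 0 := Units.ne_zero _
    field_simp
    ring

theorem mem_linSub [hMp : M.IsPrime] (f : N →* ℂˣ) :
    f ∈ linSub M N ↔ SameBlock M (fun _ : N => (1 : ℂ)) (fun x : N => ((f x : ℂˣ) : ℂ)) :=
  Iff.rfl

/-- Homomorphisms to `ℂˣ` are killed by the index of the commutator subgroup. -/
theorem hom_pow_index_commutator (f : N →* ℂˣ) : f ^ (commutator N).index = 1 := by
  ext n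
  rw [MonoidHom.pow_apply, MonoidHom.one_apply, ← map_pow]
  have h1 : n ^ (commutator N).index ∈ commutator N := Subgroup.pow_index_mem _ n
  have h2 : commutator N ≤ f.ker := Abelianization.commutator_subset_ker f
  have h3 := h2 h1
  rw [MonoidHom.mem_ker] at h3
  rw [h3]

/-- The irreducible character attached to a homomorphism to `ℂˣ`. -/
noncomputable def irrOfHom (f : N →* ℂˣ) : IrrCharacter N :=
  ⟨fun x : N => ((f x : ℂˣ) : ℂ), isIrrCharacter_of_linear (isCharacter_of_hom f) (by simp)⟩

theorem irrOfHom_apply (f : N →* ℂˣ) (x : N) : (irrOfHom f : N → ℂ) x = ((f x : ℂˣ) : ℂ) := rfl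

theorem irrOfHom_injective : Function.Injective (irrOfHom (N := N)) := by
  intro f f' h
  ext x
  have := congrArg (fun φ : IrrCharacter N => (φ : N → ℂ) x) h
  simpa [irrOfHom_apply] using this

/-- The linear members of the principal block correspond to the subgroup `linSub`. -/
theorem card_linear_principal [hMp : M.IsPrime] :
    Nat.card {φ : IrrCharacter N // φ ∈ principalBlock M N ∧ (φ : N → ℂ) 1 = 1}
      = Nat.card (linSub M N) := by
  symm
  refine Nat.card_eq_of_bijective
    (fun f : linSub M N => (⟨irrOfHom f.1, f.2, by rw [irrOfHom_apply]; simp⟩ :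
      {φ : IrrCharacter N // φ ∈ principalBlock M N ∧ (φ : N → ℂ) 1 = 1})) ⟨?_, ?_⟩
  · intro f f' h
    apply Subtype.ext
    apply irrOfHom_injective
    exact congrArg Subtype.val h
  · rintro ⟨φ, hφB, hφ1⟩
    have hc := isCharacter_of_isIrrCharacter φ.2
    have hval : ∀ x : N, (((toUnitsHom hc hφ1) x : ℂˣ) : ℂ) = (φ : N → ℂ) x :=
      fun x => toUnitsHom_apply hc hφ1 x
    have hfun : (fun x : N => (((toUnitsHom hc hφ1) x : ℂˣ) : ℂ)) = (φ : N → ℂ) := funext hval
    refine ⟨⟨toUnitsHom hc hφ1, ?_⟩, ?_⟩
    · rw [mem_linSub, hfun]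
      exact hφB
    · apply Subtype.ext
      apply Subtype.ext
      exact hfun

/-- The number of linear members of the principal block is prime to `p` when the abelianization
has order prime to `p`. -/
theorem not_dvd_card_linear_principal [hMp : M.IsPrime] (p : ℕ) [hp : Fact p.Prime]
    (hcomm : ¬ p ∣ (commutator N).index) :
    ¬ p ∣ Nat.card {φ : IrrCharacter N // φ ∈ principalBlock M N ∧ (φ : N → ℂ) 1 = 1} := by
  rw [card_linear_principal]
  intro hdvd
  haveI : Finite (linSub M N) := by
    apply Finite.of_injective (fun f : linSub M N => irrOfHom f.1)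
    intro f f' h
    exact Subtype.ext (irrOfHom_injective h)
  obtain ⟨f, hf⟩ := exists_prime_orderOf_dvd_card' p hdvd
  have h1 : f ^ (commutator N).index = 1 := by
    apply Subtype.ext
    rw [Subgroup.coe_pow, Subgroup.coe_one]
    exact hom_pow_index_commutator f.1
  have h2 := orderOf_dvd_of_pow_eq_one h1
  rw [hf] at h2
  exact hcomm h2

end lin

end Cfsg.Agent.Lib.helper3.PrincLin
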