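import Mathlib
import Cfsg.Prelude.Def_Blocks
import Cfsg.Prelude.Def_Transfer
import Cfsg.Agent.Lib.helper3.PrincLin1
import Cfsg.Agent.Lib.helper3.RankOne2
import Cfsg.Agent.Lib.helper3.PrincRank
import Cfsg.Agent.Lib.helper3.Inflate2
import Cfsg.Agent.Lib.Lead.PComplement

set_option autoImplicit false
set_option linter.style.haveILetI false
set_option linter.unusedSectionVars false

/-!
# The principal block has only linear characters of degree prime to `p` exactly when there is a
normal `p`-complement
-/

namespace Cfsg.Agent.Lib.helper3.PrincLin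

open Cfsg Module Cfsg.Agent.Lib.helper3.IndFun Cfsg.Agent.Lib.helper3.CharBasic
open Cfsg.Agent.Lib.helper3.Irr Cfsg.Agent.Lib.helper3.Block Cfsg.Agent.Lib.helper3.LocalM
open Cfsg.Agent.Lib.helper3.Lin Cfsg.Agent.Lib.helper3.PRes Cfsg.Agent.Lib.helper3.PrincOnly
open scoped ComplexConjugate

universe u

theorem charDegree_one_irr {H : Type u} [Group H] [Finite H] :
    charDegree ((one H : IrrCharacter H) : H → ℂ) = 1 := by
  classical
  letI : Fintype H := Fintype.ofFinite H
  apply charDegree_eq
  show (1 : ℂ) = ((1 : ℕ) : ℂ)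
  simp

/-- The counting argument: a normal subgroup of `p`-power index, with abelianization of order prime
to `p`, whose invariant characters of degree prime to `p` extend, has order prime to `p` when the
characters of degree prime to `p` in the principal block of the group are linear. -/
theorem not_dvd_card_of_linear {G : Type u} [Group G] [Fintype G] (p : ℕ) [hpf : Fact p.Prime]
    (M : Ideal AlgInt) (hM : IsPModular p M) (H : Subgroup G) [hHn : H.Normal] [Fintype H]
    (k : ℕ) (hidx : H.index = p ^ k) (hcomm : ¬ p ∣ (commutator H).index)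
    (hext : ∀ φ : IrrCharacter H,
      (∀ (g : G) (n : H), (φ : H → ℂ) ⟨g * n * g⁻¹, hHn.conj_mem (n : G) n.2 g⟩ = (φ : H → ℂ) n) →
      ¬ p ∣ charDegree (φ : H → ℂ) →
      ∃ χ : IrrCharacter G, ∀ n : H, (χ : G → ℂ) n = (φ : H → ℂ) n)
    (hlin : ∀ χ : IrrCharacter G, χ ∈ principalBlock M G → ¬ p ∣ charDegree (χ : G → ℂ) →
      charDegree (χ : G → ℂ) = 1) :
    ¬ p ∣ Nat.card H := by
  classical
  haveI hMp := isPrime_of_isPModular hM
  have hMtop : M ≠ ⊤ := hM.2.1.ne_top
  have hp : p.Prime := hpf.out
  intro hdvd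
  letI := conjAction H
  -- Brauer's theorem on the dimension of the principal block
  have hB : IsPBlock M (principalBlock M H) := ⟨one H, rfl⟩
  have hone : one H ∈ principalBlock M H := sameBlock_refl hMtop _
  have hfac := factorization_sum_sq hM (principalBlock M H) hB
    (Finset.univ.filter (fun χ : IrrCharacter H => χ ∈ principalBlock M H))
    (by intro χ; simp)
  have hmin : minExp p (principalBlock M H) = 0 := by
    have := minExp_le (p := p) hone
    rw [charDegree_one_irr] at this
    simpa using this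
  have hsumdvd : p ∣ ∑ ψ ∈ Finset.univ.filter (fun χ : IrrCharacter H => χ ∈ principalBlock M H),
      charDegree (ψ : H → ℂ) ^ 2 := by
    apply Nat.dvd_of_factorization_pos
    rw [hfac, hmin, add_zero]
    exact (hp.factorization_pos_of_dvd Nat.card_pos.ne' hdvd).ne'
  -- the weights
  set w : IrrCharacter H → ℤ := fun φ =>
    if φ ∈ principalBlock M H ∧ charDegree (φ : H → ℂ) ≠ 1
      then (charDegree (φ : H → ℂ) : ℤ) ^ 2 else 0 with hw
  have hdeginv : ∀ (g : G) (φ : IrrCharacter H),
      charDegree ((g • φ : IrrCharacter H) : H → ℂ) = charDegree (φ : H → ℂ) := by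
    intro g φ
    unfold charDegree
    rw [conjAction_apply_one]
  have hmeminv1 : ∀ (g : G) (φ : IrrCharacter H), φ ∈ principalBlock M H →
      (g • φ : IrrCharacter H) ∈ principalBlock M H := by
    intro g φ hφ
    have h1 := sameBlock_conjFun H
      (show SameBlock M (fun _ : H => (1 : ℂ)) (φ : H → ℂ) from hφ) g⁻¹
    have h2 : ((g • φ : IrrCharacter H) : H → ℂ)
        = Cfsg.Agent.Lib.helper3.Irr.conjFun H (φ : H → ℂ) g⁻¹ := by
      rw [Cfsg.Agent.Lib.helper3.Irr.conjFun_eq_comp]
      rfl
    show SameBlock M (fun _ : H => (1 : ℂ)) ((g • φ : IrrCharacter H) : H → ℂ)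
    rw [h2]
    exact h1
  have hmeminv : ∀ (g : G) (φ : IrrCharacter H),
      (g • φ : IrrCharacter H) ∈ principalBlock M H ↔ φ ∈ principalBlock M H := by
    intro g φ
    constructor
    · intro h
      have := hmeminv1 g⁻¹ _ h
      rwa [inv_smul_smul] at this
    · exact hmeminv1 g φ
  have hwdvd : (p : ℤ) ∣ ∑ φ, w φ := by
    apply dvd_sum_of_orbits (Γ := G) p w
    · intro g φ
      simp only [hw, hdeginv, hmeminv]
    · intro φ
      exact conjAction_card_orbit_pow H p k hp hidx φ
    · intro φ hφ
      simp only [hw]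
      split_ifs with h1
      · have hpd : p ∣ charDegree (φ : H → ℂ) := by
          by_contra hpd
          obtain ⟨χ, hχ⟩ := hext φ ((conjAction_fixed_iff H φ).mp hφ) hpd
          have hover : classInner (fun n : H => (χ : G → ℂ) n) (φ : H → ℂ) ≠ 0 := by
            have : (fun n : H => (χ : G → ℂ) n) = (φ : H → ℂ) := funext hχ
            rw [this, irr_classInner_self φ.2]
            exact one_ne_zero
          have hχB := mem_principalBlock_of_over hM H ⟨k, hidx⟩ φ h1.1 χ hover
          have hcd : charDegree (χ : G → ℂ) = charDegree (φ : H → ℂ) := by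
            unfold charDegree
            have := hχ 1
            rw [Subgroup.coe_one] at this
            rw [this]
          have := hlin χ hχB (by rw [hcd]; exact hpd)
          rw [hcd] at this
          exact h1.2 this
        apply Dvd.dvd.pow _ two_ne_zero
        exact_mod_cast hpd
      · exact dvd_zero _
  -- split the sum
  have hsplit : ((∑ ψ ∈ Finset.univ.filter (fun χ : IrrCharacter H => χ ∈ principalBlock M H),
      charDegree (ψ : H → ℂ) ^ 2 : ℕ) : ℤ)
      = ∑ φ, w φ + (Nat.card {φ : IrrCharacter H //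
          φ ∈ principalBlock M H ∧ (φ : H → ℂ) 1 = 1} : ℤ) := by
    rw [Nat.card_eq_fintype_card, Fintype.card_subtype, Finset.card_filter]
    push_cast
    rw [Finset.sum_filter, ← Finset.sum_add_distrib]
    apply Finset.sum_congr rfl
    intro φ _
    simp only [hw]
    have hiff : (φ : H → ℂ) 1 = 1 ↔ charDegree (φ : H → ℂ) = 1 := by
      rw [apply_one_eq_charDegree φ]
      constructor
      · intro h
        exact_mod_cast h
      · intro h
        rw [h]
        simp
    by_cases hφB : φ ∈ principalBlock M H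
    · by_cases hd : charDegree (φ : H → ℂ) = 1
      · rw [if_pos hφB, if_neg (by tauto), if_pos ⟨hφB, hiff.mpr hd⟩, hd]
        norm_num
      · rw [if_pos hφB, if_pos ⟨hφB, hd⟩, if_neg (by rw [hiff]; tauto)]
        simp
    · rw [if_neg hφB, if_neg (by tauto), if_neg (by tauto)]
      simp
  have h3 : (p : ℤ) ∣ (Nat.card {φ : IrrCharacter H //
      φ ∈ principalBlock M H ∧ (φ : H → ℂ) 1 = 1} : ℤ) := by
    have h4 : (p : ℤ) ∣ ((∑ ψ ∈ Finset.univ.filter
        (fun χ : IrrCharacter H => χ ∈ principalBlock M H),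
        charDegree (ψ : H → ℂ) ^ 2 : ℕ) : ℤ) := by exact_mod_cast hsumdvd
    rw [hsplit] at h4
    exact (dvd_add_right hwdvd).mp h4
  exact not_dvd_card_linear_principal (M := M) p hcomm (by exact_mod_cast h3)

/-- If every character of degree prime to `p` in the principal block is linear, there is a normal
`p`-complement. -/
theorem hasNormalPComplement_of_linear {G : Type u} [Group G] [Finite G] (p : ℕ)
    [hpf : Fact p.Prime] (M : Ideal AlgInt) (hM : IsPModular p M)
    (hlin : ∀ χ : IrrCharacter G, χ ∈ principalBlock M G → ¬ p ∣ charDegree (χ : G → ℂ) →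
      charDegree (χ : G → ℂ) = 1) : HasNormalPComplement p G := by
  classical
  letI : Fintype G := Fintype.ofFinite G
  have hp : p.Prime := hpf.out
  haveI hHn : (Cfsg.pResidual p G).Normal := Cfsg.Agent.H1.pResidual_normal p
  letI : Fintype (Cfsg.pResidual p G) := Fintype.ofFinite _
  obtain ⟨⟨k, hidx⟩, hcomm⟩ := pResidual_facts p hp (Cfsg.pResidual p G) rfl
  refine Cfsg.Agent.Lib.Lead.PComplement.hasNormalPComplement_of_normal (Cfsg.pResidual p G) ?_
    (n := k) hidx
  rw [Nat.coprime_comm, Nat.Prime.coprime_iff_not_dvd hp]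
  apply not_dvd_card_of_linear p M hM (Cfsg.pResidual p G) k hidx hcomm _ hlin
  intro φ hinv hpd
  obtain ⟨d, hd1, -, -⟩ := Cfsg.Agent.Lib.helper3.Central.irr_degree_dvd_card φ.2
  have hcd : charDegree (φ : Cfsg.pResidual p G → ℂ) = d := charDegree_eq hd1
  rw [hcd] at hpd
  obtain ⟨χ, ⟨hχ, hχH, -⟩, -⟩ := existsUnique_extension_pResidual p hp (Cfsg.pResidual p G) rfl
    (φ : Cfsg.pResidual p G → ℂ) φ.2 hinv d hd1 hpd
  exact ⟨⟨χ, hχ⟩, hχH⟩

/-- With a normal `p`-complement, the characters of degree prime to `p` in the principal block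
are linear. -/
theorem linear_of_hasNormalPComplement {G : Type u} [Group G] [Finite G] (p : ℕ)
    [hpf : Fact p.Prime] (M : Ideal AlgInt) (hM : IsPModular p M)
    (h : HasNormalPComplement p G) (χ : IrrCharacter G) (hχ : χ ∈ principalBlock M G)
    (hpd : (charDegree (χ : G → ℂ)).factorization p = 0) : charDegree (χ : G → ℂ) = 1 := by
  classical
  letI : Fintype G := Fintype.ofFinite G
  have hp : p.Prime := hpf.out
  obtain ⟨N, hN, hc, k, hk⟩ :=
    Cfsg.Agent.Lib.Lead.NormalPComplement.exists_normal_of_hasNormalPComplement h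
  haveI := hN
  have hker : ∀ n ∈ N, (χ : G → ℂ) n = (χ : G → ℂ) 1 :=
    fun n hn => apply_eq_of_mem_normal_coprime hM N hc χ hχ n hn
  have hχc := isCharacter_of_isIrrCharacter χ.2
  obtain ⟨ψ, hψ, hχψ⟩ := exists_eq_inflate χ.2 N
    (fun g n hn => apply_mul_of_apply_eq_one hχc (hker n hn) g)
  obtain ⟨d, hd1, hddvd, hdpos⟩ := Cfsg.Agent.Lib.helper3.Central.irr_degree_dvd_card hψ
  have hχ1 : (χ : G → ℂ) 1 = d := by
    rw [hχψ, inflate_apply, ← hd1]
    rfl
  letI : Fintype G := Fintype.ofFinite G
  have hcd : charDegree (χ : G → ℂ) = d := charDegree_eq hχ1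
  rw [hcd] at hpd ⊢
  have hcard : Nat.card (G ⧸ N) = p ^ k := by
    rw [← hk, Subgroup.index_eq_card]
  rw [hcard] at hddvd
  obtain ⟨j, -, hj⟩ := (Nat.dvd_prime_pow hp).mp hddvd
  rw [hj, hp.factorization_pow, Finsupp.single_eq_same] at hpd
  rw [hj, hpd, pow_zero]

end Cfsg.Agent.Lib.helper3.PrincLin
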