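import Mathlib
import Cfsg.Prelude.Def_Blocks
import Cfsg.Prelude.Def_Transfer
import Cfsg.Agent.Lib.helper3.PrincLin2
import Cfsg.Agent.Lib.helper3.GalFix3
import Cfsg.Agent.Lib.helper3.GalFix4
import Cfsg.Agent.Lib.helper3.GlCyc3

set_option autoImplicit false
set_option linter.style.haveILetI false
set_option linter.unusedSectionVars false

/-!
# Normal `2`-complements and odd-degree characters of the principal block fixed by a power map of
`2`-power order
-/

namespace Cfsg.Agent.Lib.helper3.PrincLin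

open Cfsg Module Cfsg.Agent.Lib.helper3.IndFun Cfsg.Agent.Lib.helper3.CharBasic
open Cfsg.Agent.Lib.helper3.Irr Cfsg.Agent.Lib.helper3.Block Cfsg.Agent.Lib.helper3.LocalM
open Cfsg.Agent.Lib.helper3.Lin Cfsg.Agent.Lib.helper3.PRes Cfsg.Agent.Lib.helper3.PrincOnly
open Cfsg.Agent.Lib.helper3.GalFix Cfsg.Agent.Lib.helper3.GalPow Cfsg.Agent.Lib.helper3.GlCyc
open scoped ComplexConjugate

universe u

/-- The counting argument with a power map of `2`-power order. -/
theorem odd_card_of_linear_pow {G : Type u} [Group G] [Fintype G]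
    (M : Ideal AlgInt) (hM : IsPModular 2 M) (H : Subgroup G) [hHn : H.Normal] [Fintype H]
    (k : ℕ) (hidx : H.index = 2 ^ k) (hcomm : ¬ 2 ∣ (commutator H).index)
    (k' : ℕ) (hk' : k'.Coprime (Nat.card G)) (a : ℕ) (hord : ∀ g : G, g ^ (k' ^ (2 ^ a)) = g)
    (hext : ∀ φ : IrrCharacter H,
      (∀ (g : G) (n : H), (φ : H → ℂ) ⟨g * n * g⁻¹, hHn.conj_mem (n : G) n.2 g⟩ = (φ : H → ℂ) n) →
      Odd (charDegree (φ : H → ℂ)) → (∀ n : H, (φ : H → ℂ) (n ^ k') = (φ : H → ℂ) n) →
      ∃ χ : IrrCharacter G, (∀ n : H, (χ : G → ℂ) n = (φ : H → ℂ) n) ∧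
        ∀ g : G, (χ : G → ℂ) (g ^ k') = (χ : G → ℂ) g)
    (hlin : ∀ χ : IrrCharacter G, χ ∈ principalBlock M G → Odd (charDegree (χ : G → ℂ)) →
      (∀ g : G, (χ : G → ℂ) (g ^ k') = (χ : G → ℂ) g) → charDegree (χ : G → ℂ) = 1) :
    ¬ 2 ∣ Nat.card H := by
  classical
  haveI : Fact (Nat.Prime 2) := ⟨Nat.prime_two⟩
  haveI hMp := isPrime_of_isPModular hM
  have hMtop : M ≠ ⊤ := hM.2.1.ne_top
  intro hdvd
  have hev : Even (Nat.card H) := even_iff_two_dvd.mpr hdvd
  have hk'H : k'.Coprime (Nat.card H) :=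
    Nat.Coprime.coprime_dvd_right (Subgroup.card_subgroup_dvd_card H) hk'
  letI := conjAction H
  -- the three counts
  have hZ := even_card_odd_degree_principal (G := H) hM hev
  have hL := not_dvd_card_linear_principal (N := H) (M := M) 2 hcomm
  rw [Nat.card_eq_fintype_card, Fintype.card_subtype] at hL
  -- invariance
  obtain ⟨Ginv, hGinv⟩ : ∃ Ginv : IrrCharacter H → Prop, Ginv = fun φ : IrrCharacter H =>
      ∀ (g : G) (n : H), (φ : H → ℂ) ⟨g * n * g⁻¹, hHn.conj_mem (n : G) n.2 g⟩ = (φ : H → ℂ) n :=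
    ⟨_, rfl⟩
  have hGinv_iff : ∀ φ : IrrCharacter H, Ginv φ ↔ ∀ g : G, g • φ = φ := by
    intro φ
    rw [hGinv]
    exact (conjAction_fixed_iff H φ).symm
  have hdeginv : ∀ (g : G) (φ : IrrCharacter H),
      charDegree ((g • φ : IrrCharacter H) : H → ℂ) = charDegree (φ : H → ℂ) := by
    intro g φ
    unfold charDegree
    rw [conjAction_apply_one]
  have hmeminv1 : ∀ (g : G) (φ : IrrCharacter H), φ ∈ principalBlock M H →
      (g • φ : IrrCharacter H) ∈ principalBlock M H := by
    intro g φ hφ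
    have h1 := sameBlock_conjFun H
      (show SameBlock M (fun _ : H => (1 : ℂ)) (φ : H → ℂ) from hφ) g⁻¹
    have h2 : ((g • φ : IrrCharacter H) : H → ℂ)
        = Cfsg.Agent.Lib.helper3.Irr.conjFun H (φ : H → ℂ) g⁻¹ := by
      rw [Cfsg.Agent.Lib.helper3.Irr.conjFun_eq_comp]
      rfl
    show SameBlock M (fun _ : H => (1 : ℂ)) ((g • φ : IrrCharacter H) : H → ℂ)
    rw [h2]
    exact h1
  have hmeminv : ∀ (g : G) (φ : IrrCharacter H),
      (g • φ : IrrCharacter H) ∈ principalBlock M H ↔ φ ∈ principalBlock M H := by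
    intro g φ
    constructor
    · intro h
      have := hmeminv1 g⁻¹ _ h
      rwa [inv_smul_smul] at this
    · exact hmeminv1 g φ
  have hfixinv : ∀ (g : G) (φ : IrrCharacter H), Ginv (g • φ) ↔ Ginv φ := by
    intro g φ
    rw [hGinv_iff, hGinv_iff]
    constructor
    · intro h x
      have h1 := h (g * x * g⁻¹)
      have h2 : g⁻¹ • ((g * x * g⁻¹) • (g • φ)) = g⁻¹ • (g • φ) := by rw [h1]
      rw [inv_smul_smul, ← mul_smul, ← mul_smul] at h2
      have h3 : g⁻¹ * (g * x * g⁻¹) * g = x := by group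
      rw [h3] at h2
      exact h2
    · intro h x
      have h1 := h (g⁻¹ * x * g)
      rw [← mul_smul]
      have h3 : x * g = g * (g⁻¹ * x * g) := by group
      rw [h3, mul_smul, h1]
  -- stage A: the non-invariant members of `Z'` come in orbits of even size
  set wA : IrrCharacter H → ℤ := fun φ =>
    if (φ ∈ principalBlock M H ∧ Odd (charDegree (φ : H → ℂ)) ∧ charDegree (φ : H → ℂ) ≠ 1)
      ∧ ¬ Ginv φ then 1 else 0 with hwA
  have hA : (2 : ℤ) ∣ ∑ φ, wA φ := by
    have := dvd_sum_of_orbits (Γ := G) 2 wA ?_ ?_ ?_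
    · exact_mod_cast this
    · intro g φ
      simp only [hwA, hdeginv, hmeminv, hfixinv]
    · intro φ
      exact conjAction_card_orbit_pow H 2 k Nat.prime_two hidx φ
    · intro φ hφ
      simp only [hwA]
      rw [if_neg]
      · exact dvd_zero _
      · intro h
        exact h.2 ((hGinv_iff φ).mpr hφ)
  -- stage B: the invariant members of `Z'` are moved by the power map
  obtain ⟨X, hX⟩ : ∃ X : Type u, X = {φ : IrrCharacter H //
      (φ ∈ principalBlock M H ∧ Odd (charDegree (φ : H → ℂ)) ∧ charDegree (φ : H → ℂ) ≠ 1)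
        ∧ Ginv φ} := ⟨_, rfl⟩
  subst hX
  have hpowinv : ∀ φ : IrrCharacter H, Ginv φ → Ginv (powIrr k' hk'H φ) := by
    intro φ hφ
    rw [hGinv] at hφ ⊢
    intro g n
    rw [powIrr_apply, powIrr_apply]
    have h1 := hφ g (n ^ k')
    rw [← h1]
    apply congrArg (φ : H → ℂ)
    apply Subtype.ext
    simp only [Subgroup.coe_pow]
    rw [conj_pow]
  let f : {φ : IrrCharacter H //
      (φ ∈ principalBlock M H ∧ Odd (charDegree (φ : H → ℂ)) ∧ charDegree (φ : H → ℂ) ≠ 1)
        ∧ Ginv φ} → {φ : IrrCharacter H //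
      (φ ∈ principalBlock M H ∧ Odd (charDegree (φ : H → ℂ)) ∧ charDegree (φ : H → ℂ) ≠ 1)
        ∧ Ginv φ} :=
    fun x => ⟨powIrr k' hk'H x.1,
      ⟨powIrr_mem_principalBlock k' hk'H x.1 x.2.1.1,
        by rw [powIrr_charDegree]; exact x.2.1.2.1,
        by rw [powIrr_charDegree]; exact x.2.1.2.2⟩, hpowinv x.1 x.2.2⟩
  have hfit : ∀ (j : ℕ) (x : {φ : IrrCharacter H //
      (φ ∈ principalBlock M H ∧ Odd (charDegree (φ : H → ℂ)) ∧ charDegree (φ : H → ℂ) ≠ 1)
        ∧ Ginv φ}), ((f^[j] x).1 : IrrCharacter H) = (powIrr k' hk'H)^[j] x.1 := by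
    intro j
    induction j with
    | zero => intro x; rfl
    | succ j ih =>
      intro x
      rw [Function.iterate_succ_apply, Function.iterate_succ_apply, ih (f x)]
  have hf : ∀ x, f^[2 ^ a] x = x := by
    intro x
    apply Subtype.ext
    rw [hfit]
    apply Subtype.ext
    funext n
    rw [powIrr_iterate]
    apply congrArg (x.1 : H → ℂ)
    apply Subtype.ext
    rw [Subgroup.coe_pow]
    exact hord n
  have hmod := card_fixed_modEq_of_iterate 2 f a hf
  have hnofix : Nat.card {x : {φ : IrrCharacter H //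
      (φ ∈ principalBlock M H ∧ Odd (charDegree (φ : H → ℂ)) ∧ charDegree (φ : H → ℂ) ≠ 1)
        ∧ Ginv φ} // f x = x} = 0 := by
    haveI : IsEmpty {x : {φ : IrrCharacter H //
      (φ ∈ principalBlock M H ∧ Odd (charDegree (φ : H → ℂ)) ∧ charDegree (φ : H → ℂ) ≠ 1)
        ∧ Ginv φ} // f x = x} := by
      constructor
      rintro ⟨⟨φ, ⟨hφB, hφodd, hφne⟩, hφinv⟩, hfx⟩
      have hfixed : ∀ n : H, (φ : H → ℂ) (n ^ k') = (φ : H → ℂ) n := by
        intro n
        have := congrArg (fun y : {φ : IrrCharacter H //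
          (φ ∈ principalBlock M H ∧ Odd (charDegree (φ : H → ℂ)) ∧ charDegree (φ : H → ℂ) ≠ 1)
            ∧ Ginv φ} => ((y.1 : IrrCharacter H) : H → ℂ) n) hfx
        exact this
      rw [hGinv] at hφinv
      obtain ⟨χ, hχH, hχfix⟩ := hext φ hφinv hφodd hfixed
      have hover : classInner (fun n : H => (χ : G → ℂ) n) (φ : H → ℂ) ≠ 0 := by
        have : (fun n : H => (χ : G → ℂ) n) = (φ : H → ℂ) := funext hχH
        rw [this, irr_classInner_self φ.2]
        exact one_ne_zero
      have hχB := mem_principalBlock_of_over hM H ⟨k, hidx⟩ φ hφB χ hover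
      have hcd : charDegree (χ : G → ℂ) = charDegree (φ : H → ℂ) := by
        unfold charDegree
        have := hχH 1
        rw [Subgroup.coe_one] at this
        rw [this]
      have := hlin χ hχB (by rw [hcd]; exact hφodd) hχfix
      rw [hcd] at this
      exact hφne this
    exact Nat.card_of_isEmpty
  rw [hnofix] at hmod
  have hXeven : (2 : ℤ) ∣ (Nat.card {φ : IrrCharacter H //
      (φ ∈ principalBlock M H ∧ Odd (charDegree (φ : H → ℂ)) ∧ charDegree (φ : H → ℂ) ≠ 1)
        ∧ Ginv φ} : ℤ) := by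
    have : 2 ∣ Nat.card {φ : IrrCharacter H //
      (φ ∈ principalBlock M H ∧ Odd (charDegree (φ : H → ℂ)) ∧ charDegree (φ : H → ℂ) ≠ 1)
        ∧ Ginv φ} := (Nat.modEq_zero_iff_dvd).mp hmod
    exact_mod_cast this
  -- assemble
  rw [Nat.card_eq_fintype_card, Fintype.card_subtype, Finset.card_filter] at hXeven
  push_cast at hXeven
  have hsum := dvd_add hA hXeven
  rw [← Finset.sum_add_distrib] at hsum
  -- the total: |Z| = |Z'| + |L|
  have htot : ((Finset.univ.filter (fun χ : IrrCharacter H =>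
      χ ∈ principalBlock M H ∧ Odd (charDegree (χ : H → ℂ)))).card : ℤ)
      = ∑ φ : IrrCharacter H, (wA φ + (if (φ ∈ principalBlock M H ∧
          Odd (charDegree (φ : H → ℂ)) ∧ charDegree (φ : H → ℂ) ≠ 1) ∧ Ginv φ then (1 : ℤ) else 0))
        + ((Finset.univ.filter (fun φ : IrrCharacter H =>
          φ ∈ principalBlock M H ∧ (φ : H → ℂ) 1 = 1)).card : ℤ) := by
    rw [Finset.card_filter, Finset.card_filter]
    push_cast
    rw [← Finset.sum_add_distrib]
    apply Finset.sum_congr rfl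
    intro φ _
    simp only [hwA]
    have hiff : (φ : H → ℂ) 1 = 1 ↔ charDegree (φ : H → ℂ) = 1 := by
      rw [apply_one_eq_charDegree φ]
      constructor
      · intro h
        exact_mod_cast h
      · intro h
        rw [h]
        simp
    by_cases hφB : φ ∈ principalBlock M H
    · by_cases hd : charDegree (φ : H → ℂ) = 1
      · have hodd : Odd (charDegree (φ : H → ℂ)) := by rw [hd]; exact odd_one
        rw [if_pos ⟨hφB, hodd⟩, if_neg (by tauto), if_neg (by tauto),
          if_pos ⟨hφB, hiff.mpr hd⟩]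
        norm_num
      · by_cases hodd : Odd (charDegree (φ : H → ℂ))
        · by_cases hinv : Ginv φ
          · rw [if_pos ⟨hφB, hodd⟩, if_neg (by tauto), if_pos ⟨⟨hφB, hodd, hd⟩, hinv⟩,
              if_neg (by rw [hiff]; tauto)]
            norm_num
          · rw [if_pos ⟨hφB, hodd⟩, if_pos ⟨⟨hφB, hodd, hd⟩, hinv⟩, if_neg (by tauto),
              if_neg (by rw [hiff]; tauto)]
            norm_num
        · rw [if_neg (by tauto), if_neg (by tauto), if_neg (by tauto),
            if_neg (by rw [hiff]; tauto)]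
          norm_num
    · rw [if_neg (by tauto), if_neg (by tauto), if_neg (by tauto), if_neg (by tauto)]
      norm_num
  have hZ' : (2 : ℤ) ∣ ((Finset.univ.filter (fun χ : IrrCharacter H =>
      χ ∈ principalBlock M H ∧ Odd (charDegree (χ : H → ℂ)))).card : ℤ) := by
    exact_mod_cast hZ.two_dvd
  rw [htot] at hZ'
  have hLdvd := (dvd_add_right hsum).mp hZ'
  apply hL
  exact_mod_cast hLdvd

end Cfsg.Agent.Lib.helper3.PrincLin
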