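import Mathlib
import Cfsg.Prelude.Def_Blocks
import Cfsg.Prelude.Def_Transfer
import Cfsg.Agent.Lib.helper3.PrincLin3

set_option autoImplicit false
set_option linter.style.haveILetI false
set_option linter.unusedSectionVars false

/-!
# Normal `2`-complements: the criterion with the odd-degree characters of the principal block fixed
by the automorphism cubing the `2`-power roots of unity
-/

namespace Cfsg.Agent.Lib.helper3.PrincLin

open Cfsg Module Cfsg.Agent.Lib.helper3.IndFun Cfsg.Agent.Lib.helper3.CharBasic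
open Cfsg.Agent.Lib.helper3.Irr Cfsg.Agent.Lib.helper3.Block Cfsg.Agent.Lib.helper3.LocalM
open Cfsg.Agent.Lib.helper3.Lin Cfsg.Agent.Lib.helper3.PRes Cfsg.Agent.Lib.helper3.PrincOnly
open Cfsg.Agent.Lib.helper3.GalFix Cfsg.Agent.Lib.helper3.GalPow Cfsg.Agent.Lib.helper3.GlCyc
open scoped ComplexConjugate

universe u

theorem hasNormalPComplement_two_iff {G : Type u} [Group G] [Finite G] (M : Ideal AlgInt)
    (hM : IsPModular 2 M) (k : ℕ)
    (hk₁ : ∀ g : G, (∃ j : ℕ, orderOf g = 2 ^ j) → g ^ k = g ^ 3)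
    (hk₂ : ∀ g : G, Odd (orderOf g) → g ^ k = g) :
    HasNormalPComplement 2 G ↔ ∀ χ ∈ principalBlock M G, Odd (charDegree (χ : G → ℂ)) →
      (∀ g : G, (χ : G → ℂ) (g ^ k) = (χ : G → ℂ) g) → charDegree (χ : G → ℂ) = 1 := by
  classical
  letI : Fintype G := Fintype.ofFinite G
  haveI : Fact (Nat.Prime 2) := ⟨Nat.prime_two⟩
  constructor
  · intro h χ hχ hodd _
    apply linear_of_hasNormalPComplement 2 M hM h χ hχ
    apply Nat.factorization_eq_zero_of_not_dvd
    intro h2
    exact (Nat.not_even_iff_odd.mpr hodd) (even_iff_two_dvd.mpr h2)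
  · intro h
    obtain ⟨k', hk'cop, hpow, hk'1, hk'2⟩ := exists_coprime_pow_eq (G := G) 2 Nat.prime_two k 3
      (by norm_num) hk₁ (fun g hg => hk₂ g (Nat.Coprime.odd_of_right hg))
    obtain ⟨a, ha⟩ : ∃ a : ℕ, a = (Nat.card G).factorization 2 := ⟨_, rfl⟩
    rw [← ha] at hk'1
    have hk'N : k' ^ (2 ^ a) ≡ 1 [MOD Nat.card G] := by
      rw [ha]
      exact pow_two_pow_modEq_one (Nat.card G) k' (by rw [← ha]; exact hk'1) hk'2
    have hgN : ∀ g : G, g ^ (k' ^ (2 ^ a)) = g := by
      intro g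
      have h1 : k' ^ (2 ^ a) ≡ 1 [MOD orderOf g] := hk'N.of_dvd (orderOf_dvd_natCard g)
      have := (pow_eq_pow_iff_modEq (x := g)).2 h1
      rw [this, pow_one]
    haveI hHn : (Cfsg.pResidual 2 G).Normal := Cfsg.Agent.H1.pResidual_normal 2
    letI : Fintype (Cfsg.pResidual 2 G) := Fintype.ofFinite _
    obtain ⟨⟨j, hidx⟩, hcomm⟩ := pResidual_facts 2 Nat.prime_two (Cfsg.pResidual 2 G) rfl
    refine Cfsg.Agent.Lib.Lead.PComplement.hasNormalPComplement_of_normal (Cfsg.pResidual 2 G) ?_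
      (n := j) hidx
    rw [Nat.coprime_comm, Nat.Prime.coprime_iff_not_dvd Nat.prime_two]
    apply odd_card_of_linear_pow M hM (Cfsg.pResidual 2 G) j hidx hcomm k' hk'cop a hgN
    · intro φ hinv hodd hfix
      obtain ⟨d, hd1, -, -⟩ := Cfsg.Agent.Lib.helper3.Central.irr_degree_dvd_card φ.2
      have hcd : charDegree (φ : Cfsg.pResidual 2 G → ℂ) = d := charDegree_eq hd1
      rw [hcd] at hodd
      have hpd : ¬ 2 ∣ d := fun h2 => (Nat.not_even_iff_odd.mpr hodd) (even_iff_two_dvd.mpr h2)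
      obtain ⟨χ, ⟨hχ, hχH, hχord⟩, huniq⟩ := existsUnique_extension_pResidual 2 Nat.prime_two
        (Cfsg.pResidual 2 G) rfl (φ : Cfsg.pResidual 2 G → ℂ) φ.2 hinv d hd1 hpd
      refine ⟨⟨χ, hχ⟩, hχH, ?_⟩
      have hψ : IsIrrCharacter G (fun g => χ (g ^ k')) := isIrrCharacter_pow hχ k' hk'cop
      have hψH : ∀ n : Cfsg.pResidual 2 G, (fun g => χ (g ^ k')) (n : G)
          = (φ : Cfsg.pResidual 2 G → ℂ) n := by
        intro n
        show χ ((n : G) ^ k') = _
        have h1 := hχH (n ^ k')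
        rw [Subgroup.coe_pow] at h1
        rw [h1, hfix n]
      have hψord : ¬ 2 ∣ detOrder (fun g => χ (g ^ k')) := by
        intro h2
        exact hχord (dvd_trans h2 (detOrder_pow_conj_dvd (isCharacter_of_isIrrCharacter hχ)
          (isCharacter_of_isIrrCharacter hψ) k' (fun x => rfl)))
      have := huniq _ hψ hψH hψord
      intro g
      exact congrFun this g
    · intro χ hχ hodd hfix
      apply h χ hχ hodd
      intro g
      rw [hpow g]
      exact hfix g

end Cfsg.Agent.Lib.helper3.PrincLin
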