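import Mathlib
import Cfsg.Prelude.Def_Blocks
import Cfsg.Prelude.Def_Transfer
import Cfsg.Agent.Lib.helper3.GalCount1
import Cfsg.Agent.Lib.helper3.PrincLin4
import Cfsg.Agent.Lib.helper3.PRes3

/-!
# Counting the characters of degree prime to `p` in the principal block fixed by the automorphism
raising `p`-power roots of unity to the power `1 + p`, for a cyclic `p`-quotient
-/

set_option autoImplicit false
set_option linter.style.haveILetI false
set_option linter.unusedSectionVars false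
set_option maxHeartbeats 1000000

namespace Cfsg.Agent.Lib.helper3.GalCount

open Cfsg Module Cfsg.Agent.Lib.helper3.IndFun Cfsg.Agent.Lib.helper3.CharBasic
open Cfsg.Agent.Lib.helper3.Irr Cfsg.Agent.Lib.helper3.Block Cfsg.Agent.Lib.helper3.LocalM
open Cfsg.Agent.Lib.helper3.Lin Cfsg.Agent.Lib.helper3.PRes Cfsg.Agent.Lib.helper3.PrincOnly
open Cfsg.Agent.Lib.helper3.GalFix Cfsg.Agent.Lib.helper3.GalPow Cfsg.Agent.Lib.helper3.GlCyc
open Cfsg.Agent.Lib.helper3.PrincLin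
open scoped ComplexConjugate

universe u

/-- The irreducible character of a quotient attached to a homomorphism to `ℂˣ`. -/
noncomputable def irrOfHom {Q : Type*} [Group Q] [Finite Q] (μ : Q →* ℂˣ) : IrrCharacter Q :=
  ⟨fun q => ((μ q : ℂˣ) : ℂ), isIrrCharacter_of_linear (isCharacter_of_hom μ) (by simp)⟩

theorem irrOfHom_apply {Q : Type*} [Group Q] [Finite Q] (μ : Q →* ℂˣ) (q : Q) :
    (irrOfHom μ : Q → ℂ) q = ((μ q : ℂˣ) : ℂ) := rfl

theorem irrOfHom_injective {Q : Type*} [Group Q] [Finite Q] :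
    Function.Injective (irrOfHom (Q := Q)) := by
  intro μ μ' h
  ext q
  have := congrFun (congrArg Subtype.val h) q
  exact this

theorem pow_eq_self_of_pow_eq_one {A : Type*} [Group A] (u : A) (p k : ℕ) (hu : u ^ p = 1)
    (hk : k ≡ 1 [MOD p]) : u ^ k = u := by
  have h1 : orderOf u ∣ p := orderOf_dvd_of_pow_eq_one hu
  have h2 : k ≡ 1 [MOD orderOf u] := hk.of_dvd h1
  have := (pow_eq_pow_iff_modEq (x := u)).2 h2
  rw [this, pow_one]

theorem card_fixed_principal {G : Type u} [Group G] [Finite G] (p : ℕ) [hpf : Fact p.Prime]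
    (M : Ideal AlgInt) (hM : IsPModular p M) (P : Sylow p G) (N : Subgroup G) [hN : N.Normal]
    (hNres : N = Cfsg.pResidual p G) (hcyc : IsCyclic (G ⧸ N)) (hnt : N ≠ ⊤) (k : ℕ)
    (hk₁ : ∀ g : G, (∃ j : ℕ, orderOf g = p ^ j) → g ^ k = g ^ (1 + p))
    (hk₂ : ∀ g : G, Nat.Coprime (orderOf g) p → g ^ k = g) :
    Nat.card {χ : IrrCharacter G // χ ∈ principalBlock M G ∧ ¬ p ∣ charDegree (χ : G → ℂ) ∧
        ∀ g : G, (χ : G → ℂ) (g ^ k) = (χ : G → ℂ) g}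
      = p * Nat.card {θ : IrrCharacter ↥N // θ ∈ principalBlock M ↥N ∧
        ¬ p ∣ charDegree (θ : ↥N → ℂ) ∧
        (∀ x ∈ (P : Subgroup G), ∀ n : ↥N,
          (θ : ↥N → ℂ) ⟨x * n * x⁻¹, hN.conj_mem n n.2 x⟩ = (θ : ↥N → ℂ) n) ∧
        ∀ n : ↥N, (θ : ↥N → ℂ) (n ^ k) = (θ : ↥N → ℂ) n} := by
  classical
  letI : Fintype G := Fintype.ofFinite G
  letI : Fintype N := Fintype.ofFinite N
  have hp : p.Prime := hpf.out
  obtain ⟨⟨j, hidx⟩, hcomm⟩ := pResidual_facts p hp N hNres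
  -- the quotient
  have hj0 : j ≠ 0 := by
    intro h0
    rw [h0, pow_zero] at hidx
    exact hnt (Subgroup.index_eq_one.mp hidx)
  have hcardQ : Nat.card (G ⧸ N) = p ^ j := by
    rw [← Subgroup.index_eq_card]
    exact hidx
  have hpQ : p ∣ Nat.card (G ⧸ N) := by
    rw [hcardQ]
    exact dvd_pow_self p hj0
  have hpG : p ∣ Nat.card G := by
    have : N.index ∣ Nat.card G := Subgroup.index_dvd_card N
    rw [hidx] at this
    exact dvd_trans (dvd_pow_self p hj0) this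
  -- `k ≡ 1 mod p`
  have hk1p : k ≡ 1 [MOD p] := by
    obtain ⟨g, hg⟩ := exists_prime_orderOf_dvd_card' (G := G) p hpG
    have h1 := hk₁ g ⟨1, by rw [hg, pow_one]⟩
    have h2 := (pow_eq_pow_iff_modEq (x := g)).1 h1
    rw [hg] at h2
    have h3 : (1 + p) ≡ 1 [MOD p] := by
      have : (1 + p) % p = 1 % p := by rw [Nat.add_mod_right]
      exact this
    exact h2.trans h3
  obtain ⟨k', hk'cop, hpow, -, -⟩ := exists_coprime_pow_eq (G := G) p hp k (1 + p)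
    (by
      rw [Nat.coprime_comm, Nat.Prime.coprime_iff_not_dvd hp]
      intro h
      have : p ∣ 1 := (Nat.dvd_add_left (dvd_refl p)).mp h
      exact hp.one_lt.ne' (Nat.dvd_one.mp this)) hk₁ hk₂
  -- invariance
  have hGinv : ∀ θ : IrrCharacter ↥N,
      (∀ x ∈ (P : Subgroup G), ∀ n : ↥N,
        (θ : ↥N → ℂ) ⟨x * n * x⁻¹, hN.conj_mem n n.2 x⟩ = (θ : ↥N → ℂ) n) →
      ∀ (g : G) (n : ↥N), (θ : ↥N → ℂ) ⟨g * n * g⁻¹, hN.conj_mem (n : G) n.2 g⟩
        = (θ : ↥N → ℂ) n := by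
    intro θ hθ g n
    obtain ⟨m, hm, y, hy, rfl⟩ := exists_mul_of_sup_sylow p N j hidx P g
    have hcf := isClassFunction_of_isCharacter (isCharacter_of_isIrrCharacter θ.2)
    have h1 := hcf ⟨y * n * y⁻¹, hN.conj_mem n n.2 y⟩ ⟨m, hm⟩
    rw [← hθ y hy n, ← h1]
    apply congrArg
    apply Subtype.ext
    simp only [Subgroup.coe_mul, Subgroup.coe_inv, mul_inv_rev]
    group
  -- the canonical extensions
  obtain ⟨T, hT⟩ : ∃ T : Set (IrrCharacter ↥N), T = {θ : IrrCharacter ↥N |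
      θ ∈ principalBlock M ↥N ∧ ¬ p ∣ charDegree (θ : ↥N → ℂ) ∧
      (∀ x ∈ (P : Subgroup G), ∀ n : ↥N,
        (θ : ↥N → ℂ) ⟨x * n * x⁻¹, hN.conj_mem n n.2 x⟩ = (θ : ↥N → ℂ) n) ∧
      ∀ n : ↥N, (θ : ↥N → ℂ) (n ^ k) = (θ : ↥N → ℂ) n} := ⟨_, rfl⟩
  have hTmem : ∀ θ : IrrCharacter ↥N, θ ∈ T ↔ (θ ∈ principalBlock M ↥N ∧
      ¬ p ∣ charDegree (θ : ↥N → ℂ) ∧
      (∀ x ∈ (P : Subgroup G), ∀ n : ↥N,
        (θ : ↥N → ℂ) ⟨x * n * x⁻¹, hN.conj_mem n n.2 x⟩ = (θ : ↥N → ℂ) n) ∧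
      ∀ n : ↥N, (θ : ↥N → ℂ) (n ^ k) = (θ : ↥N → ℂ) n) := by
    intro θ
    rw [hT]
    rfl
  have hex : ∀ θ : IrrCharacter ↥N, θ ∈ T → ∃ χ : G → ℂ,
      (IsIrrCharacter G χ ∧ (∀ n : ↥N, χ n = (θ : ↥N → ℂ) n) ∧ ¬ p ∣ Cfsg.detOrder χ) ∧
      ∀ g : G, χ (g ^ k) = χ g := by
    intro θ hθT
    obtain ⟨hθB, hθd, hθP, hθσ⟩ := (hTmem θ).mp hθT
    obtain ⟨d, hd1, -, -⟩ := Cfsg.Agent.Lib.helper3.Central.irr_degree_dvd_card θ.2
    have hcd : charDegree (θ : ↥N → ℂ) = d := charDegree_eq hd1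
    rw [hcd] at hθd
    obtain ⟨χ, ⟨hχ, hχH, hχord⟩, huniq⟩ := existsUnique_extension_pResidual p hp
      N hNres (θ : ↥N → ℂ) θ.2 (hGinv θ hθP) d hd1 hθd
    refine ⟨χ, ⟨hχ, hχH, hχord⟩, ?_⟩
    have hψ : IsIrrCharacter G (fun g => χ (g ^ k')) := isIrrCharacter_pow hχ k' hk'cop
    have hψH : ∀ n : ↥N, (fun g => χ (g ^ k')) (n : G) = (θ : ↥N → ℂ) n := by
      intro n
      show χ ((n : G) ^ k') = _
      rw [← hpow]
      have h1 := hχH (n ^ k)
      rw [Subgroup.coe_pow] at h1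
      rw [h1, hθσ n]
    have hψord : ¬ p ∣ detOrder (fun g => χ (g ^ k')) := by
      intro h2
      exact hχord (dvd_trans h2 (detOrder_pow_conj_dvd (isCharacter_of_isIrrCharacter hχ)
        (isCharacter_of_isIrrCharacter hψ) k' (fun x => rfl)))
    have := huniq _ hψ hψH hψord
    intro g
    rw [hpow g]
    exact congrFun this g
  choose ext hext hextσ using hex
  obtain ⟨F, hF⟩ : ∃ F : (θ : IrrCharacter ↥N) → θ ∈ T → ((G ⧸ N) →* ℂˣ) → G → ℂ,
      ∀ θ hθ μ g, F θ hθ μ g = ((μ (g : G ⧸ N) : ℂˣ) : ℂ) * ext θ hθ g :=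
    ⟨fun θ hθ μ g => ((μ (g : G ⧸ N) : ℂˣ) : ℂ) * ext θ hθ g, fun _ _ _ _ => rfl⟩
  have hextN : ∀ θ hθ, IsIrrCharacter ↥N (fun n : ↥N => ext θ hθ n) := by
    intro θ hθ
    have : (fun n : ↥N => ext θ hθ n) = (θ : ↥N → ℂ) := funext (hext θ hθ).2.1
    rw [this]
    exact θ.2
  have hgal : ∀ θ hθ, (∀ β : IrrCharacter (G ⧸ N),
        IsIrrCharacter G (inflate N (β : G ⧸ N → ℂ) * ext θ hθ)) ∧
      ∀ β γ : IrrCharacter (G ⧸ N),
        inflate N (β : G ⧸ N → ℂ) * ext θ hθ = inflate N (γ : G ⧸ N → ℂ) * ext θ hθ → β = γ :=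
    fun θ hθ => gallagher_inflate N (ext θ hθ) (isCharacter_of_isIrrCharacter (hext θ hθ).1)
      (apply_one_ne_zero (hext θ hθ).1) (hextN θ hθ)
  have hFinf : ∀ θ hθ μ, F θ hθ μ = inflate N (irrOfHom μ : G ⧸ N → ℂ) * ext θ hθ := by
    intro θ hθ μ
    funext g
    rw [hF, Pi.mul_apply, inflate_apply, irrOfHom_apply]
  have key1 : ∀ θ hθ μ, IsIrrCharacter G (F θ hθ μ) := by
    intro θ hθ μ
    rw [hFinf]
    exact (hgal θ hθ).1 (irrOfHom μ)
  have key2 : ∀ θ hθ μ (n : ↥N), F θ hθ μ (n : G) = (θ : ↥N → ℂ) n := by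
    intro θ hθ μ n
    rw [hF, (hext θ hθ).2.1 n]
    have : ((n : G) : G ⧸ N) = 1 := (QuotientGroup.eq_one_iff _).mpr n.2
    rw [this, map_one, Units.val_one, one_mul]
  have key3 : ∀ (θ : IrrCharacter ↥N), θ ∈ T → ∀ χ : IrrCharacter G,
      (∀ n : ↥N, (χ : G → ℂ) n = (θ : ↥N → ℂ) n) → χ ∈ principalBlock M G := by
    intro θ hθ χ hχ
    apply mem_principalBlock_of_over hM N ⟨j, hidx⟩ θ ((hTmem θ).mp hθ).1 χ
    have : (fun n : ↥N => (χ : G → ℂ) n) = (θ : ↥N → ℂ) := funext hχ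
    rw [this, irr_classInner_self θ.2]
    exact one_ne_zero
  have key4 : ∀ (θ : IrrCharacter ↥N) (χ : G → ℂ),
      (∀ n : ↥N, χ n = (θ : ↥N → ℂ) n) → charDegree χ = charDegree (θ : ↥N → ℂ) := by
    intro θ χ hχ
    unfold charDegree
    have := hχ 1
    rw [Subgroup.coe_one] at this
    rw [this]
  have key5 : ∀ θ hθ (μ : (G ⧸ N) →* ℂˣ), μ ^ p = 1 → ∀ g : G,
      F θ hθ μ (g ^ k) = F θ hθ μ g := by
    intro θ hθ μ hμ g
    rw [hF, hF, hextσ θ hθ g]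
    congr 1
    have h1 : ((g ^ k : G) : G ⧸ N) = (g : G ⧸ N) ^ k := rfl
    rw [h1, map_pow]
    have h2 : (μ (g : G ⧸ N)) ^ p = 1 := by
      have := congrArg (fun ν : (G ⧸ N) →* ℂˣ => ν (g : G ⧸ N)) hμ
      simpa using this
    rw [pow_eq_self_of_pow_eq_one _ p k h2 hk1p]
  -- the bijection
  let Φ : (↥T × {μ : (G ⧸ N) →* ℂˣ // μ ^ p = 1}) →
      {χ : IrrCharacter G // χ ∈ principalBlock M G ∧ ¬ p ∣ charDegree (χ : G → ℂ) ∧
        ∀ g : G, (χ : G → ℂ) (g ^ k) = (χ : G → ℂ) g} := fun x =>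
    ⟨⟨F x.1.1 x.1.2 x.2.1, key1 x.1.1 x.1.2 x.2.1⟩,
      key3 x.1.1 x.1.2 ⟨F x.1.1 x.1.2 x.2.1, key1 x.1.1 x.1.2 x.2.1⟩ (key2 x.1.1 x.1.2 x.2.1),
      by
        show ¬ p ∣ charDegree (F x.1.1 x.1.2 x.2.1)
        rw [key4 x.1.1 (F x.1.1 x.1.2 x.2.1) (key2 x.1.1 x.1.2 x.2.1)]
        exact ((hTmem x.1.1).mp x.1.2).2.1,
      key5 x.1.1 x.1.2 x.2.1 x.2.2⟩
  have hΦ : ∀ x g, ((Φ x).1 : G → ℂ) g = F x.1.1 x.1.2 x.2.1 g := fun _ _ => rfl
  have hinj : Function.Injective Φ := by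
    rintro ⟨⟨θ, hθ⟩, ⟨μ, hμ⟩⟩ ⟨⟨θ', hθ'⟩, ⟨μ', hμ'⟩⟩ h
    have hfun : ∀ g, F θ hθ μ g = F θ' hθ' μ' g := by
      intro g
      have := congrArg (fun a => ((a.1 : IrrCharacter G) : G → ℂ) g) h
      exact this
    have hθθ' : θ = θ' := by
      apply Subtype.ext
      funext n
      rw [← key2 θ hθ μ n, hfun, key2 θ' hθ' μ' n]
    subst hθθ'
    have hμμ' : μ = μ' := by
      apply irrOfHom_injective
      apply (hgal θ hθ).2
      rw [← hFinf, ← hFinf]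
      funext g
      exact hfun g
    subst hμμ'
    rfl
  have hsurj : Function.Surjective Φ := by
    rintro ⟨χ, hχB, hχd, hχσ⟩
    have hχc := isCharacter_of_isIrrCharacter χ.2
    have hcf := isClassFunction_of_isCharacter hχc
    obtain ⟨d, hd1, -, -⟩ := Cfsg.Agent.Lib.helper3.Central.irr_degree_dvd_card χ.2
    have hcd : charDegree (χ : G → ℂ) = d := charDegree_eq hd1
    have hpd : ¬ p ∣ d := by rw [← hcd]; exact hχd
    have hθirr := restrict_irr_pResidual p hp N hNres (χ : G → ℂ) χ.2 d hd1 hpd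
    obtain ⟨θ, hθdef⟩ : ∃ θ : IrrCharacter ↥N, ∀ n : ↥N, (θ : ↥N → ℂ) n = (χ : G → ℂ) n :=
      ⟨⟨_, hθirr⟩, fun _ => rfl⟩
    have hθT : θ ∈ T := by
      rw [hTmem]
      refine ⟨?_, ?_, ?_, ?_⟩
      · apply constituent_mem_principalBlock hM N χ hχB θ
        have : (fun n : ↥N => (χ : G → ℂ) n) = (θ : ↥N → ℂ) := funext (fun n => (hθdef n).symm)
        rw [this, irr_classInner_self θ.2]
        exact one_ne_zero
      · rw [← key4 θ (χ : G → ℂ) (fun n => (hθdef n).symm)]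
        exact hχd
      · intro x _ n
        rw [hθdef, hθdef]
        exact hcf (n : G) x
      · intro n
        rw [hθdef, hθdef, Subgroup.coe_pow]
        exact hχσ n
    have hres : ∀ n : ↥N, (χ : G → ℂ) n = ext θ hθT n := by
      intro n
      rw [(hext θ hθT).2.1 n, hθdef]
    obtain ⟨β, hβc, hβ1, hβN, hχβ⟩ := exists_linear_mul_of_restrict_eq N (ext θ hθT) (χ : G → ℂ)
      (hext θ hθT).1 χ.2 (hextN θ hθT) hres
    have hker : N ≤ (toUnitsHom hβc hβ1).ker := by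
      intro n hn
      rw [MonoidHom.mem_ker]
      apply Units.ext
      rw [toUnitsHom_apply, Units.val_one]
      exact hβN ⟨n, hn⟩
    obtain ⟨μ, hμdef⟩ : ∃ μ : (G ⧸ N) →* ℂˣ, ∀ g : G,
        ((μ (g : G ⧸ N) : ℂˣ) : ℂ) = β g := by
      refine ⟨QuotientGroup.lift N (toUnitsHom hβc hβ1) hker, ?_⟩
      intro g
      rw [QuotientGroup.lift_mk, toUnitsHom_apply]
    have hχF : ∀ g, (χ : G → ℂ) g = F θ hθT μ g := by
      intro g
      rw [hF, hμdef, hχβ]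
      rfl
    -- `μ ^ k = μ`
    have hμk : μ ^ k = μ := by
      apply irrOfHom_injective
      apply (hgal θ hθT).2
      funext g
      rw [Pi.mul_apply, Pi.mul_apply, inflate_apply, inflate_apply, irrOfHom_apply,
        irrOfHom_apply, MonoidHom.pow_apply, Units.val_pow_eq_pow_val]
      have h1 : ((g ^ k : G) : G ⧸ N) = (g : G ⧸ N) ^ k := rfl
      have h2 := hχσ g
      rw [hχF, hχF, hF, hF, hextσ θ hθT g, h1, map_pow, Units.val_pow_eq_pow_val] at h2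
      exact h2
    have hμp : μ ^ p = 1 := by
      apply MonoidHom.ext
      intro q
      obtain ⟨g, rfl⟩ := QuotientGroup.mk_surjective q
      obtain ⟨m, hm, y, hy, rfl⟩ := exists_mul_of_sup_sylow p N j hidx P g
      have hmk : ((m * y : G) : G ⧸ N) = (y : G ⧸ N) := by
        rw [QuotientGroup.mk_mul, (QuotientGroup.eq_one_iff m).mpr hm, one_mul]
      rw [hmk]
      have hyp : ∃ i : ℕ, orderOf y = p ^ i := by
        have hPp : IsPGroup p (P : Subgroup G) := P.isPGroup'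
        obtain ⟨i, hi⟩ := hPp ⟨y, hy⟩
        have h1 : y ^ p ^ i = 1 := by
          have := congrArg (fun t : (P : Subgroup G) => (t : G)) hi
          simpa using this
        obtain ⟨i', -, hi'⟩ := (Nat.dvd_prime_pow hp).mp (orderOf_dvd_of_pow_eq_one h1)
        exact ⟨i', hi'⟩
      have h1 := hk₁ y hyp
      have h2 : (μ (y : G ⧸ N)) ^ k = μ (y : G ⧸ N) := by
        have := congrArg (fun ν : (G ⧸ N) →* ℂˣ => ν (y : G ⧸ N)) hμk
        simpa using this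
      have h3 : (μ (y : G ⧸ N)) ^ k = (μ (y : G ⧸ N)) ^ (1 + p) := by
        rw [← map_pow, ← map_pow]
        have e1 : ((y ^ k : G) : G ⧸ N) = (y : G ⧸ N) ^ k := rfl
        have e2 : ((y ^ (1 + p) : G) : G ⧸ N) = (y : G ⧸ N) ^ (1 + p) := rfl
        rw [← e1, ← e2, h1]
      rw [h2, pow_add, pow_one] at h3
      have h4 : (μ (y : G ⧸ N)) ^ p = 1 := by
        have := mul_left_cancel (a := μ (y : G ⧸ N)) (b := 1) (c := (μ (y : G ⧸ N)) ^ p)
          (by rw [mul_one]; exact h3)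
        exact this.symm
      simpa using h4
    refine ⟨(⟨θ, hθT⟩, ⟨μ, hμp⟩), ?_⟩
    apply Subtype.ext
    apply Subtype.ext
    funext g
    rw [hΦ]
    exact (hχF g).symm
  have hcard := Nat.card_congr (Equiv.ofBijective Φ ⟨hinj, hsurj⟩)
  rw [← hcard, Nat.card_prod]
  letI : CommGroup (G ⧸ N) := IsCyclic.commGroup
  have hΛ := card_hom_pow_eq_one (G ⧸ N) p hpQ
  rw [mul_comm]
  congr 1
  exact Nat.card_congr (Equiv.subtypeEquivRight hTmem)

end Cfsg.Agent.Lib.helper3.GalCount
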