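import Mathlib
import Cfsg.Agent.Lib.helper3.Glaub1

/-!
# Counting invariant conjugacy classes under a solvable coprime operator group
-/

set_option autoImplicit false
set_option linter.style.haveILetI false
set_option linter.unusedSectionVars false

namespace Cfsg.Agent.Lib.helper3.GlS

open Cfsg.Agent.Lib.helper3.Glaub

variable {Γ : Type*} [Group Γ]

/-- Glauberman's lemma for the two-sided action `(x, y) • g = x * g * y⁻¹` of `Γ × Γ` on `Γ`. -/
theorem biact_fixed [Finite Γ] (A B : Subgroup (Γ × Γ))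
    (hnorm : ∀ b ∈ B, ∀ a ∈ A, b * a * b⁻¹ ∈ A)
    (hcop : (Nat.card A).Coprime (Nat.card B))
    (hsolv : Group.IsSolvable A ∨ Group.IsSolvable B) (Ω : Set Γ) (hne : Ω.Nonempty)
    (hstabA : ∀ a ∈ A, ∀ ω ∈ Ω, a.1 * ω * a.2⁻¹ ∈ Ω)
    (hstabB : ∀ b ∈ B, ∀ ω ∈ Ω, b.1 * ω * b.2⁻¹ ∈ Ω)
    (htrans : ∀ ω ∈ Ω, ∀ ω' ∈ Ω, ∃ a ∈ A, a.1 * ω * a.2⁻¹ = ω') :
    ∃ ω ∈ Ω, ∀ b ∈ B, b.1 * ω * b.2⁻¹ = ω := by
  letI : MulAction (Γ × Γ) Γ :=
    { smul := fun x g => x.1 * g * x.2⁻¹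
      one_smul := fun g => by
        show (1 : Γ × Γ).1 * g * (1 : Γ × Γ).2⁻¹ = g
        simp
      mul_smul := fun x y g => by
        show (x * y).1 * g * (x * y).2⁻¹ = x.1 * (y.1 * g * y.2⁻¹) * x.2⁻¹
        simp only [Prod.fst_mul, Prod.snd_mul, mul_inv_rev]
        group }
  exact fixed_point A B hnorm hcop hsolv Ω hne hstabA hstabB htrans

/-- The diagonal embedding. -/
def diag (Γ : Type*) [Group Γ] : Γ →* Γ × Γ := (MonoidHom.id Γ).prod (MonoidHom.id Γ)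

theorem diag_injective : Function.Injective (diag Γ) := by
  intro a b h
  exact congrArg Prod.fst h

theorem diag_apply (g : Γ) : diag Γ g = (g, g) := rfl

/-- A class of `G` stable under `S` contains an element centralised by `S`. -/
theorem exists_fixed_conj [Finite Γ] (G S : Subgroup Γ)
    (hnorm : ∀ s ∈ S, ∀ g ∈ G, s * g * s⁻¹ ∈ G)
    (hcop : (Nat.card G).Coprime (Nat.card S)) (hsolv : Group.IsSolvable S)
    (Ω : Set Γ) (hne : Ω.Nonempty)
    (hG : ∀ g ∈ G, ∀ ω ∈ Ω, g * ω * g⁻¹ ∈ Ω) (hS : ∀ s ∈ S, ∀ ω ∈ Ω, s * ω * s⁻¹ ∈ Ω)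
    (htrans : ∀ ω ∈ Ω, ∀ ω' ∈ Ω, ∃ g ∈ G, g * ω * g⁻¹ = ω') :
    ∃ ω ∈ Ω, ∀ s ∈ S, s * ω * s⁻¹ = ω := by
  have hsolv' : Group.IsSolvable (S.map (diag Γ)) :=
    Group.isSolvable_of_surjective (f := (S.equivMapOfInjective (diag Γ) diag_injective).toMonoidHom)
      (S.equivMapOfInjective (diag Γ) diag_injective).surjective
  obtain ⟨ω, hω, hfix⟩ := biact_fixed (G.map (diag Γ)) (S.map (diag Γ))
    (by
      rintro _ ⟨s, hs, rfl⟩ _ ⟨g, hg, rfl⟩
      refine ⟨s * g * s⁻¹, hnorm s hs g hg, ?_⟩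
      simp [map_mul, map_inv])
    (by
      rw [Subgroup.card_map_of_injective diag_injective,
        Subgroup.card_map_of_injective diag_injective]
      exact hcop)
    (Or.inr hsolv') Ω hne
    (by
      rintro _ ⟨g, hg, rfl⟩ ω hω
      exact hG g hg ω hω)
    (by
      rintro _ ⟨s, hs, rfl⟩ ω hω
      exact hS s hs ω hω)
    (by
      intro ω hω ω' hω'
      obtain ⟨g, hg, hgω⟩ := htrans ω hω ω' hω'
      exact ⟨diag Γ g, ⟨g, hg, rfl⟩, hgω⟩)
  refine ⟨ω, hω, ?_⟩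
  intro s hs
  exact hfix (diag Γ s) ⟨s, hs, rfl⟩

/-- Two elements centralised by `S` that are conjugate in `G` are conjugate in the fixed points. -/
theorem exists_fixed_conjugator [Finite Γ] (G S : Subgroup Γ)
    (hnorm : ∀ s ∈ S, ∀ g ∈ G, s * g * s⁻¹ ∈ G)
    (hcop : (Nat.card G).Coprime (Nat.card S)) (hsolv : Group.IsSolvable S)
    (c c' : Γ) (hc : ∀ s ∈ S, s * c = c * s) (hc' : ∀ s ∈ S, s * c' = c' * s)
    (hconj : ∃ g ∈ G, g * c * g⁻¹ = c') :
    ∃ g ∈ G, (∀ s ∈ S, s * g * s⁻¹ = g) ∧ g * c * g⁻¹ = c' := by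
  have hsolv' : Group.IsSolvable (S.map (diag Γ)) :=
    Group.isSolvable_of_surjective (f := (S.equivMapOfInjective (diag Γ) diag_injective).toMonoidHom)
      (S.equivMapOfInjective (diag Γ) diag_injective).surjective
  have hinl : Function.Injective (MonoidHom.inl Γ Γ) := by
    intro a b h
    exact congrArg Prod.fst h
  obtain ⟨A₀, hA₀⟩ : ∃ A₀ : Subgroup Γ, A₀ = G ⊓ Subgroup.centralizer ({c'} : Set Γ) :=
    ⟨_, rfl⟩
  have hA₀mem : ∀ a, a ∈ A₀ ↔ a ∈ G ∧ a * c' = c' * a := by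
    intro a
    rw [hA₀, Subgroup.mem_inf, Subgroup.mem_centralizer_iff]
    constructor
    · rintro ⟨h1, h2⟩
      exact ⟨h1, (h2 c' rfl).symm⟩
    · rintro ⟨h1, h2⟩
      refine ⟨h1, ?_⟩
      intro x hx
      rw [Set.mem_singleton_iff] at hx
      rw [hx]
      exact h2.symm
  obtain ⟨ω, ⟨hωG, hωc⟩, hfix⟩ := biact_fixed (A₀.map (MonoidHom.inl Γ Γ)) (S.map (diag Γ))
    (by
      rintro _ ⟨s, hs, rfl⟩ _ ⟨a, ha, rfl⟩
      replace ha : a ∈ A₀ := ha
      replace hs : s ∈ S := hs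
      rw [hA₀mem] at ha
      refine ⟨s * a * s⁻¹, ?_, ?_⟩
      · show s * a * s⁻¹ ∈ A₀
        rw [hA₀mem]
        refine ⟨hnorm s hs a ha.1, ?_⟩
        have h1 := hc' s hs
        have h2 : s⁻¹ * c' = c' * s⁻¹ := by
          have := hc' s⁻¹ (S.inv_mem hs)
          exact this
        calc s * a * s⁻¹ * c' = s * a * (s⁻¹ * c') := by group
          _ = s * a * (c' * s⁻¹) := by rw [h2]
          _ = s * (a * c') * s⁻¹ := by group
          _ = s * (c' * a) * s⁻¹ := by rw [ha.2]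
          _ = (s * c') * a * s⁻¹ := by group
          _ = (c' * s) * a * s⁻¹ := by rw [h1]
          _ = c' * (s * a * s⁻¹) := by group
      · simp [diag_apply, map_mul, map_inv])
    (by
      rw [Subgroup.card_map_of_injective hinl,
        Subgroup.card_map_of_injective diag_injective]
      exact Nat.Coprime.coprime_dvd_left
        (Subgroup.card_dvd_of_le (hA₀ ▸ inf_le_left : A₀ ≤ G)) hcop)
    (Or.inr hsolv') {g : Γ | g ∈ G ∧ g * c * g⁻¹ = c'}
    (by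
      obtain ⟨g, hg, hgc⟩ := hconj
      exact ⟨g, hg, hgc⟩)
    (by
      rintro _ ⟨a, ha, rfl⟩ ω ⟨hωG, hωc⟩
      replace ha : a ∈ A₀ := ha
      rw [hA₀mem] at ha
      refine ⟨?_, ?_⟩
      · simpa using G.mul_mem ha.1 hωG
      · simp only [MonoidHom.inl_apply, inv_one, mul_one]
        calc a * ω * c * (a * ω)⁻¹ = a * (ω * c * ω⁻¹) * a⁻¹ := by group
          _ = a * c' * a⁻¹ := by rw [hωc]
          _ = c' * a * a⁻¹ := by rw [ha.2]
          _ = c' := by group)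
    (by
      rintro _ ⟨s, hs, rfl⟩ ω ⟨hωG, hωc⟩
      refine ⟨hnorm s hs ω hωG, ?_⟩
      have h1 : s⁻¹ * c = c * s⁻¹ := hc s⁻¹ (S.inv_mem hs)
      have h2 := hc' s hs
      show s * ω * s⁻¹ * c * (s * ω * s⁻¹)⁻¹ = c'
      calc s * ω * s⁻¹ * c * (s * ω * s⁻¹)⁻¹
          = s * ω * (s⁻¹ * c) * s * ω⁻¹ * s⁻¹ := by group
        _ = s * ω * (c * s⁻¹) * s * ω⁻¹ * s⁻¹ := by rw [h1]
        _ = s * (ω * c * ω⁻¹) * s⁻¹ := by group
        _ = s * c' * s⁻¹ := by rw [hωc]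
        _ = c' * s * s⁻¹ := by rw [h2]
        _ = c' := by group)
    (by
      rintro ω ⟨hωG, hωc⟩ ω' ⟨hω'G, hω'c⟩
      refine ⟨MonoidHom.inl Γ Γ (ω' * ω⁻¹), ⟨ω' * ω⁻¹, ?_, rfl⟩, ?_⟩
      · show ω' * ω⁻¹ ∈ A₀
        rw [hA₀mem]
        refine ⟨G.mul_mem hω'G (G.inv_mem hωG), ?_⟩
        calc (ω' * ω⁻¹) * c' = ω' * ω⁻¹ * (ω * c * ω⁻¹) := by rw [hωc]
          _ = (ω' * c * ω'⁻¹) * (ω' * ω⁻¹) := by group
          _ = c' * (ω' * ω⁻¹) := by rw [hω'c]
      · simp only [MonoidHom.inl_apply, inv_one, mul_one]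
        group)
  refine ⟨ω, hωG, ?_, hωc⟩
  intro s hs
  exact hfix (diag Γ s) ⟨s, hs, rfl⟩

theorem conjClasses_map_mk {α β : Type*} [Monoid α] [Monoid β] (f : α →* β) (a : α) :
    ConjClasses.map f (ConjClasses.mk a) = ConjClasses.mk (f a) := rfl

/-- The number of `S`-invariant classes of `G` is the class number of the fixed points. -/
theorem card_inv_classes [Finite Γ] (G S C : Subgroup Γ)
    (hnorm : ∀ s ∈ S, ∀ g ∈ G, s * g * s⁻¹ ∈ G)
    (hcop : (Nat.card G).Coprime (Nat.card S)) (hsolv : Group.IsSolvable S)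
    (hC : C = G ⊓ Subgroup.centralizer (S : Set Γ)) :
    Nat.card (ConjClasses C) = Nat.card {K : ConjClasses G // ∀ s ∈ S, ∀ g g' : G,
      (g' : Γ) = s * g * s⁻¹ → ConjClasses.mk g = K → ConjClasses.mk g' = K} := by
  classical
  have hCG : C ≤ G := hC ▸ inf_le_left
  have hCcomm : ∀ c ∈ C, ∀ s ∈ S, s * c = c * s := by
    intro c hc s hs
    exact ((Subgroup.mem_centralizer_iff.mp (hC.le hc).2) s hs)
  have hP : ∀ K' : ConjClasses C, ∀ s ∈ S, ∀ g g' : G, (g' : Γ) = s * g * s⁻¹ →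
      ConjClasses.mk g = ConjClasses.map (Subgroup.inclusion hCG) K' →
      ConjClasses.mk g' = ConjClasses.map (Subgroup.inclusion hCG) K' := by
    intro K'
    obtain ⟨c, rfl⟩ := ConjClasses.exists_rep K'
    · intro s hs g g' hgg' hg
      rw [conjClasses_map_mk] at hg ⊢
      rw [ConjClasses.mk_eq_mk_iff_isConj, isConj_iff] at hg ⊢
      obtain ⟨x, hx⟩ := hg
      refine ⟨⟨s * x * s⁻¹, hnorm s hs x x.2⟩, ?_⟩
      apply Subtype.ext
      have hx' : (x : Γ) * g * (x : Γ)⁻¹ = c := by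
        have := congrArg Subtype.val hx
        simpa using this
      have hsc := hCcomm c c.2 s hs
      push_cast
      rw [hgg']
      show s * x * s⁻¹ * (s * g * s⁻¹) * (s * x * s⁻¹)⁻¹ = (c : Γ)
      calc s * x * s⁻¹ * (s * g * s⁻¹) * (s * x * s⁻¹)⁻¹
          = s * ((x : Γ) * g * (x : Γ)⁻¹) * s⁻¹ := by group
        _ = s * c * s⁻¹ := by rw [hx']
        _ = c * s * s⁻¹ := by rw [hsc]
        _ = c := by group
  apply Nat.card_eq_of_bijective (fun K' : ConjClasses C =>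
    (⟨ConjClasses.map (Subgroup.inclusion hCG) K', hP K'⟩ :
      {K : ConjClasses G // ∀ s ∈ S, ∀ g g' : G,
        (g' : Γ) = s * g * s⁻¹ → ConjClasses.mk g = K → ConjClasses.mk g' = K}))
  constructor
  · intro K₁ K₂ h
    obtain ⟨c, rfl⟩ := ConjClasses.exists_rep K₁
    obtain ⟨c', rfl⟩ := ConjClasses.exists_rep K₂
    · have h1 := congrArg Subtype.val h
      simp only [conjClasses_map_mk] at h1
      rw [ConjClasses.mk_eq_mk_iff_isConj, isConj_iff] at h1 ⊢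
      obtain ⟨x, hx⟩ := h1
      have hx' : (x : Γ) * c * (x : Γ)⁻¹ = c' := by
        have := congrArg Subtype.val hx
        simpa using this
      obtain ⟨g, hgG, hgfix, hgc⟩ := exists_fixed_conjugator G S hnorm hcop hsolv c c'
        (hCcomm c c.2) (hCcomm c' c'.2) ⟨x, x.2, hx'⟩
      have hgC : g ∈ C := by
        apply hC.ge
        refine ⟨hgG, ?_⟩
        show g ∈ Subgroup.centralizer (S : Set Γ)
        rw [Subgroup.mem_centralizer_iff]
        intro s hs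
        have := hgfix s hs
        calc s * g = s * g * s⁻¹ * s := by group
          _ = g * s := by rw [this]
      refine ⟨⟨g, hgC⟩, ?_⟩
      apply Subtype.ext
      push_cast
      exact hgc
  · rintro ⟨K, hK⟩
    obtain ⟨g₀, rfl⟩ := ConjClasses.exists_rep K
    · obtain ⟨ω, ⟨hωG, hωK⟩, hωfix⟩ := exists_fixed_conj G S hnorm hcop hsolv
        {x : Γ | ∃ h : x ∈ G, ConjClasses.mk (⟨x, h⟩ : G) = ConjClasses.mk g₀}
        ⟨g₀, g₀.2, rfl⟩
        (by
          rintro g hg ω ⟨hωG, hω⟩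
          refine ⟨G.mul_mem (G.mul_mem hg hωG) (G.inv_mem hg), ?_⟩
          rw [← hω, ConjClasses.mk_eq_mk_iff_isConj, isConj_comm, isConj_iff]
          exact ⟨⟨g, hg⟩, rfl⟩)
        (by
          rintro s hs ω ⟨hωG, hω⟩
          exact ⟨hnorm s hs ω hωG, hK s hs ⟨ω, hωG⟩ ⟨s * ω * s⁻¹, hnorm s hs ω hωG⟩ rfl hω⟩)
        (by
          rintro ω ⟨hωG, hω⟩ ω' ⟨hω'G, hω'⟩
          have h1 : ConjClasses.mk (⟨ω, hωG⟩ : G) = ConjClasses.mk (⟨ω', hω'G⟩ : G) :=
            hω.trans hω'.symm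
          rw [ConjClasses.mk_eq_mk_iff_isConj, isConj_iff] at h1
          obtain ⟨x, hx⟩ := h1
          refine ⟨x, x.2, ?_⟩
          have := congrArg Subtype.val hx
          simpa using this)
      have hωC : ω ∈ C := by
        apply hC.ge
        refine ⟨hωG, ?_⟩
        show ω ∈ Subgroup.centralizer (S : Set Γ)
        rw [Subgroup.mem_centralizer_iff]
        intro s hs
        have := hωfix s hs
        calc s * ω = s * ω * s⁻¹ * s := by group
          _ = ω * s := by rw [this]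
      refine ⟨ConjClasses.mk (⟨ω, hωC⟩ : C), ?_⟩
      apply Subtype.ext
      simp only [conjClasses_map_mk]
      rw [← hωK]
      rfl

end Cfsg.Agent.Lib.helper3.GlS
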