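import Mathlib
import Cfsg.Prelude.Def_Characters
import Cfsg.Prelude.Def_Blocks
import Cfsg.Agent.Lib.helper3.CProd7
import Cfsg.Agent.Lib.helper3.RankOne2
import Cfsg.Agent.Lib.helper3.ClassBound
import Cfsg.Agent.Lib.helper3.Irr10
import Cfsg.Agent.Lib.helper3.Degrees

/-!
# Reynolds' theorem when `G = P · C_G(P)`
-/

set_option autoImplicit false
set_option linter.style.haveILetI false
set_option linter.unusedSectionVars false

namespace Cfsg.Agent.Lib.helper3.GrAlg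

open Cfsg Cfsg.Agent.Lib.helper3.LocalM Cfsg.Agent.Lib.helper3.Block
open Cfsg.Agent.Lib.helper3.CharBasic Cfsg.Agent.Lib.helper3.Irr Cfsg.Agent.Lib.helper3.Lin
open Cfsg.Agent.Lib.helper3.IndFun Cfsg.Agent.Lib.helper3.Central
open scoped ComplexConjugate

universe u

variable {G : Type u} [Group G] [Fintype G] {M : Ideal AlgInt}

/-- The degrees in a block with defect group `P` of `G = P · C_G(P)`. -/
theorem cprod_degrees {p : ℕ} [hp : Fact p.Prime] (hM : IsPModular p M) (P : Subgroup G)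
    (hP : IsPGroup p P) (hG : P ⊔ Subgroup.centralizer (P : Set G) = ⊤)
    (B : Set (IrrCharacter G)) (hB : IsPBlock M B) (hD : IsDefectGroup p M B P) :
    ∃ m : ℕ, m ≠ 0 ∧
      (∀ θ ∈ B, ∃ ζ : IrrCharacter P, charDegree (θ : G → ℂ) = charDegree (ζ : P → ℂ) * m) ∧
      (∀ ζ : IrrCharacter P, ∃ θ ∈ B, charDegree (θ : G → ℂ) = charDegree (ζ : P → ℂ) * m) ∧
      (∃ θ ∈ B, charDegree (θ : G → ℂ) = m) := by
  classical
  letI : Fintype P := Fintype.ofFinite _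
  letI : Fintype ↥(Subgroup.centralizer (P : Set G)) := Fintype.ofFinite _
  obtain ⟨θ₀, hθ₀B, ζ₀, ψ₀, hθ₀, hζ₀, hker, hdeg, hdegψ, hmem⟩ :=
    cprod_structure hM P hP hG B hB hD
  have hZp := zc_isPGroup P hP
  have hZc := zc_le_center P
  have key : ∀ (θ : IrrCharacter G) (ζ : IrrCharacter P)
      (ψ : IrrCharacter ↥(Subgroup.centralizer (P : Set G))),
      (∀ (d : P) (c : ↥(Subgroup.centralizer (P : Set G))), (θ : G → ℂ) ((d : G) * (c : G))
        = (ζ : P → ℂ) d * (ψ : ↥(Subgroup.centralizer (P : Set G)) → ℂ) c) →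
      ψ ∈ blockOf M (ψ₀ : ↥(Subgroup.centralizer (P : Set G)) → ℂ) →
      charDegree (θ : G → ℂ) = charDegree (ζ : P → ℂ)
        * charDegree (ψ₀ : ↥(Subgroup.centralizer (P : Set G)) → ℂ) := by
    intro θ ζ ψ hθ hψ
    have h1 := (apply_one_eq_of_sameBlock hM _ hZp hZc ψ₀ hdegψ ψ hψ).1
    have h2 := hθ 1 1
    rw [OneMemClass.coe_one, OneMemClass.coe_one, one_mul, h1, apply_one_eq_charDegree θ,
      apply_one_eq_charDegree ζ, apply_one_eq_charDegree ψ₀] at h2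
    exact_mod_cast h2
  refine ⟨charDegree (ψ₀ : ↥(Subgroup.centralizer (P : Set G)) → ℂ), charDegree_ne_zero ψ₀,
    ?_, ?_, ?_⟩
  · intro θ hθB
    obtain ⟨ζ, ψ, hθ⟩ := exists_prod_decomp P hG θ
    exact ⟨ζ, key θ ζ ψ hθ ((hmem θ ζ ψ hθ).mp hθB)⟩
  · intro ζ
    obtain ⟨θ, ψ, hψ, hθ⟩ := exists_prod_in_block hM P hP hG ψ₀ ζ
    exact ⟨θ, (hmem θ ζ ψ hθ).mpr hψ, key θ ζ ψ hθ hψ⟩
  · refine ⟨θ₀, hθ₀B, ?_⟩
    have h1 := key θ₀ ζ₀ ψ₀ hθ₀ ((hmem θ₀ ζ₀ ψ₀ hθ₀).mp hθ₀B)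
    have h2 : charDegree (ζ₀ : P → ℂ) = 1 := by
      have := apply_one_eq_charDegree ζ₀
      rw [hζ₀ 1] at this
      exact_mod_cast this.symm
    rw [h1, h2, one_mul]

/-- **Reynolds' theorem** for `G = P · C_G(P)`. -/
theorem heights_zero_iff_comm_cprod {p : ℕ} [hp : Fact p.Prime] (hM : IsPModular p M)
    (P : Subgroup G) (hP : IsPGroup p P) (hG : P ⊔ Subgroup.centralizer (P : Set G) = ⊤)
    (B : Set (IrrCharacter G)) (hB : IsPBlock M B) (hD : IsDefectGroup p M B P) :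
    (∀ a ∈ P, ∀ c ∈ P, a * c = c * a) ↔ ∀ χ ∈ B, blockHeight p B (χ : G → ℂ) = 0 := by
  classical
  letI : Fintype P := Fintype.ofFinite _
  have hpp : p.Prime := hp.out
  obtain ⟨m, hm0, h1, h2, θ₀, hθ₀B, hθ₀⟩ := cprod_degrees hM P hP hG B hB hD
  have hinf : sInf ((fun χ : IrrCharacter G => (charDegree (χ : G → ℂ)).factorization p) '' B)
      = m.factorization p := by
    apply le_antisymm
    · apply Nat.sInf_le
      exact ⟨θ₀, hθ₀B, by simp only [hθ₀]⟩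
    · apply le_csInf (Set.Nonempty.image _ ⟨θ₀, hθ₀B⟩)
      rintro _ ⟨θ, hθ, rfl⟩
      obtain ⟨ζ, hζ⟩ := h1 θ hθ
      simp only [hζ]
      rw [Nat.factorization_mul (charDegree_ne_zero ζ) hm0]
      simp
  have hht : ∀ (θ : IrrCharacter G) (ζ : IrrCharacter P),
      charDegree (θ : G → ℂ) = charDegree (ζ : P → ℂ) * m →
      blockHeight p B (θ : G → ℂ) = (charDegree (ζ : P → ℂ)).factorization p := by
    intro θ ζ hζ
    unfold blockHeight
    rw [hinf, hζ, Nat.factorization_mul (charDegree_ne_zero ζ) hm0]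
    simp
  constructor
  · intro hcomm χ hχ
    obtain ⟨ζ, hζ⟩ := h1 χ hχ
    rw [hht χ ζ hζ]
    have h3 : (ζ : P → ℂ) 1 = 1 :=
      apply_one_eq_one_of_comm (fun a b => Subtype.ext (hcomm a a.2 b b.2)) ζ.2
    have h4 : charDegree (ζ : P → ℂ) = 1 := by
      have := apply_one_eq_charDegree ζ
      rw [h3] at this
      exact_mod_cast this.symm
    rw [h4]
    simp
  · intro hall
    have hlin : ∀ ζ : IrrCharacter P, (ζ : P → ℂ) 1 = 1 := by
      intro ζ
      obtain ⟨θ, hθB, hθ⟩ := h2 ζ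
      have h3 := hall θ hθB
      rw [hht θ ζ hθ] at h3
      obtain ⟨n, hn1, hn2, hn3⟩ := irr_degree_dvd_card ζ.2
      have h4 : charDegree (ζ : P → ℂ) = n := by
        have := apply_one_eq_charDegree ζ
        rw [hn1] at this
        exact_mod_cast this.symm
      obtain ⟨a, ha⟩ := IsPGroup.iff_card.mp hP
      rw [ha] at hn2
      obtain ⟨j, -, hj⟩ := (Nat.dvd_prime_pow hpp).mp hn2
      rw [h4, hj, Nat.Prime.factorization_pow hpp, Finsupp.single_eq_same] at h3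
      rw [hn1, hj, h3, pow_zero, Nat.cast_one]
    intro a ha c hc
    have := comm_of_all_linear hlin ⟨a, ha⟩ ⟨c, hc⟩
    exact congrArg Subtype.val this

end Cfsg.Agent.Lib.helper3.GrAlg
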