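import Mathlib
import Cfsg.Prelude.Def_Characters
import Cfsg.Prelude.Def_Blocks
import Cfsg.Agent.Lib.helper3.GrAlg7
import Cfsg.Agent.Lib.helper3.RankOne2
import Cfsg.Agent.Lib.helper3.BlockCover2
import Cfsg.Agent.S0887

/-!
# Heights in a block and in a covered block of a normal subgroup of index prime to `p`
-/

set_option autoImplicit false
set_option linter.style.haveILetI false
set_option linter.unusedSectionVars false

namespace Cfsg.Agent.Lib.helper3.GrAlg

open Cfsg Cfsg.Agent.Lib.helper3.LocalM Cfsg.Agent.Lib.helper3.Block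
open Cfsg.Agent.Lib.helper3.CharBasic Cfsg.Agent.Lib.helper3.Irr Cfsg.Agent.Lib.helper3.Lin
open Cfsg.Agent.Lib.helper3.IndFun Cfsg.Agent.Lib.helper3.GalPow
open scoped ComplexConjugate

universe u v

theorem heights_zero_iff_of_image_eq {X : Type u} [Group X] {Y : Type v} [Group Y] (p : ℕ)
    (B : Set (IrrCharacter X)) (b : Set (IrrCharacter Y))
    (h : (fun χ : IrrCharacter X => (charDegree (χ : X → ℂ)).factorization p) '' B
      = (fun θ : IrrCharacter Y => (charDegree (θ : Y → ℂ)).factorization p) '' b) :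
    (∀ χ ∈ B, blockHeight p B (χ : X → ℂ) = 0) ↔ (∀ θ ∈ b, blockHeight p b (θ : Y → ℂ) = 0) := by
  have k1 : (∀ χ ∈ B, blockHeight p B (χ : X → ℂ) = 0) ↔
      ∀ n ∈ (fun χ : IrrCharacter X => (charDegree (χ : X → ℂ)).factorization p) '' B,
        n - sInf ((fun χ : IrrCharacter X => (charDegree (χ : X → ℂ)).factorization p) '' B)
          = 0 := by
    rw [Set.forall_mem_image]
    rfl
  have k2 : (∀ θ ∈ b, blockHeight p b (θ : Y → ℂ) = 0) ↔
      ∀ n ∈ (fun θ : IrrCharacter Y => (charDegree (θ : Y → ℂ)).factorization p) '' b,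
        n - sInf ((fun θ : IrrCharacter Y => (charDegree (θ : Y → ℂ)).factorization p) '' b)
          = 0 := by
    rw [Set.forall_mem_image]
    rfl
  rw [k1, k2, h]

variable {G : Type u} [Group G] [Fintype G] {M : Ideal AlgInt}
variable (N : Subgroup G) [hN : N.Normal] [Fintype N]

/-- If `N` has index prime to `p`, a constituent has the same `p`-part of the degree. -/
theorem factorization_charDegree_of_over {p : ℕ} [hp : Fact p.Prime] (hidx : ¬ p ∣ N.index)
    (χ : IrrCharacter G) (θ : IrrCharacter N)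
    (hne : classInner (fun n : N => (χ : G → ℂ) n) (θ : N → ℂ) ≠ 0) :
    (charDegree (χ : G → ℂ)).factorization p = (charDegree (θ : N → ℂ)).factorization p := by
  obtain ⟨h1, h2⟩ := Cfsg.Agent.S0887.result N (χ : G → ℂ) χ.2 (θ : N → ℂ) θ.2 hne
    (charDegree (χ : G → ℂ)) (charDegree (θ : N → ℂ)) (apply_one_eq_charDegree χ)
    (apply_one_eq_charDegree θ)
  obtain ⟨k, hk⟩ := h1
  have hd0 : charDegree (θ : N → ℂ) ≠ 0 := charDegree_ne_zero θ
  have hk0 : k ≠ 0 := by
    intro h0
    rw [h0, mul_zero] at hk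
    exact charDegree_ne_zero χ hk
  rw [hk, Nat.mul_div_cancel_left k (Nat.pos_of_ne_zero hd0)] at h2
  have hpk : ¬ p ∣ k := fun h => hidx (h.trans h2)
  rw [hk, Nat.factorization_mul hd0 hk0, Finsupp.add_apply,
    Nat.factorization_eq_zero_of_not_dvd hpk, add_zero]

/-- If `N` has index prime to `p` and `B` covers `b`, the `p`-parts of the degrees in `B` and in
`b` are the same. -/
theorem image_factorization_eq_of_cover {p : ℕ} [hp : Fact p.Prime] (hM : IsPModular p M)
    (hidx : ¬ p ∣ N.index) (B : Set (IrrCharacter G)) (hB : IsPBlock M B)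
    (b : Set (IrrCharacter N)) (hb : IsPBlock M b)
    (hcov : ∃ χ ∈ B, ∃ θ ∈ b, classInner (fun n : N => (χ : G → ℂ) n) (θ : N → ℂ) ≠ 0) :
    (fun χ : IrrCharacter G => (charDegree (χ : G → ℂ)).factorization p) '' B
      = (fun θ : IrrCharacter N => (charDegree (θ : N → ℂ)).factorization p) '' b := by
  haveI hMp := isPrime_of_isPModular hM
  ext n
  constructor
  · rintro ⟨χ, hχ, rfl⟩
    obtain ⟨χ₀, hχ₀, θ₀, hθ₀, hne⟩ := hcov
    have hs : SameBlock M (χ₀ : G → ℂ) (χ : G → ℂ) := by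
      obtain ⟨χ₁, rfl⟩ := hB
      exact sameBlock_trans (sameBlock_symm hχ₀) hχ
    obtain ⟨θ, hθ, hne'⟩ := over_of_congr N hM b hb χ₀ χ (fun n => hs n) ⟨θ₀, hθ₀, hne⟩
    exact ⟨θ, hθ, (factorization_charDegree_of_over N hidx χ θ hne').symm⟩
  · rintro ⟨θ, hθ, rfl⟩
    obtain ⟨χ, hχ, hne⟩ := exists_over_of_covers N hM B hB b hb hcov θ hθ
    exact ⟨χ, hχ, factorization_charDegree_of_over N hidx χ θ hne⟩

/-- If `N` has index prime to `p` and `B` covers `b`: all heights in `B` are zero iff all heights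
in `b` are zero. -/
theorem heights_zero_iff_of_cover {p : ℕ} [hp : Fact p.Prime] (hM : IsPModular p M)
    (hidx : ¬ p ∣ N.index) (B : Set (IrrCharacter G)) (hB : IsPBlock M B)
    (b : Set (IrrCharacter N)) (hb : IsPBlock M b)
    (hcov : ∃ χ ∈ B, ∃ θ ∈ b, classInner (fun n : N => (χ : G → ℂ) n) (θ : N → ℂ) ≠ 0) :
    (∀ χ ∈ B, blockHeight p B (χ : G → ℂ) = 0) ↔ (∀ θ ∈ b, blockHeight p b (θ : N → ℂ) = 0) :=
  heights_zero_iff_of_image_eq p B b (image_factorization_eq_of_cover N hM hidx B hB b hb hcov)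

end Cfsg.Agent.Lib.helper3.GrAlg
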