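import Mathlib
import Cfsg.Prelude.Def_Characters
import Cfsg.Prelude.Def_Blocks
import Cfsg.Agent.Lib.helper3.GrAlg11
import Cfsg.Agent.Lib.helper3.GrAlg13
import Cfsg.Agent.Lib.helper3.GrAlg14
import Cfsg.Agent.Lib.helper3.FR7
import Cfsg.Agent.S0971

/-!
# Reynolds' theorem: a block with a normal defect group `P` has all heights zero iff `P` is abelian
-/

set_option autoImplicit false
set_option linter.style.haveILetI false
set_option linter.unusedSectionVars false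

namespace Cfsg.Agent.Lib.helper3.GrAlg

open Cfsg Cfsg.Agent.Lib.helper3.LocalM Cfsg.Agent.Lib.helper3.Block
open Cfsg.Agent.Lib.helper3.CharBasic Cfsg.Agent.Lib.helper3.Irr Cfsg.Agent.Lib.helper3.Lin
open Cfsg.Agent.Lib.helper3.IndFun Cfsg.Agent.Lib.helper3.GalPow
open scoped ComplexConjugate Pointwise

universe u

variable {G : Type u} [Group G] [Fintype G] {M : Ideal AlgInt}

/-- Inside `L = P · C_G(P)`, the subgroup `P` and its centralizer generate everything. -/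
theorem sup_centralizer_subgroupOf_eq_top (P : Subgroup G) [hPn : P.Normal] :
    P.subgroupOf (P ⊔ Subgroup.centralizer (P : Set G)) ⊔
      Subgroup.centralizer ((P.subgroupOf (P ⊔ Subgroup.centralizer (P : Set G)) :
        Subgroup ↥(P ⊔ Subgroup.centralizer (P : Set G))) :
          Set ↥(P ⊔ Subgroup.centralizer (P : Set G))) = ⊤ := by
  rw [eq_top_iff]
  intro x _
  have hx : (x : G) ∈ ((P : Set G) * (Subgroup.centralizer (P : Set G) : Set G)) := by
    rw [← Subgroup.normal_mul]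
    exact x.2
  obtain ⟨a, ha, c, hc, hac⟩ := Set.mem_mul.mp hx
  have haL : a ∈ P ⊔ Subgroup.centralizer (P : Set G) := (le_sup_left : P ≤ _) ha
  have hcL : c ∈ P ⊔ Subgroup.centralizer (P : Set G) := (le_sup_right : _ ≤ P ⊔ _) hc
  have e : x = (⟨a, haL⟩ : ↥(P ⊔ Subgroup.centralizer (P : Set G))) * ⟨c, hcL⟩ :=
    Subtype.ext hac.symm
  rw [e]
  apply Subgroup.mul_mem_sup
  · rw [Subgroup.mem_subgroupOf]
    exact ha
  · rw [Subgroup.mem_centralizer_iff]
    intro y hy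
    apply Subtype.ext
    rw [SetLike.mem_coe, Subgroup.mem_subgroupOf] at hy
    exact (Subgroup.mem_centralizer_iff.mp hc) (y : G) hy

/-- **Reynolds' theorem.** -/
theorem reynolds {p : ℕ} [hp : Fact p.Prime] (hM : IsPModular p M)
    (B : Set (IrrCharacter G)) (hB : IsPBlock M B) (P : Subgroup G) [hPn : P.Normal]
    (hP : IsDefectGroup p M B P) :
    (∀ a ∈ P, ∀ c ∈ P, a * c = c * a) ↔ ∀ χ ∈ B, blockHeight p B (χ : G → ℂ) = 0 := by
  classical
  haveI hMp := isPrime_of_isPModular hM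
  have hMtop : M ≠ ⊤ := hM.2.1.ne_top
  have hPp : IsPGroup p P := isPGroup_of_isDefectGroup hP
  haveI hLn : (P ⊔ Subgroup.centralizer (P : Set G)).Normal := inferInstance
  letI : Fintype ↥(P ⊔ Subgroup.centralizer (P : Set G)) := Fintype.ofFinite _
  -- a covered block
  obtain ⟨χ₀, hχ₀⟩ : ∃ χ₀, χ₀ ∈ B := by
    obtain ⟨χ, rfl⟩ := hB
    exact ⟨χ, sameBlock_refl hMtop _⟩
  have hres : IsCharacter ↥(P ⊔ Subgroup.centralizer (P : Set G))
      (fun n : ↥(P ⊔ Subgroup.centralizer (P : Set G)) => (χ₀ : G → ℂ) n) :=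
    isCharacter_restrict (isCharacter_of_isIrrCharacter χ₀.2) _
  have hres0 : (fun n : ↥(P ⊔ Subgroup.centralizer (P : Set G)) => (χ₀ : G → ℂ) n) ≠ 0 := by
    intro h
    have := congrFun h 1
    exact apply_one_ne_zero χ₀.2 (by simpa using this)
  obtain ⟨θ₀, hθ₀⟩ := exists_constituent hres hres0
  obtain ⟨b, hbdef⟩ : ∃ b : Set (IrrCharacter ↥(P ⊔ Subgroup.centralizer (P : Set G))),
      b = blockOf M (θ₀ : ↥(P ⊔ Subgroup.centralizer (P : Set G)) → ℂ) := ⟨_, rfl⟩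
  have hb : IsPBlock M b := ⟨θ₀, hbdef⟩
  have hθ₀b : θ₀ ∈ b := by
    rw [hbdef]
    exact sameBlock_refl hMtop _
  have hcov : ∃ χ ∈ B, ∃ θ ∈ b, classInner
      (fun n : ↥(P ⊔ Subgroup.centralizer (P : Set G)) => (χ : G → ℂ) n)
      (θ : ↥(P ⊔ Subgroup.centralizer (P : Set G)) → ℂ) ≠ 0 := ⟨χ₀, hχ₀, θ₀, hθ₀b, hθ₀⟩
  -- `P` is a defect group of `b`
  have hbP : IsDefectGroup p M b (P.subgroupOf (P ⊔ Subgroup.centralizer (P : Set G))) := by
    obtain ⟨Q₁, P₁, hQ₁, hP₁, heq⟩ :=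
      exists_defectGroup_inf_eq (P ⊔ Subgroup.centralizer (P : Set G)) hM B hB b hb hcov
    obtain ⟨x, hx⟩ := defectGroup_conj_eq hM hB hP₁ hP
    have hPx : P.map (MulAut.conj x).toMonoidHom = P := by
      ext y
      constructor
      · rintro ⟨z, hz, rfl⟩
        exact hPn.conj_mem z hz x
      · intro hy
        refine ⟨x⁻¹ * y * x, ?_, ?_⟩
        · have := hPn.conj_mem y hy x⁻¹
          rwa [inv_inv] at this
        · simp only [MulEquiv.coe_toMonoidHom, MulAut.conj_apply]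
          group
    rw [hPx] at hx
    rw [← hx, inf_of_le_left (le_sup_left : P ≤ P ⊔ Subgroup.centralizer (P : Set G))] at heq
    have hQeq : Q₁ = P.subgroupOf (P ⊔ Subgroup.centralizer (P : Set G)) := by
      ext y
      rw [Subgroup.mem_subgroupOf]
      have h1 : (y : G) ∈ Q₁.map (P ⊔ Subgroup.centralizer (P : Set G)).subtype
          ↔ (y : G) ∈ P := by rw [heq]
      rw [← h1]
      constructor
      · intro hy
        exact ⟨y, hy, rfl⟩
      · rintro ⟨z, hz, hzy⟩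
        have : z = y := Subtype.ext hzy
        rw [← this]
        exact hz
    rw [← hQeq]
    exact hQ₁
  -- the stabilizer
  obtain ⟨T, hTdef⟩ : ∃ T : Subgroup G,
      T = blockStab (P ⊔ Subgroup.centralizer (P : Set G)) b := ⟨_, rfl⟩
  letI : Fintype T := Fintype.ofFinite _
  have hT : IsBlockStab (P ⊔ Subgroup.centralizer (P : Set G)) T b := by
    rw [hTdef]
    exact isBlockStab_blockStab _ b hb
  have hLT : P ⊔ Subgroup.centralizer (P : Set G) ≤ T := le_of_isBlockStab _ b hb T hT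
  have hT' : ∀ g : G, g ∈ T ↔ (g ∈ Subgroup.normalizer (P : Set G) ∧ ∀ θ ∈ b,
      ∀ θ' : IrrCharacter ↥(P ⊔ Subgroup.centralizer (P : Set G)),
      (∀ h h' : ↥(P ⊔ Subgroup.centralizer (P : Set G)), (h' : G) = g * h * g⁻¹ →
        (θ' : ↥(P ⊔ Subgroup.centralizer (P : Set G)) → ℂ) h'
          = (θ : ↥(P ⊔ Subgroup.centralizer (P : Set G)) → ℂ) h) → θ' ∈ b) := by
    intro g
    rw [← T.inv_mem_iff, hT g⁻¹]
    constructor
    · intro h
      refine ⟨by rw [Subgroup.normalizer_eq_top]; exact Subgroup.mem_top _, ?_⟩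
      intro θ hθ θ' hθ'
      apply h θ hθ θ'
      intro n
      apply hθ'
      show (n : G) = g * (g⁻¹ * (n : G) * g⁻¹⁻¹) * g⁻¹
      group
    · rintro ⟨-, h⟩ θ hθ θ' hθ'
      apply h θ hθ θ'
      intro k k' hk
      rw [hθ' k']
      apply congrArg
      apply Subtype.ext
      show g⁻¹ * (k' : G) * g⁻¹⁻¹ = (k : G)
      rw [hk]
      group
  have hind : IsInducedBlock M (P ⊔ Subgroup.centralizer (P : Set G)) b B :=
    (Cfsg.Agent.S0971.result p M hM P hPp b hb).2 B hB hcov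
  have hrel : ¬ p ∣ (P ⊔ Subgroup.centralizer (P : Set G)).relIndex T :=
    (isDefectGroup_iff_relIndex hM P hPp b hb hbP B hind T hT').mp hP
  -- Fong–Reynolds
  obtain ⟨B', hB', hcov', hindT⟩ :=
    fong_reynolds_iii (P ⊔ Subgroup.centralizer (P : Set G)) T hM hb hT hLT B hB hcov
  obtain ⟨hht, -⟩ := fong_reynolds_height (P ⊔ Subgroup.centralizer (P : Set G)) T hM hb hT hLT
    B' hB' hcov' B hindT
  obtain ⟨C₁, hC₁, -, -, hiff⟩ :=
    fong_reynolds_i (P ⊔ Subgroup.centralizer (P : Set G)) T hM hb hT hLT B' hB' hcov'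
  have eC : C₁ = B := isInducedBlock_unique T B' C₁ B hC₁ hindT
  rw [eC] at hiff
  have e1 : (∀ χ ∈ B, blockHeight p B (χ : G → ℂ) = 0)
      ↔ (∀ ψ ∈ B', blockHeight p B' (ψ : T → ℂ) = 0) := by
    constructor
    · intro h ψ hψ
      obtain ⟨χ, hχ, -, hχh⟩ := hht ψ hψ
      rw [← hχh]
      exact h χ hχ
    · intro h χ hχ
      obtain ⟨ψ, hψ, hχψ⟩ := (hiff χ).mp hχ
      obtain ⟨χ₁, -, hχ₁, hχ₁h⟩ := hht ψ hψ
      rw [hχψ, ← hχ₁, hχ₁h]
      exact h ψ hψ
  -- inside `T`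
  letI : Fintype ((P ⊔ Subgroup.centralizer (P : Set G)).subgroupOf T) := Fintype.ofFinite _
  obtain ⟨ι, hι⟩ : ∃ ι : (P ⊔ Subgroup.centralizer (P : Set G)).subgroupOf T
      ≃* ↥(P ⊔ Subgroup.centralizer (P : Set G)), ι = Subgroup.subgroupOfEquivOfLe hLT := ⟨_, rfl⟩
  have hb' : IsPBlock M (irrCongr ι '' b) := isPBlock_image_irrCongr ι b hb
  have hcovT : ∃ χ ∈ B', ∃ θ' ∈ irrCongr ι '' b,
      classInner (fun n : (P ⊔ Subgroup.centralizer (P : Set G)).subgroupOf T => (χ : T → ℂ) n)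
        (θ' : (P ⊔ Subgroup.centralizer (P : Set G)).subgroupOf T → ℂ) ≠ 0 := by
    obtain ⟨ψ, hψ, θ, hθ, hne⟩ := hcov'
    refine ⟨ψ, hψ, irrCongr ι θ, ⟨θ, hθ, rfl⟩, ?_⟩
    rw [hι, classInner_sub_irrCongr _ T hLT _ θ]
    exact hne
  have e2 : (∀ ψ ∈ B', blockHeight p B' (ψ : T → ℂ) = 0)
      ↔ (∀ θ' ∈ irrCongr ι '' b, blockHeight p (irrCongr ι '' b)
        (θ' : (P ⊔ Subgroup.centralizer (P : Set G)).subgroupOf T → ℂ) = 0) :=
    heights_zero_iff_of_cover ((P ⊔ Subgroup.centralizer (P : Set G)).subgroupOf T) hM hrel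
      B' hB' (irrCongr ι '' b) hb' hcovT
  have e3 : (∀ θ' ∈ irrCongr ι '' b, blockHeight p (irrCongr ι '' b)
        (θ' : (P ⊔ Subgroup.centralizer (P : Set G)).subgroupOf T → ℂ) = 0)
      ↔ (∀ θ ∈ b, blockHeight p b
        (θ : ↥(P ⊔ Subgroup.centralizer (P : Set G)) → ℂ) = 0) := by
    apply heights_zero_iff_of_image_eq
    rw [Set.image_image]
    simp only [charDegree_irrCongr]
  have e4 := heights_zero_iff_comm_cprod hM
    (P.subgroupOf (P ⊔ Subgroup.centralizer (P : Set G)))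
    (hPp.comap_subtype) (sup_centralizer_subgroupOf_eq_top P) b hb hbP
  rw [e1, e2, e3, ← e4]
  constructor
  · intro h a ha c hc
    apply Subtype.ext
    exact h a (Subgroup.mem_subgroupOf.mp ha) c (Subgroup.mem_subgroupOf.mp hc)
  · intro h a ha c hc
    have haL : a ∈ P ⊔ Subgroup.centralizer (P : Set G) := (le_sup_left : P ≤ _) ha
    have hcL : c ∈ P ⊔ Subgroup.centralizer (P : Set G) := (le_sup_left : P ≤ _) hc
    have := h ⟨a, haL⟩ (Subgroup.mem_subgroupOf.mpr ha) ⟨c, hcL⟩ (Subgroup.mem_subgroupOf.mpr hc)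
    exact congrArg Subtype.val this

end Cfsg.Agent.Lib.helper3.GrAlg
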