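import Mathlib
import Cfsg.Prelude.Def_Blocks
import Cfsg.Agent.Lib.helper3.DefectOrder2

/-!
# The idempotent coefficients of a block and centralizing `p`-subgroups
-/

set_option autoImplicit false
set_option linter.style.haveILetI false
set_option linter.unusedSectionVars false

namespace Cfsg.Agent.Lib.helper3.Block

open Cfsg Cfsg.Agent.Lib.helper3.LocalM Cfsg.Agent.Lib.helper3.CharBasic
open Cfsg.Agent.Lib.helper3.Irr Cfsg.Agent.Lib.helper3.Central Cfsg.Agent.Lib.helper3.Lin
open scoped ComplexConjugate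

variable {G : Type*} [Group G] [Fintype G] {M : Ideal AlgInt}

/-- **Divisibility of the idempotent coefficients**: if the `p`-subgroup `Q` of order `p ^ δ`
centralizes `g`, then `p ^ d` times the idempotent coefficient of the block `B` (of defect `d`) at
`g` is `p ^ δ` times a local integer. -/
theorem pow_mul_blockCoeff_eq {p : ℕ} [Fact p.Prime] (hM : IsPModular p M)
    (B : Set (IrrCharacter G)) (hB : IsPBlock M B) (g : G) (Q : Subgroup G)
    (hQ : IsPGroup p Q) (hQg : ∀ u ∈ Q, g * u = u * g) (δ : ℕ) (hδ : Nat.card Q = p ^ δ) :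
    ∃ r : ℂ, MemLocalRing M r
      ∧ (p : ℂ) ^ blockDefect p B * blockCoeff B g = (p : ℂ) ^ δ * r := by
  classical
  haveI hMp := isPrime_of_isPModular hM
  have hMtop : M ≠ ⊤ := hM.2.1.ne_top
  have hp : p.Prime := hM.1
  obtain ⟨χ₀, hBeq⟩ := hB
  have hχ₀ : χ₀ ∈ B := by
    rw [hBeq]
    exact sameBlock_refl hMtop _
  have hS : ∀ θ ∈ B, blockOf M (θ : G → ℂ) ⊆ B := by
    intro θ hθ ψ hψ
    rw [hBeq] at hθ ⊢
    exact sameBlock_trans hθ hψ
  obtain ⟨a, ha⟩ : ∃ a, a = (Nat.card G).factorization p := ⟨_, rfl⟩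
  obtain ⟨e, he⟩ : ∃ e, e = sInf ((fun χ : IrrCharacter G =>
      (charDegree (χ : G → ℂ)).factorization p) '' B) := ⟨_, rfl⟩
  have hdef : blockDefect p B = a - e := by
    unfold blockDefect
    rw [ha, he]
  rw [hdef]
  have hle : ∀ χ ∈ B, e ≤ (charDegree (χ : G → ℂ)).factorization p := by
    intro χ hχ
    rw [he]
    exact Nat.sInf_le ⟨χ, hχ, rfl⟩
  have hea : e ≤ a := by
    refine le_trans (hle χ₀ hχ₀) ?_
    obtain ⟨d, hd, hdvd, hpos⟩ := irr_degree_dvd_card χ₀.2
    rw [charDegree_eq hd, ha]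
    exact (Nat.factorization_le_iff_dvd hpos.ne' Nat.card_pos.ne').2 hdvd p
  obtain ⟨m, hm⟩ : p ^ a ∣ Nat.card G := ha ▸ Nat.ordProj_dvd _ _
  have hmp : ¬ p ∣ m := by
    intro h
    have h1 : p ^ (a + 1) ∣ Nat.card G := by
      rw [hm, pow_succ]
      exact mul_dvd_mul_left _ h
    rw [ha] at h1
    exact Nat.pow_succ_factorization_not_dvd Nat.card_pos.ne' hp h1
  have hp0 : (p : ℂ) ≠ 0 := by
    have : p ≠ 0 := hp.ne_zero
    exact_mod_cast this
  by_cases hgp : p ∣ orderOf g
  · have h3 : blockCoeff B g = 0 := by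
      rw [blockCoeff_eq_coef]
      unfold coef
      have h4 := weak_block_orthogonality hM B hS 1 g
        (by rw [orderOf_one]; exact hp.one_lt.ne' ∘ Nat.dvd_one.mp) hgp
      have h5 : ∑ χ : IrrCharacter G, (fun χ => if χ ∈ B then (1 : ℂ) else 0) χ
          * (χ : G → ℂ) 1 * conj ((χ : G → ℂ) g) = 0 := by
        refine Eq.trans (Finset.sum_congr rfl ?_) h4
        intro χ _
        beta_reduce
        ring
      rw [h5, mul_zero]
    refine ⟨0, memLocalRing_of_integral isIntegral_zero, ?_⟩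
    rw [h3, mul_zero, mul_zero]
  · letI : Fintype Q := Fintype.ofFinite Q
    have hPcomm : ∀ u ∈ Q, g⁻¹ * u = u * g⁻¹ := by
      intro u hu
      have h3 := hQg u hu
      rw [inv_mul_eq_iff_eq_mul, ← mul_assoc, h3, mul_inv_cancel_right]
    have hPpow : ∀ u : Q, ∃ j : ℕ, orderOf (u : G) = p ^ j := by
      intro u
      obtain ⟨k, hk⟩ := hQ u
      have hk' : (u : G) ^ p ^ k = 1 := by
        have := congrArg Subtype.val hk
        simpa using this
      obtain ⟨j, -, hj'⟩ := (Nat.dvd_prime_pow hp).mp (orderOf_dvd_of_pow_eq_one hk')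
      exact ⟨j, hj'⟩
    obtain ⟨mult, hmult⟩ : ∃ mult : IrrCharacter G → ℕ, mult = fun χ =>
        if χ ∈ B then charDegree (χ : G → ℂ) / p ^ e else 0 := ⟨_, rfl⟩
    have hmult_spec : ∀ χ : IrrCharacter G, ((p ^ e : ℕ) : ℂ) * (mult χ : ℂ)
        = (if χ ∈ B then (1 : ℂ) else 0) * (χ : G → ℂ) 1 := by
      intro χ
      rw [hmult]
      beta_reduce
      by_cases hχ : χ ∈ B
      · rw [if_pos hχ, if_pos hχ, one_mul]
        obtain ⟨d, hd, -, hpos⟩ := irr_degree_dvd_card χ.2
        have hcd := charDegree_eq hd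
        have hdvd : p ^ e ∣ d := by
          have := hle χ hχ
          rw [hcd] at this
          exact (Nat.Prime.pow_dvd_iff_le_factorization hp hpos.ne').mpr this
        rw [hcd, hd, ← Nat.cast_mul, Nat.mul_div_cancel' hdvd]
      · rw [if_neg hχ, if_neg hχ, Nat.cast_zero, mul_zero, zero_mul]
    obtain ⟨n, ρ, hρ⟩ := isCharacter_of_decomposition mult
    have hΘ : ∀ y : G, ((p ^ e : ℕ) : ℂ) * ρ.character y
        = ∑ χ : IrrCharacter G, (if χ ∈ B then (1 : ℂ) else 0)
          * ((χ : G → ℂ) 1 * (χ : G → ℂ) y) := by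
      intro y
      rw [hρ, Finset.sum_apply, Finset.mul_sum]
      apply Finset.sum_congr rfl
      intro χ _
      rw [Pi.smul_apply, smul_eq_mul, ← mul_assoc, hmult_spec χ, mul_assoc]
    have hpe0 : ((p ^ e : ℕ) : ℂ) ≠ 0 := by
      push_cast
      exact pow_ne_zero _ hp0
    have hΘ0 : ∀ y : G, p ∣ orderOf y → ρ.character y = 0 := by
      intro y hy
      have h3 := hΘ y
      rw [sum_degree_mul_eq_zero hM B hS y hy] at h3
      rcases mul_eq_zero.mp h3 with h | h
      · exact absurd h hpe0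
      · exact h
    have hI := isIntegral_avg_character ρ Q g⁻¹ hPcomm
    have hsum : ∑ u : Q, ρ.character (g⁻¹ * (u : G)) = ρ.character g⁻¹ := by
      rw [Finset.sum_eq_single (1 : Q)]
      · rw [Subgroup.coe_one, mul_one]
      · intro u _ hne
        apply hΘ0
        have hcomm : Commute g⁻¹ (u : G) := hPcomm u u.2
        obtain ⟨j, hj⟩ := hPpow u
        have hj0 : j ≠ 0 := by
          intro h0
          rw [h0, pow_zero, orderOf_eq_one_iff] at hj
          exact hne (Subtype.ext hj)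
        have hcop : (orderOf g⁻¹).Coprime (orderOf (u : G)) := by
          rw [hj, orderOf_inv]
          exact Nat.Coprime.pow_right _ ((Nat.Prime.coprime_iff_not_dvd hp).mpr hgp).symm
        rw [hcomm.orderOf_mul_eq_mul_orderOf_of_coprime hcop, hj]
        exact Dvd.dvd.mul_left (dvd_pow_self p hj0) _
      · intro h
        exact absurd (Finset.mem_univ _) h
    rw [hsum, hδ] at hI
    have hm0 : (m : ℂ) ≠ 0 := by
      have : m ≠ 0 := by
        intro h
        rw [h, mul_zero] at hm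
        exact Nat.card_pos.ne' hm
      exact_mod_cast this
    have hpδ0 : (p : ℂ) ^ δ ≠ 0 := pow_ne_zero _ hp0
    have hpa0 : (p : ℂ) ^ a ≠ 0 := pow_ne_zero _ hp0
    refine ⟨(((p ^ δ : ℕ) : ℂ)⁻¹ * ρ.character g⁻¹) / (m : ℂ), ?_, ?_⟩
    · refine ⟨⟨_, hI⟩, (m : AlgInt), ?_, ?_⟩
      · rw [natCast_mem_iff hM]
        exact hmp
      · push_cast
        rfl
    · rw [blockCoeff_eq_coef]
      unfold coef
      have h5 : ∑ χ : IrrCharacter G, (fun χ => if χ ∈ B then (1 : ℂ) else 0) χ
          * (χ : G → ℂ) 1 * conj ((χ : G → ℂ) g) = ((p ^ e : ℕ) : ℂ) * ρ.character g⁻¹ := by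
        rw [hΘ g⁻¹]
        apply Finset.sum_congr rfl
        intro χ _
        beta_reduce
        rw [isCharacter_apply_inv (isCharacter_of_isIrrCharacter χ.2)]
        ring
      rw [h5, hm]
      have hpa : (p : ℂ) ^ (a - e) * (p : ℂ) ^ e = (p : ℂ) ^ a := by
        rw [← pow_add, Nat.sub_add_cancel hea]
      push_cast
      field_simp
      linear_combination (ρ.character g⁻¹) * hpa

end Cfsg.Agent.Lib.helper3.Block
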