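import Mathlib
import Cfsg.Prelude.Def_Blocks
import Cfsg.Agent.Lib.helper3.GreenCore1

/-!
# Orbit sums with divisibility, and coset sums of class functions
-/

set_option autoImplicit false
set_option linter.style.haveILetI false
set_option linter.unusedSectionVars false

namespace Cfsg.Agent.Lib.helper3.Block

open Cfsg Cfsg.Agent.Lib.helper3.LocalM Cfsg.Agent.Lib.helper3.CharBasic
open Cfsg.Agent.Lib.helper3.Irr Cfsg.Agent.Lib.helper3.Central Cfsg.Agent.Lib.helper3.Lin
open scoped ComplexConjugate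

/-- A sum of a function constant on the orbits of a finite group lies in an additively closed set as
soon as the orbit sums do; the orbit lengths are given through the stabilizers. -/
theorem sum_mem_of_action {Q X : Type*} [Group Q] [Finite Q] [Fintype X]
    (φ : Q →* Equiv.Perm X) (T : ℂ → Prop) (h0 : T 0)
    (hadd : ∀ a b, T a → T b → T (a + b)) (F : X → ℂ)
    (hF : ∀ (q : Q) (x : X), F (φ q x) = F x)
    (h : ∀ (x : X) (n : ℕ), n * Nat.card {q : Q // φ q x = x} = Nat.card Q →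
      T ((n : ℂ) * F x)) :
    T (∑ x, F x) := by
  classical
  letI : MulAction Q X := MulAction.compHom X φ
  have hsmul : ∀ (q : Q) (x : X), q • x = φ q x := fun _ _ => rfl
  rw [← Finset.sum_fiberwise Finset.univ
    (fun x : X => (Quotient.mk'' x : MulAction.orbitRel.Quotient Q X))]
  apply Finset.sum_induction _ T hadd h0
  intro ω _
  obtain ⟨y, hy⟩ : ∃ y : X, (Quotient.mk'' y : MulAction.orbitRel.Quotient Q X) = ω :=
    ⟨ω.out, Quotient.out_eq' ω⟩
  have hmem : ∀ x : X, (Quotient.mk'' x : MulAction.orbitRel.Quotient Q X) = ω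
      ↔ x ∈ MulAction.orbit Q y := by
    intro x
    rw [← hy, Quotient.eq'']
    exact MulAction.orbitRel_apply
  have hconst : ∀ x ∈ Finset.univ.filter
      (fun x : X => (Quotient.mk'' x : MulAction.orbitRel.Quotient Q X) = ω), F x = F y := by
    intro x hx
    rw [Finset.mem_filter] at hx
    obtain ⟨q, hq⟩ := (hmem x).mp hx.2
    rw [← hq]
    exact hF q y
  rw [Finset.sum_congr rfl hconst, Finset.sum_const, nsmul_eq_mul]
  apply h
  have hcard : (Finset.univ.filter
      (fun x : X => (Quotient.mk'' x : MulAction.orbitRel.Quotient Q X) = ω)).card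
      = Nat.card (MulAction.orbit Q y) := by
    rw [← Fintype.card_subtype, ← Nat.card_eq_fintype_card]
    exact Nat.card_congr (Equiv.subtypeEquivRight hmem)
  rw [hcard]
  have h2 : Nat.card {q : Q // φ q y = y} = Nat.card (MulAction.stabilizer Q y) := by
    apply Nat.card_congr
    exact Equiv.subtypeEquivRight (fun q => by rw [MulAction.mem_stabilizer_iff, hsmul])
  rw [h2, Nat.card_congr (MulAction.orbitEquivQuotientStabilizer Q y)]
  exact (Subgroup.card_eq_card_quotient_mul_card_subgroup _).symm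

variable {G : Type*} [Group G] [Fintype G] {M : Ideal AlgInt}

/-- The conjugation action of a subgroup on the group, as permutations. -/
noncomputable def conjPerm (Q : Subgroup G) : Q →* Equiv.Perm G :=
  (MulAut.toPerm G).comp ((MulAut.conj : G →* MulAut G).comp Q.subtype)

theorem conjPerm_apply (Q : Subgroup G) (q : Q) (x : G) :
    conjPerm Q q x = (q : G) * x * (q : G)⁻¹ := rfl

open Classical in
theorem sum_ite_mem_subgroup (S : Subgroup G) (h : G → ℂ) :
    ∑ z : G, (if z ∈ S then h z else 0) = ∑ t : S, h (t : G) := by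
  rw [← Finset.sum_filter]
  exact Finset.sum_subtype (Finset.univ.filter (fun z : G => z ∈ S)) (by simp) h

open Classical in
/-- **Coset sums of a class function** with the divisibility property of the idempotent
coefficients. -/
theorem pow_mul_coset_sum_eq {p : ℕ} [hpf : Fact p.Prime] [hMp : M.IsPrime] (d : ℕ) (f : G → ℂ)
    (hfc : ∀ g x : G, f (x * g * x⁻¹) = f g)
    (hf : ∀ (z : G) (Q' : Subgroup G) (δ : ℕ), IsPGroup p Q' → (∀ u ∈ Q', z * u = u * z) →
      Nat.card Q' = p ^ δ → ∃ r : ℂ, MemLocalRing M r ∧ (p : ℂ) ^ d * f z = (p : ℂ) ^ δ * r)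
    (S : Subgroup G) (hS : IsPGroup p S) (g : G) (r : ℕ)
    (hr : Nat.card ↥(S ⊓ S.map (MulAut.conj g).toMonoidHom) = p ^ r) :
    ∃ ℓ : ℂ, MemLocalRing M ℓ ∧ (p : ℂ) ^ d * ∑ t : S, f (g * (t : G)) = (p : ℂ) ^ r * ℓ := by
  have hp : p.Prime := hpf.out
  have hp0 : (p : ℂ) ≠ 0 := by
    have : p ≠ 0 := hp.ne_zero
    exact_mod_cast this
  obtain ⟨Q, hQ⟩ : ∃ Q : Subgroup G, Q = S ⊓ S.map (MulAut.conj g).toMonoidHom := ⟨_, rfl⟩
  rw [← hQ] at hr
  have hQS : Q ≤ S := hQ ▸ inf_le_left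
  have hQg : ∀ q ∈ Q, ∃ s ∈ S, g * s * g⁻¹ = q := by
    intro q hq
    rw [hQ] at hq
    obtain ⟨s, hs, hsq⟩ := hq.2
    exact ⟨s, hs, hsq⟩
  obtain ⟨F, hFdef⟩ : ∃ F : G → ℂ, F = fun z : G =>
      if g⁻¹ * z ∈ S then (p : ℂ) ^ d * f z else 0 := ⟨_, rfl⟩
  have hFapp : ∀ z, F z = if g⁻¹ * z ∈ S then (p : ℂ) ^ d * f z else 0 := fun z => by rw [hFdef]
  have hmemS : ∀ (q : Q) (z : G), g⁻¹ * ((q : G) * z * (q : G)⁻¹) ∈ S ↔ g⁻¹ * z ∈ S := by
    intro q z
    obtain ⟨s, hs, hsq⟩ := hQg q q.2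
    have e1 : g⁻¹ * ((q : G) * z * (q : G)⁻¹) = s * (g⁻¹ * z) * (q : G)⁻¹ := by
      rw [← hsq]
      group
    rw [e1]
    constructor
    · intro h
      have h2 := S.mul_mem (S.mul_mem (S.inv_mem hs) h) (hQS q.2)
      have e2 : s⁻¹ * (s * (g⁻¹ * z) * (q : G)⁻¹) * (q : G) = g⁻¹ * z := by group
      rwa [e2] at h2
    · intro h
      exact S.mul_mem (S.mul_mem hs h) (S.inv_mem (hQS q.2))
  have hmain := sum_mem_of_action (conjPerm Q)
    (fun x : ℂ => ∃ ℓ : ℂ, MemLocalRing M ℓ ∧ x = (p : ℂ) ^ r * ℓ)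
    ⟨0, memLocalRing_of_integral isIntegral_zero, by rw [mul_zero]⟩
    (by
      rintro a b ⟨ℓ₁, h1, rfl⟩ ⟨ℓ₂, h2, rfl⟩
      exact ⟨ℓ₁ + ℓ₂, memLocalRing_add h1 h2, by ring⟩)
    F
    (by
      intro q z
      rw [conjPerm_apply, hFapp, hFapp, hfc]
      by_cases hz : g⁻¹ * z ∈ S
      · rw [if_pos hz, if_pos ((hmemS q z).mpr hz)]
      · rw [if_neg hz, if_neg (fun h => hz ((hmemS q z).mp h))])
    (by
      intro z n hn
      beta_reduce
      rw [hFapp]
      by_cases hz : g⁻¹ * z ∈ S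
      · rw [if_pos hz]
        obtain ⟨Q', hQ'⟩ : ∃ Q' : Subgroup G, Q' = Q ⊓ Subgroup.centralizer ({z} : Set G) :=
          ⟨_, rfl⟩
        have hQ'p : IsPGroup p Q' := hS.to_le (hQ' ▸ (inf_le_left.trans hQS))
        have hQ'z : ∀ u ∈ Q', z * u = u * z := by
          intro u hu
          rw [hQ'] at hu
          exact (Subgroup.mem_centralizer_singleton_iff.mp hu.2).symm
        obtain ⟨δ, hδ⟩ := IsPGroup.exists_card_eq hQ'p
        have hQ'iff : ∀ u : G, u ∈ Q' ↔ u ∈ Q ∧ u * z = z * u := by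
          intro u
          rw [hQ', Subgroup.mem_inf, Subgroup.mem_centralizer_singleton_iff]
        have hcard : Nat.card {q : Q // conjPerm Q q z = z} = Nat.card Q' := by
          apply Nat.card_congr
          refine ⟨fun q => ⟨(q.1 : G), ?_⟩, fun u => ⟨⟨(u : G), ?_⟩, ?_⟩, ?_, ?_⟩
          · rw [hQ'iff]
            refine ⟨q.1.2, ?_⟩
            have := q.2
            rw [conjPerm_apply] at this
            calc (q.1 : G) * z = (q.1 : G) * z * (q.1 : G)⁻¹ * (q.1 : G) := by group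
              _ = z * (q.1 : G) := by rw [this]
          · exact ((hQ'iff u).mp u.2).1
          · rw [conjPerm_apply]
            have h2 := ((hQ'iff u).mp u.2).2
            show (u : G) * z * (u : G)⁻¹ = z
            rw [h2, mul_inv_cancel_right]
          · intro q
            rfl
          · intro u
            rfl
        rw [hcard, hδ, hr] at hn
        obtain ⟨ρ, hρ, hρeq⟩ := hf z Q' δ hQ'p hQ'z hδ
        refine ⟨ρ, hρ, ?_⟩
        rw [hρeq, ← mul_assoc]
        congr 1
        have : ((n * p ^ δ : ℕ) : ℂ) = ((p ^ r : ℕ) : ℂ) := by rw [hn]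
        push_cast at this
        exact this
      · rw [if_neg hz, mul_zero]
        exact ⟨0, memLocalRing_of_integral isIntegral_zero, by rw [mul_zero]⟩)
  obtain ⟨ℓ, hℓ, hℓeq⟩ := hmain
  refine ⟨ℓ, hℓ, ?_⟩
  rw [← hℓeq, ← Equiv.sum_comp (Equiv.mulLeft g) F, Finset.mul_sum,
    ← sum_ite_mem_subgroup S (fun z : G => (p : ℂ) ^ d * f (g * z))]
  apply Finset.sum_congr rfl
  intro z _
  rw [hFapp, Equiv.coe_mulLeft, inv_mul_cancel_left]

end Cfsg.Agent.Lib.helper3.Block
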