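import Mathlib
import Cfsg.Prelude.Def_Blocks
import Cfsg.Agent.Lib.helper3.GreenCore2
import Cfsg.Agent.Lib.helper3.HeightZero5
import Cfsg.Agent.Lib.helper3.CentralDefect4
import Cfsg.Agent.Lib.helper3.SecMain13
import Cfsg.Agent.Lib.helper3.QuotDefect
import Cfsg.Agent.Lib.helper3.ProjVanish6
import Cfsg.Agent.Lib.helper3.DefectOrder3

/-!
# Green's counting argument for the idempotent of a block
-/

set_option autoImplicit false
set_option linter.style.haveILetI false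
set_option linter.unusedSectionVars false

namespace Cfsg.Agent.Lib.helper3.Block

open Cfsg Cfsg.Agent.Lib.helper3.LocalM Cfsg.Agent.Lib.helper3.CharBasic
open Cfsg.Agent.Lib.helper3.Irr Cfsg.Agent.Lib.helper3.Central Cfsg.Agent.Lib.helper3.Lin
open scoped ComplexConjugate

universe u

variable {G : Type u} [Group G] [Fintype G] {M : Ideal AlgInt}

/-- The idempotent coefficient at `1` of a block of defect `d` is `p ^ (a - d)` times a unit. -/
theorem pow_mul_blockCoeff_one {p : ℕ} [hp : Fact p.Prime] (hM : IsPModular p M)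
    (B : Set (IrrCharacter G)) (hB : IsPBlock M B) :
    ∃ w : ℂ, MemLocalRing M w ∧ ¬ MemLocalIdeal M w
      ∧ (p : ℂ) ^ blockDefect p B * blockCoeff B 1
        = (p : ℂ) ^ (Nat.card G).factorization p * w := by
  classical
  haveI hMp := isPrime_of_isPModular hM
  have hMtop : M ≠ ⊤ := hM.2.1.ne_top
  have hpp : p.Prime := hp.out
  have hp0 : (p : ℂ) ≠ 0 := by
    have : p ≠ 0 := hpp.ne_zero
    exact_mod_cast this
  obtain ⟨Bf, hBfdef⟩ : ∃ Bf : Finset (IrrCharacter G),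
      Bf = Finset.univ.filter (fun χ : IrrCharacter G => χ ∈ B) := ⟨_, rfl⟩
  have hBf : ∀ χ, χ ∈ Bf ↔ χ ∈ B := by
    intro χ
    rw [hBfdef, Finset.mem_filter]
    simp
  obtain ⟨χ₁, hB'⟩ := id hB
  have hχ₁B : χ₁ ∈ B := by
    rw [hB']
    exact sameBlock_refl hMtop _
  have hfac := factorization_sum_sq hM B hB Bf hBf
  obtain ⟨N, hN⟩ : ∃ N : ℕ, N = ∑ ψ ∈ Bf, charDegree (ψ : G → ℂ) ^ 2 := ⟨_, rfl⟩
  rw [← hN] at hfac
  have hNpos : N ≠ 0 := by
    rw [hN]
    intro h0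
    rw [Finset.sum_eq_zero_iff] at h0
    have h1 := h0 χ₁ ((hBf _).2 hχ₁B)
    have h2 : charDegree (χ₁ : G → ℂ) = 0 := pow_eq_zero_iff (two_ne_zero) |>.1 h1
    exact charDegree_ne_zero χ₁ h2
  have ha1eq : (Nat.card G : ℂ) * blockCoeff B 1 = (N : ℂ) := by
    rw [blockCoeff_eq_sum_filter, ← hBfdef, hN]
    have h3 : (Nat.card G : ℂ) ≠ 0 := by
      exact_mod_cast Nat.card_pos.ne'
    rw [← mul_assoc, mul_inv_cancel₀ h3, one_mul]
    push_cast
    apply Finset.sum_congr rfl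
    intro χ _
    rw [conj_apply_one, apply_one_eq_charDegree]
    ring
  obtain ⟨a, ha⟩ : ∃ a : ℕ, a = (Nat.card G).factorization p := ⟨_, rfl⟩
  obtain ⟨s, hs⟩ : ∃ s : ℕ, s = minExp p B := ⟨_, rfl⟩
  have hsa : s ≤ a := by
    rw [hs, ha]
    exact minExp_le_factorization_card hχ₁B
  rw [← ha, ← hs] at hfac
  rw [blockDefect_eq, ← ha, ← hs]
  obtain ⟨n', hn'⟩ : ∃ n' : ℕ, n' = Nat.card G / p ^ a := ⟨_, rfl⟩
  obtain ⟨N', hN'⟩ : ∃ N' : ℕ, N' = N / p ^ (a + s) := ⟨_, rfl⟩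
  have hG2 : Nat.card G = p ^ a * n' := by
    rw [hn', ha]
    exact (Nat.ordProj_mul_ordCompl_eq_self _ p).symm
  have hN2 : N = p ^ (a + s) * N' := by
    rw [hN', ← hfac]
    exact (Nat.ordProj_mul_ordCompl_eq_self _ p).symm
  have hN'p : ¬ p ∣ N' := by
    rw [hN', ← hfac]
    exact Nat.not_dvd_ordCompl hpp hNpos
  have hn'p : ¬ p ∣ n' := by
    rw [hn', ha]
    exact Nat.not_dvd_ordCompl hpp Nat.card_pos.ne'
  have hn'0 : n' ≠ 0 := by
    intro h
    rw [h, mul_zero] at hG2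
    exact Nat.card_pos.ne' hG2
  have hN'0 : N' ≠ 0 := by
    intro h
    rw [h, mul_zero] at hN2
    exact hNpos hN2
  have hn'c : (n' : ℂ) ≠ 0 := by exact_mod_cast hn'0
  have hfin : (n' : ℂ) * ((p : ℂ) ^ (a - s) * blockCoeff B 1) = (p : ℂ) ^ a * (N' : ℂ) := by
    have h1 : ((p : ℂ) ^ a) ≠ 0 := pow_ne_zero _ hp0
    apply mul_left_cancel₀ h1
    rw [hG2, hN2] at ha1eq
    push_cast at ha1eq
    have h2 : (p : ℂ) ^ (a - s) * (p : ℂ) ^ s = (p : ℂ) ^ a := by
      rw [← pow_add, Nat.sub_add_cancel hsa]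
    have h3 : (p : ℂ) ^ (a + s) = (p : ℂ) ^ a * (p : ℂ) ^ s := pow_add _ _ _
    rw [h3] at ha1eq
    calc (p : ℂ) ^ a * ((n' : ℂ) * ((p : ℂ) ^ (a - s) * blockCoeff B 1))
        = (p : ℂ) ^ (a - s) * ((p : ℂ) ^ a * (n' : ℂ) * blockCoeff B 1) := by ring
      _ = (p : ℂ) ^ (a - s) * ((p : ℂ) ^ a * (p : ℂ) ^ s * (N' : ℂ)) := by rw [ha1eq]
      _ = (p : ℂ) ^ a * (((p : ℂ) ^ (a - s) * (p : ℂ) ^ s) * (N' : ℂ)) := by ring
      _ = (p : ℂ) ^ a * ((p : ℂ) ^ a * (N' : ℂ)) := by rw [h2]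
  refine ⟨(N' : ℂ) / (n' : ℂ), ?_, ?_, ?_⟩
  · apply memLocalRing_natCast_div hM N' n' hN'0 hn'0
    rw [Nat.factorization_eq_zero_of_not_dvd hn'p]
    exact Nat.zero_le _
  · apply not_memLocalIdeal_of_mul_eq hM n' N' hN'p
    field_simp
  · field_simp
    linear_combination hfin

/-- The two-sided action of `S × S` on the group. -/
noncomputable def dblPerm (S : Subgroup G) : (↥S × ↥S) →* Equiv.Perm G where
  toFun s :=
    { toFun := fun x => (s.1 : G) * x * (s.2 : G)⁻¹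
      invFun := fun x => (s.1 : G)⁻¹ * x * (s.2 : G)
      left_inv := fun x => by group
      right_inv := fun x => by group }
  map_one' := by
    ext x
    simp
  map_mul' := by
    intro s s'
    ext x
    simp [mul_assoc]

theorem dblPerm_apply (S : Subgroup G) (s : ↥S × ↥S) (x : G) :
    dblPerm S s x = (s.1 : G) * x * (s.2 : G)⁻¹ := rfl

/-- The stabilizers of the two-sided action. -/
theorem card_stabilizer_dblPerm (S : Subgroup G) (g : G) :
    Nat.card {q : ↥S × ↥S // dblPerm S q g = g}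
      = Nat.card ↥(S ⊓ S.map (MulAut.conj g).toMonoidHom) := by
  apply Nat.card_congr
  refine ⟨fun q => ⟨(q.1.1 : G), ?_⟩, fun u => ⟨(⟨(u : G), ?_⟩, ⟨g⁻¹ * (u : G) * g, ?_⟩), ?_⟩,
    ?_, ?_⟩
  · rw [Subgroup.mem_inf]
    refine ⟨q.1.1.2, ?_⟩
    refine ⟨(q.1.2 : G), q.1.2.2, ?_⟩
    have := q.2
    rw [dblPerm_apply] at this
    show g * (q.1.2 : G) * g⁻¹ = (q.1.1 : G)
    calc g * (q.1.2 : G) * g⁻¹ = ((q.1.1 : G) * g * (q.1.2 : G)⁻¹) * (q.1.2 : G) * g⁻¹ := by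
          rw [this]
      _ = (q.1.1 : G) := by group
  · exact (Subgroup.mem_inf.mp u.2).1
  · obtain ⟨s, hs, hsu⟩ := (Subgroup.mem_inf.mp u.2).2
    have : g⁻¹ * (u : G) * g = s := by
      rw [← hsu]
      show g⁻¹ * (g * s * g⁻¹) * g = s
      group
    rw [this]
    exact hs
  · rw [dblPerm_apply]
    show (u : G) * g * (g⁻¹ * (u : G) * g)⁻¹ = g
    group
  · intro q
    apply Subtype.ext
    apply Prod.ext
    · rfl
    · apply Subtype.ext
      have := q.2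
      rw [dblPerm_apply] at this
      show g⁻¹ * (q.1.1 : G) * g = (q.1.2 : G)
      calc g⁻¹ * (q.1.1 : G) * g = g⁻¹ * ((q.1.1 : G) * g * (q.1.2 : G)⁻¹) * (q.1.2 : G) := by
            group
        _ = (q.1.2 : G) := by rw [this]; group
  · intro u
    rfl

/-- A version of the fixed point lemma for actions given by permutations. -/
theorem exists_fixed_of_sum_notMem' {Q X : Type*} [Group Q] [Finite Q] [Fintype X]
    (φ : Q →* Equiv.Perm X) {p : ℕ} (hM : IsPModular p M) (hQ : IsPGroup p Q) (F : X → ℂ)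
    (hFR : ∀ x : X, MemLocalRing M (F x)) (hF : ∀ (q : Q) (x : X), F (φ q x) = F x)
    (hsum : ¬ MemLocalIdeal M (∑ x : X, F x)) :
    ∃ x : X, (∀ q : Q, φ q x = x) ∧ ¬ MemLocalIdeal M (F x) := by
  letI : MulAction Q X := MulAction.compHom X φ
  exact exists_fixed_of_sum_notMem hM hQ F hFR hF hsum

end Cfsg.Agent.Lib.helper3.Block
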