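import Mathlib
import Cfsg.Prelude.Def_Blocks
import Cfsg.Agent.Lib.helper3.GreenCore3

/-!
# Green's counting argument: a defect group as an intersection of two Sylow subgroups
-/

set_option autoImplicit false
set_option linter.style.haveILetI false
set_option linter.unusedSectionVars false

namespace Cfsg.Agent.Lib.helper3.Block

open Cfsg Cfsg.Agent.Lib.helper3.LocalM Cfsg.Agent.Lib.helper3.CharBasic
open Cfsg.Agent.Lib.helper3.Irr Cfsg.Agent.Lib.helper3.Central Cfsg.Agent.Lib.helper3.Lin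
open scoped ComplexConjugate

universe u

variable {G : Type u} [Group G] [Fintype G] {M : Ideal AlgInt}

theorem mem_coset_conj_iff (S : Subgroup G) (g q : G)
    (hq : q ∈ S ⊓ S.map (MulAut.conj g).toMonoidHom) (z : G) :
    g⁻¹ * (q * z * q⁻¹) ∈ S ↔ g⁻¹ * z ∈ S := by
  obtain ⟨hqS, s, hs, hsq⟩ := hq
  have hsq' : g * s * g⁻¹ = q := hsq
  have e1 : g⁻¹ * (q * z * q⁻¹) = s * (g⁻¹ * z) * q⁻¹ := by
    rw [← hsq']
    group
  rw [e1]
  constructor
  · intro h
    have h2 := S.mul_mem (S.mul_mem (S.inv_mem hs) h) hqS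
    have e2 : s⁻¹ * (s * (g⁻¹ * z) * q⁻¹) * q = g⁻¹ * z := by group
    rwa [e2] at h2
  · intro h
    exact S.mul_mem (S.mul_mem hs h) (S.inv_mem hqS)

open Classical in
theorem sum_coset_eq (S : Subgroup G) (g : G) (h : G → ℂ) :
    ∑ z : G, (if g⁻¹ * z ∈ S then h z else 0) = ∑ t : S, h (g * (t : G)) := by
  rw [← Equiv.sum_comp (Equiv.mulLeft g) (fun z : G => if g⁻¹ * z ∈ S then h z else 0),
    ← sum_ite_mem_subgroup S (fun z : G => h (g * z))]
  apply Finset.sum_congr rfl
  intro z _
  rw [Equiv.coe_mulLeft, inv_mul_cancel_left]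

open Classical in
/-- The sums of the products of the coset sums of the idempotent coefficients. -/
theorem sum_coset_sums_eq {p : ℕ} [hp : Fact p.Prime] (hM : IsPModular p M)
    (B : Set (IrrCharacter G)) (hB : IsPBlock M B) (S : Subgroup G) (hS : IsPGroup p S) :
    ∑ g : G, (∑ t : S, blockCoeff B (g * (t : G))) * (∑ t : S, blockCoeff B (g * (t : G))⁻¹)
      = (Nat.card S : ℂ) * blockCoeff B 1 := by
  have hpp : p.Prime := hp.out
  have h1 : ∀ g : G, (∑ t : S, blockCoeff B (g * (t : G)))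
      * (∑ t : S, blockCoeff B (g * (t : G))⁻¹)
      = ∑ t : S, ∑ t' : S, blockCoeff B (g * (t : G)) * blockCoeff B (g * (t' : G))⁻¹ :=
    fun g => Finset.sum_mul_sum _ _ _ _
  rw [Finset.sum_congr rfl (fun g _ => h1 g), Finset.sum_comm]
  have h2 : ∀ t : S, ∑ g : G, ∑ t' : S, blockCoeff B (g * (t : G)) * blockCoeff B (g * (t' : G))⁻¹
      = blockCoeff B 1 := by
    intro t
    rw [Finset.sum_comm]
    have h3 : ∀ t' : S, ∑ g : G, blockCoeff B (g * (t : G)) * blockCoeff B (g * (t' : G))⁻¹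
        = blockCoeff B ((t' : G)⁻¹ * (t : G)) := by
      intro t'
      rw [← blockCoeff_idem B ((t' : G)⁻¹ * (t : G)),
        ← Equiv.sum_comp (Equiv.mulRight (t : G))
          (fun h : G => blockCoeff B h * blockCoeff B (h⁻¹ * ((t' : G)⁻¹ * (t : G))))]
      apply Finset.sum_congr rfl
      intro g _
      rw [Equiv.coe_mulRight]
      congr 1
      have e1 : (g * (t : G))⁻¹ * ((t' : G)⁻¹ * (t : G))
          = ((t : G)⁻¹ * g⁻¹) * (g * (t' : G))⁻¹ * ((t : G)⁻¹ * g⁻¹)⁻¹ := by group
      rw [e1, blockCoeff_conj']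
    rw [Finset.sum_congr rfl (fun t' _ => h3 t'), Finset.sum_eq_single t]
    · rw [inv_mul_cancel]
    · intro t' _ hne
      apply blockCoeff_eq_zero_of_dvd hM B hB
      obtain ⟨k, hk⟩ := hS (t'⁻¹ * t)
      have hk' : ((t' : G)⁻¹ * (t : G)) ^ p ^ k = 1 := by
        have := congrArg Subtype.val hk
        simpa using this
      obtain ⟨j, -, hj'⟩ := (Nat.dvd_prime_pow hpp).mp (orderOf_dvd_of_pow_eq_one hk')
      have hj0 : j ≠ 0 := by
        intro h0
        rw [h0, pow_zero, orderOf_eq_one_iff] at hj'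
        apply hne
        apply Subtype.ext
        have : (t' : G) = (t : G) := by
          calc (t' : G) = (t' : G) * ((t' : G)⁻¹ * (t : G)) := by rw [hj', mul_one]
            _ = (t : G) := by group
        exact this
      rw [hj']
      exact dvd_pow_self p hj0
    · intro h
      exact absurd (Finset.mem_univ _) h
  rw [Finset.sum_congr rfl (fun t _ => h2 t), Finset.sum_const, Finset.card_univ,
    nsmul_eq_mul, Nat.card_eq_fintype_card]

end Cfsg.Agent.Lib.helper3.Block
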