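import Mathlib
import Cfsg.Prelude.Def_Blocks
import Cfsg.Agent.Lib.helper3.GreenCore4

/-!
# Green's counting argument: a defect group as an intersection of two Sylow subgroups
-/

set_option autoImplicit false
set_option linter.style.haveILetI false
set_option linter.unusedSectionVars false

namespace Cfsg.Agent.Lib.helper3.Block

open Cfsg Cfsg.Agent.Lib.helper3.LocalM Cfsg.Agent.Lib.helper3.CharBasic
open Cfsg.Agent.Lib.helper3.Irr Cfsg.Agent.Lib.helper3.Central Cfsg.Agent.Lib.helper3.Lin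
open scoped ComplexConjugate

universe u

variable {G : Type u} [Group G] [Fintype G] {M : Ideal AlgInt}

theorem memLocalIdeal_prime_pow {p : ℕ} (hM : IsPModular p M) (k : ℕ) (hk : k ≠ 0) :
    MemLocalIdeal M ((p : ℂ) ^ k) := by
  have hMtop : M ≠ ⊤ := hM.2.1.ne_top
  have h1 : MemLocalIdeal M (p : ℂ) := by
    have := memLocalIdeal_of_mem hM.2.2 hMtop
    simpa using this
  obtain ⟨j, rfl⟩ := Nat.exists_eq_succ_of_ne_zero hk
  rw [pow_succ]
  apply memLocalIdeal_mul_integral h1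
  exact IsIntegral.pow (by exact_mod_cast (isIntegral_algebraMap (R := ℤ) (A := ℂ) (x := (p : ℤ)))) j

open Classical in
/-- **Green's counting argument.**  For a Sylow `p`-subgroup `S` and a block `B` of defect `d`
there is an element `z` whose idempotent coefficient is not in the local ideal, which is centralized
by `S ∩ z S z⁻¹`, and with `|S ∩ z S z⁻¹| = p ^ d`. -/
theorem exists_defect_intersection {p : ℕ} [hp : Fact p.Prime] (hM : IsPModular p M)
    (B : Set (IrrCharacter G)) (hB : IsPBlock M B) (S : Subgroup G) (hS : IsPGroup p S)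
    (hcard : Nat.card S = p ^ (Nat.card G).factorization p) :
    ∃ z : G, ¬ MemLocalIdeal M (blockCoeff B z)
      ∧ Nat.card ↥(S ⊓ S.map (MulAut.conj z).toMonoidHom) = p ^ blockDefect p B
      ∧ ∀ u ∈ S ⊓ S.map (MulAut.conj z).toMonoidHom, u * z = z * u := by
  haveI hMp := isPrime_of_isPModular hM
  have hMtop : M ≠ ⊤ := hM.2.1.ne_top
  have hpp : p.Prime := hp.out
  have hp0 : (p : ℂ) ≠ 0 := by
    have : p ≠ 0 := hpp.ne_zero
    exact_mod_cast this
  obtain ⟨d, hd⟩ : ∃ d : ℕ, d = blockDefect p B := ⟨_, rfl⟩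
  obtain ⟨a, ha⟩ : ∃ a : ℕ, a = (Nat.card G).factorization p := ⟨_, rfl⟩
  rw [← ha] at hcard
  rw [← hd]
  obtain ⟨L, hL⟩ : ∃ L : G → ℂ, L = fun g : G => ∑ t : S, blockCoeff B (g * (t : G)) :=
    ⟨_, rfl⟩
  obtain ⟨L', hL'⟩ : ∃ L' : G → ℂ, L' = fun g : G => ∑ t : S, blockCoeff B (g * (t : G))⁻¹ :=
    ⟨_, rfl⟩
  have hLapp : ∀ g, L g = ∑ t : S, blockCoeff B (g * (t : G)) := fun g => by rw [hL]
  have hL'app : ∀ g, L' g = ∑ t : S, blockCoeff B (g * (t : G))⁻¹ := fun g => by rw [hL']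
  have hβR : ∀ g, MemLocalRing M (blockCoeff B g) := fun g => osima hM B hB g
  have hLR : ∀ g, MemLocalRing M (L g) := by
    intro g
    rw [hLapp]
    exact memLocalRing_sum _ _ (fun t _ => hβR _)
  have hL'R : ∀ g, MemLocalRing M (L' g) := by
    intro g
    rw [hL'app]
    exact memLocalRing_sum _ _ (fun t _ => hβR _)
  -- the divisibility of the coset sums
  have hLdiv : ∀ (g : G) (r : ℕ), Nat.card ↥(S ⊓ S.map (MulAut.conj g).toMonoidHom) = p ^ r →
      ∃ ℓ : ℂ, MemLocalRing M ℓ ∧ (p : ℂ) ^ d * L g = (p : ℂ) ^ r * ℓ := by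
    intro g r hr
    rw [hLapp]
    exact pow_mul_coset_sum_eq d (blockCoeff B) (fun g x => blockCoeff_conj' B g x)
      (fun z Q' δ hQ' hQ'z hδ => by
        rw [hd]
        exact pow_mul_blockCoeff_eq hM B hB z Q' hQ' hQ'z δ hδ) S hS g r hr
  have hL'div : ∀ (g : G) (r : ℕ), Nat.card ↥(S ⊓ S.map (MulAut.conj g).toMonoidHom) = p ^ r →
      ∃ ℓ : ℂ, MemLocalRing M ℓ ∧ (p : ℂ) ^ d * L' g = (p : ℂ) ^ r * ℓ := by
    intro g r hr
    rw [hL'app]
    exact pow_mul_coset_sum_eq d (fun z : G => blockCoeff B z⁻¹)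
      (fun g x => by
        beta_reduce
        rw [show (x * g * x⁻¹)⁻¹ = x * g⁻¹ * x⁻¹ by group, blockCoeff_conj'])
      (fun z Q' δ hQ' hQ'z hδ => by
        beta_reduce
        rw [hd]
        refine pow_mul_blockCoeff_eq hM B hB z⁻¹ Q' hQ' ?_ δ hδ
        intro u hu
        have h3 := hQ'z u hu
        rw [inv_mul_eq_iff_eq_mul, ← mul_assoc, h3, mul_inv_cancel_right]) S hS g r hr
  -- the total
  obtain ⟨w₀, hw₀R, hw₀, hw₀eq⟩ := pow_mul_blockCoeff_one hM B hB
  rw [← hd, ← ha] at hw₀eq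
  have htot : ∑ g : G, L g * L' g = (p : ℂ) ^ a * blockCoeff B 1 := by
    have := sum_coset_sums_eq hM B hB S hS
    rw [hcard] at this
    push_cast at this
    rw [← this]
    apply Finset.sum_congr rfl
    intro g _
    rw [hLapp, hL'app]
  -- the key existence
  have hkey : ∃ g : G, Nat.card ↥(S ⊓ S.map (MulAut.conj g).toMonoidHom) = p ^ d
      ∧ ¬ MemLocalIdeal M (L g) := by
    by_contra hcon
    push Not at hcon
    have hmain := sum_mem_of_action (dblPerm S)
      (fun x : ℂ => ∃ w : ℂ, MemLocalIdeal M w ∧ (p : ℂ) ^ d * x = (p : ℂ) ^ (2 * a) * w)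
      ⟨0, memLocalIdeal_zero hMtop, by rw [mul_zero, mul_zero]⟩
      (by
        rintro x y ⟨w₁, h1, e1⟩ ⟨w₂, h2, e2⟩
        exact ⟨w₁ + w₂, memLocalIdeal_add h1 h2, by rw [mul_add, mul_add, e1, e2]⟩)
      (fun g : G => L g * L' g)
      (by
        intro q g
        beta_reduce
        obtain ⟨σ, hσ⟩ : ∃ σ : S ≃ S, ∀ t : S, ((σ t : S) : G)
            = (q.2 : G)⁻¹ * (t : G) * (q.1 : G) :=
          ⟨⟨fun t : S => q.2⁻¹ * t * q.1, fun t : S => q.2 * t * q.1⁻¹,
              fun t => by group, fun t => by group⟩, fun t => rfl⟩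
        have hbij : ∀ h : G → ℂ, ∑ t : S, h (dblPerm S q g * (t : G))
            = ∑ t : S, h ((q.1 : G) * (g * (t : G)) * (q.1 : G)⁻¹) := by
          intro h
          rw [dblPerm_apply]
          apply Fintype.sum_equiv σ
          intro t
          rw [hσ]
          congr 1
          group
        rw [hLapp, hL'app, hLapp, hL'app, hbij (blockCoeff B),
          hbij (fun z : G => blockCoeff B z⁻¹)]
        congr 1
        · apply Finset.sum_congr rfl
          intro t _
          rw [blockCoeff_conj']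
        · apply Finset.sum_congr rfl
          intro t _
          beta_reduce
          rw [show ((q.1 : G) * (g * (t : G)) * (q.1 : G)⁻¹)⁻¹
            = (q.1 : G) * (g * (t : G))⁻¹ * (q.1 : G)⁻¹ by group, blockCoeff_conj'])
      (by
        intro g n hn
        beta_reduce
        have hQp : IsPGroup p ↥(S ⊓ S.map (MulAut.conj g).toMonoidHom) := hS.to_le inf_le_left
        obtain ⟨r, hr⟩ := IsPGroup.exists_card_eq hQp
        rw [card_stabilizer_dblPerm, hr, Nat.card_prod, hcard, ← pow_add, ← two_mul] at hn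
        have hnc : (n : ℂ) * (p : ℂ) ^ r = (p : ℂ) ^ (2 * a) := by
          have : ((n * p ^ r : ℕ) : ℂ) = ((p ^ (2 * a) : ℕ) : ℂ) := by rw [hn]
          push_cast at this
          exact this
        obtain ⟨ℓ, hℓR, hℓ⟩ := hLdiv g r hr
        obtain ⟨ℓ', hℓ'R, hℓ'⟩ := hL'div g r hr
        rcases lt_trichotomy r d with hlt | heq | hgt
        · refine ⟨(p : ℂ) ^ (d - r) * (L g * L' g), ?_, ?_⟩
          · rw [mul_comm]
            exact memLocalIdeal_mul_localRing (memLocalRing_mul (hLR g) (hL'R g))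
              (memLocalIdeal_prime_pow hM _ (by omega))
          · have h2 : (p : ℂ) ^ d = (p : ℂ) ^ r * (p : ℂ) ^ (d - r) := by
              rw [← pow_add]
              congr 1
              omega
            rw [← hnc, h2]
            ring
        · refine ⟨L g * L' g, ?_, ?_⟩
          · rw [mul_comm]
            exact memLocalIdeal_mul_localRing (hL'R g) (hcon g (heq ▸ hr))
          · rw [← hnc, heq]
            ring
        · have h2 : (p : ℂ) ^ r = (p : ℂ) ^ d * (p : ℂ) ^ (r - d) := by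
            rw [← pow_add]
            congr 1
            omega
          have hpd0 : (p : ℂ) ^ d ≠ 0 := pow_ne_zero _ hp0
          have h3 : L' g = (p : ℂ) ^ (r - d) * ℓ' := by
            apply mul_left_cancel₀ hpd0
            rw [hℓ', h2]
            ring
          refine ⟨ℓ * L' g, ?_, ?_⟩
          · apply memLocalIdeal_mul_localRing hℓR
            rw [h3, mul_comm]
            exact memLocalIdeal_mul_localRing hℓ'R (memLocalIdeal_prime_pow hM _ (by omega))
          · rw [← hnc]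
            calc (p : ℂ) ^ d * ((n : ℂ) * (L g * L' g))
                = (n : ℂ) * ((p : ℂ) ^ d * L g) * L' g := by ring
              _ = (n : ℂ) * ((p : ℂ) ^ r * ℓ) * L' g := by rw [hℓ]
              _ = (n : ℂ) * (p : ℂ) ^ r * (ℓ * L' g) := by ring)
    obtain ⟨w, hw, hweq⟩ := hmain
    rw [htot] at hweq
    apply hw₀
    have hpa0 : (p : ℂ) ^ (2 * a) ≠ 0 := pow_ne_zero _ hp0
    have : (p : ℂ) ^ (2 * a) * w₀ = (p : ℂ) ^ (2 * a) * w := by
      rw [← hweq, two_mul, pow_add]
      calc (p : ℂ) ^ a * (p : ℂ) ^ a * w₀ = (p : ℂ) ^ a * ((p : ℂ) ^ a * w₀) := by ring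
        _ = (p : ℂ) ^ a * ((p : ℂ) ^ d * blockCoeff B 1) := by rw [hw₀eq]
        _ = (p : ℂ) ^ d * ((p : ℂ) ^ a * blockCoeff B 1) := by ring
    rw [mul_left_cancel₀ hpa0 this]
    exact hw
  obtain ⟨g, hgcard, hgL⟩ := hkey
  obtain ⟨Q, hQ⟩ : ∃ Q : Subgroup G, Q = S ⊓ S.map (MulAut.conj g).toMonoidHom := ⟨_, rfl⟩
  have hQp : IsPGroup p Q := hS.to_le (hQ ▸ inf_le_left)
  rw [hLapp, ← sum_coset_eq S g (blockCoeff B)] at hgL
  obtain ⟨z, hzfix, hz⟩ := exists_fixed_of_sum_notMem' (conjPerm Q) hM hQp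
    (fun z : G => if g⁻¹ * z ∈ S then blockCoeff B z else 0)
    (by
      intro z
      beta_reduce
      split_ifs
      · exact hβR z
      · exact memLocalRing_of_integral isIntegral_zero)
    (by
      intro q z
      beta_reduce
      rw [conjPerm_apply, blockCoeff_conj']
      have := mem_coset_conj_iff S g (q : G) (hQ ▸ q.2) z
      by_cases hzS : g⁻¹ * z ∈ S
      · rw [if_pos hzS, if_pos (this.mpr hzS)]
      · rw [if_neg hzS, if_neg (fun h => hzS (this.mp h))])
    hgL
  beta_reduce at hz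
  have hzS : g⁻¹ * z ∈ S := by
    by_contra h
    rw [if_neg h] at hz
    exact hz (memLocalIdeal_zero hMtop)
  rw [if_pos hzS] at hz
  have hmap : S.map (MulAut.conj z).toMonoidHom = S.map (MulAut.conj g).toMonoidHom := by
    ext x
    constructor
    · rintro ⟨t, ht, rfl⟩
      refine ⟨(g⁻¹ * z) * t * (g⁻¹ * z)⁻¹, S.mul_mem (S.mul_mem hzS ht) (S.inv_mem hzS), ?_⟩
      show g * ((g⁻¹ * z) * t * (g⁻¹ * z)⁻¹) * g⁻¹ = z * t * z⁻¹
      group
    · rintro ⟨t, ht, rfl⟩
      refine ⟨(g⁻¹ * z)⁻¹ * t * (g⁻¹ * z), S.mul_mem (S.mul_mem (S.inv_mem hzS) ht) hzS, ?_⟩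
      show z * ((g⁻¹ * z)⁻¹ * t * (g⁻¹ * z)) * z⁻¹ = g * t * g⁻¹
      group
  refine ⟨z, hz, ?_, ?_⟩
  · rw [hmap]
    exact hgcard
  · intro u hu
    rw [hmap, ← hQ] at hu
    have := hzfix ⟨u, hu⟩
    rw [conjPerm_apply] at this
    have h2 : u * z * u⁻¹ = z := this
    calc u * z = u * z * u⁻¹ * u := by group
      _ = z * u := by rw [h2]

end Cfsg.Agent.Lib.helper3.Block
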