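import Mathlib
import Cfsg.Prelude.Def_Characters
import Cfsg.Prelude.Def_Blocks
import Cfsg.Agent.Lib.helper3.BlockIdem2
import Cfsg.Agent.Lib.helper3.BlockMinMax3

/-!
# Sums of central characters over conjugation-closed subsets
-/

set_option autoImplicit false
set_option linter.style.haveILetI false
set_option linter.unusedSectionVars false

namespace Cfsg.Agent.Lib.helper3.HK

open Cfsg Cfsg.Agent.Lib.helper3.LocalM Cfsg.Agent.Lib.helper3.Block
open Cfsg.Agent.Lib.helper3.CharBasic Cfsg.Agent.Lib.helper3.Irr Cfsg.Agent.Lib.helper3.Central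
open scoped ComplexConjugate

variable {X : Type*} [Group X] [Fintype X] {M : Ideal AlgInt}

open Classical in
/-- If the central character of `χ` is congruent, at the points of a conjugation-closed set `S`,
to the class sums of a function `φ`, then the sum of `χ / χ 1` over `S` is congruent to the sum
of `φ` over `S`. -/
theorem memLocalIdeal_sum_closed_aux [hMp : M.IsPrime] (χ : IrrCharacter X) (S : X → Prop)
    (hS : ∀ x y : X, S (y * x * y⁻¹) ↔ S x) (φ : X → ℂ)
    (h : ∀ x, S x → MemLocalIdeal M
      (centralChar (χ : X → ℂ) x - ∑ m : X, if IsConj x m then φ m else 0)) :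
    MemLocalIdeal M ((∑ x : X, if S x then (χ : X → ℂ) x / (χ : X → ℂ) 1 else 0)
      - ∑ m : X, if S m then φ m else 0) := by
  have hMtop : M ≠ ⊤ := hMp.ne_top
  have hcf := isClassFunction_of_isCharacter (isCharacter_of_isIrrCharacter χ.2)
  obtain ⟨c, hc⟩ : ∃ c : X → ℂ,
      c = fun x => ((Subgroup.centralizer ({x} : Set X)).index : ℂ) := ⟨_, rfl⟩
  have hc0 : ∀ x, c x ≠ 0 := by
    intro x
    rw [hc]
    show ((Subgroup.centralizer ({x} : Set X)).index : ℂ) ≠ 0
    have : (Subgroup.centralizer ({x} : Set X)).index ≠ 0 := Subgroup.index_ne_zero_of_finite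
    exact_mod_cast this
  have hcconj : ∀ x y : X, c (y * x * y⁻¹) = c x := by
    intro x y
    rw [hc]
    simp only
    rw [index_centralizer_conj]
  obtain ⟨σ, hσ⟩ : ∃ σ : X → ℂ, σ = fun x => ∑ m : X, if IsConj x m then φ m else 0 := ⟨_, rfl⟩
  have hσconj : ∀ x y : X, σ (y * x * y⁻¹) = σ x := by
    intro x y
    rw [hσ]
    simp only
    apply Finset.sum_congr rfl
    intro m _
    have : IsConj (y * x * y⁻¹) m ↔ IsConj x m := by
      have h1 : IsConj x (y * x * y⁻¹) := isConj_iff.mpr ⟨y, rfl⟩
      exact ⟨fun h2 => h1.trans h2, fun h2 => h1.symm.trans h2⟩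
    simp only [this]
  obtain ⟨F, hF⟩ : ∃ F : X → ℂ, F = fun x =>
      if S x then (χ : X → ℂ) x / (χ : X → ℂ) 1 - (c x)⁻¹ * σ x else 0 := ⟨_, rfl⟩
  have hFcf : ∀ g y : X, F (y * g * y⁻¹) = F g := by
    intro g y
    rw [hF]
    simp only
    rw [hcf g y, hcconj, hσconj]
    simp only [hS g y]
  have hFloc : ∀ g : X,
      MemLocalIdeal M (((Subgroup.centralizer ({g} : Set X)).index : ℂ) * F g) := by
    intro g
    rw [hF]
    simp only
    by_cases hg : S g
    · rw [if_pos hg]
      have h1 := h g hg
      have e : ((Subgroup.centralizer ({g} : Set X)).index : ℂ)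
          * ((χ : X → ℂ) g / (χ : X → ℂ) 1 - (c g)⁻¹ * σ g)
          = centralChar (χ : X → ℂ) g - ∑ m : X, if IsConj g m then φ m else 0 := by
        have h2 : ((Subgroup.centralizer ({g} : Set X)).index : ℂ) = c g := by rw [hc]
        have h3 : (∑ m : X, if IsConj g m then φ m else 0) = σ g := by rw [hσ]
        rw [h2, h3]
        unfold centralChar
        rw [h2]
        have hcg := hc0 g
        have hχ1 := apply_one_ne_zero χ.2
        field_simp
      rw [e]
      exact h1
    · rw [if_neg hg, mul_zero]
      exact memLocalIdeal_zero hMtop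
  have hsum := memLocalIdeal_sum_class_fun F hFcf hFloc
  have e2 : ∑ x : X, F x = (∑ x : X, if S x then (χ : X → ℂ) x / (χ : X → ℂ) 1 else 0)
      - ∑ m : X, if S m then φ m else 0 := by
    have e3 : ∑ x : X, F x = (∑ x : X, if S x then (χ : X → ℂ) x / (χ : X → ℂ) 1 else 0)
        - ∑ x : X, if S x then (c x)⁻¹ * σ x else 0 := by
      rw [← Finset.sum_sub_distrib]
      apply Finset.sum_congr rfl
      intro x _
      rw [hF]
      simp only
      by_cases hx : S x
      · rw [if_pos hx, if_pos hx, if_pos hx]
      · rw [if_neg hx, if_neg hx, if_neg hx, sub_zero]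
    rw [e3]
    congr 1
    -- double counting
    have e4 : ∀ x : X, (if S x then (c x)⁻¹ * σ x else 0)
        = ∑ m : X, if IsConj x m then (if S m then (c m)⁻¹ * φ m else 0) else 0 := by
      intro x
      rw [hσ]
      simp only
      by_cases hx : S x
      · rw [if_pos hx, Finset.mul_sum]
        apply Finset.sum_congr rfl
        intro m _
        by_cases hm : IsConj x m
        · rw [if_pos hm, if_pos hm]
          obtain ⟨y, hy⟩ := isConj_iff.mp hm
          have hSm : S m := by
            rw [← hy]
            exact (hS x y).mpr hx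
          rw [if_pos hSm, ← hy, hcconj]
        · rw [if_neg hm, if_neg hm, mul_zero]
      · rw [if_neg hx]
        symm
        apply Finset.sum_eq_zero
        intro m _
        by_cases hm : IsConj x m
        · rw [if_pos hm]
          obtain ⟨y, hy⟩ := isConj_iff.mp hm
          have hSm : ¬ S m := by
            rw [← hy]
            intro h5
            exact hx ((hS x y).mp h5)
          rw [if_neg hSm]
        · rw [if_neg hm]
    rw [Finset.sum_congr rfl (fun x _ => e4 x), Finset.sum_comm]
    apply Finset.sum_congr rfl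
    intro m _
    by_cases hm : S m
    · simp only [if_pos hm]
      have e5 : ∀ x : X, (if IsConj x m then (c m)⁻¹ * φ m else 0)
          = if IsConj m x then (c m)⁻¹ * φ m else 0 := by
        intro x
        by_cases hx : IsConj x m
        · rw [if_pos hx, if_pos hx.symm]
        · rw [if_neg hx, if_neg (fun h6 => hx h6.symm)]
      rw [Finset.sum_congr rfl (fun x _ => e5 x), ← Finset.sum_filter, Finset.sum_const,
        card_class_eq_index, nsmul_eq_mul]
      have h2 : ((Subgroup.centralizer ({m} : Set X)).index : ℂ) = c m := by rw [hc]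
      rw [h2, ← mul_assoc, mul_inv_cancel₀ (hc0 m), one_mul]
    · simp only [if_neg hm]
      simp
  rw [← e2]
  exact hsum

/-- Version of `memLocalIdeal_sum_closed_aux` with arbitrary decidability instances. -/
theorem memLocalIdeal_sum_closed [hMp : M.IsPrime] (χ : IrrCharacter X) (S : X → Prop)
    [hdS : DecidablePred S] [hdC : ∀ x m : X, Decidable (IsConj x m)]
    (hS : ∀ x y : X, S (y * x * y⁻¹) ↔ S x) (φ : X → ℂ)
    (h : ∀ x, S x → MemLocalIdeal M
      (centralChar (χ : X → ℂ) x - ∑ m : X, if IsConj x m then φ m else 0)) :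
    MemLocalIdeal M ((∑ x : X, if S x then (χ : X → ℂ) x / (χ : X → ℂ) 1 else 0)
      - ∑ m : X, if S m then φ m else 0) := by
  obtain rfl : hdS = (fun x => Classical.propDecidable (S x)) := Subsingleton.elim _ _
  obtain rfl : hdC = (fun x m => Classical.propDecidable (IsConj x m)) := Subsingleton.elim _ _
  have := memLocalIdeal_sum_closed_aux (M := M) χ S hS φ (by
    intro x hx
    convert h x hx using 4)
  convert this using 4

end Cfsg.Agent.Lib.helper3.HK
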