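import Mathlib
import Cfsg.Agent.Lib.helper3.SP36
import Cfsg.Agent.S4657
import Cfsg.Agent.S4658
import Cfsg.Agent.S4687

/-!
# Block induction inside a subgroup, and local blocks for abelian defect groups
-/

set_option autoImplicit false
set_option linter.style.haveILetI false
set_option linter.unusedSectionVars false

namespace Cfsg.Agent.Lib.helper3.Block

open Cfsg Module Cfsg.Agent.Lib.helper3.CharBasic Cfsg.Agent.Lib.helper3.Irr
open Cfsg.Agent.Lib.helper3.Central Cfsg.Agent.Lib.helper3.LocalM Cfsg.Agent.Lib.helper3.IndFun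
open Cfsg.Agent.Lib.helper3.Lin
open scoped ComplexConjugate

universe u

variable {G : Type u} [Group G] [Fintype G] {M : Ideal AlgInt}

open Classical in
theorem inducedCentralCharIn_eq_sum (H K : Subgroup G) (ξ : K → ℂ) (g : G) :
    inducedCentralCharIn H K ξ g
      = ∑ k : K, if (∃ x : H, (x : G) * (k : G) * (x : G)⁻¹ = g) then ξ k / ξ 1 else 0 := by
  unfold inducedCentralCharIn
  rw [finsum_mem_def, finsum_eq_sum_of_fintype]
  apply Finset.sum_congr rfl
  intro h _
  rw [Set.indicator_apply]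
  rfl

open Classical in
/-- Induction computed inside `H` is induction in the group `H`. -/
theorem inducedCentralCharIn_eq (H K : Subgroup G) (K' : Subgroup ↥H)
    (ι : K' ≃* K)
    (hι : ∀ m : K', ((ι m : K) : G) = ((m : ↥H) : G)) (ξ : IrrCharacter K) (h : ↥H) :
    inducedCentralCharIn H K (ξ : K → ℂ) (h : G)
      = inducedCentralChar K' (irrCongr ι ξ : K' → ℂ) h := by
  rw [inducedCentralCharIn_eq_sum, inducedCentralChar_eq_sum]
  symm
  apply Fintype.sum_equiv ι.toEquiv
  intro m
  have hcond : IsConj h (m : ↥H) ↔ ∃ x : H, (x : G) * ((ι.toEquiv m : K) : G) * (x : G)⁻¹ = (h : G) := by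
    have h1 : ((ι.toEquiv m : K) : G) = ((m : ↥H) : G) := hι m
    rw [h1, isConj_iff]
    constructor
    · rintro ⟨c, hc⟩
      refine ⟨c⁻¹, ?_⟩
      rw [← hc]
      simp
      group
    · rintro ⟨x, hx⟩
      refine ⟨x⁻¹, ?_⟩
      apply Subtype.ext
      rw [Subgroup.coe_mul, Subgroup.coe_mul, ← hx]
      simp
      group
  rw [irrCongr_apply, irrCongr_apply, map_one]
  by_cases hc : IsConj h (m : ↥H)
  · rw [if_pos hc, if_pos (hcond.mp hc)]
    rfl
  · rw [if_neg hc, if_neg (fun h' => hc (hcond.mpr h'))]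

open Classical in
/-- Induction computed inside `H` is induction in the group `H`, for blocks. -/
theorem isInducedBlockIn_iff (H K : Subgroup G) (K' : Subgroup ↥H) (ι : K' ≃* K)
    (hι : ∀ m : K', ((ι m : K) : G) = ((m : ↥H) : G)) (c : Set (IrrCharacter K))
    (hc : IsPBlock M c) (f : Set (IrrCharacter H)) :
    IsInducedBlockIn M H K c f ↔ IsInducedBlock M K' (irrCongr ι '' c) f := by
  constructor
  · intro h
    refine ⟨isPBlock_image_irrCongr ι c hc, h.2.1, ?_⟩
    rintro _ ⟨ξ, hξ, rfl⟩ χ hχ g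
    rw [← inducedCentralCharIn_eq H K K' ι hι ξ g]
    exact h.2.2 ξ hξ χ hχ g
  · intro h
    refine ⟨hc, h.2.1, ?_⟩
    intro ξ hξ χ hχ g
    rw [inducedCentralCharIn_eq H K K' ι hι ξ g]
    exact h.2.2 _ ⟨ξ, hξ, rfl⟩ χ hχ g

/-- A block of `C_G(P)` inducing `B` forms a Brauer pair of `B`. -/
theorem isBrauerPairOf_of_isInducedBlock {p : ℕ} [hp : Fact p.Prime] (hM : IsPModular p M)
    (P : Subgroup G) (hP : IsPGroup p P) (B : Set (IrrCharacter G))
    (e : Set (IrrCharacter (Subgroup.centralizer (P : Set G))))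
    (h : IsInducedBlock M (Subgroup.centralizer (P : Set G)) e B) :
    IsBrauerPairOf p M B P e := by
  haveI hMp := isPrime_of_isPModular hM
  obtain ⟨B', hB', -⟩ := Cfsg.Agent.S4657.result p M hM P e ⟨hP, h.1⟩
  have h2 := isInducedBlock_of_isBrauerPairOf hM P B' e hB'
  have h3 := isInducedBlock_unique _ e B B' h h2
  rw [h3]
  exact hB'

end Cfsg.Agent.Lib.helper3.Block
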