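import Mathlib
import Cfsg.Prelude.Def_Characters
import Cfsg.Prelude.Def_Blocks
import Cfsg.Prelude.Def_BlockLocal
import Cfsg.Agent.Lib.helper3.HK1
import Cfsg.Agent.Lib.helper3.SP37
import Cfsg.Agent.Lib.helper3.BlockInd
import Cfsg.Agent.Lib.helper3.IrrCongr
import Cfsg.Agent.S0965

/-!
# An induced block covers the induced block of a covered block
-/

set_option autoImplicit false
set_option linter.style.haveILetI false
set_option linter.unusedSectionVars false

namespace Cfsg.Agent.Lib.helper3.HK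

open Cfsg Cfsg.Agent.Lib.helper3.LocalM Cfsg.Agent.Lib.helper3.Block
open Cfsg.Agent.Lib.helper3.CharBasic Cfsg.Agent.Lib.helper3.Irr Cfsg.Agent.Lib.helper3.Central
open Cfsg.Agent.Lib.helper3.IndFun
open scoped ComplexConjugate

variable {G : Type*} [Group G] [Fintype G] {M : Ideal AlgInt}

theorem sum_subgroup_eq (K : Subgroup G) [Fintype K] (f : G → ℂ) (hf : ∀ g, g ∉ K → f g = 0) :
    ∑ g : G, f g = ∑ k : K, f (k : G) := by
  classical
  have h1 : ∑ g : G, f g = ∑ g ∈ Finset.univ.filter (fun g : G => g ∈ K), f g := by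
    symm
    apply Finset.sum_subset (Finset.filter_subset _ _)
    intro g _ hg
    apply hf
    intro h
    apply hg
    simp [h]
  rw [h1]
  exact Finset.sum_subtype _ (fun g => by simp) f

/-- The normalized extension by zero of a function on a subgroup. -/
noncomputable def ez (K : Subgroup G) (ξ : K → ℂ) : G → ℂ :=
  fun g => by
    classical
    exact if h : g ∈ K then ξ ⟨g, h⟩ / ξ 1 else 0

theorem ez_of_mem (K : Subgroup G) (ξ : K → ℂ) (k : K) : ez K ξ (k : G) = ξ k / ξ 1 := by
  unfold ez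
  rw [dif_pos k.2]

theorem ez_of_notMem (K : Subgroup G) (ξ : K → ℂ) {g : G} (hg : g ∉ K) : ez K ξ g = 0 := by
  unfold ez
  rw [dif_neg hg]

theorem inducedCentralChar_eq_sum_sub (K : Subgroup G) [Fintype K] (ξ : K → ℂ) (g : G)
    [hd : ∀ h : K, Decidable (IsConj g (h : G))] :
    inducedCentralChar K ξ g = ∑ h : K, if IsConj g (h : G) then ξ h / ξ 1 else 0 := by
  classical
  unfold inducedCentralChar
  rw [finsum_mem_def, finsum_eq_sum_of_fintype]
  apply Finset.sum_congr rfl
  intro h _
  rw [Set.indicator_apply]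
  by_cases hc : IsConj g (h : G)
  · rw [if_pos hc, if_pos]
    exact hc
  · rw [if_neg hc, if_neg]
    exact hc

theorem inducedCentralCharIn_eq_sum_sub (H K : Subgroup G) [Fintype K] (ξ : K → ℂ) (g : G)
    [hd : ∀ k : K, Decidable (∃ x : H, (x : G) * (k : G) * (x : G)⁻¹ = g)] :
    inducedCentralCharIn H K ξ g
      = ∑ k : K, if (∃ x : H, (x : G) * (k : G) * (x : G)⁻¹ = g) then ξ k / ξ 1 else 0 := by
  classical
  unfold inducedCentralCharIn
  rw [finsum_mem_def, finsum_eq_sum_of_fintype]
  apply Finset.sum_congr rfl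
  intro h _
  rw [Set.indicator_apply]
  by_cases hc : ∃ x : H, (x : G) * (h : G) * (x : G)⁻¹ = g
  · rw [if_pos hc, if_pos]
    exact hc
  · rw [if_neg hc, if_neg]
    exact hc

theorem inducedCentralChar_eq_sum_ez (K : Subgroup G) [Fintype K] (ξ : K → ℂ) (g : G)
    [hd : ∀ x : G, Decidable (IsConj g x)] :
    inducedCentralChar K ξ g = ∑ x : G, if IsConj g x then ez K ξ x else 0 := by
  rw [inducedCentralChar_eq_sum_sub, sum_subgroup_eq K (fun x => if IsConj g x then ez K ξ x else 0)]
  · apply Finset.sum_congr rfl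
    intro k _
    rw [ez_of_mem]
  · intro x hx
    rw [ez_of_notMem K ξ hx]
    simp

end Cfsg.Agent.Lib.helper3.HK
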