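import Mathlib
import Cfsg.Prelude.Def_Characters
import Cfsg.Prelude.Def_Blocks
import Cfsg.Prelude.Def_BlockLocal
import Cfsg.Agent.Lib.helper3.HK2

/-!
# An induced block covers the induced block of a covered block (Navarro, Lemma 9.27 style)
-/

set_option autoImplicit false
set_option linter.style.haveILetI false
set_option linter.unusedSectionVars false

namespace Cfsg.Agent.Lib.helper3.HK

open Cfsg Cfsg.Agent.Lib.helper3.LocalM Cfsg.Agent.Lib.helper3.Block
open Cfsg.Agent.Lib.helper3.CharBasic Cfsg.Agent.Lib.helper3.Irr Cfsg.Agent.Lib.helper3.Central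
open Cfsg.Agent.Lib.helper3.IndFun
open scoped ComplexConjugate

variable {G : Type*} [Group G] [Fintype G] {M : Ideal AlgInt}
variable (N : Subgroup G) [hN : N.Normal] [Fintype N] (H : Subgroup G) [Fintype H]
  [Fintype ↥(H ⊓ N)]

/-- The identification of `N ∩ H`, as a subgroup of `H`, with `H ⊓ N`. -/
noncomputable def infEquiv : N.subgroupOf H ≃* ↥(H ⊓ N) where
  toFun x := ⟨((x : H) : G), ⟨(x : H).2, Subgroup.mem_subgroupOf.mp x.2⟩⟩
  invFun k := ⟨⟨(k : G), k.2.1⟩, Subgroup.mem_subgroupOf.mpr k.2.2⟩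
  left_inv x := rfl
  right_inv k := rfl
  map_mul' x y := rfl

theorem infEquiv_coe (x : N.subgroupOf H) : ((infEquiv N H x : ↥(H ⊓ N)) : G) = ((x : H) : G) :=
  rfl

theorem ez_subgroupOf [Fintype (N.subgroupOf H)] (ξ : IrrCharacter ↥(H ⊓ N)) (x : H) :
    ez (N.subgroupOf H) (irrCongr (infEquiv N H) ξ : N.subgroupOf H → ℂ) x
      = ez (H ⊓ N) (ξ : ↥(H ⊓ N) → ℂ) (x : G) := by
  by_cases hx : (x : G) ∈ N
  · have hx' : x ∈ N.subgroupOf H := Subgroup.mem_subgroupOf.mpr hx
    have hx'' : (x : G) ∈ H ⊓ N := ⟨x.2, hx⟩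
    have e1 := ez_of_mem (N.subgroupOf H) (irrCongr (infEquiv N H) ξ : N.subgroupOf H → ℂ)
      ⟨x, hx'⟩
    have e2 := ez_of_mem (H ⊓ N) (ξ : ↥(H ⊓ N) → ℂ) ⟨(x : G), hx''⟩
    simp only at e1 e2
    rw [e1, e2, irrCongr_apply, irrCongr_apply, map_one]
    rfl
  · have hx' : x ∉ N.subgroupOf H := fun h => hx (Subgroup.mem_subgroupOf.mp h)
    have hx'' : (x : G) ∉ H ⊓ N := fun h => hx h.2
    rw [ez_of_notMem _ _ hx', ez_of_notMem _ _ hx'']

/-- If the block `c` of `H` induces the block `B` of `G` and covers the block `e'` of `H ∩ N`,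
and `e'` induces, inside `N`, the block `d'` of the normal subgroup `N`, then `B` covers `d'`. -/
theorem covers_of_induced {p : ℕ} [hp : Fact p.Prime] (hM : IsPModular p M)
    (c : Set (IrrCharacter H)) (B : Set (IrrCharacter G)) (hind : IsInducedBlock M H c B)
    (e' : Set (IrrCharacter ↥(H ⊓ N))) (d' : Set (IrrCharacter N))
    (hed : IsInducedBlockIn M N (H ⊓ N) e' d')
    (hcov : ∃ ψ ∈ c, ∃ ξ ∈ e', classInner
      (fun l : ↥(H ⊓ N) => (ψ : H → ℂ) (Subgroup.inclusion inf_le_left l))
      (ξ : ↥(H ⊓ N) → ℂ) ≠ 0) :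
    ∃ χ ∈ B, ∃ θ ∈ d', classInner (fun n : N => (χ : G → ℂ) n) (θ : N → ℂ) ≠ 0 := by
  classical
  haveI hMp := isPrime_of_isPModular hM
  obtain ⟨hc, hB, hindc⟩ := hind
  obtain ⟨he', hd', hedc⟩ := hed
  obtain ⟨ψ, hψ, ξ, hξ, hne⟩ := hcov
  rw [Cfsg.Agent.S0965.result p M hM N B hB d' hd']
  intro χ hχ θ hθ n
  obtain ⟨R, hR⟩ : ∃ R : ℂ, R = ∑ g : G,
      if IsConj (n : G) g then ez (H ⊓ N) (ξ : ↥(H ⊓ N) → ℂ) g else 0 := ⟨_, rfl⟩
  have h1 := hindc ψ hψ χ hχ (n : G)
  -- the side of `N`
  have h2b : MemLocalIdeal M (inducedCentralChar N (θ : N → ℂ) (n : G) - R) := by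
    have hS : ∀ x y : N, IsConj (n : G) ((y * x * y⁻¹ : N) : G) ↔ IsConj (n : G) (x : G) := by
      intro x y
      have hxy : IsConj ((x : N) : G) ((y * x * y⁻¹ : N) : G) :=
        isConj_iff.mpr ⟨(y : G), by simp⟩
      exact ⟨fun h => h.trans hxy.symm, fun h => h.trans hxy⟩
    have hcc := memLocalIdeal_sum_closed (M := M) θ (fun m : N => IsConj (n : G) (m : G)) hS
      (fun m : N => ez (H ⊓ N) (ξ : ↥(H ⊓ N) → ℂ) (m : G)) (by
        intro m _
        have h3 := hedc ξ hξ θ hθ m
        have e : inducedCentralCharIn N (H ⊓ N) (ξ : ↥(H ⊓ N) → ℂ) (m : G)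
            = ∑ m' : N, if IsConj m m' then ez (H ⊓ N) (ξ : ↥(H ⊓ N) → ℂ) (m' : G) else 0 := by
          obtain ⟨F, hF⟩ : ∃ F : G → ℂ, F = fun g =>
              if (∃ x : N, (x : G) * (m : G) * (x : G)⁻¹ = g)
                then ez (H ⊓ N) (ξ : ↥(H ⊓ N) → ℂ) g else 0 := ⟨_, rfl⟩
          have e1 : ∑ m' : N, (if IsConj m m' then ez (H ⊓ N) (ξ : ↥(H ⊓ N) → ℂ) (m' : G)
              else 0) = ∑ g : G, F g := by
            rw [sum_subgroup_eq N F]
            · apply Finset.sum_congr rfl
              intro m' _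
              rw [hF]
              simp only
              have : IsConj m m' ↔ ∃ x : N, (x : G) * (m : G) * (x : G)⁻¹ = (m' : G) := by
                rw [isConj_iff]
                constructor
                · rintro ⟨x, hx⟩
                  exact ⟨x, by rw [← hx]; rfl⟩
                · rintro ⟨x, hx⟩
                  exact ⟨x, Subtype.ext hx⟩
              simp only [this]
            · intro g hg
              rw [hF]
              simp only
              rw [if_neg]
              rintro ⟨x, hx⟩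
              apply hg
              rw [← hx]
              exact N.mul_mem (N.mul_mem x.2 m.2) (N.inv_mem x.2)
          rw [e1, sum_subgroup_eq (H ⊓ N) F, inducedCentralCharIn_eq_sum_sub]
          · apply Finset.sum_congr rfl
            intro k _
            rw [hF]
            simp only
            rw [ez_of_mem]
            have : (∃ x : N, (x : G) * (k : G) * (x : G)⁻¹ = (m : G))
                ↔ ∃ x : N, (x : G) * (m : G) * (x : G)⁻¹ = (k : G) := by
              constructor
              · rintro ⟨x, hx⟩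
                refine ⟨x⁻¹, ?_⟩
                rw [← hx]
                simp only [InvMemClass.coe_inv]
                group
              · rintro ⟨x, hx⟩
                refine ⟨x⁻¹, ?_⟩
                rw [← hx]
                simp only [InvMemClass.coe_inv]
                group
            simp only [this]
          · intro g hg
            rw [hF]
            simp only
            rw [ez_of_notMem _ _ hg]
            simp
        rw [← e]
        have := memLocalIdeal_neg h3
        rwa [neg_sub] at this)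
    have s1 : (∑ x : N, if IsConj (n : G) (x : G) then (θ : N → ℂ) x / (θ : N → ℂ) 1 else 0)
        = inducedCentralChar N (θ : N → ℂ) (n : G) :=
      (inducedCentralChar_eq_sum_sub N _ _).symm
    have s2 : (∑ m : N, if IsConj (n : G) (m : G)
        then ez (H ⊓ N) (ξ : ↥(H ⊓ N) → ℂ) (m : G) else 0) = R := by
      rw [hR, sum_subgroup_eq N
        (fun g => if IsConj (n : G) g then ez (H ⊓ N) (ξ : ↥(H ⊓ N) → ℂ) g else 0)]
      intro g hg
      rw [ez_of_notMem _ _ (fun (h : g ∈ H ⊓ N) => hg h.2)]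
      simp
    rw [s1, s2] at hcc
    exact hcc
  -- the side of `H`
  have h2a : MemLocalIdeal M (inducedCentralChar H (ψ : H → ℂ) (n : G) - R) := by
    letI : Fintype (N.subgroupOf H) := Fintype.ofFinite _
    have he'' : IsPBlock M (irrCongr (infEquiv N H) '' e') :=
      isPBlock_image_irrCongr (infEquiv N H) e' he'
    have hcov'' : ∃ ψ' ∈ c, ∃ ξ'' ∈ irrCongr (infEquiv N H) '' e',
        classInner (fun m : N.subgroupOf H => (ψ' : H → ℂ) m)
          (ξ'' : N.subgroupOf H → ℂ) ≠ 0 := by
      refine ⟨ψ, hψ, irrCongr (infEquiv N H) ξ, ⟨ξ, hξ, rfl⟩, ?_⟩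
      have e : classInner (fun m : N.subgroupOf H => (ψ : H → ℂ) m)
          (irrCongr (infEquiv N H) ξ : N.subgroupOf H → ℂ)
          = classInner (fun l : ↥(H ⊓ N) => (ψ : H → ℂ) (Subgroup.inclusion inf_le_left l))
            (ξ : ↥(H ⊓ N) → ℂ) := by
        rw [classInner_apply, classInner_apply, Nat.card_congr (infEquiv N H).toEquiv]
        congr 1
        apply Fintype.sum_equiv (infEquiv N H).toEquiv
        intro m
        rfl
      rw [e]
      exact hne
    have hP := (Cfsg.Agent.S0965.result p M hM (N.subgroupOf H) c hc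
      (irrCongr (infEquiv N H) '' e') he'').mp hcov'' ψ hψ (irrCongr (infEquiv N H) ξ)
      ⟨ξ, hξ, rfl⟩
    have hS : ∀ x y : H, IsConj (n : G) ((y * x * y⁻¹ : H) : G) ↔ IsConj (n : G) (x : G) := by
      intro x y
      have hxy : IsConj ((x : H) : G) ((y * x * y⁻¹ : H) : G) :=
        isConj_iff.mpr ⟨(y : G), by simp⟩
      exact ⟨fun h => h.trans hxy.symm, fun h => h.trans hxy⟩
    have hcc := memLocalIdeal_sum_closed (M := M) ψ (fun h : H => IsConj (n : G) (h : G)) hS
      (fun h : H => ez (H ⊓ N) (ξ : ↥(H ⊓ N) → ℂ) (h : G)) (by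
        intro h hh
        have hhN : (h : G) ∈ N := by
          obtain ⟨g, hg⟩ := isConj_iff.mp hh
          rw [← hg]
          exact hN.conj_mem _ n.2 g
        have h3 := hP ⟨h, Subgroup.mem_subgroupOf.mpr hhN⟩
        simp only at h3
        rw [inducedCentralChar_eq_sum_ez] at h3
        simp only [ez_subgroupOf] at h3
        exact h3)
    have s1 : (∑ x : H, if IsConj (n : G) (x : G) then (ψ : H → ℂ) x / (ψ : H → ℂ) 1 else 0)
        = inducedCentralChar H (ψ : H → ℂ) (n : G) :=
      (inducedCentralChar_eq_sum_sub H _ _).symm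
    have s2 : (∑ m : H, if IsConj (n : G) (m : G)
        then ez (H ⊓ N) (ξ : ↥(H ⊓ N) → ℂ) (m : G) else 0) = R := by
      rw [hR, sum_subgroup_eq H
        (fun g => if IsConj (n : G) g then ez (H ⊓ N) (ξ : ↥(H ⊓ N) → ℂ) g else 0)]
      intro g hg
      rw [ez_of_notMem _ _ (fun (h : g ∈ H ⊓ N) => hg h.1)]
      simp
    rw [s1, s2] at hcc
    exact hcc
  have h3 := memLocalIdeal_sub (memLocalIdeal_sub h2a h1) h2b
  convert h3 using 1
  ring

end Cfsg.Agent.Lib.helper3.HK
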