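import Mathlib
import Cfsg.Prelude.Def_Characters
import Cfsg.Prelude.Def_Blocks
import Cfsg.Prelude.Def_BlockLocal
import Cfsg.Agent.Lib.helper3.GrAlg11
import Cfsg.Agent.Lib.helper3.ExtFirstMain1
import Cfsg.Agent.S0920

/-!
# Brauer's first main theorem over a subgroup containing the normalizer of the defect group,
in terms of block induction
-/

set_option autoImplicit false
set_option linter.style.haveILetI false
set_option linter.unusedSectionVars false

namespace Cfsg.Agent.Lib.helper3.HK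

open Cfsg Cfsg.Agent.Lib.helper3.LocalM Cfsg.Agent.Lib.helper3.Block
open Cfsg.Agent.Lib.helper3.CharBasic Cfsg.Agent.Lib.helper3.Irr Cfsg.Agent.Lib.helper3.Central
open Cfsg.Agent.Lib.helper3.IndFun Cfsg.Agent.Lib.helper3.GrAlg
open scoped ComplexConjugate

variable {G : Type*} [Group G] [Fintype G] {M : Ideal AlgInt}

/-- The normalizer of `D'` in `H` maps onto the normalizer in `G` of the image of `D'`, when the
latter lies in `H`. -/
theorem normalizer_map_subtype (H : Subgroup G) (D' : Subgroup ↥H)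
    (hN : Subgroup.normalizer ((D'.map H.subtype : Subgroup G) : Set G) ≤ H) :
    (Subgroup.normalizer (D' : Set ↥H)).map H.subtype
      = Subgroup.normalizer ((D'.map H.subtype : Subgroup G) : Set G) := by
  have hmem : ∀ h : H, (h : G) ∈ D'.map H.subtype ↔ h ∈ D' := by
    intro h
    constructor
    · rintro ⟨h', hh', e⟩
      have : h' = h := Subtype.ext e
      rw [← this]
      exact hh'
    · intro hh
      exact ⟨h, hh, rfl⟩
  ext g
  constructor
  · rintro ⟨x, hx, rfl⟩
    rw [SetLike.mem_coe, Subgroup.mem_normalizer_iff] at hx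
    rw [Subgroup.mem_normalizer_iff]
    intro y
    constructor
    · rintro ⟨h, hh, rfl⟩
      have := (hx h).mp hh
      exact ⟨x * h * x⁻¹, this, rfl⟩
    · rintro ⟨h', hh', e⟩
      have hy : y = ((x⁻¹ * h' * x : H) : G) := by
        have e' : (h' : G) = (x : G) * y * (x : G)⁻¹ := e
        simp only [Subgroup.coe_mul, InvMemClass.coe_inv, e']
        group
      rw [hy]
      refine ⟨x⁻¹ * h' * x, ?_, rfl⟩
      apply (hx (x⁻¹ * h' * x)).mpr
      have e2 : x * (x⁻¹ * h' * x) * x⁻¹ = h' := by group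
      rw [e2]
      exact hh'
  · intro hg
    have hgH : g ∈ H := hN hg
    refine ⟨⟨g, hgH⟩, ?_, rfl⟩
    rw [SetLike.mem_coe, Subgroup.mem_normalizer_iff]
    intro h
    rw [Subgroup.mem_normalizer_iff] at hg
    rw [← hmem h, ← hmem (⟨g, hgH⟩ * h * ⟨g, hgH⟩⁻¹)]
    exact hg (h : G)

open Classical in
/-- The identification of the two normalizers. -/
theorem exists_normalizer_equiv (H : Subgroup G) (D' : Subgroup ↥H)
    (hN : Subgroup.normalizer ((D'.map H.subtype : Subgroup G) : Set G) ≤ H) :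
    ∃ ι : ↥(Subgroup.normalizer (D' : Set ↥H))
        ≃* ↥(Subgroup.normalizer ((D'.map H.subtype : Subgroup G) : Set G)),
      ∀ m, ((ι m : ↥(Subgroup.normalizer ((D'.map H.subtype : Subgroup G) : Set G))) : G)
        = ((m : H) : G) := by
  refine ⟨((Subgroup.normalizer (D' : Set ↥H)).equivMapOfInjective H.subtype
    H.subtype_injective).trans (MulEquiv.subgroupCongr (normalizer_map_subtype H D' hN)), ?_⟩
  intro m
  rfl

open Classical in
/-- Transport of the defect group condition between the two normalizers. -/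
theorem isDefectGroup_normalizer_iff {p : ℕ} [hp : Fact p.Prime] (H : Subgroup G)
    (D' : Subgroup ↥H)
    (ι : ↥(Subgroup.normalizer (D' : Set ↥H))
        ≃* ↥(Subgroup.normalizer ((D'.map H.subtype : Subgroup G) : Set G)))
    (hι : ∀ m, ((ι m : ↥(Subgroup.normalizer ((D'.map H.subtype : Subgroup G) : Set G))) : G)
        = ((m : H) : G))
    (b : Set (IrrCharacter ↥(Subgroup.normalizer ((D'.map H.subtype : Subgroup G) : Set G)))) :
    IsDefectGroup p M b ((D'.map H.subtype).subgroupOf
        (Subgroup.normalizer ((D'.map H.subtype : Subgroup G) : Set G)))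
      ↔ IsDefectGroup p M (irrCongr ι '' b)
        (D'.subgroupOf (Subgroup.normalizer (D' : Set ↥H))) := by
  have hmem : ∀ h : H, (h : G) ∈ D'.map H.subtype ↔ h ∈ D' := by
    intro h
    constructor
    · rintro ⟨h', hh', e⟩
      have : h' = h := Subtype.ext e
      rw [← this]
      exact hh'
    · intro hh
      exact ⟨h, hh, rfl⟩
  constructor
  · intro h
    have h1 := isDefectGroup_irrCongr_image ι b _ h
    have e : ((D'.map H.subtype).subgroupOf
        (Subgroup.normalizer ((D'.map H.subtype : Subgroup G) : Set G))).map ι.symm.toMonoidHom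
        = D'.subgroupOf (Subgroup.normalizer (D' : Set ↥H)) := by
      ext x
      rw [Subgroup.mem_map_equiv, Subgroup.mem_subgroupOf, Subgroup.mem_subgroupOf]
      show ((ι x : ↥(Subgroup.normalizer ((D'.map H.subtype : Subgroup G) : Set G))) : G)
        ∈ D'.map H.subtype ↔ _
      rw [hι, hmem]
    rw [e] at h1
    exact h1
  · intro h
    have h1 := isDefectGroup_of_irrCongr ι b _ h
    have e : (D'.subgroupOf (Subgroup.normalizer (D' : Set ↥H))).map ι.toMonoidHom
        = (D'.map H.subtype).subgroupOf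
          (Subgroup.normalizer ((D'.map H.subtype : Subgroup G) : Set G)) := by
      ext x
      rw [Subgroup.mem_map_equiv, Subgroup.mem_subgroupOf, Subgroup.mem_subgroupOf]
      have e2 : (x : G) = (((ι.symm x : ↥(Subgroup.normalizer (D' : Set ↥H))) : H) : G) := by
        rw [← hι, MulEquiv.apply_symm_apply]
      rw [e2, hmem]
    rw [e] at h1
    exact h1

open Classical in
/-- The block of the normalizer below a block `c` of `H` with defect group `D'`. -/
theorem exists_normalizer_block {p : ℕ} [hp : Fact p.Prime] (hM : IsPModular p M)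
    (H : Subgroup G) (D' : Subgroup ↥H) (hD' : IsPGroup p D')
    (ι : ↥(Subgroup.normalizer (D' : Set ↥H))
        ≃* ↥(Subgroup.normalizer ((D'.map H.subtype : Subgroup G) : Set G)))
    (hι : ∀ m, ((ι m : ↥(Subgroup.normalizer ((D'.map H.subtype : Subgroup G) : Set G))) : G)
        = ((m : H) : G))
    (c : Set (IrrCharacter H)) (hc : IsPBlock M c) (hcD : IsDefectGroup p M c D')
    (B : Set (IrrCharacter G)) (hcB : IsInducedBlock M H c B) :
    ∃ b : Set (IrrCharacter ↥(Subgroup.normalizer ((D'.map H.subtype : Subgroup G) : Set G))),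
      IsPBlock M b ∧
      IsDefectGroup p M b ((D'.map H.subtype).subgroupOf
        (Subgroup.normalizer ((D'.map H.subtype : Subgroup G) : Set G))) ∧
      IsInducedBlock M (Subgroup.normalizer (D' : Set ↥H)) (irrCongr ι '' b) c ∧
      IsInducedBlock M (Subgroup.normalizer ((D'.map H.subtype : Subgroup G) : Set G)) b B := by
  haveI hMp := isPrime_of_isPModular hM
  obtain ⟨b', ⟨hb', hb'D, hb'c⟩, -⟩ := (Cfsg.Agent.S0920.result p M hM D' hD').2 c hc hcD
  have himg : irrCongr ι '' (irrCongr ι.symm '' b') = b' := by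
    rw [Set.image_image]
    have h : ∀ θ ∈ b', irrCongr ι (irrCongr ι.symm θ) = id θ :=
      fun θ _ => irrCongr_symm_irrCongr ι.symm θ
    rw [Set.image_congr h, Set.image_id]
  have hb : IsPBlock M (irrCongr ι.symm '' b') := isPBlock_image_irrCongr ι.symm b' hb'
  have h1 : IsInducedBlock M (Subgroup.normalizer (D' : Set ↥H))
      (irrCongr ι '' (irrCongr ι.symm '' b')) c := by
    rw [himg]
    exact hb'c
  refine ⟨irrCongr ι.symm '' b', hb, ?_, h1, ?_⟩
  · rw [isDefectGroup_normalizer_iff H D' ι hι, himg]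
    exact hb'D
  · exact isInducedBlock_trans _ H _ ι hι _ hb c B h1 hcB

open Classical in
/-- A block of `H ⊇ N_G(D)` with defect group `D` induces a block with defect group `D`. -/
theorem isDefectGroup_of_induced_of_normalizer_le {p : ℕ} [hp : Fact p.Prime]
    (hM : IsPModular p M) (H : Subgroup G) (D' : Subgroup ↥H) (hD' : IsPGroup p D')
    (hN : Subgroup.normalizer ((D'.map H.subtype : Subgroup G) : Set G) ≤ H)
    (c : Set (IrrCharacter H)) (hc : IsPBlock M c) (hcD : IsDefectGroup p M c D')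
    (B : Set (IrrCharacter G)) (hcB : IsInducedBlock M H c B) :
    IsDefectGroup p M B (D'.map H.subtype) := by
  haveI hMp := isPrime_of_isPModular hM
  obtain ⟨ι, hι⟩ := exists_normalizer_equiv H D' hN
  obtain ⟨b, hb, hbD, -, hbB⟩ := exists_normalizer_block hM H D' hD' ι hι c hc hcD B hcB
  obtain ⟨B₀, hB₀, hB₀D, hB₀ind⟩ :=
    (Cfsg.Agent.S0920.result p M hM (D'.map H.subtype) (hD'.map H.subtype)).1 b hb hbD
  have e : B₀ = B := isInducedBlock_unique _ b B₀ B hB₀ind hbB
  rw [← e]
  exact hB₀D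

open Classical in
/-- Block induction from `H ⊇ N_G(D)` is injective on blocks with defect group `D`. -/
theorem eq_of_induced_of_normalizer_le {p : ℕ} [hp : Fact p.Prime]
    (hM : IsPModular p M) (H : Subgroup G) (D' : Subgroup ↥H) (hD' : IsPGroup p D')
    (hN : Subgroup.normalizer ((D'.map H.subtype : Subgroup G) : Set G) ≤ H)
    (c₁ c₂ : Set (IrrCharacter H)) (hc₁ : IsPBlock M c₁) (hc₂ : IsPBlock M c₂)
    (hcD₁ : IsDefectGroup p M c₁ D') (hcD₂ : IsDefectGroup p M c₂ D')
    (B : Set (IrrCharacter G)) (hcB₁ : IsInducedBlock M H c₁ B)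
    (hcB₂ : IsInducedBlock M H c₂ B) : c₁ = c₂ := by
  haveI hMp := isPrime_of_isPModular hM
  obtain ⟨ι, hι⟩ := exists_normalizer_equiv H D' hN
  obtain ⟨b₁, hb₁, hbD₁, hbc₁, hbB₁⟩ :=
    exists_normalizer_block hM H D' hD' ι hι c₁ hc₁ hcD₁ B hcB₁
  obtain ⟨b₂, hb₂, hbD₂, hbc₂, hbB₂⟩ :=
    exists_normalizer_block hM H D' hD' ι hι c₂ hc₂ hcD₂ B hcB₂
  have hBD := isDefectGroup_of_induced_of_normalizer_le hM H D' hD' hN c₁ hc₁ hcD₁ B hcB₁
  obtain ⟨b₀, -, huniq⟩ :=
    (Cfsg.Agent.S0920.result p M hM (D'.map H.subtype) (hD'.map H.subtype)).2 B hcB₁.2.1 hBD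
  have e₁ : b₁ = b₀ := huniq b₁ ⟨hb₁, hbD₁, hbB₁⟩
  have e₂ : b₂ = b₀ := huniq b₂ ⟨hb₂, hbD₂, hbB₂⟩
  rw [e₁] at hbc₁
  rw [e₂] at hbc₂
  exact isInducedBlock_unique _ _ c₁ c₂ hbc₁ hbc₂

open Classical in
/-- Block induction from `H ⊇ N_G(D)` reaches every block with defect group `D`. -/
theorem exists_of_normalizer_le {p : ℕ} [hp : Fact p.Prime]
    (hM : IsPModular p M) (H : Subgroup G) (D' : Subgroup ↥H) (hD' : IsPGroup p D')
    (hN : Subgroup.normalizer ((D'.map H.subtype : Subgroup G) : Set G) ≤ H)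
    (hdef : ∀ c : Set (IrrCharacter H), IsPBlock M c → InducedBlockDefined M H c)
    (B : Set (IrrCharacter G)) (hB : IsPBlock M B)
    (hBD : IsDefectGroup p M B (D'.map H.subtype)) :
    ∃ c : Set (IrrCharacter H), IsPBlock M c ∧ IsDefectGroup p M c D' ∧
      IsInducedBlock M H c B := by
  haveI hMp := isPrime_of_isPModular hM
  obtain ⟨ι, hι⟩ := exists_normalizer_equiv H D' hN
  obtain ⟨b, ⟨hb, hbD, hbB⟩, -⟩ :=
    (Cfsg.Agent.S0920.result p M hM (D'.map H.subtype) (hD'.map H.subtype)).2 B hB hBD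
  have hb' : IsPBlock M (irrCongr ι '' b) := isPBlock_image_irrCongr ι b hb
  have hb'D := (isDefectGroup_normalizer_iff (M := M) (p := p) H D' ι hι b).mp hbD
  obtain ⟨c, hc, hcD, hb'c⟩ := (Cfsg.Agent.S0920.result p M hM D' hD').1 _ hb' hb'D
  obtain ⟨B₀, hcB₀⟩ := hdef c hc
  have h2 := isInducedBlock_trans _ H _ ι hι b hb c B₀ hb'c hcB₀
  have e : B₀ = B := isInducedBlock_unique _ b B₀ B h2 hbB
  rw [e] at hcB₀
  exact ⟨c, hc, hcD, hcB₀⟩

end Cfsg.Agent.Lib.helper3.HK
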