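import Mathlib
import Cfsg.Prelude.Def_Characters
import Cfsg.Prelude.Def_Blocks
import Cfsg.Prelude.Def_BlockLocal
import Cfsg.Agent.Lib.helper3.HK3
import Cfsg.Agent.Lib.helper3.GrAlg11

/-!
# Knörr's theorem for a block of a subgroup `H` covering a block of `H ∩ N`
-/

set_option autoImplicit false
set_option linter.style.haveILetI false
set_option linter.unusedSectionVars false

namespace Cfsg.Agent.Lib.helper3.HK

open Cfsg Cfsg.Agent.Lib.helper3.LocalM Cfsg.Agent.Lib.helper3.Block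
open Cfsg.Agent.Lib.helper3.CharBasic Cfsg.Agent.Lib.helper3.Irr Cfsg.Agent.Lib.helper3.Central
open Cfsg.Agent.Lib.helper3.IndFun Cfsg.Agent.Lib.helper3.GrAlg
open scoped ComplexConjugate

variable {G : Type*} [Group G] [Fintype G] {M : Ideal AlgInt}
variable (N : Subgroup G) [hN : N.Normal] [Fintype N] (H : Subgroup G) [Fintype H]
  [Fintype ↥(H ⊓ N)]

theorem classInner_infEquiv [Fintype (N.subgroupOf H)] (ψ : H → ℂ)
    (ξ : IrrCharacter ↥(H ⊓ N)) :
    classInner (fun m : N.subgroupOf H => ψ m)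
        (irrCongr (infEquiv N H) ξ : N.subgroupOf H → ℂ)
      = classInner (fun l : ↥(H ⊓ N) => ψ (Subgroup.inclusion inf_le_left l))
        (ξ : ↥(H ⊓ N) → ℂ) := by
  rw [classInner_apply, classInner_apply, Nat.card_congr (infEquiv N H).toEquiv]
  congr 1
  apply Fintype.sum_equiv (infEquiv N H).toEquiv
  intro m
  rfl

/-- **Knörr's theorem** for a block `c` of `H` covering the block `e₁` of `H ∩ N`. -/
theorem exists_defectGroup_inf {p : ℕ} [hp : Fact p.Prime] (hM : IsPModular p M)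
    (c : Set (IrrCharacter H)) (hc : IsPBlock M c)
    (e₁ : Set (IrrCharacter ↥(H ⊓ N))) (he₁ : IsPBlock M e₁)
    (hcov : ∃ ψ ∈ c, ∃ ξ ∈ e₁, classInner
      (fun l : ↥(H ⊓ N) => (ψ : H → ℂ) (Subgroup.inclusion inf_le_left l))
      (ξ : ↥(H ⊓ N) → ℂ) ≠ 0) :
    ∃ P₁ : Subgroup ↥H, IsDefectGroup p M c P₁ ∧
      IsDefectGroup p M e₁ ((P₁.map H.subtype ⊓ N).subgroupOf (H ⊓ N)) := by
  classical
  letI : Fintype (N.subgroupOf H) := Fintype.ofFinite _
  have he'' : IsPBlock M (irrCongr (infEquiv N H) '' e₁) :=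
    isPBlock_image_irrCongr (infEquiv N H) e₁ he₁
  have hcov'' : ∃ ψ' ∈ c, ∃ ξ'' ∈ irrCongr (infEquiv N H) '' e₁,
      classInner (fun m : N.subgroupOf H => (ψ' : H → ℂ) m)
        (ξ'' : N.subgroupOf H → ℂ) ≠ 0 := by
    obtain ⟨ψ, hψ, ξ, hξ, hne⟩ := hcov
    refine ⟨ψ, hψ, irrCongr (infEquiv N H) ξ, ⟨ξ, hξ, rfl⟩, ?_⟩
    rw [classInner_infEquiv]
    exact hne
  obtain ⟨Q₁, P₁, hQ₁, hP₁, heq⟩ :=
    exists_defectGroup_inf_eq (N.subgroupOf H) hM c hc _ he'' hcov''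
  refine ⟨P₁, hP₁, ?_⟩
  have h1 := isDefectGroup_of_irrCongr (infEquiv N H) e₁ Q₁ hQ₁
  have e : Q₁.map (infEquiv N H).toMonoidHom
      = (P₁.map H.subtype ⊓ N).subgroupOf (H ⊓ N) := by
    ext x
    rw [Subgroup.mem_map_equiv, Subgroup.mem_subgroupOf]
    have hx1 : ((infEquiv N H).symm x) ∈ Q₁
        ↔ (((infEquiv N H).symm x : N.subgroupOf H) : H) ∈ Q₁.map (N.subgroupOf H).subtype := by
      constructor
      · intro h
        exact ⟨_, h, rfl⟩
      · rintro ⟨y, hy, e⟩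
        have : y = (infEquiv N H).symm x := Subtype.ext e
        rw [← this]
        exact hy
    rw [hx1, heq]
    have hcoe : ((((infEquiv N H).symm x : N.subgroupOf H) : H) : G) = (x : G) := rfl
    constructor
    · rintro ⟨h2, -⟩
      refine ⟨⟨_, h2, hcoe⟩, x.2.2⟩
    · rintro ⟨⟨y, hy, e⟩, -⟩
      have : y = (((infEquiv N H).symm x : N.subgroupOf H) : H) := Subtype.ext (e.trans hcoe.symm)
      refine ⟨?_, ((infEquiv N H).symm x).2⟩
      rw [← this]
      exact hy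
  rw [e] at h1
  exact h1

end Cfsg.Agent.Lib.helper3.HK
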