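import Mathlib
import Cfsg.Prelude.Def_Characters
import Cfsg.Prelude.Def_Blocks
import Cfsg.Prelude.Def_BlockLocal
import Cfsg.Agent.Lib.helper3.HK4
import Cfsg.Agent.Lib.helper3.HK5
import Cfsg.Agent.Lib.helper3.QuotDefect3
import Cfsg.Agent.Lib.helper3.ExtFirstMain2

/-!
# Harris–Knörr: injectivity
-/

set_option autoImplicit false
set_option linter.style.haveILetI false
set_option linter.unusedSectionVars false

namespace Cfsg.Agent.Lib.helper3.HK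

open Cfsg Cfsg.Agent.Lib.helper3.LocalM Cfsg.Agent.Lib.helper3.Block
open Cfsg.Agent.Lib.helper3.CharBasic Cfsg.Agent.Lib.helper3.Irr Cfsg.Agent.Lib.helper3.Central
open Cfsg.Agent.Lib.helper3.IndFun Cfsg.Agent.Lib.helper3.GrAlg
open scoped ComplexConjugate

variable {G : Type*} [Group G] [Fintype G] {M : Ideal AlgInt}
variable (N : Subgroup G) [hN : N.Normal] [Fintype N] (H : Subgroup G) [Fintype H]
  [Fintype ↥(H ⊓ N)]

/-- The normalizer of `D` normalizes `D ⊓ N`. -/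
theorem normalizer_le_of_inf_eq (D Q : Subgroup G) (h : D ⊓ N = Q) :
    Subgroup.normalizer (D : Set G) ≤ Subgroup.normalizer (Q : Set G) := by
  intro g hg
  rw [Subgroup.mem_normalizer_iff] at hg ⊢
  intro y
  rw [← h]
  constructor
  · rintro ⟨hy1, hy2⟩
    exact ⟨(hg y).mp hy1, hN.conj_mem y hy2 g⟩
  · rintro ⟨hy1, hy2⟩
    refine ⟨(hg y).mpr hy1, ?_⟩
    have := hN.conj_mem _ hy2 g⁻¹
    have e : g⁻¹ * (g * y * g⁻¹) * g⁻¹⁻¹ = y := by group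
    rwa [e] at this

/-- A block of `H` covering the block `e` of `H ∩ N` with the normal defect group `Q` has a defect
group meeting `N` in `Q`. -/
theorem exists_defectGroup_inf_eq_of_covers {p : ℕ} [hp : Fact p.Prime] (hM : IsPModular p M)
    (Q : Subgroup G) (hQN : Q ≤ N) (hQH : Q ≤ H) (hHQ : H ≤ Subgroup.normalizer (Q : Set G))
    (e : Set (IrrCharacter ↥(H ⊓ N))) (he : IsPBlock M e)
    (heQ : IsDefectGroup p M e (Q.subgroupOf (H ⊓ N)))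
    (c : Set (IrrCharacter H)) (hc : IsPBlock M c)
    (hcov : ∃ ψ ∈ c, ∃ ξ ∈ e, classInner
      (fun l : ↥(H ⊓ N) => (ψ : H → ℂ) (Subgroup.inclusion inf_le_left l))
      (ξ : ↥(H ⊓ N) → ℂ) ≠ 0) :
    ∃ P₁ : Subgroup ↥H, IsDefectGroup p M c P₁ ∧ P₁.map H.subtype ⊓ N = Q := by
  obtain ⟨P₁, hP₁, hdef⟩ := exists_defectGroup_inf N H hM c hc e he hcov
  refine ⟨P₁, hP₁, ?_⟩
  obtain ⟨x, hx⟩ := defectGroup_conj_eq hM he hdef heQ
  have hQx : (Q.subgroupOf (H ⊓ N)).map (MulAut.conj x).toMonoidHom = Q.subgroupOf (H ⊓ N) := by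
    have hxn := hHQ x.2.1
    rw [Subgroup.mem_normalizer_iff] at hxn
    ext y
    rw [Subgroup.mem_map_equiv, Subgroup.mem_subgroupOf, Subgroup.mem_subgroupOf]
    have e1 : (((MulAut.conj x).symm y : ↥(H ⊓ N)) : G) = (x : G)⁻¹ * (y : G) * (x : G) := by
      rw [MulAut.conj_symm_apply]
      simp
    rw [e1, hxn ((x : G)⁻¹ * (y : G) * (x : G))]
    have e2 : (x : G) * ((x : G)⁻¹ * (y : G) * (x : G)) * (x : G)⁻¹ = (y : G) := by group
    rw [e2]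
  rw [hQx] at hx
  have hDH : P₁.map H.subtype ≤ H := by
    rintro _ ⟨y, -, rfl⟩
    exact y.2
  ext g
  constructor
  · rintro ⟨hg1, hg2⟩
    have hgL : g ∈ H ⊓ N := ⟨hDH hg1, hg2⟩
    have h1 : (⟨g, hgL⟩ : ↥(H ⊓ N)) ∈ (P₁.map H.subtype ⊓ N).subgroupOf (H ⊓ N) :=
      Subgroup.mem_subgroupOf.mpr ⟨hg1, hg2⟩
    rw [← hx] at h1
    exact Subgroup.mem_subgroupOf.mp h1
  · intro hg
    have hgL : g ∈ H ⊓ N := ⟨hQH hg, hQN hg⟩
    have h1 : (⟨g, hgL⟩ : ↥(H ⊓ N)) ∈ Q.subgroupOf (H ⊓ N) := Subgroup.mem_subgroupOf.mpr hg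
    rw [hx] at h1
    exact Subgroup.mem_subgroupOf.mp h1

/-- **Harris–Knörr, injectivity.** -/
theorem eq_of_covers_of_induced {p : ℕ} [hp : Fact p.Prime] (hM : IsPModular p M)
    (Q : Subgroup G) (hQN : Q ≤ N) (hQH : Q ≤ H) (hHQ : H ≤ Subgroup.normalizer (Q : Set G))
    (hQH' : Subgroup.normalizer (Q : Set G) ≤ H)
    (e : Set (IrrCharacter ↥(H ⊓ N))) (he : IsPBlock M e)
    (heQ : IsDefectGroup p M e (Q.subgroupOf (H ⊓ N)))
    (c₁ c₂ : Set (IrrCharacter H)) (hc₁ : IsPBlock M c₁) (hc₂ : IsPBlock M c₂)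
    (hcov₁ : ∃ ψ ∈ c₁, ∃ ξ ∈ e, classInner
      (fun l : ↥(H ⊓ N) => (ψ : H → ℂ) (Subgroup.inclusion inf_le_left l))
      (ξ : ↥(H ⊓ N) → ℂ) ≠ 0)
    (hcov₂ : ∃ ψ ∈ c₂, ∃ ξ ∈ e, classInner
      (fun l : ↥(H ⊓ N) => (ψ : H → ℂ) (Subgroup.inclusion inf_le_left l))
      (ξ : ↥(H ⊓ N) → ℂ) ≠ 0)
    (B : Set (IrrCharacter G)) (hcB₁ : IsInducedBlock M H c₁ B)
    (hcB₂ : IsInducedBlock M H c₂ B) : c₁ = c₂ := by
  classical
  haveI hMp := isPrime_of_isPModular hM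
  have hB : IsPBlock M B := hcB₁.2.1
  obtain ⟨P₁, hP₁, hinf₁⟩ :=
    exists_defectGroup_inf_eq_of_covers N H hM Q hQN hQH hHQ e he heQ c₁ hc₁ hcov₁
  obtain ⟨P₂, hP₂, hinf₂⟩ :=
    exists_defectGroup_inf_eq_of_covers N H hM Q hQN hQH hHQ e he heQ c₂ hc₂ hcov₂
  have hN₁ : Subgroup.normalizer ((P₁.map H.subtype : Subgroup G) : Set G) ≤ H :=
    (normalizer_le_of_inf_eq N _ Q hinf₁).trans hQH'
  have hN₂ : Subgroup.normalizer ((P₂.map H.subtype : Subgroup G) : Set G) ≤ H :=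
    (normalizer_le_of_inf_eq N _ Q hinf₂).trans hQH'
  have hP₁p : IsPGroup p P₁ := isPGroup_of_isDefectGroup hP₁
  have hP₂p : IsPGroup p P₂ := isPGroup_of_isDefectGroup hP₂
  have hBD₁ := isDefectGroup_of_induced_of_normalizer_le hM H P₁ hP₁p hN₁ c₁ hc₁ hP₁ B hcB₁
  have hBD₂ := isDefectGroup_of_induced_of_normalizer_le hM H P₂ hP₂p hN₂ c₂ hc₂ hP₂ B hcB₂
  obtain ⟨g, hg⟩ := defectGroup_conj_eq hM hB hBD₂ hBD₁
  have hgQ : g ∈ Subgroup.normalizer (Q : Set G) := by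
    rw [Subgroup.mem_normalizer_iff]
    intro y
    constructor
    · intro hy
      rw [← hinf₁] at hy
      rw [← hinf₂, ← hg]
      exact ⟨⟨y, hy.1, rfl⟩, hN.conj_mem y hy.2 g⟩
    · intro hy
      rw [← hinf₂, ← hg] at hy
      obtain ⟨⟨z, hz, hzy⟩, hy2⟩ := hy
      have hzy' : g * z * g⁻¹ = g * y * g⁻¹ := hzy
      have ezy : z = y := by
        have := congrArg (fun t => g⁻¹ * t * g) hzy'
        have e1 : g⁻¹ * (g * z * g⁻¹) * g = z := by group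
        have e2 : g⁻¹ * (g * y * g⁻¹) * g = y := by group
        calc z = g⁻¹ * (g * z * g⁻¹) * g := e1.symm
          _ = g⁻¹ * (g * y * g⁻¹) * g := this
          _ = y := e2
      rw [← hinf₁]
      refine ⟨by rw [← ezy]; exact hz, ?_⟩
      have := hN.conj_mem _ hy2 g⁻¹
      have e : g⁻¹ * (g * y * g⁻¹) * g⁻¹⁻¹ = y := by group
      rwa [e] at this
  have hgH : g ∈ H := hQH' hgQ
  have hP₁' := isDefectGroup_conj hP₁ (⟨g, hgH⟩ : H)
  have hmap : (P₁.map (MulAut.conj (⟨g, hgH⟩ : H)).toMonoidHom).map H.subtype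
      = P₂.map H.subtype := by
    rw [← hg]
    ext y
    constructor
    · rintro ⟨_, ⟨z, hz, rfl⟩, rfl⟩
      exact ⟨_, ⟨z, hz, rfl⟩, rfl⟩
    · rintro ⟨_, ⟨z, hz, rfl⟩, rfl⟩
      exact ⟨_, ⟨z, hz, rfl⟩, rfl⟩
  have hPeq : P₁.map (MulAut.conj (⟨g, hgH⟩ : H)).toMonoidHom = P₂ :=
    Subgroup.map_injective H.subtype_injective hmap
  rw [hPeq] at hP₁'
  exact eq_of_induced_of_normalizer_le hM H P₂ hP₂p hN₂ c₁ c₂ hc₁ hc₂ hP₁' hP₂ B hcB₁ hcB₂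

end Cfsg.Agent.Lib.helper3.HK
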