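import Mathlib
import Cfsg.Prelude.Def_Characters
import Cfsg.Prelude.Def_Blocks
import Cfsg.Prelude.Def_BlockLocal
import Cfsg.Agent.Lib.helper3.GrAlg11
import Cfsg.Agent.Lib.helper3.ExtFirstMain1
import Cfsg.Agent.Lib.helper3.SP37
import Cfsg.Agent.S0919
import Cfsg.Agent.S0920

/-!
# Brauer's first main theorem inside a normal subgroup `N`, for blocks of `N_N(Q)` viewed on
`N_G(Q) ⊓ N`
-/

set_option autoImplicit false
set_option linter.style.haveILetI false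
set_option linter.unusedSectionVars false

namespace Cfsg.Agent.Lib.helper3.HK

open Cfsg Cfsg.Agent.Lib.helper3.LocalM Cfsg.Agent.Lib.helper3.Block
open Cfsg.Agent.Lib.helper3.CharBasic Cfsg.Agent.Lib.helper3.Irr Cfsg.Agent.Lib.helper3.Central
open Cfsg.Agent.Lib.helper3.IndFun Cfsg.Agent.Lib.helper3.GrAlg
open scoped ComplexConjugate

universe u

variable {G : Type u} [Group G] [Fintype G] {M : Ideal AlgInt}
variable (N : Subgroup G) [hN : N.Normal] [Fintype N] (H : Subgroup G) [Fintype ↥(H ⊓ N)]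
variable (Q : Subgroup G)

theorem normalizer_subgroupOf_map (hQN : Q ≤ N) (hHQ : H ≤ Subgroup.normalizer (Q : Set G))
    (hQH' : Subgroup.normalizer (Q : Set G) ≤ H) :
    (Subgroup.normalizer ((Q.subgroupOf N : Subgroup N) : Set N)).map N.subtype = H ⊓ N := by
  ext g
  constructor
  · rintro ⟨x, hx, rfl⟩
    rw [SetLike.mem_coe, Subgroup.mem_normalizer_iff] at hx
    refine ⟨hQH' ?_, x.2⟩
    rw [Subgroup.mem_normalizer_iff]
    intro y
    constructor
    · intro hy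
      have h1 := (hx ⟨y, hQN hy⟩).mp (Subgroup.mem_subgroupOf.mpr hy)
      exact Subgroup.mem_subgroupOf.mp h1
    · intro hy
      have hy' : (x : G) * y * (x : G)⁻¹ ∈ Q := hy
      have hyN : y ∈ N := by
        have := hN.conj_mem _ (hQN hy') (x : G)⁻¹
        have e : (x : G)⁻¹ * ((x : G) * y * (x : G)⁻¹) * (x : G)⁻¹⁻¹ = y := by group
        rwa [e] at this
      have h1 : x * ⟨y, hyN⟩ * x⁻¹ ∈ Q.subgroupOf N := Subgroup.mem_subgroupOf.mpr hy'
      exact Subgroup.mem_subgroupOf.mp ((hx ⟨y, hyN⟩).mpr h1)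
  · rintro ⟨hgH, hgN⟩
    refine ⟨⟨g, hgN⟩, ?_, rfl⟩
    have hg := hHQ hgH
    rw [Subgroup.mem_normalizer_iff] at hg
    rw [SetLike.mem_coe, Subgroup.mem_normalizer_iff]
    intro y
    rw [Subgroup.mem_subgroupOf, Subgroup.mem_subgroupOf]
    exact hg (y : G)

open Classical in
theorem exists_inf_equiv (hQN : Q ≤ N) (hHQ : H ≤ Subgroup.normalizer (Q : Set G))
    (hQH' : Subgroup.normalizer (Q : Set G) ≤ H) :
    ∃ ι : ↥(Subgroup.normalizer ((Q.subgroupOf N : Subgroup N) : Set N)) ≃* ↥(H ⊓ N),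
      ∀ m, ((ι m : ↥(H ⊓ N)) : G) = ((m : N) : G) := by
  refine ⟨((Subgroup.normalizer ((Q.subgroupOf N : Subgroup N) : Set N)).equivMapOfInjective
    N.subtype N.subtype_injective).trans
    (MulEquiv.subgroupCongr (normalizer_subgroupOf_map N H Q hQN hHQ hQH')), ?_⟩
  intro m
  rfl

open Classical in
theorem isDefectGroup_inf_iff {p : ℕ} [hp : Fact p.Prime]
    (ι : ↥(Subgroup.normalizer ((Q.subgroupOf N : Subgroup N) : Set N)) ≃* ↥(H ⊓ N))
    (hι : ∀ m, ((ι m : ↥(H ⊓ N)) : G) = ((m : N) : G))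
    (e₁ : Set (IrrCharacter ↥(H ⊓ N))) :
    IsDefectGroup p M e₁ (Q.subgroupOf (H ⊓ N))
      ↔ IsDefectGroup p M (irrCongr ι '' e₁) ((Q.subgroupOf N).subgroupOf
        (Subgroup.normalizer ((Q.subgroupOf N : Subgroup N) : Set N))) := by
  constructor
  · intro h
    have h1 := isDefectGroup_irrCongr_image ι e₁ _ h
    have e : (Q.subgroupOf (H ⊓ N)).map ι.symm.toMonoidHom
        = (Q.subgroupOf N).subgroupOf
          (Subgroup.normalizer ((Q.subgroupOf N : Subgroup N) : Set N)) := by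
      ext x
      rw [Subgroup.mem_map_equiv, Subgroup.mem_subgroupOf, Subgroup.mem_subgroupOf,
        Subgroup.mem_subgroupOf]
      show ((ι x : ↥(H ⊓ N)) : G) ∈ Q ↔ _
      rw [hι]
    rw [e] at h1
    exact h1
  · intro h
    have h1 := isDefectGroup_of_irrCongr ι e₁ _ h
    have e : ((Q.subgroupOf N).subgroupOf
        (Subgroup.normalizer ((Q.subgroupOf N : Subgroup N) : Set N))).map ι.toMonoidHom
        = Q.subgroupOf (H ⊓ N) := by
      ext x
      rw [Subgroup.mem_map_equiv, Subgroup.mem_subgroupOf, Subgroup.mem_subgroupOf,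
        Subgroup.mem_subgroupOf]
      have e2 : (x : G) = (((ι.symm x :
          ↥(Subgroup.normalizer ((Q.subgroupOf N : Subgroup N) : Set N))) : N) : G) := by
        rw [← hι, MulEquiv.apply_symm_apply]
      rw [e2]
    rw [e] at h1
    exact h1

open Classical in
/-- Every block of `N_G(Q) ⊓ N` induces a block of `N`. -/
theorem exists_inducedBlockIn {p : ℕ} [hp : Fact p.Prime] (hM : IsPModular p M)
    (hQ : IsPGroup p Q) (hQN : Q ≤ N) (hHQ : H ≤ Subgroup.normalizer (Q : Set G))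
    (hQH' : Subgroup.normalizer (Q : Set G) ≤ H)
    (e₁ : Set (IrrCharacter ↥(H ⊓ N))) (he₁ : IsPBlock M e₁) :
    ∃ d₁ : Set (IrrCharacter N), IsInducedBlockIn M N (H ⊓ N) e₁ d₁ := by
  obtain ⟨ι, hι⟩ := exists_inf_equiv N H Q hQN hHQ hQH'
  have hb : IsPBlock M (irrCongr ι '' e₁) := isPBlock_image_irrCongr ι e₁ he₁
  obtain ⟨d₁, h⟩ := Cfsg.Agent.S0919.result p M hM (Q.subgroupOf N)
    (Subgroup.normalizer ((Q.subgroupOf N : Subgroup N) : Set N)) hQ.comap_subtype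
    Subgroup.le_normalizer (Subgroup.centralizer_le_normalizer _) le_rfl _ hb
  exact ⟨d₁, (isInducedBlockIn_iff N (H ⊓ N) _ ι hι e₁ he₁ d₁).mpr h⟩

open Classical in
/-- The block induced inside `N` by a block of `N_G(Q) ⊓ N` with defect group `Q` has defect
group `Q`. -/
theorem isDefectGroup_of_inducedBlockIn {p : ℕ} [hp : Fact p.Prime] (hM : IsPModular p M)
    (hQ : IsPGroup p Q) (hQN : Q ≤ N) (hHQ : H ≤ Subgroup.normalizer (Q : Set G))
    (hQH' : Subgroup.normalizer (Q : Set G) ≤ H)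
    (e₁ : Set (IrrCharacter ↥(H ⊓ N))) (he₁ : IsPBlock M e₁)
    (he₁Q : IsDefectGroup p M e₁ (Q.subgroupOf (H ⊓ N)))
    (d₁ : Set (IrrCharacter N)) (hind : IsInducedBlockIn M N (H ⊓ N) e₁ d₁) :
    IsDefectGroup p M d₁ (Q.subgroupOf N) := by
  haveI hMp := isPrime_of_isPModular hM
  obtain ⟨ι, hι⟩ := exists_inf_equiv N H Q hQN hHQ hQH'
  have hb : IsPBlock M (irrCongr ι '' e₁) := isPBlock_image_irrCongr ι e₁ he₁
  have h1 := (isInducedBlockIn_iff N (H ⊓ N) _ ι hι e₁ he₁ d₁).mp hind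
  have h2 := (isDefectGroup_inf_iff (M := M) (p := p) N H Q ι hι e₁).mp he₁Q
  obtain ⟨d₀, hd₀, hd₀D, hd₀ind⟩ :=
    (Cfsg.Agent.S0920.result p M hM (Q.subgroupOf N) hQ.comap_subtype).1 _ hb h2
  have e : d₀ = d₁ := isInducedBlock_unique _ _ d₀ d₁ hd₀ind h1
  rw [← e]
  exact hd₀D

open Classical in
/-- Uniqueness in Brauer's first main theorem inside `N`. -/
theorem eq_of_inducedBlockIn {p : ℕ} [hp : Fact p.Prime] (hM : IsPModular p M)
    (hQ : IsPGroup p Q) (hQN : Q ≤ N) (hHQ : H ≤ Subgroup.normalizer (Q : Set G))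
    (hQH' : Subgroup.normalizer (Q : Set G) ≤ H)
    (e₁ e₂ : Set (IrrCharacter ↥(H ⊓ N))) (he₁ : IsPBlock M e₁) (he₂ : IsPBlock M e₂)
    (he₁Q : IsDefectGroup p M e₁ (Q.subgroupOf (H ⊓ N)))
    (he₂Q : IsDefectGroup p M e₂ (Q.subgroupOf (H ⊓ N)))
    (d₁ : Set (IrrCharacter N)) (hind₁ : IsInducedBlockIn M N (H ⊓ N) e₁ d₁)
    (hind₂ : IsInducedBlockIn M N (H ⊓ N) e₂ d₁) : e₁ = e₂ := by
  haveI hMp := isPrime_of_isPModular hM
  obtain ⟨ι, hι⟩ := exists_inf_equiv N H Q hQN hHQ hQH'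
  have hb₁ : IsPBlock M (irrCongr ι '' e₁) := isPBlock_image_irrCongr ι e₁ he₁
  have hb₂ : IsPBlock M (irrCongr ι '' e₂) := isPBlock_image_irrCongr ι e₂ he₂
  have h1 := (isInducedBlockIn_iff N (H ⊓ N) _ ι hι e₁ he₁ d₁).mp hind₁
  have h2 := (isInducedBlockIn_iff N (H ⊓ N) _ ι hι e₂ he₂ d₁).mp hind₂
  have hD₁ := (isDefectGroup_inf_iff (M := M) (p := p) N H Q ι hι e₁).mp he₁Q
  have hD₂ := (isDefectGroup_inf_iff (M := M) (p := p) N H Q ι hι e₂).mp he₂Q
  have hd₁D := isDefectGroup_of_inducedBlockIn N H Q hM hQ hQN hHQ hQH' e₁ he₁ he₁Q d₁ hind₁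
  obtain ⟨b₀, -, huniq⟩ :=
    (Cfsg.Agent.S0920.result p M hM (Q.subgroupOf N) hQ.comap_subtype).2 d₁ hind₁.2.1 hd₁D
  have e₁' : irrCongr ι '' e₁ = b₀ := huniq _ ⟨hb₁, hD₁, h1⟩
  have e₂' : irrCongr ι '' e₂ = b₀ := huniq _ ⟨hb₂, hD₂, h2⟩
  exact (irrCongr ι).injective.image_injective (e₁'.trans e₂'.symm)

end Cfsg.Agent.Lib.helper3.HK
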