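import Mathlib
import Cfsg.Prelude.Def_Characters
import Cfsg.Prelude.Def_Blocks
import Cfsg.Prelude.Def_BlockLocal
import Cfsg.Agent.Lib.helper3.HK6
import Cfsg.Agent.Lib.helper3.HK7
import Cfsg.Agent.Lib.helper3.GrAlg10
import Cfsg.Agent.S0964

/-!
# Conjugation by elements of `H` on blocks of `H ⊓ N`, for the Harris–Knörr correspondence
-/

set_option autoImplicit false
set_option linter.style.haveILetI false
set_option linter.unusedSectionVars false

namespace Cfsg.Agent.Lib.helper3.HK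

open Cfsg Cfsg.Agent.Lib.helper3.LocalM Cfsg.Agent.Lib.helper3.Block
open Cfsg.Agent.Lib.helper3.CharBasic Cfsg.Agent.Lib.helper3.Irr Cfsg.Agent.Lib.helper3.Central
open Cfsg.Agent.Lib.helper3.IndFun Cfsg.Agent.Lib.helper3.GrAlg
open scoped ComplexConjugate

universe u

variable {G : Type u} [Group G] [Fintype G] {M : Ideal AlgInt}
variable (N : Subgroup G) [hN : N.Normal] [Fintype N] (H : Subgroup G)

/-- Conjugation by an element of `H`, on `H ⊓ N`. -/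
noncomputable def conjInf (h : H) : ↥(H ⊓ N) ≃* ↥(H ⊓ N) where
  toFun l := ⟨(h : G) * (l : G) * (h : G)⁻¹,
    ⟨H.mul_mem (H.mul_mem h.2 l.2.1) (H.inv_mem h.2), hN.conj_mem _ l.2.2 _⟩⟩
  invFun l := ⟨(h : G)⁻¹ * (l : G) * (h : G),
    ⟨H.mul_mem (H.mul_mem (H.inv_mem h.2) l.2.1) h.2, by
      have := hN.conj_mem _ l.2.2 (h : G)⁻¹
      rwa [inv_inv] at this⟩⟩
  left_inv l := Subtype.ext (by simp [mul_assoc])
  right_inv l := Subtype.ext (by simp [mul_assoc])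
  map_mul' a b := Subtype.ext (by simp [mul_assoc])

theorem conjInf_coe (h : H) (l : ↥(H ⊓ N)) :
    ((conjInf N H h l : ↥(H ⊓ N)) : G) = (h : G) * (l : G) * (h : G)⁻¹ := rfl

theorem conjInf_symm_coe (h : H) (l : ↥(H ⊓ N)) :
    (((conjInf N H h).symm l : ↥(H ⊓ N)) : G) = (h : G)⁻¹ * (l : G) * (h : G) := rfl

/-- Conjugation by an element of `N` fixes the irreducible characters of `N`. -/
theorem conjIrr_of_mem (n : G) (hn : n ∈ N) (θ : IrrCharacter N) : conjIrr N n θ = θ := by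
  apply Subtype.ext
  rw [coe_conjIrr]
  funext m
  have hcf := isClassFunction_of_isCharacter (isCharacter_of_isIrrCharacter θ.2)
  have := hcf m ⟨n, hn⟩
  rw [← this]
  rfl

theorem inducedCentralCharIn_conjInf [Fintype ↥(H ⊓ N)] (h : H) (ξ : IrrCharacter ↥(H ⊓ N))
    (n : N) :
    inducedCentralCharIn N (H ⊓ N) (irrCongr (conjInf N H h) ξ : ↥(H ⊓ N) → ℂ) (n : G)
      = inducedCentralCharIn N (H ⊓ N) (ξ : ↥(H ⊓ N) → ℂ)
        ((h : G) * (n : G) * (h : G)⁻¹) := by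
  classical
  rw [inducedCentralCharIn_eq_sum_sub, inducedCentralCharIn_eq_sum_sub]
  apply Fintype.sum_equiv (conjInf N H h).toEquiv
  intro k
  show (if (∃ x : N, (x : G) * (k : G) * (x : G)⁻¹ = (n : G))
      then (irrCongr (conjInf N H h) ξ : ↥(H ⊓ N) → ℂ) k
        / (irrCongr (conjInf N H h) ξ : ↥(H ⊓ N) → ℂ) 1 else 0)
    = (if (∃ x : N, (x : G) * ((conjInf N H h k : ↥(H ⊓ N)) : G) * (x : G)⁻¹
        = (h : G) * (n : G) * (h : G)⁻¹)
      then (ξ : ↥(H ⊓ N) → ℂ) (conjInf N H h k) / (ξ : ↥(H ⊓ N) → ℂ) 1 else 0)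
  rw [irrCongr_apply, irrCongr_apply, map_one]
  have hiff : (∃ x : N, (x : G) * (k : G) * (x : G)⁻¹ = (n : G)) ↔
      (∃ x : N, (x : G) * ((conjInf N H h k : ↥(H ⊓ N)) : G) * (x : G)⁻¹
        = (h : G) * (n : G) * (h : G)⁻¹) := by
    constructor
    · rintro ⟨x, hx⟩
      refine ⟨⟨(h : G) * x * (h : G)⁻¹, hN.conj_mem _ x.2 _⟩, ?_⟩
      rw [conjInf_coe, ← hx]
      simp only
      group
    · rintro ⟨x, hx⟩
      refine ⟨⟨(h : G)⁻¹ * x * (h : G), by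
        have := hN.conj_mem _ x.2 (h : G)⁻¹
        rwa [inv_inv] at this⟩, ?_⟩
      rw [conjInf_coe] at hx
      simp only
      have e : (n : G) = (h : G)⁻¹ * ((h : G) * (n : G) * (h : G)⁻¹) * (h : G) := by group
      rw [e, ← hx]
      group
  by_cases hc : ∃ x : N, (x : G) * (k : G) * (x : G)⁻¹ = (n : G)
  · rw [if_pos hc, if_pos (hiff.mp hc)]
  · rw [if_neg hc, if_neg (fun h' => hc (hiff.mpr h'))]

/-- Conjugating both blocks by an element of `H` preserves induction inside `N`. -/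
theorem isInducedBlockIn_conj [hMp : M.IsPrime] [Fintype ↥(H ⊓ N)] (h : H)
    (e : Set (IrrCharacter ↥(H ⊓ N))) (d : Set (IrrCharacter N))
    (hed : IsInducedBlockIn M N (H ⊓ N) e d) :
    IsInducedBlockIn M N (H ⊓ N) (irrCongr (conjInf N H h) '' e) (conjIrr N (h : G) '' d) := by
  obtain ⟨he, hd, hc⟩ := hed
  refine ⟨isPBlock_image_irrCongr _ e he, isPBlock_conjIrr_image N d hd _, ?_⟩
  rintro _ ⟨ξ, hξ, rfl⟩ _ ⟨θ, hθ, rfl⟩ n
  rw [inducedCentralCharIn_conjInf, coe_conjIrr, centralChar_conjFun]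
  exact hc ξ hξ θ hθ ⟨(h : G) * (n : G) * (h : G)⁻¹, hN.conj_mem n n.2 _⟩

/-- Conjugation by an element of `H ≤ N_G(Q)` preserves the defect group `Q`. -/
theorem isDefectGroup_conjInf {p : ℕ} [hp : Fact p.Prime] [Fintype ↥(H ⊓ N)] (Q : Subgroup G)
    (hHQ : H ≤ Subgroup.normalizer (Q : Set G)) (h : H)
    (e : Set (IrrCharacter ↥(H ⊓ N)))
    (heQ : IsDefectGroup p M e (Q.subgroupOf (H ⊓ N))) :
    IsDefectGroup p M (irrCongr (conjInf N H h) '' e) (Q.subgroupOf (H ⊓ N)) := by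
  have h1 := isDefectGroup_irrCongr_image (conjInf N H h) e _ heQ
  have e1 : (Q.subgroupOf (H ⊓ N)).map (conjInf N H h).symm.toMonoidHom
      = Q.subgroupOf (H ⊓ N) := by
    have hn := hHQ h.2
    rw [Subgroup.mem_normalizer_iff] at hn
    ext x
    rw [Subgroup.mem_map_equiv, Subgroup.mem_subgroupOf, Subgroup.mem_subgroupOf]
    show ((conjInf N H h x : ↥(H ⊓ N)) : G) ∈ Q ↔ _
    rw [conjInf_coe]
    exact (hn (x : G)).symm
  rw [e1] at h1
  exact h1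

/-- The multiplicity of a conjugate of `ξ` in the restriction of a character of `H` is that of
`ξ`. -/
theorem classInner_conjInf [Fintype ↥(H ⊓ N)] (h : H) (ψ : IrrCharacter H)
    (ξ : IrrCharacter ↥(H ⊓ N)) :
    classInner (fun l : ↥(H ⊓ N) => (ψ : H → ℂ) (Subgroup.inclusion inf_le_left l))
        (irrCongr (conjInf N H h) ξ : ↥(H ⊓ N) → ℂ)
      = classInner (fun l : ↥(H ⊓ N) => (ψ : H → ℂ) (Subgroup.inclusion inf_le_left l))
        (ξ : ↥(H ⊓ N) → ℂ) := by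
  rw [classInner_apply, classInner_apply]
  congr 1
  apply Fintype.sum_equiv (conjInf N H h).toEquiv
  intro l
  rw [irrCongr_apply]
  congr 1
  have hcf := isClassFunction_of_isCharacter (isCharacter_of_isIrrCharacter ψ.2)
  have := hcf (Subgroup.inclusion inf_le_left l) h
  rw [← this]
  rfl

open Classical in
/-- **Harris–Knörr, surjectivity.** -/
theorem exists_of_covers {p : ℕ} [hp : Fact p.Prime] (hM : IsPModular p M) [Fintype H]
    [Fintype ↥(H ⊓ N)]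
    (Q : Subgroup G) (hQ : IsPGroup p Q) (hQN : Q ≤ N)
    (hHQ : H ≤ Subgroup.normalizer (Q : Set G)) (hQH' : Subgroup.normalizer (Q : Set G) ≤ H)
    (d : Set (IrrCharacter N)) (hd : IsPBlock M d) (hdQ : IsDefectGroup p M d (Q.subgroupOf N))
    (e : Set (IrrCharacter ↥(H ⊓ N))) (he : IsPBlock M e)
    (heQ : IsDefectGroup p M e (Q.subgroupOf (H ⊓ N)))
    (hed : IsInducedBlockIn M N (H ⊓ N) e d)
    (hdef : ∀ c : Set (IrrCharacter H), IsPBlock M c → InducedBlockDefined M H c)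
    (B : Set (IrrCharacter G)) (hB : IsPBlock M B)
    (hcov : ∃ χ ∈ B, ∃ θ ∈ d, classInner (fun n : N => (χ : G → ℂ) n) (θ : N → ℂ) ≠ 0) :
    ∃ c : Set (IrrCharacter H), IsPBlock M c ∧
      (∃ ψ ∈ c, ∃ ξ ∈ e, classInner
        (fun l : ↥(H ⊓ N) => (ψ : H → ℂ) (Subgroup.inclusion inf_le_left l))
        (ξ : ↥(H ⊓ N) → ℂ) ≠ 0) ∧ IsInducedBlock M H c B := by
  haveI hMp := isPrime_of_isPModular hM
  have hQH : Q ≤ H := Subgroup.le_normalizer.trans hQH'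
  -- a defect group of `B` meeting `N` in `Q`
  obtain ⟨P, hBP, hPN⟩ := knorr N hM B hB d hd hcov Q hQN hdQ
  have hNPH : Subgroup.normalizer (P : Set G) ≤ H :=
    (normalizer_le_of_inf_eq N P Q hPN).trans hQH'
  have hPH : P ≤ H := Subgroup.le_normalizer.trans hNPH
  have hP'map : (P.subgroupOf H).map H.subtype = P := by
    rw [Subgroup.subgroupOf_map_subtype]
    exact inf_of_le_left hPH
  have hPp : IsPGroup p P := isPGroup_of_isDefectGroup hBP
  have hP'p : IsPGroup p (P.subgroupOf H) := hPp.comap_subtype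
  have hNP : Subgroup.normalizer (((P.subgroupOf H).map H.subtype : Subgroup G) : Set G) ≤ H := by
    rw [hP'map]
    exact hNPH
  obtain ⟨c, hc, hcP, hcB⟩ := exists_of_normalizer_le hM H (P.subgroupOf H) hP'p hNP hdef B hB
    (by rw [hP'map]; exact hBP)
  refine ⟨c, hc, ?_, hcB⟩
  -- a block `e₁` covered by `c`
  obtain ⟨ψ, hcψ⟩ := id hc
  have hψ : ψ ∈ c := by
    rw [hcψ]
    exact sameBlock_refl hMp.ne_top _
  have hψres : IsCharacter ↥(H ⊓ N)
      (fun l : ↥(H ⊓ N) => (ψ : H → ℂ) (Subgroup.inclusion inf_le_left l)) :=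
    isCharacter_comp (isCharacter_of_isIrrCharacter ψ.2) (Subgroup.inclusion inf_le_left)
  have h0 : (fun l : ↥(H ⊓ N) => (ψ : H → ℂ) (Subgroup.inclusion inf_le_left l)) ≠ 0 := by
    intro h
    apply apply_one_ne_zero ψ.2
    have := congrFun h 1
    simpa using this
  obtain ⟨ξ₁, hne₁⟩ := exists_constituent hψres h0
  obtain ⟨e₁, he₁def⟩ : ∃ e₁ : Set (IrrCharacter ↥(H ⊓ N)),
      e₁ = blockOf M (ξ₁ : ↥(H ⊓ N) → ℂ) := ⟨_, rfl⟩
  have he₁ : IsPBlock M e₁ := ⟨ξ₁, he₁def⟩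
  have hξ₁ : ξ₁ ∈ e₁ := by
    rw [he₁def]
    exact sameBlock_refl hMp.ne_top _
  have hcov₁ : ∃ ψ ∈ c, ∃ ξ ∈ e₁, classInner
      (fun l : ↥(H ⊓ N) => (ψ : H → ℂ) (Subgroup.inclusion inf_le_left l))
      (ξ : ↥(H ⊓ N) → ℂ) ≠ 0 := ⟨ψ, hψ, ξ₁, hξ₁, hne₁⟩
  -- `e₁` has defect group `Q`
  obtain ⟨P₁, hcP₁, he₁P₁⟩ := exists_defectGroup_inf N H hM c hc e₁ he₁ hcov₁
  obtain ⟨x, hx⟩ := defectGroup_conj_eq hM hc hcP₁ hcP
  have hxn := hHQ x.2
  rw [Subgroup.mem_normalizer_iff] at hxn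
  have hP₁Q : P₁.map H.subtype ⊓ N = Q := by
    ext g
    constructor
    · rintro ⟨⟨y, hy, rfl⟩, hg2⟩
      rw [← hx] at hy
      obtain ⟨z, hz, rfl⟩ := hy
      have hzP : (z : G) ∈ P := Subgroup.mem_subgroupOf.mp hz
      have e1 : H.subtype ((MulAut.conj x).toMonoidHom z) = (x : G) * (z : G) * (x : G)⁻¹ := by
        simp
      rw [e1] at hg2 ⊢
      have hzN : (z : G) ∈ N := by
        have := hN.conj_mem _ hg2 (x : G)⁻¹
        have e2 : (x : G)⁻¹ * ((x : G) * (z : G) * (x : G)⁻¹) * (x : G)⁻¹⁻¹ = (z : G) := by group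
        rwa [e2] at this
      have hzQ : (z : G) ∈ Q := by
        rw [← hPN]
        exact ⟨hzP, hzN⟩
      exact (hxn (z : G)).mp hzQ
    · intro hg
      have h1 : (x : G)⁻¹ * g * (x : G) ∈ Q := by
        rw [hxn]
        have e2 : (x : G) * ((x : G)⁻¹ * g * (x : G)) * (x : G)⁻¹ = g := by group
        rw [e2]
        exact hg
      have h2 : (x : G)⁻¹ * g * (x : G) ∈ P := by
        rw [← hPN] at h1
        exact h1.1
      have h3 : (⟨(x : G)⁻¹ * g * (x : G), hPH h2⟩ : H) ∈ P.subgroupOf H :=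
        Subgroup.mem_subgroupOf.mpr h2
      refine ⟨⟨(MulAut.conj x).toMonoidHom ⟨(x : G)⁻¹ * g * (x : G), hPH h2⟩, ?_, ?_⟩, hQN hg⟩
      · rw [← hx]
        exact Subgroup.mem_map_of_mem _ h3
      · simp only [MulEquiv.coe_toMonoidHom, MulAut.conj_apply, Subgroup.subtype_apply,
          Subgroup.coe_mul, Subgroup.coe_inv]
        group
  have he₁Q : IsDefectGroup p M e₁ (Q.subgroupOf (H ⊓ N)) := by
    rw [hP₁Q] at he₁P₁
    exact he₁P₁
  -- the block `d₁` of `N` induced by `e₁`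
  obtain ⟨d₁, hind₁⟩ := exists_inducedBlockIn N H Q hM hQ hQN hHQ hQH' e₁ he₁
  have hd₁ : IsPBlock M d₁ := hind₁.2.1
  have hBd₁ := covers_of_induced N H hM c B hcB e₁ d₁ hind₁ hcov₁
  have hd₁Q := isDefectGroup_of_inducedBlockIn N H Q hM hQ hQN hHQ hQH' e₁ he₁ he₁Q d₁ hind₁
  -- `d₁` is conjugate to `d`
  obtain ⟨χ, hχ, θ, hθ, hne⟩ := hcov
  obtain ⟨χ₁, hχ₁, θ₁, hθ₁, hne₁'⟩ := hBd₁
  obtain ⟨g, θ', hθ', hg⟩ :=
    Cfsg.Agent.S0964.result p M hM N B hB d hd χ hχ θ hθ hne χ₁ hχ₁ θ₁ hne₁'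
  have hθ₁eq : θ₁ = conjIrr N g θ' := by
    apply Subtype.ext
    rw [coe_conjIrr]
    funext n
    rw [hg n]
    rfl
  have hd₁eq : d₁ = conjIrr N g '' d :=
    isPBlock_eq_of_mem hd₁ (isPBlock_conjIrr_image N d hd g) θ₁ hθ₁ ⟨θ', hθ', hθ₁eq.symm⟩
  -- choose the conjugating element in `H`
  have hd₁eq' : d₁ = irrCongr (MulAut.conjNormal g : N ≃* N) '' d := by
    rw [hd₁eq]
    apply Set.image_congr
    intro θ _
    exact conjIrr_eq_irrCongr N g θ
  have hd₁Q' := isDefectGroup_irrCongr_image (MulAut.conjNormal g : N ≃* N) d _ hdQ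
  rw [← hd₁eq'] at hd₁Q'
  obtain ⟨m, hm⟩ := defectGroup_conj_eq hM hd₁ hd₁Q hd₁Q'
  have htn : (m : G) * g⁻¹ ∈ Subgroup.normalizer (Q : Set G) := by
    rw [Subgroup.mem_normalizer_iff]
    intro y
    constructor
    · intro hy
      have hyN : y ∈ N := hQN hy
      have h1 : (⟨y, hyN⟩ : N) ∈ Q.subgroupOf N := Subgroup.mem_subgroupOf.mpr hy
      have h2 : (MulAut.conjNormal g : N ≃* N).symm ⟨y, hyN⟩
          ∈ (Q.subgroupOf N).map (MulAut.conjNormal g : N ≃* N).symm.toMonoidHom :=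
        Subgroup.mem_map_of_mem _ h1
      have h3 := Subgroup.mem_map_of_mem (MulAut.conj m).toMonoidHom h2
      rw [hm, Subgroup.mem_subgroupOf] at h3
      have e3 : (((MulAut.conj m).toMonoidHom ((MulAut.conjNormal g : N ≃* N).symm.toMonoidHom
          ⟨y, hyN⟩) : N) : G) = (m : G) * g⁻¹ * y * ((m : G) * g⁻¹)⁻¹ := by
        simp only [MulEquiv.coe_toMonoidHom, MulAut.conj_apply, Subgroup.coe_mul,
          Subgroup.coe_inv, MulAut.conjNormal_symm_apply]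
        group
      rw [← e3]
      exact h3
    · intro hy
      have hyN : (m : G) * g⁻¹ * y * ((m : G) * g⁻¹)⁻¹ ∈ N := hQN hy
      have h1 : (⟨_, hyN⟩ : N) ∈ Q.subgroupOf N := Subgroup.mem_subgroupOf.mpr hy
      rw [← hm] at h1
      obtain ⟨w, hw, hwe⟩ := h1
      obtain ⟨q, hq, rfl⟩ := hw
      have hqQ : (q : G) ∈ Q := Subgroup.mem_subgroupOf.mp hq
      have e3 := congrArg (fun z : N => (z : G)) hwe
      simp only [MulEquiv.coe_toMonoidHom, MulAut.conj_apply, Subgroup.coe_mul,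
        Subgroup.coe_inv, MulAut.conjNormal_symm_apply] at e3
      have e4 : y = (q : G) := by
        have e5 : y = ((m : G) * g⁻¹)⁻¹ * ((m : G) * g⁻¹ * y * ((m : G) * g⁻¹)⁻¹)
            * ((m : G) * g⁻¹) := by group
        rw [e5, ← e3]
        group
      rw [e4]
      exact hqQ
  have htH : ((m : G) * g⁻¹)⁻¹ ∈ H := H.inv_mem (hQH' htn)
  have hconj : ∀ θ : IrrCharacter N, conjIrr N g θ = conjIrr N ((m : G) * g⁻¹)⁻¹ θ := by
    intro θ
    have e6 : g = ((m : G) * g⁻¹)⁻¹ * (m : G) := by group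
    conv_lhs => rw [e6]
    rw [conjIrr_mul, conjIrr_of_mem N (m : G) m.2]
  have hd₁eq'' : conjIrr N ((⟨((m : G) * g⁻¹)⁻¹, htH⟩ : H) : G) '' d = d₁ := by
    rw [hd₁eq]
    apply Set.image_congr
    intro θ _
    exact (hconj θ).symm
  -- the conjugate of `e`
  have hind₂ := isInducedBlockIn_conj (M := M) N H ⟨((m : G) * g⁻¹)⁻¹, htH⟩ e d hed
  rw [hd₁eq''] at hind₂
  have he₂Q := isDefectGroup_conjInf (M := M) (p := p) N H Q hHQ ⟨((m : G) * g⁻¹)⁻¹, htH⟩ e heQ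
  have he₁e₂ := eq_of_inducedBlockIn N H Q hM hQ hQN hHQ hQH' e₁ _ he₁ hind₂.1 he₁Q he₂Q d₁
    hind₁ hind₂
  rw [he₁e₂] at hξ₁
  obtain ⟨ξ, hξ, hξeq⟩ := hξ₁
  refine ⟨ψ, hψ, ξ, hξ, ?_⟩
  rw [← classInner_conjInf N H ⟨((m : G) * g⁻¹)⁻¹, htH⟩ ψ ξ, hξeq]
  exact hne₁

end Cfsg.Agent.Lib.helper3.HK
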