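import Mathlib
import Cfsg.Prelude.Def_Blocks
import Cfsg.Agent.Lib.helper3.HtZeroLin1
import Cfsg.Agent.Lib.helper3.TransferChar

/-!
# Height zero characters over a central linear character: the linear character extends to a
defect group
-/

set_option autoImplicit false
set_option linter.style.haveILetI false
set_option linter.unusedSectionVars false
set_option maxHeartbeats 1000000

namespace Cfsg.Agent.Lib.helper3.HtZeroLin

open Cfsg Module Cfsg.Agent.Lib.helper3.CharBasic Cfsg.Agent.Lib.helper3.Irr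
open Cfsg.Agent.Lib.helper3.Central Cfsg.Agent.Lib.helper3.LocalM Cfsg.Agent.Lib.helper3.IndFun
open Cfsg.Agent.Lib.helper3.Block
open scoped ComplexConjugate

variable {M : Ideal AlgInt}

/-- A height zero character of `B` has a linear constituent on a Sylow subgroup of the centralizer
of a defect class representative. -/
theorem exists_linear_of_height_zero {G : Type*} [Group G] [Fintype G] {p : ℕ}
    [hp : Fact p.Prime] (hM : IsPModular p M) (B : Set (IrrCharacter G)) (hB : IsPBlock M B)
    (g₀ : G) (hg₀ : IsDefectClass M B g₀)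
    (P : Sylow p (Subgroup.centralizer ({g₀} : Set G)))
    [Fintype (Subgroup.centralizer ({g₀} : Set G))]
    [Fintype (P : Subgroup (Subgroup.centralizer ({g₀} : Set G)))]
    (χ : IrrCharacter G) (hχ : χ ∈ B) (h0 : blockHeight p B (χ : G → ℂ) = 0) :
    ∃ μ : IrrCharacter ↥(P : Subgroup (Subgroup.centralizer ({g₀} : Set G))),
      (μ : ↥(P : Subgroup (Subgroup.centralizer ({g₀} : Set G))) → ℂ) 1 = 1 ∧
      classInner (fun x : ↥(P : Subgroup (Subgroup.centralizer ({g₀} : Set G))) =>
        (χ : G → ℂ) ((x : Subgroup.centralizer ({g₀} : Set G)) : G))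
        (μ : ↥(P : Subgroup (Subgroup.centralizer ({g₀} : Set G))) → ℂ) ≠ 0 := by
  classical
  have hχc := isCharacter_of_isIrrCharacter χ.2
  have hζ := isCharacter_restrict hχc (Subgroup.centralizer ({g₀} : Set G))
  have hzmem : g₀ ∈ Subgroup.centralizer ({g₀} : Set G) :=
    Subgroup.mem_centralizer_singleton_iff.mpr rfl
  have hzc : (⟨g₀, hzmem⟩ : Subgroup.centralizer ({g₀} : Set G))
      ∈ Subgroup.center (Subgroup.centralizer ({g₀} : Set G)) := by
    rw [Subgroup.mem_center_iff]
    intro x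
    apply Subtype.ext
    rw [Subgroup.coe_mul, Subgroup.coe_mul]
    exact (Subgroup.mem_centralizer_singleton_iff.mp x.2)
  have hnot := not_memLocalIdeal_apply_of_height_zero hM B hB χ hχ h0 g₀ hg₀
  obtain ⟨ψ, hψ1, hψ2⟩ := exists_constituent_not_dvd hM hζ _ hzc hnot
  have hψc := isCharacter_of_isIrrCharacter ψ.2
  have hψP := isCharacter_restrict hψc (P : Subgroup (Subgroup.centralizer ({g₀} : Set G)))
  obtain ⟨μ, hμ1, hμ2⟩ := exists_linear_constituent_pgroup P.isPGroup' hψP
    (charDegree (ψ : Subgroup.centralizer ({g₀} : Set G) → ℂ)) (apply_one_eq_charDegree ψ) hψ2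
  refine ⟨μ, hμ1, ?_⟩
  exact classInner_restrict_ne_zero_of_constituent
    (P : Subgroup (Subgroup.centralizer ({g₀} : Set G))) hζ ψ hψ1 μ hμ2

/-- A height zero character of `B` yields a homomorphism from a Sylow subgroup of the centralizer
of a defect class representative to `ℂˣ` whose value at any element acting as a scalar on `χ` is
that scalar. -/
theorem exists_hom_of_height_zero {G : Type*} [Group G] [Fintype G] {p : ℕ}
    [hp : Fact p.Prime] (hM : IsPModular p M) (B : Set (IrrCharacter G)) (hB : IsPBlock M B)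
    (g₀ : G) (hg₀ : IsDefectClass M B g₀)
    (P : Sylow p (Subgroup.centralizer ({g₀} : Set G)))
    (χ : IrrCharacter G) (hχ : χ ∈ B) (h0 : blockHeight p B (χ : G → ℂ) = 0) :
    ∃ ν : ↥(P : Subgroup (Subgroup.centralizer ({g₀} : Set G))) →* ℂˣ,
      ∀ (x : ↥(P : Subgroup (Subgroup.centralizer ({g₀} : Set G)))) (ω : ℂ),
        (∀ y : G, (χ : G → ℂ) (y * ((x : Subgroup.centralizer ({g₀} : Set G)) : G))
          = ω * (χ : G → ℂ) y) → ((ν x : ℂˣ) : ℂ) = ω := by
  classical
  obtain ⟨μ, hμ1, hμ2⟩ := exists_linear_of_height_zero hM B hB g₀ hg₀ P χ hχ h0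
  have hμc := isCharacter_of_isIrrCharacter μ.2
  refine ⟨Cfsg.Agent.Lib.helper3.Lin.toUnitsHom hμc hμ1, ?_⟩
  intro x ω hx
  rw [Cfsg.Agent.Lib.helper3.Lin.toUnitsHom_apply]
  have hy : ∀ y : Subgroup.centralizer ({g₀} : Set G),
      (fun c : Subgroup.centralizer ({g₀} : Set G) => (χ : G → ℂ) c)
        (y * (x : Subgroup.centralizer ({g₀} : Set G)))
      = ω * (fun c : Subgroup.centralizer ({g₀} : Set G) => (χ : G → ℂ) c) y := by
    intro y
    exact hx (y : G)
  have t1 := @linear_constituent_apply_of_scalar (Subgroup.centralizer ({g₀} : Set G)) _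
    (P : Subgroup (Subgroup.centralizer ({g₀} : Set G))) _
    (fun c : Subgroup.centralizer ({g₀} : Set G) => (χ : G → ℂ) c) (μ : _ → ℂ) hμc hμ1
  have t2 := t1 hμ2
  have t3 := t2 x ω
  exact t3 hy

end Cfsg.Agent.Lib.helper3.HtZeroLin
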