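import Mathlib
import Cfsg.Prelude.Def_Blocks
import Cfsg.Agent.Lib.helper3.DefectZero
import Cfsg.Agent.Lib.helper3.FrobSchur
import Cfsg.Agent.Lib.helper3.DefectOrder
import Cfsg.Agent.Lib.helper3.Irr11

/-!
# Square roots and the Frobenius–Schur sum of a character vanishing at elements with
involutions in their centralizers
-/

set_option autoImplicit false
set_option linter.style.haveILetI false
set_option linter.unusedSectionVars false

namespace Cfsg.Agent.Lib.helper3.InvClass

open Cfsg Cfsg.Agent.Lib.helper3.Irr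
open Cfsg.Agent.Lib.helper3.CharBasic Cfsg.Agent.Lib.helper3.Lin Cfsg.Agent.Lib.helper3.Central
open Cfsg.Agent.Lib.helper3.IndFun
open scoped ComplexConjugate

variable {G : Type*} [Group G] [Fintype G]

/-- The hypothesis on a function `f`: it vanishes at elements of even order and at nonidentity
elements commuting with an involution. -/
def NoInv (f : G → ℂ) : Prop :=
  (∀ y : G, 2 ∣ orderOf y → f y = 0) ∧
    ∀ h : G, h ≠ 1 → f h ≠ 0 → ∀ s : G, orderOf s = 2 → ¬ Commute s h

theorem odd_of_sq_ne_zero {f : G → ℂ} (hf : NoInv f) (g : G) (h1 : g * g ≠ 1)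
    (h2 : f (g * g) ≠ 0) : ¬ 2 ∣ orderOf g := by
  intro hdiv
  have hs2 : orderOf (g ^ (orderOf g / 2)) = 2 :=
    orderOf_pow_orderOf_div (orderOf_pos g).ne' hdiv
  have hc : Commute (g ^ (orderOf g / 2)) (g * g) := by
    have h3 : Commute (g ^ (orderOf g / 2)) g := Commute.pow_self g _
    exact h3.mul_right h3
  exact hf.2 (g * g) h1 h2 _ hs2 hc

theorem sqrt_sq {f : G → ℂ} (hf : NoInv f) (g : G) (h1 : g * g ≠ 1) (h2 : f (g * g) ≠ 0) :
    (g * g) ^ ((orderOf (g * g) + 1) / 2) = g := by
  have hodd := odd_of_sq_ne_zero hf g h1 h2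
  have hcop : Nat.Coprime (orderOf g) 2 := by
    rw [Nat.coprime_comm]
    exact (Nat.Prime.coprime_iff_not_dvd Nat.prime_two).2 hodd
  have hord : orderOf (g * g) = orderOf g := by
    rw [← pow_two, orderOf_pow, hcop.gcd_eq_one, Nat.div_one]
  rw [hord, ← pow_two, ← pow_mul]
  have hm : 2 * ((orderOf g + 1) / 2) = orderOf g + 1 := by
    have : orderOf g % 2 = 1 := by
      rcases Nat.mod_two_eq_zero_or_one (orderOf g) with h | h
      · exact absurd (Nat.dvd_of_mod_eq_zero h) hodd
      · exact h
    omega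
  rw [hm, pow_succ, pow_orderOf_eq_one, one_mul]

theorem sq_sqrt {f : G → ℂ} (hf : NoInv f) (h : G) (h2 : f h ≠ 0) :
    h ^ ((orderOf h + 1) / 2) * h ^ ((orderOf h + 1) / 2) = h := by
  have hodd : ¬ 2 ∣ orderOf h := fun hdiv => h2 (hf.1 h hdiv)
  rw [← pow_add]
  have hm : (orderOf h + 1) / 2 + (orderOf h + 1) / 2 = orderOf h + 1 := by
    have : orderOf h % 2 = 1 := by
      rcases Nat.mod_two_eq_zero_or_one (orderOf h) with h' | h'
      · exact absurd (Nat.dvd_of_mod_eq_zero h') hodd
      · exact h'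
    omega
  rw [hm, pow_succ, pow_orderOf_eq_one, one_mul]

open Classical in
/-- The sum of `f (g * g)` over the `g` with `g * g ≠ 1`. -/
theorem sum_sq_ne_one {f : G → ℂ} (hf : NoInv f) :
    ∑ g ∈ Finset.univ.filter (fun g : G => g * g ≠ 1), f (g * g)
      = ∑ h ∈ Finset.univ.filter (fun h : G => h ≠ 1), f h := by
  have e1 : ∑ g ∈ Finset.univ.filter (fun g : G => g * g ≠ 1), f (g * g)
      = ∑ g ∈ Finset.univ.filter (fun g : G => g * g ≠ 1 ∧ f (g * g) ≠ 0), f (g * g) := by
    symm
    apply Finset.sum_subset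
    · intro g hg
      rw [Finset.mem_filter] at hg ⊢
      exact ⟨hg.1, hg.2.1⟩
    · intro g hg hg'
      rw [Finset.mem_filter] at hg hg'
      by_contra hne
      exact hg' ⟨Finset.mem_univ _, hg.2, hne⟩
  have e2 : ∑ h ∈ Finset.univ.filter (fun h : G => h ≠ 1), f h
      = ∑ h ∈ Finset.univ.filter (fun h : G => h ≠ 1 ∧ f h ≠ 0), f h := by
    symm
    apply Finset.sum_subset
    · intro g hg
      rw [Finset.mem_filter] at hg ⊢
      exact ⟨hg.1, hg.2.1⟩
    · intro g hg hg'
      rw [Finset.mem_filter] at hg hg'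
      by_contra hne
      exact hg' ⟨Finset.mem_univ _, hg.2, hne⟩
  rw [e1, e2]
  apply Finset.sum_nbij' (fun g => g * g) (fun h => h ^ ((orderOf h + 1) / 2))
  · intro g hg
    rw [Finset.mem_filter] at hg ⊢
    exact ⟨Finset.mem_univ _, hg.2.1, hg.2.2⟩
  · intro h hh
    rw [Finset.mem_filter] at hh ⊢
    rw [sq_sqrt hf h hh.2.2]
    exact ⟨Finset.mem_univ _, hh.2.1, hh.2.2⟩
  · intro g hg
    rw [Finset.mem_filter] at hg
    exact sqrt_sq hf g hg.2.1 hg.2.2
  · intro h hh
    rw [Finset.mem_filter] at hh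
    exact sq_sqrt hf h hh.2.2
  · intro g _
    rfl

open Classical in
/-- The Frobenius–Schur sum in terms of the number of involutions. -/
theorem sum_sq_eq {f : G → ℂ} (hf : NoInv f) (hsum : ∑ g : G, f g = 0) :
    ∑ g : G, f (g * g)
      = ((Finset.univ.filter (fun g : G => orderOf g = 2)).card : ℂ) * f 1 := by
  rw [← Finset.sum_filter_add_sum_filter_not Finset.univ (fun g : G => g * g = 1)]
  have h1 : ∑ g ∈ Finset.univ.filter (fun g : G => g * g = 1), f (g * g)
      = (((Finset.univ.filter (fun g : G => orderOf g = 2)).card : ℂ) + 1) * f 1 := by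
    have h2 : ∀ g ∈ Finset.univ.filter (fun g : G => g * g = 1), f (g * g) = f 1 := by
      intro g hg
      rw [Finset.mem_filter] at hg
      rw [hg.2]
    rw [Finset.sum_congr rfl h2, Finset.sum_const, nsmul_eq_mul]
    congr 1
    have h3 : Finset.univ.filter (fun g : G => g * g = 1)
        = insert (1 : G) (Finset.univ.filter (fun g : G => orderOf g = 2)) := by
      ext g
      rw [Finset.mem_filter, Finset.mem_insert, Finset.mem_filter]
      constructor
      · rintro ⟨_, hg⟩
        by_cases hg1 : g = 1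
        · exact Or.inl hg1
        · right
          refine ⟨Finset.mem_univ _, ?_⟩
          apply orderOf_eq_prime
          · rw [pow_two]; exact hg
          · exact hg1
      · rintro (hg | ⟨_, hg⟩)
        · rw [hg]; exact ⟨Finset.mem_univ _, one_mul 1⟩
        · refine ⟨Finset.mem_univ _, ?_⟩
          rw [← pow_two, ← hg, pow_orderOf_eq_one]
    rw [h3, Finset.card_insert_of_notMem]
    · push_cast; ring
    · rw [Finset.mem_filter]
      rintro ⟨_, h⟩
      rw [orderOf_one] at h
      omega
  have h4 : ∑ g ∈ Finset.univ.filter (fun g : G => ¬ g * g = 1), f (g * g) = - f 1 := by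
    have h5 := sum_sq_ne_one hf
    have h6 : ∑ h ∈ Finset.univ.filter (fun h : G => h ≠ 1), f h = - f 1 := by
      have h7 := Finset.sum_filter_add_sum_filter_not Finset.univ (fun g : G => g = 1) f
      rw [hsum, Finset.filter_eq' Finset.univ (1 : G), if_pos (Finset.mem_univ _),
        Finset.sum_singleton] at h7
      exact eq_neg_of_add_eq_zero_right h7
    rw [← h6, ← h5]
  rw [h1, h4]
  ring

end Cfsg.Agent.Lib.helper3.InvClass
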