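import Mathlib
import Cfsg.Prelude.Def_Blocks
import Cfsg.Agent.Lib.helper3.InvClass1

/-!
# Characters of defect zero for `2` and for the odd primes `p` with elements of order `2p`
-/

set_option autoImplicit false
set_option linter.style.haveILetI false
set_option linter.unusedSectionVars false

namespace Cfsg.Agent.Lib.helper3.InvClass

open Cfsg Cfsg.Agent.Lib.helper3.Irr
open Cfsg.Agent.Lib.helper3.CharBasic Cfsg.Agent.Lib.helper3.Lin Cfsg.Agent.Lib.helper3.Central
open Cfsg.Agent.Lib.helper3.IndFun Cfsg.Agent.Lib.helper3.BrauerInd Cfsg.Agent.Lib.helper3.Block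
open scoped ComplexConjugate

universe u

variable {G : Type u} [Group G] [Fintype G]

/-- The hypothesis of the theorem, for a degree `x`. -/
def MixedDefectZero (G : Type u) [Group G] (x : ℕ) : Prop :=
  2 ^ (Nat.card G).factorization 2 ∣ x ∧
    ∀ p : ℕ, p.Prime → p ≠ 2 → (∃ g : G, orderOf g = 2 * p) → p ^ (Nat.card G).factorization p ∣ x

theorem noInv_of_mixedDefectZero (χ : IrrCharacter G)
    (hx : MixedDefectZero G (charDegree (χ : G → ℂ))) : NoInv (χ : G → ℂ) := by
  classical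
  obtain ⟨d, ρ, hirr, hρ⟩ := χ.2
  haveI := hirr
  have hfin : Module.finrank ℂ (Fin d → ℂ) = d := by simp
  have hd1 : (χ : G → ℂ) 1 = (d : ℂ) := by
    rw [← hρ, Representation.char_one, hfin]
  have hcd : charDegree (χ : G → ℂ) = d := charDegree_eq hd1
  rw [hcd] at hx
  have hn0 : Nat.card G ≠ 0 := Nat.card_pos.ne'
  have hvan : ∀ p : ℕ, p.Prime → p ^ (Nat.card G).factorization p ∣ d →
      ∀ y : G, p ∣ orderOf y → (χ : G → ℂ) y = 0 := by
    intro p hp hdvd y hy
    haveI : Fact p.Prime := ⟨hp⟩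
    rw [← hρ]
    exact character_eq_zero_of_defect_zero ρ p _ (Nat.pow_succ_factorization_not_dvd hn0 hp)
      (by rw [hfin]; exact hdvd) y hy
  have hvan2 := hvan 2 Nat.prime_two hx.1
  refine ⟨hvan2, ?_⟩
  intro h hh1 hχh s hs hcomm
  have hodd : ¬ 2 ∣ orderOf h := fun hdiv => hχh (hvan2 h hdiv)
  have hne1 : orderOf h ≠ 1 := fun h1 => hh1 (orderOf_eq_one_iff.mp h1)
  obtain ⟨p, hp, hpdvd⟩ := Nat.exists_prime_and_dvd hne1
  have hp2 : p ≠ 2 := by
    intro h2
    rw [h2] at hpdvd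
    exact hodd hpdvd
  have hy : orderOf (h ^ (orderOf h / p)) = p :=
    orderOf_pow_orderOf_div (orderOf_pos h).ne' hpdvd
  have hcy : Commute s (h ^ (orderOf h / p)) := hcomm.pow_right _
  have hcop : Nat.Coprime (orderOf s) (orderOf (h ^ (orderOf h / p))) := by
    rw [hs, hy]
    rw [Nat.coprime_primes Nat.prime_two hp]
    exact fun h2 => hp2 h2.symm
  have hord : orderOf (s * h ^ (orderOf h / p)) = 2 * p := by
    rw [hcy.orderOf_mul_eq_mul_orderOf_of_coprime hcop, hs, hy]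
  exact hχh (hvan p hp (hx.2 p hp hp2 ⟨_, hord⟩) h hpdvd)

theorem sum_apply_eq_zero_of_ne_one (χ : IrrCharacter G)
    (hne : (χ : G → ℂ) ≠ fun _ => (1 : ℂ)) : ∑ g : G, (χ : G → ℂ) g = 0 := by
  have h1 := irr_classInner_eq χ.2 (isIrrCharacter_one (G := G))
  rw [if_neg hne, classInner_apply] at h1
  have hGC : (Nat.card G : ℂ) ≠ 0 := card_ne_zero_complex G
  rcases mul_eq_zero.mp h1 with h2 | h2
  · exact absurd (inv_eq_zero.mp h2) hGC
  · rw [← h2]
    apply Finset.sum_congr rfl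
    intro g _
    simp

open Classical in
/-- The number of involutions times the degree is the group order, and the Frobenius–Schur
indicator is `1`. -/
theorem card_involutions_mul_degree (heven : Even (Nat.card G)) (χ : IrrCharacter G)
    (hx : MixedDefectZero G (charDegree (χ : G → ℂ))) :
    (Finset.univ.filter (fun g : G => orderOf g = 2)).card * charDegree (χ : G → ℂ) = Nat.card G ∧
    (Nat.card G : ℂ)⁻¹ * ∑ g : G, (χ : G → ℂ) (g * g) = 1 := by
  have hNo := noInv_of_mixedDefectZero χ hx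
  obtain ⟨d, ρ, hirr, hρ⟩ := id χ.2
  haveI := hirr
  have hfin : Module.finrank ℂ (Fin d → ℂ) = d := by simp
  have hd1 : (χ : G → ℂ) 1 = (d : ℂ) := by
    rw [← hρ, Representation.char_one, hfin]
  have hcd : charDegree (χ : G → ℂ) = d := charDegree_eq hd1
  have hdpos : 0 < d := by
    obtain ⟨d', hd'pos, hd'1⟩ := exists_pos_nat_apply_one χ.2
    rw [hd1] at hd'1
    have : d = d' := by exact_mod_cast hd'1
    rw [this]
    exact hd'pos
  have h2G : 2 ∣ Nat.card G := heven.two_dvd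
  have h2d : 2 ∣ d := by
    rw [← hcd]
    refine dvd_trans ?_ hx.1
    have h1 : 1 ≤ (Nat.card G).factorization 2 :=
      (Nat.prime_two.pow_dvd_iff_le_factorization Nat.card_pos.ne').1 (by simpa using h2G)
    exact dvd_pow_self 2 (by omega)
  have hne : (χ : G → ℂ) ≠ fun _ => (1 : ℂ) := by
    intro h
    have h1 := congrFun h 1
    rw [hd1] at h1
    have h3 : d = 1 := by exact_mod_cast h1
    omega
  have hsum := sum_sq_eq hNo (sum_apply_eq_zero_of_ne_one χ hne)
  obtain ⟨I, hI⟩ : ∃ I : ℕ, I = (Finset.univ.filter (fun g : G => orderOf g = 2)).card := ⟨_, rfl⟩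
  rw [← hI] at hsum ⊢
  rw [hd1] at hsum
  -- there is an involution
  have hIpos : 0 < I := by
    haveI : Fact (Nat.Prime 2) := ⟨Nat.prime_two⟩
    obtain ⟨s, hs⟩ := exists_prime_orderOf_dvd_card' (G := G) 2 h2G
    rw [hI, Finset.card_pos]
    exact ⟨s, by rw [Finset.mem_filter]; exact ⟨Finset.mem_univ _, hs⟩⟩
  obtain ⟨c, hc, hfs, _, _⟩ := Cfsg.Agent.Lib.helper3.FS.fs_main ρ
  rw [hρ, hsum] at hfs
  have hGC : (Nat.card G : ℂ) ≠ 0 := card_ne_zero_complex G
  have hpos : (0 : ℝ) < (Nat.card G : ℝ)⁻¹ * ((I : ℝ) * (d : ℝ)) := by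
    have h1 : (0 : ℝ) < (Nat.card G : ℝ) := by exact_mod_cast Nat.card_pos
    have h3 : (0 : ℝ) < (I : ℝ) := by exact_mod_cast hIpos
    have h4 : (0 : ℝ) < (d : ℝ) := by exact_mod_cast hdpos
    positivity
  have hcr : c = (((Nat.card G : ℝ)⁻¹ * ((I : ℝ) * (d : ℝ)) : ℝ) : ℂ) := by
    rw [← hfs]
    push_cast
    rfl
  have hc1 : c = 1 := by
    rcases hc with h | h | h
    · exfalso
      rw [h] at hcr
      have : (0 : ℝ) = (Nat.card G : ℝ)⁻¹ * ((I : ℝ) * (d : ℝ)) := by exact_mod_cast hcr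
      linarith
    · exact h
    · exfalso
      rw [h] at hcr
      have : (-1 : ℝ) = (Nat.card G : ℝ)⁻¹ * ((I : ℝ) * (d : ℝ)) := by exact_mod_cast hcr
      linarith
  rw [hc1] at hfs
  constructor
  · rw [hcd]
    have h1 : ((I * d : ℕ) : ℂ) = (Nat.card G : ℂ) := by
      push_cast
      field_simp at hfs
      exact hfs
    exact_mod_cast h1
  · rw [hsum]
    exact hfs

end Cfsg.Agent.Lib.helper3.InvClass
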