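import Mathlib
import Cfsg.Prelude.Def_Blocks
import Cfsg.Agent.Lib.helper3.InvClass2

/-!
# One class of involutions
-/

set_option autoImplicit false
set_option linter.style.haveILetI false
set_option linter.unusedSectionVars false

namespace Cfsg.Agent.Lib.helper3.InvClass

open Cfsg Cfsg.Agent.Lib.helper3.Irr
open Cfsg.Agent.Lib.helper3.CharBasic Cfsg.Agent.Lib.helper3.Lin Cfsg.Agent.Lib.helper3.Central
open Cfsg.Agent.Lib.helper3.IndFun Cfsg.Agent.Lib.helper3.BrauerInd Cfsg.Agent.Lib.helper3.Block
open scoped ComplexConjugate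

universe u

variable {G : Type u} [Group G] [Fintype G]

/-- A prime dividing the centralizer order of an involution divides `x` to the full power. -/
theorem pow_dvd_of_dvd_card_centralizer {x : ℕ} (hx : MixedDefectZero G x) (s : G)
    (hs : orderOf s = 2) (q : ℕ) (hq : q.Prime)
    (hdvd : q ∣ Nat.card (Subgroup.centralizer ({s} : Set G))) :
    q ^ (Nat.card G).factorization q ∣ x := by
  by_cases hq2 : q = 2
  · rw [hq2]
    exact hx.1
  · haveI : Fact q.Prime := ⟨hq⟩
    obtain ⟨y, hy⟩ := exists_prime_orderOf_dvd_card' (G := Subgroup.centralizer ({s} : Set G)) q hdvd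
    have hyG : orderOf (y : G) = q := by
      rw [Subgroup.orderOf_coe, hy]
    have hcomm : Commute s (y : G) := by
      have := Subgroup.mem_centralizer_singleton_iff.mp y.2
      exact this.symm
    have hcop : Nat.Coprime (orderOf s) (orderOf (y : G)) := by
      rw [hs, hyG, Nat.coprime_primes Nat.prime_two hq]
      exact fun h2 => hq2 h2.symm
    have hord : orderOf (s * (y : G)) = 2 * q := by
      rw [hcomm.orderOf_mul_eq_mul_orderOf_of_coprime hcop, hs, hyG]
    exact hx.2 q hq hq2 ⟨_, hord⟩

theorem card_centralizer_dvd {x : ℕ} (hx0 : x ≠ 0) (hx : MixedDefectZero G x) (s : G)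
    (hs : orderOf s = 2) : Nat.card (Subgroup.centralizer ({s} : Set G)) ∣ x := by
  have hc0 : Nat.card (Subgroup.centralizer ({s} : Set G)) ≠ 0 := Nat.card_pos.ne'
  rw [← Nat.factorization_le_iff_dvd hc0 hx0]
  intro q
  by_cases hq : q.Prime
  · by_cases hdvd : q ∣ Nat.card (Subgroup.centralizer ({s} : Set G))
    · have h1 := pow_dvd_of_dvd_card_centralizer hx s hs q hq hdvd
      have h2 := (hq.pow_dvd_iff_le_factorization hx0).1 h1
      have h3 : (Nat.card (Subgroup.centralizer ({s} : Set G))).factorization q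
          ≤ (Nat.card G).factorization q :=
        (Nat.factorization_le_iff_dvd hc0 Nat.card_pos.ne').2
          (Subgroup.card_subgroup_dvd_card _) q
      exact le_trans h3 h2
    · rw [Nat.factorization_eq_zero_of_not_dvd hdvd]
      exact Nat.zero_le _
  · rw [Nat.factorization_eq_zero_of_not_prime _ hq]
    exact Nat.zero_le _

open Classical in
/-- **The main counting.** -/
theorem involutions_conj {x : ℕ} (hx0 : x ≠ 0) (hx : MixedDefectZero G x)
    (hIx : (Finset.univ.filter (fun g : G => orderOf g = 2)).card * x = Nat.card G) (s : G)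
    (hs : orderOf s = 2) :
    (∀ t : G, orderOf t = 2 → IsConj s t) ∧
      Nat.card (Subgroup.centralizer ({s} : Set G)) = x ∧
      (Nat.card (Subgroup.centralizer ({s} : Set G))).Coprime
        (Subgroup.centralizer ({s} : Set G)).index := by
  obtain ⟨I, hI⟩ : ∃ I : ℕ, I = (Finset.univ.filter (fun g : G => orderOf g = 2)).card := ⟨_, rfl⟩
  rw [← hI] at hIx
  obtain ⟨c, hc⟩ : ∃ c : ℕ, c = Nat.card (Subgroup.centralizer ({s} : Set G)) := ⟨_, rfl⟩
  have hcx : c ∣ x := by
    rw [hc]
    exact card_centralizer_dvd hx0 hx s hs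
  have hcpos : 0 < c := by
    rw [hc]
    exact Nat.card_pos
  have hK := card_class_eq_index s
  obtain ⟨K, hKdef⟩ : ∃ K : Finset G, K = Finset.univ.filter (fun g : G => IsConj s g) := ⟨_, rfl⟩
  rw [← hKdef] at hK
  have hKc : K.card * c = Nat.card G := by
    rw [hK, hc, mul_comm]
    exact Subgroup.card_mul_index _
  have hKsub : K ⊆ Finset.univ.filter (fun g : G => orderOf g = 2) := by
    intro g hg
    rw [hKdef, Finset.mem_filter] at hg
    rw [Finset.mem_filter]
    refine ⟨Finset.mem_univ _, ?_⟩
    obtain ⟨a, ha⟩ := isConj_iff.mp hg.2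
    rw [← ha, Cfsg.Agent.Lib.helper3.HallNilp.orderOf_conj', hs]
  have hKle : K.card ≤ I := by
    rw [hI]
    exact Finset.card_le_card hKsub
  have hcle : c ≤ x := Nat.le_of_dvd (Nat.pos_of_ne_zero hx0) hcx
  have hIpos : 0 < I := by
    rcases Nat.eq_zero_or_pos I with h0 | h0
    · rw [h0, zero_mul] at hIx
      exact absurd hIx.symm Nat.card_pos.ne'
    · exact h0
  have hKge : I ≤ K.card := by
    have h1 : I * c ≤ K.card * c := by
      rw [hKc, ← hIx]
      exact Nat.mul_le_mul_left I hcle
    exact Nat.le_of_mul_le_mul_right h1 hcpos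
  have hKeq : K.card = I := le_antisymm hKle hKge
  have hcx' : c = x := by
    have h1 : I * c = I * x := by rw [← hKeq, hKc, hKeq, hIx]
    exact Nat.eq_of_mul_eq_mul_left hIpos h1
  have hKall : K = Finset.univ.filter (fun g : G => orderOf g = 2) := by
    apply Finset.eq_of_subset_of_card_le hKsub
    rw [hKeq, hI]
  refine ⟨?_, ?_, ?_⟩
  · intro t ht
    have : t ∈ K := by
      rw [hKall, Finset.mem_filter]
      exact ⟨Finset.mem_univ _, ht⟩
    rw [hKdef, Finset.mem_filter] at this
    exact this.2
  · rw [← hc, hcx']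
  · rw [← hc, ← hK, hKeq]
    apply Nat.coprime_of_dvd
    intro q hq hqc hqI
    have h1 := pow_dvd_of_dvd_card_centralizer hx s hs q hq (by rw [← hc]; exact hqc)
    have h2 := (hq.pow_dvd_iff_le_factorization hx0).1 h1
    have h3 : (Nat.card G).factorization q = I.factorization q + x.factorization q := by
      rw [← hIx, Nat.factorization_mul hIpos.ne' hx0]
      rfl
    have h4 : 1 ≤ I.factorization q :=
      (hq.pow_dvd_iff_le_factorization hIpos.ne').1 (by simpa using hqI)
    omega

end Cfsg.Agent.Lib.helper3.InvClass
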