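import Mathlib

/-! Unitary representations of finite groups: operator norm estimates (for the
abelian-subgroup form of the Jordan bound). -/

namespace Cfsg.Agent.Lib.helper3.JordanU

open Module
open scoped InnerProductSpace

section Eigen

variable {V : Type*} [AddCommGroup V] [Module ℂ V]

theorem maxGen_eq_of_pow (f : End ℂ V) (k : ℕ) (hk : 0 < k) (hf : f ^ k = 1) (μ : ℂ) :
    f.maxGenEigenspace μ = f.eigenspace μ := by
  have hs : f.IsSemisimple := by
    apply Module.End.isSemisimple_of_squarefree_aeval_eq_zero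
      (p := Polynomial.X ^ k - Polynomial.C 1)
    · exact (Polynomial.separable_X_pow_sub_C (1:ℂ) (by exact_mod_cast hk.ne')
        one_ne_zero).squarefree
    · simp [hf]
  exact hs.isFinitelySemisimple.maxGenEigenspace_eq_eigenspace μ

theorem exists_joint_eigenbasis_of_pow [FiniteDimensional ℂ V] {ι : Type*}
    (f : ι → End ℂ V) (hcomm : ∀ i j, Commute (f i) (f j)) (k : ℕ) (hk : 0 < k)
    (hpow : ∀ i, f i ^ k = 1) :
    ∃ (b : Basis (Fin (finrank ℂ V)) ℂ V) (c : ι → Fin (finrank ℂ V) → ℂ),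
      ∀ i j, f i (b j) = c i j • b j := by
  classical
  have htop :=
    Module.End.iSup_iInf_maxGenEigenspace_eq_top_of_iSup_maxGenEigenspace_eq_top_of_commute f
      (fun i j _ => hcomm i j) (fun i => Module.End.iSup_maxGenEigenspace_eq_top (f i))
  have hind := Module.End.independent_iInf_maxGenEigenspace_of_forall_mapsTo f
    (fun i j φ => Module.End.mapsTo_maxGenEigenspace_of_comm (hcomm j i) φ)
  have hint := DirectSum.isInternal_submodule_of_iSupIndep_of_iSup_eq_top hind htop
  let W : (ι → ℂ) → Submodule ℂ V := fun χ => ⨅ i, (f i).maxGenEigenspace (χ i)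
  let bs : ∀ χ, Basis (Fin (finrank ℂ (W χ))) ℂ (W χ) := fun χ => Module.finBasis ℂ (W χ)
  let B := hint.collectedBasis bs
  have hfin : Finite (Σ χ, Fin (finrank ℂ (W χ))) := Module.Finite.finite_basis B
  have : Fintype (Σ χ, Fin (finrank ℂ (W χ))) := Fintype.ofFinite _
  have hcard : Fintype.card (Σ χ, Fin (finrank ℂ (W χ))) = finrank ℂ V :=
    (Module.finrank_eq_card_basis B).symm
  let e := Fintype.equivFinOfCardEq hcard
  refine ⟨B.reindex e, fun i j => (e.symm j).1 i, ?_⟩
  intro i j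
  rw [Basis.reindex_apply]
  have hmem : B (e.symm j) ∈ W (e.symm j).1 := hint.collectedBasis_mem bs _
  have := (Submodule.mem_iInf _).1 hmem i
  rw [maxGen_eq_of_pow _ k hk (hpow i)] at this
  exact Module.End.mem_eigenspace_iff.1 this

end Eigen

section NormalOp

variable {E : Type*} [NormedAddCommGroup E] [InnerProductSpace ℂ E] [FiniteDimensional ℂ E]

/-- The operator norm of a normal operator on a finite dimensional space is bounded by its
eigenvalues. -/
theorem norm_lt_of_eigen (T : E →L[ℂ] E) (S : E →L[ℂ] E)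
    (hadj : ∀ x y, ⟪T x, y⟫_ℂ = ⟪x, S y⟫_ℂ) (hc : T * S = S * T) (r : ℝ) (hr : 0 < r)
    (h : ∀ (μ : ℂ) (u : E), u ≠ 0 → T u = μ • u → ‖μ‖ < r) : ‖T‖ < r := by
  have : CompleteSpace E := FiniteDimensional.complete ℂ E
  rcases subsingleton_or_nontrivial E with hE | hE
  · have : T = 0 := by
      ext x
      exact Subsingleton.elim _ _
    rw [this, norm_zero]
    exact hr
  have hstar : star T = S := by
    rw [ContinuousLinearMap.star_eq_adjoint]
    symm
    rw [ContinuousLinearMap.eq_adjoint_iff]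
    intro x y
    have := hadj y x
    rw [← inner_conj_symm (S x) y, ← this, inner_conj_symm]
  have : IsStarNormal T := ⟨by rw [hstar]; exact hc.symm⟩
  obtain ⟨z, hz, hzr⟩ := spectrum.exists_nnnorm_eq_spectralRadius T
  rw [IsStarNormal.spectralRadius_eq_nnnorm] at hzr
  have hzn : ‖z‖ = ‖T‖ := by
    have := ENNReal.coe_injective hzr
    exact congrArg NNReal.toReal this
  rw [← hzn]
  have hz' : z ∈ spectrum ℂ (T : E →ₗ[ℂ] E) := by
    have := AlgEquiv.spectrum_eq (Module.End.toContinuousLinearMap E) (T : E →ₗ[ℂ] E)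
    rw [← this]
    exact hz
  rw [← Module.End.hasEigenvalue_iff_mem_spectrum] at hz'
  obtain ⟨u, hu⟩ := hz'.exists_hasEigenvector
  exact h z u hu.2 hu.apply_eq_smul

end NormalOp

section Unitary

variable {G : Type*} [Group G] {E : Type*} [NormedAddCommGroup E] [InnerProductSpace ℂ E]
  (U : G →* (E →L[ℂ] E)) (hU : ∀ g u v, ⟪U g u, U g v⟫_ℂ = ⟪u, v⟫_ℂ)

/-- The underlying action by linear endomorphisms. -/
noncomputable def toEnd : G →* End ℂ E :=
  (ContinuousLinearMap.toLinearMapRingHom (R₁ := ℂ) (M₁ := E)).toMonoidHom.comp U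

theorem toEnd_apply (g : G) (v : E) : toEnd U g v = U g v := rfl

theorem inv_apply_apply (g : G) (v : E) : U g⁻¹ (U g v) = v := by
  have : U g⁻¹ * U g = 1 := by rw [← map_mul, inv_mul_cancel, map_one]
  have h2 := congrArg (fun T : E →L[ℂ] E => T v) this
  simpa using h2

theorem apply_inv_apply (g : G) (v : E) : U g (U g⁻¹ v) = v := by
  have := inv_apply_apply U g⁻¹ v
  rwa [inv_inv] at this

include hU

theorem norm_apply (g : G) (v : E) : ‖U g v‖ = ‖v‖ := by
  rw [norm_eq_sqrt_re_inner (𝕜 := ℂ), hU, ← norm_eq_sqrt_re_inner]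

theorem norm_le_one (g : G) : ‖U g‖ ≤ 1 :=
  ContinuousLinearMap.opNorm_le_bound _ zero_le_one
    (fun v => by rw [norm_apply U hU, one_mul])

theorem norm_mul_left (g : G) (T : E →L[ℂ] E) : ‖U g * T‖ = ‖T‖ := by
  have h1 : ∀ (g : G) (T : E →L[ℂ] E), ‖U g * T‖ ≤ ‖T‖ := by
    intro g T
    refine (norm_mul_le _ _).trans ?_
    have := norm_le_one U hU g
    nlinarith [norm_nonneg T]
  refine le_antisymm (h1 g T) ?_
  have h2 := h1 g⁻¹ (U g * T)
  rwa [← mul_assoc, ← map_mul, inv_mul_cancel, map_one, one_mul] at h2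

theorem norm_mul_right (g : G) (T : E →L[ℂ] E) : ‖T * U g‖ = ‖T‖ := by
  have h1 : ∀ (g : G) (T : E →L[ℂ] E), ‖T * U g‖ ≤ ‖T‖ := by
    intro g T
    refine (norm_mul_le _ _).trans ?_
    have := norm_le_one U hU g
    nlinarith [norm_nonneg T]
  refine le_antisymm (h1 g T) ?_
  have h2 := h1 g⁻¹ (T * U g)
  rwa [mul_assoc, ← map_mul, mul_inv_cancel, map_one, mul_one] at h2

theorem inner_apply_left (g : G) (x y : E) : ⟪U g x, y⟫_ℂ = ⟪x, U g⁻¹ y⟫_ℂ := by
  rw [← hU g x (U g⁻¹ y), apply_inv_apply]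

theorem norm_sub_smul_lt [FiniteDimensional ℂ E] (g : G) (c : ℂ) (r : ℝ) (hr : 0 < r)
    (h : ∀ (μ : ℂ) (u : E), u ≠ 0 → U g u = μ • u → ‖μ - c‖ < r) :
    ‖U g - c • (1 : E →L[ℂ] E)‖ < r := by
  apply norm_lt_of_eigen (U g - c • (1 : E →L[ℂ] E))
    (U g⁻¹ - (starRingEnd ℂ c) • (1 : E →L[ℂ] E)) _ _ r hr
  · intro μ u hu hμ
    have h1 : U g u = (μ + c) • u := by
      have : U g u - c • u = μ • u := by simpa using hμ
      rw [add_smul, ← this]; abel
    have := h (μ + c) u hu h1
    simpa using this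
  · intro x y
    simp only [ContinuousLinearMap.sub_apply, ContinuousLinearMap.smul_apply,
      ContinuousLinearMap.one_apply, inner_sub_left, inner_sub_right, inner_smul_left,
      inner_smul_right]
    rw [inner_apply_left U hU]
  · have e1 : U g * U g⁻¹ = 1 := by rw [← map_mul, mul_inv_cancel, map_one]
    have e2 : U g⁻¹ * U g = 1 := by rw [← map_mul, inv_mul_cancel, map_one]
    simp only [sub_mul, mul_sub, smul_mul_assoc, mul_smul_comm, one_mul, mul_one, e1, e2,
      smul_sub, smul_smul, mul_comm c]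
    abel

end Unitary

end Cfsg.Agent.Lib.helper3.JordanU
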