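import Cfsg.Agent.Lib.helper3.JordanU1

/-! Frobenius' commutator lemma for unitary representations and the abelian normal subgroup
generated by the elements close to the identity. -/

namespace Cfsg.Agent.Lib.helper3.JordanU

open Module
open scoped InnerProductSpace

section Unitary

variable {G : Type*} [Group G] {E : Type*} [NormedAddCommGroup E] [InnerProductSpace ℂ E]
  (U : G →* (E →L[ℂ] E)) (hU : ∀ g u v, ⟪U g u, U g v⟫_ℂ = ⟪u, v⟫_ℂ)

include hU

theorem norm_eigenvalue (g : G) (μ : ℂ) (u : E) (hu : u ≠ 0) (h : U g u = μ • u) : ‖μ‖ = 1 := by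
  have h1 := norm_apply U hU g u
  rw [h, norm_smul] at h1
  have h2 : ‖u‖ ≠ 0 := norm_ne_zero_iff.2 hu
  field_simp at h1
  exact h1

theorem frob [Finite G] [FiniteDimensional ℂ E] (hinj : Function.Injective U) (x w : G)
    (hz : (x⁻¹ * w⁻¹ * x * w) * x = x * (x⁻¹ * w⁻¹ * x * w)) (hw : ‖U w - 1‖ < 1) :
    x⁻¹ * w⁻¹ * x * w = 1 := by
  set z := x⁻¹ * w⁻¹ * x * w with hzdef
  by_contra hne
  obtain ⟨b, c, hbc⟩ := exists_joint_eigenbasis_of_pow
    (fun i : Bool => toEnd U (cond i x z)) (by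
      intro i j
      have : Commute (cond i x z) (cond j x z) := by
        cases i <;> cases j
        · exact Commute.refl _
        · exact hz
        · exact hz.symm
        · exact Commute.refl _
      exact this.map (toEnd U)) (Nat.card G) Nat.card_pos (by
      intro i
      rw [← map_pow, pow_card_eq_one', map_one])
  have hbx : ∀ j, U x (b j) = c true j • b j := fun j => hbc true j
  have hbz : ∀ j, U z (b j) = c false j • b j := fun j => hbc false j
  by_cases hall : ∀ j, c false j = 1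
  · apply hne
    apply hinj
    rw [map_one]
    apply ContinuousLinearMap.coe_injective
    apply b.ext
    intro j
    show U z (b j) = b j
    rw [hbz, hall, one_smul]
  · push Not at hall
    obtain ⟨j, hj⟩ := hall
    obtain ⟨u, hu⟩ : ∃ u, u = b j := ⟨_, rfl⟩
    obtain ⟨l, hl⟩ : ∃ l, l = c true j := ⟨_, rfl⟩
    obtain ⟨ν, hν⟩ : ∃ ν, ν = c false j := ⟨_, rfl⟩
    have hbx := hbx j
    have hbz := hbz j
    rw [← hu, ← hl] at hbx
    rw [← hu, ← hν] at hbz
    rw [← hν] at hj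
    have hu0 : u ≠ 0 := hu ▸ b.ne_zero j
    have hxw : x * w = w * x * z := by
      rw [hzdef]; group
    have h1 : U x (U w u) = (l * ν) • U w u := by
      have : U x (U w u) = U (x * w) u := by rw [map_mul]; rfl
      rw [this, hxw, map_mul, map_mul]
      show U w (U x (U z u)) = _
      rw [hbz, map_smul, hbx, map_smul, map_smul, smul_smul, mul_comm]
    have hl1 : ‖l‖ = 1 := norm_eigenvalue U hU x l u hu0 hbx
    have h2 : ⟪U w u, u⟫_ℂ = (starRingEnd ℂ ν) * ⟪U w u, u⟫_ℂ := by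
      conv_lhs => rw [← hU x (U w u) u, h1, hbx, inner_smul_left, inner_smul_right]
      rw [map_mul, ← mul_assoc, mul_comm _ l, ← mul_assoc, Complex.mul_conj']
      rw [hl1]
      simp
    have h3 : ⟪U w u, u⟫_ℂ = 0 := by
      have hν1 : starRingEnd ℂ ν ≠ 1 := by
        intro h
        apply hj
        have := congrArg (starRingEnd ℂ) h
        simpa using this
      have : (1 - starRingEnd ℂ ν) * ⟪U w u, u⟫_ℂ = 0 := by
        rw [sub_mul, one_mul, ← h2, sub_self]
      rcases mul_eq_zero.1 this with h | h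
      · exact absurd (sub_eq_zero.1 h).symm hν1
      · exact h
    have h4 : ⟪(U w - 1) u, u⟫_ℂ = - ⟪u, u⟫_ℂ := by
      rw [ContinuousLinearMap.sub_apply, inner_sub_left, h3]
      simp
    have h5 : ‖u‖ * ‖u‖ ≤ ‖U w - 1‖ * ‖u‖ * ‖u‖ := by
      calc ‖u‖ * ‖u‖ = ‖⟪(U w - 1) u, u⟫_ℂ‖ := by
            rw [h4, norm_neg, inner_self_eq_norm_sq_to_K]
            simp [sq]
        _ ≤ ‖(U w - 1) u‖ * ‖u‖ := norm_inner_le_norm _ _
        _ ≤ ‖U w - 1‖ * ‖u‖ * ‖u‖ := by
            gcongr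
            exact ContinuousLinearMap.le_opNorm _ _
    have h6 : 0 < ‖u‖ := norm_pos_iff.2 hu0
    nlinarith [mul_pos h6 h6]

theorem norm_comm_sub_one_le (c : ℂ) (x w : G) :
    ‖U (x⁻¹ * w⁻¹ * x * w) - 1‖ ≤ 2 * ‖U x - c • (1 : E →L[ℂ] E)‖ * ‖U w - 1‖ := by
  have e : U (x⁻¹ * w⁻¹ * x * w) - 1 = U (w * x)⁻¹ *
      ((U x - c • (1 : E →L[ℂ] E)) * (U w - 1) - (U w - 1) * (U x - c • (1 : E →L[ℂ] E))) := by
    have e1 : (U x - c • (1 : E →L[ℂ] E)) * (U w - 1) - (U w - 1) * (U x - c • (1 : E →L[ℂ] E))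
        = U (x * w) - U (w * x) := by
      rw [map_mul, map_mul]
      simp only [sub_mul, mul_sub, smul_mul_assoc, mul_smul_comm, one_mul, mul_one, smul_sub]
      abel
    rw [e1, mul_sub, ← map_mul, ← map_mul, inv_mul_cancel, map_one]
    congr 2
    group
  rw [e, norm_mul_left U hU]
  refine (norm_sub_le _ _).trans ?_
  have h1 := norm_mul_le (U x - c • (1 : E →L[ℂ] E)) (U w - 1)
  have h2 := norm_mul_le (U w - 1) (U x - c • (1 : E →L[ℂ] E))
  nlinarith

theorem comm_of_near [Finite G] [FiniteDimensional ℂ E] (hinj : Function.Injective U) (c : ℂ)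
    (x : G) (hx : ‖U x - c • (1 : E →L[ℂ] E)‖ < 1 / 2) :
    ∀ w : G, ‖U w - 1‖ < 1 → x⁻¹ * w⁻¹ * x * w = 1 := by
  by_contra hcon
  push Not at hcon
  let s : Set G := {w | ‖U w - 1‖ < 1 ∧ x⁻¹ * w⁻¹ * x * w ≠ 1}
  have hs : s.Nonempty := hcon
  obtain ⟨w, hw, hmin⟩ := Set.exists_min_image s (fun w => ‖U w - 1‖) (Set.toFinite s) hs
  have hw1 : ‖U w - 1‖ < 1 := hw.1
  have hw0 : 0 < ‖U w - 1‖ := by
    rw [norm_pos_iff]
    intro h
    have : w = 1 := by
      apply hinj
      rw [map_one]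
      exact sub_eq_zero.1 h
    apply hw.2
    rw [this]
    group
  set z := x⁻¹ * w⁻¹ * x * w with hzdef
  have hz1 : ‖U z - 1‖ < ‖U w - 1‖ := by
    have := norm_comm_sub_one_le U hU c x w
    have h0 := norm_nonneg (U x - c • (1 : E →L[ℂ] E))
    nlinarith
  have hz2 : x⁻¹ * z⁻¹ * x * z = 1 := by
    by_contra hne
    have : z ∈ s := ⟨hz1.trans hw1, hne⟩
    have := hmin z this
    linarith
  have hz3 : z * x = x * z := by
    have : x * z = z * x * (x⁻¹ * z⁻¹ * x * z) := by group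
    rw [this, hz2, mul_one]
  exact hw.2 (frob U hU hinj x w hz3 hw1)

end Unitary

end Cfsg.Agent.Lib.helper3.JordanU
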