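import Cfsg.Agent.Lib.helper3.JordanU2

/-! The abelian normal subgroup generated by the elements close to the identity in a unitary
representation, and the pigeonhole bound for abelian subgroups. -/

namespace Cfsg.Agent.Lib.helper3.JordanU

open Module Real
open scoped InnerProductSpace

section Box

/-- box index of a complex number by its argument: 12 arcs of length π/6. -/
noncomputable def boxN (μ : ℂ) : ℕ := ⌈(Complex.arg μ + π) * 6 / π⌉₊

theorem boxN_pos (μ : ℂ) : 0 < boxN μ := by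
  unfold boxN
  rw [Nat.ceil_pos]
  have := Complex.neg_pi_lt_arg μ
  have hp := Real.pi_pos
  exact div_pos (mul_pos (by linarith) (by norm_num)) hp

theorem boxN_le (μ : ℂ) : boxN μ ≤ 12 := by
  unfold boxN
  rw [Nat.ceil_le]
  have := Complex.arg_le_pi μ
  have hp := Real.pi_pos
  rw [div_le_iff₀ hp]
  push_cast
  nlinarith

theorem abs_arg_sub_lt (μ μ' : ℂ) (h : boxN μ = boxN μ') :
    |Complex.arg μ - Complex.arg μ'| < π / 6 := by
  have hp := Real.pi_pos
  have h1 := (Nat.ceil_eq_iff (boxN_pos μ).ne').1 (rfl : boxN μ = boxN μ)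
  have h2 := (Nat.ceil_eq_iff (boxN_pos μ').ne').1 (rfl : boxN μ' = boxN μ')
  rw [← h] at h2
  have hb : ((boxN μ - 1 : ℕ) : ℝ) = (boxN μ : ℝ) - 1 := by
    rw [Nat.cast_sub (boxN_pos μ)]; simp
  rw [hb] at h1 h2
  obtain ⟨h1a, h1b⟩ := h1
  obtain ⟨h2a, h2b⟩ := h2
  rw [lt_div_iff₀ hp] at h1a h2a
  rw [div_le_iff₀ hp] at h1b h2b
  rw [abs_lt]
  constructor <;> nlinarith

/-- The centre `√3/2` of the small disc. -/
noncomputable def cst : ℂ := ((√3 / 2 : ℝ) : ℂ)

theorem near_of_box (μ μ' : ℂ) (h1 : ‖μ‖ = 1) (h2 : ‖μ'‖ = 1) (h : boxN μ = boxN μ') :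
    ‖μ⁻¹ * μ' - cst‖ < 1 / 2 := by
  unfold cst
  have hμ0 : μ ≠ 0 := by
    intro h0; rw [h0, norm_zero] at h1; exact zero_ne_one h1
  have hμ'0 : μ' ≠ 0 := by
    intro h0; rw [h0, norm_zero] at h2; exact zero_ne_one h2
  have hc1 := Complex.cos_arg hμ0
  have hc2 := Complex.cos_arg hμ'0
  have hs1 := Complex.sin_arg μ
  have hs2 := Complex.sin_arg μ'
  rw [h1, div_one] at hc1 hs1
  rw [h2, div_one] at hc2 hs2
  have hcos : √3 / 2 < Real.cos (Complex.arg μ - Complex.arg μ') := by
    rw [← Real.cos_pi_div_six, ← Real.cos_abs (Complex.arg μ - Complex.arg μ')]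
    apply Real.cos_lt_cos_of_nonneg_of_le_pi (abs_nonneg _) _ (abs_arg_sub_lt μ μ' h)
    have := Real.pi_pos
    linarith
  rw [Real.cos_sub, hc1, hc2, hs1, hs2] at hcos
  rw [Complex.inv_eq_conj h1]
  have hn1 : μ.re * μ.re + μ.im * μ.im = 1 := by
    have := Complex.normSq_eq_norm_sq μ
    rw [h1, Complex.normSq_apply] at this
    linarith
  have hn2 : μ'.re * μ'.re + μ'.im * μ'.im = 1 := by
    have := Complex.normSq_eq_norm_sq μ'
    rw [h2, Complex.normSq_apply] at this
    linarith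
  have h3 : (3:ℝ) = √3 * √3 := (Real.mul_self_sqrt (by norm_num)).symm
  have h30 : 0 ≤ √3 := Real.sqrt_nonneg 3
  have hsq : ‖(starRingEnd ℂ) μ * μ' - ((√3 / 2 : ℝ) : ℂ)‖ ^ 2 < (1 / 2) ^ 2 := by
    rw [← Complex.normSq_eq_norm_sq, Complex.normSq_apply]
    simp only [Complex.sub_re, Complex.mul_re, Complex.conj_re, Complex.conj_im,
      Complex.ofReal_re, Complex.sub_im, Complex.mul_im, Complex.ofReal_im]
    have hRI : (μ.re * μ'.re + μ.im * μ'.im) * (μ.re * μ'.re + μ.im * μ'.im) +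
        (μ.re * μ'.im - μ.im * μ'.re) * (μ.re * μ'.im - μ.im * μ'.re) = 1 := by
      have : (μ.re * μ'.re + μ.im * μ'.im) * (μ.re * μ'.re + μ.im * μ'.im) +
        (μ.re * μ'.im - μ.im * μ'.re) * (μ.re * μ'.im - μ.im * μ'.re) =
        (μ.re * μ.re + μ.im * μ.im) * (μ'.re * μ'.re + μ'.im * μ'.im) := by ring
      rw [this, hn1, hn2, one_mul]
    have hs0 : 0 < √3 := by
      rcases h30.lt_or_eq with h | h
      · exact h
      · rw [← h] at h3; norm_num at h3
    have h4 := mul_lt_mul_of_pos_left hcos hs0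
    nlinarith
  exact lt_of_pow_lt_pow_left₀ 2 (by norm_num) hsq

theorem norm_cst_sub_one : ‖cst - 1‖ < 1 / 2 := by
  unfold cst
  have h3 : (3:ℝ) = √3 * √3 := (Real.mul_self_sqrt (by norm_num)).symm
  have h30 : 0 ≤ √3 := Real.sqrt_nonneg 3
  have e : (((√3 / 2 : ℝ) : ℂ) - 1) = ((√3 / 2 - 1 : ℝ) : ℂ) := by push_cast; ring
  rw [e, Complex.norm_real, Real.norm_eq_abs, abs_lt]
  constructor <;> nlinarith

end Box

section Eigen

variable {V : Type*} [AddCommGroup V] [Module ℂ V]

theorem eigenvalue_mem_of_basis {ι : Type*} (f : End ℂ V) (b : Basis ι ℂ V) (m : ι → ℂ)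
    (hb : ∀ j, f (b j) = m j • b j) (μ : ℂ) (u : V) (hu : u ≠ 0) (hfu : f u = μ • u) :
    ∃ j, m j = μ := by
  classical
  by_contra hcon
  push Not at hcon
  apply hu
  apply b.ext_elem
  intro j
  have h1 : (b.coord j).comp f = m j • b.coord j := by
    apply b.ext
    intro k
    rw [LinearMap.comp_apply, hb, map_smul, LinearMap.smul_apply, Basis.coord_apply,
      Basis.repr_self, Finsupp.single_apply]
    split_ifs with hkj
    · rw [hkj]
    · simp
  have h2 := LinearMap.congr_fun h1 u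
  rw [LinearMap.comp_apply, hfu, map_smul, LinearMap.smul_apply, Basis.coord_apply] at h2
  have h3 : (μ - m j) * b.repr u j = 0 := by
    rw [sub_mul]
    exact sub_eq_zero.2 h2
  rcases mul_eq_zero.1 h3 with h | h
  · exact absurd (sub_eq_zero.1 h).symm (hcon j)
  · simpa using h

end Eigen

section Unitary

variable {G : Type*} [Group G] {E : Type*} [NormedAddCommGroup E] [InnerProductSpace ℂ E]
  (U : G →* (E →L[ℂ] E)) (hU : ∀ g u v, ⟪U g u, U g v⟫_ℂ = ⟪u, v⟫_ℂ)

/-- The elements whose eigenvalues all have argument less than `π/6` in absolute value. -/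
def nearSet : Set G := {g | ‖U g - cst • (1 : E →L[ℂ] E)‖ < 1 / 2}

include hU

theorem nearSet_conj (g x : G) (hx : x ∈ nearSet U) : g * x * g⁻¹ ∈ nearSet U := by
  show ‖U (g * x * g⁻¹) - cst • (1 : E →L[ℂ] E)‖ < 1 / 2
  have e : U (g * x * g⁻¹) - cst • (1 : E →L[ℂ] E) =
      U g * ((U x - cst • (1 : E →L[ℂ] E)) * U g⁻¹) := by
    have e1 : U g * U g⁻¹ = 1 := by rw [← map_mul, mul_inv_cancel, map_one]
    rw [map_mul, map_mul, sub_mul, mul_sub, smul_mul_assoc, one_mul, mul_smul_comm, e1, mul_assoc]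
  rw [e, norm_mul_left U hU, norm_mul_right U hU]
  exact hx

theorem norm_sub_one_of_nearSet (y : G) (hy : y ∈ nearSet U) : ‖U y - 1‖ < 1 := by
  have e : U y - 1 = (U y - cst • (1 : E →L[ℂ] E)) + (cst - 1) • (1 : E →L[ℂ] E) := by
    rw [sub_smul, one_smul]; abel
  rw [e]
  refine (norm_add_le _ _).trans_lt ?_
  have h1 : ‖(cst - 1) • (1 : E →L[ℂ] E)‖ ≤ ‖cst - 1‖ := by
    rw [norm_smul]
    have : ‖(1 : E →L[ℂ] E)‖ ≤ 1 := ContinuousLinearMap.norm_id_le
    nlinarith [norm_nonneg (cst - 1)]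
  have h2 := norm_cst_sub_one
  have h3 : ‖U y - cst • (1 : E →L[ℂ] E)‖ < 1 / 2 := hy
  linarith

theorem nearSet_comm [Finite G] [FiniteDimensional ℂ E] (hinj : Function.Injective U)
    (x y : G) (hx : x ∈ nearSet U) (hy : y ∈ nearSet U) : x * y = y * x := by
  have h := comm_of_near U hU hinj cst x hx y (norm_sub_one_of_nearSet U hU y hy)
  have : x * y = y * x * (x⁻¹ * y⁻¹ * x * y) := by group
  rw [this, h, mul_one]

theorem closure_nearSet_normal : (Subgroup.closure (nearSet U)).Normal := by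
  constructor
  intro a ha g
  induction ha using Subgroup.closure_induction with
  | mem x hx => exact Subgroup.subset_closure (nearSet_conj U hU g x hx)
  | one => simp
  | mul x y _ _ hx hy =>
    have : g * (x * y) * g⁻¹ = (g * x * g⁻¹) * (g * y * g⁻¹) := by group
    rw [this]
    exact mul_mem hx hy
  | inv x _ hx =>
    have : g * x⁻¹ * g⁻¹ = (g * x * g⁻¹)⁻¹ := by group
    rw [this]
    exact inv_mem hx

theorem closure_nearSet_comm [Finite G] [FiniteDimensional ℂ E] (hinj : Function.Injective U) :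
    ∀ x ∈ Subgroup.closure (nearSet U), ∀ y ∈ Subgroup.closure (nearSet U), x * y = y * x := by
  intro x hx y hy
  have := Subgroup.isMulCommutative_closure (k := nearSet U)
    (fun a ha b hb => nearSet_comm U hU hinj a b ha hb)
  exact setLike_mul_comm hx hy

theorem index_le [Finite G] [FiniteDimensional ℂ E] (H : Subgroup G)
    (hH : ∀ x ∈ H, ∀ y ∈ H, x * y = y * x) :
    ((Subgroup.closure (nearSet U)).subgroupOf H).index ≤ 12 ^ finrank ℂ E := by
  classical
  obtain ⟨b, c, hbc⟩ := exists_joint_eigenbasis_of_pow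
    (fun h : H => toEnd U (h : G)) (by
      intro i j
      have : Commute (i : G) (j : G) := hH _ i.2 _ j.2
      exact this.map (toEnd U)) (Nat.card G) Nat.card_pos (by
      intro i
      rw [← map_pow, pow_card_eq_one', map_one])
  have hbc' : ∀ (h : H) j, U (h : G) (b j) = c h j • b j := hbc
  have hnorm : ∀ (h : H) j, ‖c h j‖ = 1 := fun h j =>
    norm_eigenvalue U hU h (c h j) (b j) (b.ne_zero j) (hbc' h j)
  have hkey : ∀ h h' : H, (∀ j, boxN (c h j) = boxN (c h' j)) →
      (h : G)⁻¹ * (h' : G) ∈ nearSet U := by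
    intro h h' hbox
    have hb2 : ∀ j, U ((h : G)⁻¹ * (h' : G)) (b j) = ((c h j)⁻¹ * c h' j) • b j := by
      intro j
      have h0 : c h j ≠ 0 := by
        intro h0
        have := hnorm h j
        rw [h0, norm_zero] at this
        exact zero_ne_one this
      have h1 : U (h : G)⁻¹ (b j) = (c h j)⁻¹ • b j := by
        have := congrArg (U (h : G)⁻¹) (hbc' h j)
        rw [inv_apply_apply, map_smul] at this
        rw [eq_comm, inv_smul_eq_iff₀ h0]
        exact this
      rw [map_mul]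
      show U (h : G)⁻¹ (U (h' : G) (b j)) = _
      rw [hbc', map_smul, h1, smul_smul, mul_comm]
    show ‖U ((h : G)⁻¹ * (h' : G)) - cst • (1 : E →L[ℂ] E)‖ < 1 / 2
    apply norm_sub_smul_lt U hU _ cst (1 / 2) (by norm_num)
    intro μ u hu hμ
    obtain ⟨j, hj⟩ := eigenvalue_mem_of_basis (toEnd U ((h : G)⁻¹ * (h' : G))) b
      (fun j => (c h j)⁻¹ * c h' j) hb2 μ u hu hμ
    rw [← hj]
    exact near_of_box _ _ (hnorm h j) (hnorm h' j) (hbox j)
  let A := (Subgroup.closure (nearSet U)).subgroupOf H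
  let Φ : H ⧸ A → (Fin (finrank ℂ E) → Fin 12) := fun q j =>
    ⟨boxN (c q.out j) - 1, by
      have := boxN_le (c q.out j); have := boxN_pos (c q.out j); omega⟩
  have hΦ : Function.Injective Φ := by
    intro q q' hqq
    have h1 : ∀ j, boxN (c q.out j) = boxN (c q'.out j) := by
      intro j
      have := congrArg Fin.val (congrFun hqq j)
      have h2 := boxN_pos (c q.out j)
      have h3 := boxN_pos (c q'.out j)
      simp only [Φ] at this
      omega
    have h2 := hkey _ _ h1
    have h3 : (q.out)⁻¹ * q'.out ∈ A := by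
      rw [Subgroup.mem_subgroupOf]
      exact Subgroup.subset_closure h2
    rw [← QuotientGroup.out_eq' q, ← QuotientGroup.out_eq' q']
    exact QuotientGroup.eq.2 h3
  have h1 := Nat.card_le_card_of_injective Φ hΦ
  rw [Nat.card_fun, Nat.card_fin, Nat.card_fin] at h1
  exact h1

end Unitary

end Cfsg.Agent.Lib.helper3.JordanU
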