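import Mathlib

/-! Weyl's unitarian trick: the averaged inner product of a complex representation of a finite
group on a coordinate space. -/

namespace Cfsg.Agent.Lib.helper3.JordanU

open Module
open scoped InnerProductSpace ComplexConjugate

/-- A copy of `Fin n → ℂ` carrying the averaged inner product of a representation. -/
def WSpace {G : Type*} [Group G] {n : ℕ} (_ρ : Representation ℂ G (Fin n → ℂ)) : Type :=
  Fin n → ℂ

namespace WSpace

variable {G : Type*} [Group G] {n : ℕ} (ρ : Representation ℂ G (Fin n → ℂ))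

instance : AddCommGroup (WSpace ρ) := inferInstanceAs (AddCommGroup (Fin n → ℂ))
instance : Module ℂ (WSpace ρ) := inferInstanceAs (Module ℂ (Fin n → ℂ))
instance : FiniteDimensional ℂ (WSpace ρ) := inferInstanceAs (FiniteDimensional ℂ (Fin n → ℂ))

/-- The identification with `Fin n → ℂ`. -/
def equiv : WSpace ρ ≃ₗ[ℂ] (Fin n → ℂ) := LinearEquiv.refl ℂ (Fin n → ℂ)

theorem finrank_eq : finrank ℂ (WSpace ρ) = n := by
  rw [(equiv ρ).finrank_eq]; simp

/-- the standard hermitian form -/
def form (a b : Fin n → ℂ) : ℂ := ∑ i, conj (a i) * b i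

theorem form_conj (a b : Fin n → ℂ) : conj (form b a) = form a b := by
  unfold form
  rw [map_sum]
  apply Finset.sum_congr rfl
  intro i _
  rw [map_mul, Complex.conj_conj, mul_comm]

theorem form_self_re (a : Fin n → ℂ) : (form a a).re = ∑ i, Complex.normSq (a i) := by
  unfold form
  rw [Complex.re_sum]
  apply Finset.sum_congr rfl
  intro i _
  rw [← Complex.normSq_eq_conj_mul_self, Complex.ofReal_re]

theorem form_self_im (a : Fin n → ℂ) : (form a a).im = 0 := by
  unfold form
  rw [Complex.im_sum]
  apply Finset.sum_eq_zero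
  intro i _
  rw [← Complex.normSq_eq_conj_mul_self, Complex.ofReal_im]

theorem form_self_nonneg (a : Fin n → ℂ) : 0 ≤ (form a a).re := by
  rw [form_self_re]
  exact Finset.sum_nonneg (fun i _ => Complex.normSq_nonneg _)

theorem form_self_eq_zero (a : Fin n → ℂ) (h : (form a a).re = 0) : a = 0 := by
  rw [form_self_re] at h
  rw [Finset.sum_eq_zero_iff_of_nonneg (fun i _ => Complex.normSq_nonneg _)] at h
  funext i
  exact Complex.normSq_eq_zero.1 (h i (Finset.mem_univ i))

theorem form_add_left (a b c : Fin n → ℂ) : form (a + b) c = form a c + form b c := by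
  unfold form
  rw [← Finset.sum_add_distrib]
  apply Finset.sum_congr rfl
  intro i _
  rw [Pi.add_apply, map_add, add_mul]

theorem form_smul_left (r : ℂ) (a c : Fin n → ℂ) : form (r • a) c = conj r * form a c := by
  unfold form
  rw [Finset.mul_sum]
  apply Finset.sum_congr rfl
  intro i _
  rw [Pi.smul_apply, smul_eq_mul, map_mul, mul_assoc]

variable [Finite G]

noncomputable instance core : InnerProductSpace.Core ℂ (WSpace ρ) where
  inner u v := ∑ᶠ g : G, form (ρ g (equiv ρ u)) (ρ g (equiv ρ v))
  conj_inner_symm u v := by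
    have := Fintype.ofFinite G
    simp only [finsum_eq_sum_of_fintype]
    rw [map_sum]
    exact Finset.sum_congr rfl (fun g _ => form_conj _ _)
  re_inner_nonneg u := by
    have := Fintype.ofFinite G
    simp only [finsum_eq_sum_of_fintype]
    rw [map_sum]
    exact Finset.sum_nonneg (fun g _ => form_self_nonneg _)
  add_left u v w := by
    have := Fintype.ofFinite G
    simp only [finsum_eq_sum_of_fintype]
    rw [← Finset.sum_add_distrib]
    refine Finset.sum_congr rfl (fun g _ => ?_)
    rw [map_add, map_add, form_add_left]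
  smul_left u v r := by
    have := Fintype.ofFinite G
    simp only [finsum_eq_sum_of_fintype]
    rw [Finset.mul_sum]
    refine Finset.sum_congr rfl (fun g _ => ?_)
    rw [map_smul, map_smul, form_smul_left]
  definite u h := by
    have := Fintype.ofFinite G
    simp only [finsum_eq_sum_of_fintype] at h
    have h1 := congrArg Complex.re h
    rw [Complex.re_sum, Complex.zero_re,
      Finset.sum_eq_zero_iff_of_nonneg (fun g _ => form_self_nonneg _)] at h1
    have h2 := h1 1 (Finset.mem_univ _)
    rw [map_one] at h2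
    have h3 := form_self_eq_zero _ h2
    exact (equiv ρ).injective (by simpa using h3)

noncomputable instance : NormedAddCommGroup (WSpace ρ) :=
  InnerProductSpace.Core.toNormedAddCommGroup (𝕜 := ℂ)

noncomputable instance : InnerProductSpace ℂ (WSpace ρ) :=
  InnerProductSpace.ofCore _

theorem inner_def (u v : WSpace ρ) :
    ⟪u, v⟫_ℂ = ∑ᶠ g : G, form (ρ g (equiv ρ u)) (ρ g (equiv ρ v)) := rfl

noncomputable def U : G →* (WSpace ρ →L[ℂ] WSpace ρ) :=
  (Module.End.toContinuousLinearMap (WSpace ρ)).toAlgHom.toRingHom.toMonoidHom.comp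
    ((LinearEquiv.conjAlgEquiv ℂ (equiv ρ).symm).toAlgHom.toRingHom.toMonoidHom.comp ρ)

theorem U_apply (g : G) (v : WSpace ρ) : U ρ g v = (equiv ρ).symm (ρ g (equiv ρ v)) := rfl

theorem inner_U (g : G) (u v : WSpace ρ) : ⟪U ρ g u, U ρ g v⟫_ℂ = ⟪u, v⟫_ℂ := by
  rw [inner_def, inner_def]
  conv_rhs => rw [← finsum_comp_equiv (Equiv.mulRight g)]
  refine finsum_congr (fun k => ?_)
  simp only [U_apply, LinearEquiv.apply_symm_apply, Equiv.coe_mulRight, map_mul,
    Module.End.mul_apply]

theorem U_eq_one_iff (g : G) : U ρ g = 1 ↔ ρ g = 1 := by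
  constructor
  · intro h
    refine LinearMap.ext (fun v => ?_)
    have := congrArg (fun T : WSpace ρ →L[ℂ] WSpace ρ => equiv ρ (T ((equiv ρ).symm v))) h
    simp only [U_apply, LinearEquiv.apply_symm_apply] at this
    rw [this]
    rfl
  · intro h
    ext v
    rw [U_apply, h]
    rfl

end WSpace

end Cfsg.Agent.Lib.helper3.JordanU
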