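import Mathlib
import Cfsg.Agent.Lib.helper3.SP37

/-!
# Local blocks for abelian defect groups: nilpotency through the inertial quotient
-/

set_option autoImplicit false
set_option linter.style.haveILetI false
set_option linter.unusedSectionVars false

namespace Cfsg.Agent.Lib.helper3.Block

open Cfsg Module Cfsg.Agent.Lib.helper3.CharBasic Cfsg.Agent.Lib.helper3.Irr
open Cfsg.Agent.Lib.helper3.Central Cfsg.Agent.Lib.helper3.LocalM Cfsg.Agent.Lib.helper3.IndFun
open Cfsg.Agent.Lib.helper3.Lin
open scoped ComplexConjugate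

universe u

variable {G : Type u} [Group G] [Fintype G] {M : Ideal AlgInt}

theorem isPGroup_of_map_subtype {p : ℕ} (H : Subgroup G) (D' : Subgroup ↥H)
    (hP : IsPGroup p (D'.map H.subtype : Subgroup G)) : IsPGroup p D' :=
  hP.of_injective (Subgroup.equivMapOfInjective D' H.subtype H.subtype_injective).toMonoidHom
    (Subgroup.equivMapOfInjective D' H.subtype H.subtype_injective).injective

open Classical in
/-- The block of `H` induced (inside `H`) by the block `c` of `C_G(P)`, where `c` induces a block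
of `G` with defect group `P`, has maximal Brauer pair `(P, c)`. -/
theorem isMaximalBrauerPair_downT_of_induced {p : ℕ} [hp : Fact p.Prime] (hM : IsPModular p M)
    (B : Set (IrrCharacter G)) (hB : IsPBlock M B) (H : Subgroup G) (D' : Subgroup ↥H)
    (hX : Subgroup.centralizer ((D'.map H.subtype : Subgroup G) : Set G) ≤ H)
    (hPD : IsDefectGroup p M B (D'.map H.subtype))
    (c : Set (IrrCharacter ↥(Subgroup.centralizer ((D'.map H.subtype : Subgroup G) : Set G))))
    (hc : IsInducedBlock M (Subgroup.centralizer ((D'.map H.subtype : Subgroup G) : Set G)) c B)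
    (f : Set (IrrCharacter H))
    (hf : IsInducedBlockIn M H
      (Subgroup.centralizer ((D'.map H.subtype : Subgroup G) : Set G)) c f) :
    IsMaximalBrauerPair p M f (downT H D' hX c).1 (downT H D' hX c).2 := by
  haveI hMp := isPrime_of_isPModular hM
  have hP : IsPGroup p (D'.map H.subtype : Subgroup G) := isPGroup_of_isDefectGroup hPD
  have hD' : IsPGroup p D' := isPGroup_of_map_subtype H D' hP
  have hα : IsInducedBlock M (Subgroup.centralizer (D' : Set ↥H)) (downT H D' hX c).2 f := by
    have := (isInducedBlockIn_iff H _ _ (cSubEquiv H D' hX) (fun m => rfl) c hc.1 f).mp hf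
    have hsnd : (downT H D' hX c).2 = irrCongr (cSubEquiv H D' hX) '' c := by
      show @irrCongr _ _ _ _ (Fintype.ofFinite _) (Fintype.ofFinite _) (cSubEquiv H D' hX) '' c = _
      congr!
    rw [hsnd]
    exact this
  have hBP' : IsBrauerPairOf p M f D' (downT H D' hX c).2 :=
    isBrauerPairOf_of_isInducedBlock hM D' hD' f _ hα
  have hBP : IsBrauerPairOf p M B _ c := isBrauerPairOf_of_isInducedBlock hM _ hP B c hc
  have hmaxG := isMaximalBrauerPair_of_isDefectGroup hM B _ c hPD hBP
  refine ⟨hBP', ?_⟩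
  intro R' g' hR'g' hle
  have hle1 : Relation.ReflTransGen (NormalSubpairRel p M) (downT H D' hX c) ⟨R', g'⟩ := hle
  have h1 := reflTransGen_upT H (downT H D' hX c) ⟨R', g'⟩ hX hle1
  rw [upT_downT] at h1
  have hDR : D' ≤ R' := fst_le_of_reflTransGen' hle1
  have hXR : Subgroup.centralizer ((R'.map H.subtype : Subgroup G) : Set G) ≤ H :=
    (Subgroup.centralizer_le (by exact_mod_cast (Subgroup.map_mono hDR))).trans hX
  rw [upT_eq H R' g' hXR] at h1
  have hR₀ : IsPGroup p (R'.map H.subtype : Subgroup G) := hR'g'.1.1.map _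
  have hg₀ := @isPBlock_image_irrCongr _ _ _ _ (Fintype.ofFinite _) (Fintype.ofFinite _) M
    (cSubEquiv H R' hXR).symm g' hR'g'.1.2
  have hBR := (Cfsg.Agent.S4658.result p M hM (R'.map H.subtype) (D'.map H.subtype) _ c
    ⟨hR₀, hg₀⟩ hBP.1 h1 B hB).mpr hBP
  have := hmaxG.2 _ _ hBR h1
  exact Subgroup.map_injective H.subtype_injective this

open Classical in
/-- Nilpotency of the local block through the inertial quotient, for abelian `P`. -/
theorem isNilpotentBlock_local_iff {p : ℕ} [hp : Fact p.Prime] (hM : IsPModular p M)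
    (B : Set (IrrCharacter G)) (hB : IsPBlock M B) (H : Subgroup G) (D' : Subgroup ↥H)
    (hX : Subgroup.centralizer ((D'.map H.subtype : Subgroup G) : Set G) ≤ H)
    (hPD : IsDefectGroup p M B (D'.map H.subtype))
    (hab : ∀ x ∈ (D'.map H.subtype : Subgroup G), ∀ y ∈ (D'.map H.subtype : Subgroup G),
      x * y = y * x)
    (c : Set (IrrCharacter ↥(Subgroup.centralizer ((D'.map H.subtype : Subgroup G) : Set G))))
    (hc : IsInducedBlock M (Subgroup.centralizer ((D'.map H.subtype : Subgroup G) : Set G)) c B)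
    (f : Set (IrrCharacter H))
    (hf : IsInducedBlockIn M H
      (Subgroup.centralizer ((D'.map H.subtype : Subgroup G) : Set G)) c f) :
    IsNilpotentBlock p M f ↔ ∀ g : G, g ∈ H →
      g ∈ Subgroup.normalizer ((D'.map H.subtype : Subgroup G) : Set G) →
      StabilizesBlock (Subgroup.centralizer ((D'.map H.subtype : Subgroup G) : Set G)) c g →
      g ∈ Subgroup.centralizer ((D'.map H.subtype : Subgroup G) : Set G) := by
  haveI hMp := isPrime_of_isPModular hM
  have hmax' := isMaximalBrauerPair_downT_of_induced hM B hB H D' hX hPD c hc f hf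
  have hab' : ∀ x ∈ D', ∀ y ∈ D', x * y = y * x := by
    intro x hx y hy
    apply Subtype.ext
    rw [Subgroup.coe_mul, Subgroup.coe_mul]
    exact hab x ⟨x, hx, rfl⟩ y ⟨y, hy, rfl⟩
  have hS := Cfsg.Agent.S4687.result p M hM f D' (downT H D' hX c).2 hmax' hab'
  rw [hS]
  have hc' : IsPBlock M (downT H D' hX c).2 := hmax'.1.1.2
  have hXc : ∀ n' : ↥H, Subgroup.centralizer
      ((((conjIdx n' (downT H D' hX c)).1.map H.subtype : Subgroup G)) : Set G) ≤ H := by
    intro n'
    show Subgroup.centralizer
      ((((D'.map (MulAut.conj n').toMonoidHom).map H.subtype : Subgroup G)) : Set G) ≤ _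
    rw [map_subtype_map_conj]
    exact centralizer_map_conj_le _ (n' : G) n'.2 _ hX
  constructor
  · intro h g hgH hgN hgst
    have e1 := conjIdx_eq_of_stabilizesBlock (D'.map H.subtype) c hc.1 g hgN hgst
    have h1 := upT_conjIdx H (⟨g, hgH⟩ : ↥H) (downT H D' hX c) hX
    rw [upT_downT] at h1
    have h2 : upT H (conjIdx (⟨g, hgH⟩ : ↥H) (downT H D' hX c)) = upT H (downT H D' hX c) := by
      rw [h1, upT_downT]
      exact e1
    have h3 := upT_injective H _ _ (hXc _) hX h2
    obtain ⟨hxN, hxst⟩ := stabilizesBlock_of_conjIdx_eq D' (downT H D' hX c).2 (⟨g, hgH⟩ : ↥H) h3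
    have := h ⟨g, hgH⟩ hxN hxst
    exact (mem_centralizer_map_subtype_iff H D' hX g).mpr ⟨hgH, this⟩
  · intro h x hxN hxst
    have e1 := conjIdx_eq_of_stabilizesBlock D' (downT H D' hX c).2 hc' x hxN hxst
    have e1' : conjIdx x (downT H D' hX c) = downT H D' hX c := e1
    have h1 := upT_conjIdx H x (downT H D' hX c) hX
    rw [e1', upT_downT] at h1
    obtain ⟨hgN, hgst⟩ := stabilizesBlock_of_conjIdx_eq _ c (x : G) h1.symm
    have := h (x : G) x.2 hgN hgst
    obtain ⟨_, h5⟩ := (mem_centralizer_map_subtype_iff H D' hX _).mp this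
    exact h5

open Classical in
/-- The block induced inside `H` by a block of `C_G(P)`, `C_G(P) ≤ H`, exists. -/
theorem exists_isInducedBlockIn {p : ℕ} [hp : Fact p.Prime] (hM : IsPModular p M)
    (H : Subgroup G) (D' : Subgroup ↥H)
    (hX : Subgroup.centralizer ((D'.map H.subtype : Subgroup G) : Set G) ≤ H)
    (hP : IsPGroup p (D'.map H.subtype : Subgroup G))
    (c : Set (IrrCharacter ↥(Subgroup.centralizer ((D'.map H.subtype : Subgroup G) : Set G))))
    (hc : IsPBlock M c) :
    ∃ f : Set (IrrCharacter H), IsInducedBlockIn M H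
      (Subgroup.centralizer ((D'.map H.subtype : Subgroup G) : Set G)) c f := by
  have hD' : IsPGroup p D' := isPGroup_of_map_subtype H D' hP
  obtain ⟨f, hf, -⟩ := Cfsg.Agent.S4657.result p M hM D' (irrCongr (cSubEquiv H D' hX) '' c)
    ⟨hD', isPBlock_image_irrCongr _ _ hc⟩
  have := isInducedBlock_of_isBrauerPairOf hM D' f _ hf
  exact ⟨f, (isInducedBlockIn_iff H _ _ (cSubEquiv H D' hX) (fun m => rfl) c hc f).mpr this⟩

end Cfsg.Agent.Lib.helper3.Block
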