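import Mathlib
import Cfsg.Agent.Lib.helper3.SP19
import Cfsg.Agent.Lib.helper3.SP38
import Cfsg.Agent.Lib.helper3.Weight3

/-!
# Klein four defect groups: preparations for counting the subsections
-/

set_option autoImplicit false
set_option linter.style.haveILetI false
set_option linter.unusedSectionVars false

namespace Cfsg.Agent.Lib.helper3.Block

open Cfsg Module Cfsg.Agent.Lib.helper3.CharBasic Cfsg.Agent.Lib.helper3.Irr
open Cfsg.Agent.Lib.helper3.Central Cfsg.Agent.Lib.helper3.LocalM Cfsg.Agent.Lib.helper3.IndFun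
open Cfsg.Agent.Lib.helper3.Lin
open scoped ComplexConjugate

universe u

variable {G : Type u} [Group G] [Fintype G] {M : Ideal AlgInt}

set_option maxHeartbeats 800000 in
open Classical in
/-- Abelian defect group, two pair version: if `(Q, f)` lies below `(P, e)` and below the
`t`-conjugate of `(P, e)`, then up to an element of `C_G(Q)` the element `t` lies in the
stabilizer of `(P, e)`. -/
theorem exists_centralizer_mul_of_abelian_two {p : ℕ} [hp : Fact p.Prime] (hM : IsPModular p M)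
    (B : Set (IrrCharacter G)) (P : Subgroup G)
    (e : Set (IrrCharacter (Subgroup.centralizer (P : Set G))))
    (hmax : IsMaximalBrauerPair p M B P e) (hab : ∀ x ∈ P, ∀ y ∈ P, x * y = y * x)
    (Q : Subgroup G) (f : Set (IrrCharacter (Subgroup.centralizer (Q : Set G))))
    (hf : IsPBlock M f) (hle : SubpairLE p M Q f P e) (t : G)
    (hle₂ : Relation.ReflTransGen (NormalSubpairRel p M) (⟨Q, f⟩ : BrauerPairIdx G)
      (conjIdx t ⟨P, e⟩)) :
    ∃ c ∈ Subgroup.centralizer (Q : Set G), c * t ∈ Subgroup.normalizer (P : Set G) ∧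
      StabilizesBlock (Subgroup.centralizer (P : Set G)) e (c * t) := by
  haveI hMp := isPrime_of_isPModular hM
  haveI : Fintype ↥(Subgroup.centralizer (Q : Set G)) := Fintype.ofFinite _
  obtain ⟨hBe, hmax2⟩ := id hmax
  obtain ⟨hPe, hB, -⟩ := id hBe
  have hle' : Relation.ReflTransGen (NormalSubpairRel p M) (⟨Q, f⟩ : BrauerPairIdx G) ⟨P, e⟩ := hle
  have hQP : Q ≤ P := fst_le_of_reflTransGen hle'
  have hPH : P ≤ Subgroup.centralizer (Q : Set G) := by
    intro x hx
    rw [Subgroup.mem_centralizer_iff]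
    intro q hq
    exact hab q (hQP hq) x hx
  have hQP₂ : Q ≤ (conjIdx t (⟨P, e⟩ : BrauerPairIdx G)).1 := fst_le_of_reflTransGen hle₂
  have hP₂H : (conjIdx t (⟨P, e⟩ : BrauerPairIdx G)).1 ≤ Subgroup.centralizer (Q : Set G) := by
    rintro _ ⟨x, hx, rfl⟩
    rw [Subgroup.mem_centralizer_iff]
    intro q hq
    obtain ⟨y, hy, rfl⟩ := hQP₂ hq
    show t * y * t⁻¹ * (t * x * t⁻¹) = t * x * t⁻¹ * (t * y * t⁻¹)
    have e1 : t * y * t⁻¹ * (t * x * t⁻¹) = t * (y * x) * t⁻¹ := by group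
    have e2 : t * x * t⁻¹ * (t * y * t⁻¹) = t * (x * y) * t⁻¹ := by group
    rw [e1, e2, hab y hy x hx]
  have hPe₂ : IsBrauerPair p M (conjIdx t (⟨P, e⟩ : BrauerPairIdx G)).1
      (conjIdx t (⟨P, e⟩ : BrauerPairIdx G)).2 :=
    isBrauerPair_of_reflTransGen hle₂ ⟨hPe.1.to_le hQP, hf⟩
  have hn₁ : NormalSubpairRel p M (⟨Q, f⟩ : BrauerPairIdx G) ⟨P, e⟩ :=
    normalSubpairRel_of_reflTransGen hM _ _ hPe hle'
      (hPH.trans (Subgroup.centralizer_le_normalizer _))
  have hn₂ : NormalSubpairRel p M (⟨Q, f⟩ : BrauerPairIdx G) (conjIdx t ⟨P, e⟩) :=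
    normalSubpairRel_of_reflTransGen hM _ _ hPe₂ hle₂
      (hP₂H.trans (Subgroup.centralizer_le_normalizer _))
  obtain ⟨D₁', hX₁, g₁, heq₁, hb₁⟩ := exists_downT_centralizer Q f hf _ hQP hPH hn₁
  obtain ⟨D₂', hX₂, g₂, heq₂, hb₂⟩ := exists_downT_centralizer Q f hf _ hQP₂ hP₂H hn₂
  obtain ⟨m₁, hm₁, hbm₁⟩ := exists_maximal_above (M := M) (p := p) f _
    (downT _ D₁' hX₁ g₁) rfl hb₁
  obtain ⟨c, hc⟩ := Cfsg.Agent.S4660.result p M hM f m₁.1 (downT _ D₂' hX₂ g₂).1 m₁.2
    (downT _ D₂' hX₂ g₂).2 hm₁ hb₂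
  have hc' : Relation.ReflTransGen (NormalSubpairRel p M) (conjIdx c (downT _ D₂' hX₂ g₂)) m₁ := hc
  -- lift to `G`
  have hXc : Subgroup.centralizer
      ((((conjIdx c (downT _ D₂' hX₂ g₂)).1.map
        (Subgroup.centralizer (Q : Set G)).subtype : Subgroup G)) : Set G)
        ≤ Subgroup.centralizer (Q : Set G) := by
    show Subgroup.centralizer
      ((((D₂'.map (MulAut.conj c).toMonoidHom).map
        (Subgroup.centralizer (Q : Set G)).subtype : Subgroup G)) : Set G) ≤ _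
    rw [map_subtype_map_conj]
    exact centralizer_map_conj_le _ (c : G) c.2 _ hX₂
  have hup₂ := reflTransGen_upT (M := M) (p := p) _ _ _ hXc hc'
  rw [upT_conjIdx _ c _ hX₂, upT_downT, heq₂, conjIdx_mul] at hup₂
  have hup₁ := reflTransGen_upT (M := M) (p := p) _ _ _ hX₁ hbm₁
  rw [upT_downT, heq₁] at hup₁
  obtain ⟨R, r, hRr⟩ : ∃ (R : Subgroup G)
      (r : Set (IrrCharacter (Subgroup.centralizer (R : Set G)))),
      upT (Subgroup.centralizer (Q : Set G)) m₁ = ⟨R, r⟩ := ⟨_, _, rfl⟩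
  rw [hRr] at hup₁ hup₂
  have hRr' : IsBrauerPair p M R r := isBrauerPair_of_reflTransGen hup₁ hPe
  have hRB : IsBrauerPairOf p M B R r :=
    (Cfsg.Agent.S4658.result p M hM R P r e hRr' hPe hup₁ B hB).mpr hBe
  have hRP : R = P := hmax2 R r hRB hup₁
  have hle3 : (conjIdx (↑c * t) (⟨P, e⟩ : BrauerPairIdx G)).1 ≤ R := fst_le_of_reflTransGen hup₂
  have hfst : (conjIdx (↑c * t) (⟨P, e⟩ : BrauerPairIdx G)).1 = P := by
    rw [hRP] at hle3
    apply Subgroup.eq_of_le_of_card_ge hle3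
    show Nat.card P ≤ Nat.card ↥(P.map (MulAut.conj (↑c * t)).toMonoidHom)
    rw [Subgroup.card_map_of_injective (MulAut.conj (↑c * t)).injective]
  have hfin : conjIdx (↑c * t) (⟨P, e⟩ : BrauerPairIdx G) = ⟨P, e⟩ :=
    subpair_unique hM _ ⟨R, r⟩ rfl _ _ hup₂ hup₁ hfst
  exact ⟨c, c.2, stabilizesBlock_of_conjIdx_eq P e _ hfin⟩

/-- An element of `C_G(Q)` fixes every Brauer pair on `Q`. -/
theorem conjIdx_eq_of_mem_centralizer [hMp : M.IsPrime] (Q : Subgroup G)
    (f : Set (IrrCharacter (Subgroup.centralizer (Q : Set G)))) (hf : IsPBlock M f) (g : G)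
    (hg : g ∈ Subgroup.centralizer (Q : Set G)) :
    conjIdx g (⟨Q, f⟩ : BrauerPairIdx G) = ⟨Q, f⟩ :=
  conjIdx_eq_of_stabilizesBlock Q f hf g (Subgroup.centralizer_le_normalizer _ hg)
    (stabilizesBlock_of_mem_self _ f g hg)

open Classical in
/-- A system of representatives of the conjugacy classes of `p`-elements. -/
theorem exists_rep_system (p : ℕ) :
    ∃ X : Finset G, (∀ x ∈ X, ∃ k : ℕ, orderOf x = p ^ k) ∧
      ∀ g : G, (∃ k : ℕ, orderOf g = p ^ k) → ∃! x, x ∈ X ∧ IsConj g x := by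
  obtain ⟨rep, hrep⟩ : ∃ rep : ConjClasses G → G, ∀ C, ConjClasses.mk (rep C) = C :=
    ⟨fun C => (ConjClasses.exists_rep C).choose, fun C => (ConjClasses.exists_rep C).choose_spec⟩
  refine ⟨(Finset.univ.filter (fun C : ConjClasses G =>
    ∃ k : ℕ, orderOf (rep C) = p ^ k)).image rep, ?_, ?_⟩
  · intro x hx
    rw [Finset.mem_image] at hx
    obtain ⟨C, hC, rfl⟩ := hx
    rw [Finset.mem_filter] at hC
    exact hC.2
  · intro g hg
    have hconj : IsConj g (rep (ConjClasses.mk g)) := by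
      rw [← ConjClasses.mk_eq_mk_iff_isConj]
      exact (hrep (ConjClasses.mk g)).symm
    refine ⟨rep (ConjClasses.mk g), ⟨?_, hconj⟩, ?_⟩
    · rw [Finset.mem_image]
      refine ⟨ConjClasses.mk g, ?_, rfl⟩
      rw [Finset.mem_filter]
      refine ⟨Finset.mem_univ _, ?_⟩
      obtain ⟨k, hk⟩ := hg
      refine ⟨k, ?_⟩
      obtain ⟨c, hc⟩ := isConj_iff.mp hconj
      have := (MulAut.conj c).orderOf_eq g
      rw [MulAut.conj_apply, hc] at this
      rw [this, hk]
    · rintro y ⟨hyX, hgy⟩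
      rw [Finset.mem_image] at hyX
      obtain ⟨C, -, rfl⟩ := hyX
      congr 1
      have : ConjClasses.mk g = ConjClasses.mk (rep C) :=
        ConjClasses.mk_eq_mk_iff_isConj.mpr hgy
      rw [this]
      exact (hrep C).symm

/-- Transport of a set of irreducible characters along an equality of subgroups. -/
def castBlock {H₁ H₂ : Subgroup G} (h : H₁ = H₂) (b : Set (IrrCharacter H₁)) :
    Set (IrrCharacter H₂) := h ▸ b

theorem castBlock_injective {H₁ H₂ : Subgroup G} (h : H₁ = H₂) :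
    Function.Injective (castBlock h) := by
  subst h
  exact fun _ _ h => h

theorem isInducedBlock_castBlock {H₁ H₂ : Subgroup G} (h : H₁ = H₂) (b : Set (IrrCharacter H₁))
    (B : Set (IrrCharacter G)) :
    IsInducedBlock M H₂ (castBlock h b) B ↔ IsInducedBlock M H₁ b B := by
  subst h
  exact Iff.rfl

theorem castBlock_surjective {H₁ H₂ : Subgroup G} (h : H₁ = H₂) :
    Function.Surjective (castBlock h) := by
  subst h
  exact fun b => ⟨b, rfl⟩

end Cfsg.Agent.Lib.helper3.Block
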