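import Mathlib
import Cfsg.Agent.Lib.helper3.K4S1
import Cfsg.Agent.S4655

/-!
# Pairs below a maximal pair with an abelian defect group: conjugacy
-/

set_option autoImplicit false
set_option linter.style.haveILetI false
set_option linter.unusedSectionVars false

namespace Cfsg.Agent.Lib.helper3.Block

open Cfsg Module Cfsg.Agent.Lib.helper3.CharBasic Cfsg.Agent.Lib.helper3.Irr
open Cfsg.Agent.Lib.helper3.Central Cfsg.Agent.Lib.helper3.LocalM Cfsg.Agent.Lib.helper3.IndFun
open Cfsg.Agent.Lib.helper3.Lin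
open scoped ComplexConjugate

universe u

variable {G : Type u} [Group G] [Fintype G] {M : Ideal AlgInt}

section below

variable {p : ℕ} [hp : Fact p.Prime] (hM : IsPModular p M) (B : Set (IrrCharacter G))
  (P : Subgroup G) (c : Set (IrrCharacter (Subgroup.centralizer (P : Set G))))
  (hmax : IsMaximalBrauerPair p M B P c)

include hM hmax

theorem isBrauerPairOf_of_below (a : BrauerPairIdx G)
    (ha : Relation.ReflTransGen (NormalSubpairRel p M) a ⟨P, c⟩) :
    IsBrauerPairOf p M B a.1 a.2 := by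
  obtain ⟨hBe, -⟩ := id hmax
  obtain ⟨hPe, hB, -⟩ := id hBe
  obtain ⟨Q, f⟩ := a
  have hQf : IsBrauerPair p M Q f := isBrauerPair_of_reflTransGen_left ha hPe
  exact (Cfsg.Agent.S4658.result p M hM P Q c f hPe hQf ha B hB).mp hBe

theorem exists_below_of_le (Q : Subgroup G) (hQP : Q ≤ P) :
    ∃ a : BrauerPairIdx G, a.1 = Q ∧
      Relation.ReflTransGen (NormalSubpairRel p M) a ⟨P, c⟩ := by
  obtain ⟨hBe, -⟩ := id hmax
  obtain ⟨hPe, hB, -⟩ := id hBe
  obtain ⟨f, ⟨-, hf⟩, -⟩ := Cfsg.Agent.S4655.result p M hM P Q c hPe hQP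
  exact ⟨⟨Q, f⟩, rfl, hf⟩

theorem below_unique (a a' : BrauerPairIdx G)
    (ha : Relation.ReflTransGen (NormalSubpairRel p M) a ⟨P, c⟩)
    (ha' : Relation.ReflTransGen (NormalSubpairRel p M) a' ⟨P, c⟩) (h : a.1 = a'.1) : a = a' :=
  subpair_unique hM _ ⟨P, c⟩ rfl a a' ha ha' h

theorem exists_conj_below (a : BrauerPairIdx G) (ha : IsBrauerPairOf p M B a.1 a.2) :
    ∃ g : G, Relation.ReflTransGen (NormalSubpairRel p M) (conjIdx g a) ⟨P, c⟩ := by
  obtain ⟨Q, f⟩ := a
  obtain ⟨g, hg⟩ := Cfsg.Agent.S4660.result p M hM B P Q c f hmax ha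
  exact ⟨g, hg⟩

theorem below_conj_of_stab (a : BrauerPairIdx G)
    (ha : Relation.ReflTransGen (NormalSubpairRel p M) a ⟨P, c⟩) (t : G)
    (htN : t ∈ Subgroup.normalizer (P : Set G))
    (htst : StabilizesBlock (Subgroup.centralizer (P : Set G)) c t) :
    Relation.ReflTransGen (NormalSubpairRel p M) (conjIdx t a) ⟨P, c⟩ := by
  haveI hMp := isPrime_of_isPModular hM
  obtain ⟨hBe, -⟩ := id hmax
  obtain ⟨hPe, hB, -⟩ := id hBe
  have h1 := reflTransGen_conjIdx (M := M) (p := p) t ha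
  rwa [conjIdx_eq_of_stabilizesBlock P c hPe.2 t htN htst] at h1

theorem exists_stab_of_conj_below (hab : ∀ x ∈ P, ∀ y ∈ P, x * y = y * x)
    (a a' : BrauerPairIdx G)
    (ha : Relation.ReflTransGen (NormalSubpairRel p M) a ⟨P, c⟩)
    (ha' : Relation.ReflTransGen (NormalSubpairRel p M) a' ⟨P, c⟩) (g : G)
    (hg : a' = conjIdx g a) :
    ∃ c₀ ∈ Subgroup.centralizer (a'.1 : Set G), c₀ * g ∈ Subgroup.normalizer (P : Set G) ∧
      StabilizesBlock (Subgroup.centralizer (P : Set G)) c (c₀ * g) := by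
  obtain ⟨hBe, -⟩ := id hmax
  obtain ⟨hPe, hB, -⟩ := id hBe
  obtain ⟨Q', f'⟩ := a'
  have hQf' : IsBrauerPair p M Q' f' := isBrauerPair_of_reflTransGen_left ha' hPe
  have hle₂ : Relation.ReflTransGen (NormalSubpairRel p M) (⟨Q', f'⟩ : BrauerPairIdx G)
      (conjIdx g ⟨P, c⟩) := by
    rw [hg]
    exact reflTransGen_conjIdx (M := M) (p := p) g ha
  exact exists_centralizer_mul_of_abelian_two hM B P c hmax hab Q' f' hQf'.2 ha' g hle₂

end below

/-- Two elements of order two generating the same subgroup are equal. -/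
theorem eq_of_zpowers_eq_of_orderOf_two {u v : G} (hu : orderOf u = 2) (hv : orderOf v = 2)
    (h : Subgroup.zpowers u = Subgroup.zpowers v) : u = v := by
  have h1 : u ∈ Subgroup.zpowers v := by
    rw [← h]
    exact Subgroup.mem_zpowers u
  classical
  rw [mem_zpowers_iff_mem_range_orderOf, hv] at h1
  obtain ⟨k, hk, hku⟩ := Finset.mem_image.mp h1
  rw [Finset.mem_range] at hk
  interval_cases k
  · exfalso
    rw [pow_zero] at hku
    rw [← hku, orderOf_one] at hu
    omega
  · rw [pow_one] at hku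
    exact hku.symm

theorem map_conj_zpowers (g y : G) :
    (Subgroup.zpowers y).map (MulAut.conj g).toMonoidHom = Subgroup.zpowers (g * y * g⁻¹) := by
  rw [MonoidHom.map_zpowers]
  rfl

theorem castBlock_castBlock {H₁ H₂ : Subgroup G} (h : H₁ = H₂) (h' : H₂ = H₁)
    (b : Set (IrrCharacter H₁)) : castBlock h' (castBlock h b) = b := by
  subst h
  rfl

end Cfsg.Agent.Lib.helper3.Block
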