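import Mathlib
import Cfsg.Agent.Lib.helper3.K4S2
import Cfsg.Agent.Lib.helper3.SecMain11
import Cfsg.Agent.Lib.helper3.BrauerPairInd

/-!
# Counting the nontrivial subsections of a block with an abelian defect group of exponent two
-/

set_option autoImplicit false
set_option linter.style.haveILetI false
set_option linter.unusedSectionVars false

namespace Cfsg.Agent.Lib.helper3.Block

open Cfsg Module Cfsg.Agent.Lib.helper3.CharBasic Cfsg.Agent.Lib.helper3.Irr
open Cfsg.Agent.Lib.helper3.Central Cfsg.Agent.Lib.helper3.LocalM Cfsg.Agent.Lib.helper3.IndFun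
open Cfsg.Agent.Lib.helper3.Lin
open scoped ComplexConjugate

universe u

variable {G : Type u} [Group G] [Fintype G]

/-- The index type of the nontrivial subsections `(x, b)` of `B` with `x` in the system `X`. -/
abbrev Subsec (M : Ideal AlgInt) (B : Set (IrrCharacter G)) (X : Finset G) : Type u :=
  Σ x : {x : G // x ∈ X ∧ x ≠ 1},
    {b : Set (IrrCharacter (Subgroup.centralizer ({x.1} : Set G))) //
      IsInducedBlock M (Subgroup.centralizer ({x.1} : Set G)) b B}

/-- The Brauer pair of a subsection. -/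
def pairOf {M : Ideal AlgInt} {B : Set (IrrCharacter G)} {X : Finset G} (s : Subsec M B X) :
    BrauerPairIdx G :=
  ⟨Subgroup.zpowers s.1.1, castBlock (centralizer_zpowers_eq s.1.1).symm s.2.1⟩

variable {M : Ideal AlgInt}

section count

variable (hM : IsPModular 2 M) (B : Set (IrrCharacter G)) (P : Subgroup G)
  (c : Set (IrrCharacter (Subgroup.centralizer (P : Set G))))
  (hmax : IsMaximalBrauerPair 2 M B P c)
  (hab : ∀ x ∈ P, ∀ y ∈ P, x * y = y * x)
  (hinv : ∀ y ∈ P, y ≠ 1 → orderOf y = 2)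
  (X : Finset G) (hX : ∀ x ∈ X, ∃ k : ℕ, orderOf x = 2 ^ k)
  (hXrep : ∀ g : G, (∃ k : ℕ, orderOf g = 2 ^ k) → ∃! x, x ∈ X ∧ IsConj g x)

include hM hX in
theorem isBrauerPairOf_pairOf (s : Subsec M B X) :
    IsBrauerPairOf 2 M B (pairOf s).1 (pairOf s).2 := by
  haveI : Fact (Nat.Prime 2) := ⟨Nat.prime_two⟩
  obtain ⟨⟨x, hxX, hx1⟩, ⟨b, hb⟩⟩ := s
  have hP : IsPGroup 2 (Subgroup.zpowers x) := by
    obtain ⟨k, hk⟩ := hX x hxX
    apply IsPGroup.of_card (n := k)
    rw [Nat.card_zpowers, hk]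
  apply isBrauerPairOf_of_isInducedBlock hM _ hP B
  show IsInducedBlock M _ (castBlock (centralizer_zpowers_eq x).symm b) B
  rw [isInducedBlock_castBlock]
  exact hb

theorem conjIdx_inv_of_eq {a a' : BrauerPairIdx G} {g : G} (h : a' = conjIdx g a) :
    a = conjIdx g⁻¹ a' := by
  rw [h, conjIdx_mul, inv_mul_cancel, conjIdx_one]

include hM hmax hinv hX in
theorem orderOf_of_subsec (s : Subsec M B X) : orderOf s.1.1 = 2 := by
  haveI : Fact (Nat.Prime 2) := ⟨Nat.prime_two⟩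
  have h1 := isBrauerPairOf_pairOf hM B X hX s
  obtain ⟨g, hg⟩ := exists_conj_below hM B P c hmax _ h1
  have hle := fst_le_of_reflTransGen hg
  have hmem : g * s.1.1 * g⁻¹ ∈ P := by
    apply hle
    show g * s.1.1 * g⁻¹ ∈ (Subgroup.zpowers s.1.1).map (MulAut.conj g).toMonoidHom
    rw [map_conj_zpowers]
    exact Subgroup.mem_zpowers _
  have hne : g * s.1.1 * g⁻¹ ≠ 1 := by
    intro h
    apply s.1.2.2
    have : s.1.1 = g⁻¹ * (g * s.1.1 * g⁻¹) * g := by group
    rw [this, h]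
    group
  have h2 := hinv _ hmem hne
  have h3 := (MulAut.conj g).orderOf_eq s.1.1
  rw [MulAut.conj_apply] at h3
  rw [← h3, h2]

include hM hmax hinv hX hXrep in
theorem eq_of_pairOf_conj (s s' : Subsec M B X) (g : G) (h : pairOf s' = conjIdx g (pairOf s)) :
    s = s' := by
  haveI : Fact (Nat.Prime 2) := ⟨Nat.prime_two⟩
  haveI hMp := isPrime_of_isPModular hM
  have ho := orderOf_of_subsec hM B P c hmax hinv X hX s
  have ho' := orderOf_of_subsec hM B P c hmax hinv X hX s'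
  have hB1 := isBrauerPairOf_pairOf hM B X hX s
  obtain ⟨⟨x, hxX, hx1⟩, ⟨b, hb⟩⟩ := s
  obtain ⟨⟨x', hxX', hx1'⟩, ⟨b', hb'⟩⟩ := s'
  simp only at ho ho'
  have hfst : Subgroup.zpowers x' = Subgroup.zpowers (g * x * g⁻¹) := by
    have := congrArg Sigma.fst h
    rw [← map_conj_zpowers]
    exact this
  have ho2 : orderOf (g * x * g⁻¹) = 2 := by
    have h3 := (MulAut.conj g).orderOf_eq x
    rw [MulAut.conj_apply] at h3
    rw [h3, ho]
  have hx'eq : x' = g * x * g⁻¹ := eq_of_zpowers_eq_of_orderOf_two ho' ho2 hfst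
  have hconj : IsConj x x' := isConj_iff.mpr ⟨g, hx'eq.symm⟩
  obtain ⟨x₀, -, huniq⟩ := hXrep x ⟨1, by rw [ho, pow_one]⟩
  have e1 : x = x₀ := huniq x ⟨hxX, IsConj.refl x⟩
  have e2 : x' = x₀ := huniq x' ⟨hxX', hconj⟩
  have hxx' : x = x' := e1.trans e2.symm
  subst hxx'
  have hgc : g ∈ Subgroup.centralizer ((Subgroup.zpowers x : Subgroup G) : Set G) := by
    rw [centralizer_zpowers_eq, Subgroup.mem_centralizer_singleton_iff]
    calc g * x = (g * x * g⁻¹) * g := by group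
      _ = x * g := by rw [← hx'eq]
  have hfix : conjIdx g (pairOf (⟨⟨x, hxX, hx1⟩, ⟨b, hb⟩⟩ : Subsec M B X))
      = pairOf (⟨⟨x, hxX, hx1⟩, ⟨b, hb⟩⟩ : Subsec M B X) :=
    conjIdx_eq_of_mem_centralizer _ _ hB1.1.2 g hgc
  rw [hfix] at h
  have h2 : castBlock (centralizer_zpowers_eq x).symm b' = castBlock (centralizer_zpowers_eq x).symm b :=
    eq_of_heq (Sigma.mk.inj_iff.mp h).2
  have h3 : b' = b := castBlock_injective _ h2
  subst h3
  rfl

include hM hmax hX hXrep hinv in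
theorem exists_subsec_of_below (a : BrauerPairIdx G)
    (ha : Relation.ReflTransGen (NormalSubpairRel 2 M) a ⟨P, c⟩) (y : G) (hyP : y ∈ P)
    (hy1 : y ≠ 1) (hay : a.1 = Subgroup.zpowers y) :
    ∃ (s : Subsec M B X) (g : G), pairOf s = conjIdx g a := by
  haveI : Fact (Nat.Prime 2) := ⟨Nat.prime_two⟩
  have hy2 : orderOf y = 2 := hinv y hyP hy1
  obtain ⟨x, ⟨hxX, hyx⟩, -⟩ := hXrep y ⟨1, by rw [hy2, pow_one]⟩
  obtain ⟨g, hg⟩ := isConj_iff.mp hyx
  have hx1 : x ≠ 1 := by
    intro h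
    apply hy1
    have : y = g⁻¹ * (g * y * g⁻¹) * g := by group
    rw [this, hg, h]
    group
  have hBa := isBrauerPairOf_of_below hM B P c hmax a ha
  obtain ⟨Q, f⟩ := a
  simp only at hay
  subst hay
  have hBc := isBrauerPairOf_conj B _ f g hBa
  have hfst : (Subgroup.zpowers y).map (MulAut.conj g).toMonoidHom = Subgroup.zpowers x := by
    rw [map_conj_zpowers, hg]
  obtain ⟨f', hf'⟩ := exists_snd_of_fst_eq (conjIdx g ⟨Subgroup.zpowers y, f⟩) _ hfst
  have hBc' : IsBrauerPairOf 2 M B (Subgroup.zpowers x) f' := by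
    have : IsBrauerPairOf 2 M B (conjIdx g ⟨Subgroup.zpowers y, f⟩).1
        (conjIdx g ⟨Subgroup.zpowers y, f⟩).2 := hBc
    rw [hf'] at this
    exact this
  have hind := isInducedBlock_of_isBrauerPairOf hM _ B f' hBc'
  refine ⟨⟨⟨x, hxX, hx1⟩, ⟨castBlock (centralizer_zpowers_eq x) f', ?_⟩⟩, g, ?_⟩
  · rw [isInducedBlock_castBlock]
    exact hind
  · rw [hf']
    show (⟨Subgroup.zpowers x, castBlock (centralizer_zpowers_eq x).symm
      (castBlock (centralizer_zpowers_eq x) f')⟩ : BrauerPairIdx G) = _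
    rw [castBlock_castBlock]

end count

end Cfsg.Agent.Lib.helper3.Block
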