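import Mathlib
import Cfsg.Agent.Lib.helper3.K4S3

/-!
# The number of nontrivial subsections: trivial and transitive inertial quotient
-/

set_option autoImplicit false
set_option linter.style.haveILetI false
set_option linter.unusedSectionVars false

namespace Cfsg.Agent.Lib.helper3.Block

open Cfsg Module Cfsg.Agent.Lib.helper3.CharBasic Cfsg.Agent.Lib.helper3.Irr
open Cfsg.Agent.Lib.helper3.Central Cfsg.Agent.Lib.helper3.LocalM Cfsg.Agent.Lib.helper3.IndFun
open Cfsg.Agent.Lib.helper3.Lin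
open scoped ComplexConjugate

universe u

variable {G : Type u} [Group G] [Fintype G] {M : Ideal AlgInt}

section count

variable (hM : IsPModular 2 M) (B : Set (IrrCharacter G)) (P : Subgroup G)
  (c : Set (IrrCharacter (Subgroup.centralizer (P : Set G))))
  (hmax : IsMaximalBrauerPair 2 M B P c)
  (hab : ∀ x ∈ P, ∀ y ∈ P, x * y = y * x)
  (hinv : ∀ y ∈ P, y ≠ 1 → orderOf y = 2)
  (X : Finset G) (hX : ∀ x ∈ X, ∃ k : ℕ, orderOf x = 2 ^ k)
  (hXrep : ∀ g : G, (∃ k : ℕ, orderOf g = 2 ^ k) → ∃! x, x ∈ X ∧ IsConj g x)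

include hM hmax hinv hX hXrep in
/-- Every element of `P ∖ {1}` gives a subsection. -/
theorem exists_subsec_of_mem (y : G) (hyP : y ∈ P) (hy1 : y ≠ 1) :
    ∃ (s : Subsec M B X) (g : G) (a : BrauerPairIdx G),
      Relation.ReflTransGen (NormalSubpairRel 2 M) a ⟨P, c⟩ ∧ a.1 = Subgroup.zpowers y ∧
        pairOf s = conjIdx g a := by
  haveI : Fact (Nat.Prime 2) := ⟨Nat.prime_two⟩
  have hQP : Subgroup.zpowers y ≤ P := by
    rw [Subgroup.zpowers_le]
    exact hyP
  obtain ⟨a, ha1, ha⟩ := exists_below_of_le hM B P c hmax _ hQP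
  obtain ⟨s, g, hs⟩ := exists_subsec_of_below hM B P c hmax hinv X hX hXrep a ha y hyP hy1 ha1
  exact ⟨s, g, a, ha, ha1, hs⟩

include hM hmax hinv hX in
/-- Every subsection comes from an element of `P ∖ {1}`. -/
theorem exists_mem_of_subsec (s : Subsec M B X) :
    ∃ (y : G) (g : G) (a : BrauerPairIdx G), y ∈ P ∧ y ≠ 1 ∧
      Relation.ReflTransGen (NormalSubpairRel 2 M) a ⟨P, c⟩ ∧ a.1 = Subgroup.zpowers y ∧
        a = conjIdx g (pairOf s) := by
  haveI : Fact (Nat.Prime 2) := ⟨Nat.prime_two⟩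
  have h1 := isBrauerPairOf_pairOf hM B X hX s
  obtain ⟨g, hg⟩ := exists_conj_below hM B P c hmax _ h1
  have hle := fst_le_of_reflTransGen hg
  have hfst : (conjIdx g (pairOf s)).1 = Subgroup.zpowers (g * s.1.1 * g⁻¹) := by
    show (Subgroup.zpowers s.1.1).map (MulAut.conj g).toMonoidHom = _
    rw [map_conj_zpowers]
  have hmem : g * s.1.1 * g⁻¹ ∈ P := by
    apply hle
    rw [hfst]
    exact Subgroup.mem_zpowers _
  have hne : g * s.1.1 * g⁻¹ ≠ 1 := by
    intro h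
    apply s.1.2.2
    have : s.1.1 = g⁻¹ * (g * s.1.1 * g⁻¹) * g := by group
    rw [this, h]
    group
  exact ⟨g * s.1.1 * g⁻¹, g, conjIdx g (pairOf s), hmem, hne, hg, hfst, rfl⟩

include hM hmax hab hinv hX hXrep in
/-- Trivial inertial quotient: the subsections correspond to the elements of `P ∖ {1}`. -/
theorem card_subsec_of_centralizer
    (hT1 : ∀ t : G, t ∈ Subgroup.normalizer (P : Set G) →
      StabilizesBlock (Subgroup.centralizer (P : Set G)) c t →
        t ∈ Subgroup.centralizer (P : Set G)) :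
    Nat.card (Subsec M B X) = Nat.card {y : G // y ∈ P ∧ y ≠ 1} := by
  haveI : Fact (Nat.Prime 2) := ⟨Nat.prime_two⟩
  have hf : ∀ y : {y : G // y ∈ P ∧ y ≠ 1}, ∃ (s : Subsec M B X) (g : G) (a : BrauerPairIdx G),
      Relation.ReflTransGen (NormalSubpairRel 2 M) a ⟨P, c⟩ ∧ a.1 = Subgroup.zpowers y.1 ∧
        pairOf s = conjIdx g a :=
    fun y => exists_subsec_of_mem hM B P c hmax hinv X hX hXrep y.1 y.2.1 y.2.2
  choose f g a hbelow hfst hpair using hf
  symm
  apply Nat.card_eq_of_bijective f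
  constructor
  · intro y y' hyy'
    -- the two pairs are conjugate
    have h1 : conjIdx (g y') (a y') = conjIdx (g y) (a y) := by
      rw [← hpair, ← hpair, hyy']
    have h2 : a y' = conjIdx ((g y')⁻¹ * g y) (a y) := by
      rw [← conjIdx_mul, ← h1, conjIdx_mul, inv_mul_cancel, conjIdx_one]
    obtain ⟨c₀, hc₀, htN, htst⟩ := exists_stab_of_conj_below hM B P c hmax hab (a y) (a y')
      (hbelow y) (hbelow y') _ h2
    have htC := hT1 _ htN htst
    -- first components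
    have hz : Subgroup.zpowers y'.1 = Subgroup.zpowers (((g y')⁻¹ * g y) * y.1 * ((g y')⁻¹ * g y)⁻¹) := by
      rw [← hfst y', h2]
      show (a y).1.map (MulAut.conj ((g y')⁻¹ * g y)).toMonoidHom = _
      rw [hfst y, map_conj_zpowers]
    have ho : orderOf y.1 = 2 := hinv y.1 y.2.1 y.2.2
    have ho' : orderOf y'.1 = 2 := hinv y'.1 y'.2.1 y'.2.2
    have ho2 : orderOf (((g y')⁻¹ * g y) * y.1 * ((g y')⁻¹ * g y)⁻¹) = 2 := by
      have h3 := (MulAut.conj ((g y')⁻¹ * g y)).orderOf_eq y.1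
      rw [MulAut.conj_apply] at h3
      rw [h3, ho]
    have hy' : y'.1 = ((g y')⁻¹ * g y) * y.1 * ((g y')⁻¹ * g y)⁻¹ :=
      eq_of_zpowers_eq_of_orderOf_two ho' ho2 hz
    -- `c₀` centralizes `y'`
    have hc₀y : c₀ * y'.1 = y'.1 * c₀ := by
      rw [hfst y', Subgroup.mem_centralizer_iff] at hc₀
      exact (hc₀ y'.1 (Subgroup.mem_zpowers _)).symm
    -- `t = c₀ h` centralizes `y`
    have hty : (c₀ * ((g y')⁻¹ * g y)) * y.1 = y.1 * (c₀ * ((g y')⁻¹ * g y)) := by
      rw [Subgroup.mem_centralizer_iff] at htC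
      exact (htC y.1 y.2.1).symm
    apply Subtype.ext
    have e1 : y'.1 = (c₀ * ((g y')⁻¹ * g y)) * y.1 * (c₀ * ((g y')⁻¹ * g y))⁻¹ := by
      have : (c₀ * ((g y')⁻¹ * g y)) * y.1 * (c₀ * ((g y')⁻¹ * g y))⁻¹
          = c₀ * (((g y')⁻¹ * g y) * y.1 * ((g y')⁻¹ * g y)⁻¹) * c₀⁻¹ := by group
      rw [this, ← hy', hc₀y]
      group
    rw [e1, hty]
    group
  · intro s
    obtain ⟨y, g₀, a₀, hyP, hy1, ha₀, ha₀1, ha₀s⟩ := exists_mem_of_subsec hM B P c hmax hinv X hX s
    refine ⟨⟨y, hyP, hy1⟩, ?_⟩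
    have hau : a ⟨y, hyP, hy1⟩ = a₀ :=
      below_unique hM B P c hmax _ _ (hbelow _) ha₀ (by rw [hfst, ha₀1])
    symm
    apply eq_of_pairOf_conj hM B P c hmax hinv X hX hXrep s (f ⟨y, hyP, hy1⟩) (g ⟨y, hyP, hy1⟩ * g₀)
    rw [hpair, hau, ha₀s, conjIdx_mul]

include hM hmax hinv hX hXrep in
/-- Transitive inertial quotient: there is exactly one subsection. -/
theorem card_subsec_of_transitive
    (htr : ∀ y ∈ P, y ≠ 1 → ∀ y' ∈ P, y' ≠ 1 → ∃ t : G, t ∈ Subgroup.normalizer (P : Set G) ∧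
      StabilizesBlock (Subgroup.centralizer (P : Set G)) c t ∧ t * y * t⁻¹ = y')
    (hne : ∃ y ∈ P, y ≠ 1) :
    Nat.card (Subsec M B X) = 1 := by
  haveI : Fact (Nat.Prime 2) := ⟨Nat.prime_two⟩
  obtain ⟨y₀, hy₀P, hy₀1⟩ := hne
  obtain ⟨s₀, -, -, -, -, -⟩ := exists_subsec_of_mem hM B P c hmax hinv X hX hXrep y₀ hy₀P hy₀1
  rw [Nat.card_eq_one_iff_unique]
  refine ⟨⟨?_⟩, ⟨s₀⟩⟩
  intro s s'
  obtain ⟨y, g, a, hyP, hy1, ha, ha1, has⟩ := exists_mem_of_subsec hM B P c hmax hinv X hX s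
  obtain ⟨y', g', a', hyP', hy1', ha', ha1', has'⟩ :=
    exists_mem_of_subsec hM B P c hmax hinv X hX s'
  obtain ⟨t, htN, htst, hty⟩ := htr y hyP hy1 y' hyP' hy1'
  have hta := below_conj_of_stab hM B P c hmax a ha t htN htst
  have hta1 : (conjIdx t a).1 = a'.1 := by
    show a.1.map (MulAut.conj t).toMonoidHom = _
    rw [ha1, map_conj_zpowers, hty, ha1']
  have heq : conjIdx t a = a' := below_unique hM B P c hmax _ _ hta ha' hta1
  apply eq_of_pairOf_conj hM B P c hmax hinv X hX hXrep s s' (g'⁻¹ * (t * g))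
  rw [← conjIdx_mul, ← conjIdx_mul, ← has, heq]
  exact conjIdx_inv_of_eq has'

end count

open Classical in
/-- The number of subsections as a sum over the representatives. -/
theorem card_subsec_eq_sum (B : Set (IrrCharacter G)) (X : Finset G) :
    Nat.card (Subsec M B X) = ∑ x ∈ X.filter (fun x => x ≠ 1),
      Nat.card {b : Set (IrrCharacter (Subgroup.centralizer ({x} : Set G))) |
        IsInducedBlock M (Subgroup.centralizer ({x} : Set G)) b B} := by
  rw [Nat.card_sigma, Finset.sum_subtype (X.filter (fun x => x ≠ 1))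
    (p := fun x => x ∈ X ∧ x ≠ 1) (fun x => by rw [Finset.mem_filter])]
  rfl

end Cfsg.Agent.Lib.helper3.Block
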