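import Mathlib
import Cfsg.Agent.Lib.helper3.K4S4
import Cfsg.Agent.Lib.helper3.SP22
import Cfsg.Agent.Lib.helper3.SP7
import Cfsg.Agent.H2.KQ5
import Cfsg.Agent.H9.KK2

/-!
# Blocks with a Klein four defect group: assembly
-/

set_option autoImplicit false
set_option linter.style.haveILetI false
set_option linter.unusedSectionVars false

namespace Cfsg.Agent.Lib.helper3.Block

open Cfsg Module Cfsg.Agent.Lib.helper3.CharBasic Cfsg.Agent.Lib.helper3.Irr
open Cfsg.Agent.Lib.helper3.Central Cfsg.Agent.Lib.helper3.LocalM Cfsg.Agent.Lib.helper3.IndFun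
open Cfsg.Agent.Lib.helper3.Lin
open scoped ComplexConjugate

universe u

variable {G : Type u} [Group G] [Fintype G] {M : Ideal AlgInt}

open Classical in
/-- **Step 0**: a major subsection.  For `y` in the abelian defect group `P` of order `4`, the
block of `C_G(y)` below `(P, c)` induces `B` and has defect `2`. -/
theorem exists_major_subsection (hM : IsPModular 2 M) (B : Set (IrrCharacter G))
    (hB : IsPBlock M B) (P : Subgroup G) (hP4 : Nat.card P = 4)
    (hdB : blockDefect 2 B = 2)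
    (hab : ∀ x ∈ P, ∀ y ∈ P, x * y = y * x)
    (c : Set (IrrCharacter (Subgroup.centralizer (P : Set G))))
    (hmax : IsMaximalBrauerPair 2 M B P c) (y : G) (hyP : y ∈ P) :
    ∃ f : Set (IrrCharacter (Subgroup.centralizer ((Subgroup.zpowers y : Subgroup G) : Set G))),
      IsInducedBlock M (Subgroup.centralizer ((Subgroup.zpowers y : Subgroup G) : Set G)) f B ∧
        blockDefect 2 f = 2 := by
  haveI : Fact (Nat.Prime 2) := ⟨Nat.prime_two⟩
  haveI : Fintype ↥(Subgroup.centralizer ((Subgroup.zpowers y : Subgroup G) : Set G)) :=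
    Fintype.ofFinite _
  obtain ⟨hBe, -⟩ := id hmax
  obtain ⟨hPe, -, -⟩ := id hBe
  have hQP : Subgroup.zpowers y ≤ P := by
    rw [Subgroup.zpowers_le]
    exact hyP
  obtain ⟨a, ha1, ha⟩ := exists_below_of_le hM B P c hmax _ hQP
  obtain ⟨f, rfl⟩ := exists_snd_of_fst_eq a _ ha1
  have hBf := isBrauerPairOf_of_below hM B P c hmax _ ha
  have hind := isInducedBlock_of_isBrauerPairOf hM _ B f hBf
  refine ⟨f, hind, ?_⟩
  apply le_antisymm
  · have h := Cfsg.Agent.H2.KQ.blockDefect_le_of_isInducedBlock hM _ f B hind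
    rw [hdB] at h
    exact h
  · obtain ⟨D, hD, hle⟩ := exists_isDefectGroup_ge_centralizerIn hM P _ c f hPe hQP ha
    have hcard := Cfsg.Agent.S0908.result 2 M hM f hind.1 D hD
    have hPH : P ≤ Subgroup.centralizer ((Subgroup.zpowers y : Subgroup G) : Set G) := by
      intro x hx
      rw [Subgroup.mem_centralizer_iff]
      intro q hq
      exact hab q (hQP hq) x hx
    have h1 : Nat.card ↥((P ⊓ Subgroup.centralizer ((Subgroup.zpowers y : Subgroup G) : Set G)).subgroupOf
        (Subgroup.centralizer ((Subgroup.zpowers y : Subgroup G) : Set G))) = 4 := by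
      rw [inf_eq_left.mpr hPH, ← hP4]
      exact Nat.card_congr (Subgroup.subgroupOfEquivOfLe hPH).toEquiv
    have h2 : 4 ≤ 2 ^ blockDefect 2 f := by
      rw [← hcard, ← h1]
      exact Subgroup.card_le_of_le hle
    by_contra hlt
    push Not at hlt
    have h3 : blockDefect 2 f ≤ 1 := by omega
    have h4 : 2 ^ blockDefect 2 f ≤ 2 ^ 1 := Nat.pow_le_pow_right (by norm_num) h3
    omega

set_option maxHeartbeats 800000 in
open Classical in
/-- **Blocks with a Klein four defect group**, from the group-theoretic piece `E` and Brauer's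
formula `BF`. -/
theorem klein_four_of_pieces (hM : IsPModular 2 M) (B : Set (IrrCharacter G)) (hB : IsPBlock M B)
    (P : Subgroup G) (hPD : IsDefectGroup 2 M B P) (hV : IsKleinFour P)
    (c : Set (IrrCharacter (Subgroup.centralizer (P : Set G))))
    (hc : IsInducedBlock M (Subgroup.centralizer (P : Set G)) c B) (T : Subgroup G)
    (hT : ∀ g : G, g ∈ T ↔ (g ∈ Subgroup.normalizer (P : Set G) ∧
      StabilizesBlock (Subgroup.centralizer (P : Set G)) c g))
    (e : ℕ)
    (hE : (e = 1 ∨ e = 3) ∧ (e = 1 → T ≤ Subgroup.centralizer (P : Set G)) ∧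
      (e = 3 → ∀ x ∈ P, x ≠ 1 → ∀ y ∈ P, y ≠ 1 → ∃ t ∈ T, t * x * t⁻¹ = y))
    (hBF : ∀ X : Finset G, (∀ x ∈ X, ∃ k : ℕ, orderOf x = 2 ^ k) →
      (∀ g : G, (∃ k : ℕ, orderOf g = 2 ^ k) → ∃! x, x ∈ X ∧ IsConj g x) →
      (Nat.card B : ℂ) = (blockRank 2 B : ℂ) + ∑ x ∈ X.filter (fun x => x ≠ 1),
        ∑ᶠ b ∈ {b : Set (IrrCharacter (Subgroup.centralizer ({x} : Set G))) |
          IsInducedBlock M (Subgroup.centralizer ({x} : Set G)) b B}, (blockRank 2 b : ℂ)) :
    (e = 1 ∨ e = 3) ∧ Nat.card B = 4 ∧ blockRank 2 B = e := by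
  haveI : Fact (Nat.Prime 2) := ⟨Nat.prime_two⟩
  haveI hMp := isPrime_of_isPModular hM
  obtain ⟨he13, hT1, hT3⟩ := hE
  have hP : IsPGroup 2 P := isPGroup_of_isDefectGroup hPD
  have hBP : IsBrauerPairOf 2 M B P c := isBrauerPairOf_of_isInducedBlock hM P hP B c hc
  have hmax : IsMaximalBrauerPair 2 M B P c := isMaximalBrauerPair_of_isDefectGroup hM B P c hPD hBP
  have hP4 : Nat.card P = 4 := hV.card_four
  have hexp : ∀ x : P, x * x = 1 := by
    intro x
    have h1 : (x : (P : Subgroup G)) ^ Monoid.exponent (P : Subgroup G) = 1 :=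
      Monoid.pow_exponent_eq_one x
    rw [hV.exponent_two, pow_two] at h1
    exact h1
  have hsq : ∀ y ∈ P, y * y = 1 := by
    intro y hy
    have := congrArg (fun z : P => (z : G)) (hexp ⟨y, hy⟩)
    simpa using this
  have hab : ∀ x ∈ P, ∀ y ∈ P, x * y = y * x := by
    intro x hx y hy
    have h1 := hsq x hx
    have h2 := hsq y hy
    have h3 := hsq (x * y) (P.mul_mem hx hy)
    calc x * y = (y * y) * (x * y) * (x * x) := by rw [h1, h2]; group
      _ = y * ((y * x) * (y * x)) * x := by group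
      _ = y * x := by
        have h4 : (y * x) * (y * x) = 1 := hsq (y * x) (P.mul_mem hy hx)
        rw [h4]; group
  have hinv : ∀ y ∈ P, y ≠ 1 → orderOf y = 2 := by
    intro y hy hy1
    have h1 : y ^ 2 = 1 := by rw [pow_two]; exact hsq y hy
    exact orderOf_eq_prime h1 hy1
  have hdB : blockDefect 2 B = 2 := by
    have h1 := Cfsg.Agent.S0908.result 2 M hM B hB P hPD
    rw [hP4] at h1
    have h2 : (2 : ℕ) ^ 2 = 2 ^ blockDefect 2 B := by rw [← h1]; norm_num
    exact (Nat.pow_right_injective (le_refl 2) h2).symm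
  -- a nontrivial element
  obtain ⟨y₀, hy₀P, hy₀1⟩ : ∃ y ∈ P, y ≠ 1 := by
    by_contra hcon
    push Not at hcon
    have : P = ⊥ := by
      rw [Subgroup.eq_bot_iff_forall]
      exact hcon
    rw [this, Subgroup.card_bot] at hP4
    omega
  -- `k(B) = 4`
  obtain ⟨f₀, hf₀ind, hf₀d⟩ := exists_major_subsection hM B hB P hP4 hdB hab c hmax y₀ hy₀P
  haveI : Fintype ↥(Subgroup.centralizer ((Subgroup.zpowers y₀ : Subgroup G) : Set G)) :=
    Fintype.ofFinite _
  have hf₀l : blockRank 2 f₀ = 1 :=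
    Cfsg.Agent.H2.KQ.lemmaL hM B hB hdB.le y₀ hy₀1 1 (by rw [hinv y₀ hy₀P hy₀1, pow_one]) _
      (centralizer_zpowers_eq y₀) f₀ hf₀ind
  have hk : Nat.card B = 4 :=
    Cfsg.Agent.H9.KK.card_eq_four hM B hB hdB y₀ (hinv y₀ hy₀P hy₀1) _
      (centralizer_zpowers_eq y₀) f₀ hf₀ind hf₀d hf₀l
  -- Brauer's formula
  obtain ⟨X, hX, hXrep⟩ := exists_rep_system (G := G) 2
  have hbf := hBF X hX hXrep
  have hsum : ∑ x ∈ X.filter (fun x => x ≠ 1),
        ∑ᶠ b ∈ {b : Set (IrrCharacter (Subgroup.centralizer ({x} : Set G))) |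
          IsInducedBlock M (Subgroup.centralizer ({x} : Set G)) b B}, (blockRank 2 b : ℂ)
      = (Nat.card (Subsec M B X) : ℂ) := by
    rw [card_subsec_eq_sum, Nat.cast_sum]
    apply Finset.sum_congr rfl
    intro x hx
    rw [Finset.mem_filter] at hx
    obtain ⟨k, hk⟩ := hX x hx.1
    have hfin : {b : Set (IrrCharacter (Subgroup.centralizer ({x} : Set G))) |
        IsInducedBlock M (Subgroup.centralizer ({x} : Set G)) b B}.Finite := Set.toFinite _
    rw [finsum_mem_congr rfl (fun b hb => by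
      rw [Cfsg.Agent.H2.KQ.lemmaL hM B hB hdB.le x hx.2 k hk _ rfl b hb, Nat.cast_one]),
      finsum_mem_eq_finite_toFinset_sum _ hfin, Finset.sum_const, nsmul_eq_mul, mul_one,
      ← Set.ncard_eq_toFinset_card _ hfin, Nat.card_coe_set_eq]
  rw [hsum, hk] at hbf
  have hbfN : 4 = blockRank 2 B + Nat.card (Subsec M B X) := by exact_mod_cast hbf
  refine ⟨he13, hk, ?_⟩
  rcases he13 with he1 | he3
  · -- trivial inertial quotient
    have hTC := hT1 he1
    have hcount := card_subsec_of_centralizer hM B P c hmax hab hinv X hX hXrep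
      (fun t htN htst => hTC ((hT t).mpr ⟨htN, htst⟩))
    have h3 : Nat.card {y : G // y ∈ P ∧ y ≠ 1} = 3 := by
      have h1 : {y : G | y ∈ P ∧ y ≠ 1} = (P : Set G) \ {1} := by
        ext y
        simp
      have h2 : Nat.card {y : G // y ∈ P ∧ y ≠ 1} = Set.ncard ((P : Set G) \ {1}) := by
        rw [← h1, ← Nat.card_coe_set_eq]
        rfl
      rw [h2, Set.ncard_diff_singleton_of_mem (by exact P.one_mem), ← Nat.card_coe_set_eq]
      show Nat.card P - 1 = 3
      rw [hP4]
    rw [hcount, h3] at hbfN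
    omega
  · -- transitive inertial quotient
    have htr := hT3 he3
    have hcount := card_subsec_of_transitive hM B P c hmax hinv X hX hXrep
      (fun y hy hy1 y' hy' hy1' => by
        obtain ⟨t, htT, hty⟩ := htr y hy hy1 y' hy' hy1'
        obtain ⟨htN, htst⟩ := (hT t).mp htT
        exact ⟨t, htN, htst, hty⟩) ⟨y₀, hy₀P, hy₀1⟩
    rw [hcount] at hbfN
    omega

end Cfsg.Agent.Lib.helper3.Block
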