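import Cfsg.Agent.S5422
import Cfsg.Agent.Lib.Lead.LargeES
import Cfsg.Agent.Lib.Lead.Extraspecial2Model
import Cfsg.Agent.Lib.helper3.SidkiP4

/-!
# S5428, piece (P5): `S5422` through the quotient by a normal subgroup of odd order
-/

set_option autoImplicit false
open scoped commutatorElement

namespace Cfsg.Agent.H1.LESA

open Cfsg.Agent.Lead.ES2 Cfsg.Agent.Lead.LargeES

/-- (P5) `S5422` through the quotient by a normal subgroup of odd order. -/
theorem large_of_quotient {M : Type*} [Group M] [Finite M] (A : Subgroup M) [A.Normal]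
    (hA : Odd (Nat.card ↥A)) (R : Subgroup M) (z : M) (hzR : z ∈ R) (hz1 : z ≠ 1)
    (hzz : z * z = 1) (hzc : ∀ a ∈ R, a * z = z * a)
    (hcomm : ∀ a ∈ R, ∀ b ∈ R, a * b * a⁻¹ * b⁻¹ = 1 ∨ a * b * a⁻¹ * b⁻¹ = z)
    (hsq : ∀ a ∈ R, a * a = 1 ∨ a * a = z)
    (hcen : ∀ x ∈ R, (∀ r ∈ R, x * r = r * x) → x = 1 ∨ x = z)
    (hcard : 32 ≤ Nat.card ↥R)
    (h2 : ∀ m : M, (∀ r ∈ R, m * r * m⁻¹ * r⁻¹ ∈ A) → ∃ a ∈ A, m = a ∨ m = a * z)
    (h3 : ∀ m : M, m * z * m⁻¹ * z⁻¹ ∈ A → ∀ r ∈ R, ∃ a ∈ A, ∃ r' ∈ R, m * r * m⁻¹ = a * r')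
    (y : M) (hy : y * z * y⁻¹ ∈ R) (hy' : y * z * y⁻¹ ≠ z) :
    Cfsg.IsLargeExtraspecial (R.map (QuotientGroup.mk' A)) := by
  classical
  -- `R ∩ A = 1`
  have hRA : ∀ r ∈ R, r ∈ A → r = 1 := by
    intro r hr hrA
    have h4 : r ^ 4 = 1 := by
      have e : r ^ 4 = (r * r) * (r * r) := by
        rw [show (4 : ℕ) = 2 + 2 from rfl, pow_add, pow_two]
      rw [e]
      rcases hsq r hr with h | h <;> rw [h]
      · simp
      · exact hzz
    have hd1 : orderOf r ∣ 4 := orderOf_dvd_of_pow_eq_one h4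
    have hd2 : orderOf r ∣ Nat.card A := by
      have h := orderOf_dvd_natCard (⟨r, hrA⟩ : A)
      rwa [Subgroup.orderOf_mk] at h
    have hcop : Nat.Coprime 4 (Nat.card A) := by
      have h : Nat.Coprime 2 (Nat.card A) := Nat.coprime_two_left.mpr hA
      exact Nat.Coprime.pow_left 2 h
    exact orderOf_eq_one_iff.mp (Nat.eq_one_of_dvd_coprimes hcop hd1 hd2)
  set π : M →* M ⧸ A := QuotientGroup.mk' A with hπ
  have hπ1 : ∀ x : M, π x = 1 ↔ x ∈ A := fun x => QuotientGroup.eq_one_iff x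
  have hπsurj : Function.Surjective π := QuotientGroup.mk'_surjective A
  -- injectivity on `R`
  have hinj : ∀ r ∈ R, ∀ r' ∈ R, π r = π r' → r = r' := by
    intro r hr r' hr' h
    have h1 : π (r⁻¹ * r') = 1 := by rw [map_mul, map_inv, h, inv_mul_cancel]
    have h2' := hRA _ (R.mul_mem (R.inv_mem hr) hr') ((hπ1 _).mp h1)
    exact (inv_mul_eq_one.mp h2')
  have hπz1 : π z ≠ 1 := fun h => hz1 (hRA z hzR ((hπ1 z).mp h))
  have hmemRb : ∀ r ∈ R, π r ∈ R.map π := fun r hr => Subgroup.mem_map_of_mem π hr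
  -- the elementary description of the image
  have hes : ES (⟨π z, hmemRb z hzR⟩ : ↥(R.map π)) := by
    refine ⟨⟨?_, ?_, ?_, ?_, ?_⟩, ?_⟩
    · intro h; exact hπz1 (congrArg Subtype.val h)
    · apply Subtype.ext
      show π z * π z = 1
      rw [← map_mul, hzz, map_one]
    · rintro ⟨x, hx⟩
      obtain ⟨r, hr, rfl⟩ := Subgroup.mem_map.mp hx
      apply Subtype.ext
      show π r * π z = π z * π r
      rw [← map_mul, ← map_mul, hzc r hr]
    · rintro ⟨x, hx⟩ ⟨x', hx'⟩
      obtain ⟨a, ha, rfl⟩ := Subgroup.mem_map.mp hx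
      obtain ⟨b, hb, rfl⟩ := Subgroup.mem_map.mp hx'
      have e : ((⁅(⟨π a, hx⟩ : ↥(R.map π)), ⟨π b, hx'⟩⁆ : ↥(R.map π)) : M ⧸ A)
          = π (a * b * a⁻¹ * b⁻¹) := by
        simp [commutatorElement_def]
      rcases hcomm a ha b hb with h | h
      · left; apply Subtype.ext; rw [e, h, map_one]; rfl
      · right; apply Subtype.ext; rw [e, h]
    · rintro ⟨x, hx⟩
      obtain ⟨a, ha, rfl⟩ := Subgroup.mem_map.mp hx
      rcases hsq a ha with h | h
      · left; apply Subtype.ext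
        show π a * π a = 1
        rw [← map_mul, h, map_one]
      · right; apply Subtype.ext
        show π a * π a = π z
        rw [← map_mul, h]
    · rintro ⟨x, hx⟩ hw
      obtain ⟨c, hc, rfl⟩ := Subgroup.mem_map.mp hx
      have hcc : ∀ r ∈ R, c * r = r * c := by
        intro r hr
        have h := hw ⟨π r, hmemRb r hr⟩
        have h' : π r * π c = π c * π r := congrArg Subtype.val h
        rw [← map_mul, ← map_mul] at h'
        exact (hinj _ (R.mul_mem hr hc) _ (R.mul_mem hc hr) h').symm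
      rcases hcen c hc hcc with h | h
      · left; apply Subtype.ext; show π c = 1; rw [h, map_one]
      · right; apply Subtype.ext; show π c = π z; rw [h]
  -- cardinality
  have hcardeq : Nat.card ↥(R.map π) = Nat.card ↥R := by
    symm
    apply Nat.card_congr
    refine Equiv.ofBijective
      (fun r : R => (⟨π r, hmemRb r r.2⟩ : ↥(R.map π))) ⟨?_, ?_⟩
    · intro r r' h
      exact Subtype.ext (hinj _ r.2 _ r'.2 (congrArg Subtype.val h))
    · rintro ⟨x, hx⟩
      obtain ⟨r, hr, rfl⟩ := Subgroup.mem_map.mp hx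
      exact ⟨⟨r, hr⟩, rfl⟩
  have hna : ¬ ∀ x x' : ↥(R.map π), ⁅x, x'⁆ = 1 := by
    intro hab
    have h := (abelian_case hes hab).2.1
    omega
  have hL1 : Cfsg.IsExtraspecial 2 ↥(R.map π) := extraspecial_of_ES hes hna
  obtain ⟨w, hw1, hwcard, -⟩ := type_of hL1
  have hw : 2 ≤ w := by
    by_contra hlt
    have hw' : w = 1 := by omega
    rw [hw'] at hwcard
    have h8 : 2 ^ (2 * 1 + 1) = 8 := by norm_num
    omega
  -- the centre of the image
  have hZ : ∀ x : M ⧸ A,
      x ∈ (Subgroup.center ↥(R.map π)).map (R.map π).subtype ↔ x = 1 ∨ x = π z := by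
    intro x
    constructor
    · rintro ⟨c, hc, rfl⟩
      have hc' : ∀ g : ↥(R.map π), g * c = c * g := fun g => Subgroup.mem_center_iff.mp hc g
      rcases hes.cent c hc' with h | h
      · left; rw [h]; rfl
      · right; rw [h]; rfl
    · rintro (h | h)
      · rw [h]; exact Subgroup.one_mem _
      · rw [h]
        refine ⟨⟨π z, hmemRb z hzR⟩, Subgroup.mem_center_iff.mpr ?_, rfl⟩
        intro g
        exact hes.ctx.cen g
  have hL2 : Subgroup.centralizer ((R.map π : Subgroup (M ⧸ A)) : Set (M ⧸ A))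
      = (Subgroup.center ↥(R.map π)).map (R.map π).subtype := by
    ext x
    constructor
    · intro hx
      obtain ⟨m, rfl⟩ := hπsurj x
      rw [Subgroup.mem_centralizer_iff] at hx
      have hm : ∀ r ∈ R, m * r * m⁻¹ * r⁻¹ ∈ A := by
        intro r hr
        rw [← hπ1]
        have h := hx (π r) (hmemRb r hr)
        rw [map_mul, map_mul, map_mul, map_inv, map_inv, ← h]
        group
      obtain ⟨a, ha, h | h⟩ := h2 m hm
      · rw [hZ]; left; rw [h]; exact (hπ1 a).mpr ha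
      · rw [hZ]; right; rw [h, map_mul, (hπ1 a).mpr ha, one_mul]
    · intro hx
      rw [hZ] at hx
      rw [Subgroup.mem_centralizer_iff]
      rintro h ⟨r, hr, rfl⟩
      rcases hx with hx | hx
      · rw [hx, mul_one, one_mul]
      · rw [hx, ← map_mul, ← map_mul, hzc r hr]
  have hL3 : Subgroup.centralizer
      (((Subgroup.center ↥(R.map π)).map (R.map π).subtype : Subgroup (M ⧸ A)) : Set (M ⧸ A))
      ≤ Subgroup.normalizer ((R.map π : Subgroup (M ⧸ A)) : Set (M ⧸ A)) := by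
    apply Cfsg.Agent.Lib.helper3.SidkiP4.le_normalizer_of_Nz
    intro n hn x hx
    obtain ⟨m, rfl⟩ := hπsurj n
    obtain ⟨r, hr, rfl⟩ := Subgroup.mem_map.mp hx
    rw [Subgroup.mem_centralizer_iff] at hn
    have hzZ : π z ∈ (Subgroup.center ↥(R.map π)).map (R.map π).subtype :=
      (hZ _).mpr (Or.inr rfl)
    have hm : m * z * m⁻¹ * z⁻¹ ∈ A := by
      rw [← hπ1]
      have h := hn (π z) hzZ
      rw [map_mul, map_mul, map_mul, map_inv, map_inv, ← h]
      group
    obtain ⟨a, ha, r', hr', h⟩ := h3 m hm r hr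
    have e : π m * π r * (π m)⁻¹ = π r' := by
      rw [← map_inv, ← map_mul, ← map_mul, h, map_mul, (hπ1 a).mpr ha, one_mul]
    rw [e]
    exact hmemRb r' hr'
  have hπt : π y * π z * (π y)⁻¹ = π (y * z * y⁻¹) := by
    rw [map_mul, map_mul, map_inv]
  have hg : π y ∉ Subgroup.normalizer
      (((Subgroup.center ↥(R.map π)).map (R.map π).subtype : Subgroup (M ⧸ A)) : Set (M ⧸ A)) := by
    intro hn
    have hzZ : π z ∈ (Subgroup.center ↥(R.map π)).map (R.map π).subtype :=
      (hZ _).mpr (Or.inr rfl)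
    have h := (Subgroup.mem_normalizer_iff.mp hn (π z)).mp hzZ
    rw [hπt, hZ] at h
    rcases h with h | h
    · have h1 := hRA _ hy ((hπ1 _).mp h)
      apply hz1
      have e : z = y⁻¹ * (y * z * y⁻¹) * y := by group
      rw [e, h1]; group
    · exact hy' (hinj _ hy _ hzR h)
  have hZg : ((Subgroup.center ↥(R.map π)).map (R.map π).subtype).map
      (MulAut.conj (π y)).toMonoidHom ≤ R.map π := by
    rintro x ⟨c, hc, rfl⟩
    have hc' := (hZ c).mp hc
    simp only [MulEquiv.coe_toMonoidHom, MulAut.conj_apply]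
    rcases hc' with h | h
    · rw [h, mul_one, mul_inv_cancel]; exact Subgroup.one_mem _
    · rw [h, hπt]; exact hmemRb _ hy
  exact (Cfsg.Agent.S5422.result (R.map π) hL1 hL2 hL3 w hw hwcard (π y) hg hZg).2.2

end Cfsg.Agent.H1.LESA
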