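import Mathlib
import Cfsg.Agent.Lib.helper3.BlockIdem2

/-!
# Landau's theorem: the order of a finite group is bounded in terms of its class number
-/

set_option autoImplicit false

namespace Cfsg.Agent.Lib.helper3.Landau

universe u

/-- Finitely many ways of writing a positive rational as a sum of `k` unit fractions. -/
theorem exists_bound_unit_fractions : ∀ (k : ℕ) (q : ℚ), 0 < q → ∃ N : ℕ, ∀ s : Multiset ℕ,
    Multiset.card s = k → (∀ n ∈ s, 0 < n) → (s.map (fun n : ℕ => (1 : ℚ) / n)).sum = q →
    ∀ n ∈ s, n ≤ N := by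
  intro k
  induction k with
  | zero =>
    intro q _
    refine ⟨0, ?_⟩
    intro s hs _ _ n hn
    rw [Multiset.card_eq_zero] at hs
    subst hs
    simp at hn
  | succ k ih =>
    intro q hq
    classical
    obtain ⟨m, hm⟩ : ∃ m : ℕ, ((k + 1 : ℕ) : ℚ) / q ≤ m := exists_nat_ge _
    obtain ⟨f, hf⟩ : ∃ f : ℕ → ℕ, f = fun j =>
        if h : 0 < q - 1 / ((j : ℕ) : ℚ) then Classical.choose (ih (q - 1 / ((j : ℕ) : ℚ)) h)
        else 0 := ⟨_, rfl⟩
    refine ⟨max m ((Finset.range (m + 1)).sup f), ?_⟩
    intro s hs hpos hsum n hn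
    have hex : ∃ n₀ ∈ s, n₀ ≤ m := by
      by_contra hcon
      push Not at hcon
      have hle : ∀ x ∈ s.map (fun n : ℕ => (1 : ℚ) / n), x ≤ 1 / ((m : ℚ) + 1) := by
        intro x hx
        obtain ⟨j, hj, rfl⟩ := Multiset.mem_map.mp hx
        have hjm : m + 1 ≤ j := hcon j hj
        have : ((m : ℚ) + 1) ≤ (j : ℚ) := by exact_mod_cast hjm
        apply one_div_le_one_div_of_le _ this
        positivity
      have h1 := Multiset.sum_le_card_nsmul _ _ hle
      rw [Multiset.card_map, hs, hsum, nsmul_eq_mul] at h1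
      have hm1 : (0 : ℚ) < (m : ℚ) + 1 := by positivity
      have h2 : ((k + 1 : ℕ) : ℚ) / q < (m : ℚ) + 1 := by linarith
      rw [div_lt_iff₀ hq] at h2
      rw [mul_one_div, le_div_iff₀ hm1] at h1
      nlinarith
    obtain ⟨n₀, hn₀, hn₀m⟩ := hex
    have hcons := Multiset.cons_erase hn₀
    have hcard' : Multiset.card (s.erase n₀) = k := by
      have := congrArg Multiset.card hcons
      rw [Multiset.card_cons, hs] at this
      omega
    have hsum' : ((s.erase n₀).map (fun n : ℕ => (1 : ℚ) / n)).sum = q - 1 / (n₀ : ℚ) := by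
      have := hsum
      rw [← hcons, Multiset.map_cons, Multiset.sum_cons] at this
      linarith
    have hn' : n = n₀ ∨ n ∈ s.erase n₀ := by
      rw [← hcons] at hn
      exact Multiset.mem_cons.mp hn
    rcases hn' with rfl | hn'
    · exact le_trans hn₀m (le_max_left _ _)
    · have hpos' : ∀ j ∈ s.erase n₀, 0 < j := fun j hj => hpos j (Multiset.mem_of_mem_erase hj)
      have hq' : 0 < q - 1 / (n₀ : ℚ) := by
        rw [← hsum']
        have hmem : (1 : ℚ) / (n : ℚ) ∈ (s.erase n₀).map (fun n : ℕ => (1 : ℚ) / n) :=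
          Multiset.mem_map.mpr ⟨n, hn', rfl⟩
        have hnn : ∀ x ∈ (s.erase n₀).map (fun n : ℕ => (1 : ℚ) / n), 0 ≤ x := by
          intro x hx
          obtain ⟨j, _, rfl⟩ := Multiset.mem_map.mp hx
          positivity
        have h1 := Multiset.single_le_sum hnn _ hmem
        have h2 : (0 : ℚ) < 1 / (n : ℚ) := by
          have : 0 < n := hpos' n hn'
          positivity
        linarith
      have hspec := Classical.choose_spec (ih (q - 1 / (n₀ : ℚ)) hq') (s.erase n₀) hcard' hpos'
        hsum' n hn'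
      have hfn : f n₀ = Classical.choose (ih (q - 1 / (n₀ : ℚ)) hq') := by
        rw [hf]
        beta_reduce
        rw [dif_pos hq']
      have h3 : f n₀ ≤ (Finset.range (m + 1)).sup f :=
        Finset.le_sup (f := f) (Finset.mem_range.mpr (by omega))
      rw [← hfn] at hspec
      exact le_trans hspec (le_trans h3 (le_max_right _ _))

/-- **Landau's theorem.** The order of a finite group is bounded in terms of its class number. -/
theorem exists_bound_card_of_conjClasses (k : ℕ) : ∃ N : ℕ, ∀ (G : Type u) [Group G] [Finite G],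
    Nat.card (ConjClasses G) ≤ k → Nat.card G ≤ N := by
  classical
  choose F hF using fun j : ℕ => exists_bound_unit_fractions j 1 one_pos
  refine ⟨(Finset.range (k + 1)).sup F, ?_⟩
  intro G _ _ hk
  haveI : Fintype G := Fintype.ofFinite G
  have hG0 : 0 < Nat.card G := Nat.card_pos
  obtain ⟨nC, hnC⟩ : ∃ nC : ConjClasses G → ℕ, nC = fun C =>
      Nat.card (Subgroup.centralizer ({Quotient.out C} : Set G)) := ⟨_, rfl⟩
  obtain ⟨s, hs⟩ : ∃ s : Multiset ℕ, s = (Finset.univ : Finset (ConjClasses G)).val.map nC :=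
    ⟨_, rfl⟩
  have hmul : ∀ C : ConjClasses G,
      nC C * (Subgroup.centralizer ({Quotient.out C} : Set G)).index = Nat.card G := by
    intro C
    rw [hnC]
    exact Subgroup.card_mul_index _
  have hnCpos : ∀ C, 0 < nC C := by
    intro C
    rw [hnC]
    exact Nat.card_pos
  have hsumidx : ∑ C : ConjClasses G, (Subgroup.centralizer ({Quotient.out C} : Set G)).index
      = Nat.card G := by
    have h1 := Cfsg.Agent.Lib.helper3.Block.sum_class_fun (G := G) (fun _ => (1 : ℂ))
      (fun _ _ => rfl)
    simp only [mul_one, Finset.sum_const, Finset.card_univ, nsmul_eq_mul] at h1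
    rw [← Nat.card_eq_fintype_card] at h1
    exact_mod_cast h1.symm
  have hsum : (s.map (fun n : ℕ => (1 : ℚ) / n)).sum = 1 := by
    rw [hs, Multiset.map_map]
    change ∑ C : ConjClasses G, (1 : ℚ) / (nC C : ℚ) = 1
    have h1 : ∀ C : ConjClasses G, (1 : ℚ) / (nC C : ℚ)
        = ((Subgroup.centralizer ({Quotient.out C} : Set G)).index : ℚ) / (Nat.card G : ℚ) := by
      intro C
      have h2 : ((nC C : ℚ)) * ((Subgroup.centralizer ({Quotient.out C} : Set G)).index : ℚ)
          = (Nat.card G : ℚ) := by exact_mod_cast hmul C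
      have h3 : (nC C : ℚ) ≠ 0 := by exact_mod_cast (hnCpos C).ne'
      have h4 : (Nat.card G : ℚ) ≠ 0 := by exact_mod_cast hG0.ne'
      field_simp
      linarith
    rw [Finset.sum_congr rfl (fun C _ => h1 C), ← Finset.sum_div]
    have h4 : (Nat.card G : ℚ) ≠ 0 := by exact_mod_cast hG0.ne'
    rw [div_eq_one_iff_eq h4]
    exact_mod_cast hsumidx
  have hcard : Multiset.card s = Nat.card (ConjClasses G) := by
    rw [hs, Multiset.card_map, Nat.card_eq_fintype_card]
    rfl
  have hpos : ∀ n ∈ s, 0 < n := by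
    intro n hn
    rw [hs] at hn
    obtain ⟨C, _, rfl⟩ := Multiset.mem_map.mp hn
    exact hnCpos C
  have hmem : Nat.card G ∈ s := by
    rw [hs]
    apply Multiset.mem_map.mpr
    refine ⟨ConjClasses.mk 1, Finset.mem_univ _, ?_⟩
    rw [hnC]
    beta_reduce
    have h1 : Quotient.out (ConjClasses.mk (1 : G)) = 1 := by
      have : ConjClasses.mk (Quotient.out (ConjClasses.mk (1 : G))) = ConjClasses.mk 1 :=
        Quotient.out_eq _
      rw [ConjClasses.mk_eq_mk_iff_isConj] at this
      exact isConj_one_left.mp this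
    rw [h1]
    have h2 : Subgroup.centralizer ({1} : Set G) = ⊤ := by
      rw [Subgroup.centralizer_eq_top_iff_subset]
      intro x hx
      rw [Set.mem_singleton_iff] at hx
      subst hx
      exact Subgroup.one_mem _
    rw [h2, Subgroup.card_top]
  have h5 := hF (Nat.card (ConjClasses G)) s hcard hpos hsum (Nat.card G) hmem
  have h6 : F (Nat.card (ConjClasses G)) ≤ (Finset.range (k + 1)).sup F :=
    Finset.le_sup (f := F) (Finset.mem_range.mpr (by omega))
  exact le_trans h5 h6

end Cfsg.Agent.Lib.helper3.Landau
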