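import Mathlib
import Cfsg.Prelude.Def_Characters
import Cfsg.Agent.Lib.helper3.Degrees
import Cfsg.Agent.Lib.helper3.Burnside

set_option autoImplicit false
set_option linter.style.haveILetI false
set_option linter.unusedSectionVars false

/-!
# Simple groups with many classes have abelian Sylow subgroups
-/

namespace Cfsg.Agent.Lib.helper3.Central

open Cfsg Module Cfsg.Agent.Lib.helper3.IndFun Cfsg.Agent.Lib.helper3.CharBasic
open Cfsg.Agent.Lib.helper3.Irr
open scoped ComplexConjugate
open Classical

variable {G : Type*} [Group G] [Fintype G]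

/-- In a simple group, an irreducible representation with nonprincipal character is faithful. -/
theorem injective_of_simple [IsSimpleGroup G] {d : ℕ} (ρ : Representation ℂ G (Fin d → ℂ))
    [ρ.IsIrreducible] (hne : ρ.character ≠ fun _ => 1) : Function.Injective ρ := by
  rcases (MonoidHom.normal_ker ρ).eq_bot_or_eq_top with hker | hker
  · exact (MonoidHom.ker_eq_bot_iff ρ).mp hker
  · exfalso
    apply hne
    have hall : ∀ x : G, ρ x = 1 := by
      intro x
      have : x ∈ MonoidHom.ker ρ := by rw [hker]; trivial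
      exact MonoidHom.mem_ker.mp this
    have hval : ∀ x : G, ρ.character x = (finrank ℂ (Fin d → ℂ) : ℂ) := by
      intro x
      rw [← Representation.char_one ρ]
      simp only [Representation.character, hall, map_one]
    have hnorm1 : classInner ρ.character ρ.character = 1 := classInner_character_self ρ
    rw [classInner_apply] at hnorm1
    simp only [hval, Complex.conj_natCast, Finset.sum_const, Finset.card_univ, nsmul_eq_mul]
      at hnorm1
    rw [← Nat.card_eq_fintype_card] at hnorm1
    have hG : (Nat.card G : ℂ) ≠ 0 := card_ne_zero_complex G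
    set n := finrank ℂ (Fin d → ℂ) with hn
    have hn2 : ((n * n : ℕ) : ℂ) = 1 := by
      push_cast
      field_simp at hnorm1
      linear_combination hnorm1
    have hn3 : n * n = 1 := by exact_mod_cast hn2
    have hn1 : n = 1 := Nat.eq_one_of_mul_eq_one_left hn3
    funext x
    rw [hval x, hn1]
    simp

theorem sylow_comm_of_many_classes [IsSimpleGroup G] (p : ℕ) [hpf : Fact p.Prime]
    (hmany : Nat.card G < p ^ 2 * Nat.card (ConjClasses G)) (P : Sylow p G) (a b : G)
    (ha : a ∈ P) (hb : b ∈ P) : a * b = b * a := by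
  have hp : p.Prime := hpf.out
  by_contra hab
  have hPnc : ¬ ∀ x y : (P : Subgroup G), x * y = y * x := by
    intro h
    apply hab
    have := h ⟨a, ha⟩ ⟨b, hb⟩
    exact congrArg Subtype.val this
  -- `p^3` divides the order of `P`
  obtain ⟨m, hm⟩ := IsPGroup.iff_card.mp P.isPGroup'
  have hm3 : 3 ≤ m := by
    by_contra hlt
    push Not at hlt
    apply hPnc
    interval_cases m
    · intro x y
      have : Subsingleton (P : Subgroup G) := by
        rw [← Finite.card_le_one_iff_subsingleton, hm]
        simp
      exact Subsingleton.elim _ _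
    · intro x y
      rw [pow_one] at hm
      haveI : IsCyclic (P : Subgroup G) := isCyclic_of_prime_card hm
      exact (IsCyclic.isMulCommutative (α := (P : Subgroup G))).is_comm.comm x y
    · intro x y
      exact (IsPGroup.isMulCommutative_of_card_eq_prime_sq hm).is_comm.comm x y
  have hp3 : p ^ 3 ∣ Nat.card G := by
    have h1 : p ^ 3 ∣ Nat.card (P : Subgroup G) := by
      rw [hm]
      exact pow_dvd_pow p hm3
    exact dvd_trans h1 (Subgroup.card_subgroup_dvd_card _)
  -- degrees of nonprincipal characters
  have hdeg : ∀ χ : IrrCharacter G, ∃ n : ℕ, 0 < n ∧ (χ : G → ℂ) 1 = n :=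
    fun χ => exists_pos_nat_apply_one χ.2
  choose deg hdegpos hdeg using hdeg
  set χ₀ : IrrCharacter G := ⟨fun _ => 1, isIrrCharacter_one⟩ with hχ₀
  have hbig : ∀ χ : IrrCharacter G, χ ≠ χ₀ → p ≤ deg χ := by
    intro χ hχ
    by_contra hlt
    push Not at hlt
    have hχ1 : (χ : G → ℂ) ≠ fun _ => 1 := fun h => hχ (Subtype.ext h)
    obtain ⟨d, ρ, hirr, hρ⟩ := χ.2
    haveI := hirr
    have hinj := injective_of_simple ρ (by rw [hρ]; exact hχ1)
    have hd : finrank ℂ (Fin d → ℂ) = deg χ := by
      have := Representation.char_one ρ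
      rw [hρ, hdeg χ] at this
      exact_mod_cast this.symm
    -- restrict to `P`
    apply hPnc
    letI : Fintype (P : Subgroup G) := Fintype.ofFinite _
    apply comm_of_faithful_of_small_degree (ρ.comp (P : Subgroup G).subtype)
    · intro x y hxy
      apply Subtype.ext
      apply hinj
      exact hxy
    · intro q hq hqdvd
      rw [hm] at hqdvd
      have hqp : q = p := (Nat.prime_dvd_prime_iff_eq hq hp).mp (hq.dvd_of_dvd_pow hqdvd)
      rw [hqp, hd]
      exact hlt
  -- the count
  have hsum := sum_sq_degree (G := G)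
  have hsumN : ∑ χ : IrrCharacter G, deg χ ^ 2 = Nat.card G := by
    have : ((∑ χ : IrrCharacter G, deg χ ^ 2 : ℕ) : ℂ) = (Nat.card G : ℂ) := by
      rw [← hsum]
      push_cast
      apply Finset.sum_congr rfl
      intro χ _
      rw [hdeg χ]
    exact_mod_cast this
  have hk : Nat.card (ConjClasses G) = Fintype.card (IrrCharacter G) := by
    rw [← card_irr_eq_card_conjClasses, Nat.card_eq_fintype_card]
  have hlower : 1 + (Fintype.card (IrrCharacter G) - 1) * p ^ 2 ≤ Nat.card G := by
    rw [← hsumN, ← Finset.add_sum_erase Finset.univ _ (Finset.mem_univ χ₀)]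
    have h1 : deg χ₀ ^ 2 = 1 := by
      have := hdeg χ₀
      simp only [hχ₀] at this
      have h2 : deg χ₀ = 1 := by exact_mod_cast this.symm
      rw [h2]; simp
    rw [h1]
    apply Nat.add_le_add_left
    have h2 : ∑ χ ∈ Finset.univ.erase χ₀, p ^ 2 ≤ ∑ χ ∈ Finset.univ.erase χ₀, deg χ ^ 2 := by
      apply Finset.sum_le_sum
      intro χ hχ
      exact Nat.pow_le_pow_left (hbig χ (Finset.ne_of_mem_erase hχ)) 2
    rw [Finset.sum_const, Finset.card_erase_of_mem (Finset.mem_univ _), Finset.card_univ,
      smul_eq_mul] at h2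
    exact h2
  rw [hk] at hmany
  obtain ⟨c, hc⟩ := hp3
  set k := Fintype.card (IrrCharacter G) with hkdef
  have hkpos : 0 < k := Fintype.card_pos_iff.mpr ⟨χ₀⟩
  have hp2pos : 0 < p ^ 2 := pow_pos hp.pos 2
  -- `(k-1) p^2 < p^3 c < k p^2`
  have h1 : (k - 1) * p ^ 2 < p ^ 2 * (p * c) := by
    have : p ^ 2 * (p * c) = Nat.card G := by rw [hc]; ring
    rw [this]
    omega
  have h2 : p ^ 2 * (p * c) < p ^ 2 * k := by
    have : p ^ 2 * (p * c) = Nat.card G := by rw [hc]; ring
    rw [this]
    exact hmany
  have h3 : k - 1 < p * c := by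
    rw [mul_comm] at h1
    exact lt_of_mul_lt_mul_left h1 (Nat.zero_le _)
  have h4 : p * c < k := lt_of_mul_lt_mul_left h2 (Nat.zero_le _)
  omega

end Cfsg.Agent.Lib.helper3.Central
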