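import Mathlib
import Cfsg.Prelude.Def_Transfer
import Cfsg.Agent.S0117
import Cfsg.Agent.H2.CC2
import Cfsg.Agent.H2.CycSylB
import Cfsg.Agent.H1.Splitting

set_option autoImplicit false
set_option linter.style.haveILetI false
set_option linter.unusedSectionVars false
set_option linter.unusedVariables false

/-!
# S3905, piece P2: the Centerless Lemma, non-abelian minimal normal subgroup

`N ⊴ G` with `C_G(x)` a maximal subgroup for every `1 ≠ x ∈ N`: a minimal normal subgroup `A ≤ N`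
of `G` is abelian.
-/

namespace Cfsg.Agent.Lib.helper3.MaxCentNA

open Cfsg

universe u

variable {G : Type u} [Group G] [Finite G]

/-- two comparable coatoms are equal -/
theorem coatom_eq_of_le {a b : Subgroup G} (ha : IsCoatom a) (hb : IsCoatom b) (h : a ≤ b) :
    a = b := by
  rcases eq_or_lt_of_le h with h1 | h1
  · exact h1
  · exact absurd (ha.2 b h1) hb.1

omit [Finite G] in
theorem mem_centralizer_singleton_iff' {g x : G} :
    g ∈ Subgroup.centralizer ({x} : Set G) ↔ g * x = x * g := by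
  rw [Subgroup.mem_centralizer_iff]
  constructor
  · intro h
    exact (h x (Set.mem_singleton x)).symm
  · intro h y hy
    rw [Set.mem_singleton_iff.1 hy]
    exact h.symm

/-- **Step 1**: commuting nonidentity elements of `N` of coprime orders have the same
centralizer. -/
theorem centralizer_eq_of_coprime (N : Subgroup G)
    (hM : ∀ x ∈ N, x ≠ 1 → IsCoatom (Subgroup.centralizer ({x} : Set G)))
    (x y : G) (hx : x ∈ N) (hy : y ∈ N) (hx1 : x ≠ 1) (hy1 : y ≠ 1) (hxy : x * y = y * x)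
    (hcop : (orderOf x).Coprime (orderOf y)) :
    Subgroup.centralizer ({x} : Set G) = Subgroup.centralizer ({y} : Set G) := by
  have hne : x * y ≠ 1 := by
    intro h
    have h1 : y = x⁻¹ := (eq_inv_of_mul_eq_one_right h)
    rw [h1, orderOf_inv] at hcop
    have h2 : orderOf x = 1 := (Nat.coprime_self _).1 hcop
    exact hx1 (orderOf_eq_one_iff.1 h2)
  have hc := Cfsg.Agent.H2.CC.centralizer_mul_of_coprime x y hxy hcop
  have h1 := hM (x * y) (N.mul_mem hx hy) hne
  have h2 : Subgroup.centralizer ({x * y} : Set G) = Subgroup.centralizer ({x} : Set G) :=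
    coatom_eq_of_le h1 (hM x hx hx1) (by rw [hc]; exact inf_le_left)
  have h3 : Subgroup.centralizer ({x * y} : Set G) = Subgroup.centralizer ({y} : Set G) :=
    coatom_eq_of_le h1 (hM y hy hy1) (by rw [hc]; exact inf_le_right)
  rw [← h2, h3]

/-- a finite group all of whose `p'`-elements are central is nilpotent -/
theorem isNilpotent_of_pprime_central {X : Type*} [Group X] [Finite X] (p : ℕ)
    [hp : Fact p.Prime] (h : ∀ x : X, (orderOf x).Coprime p → x ∈ Subgroup.center X) :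
    Group.IsNilpotent X := by
  have hq : IsPGroup p (X ⧸ Subgroup.center X) := by
    intro y
    obtain ⟨x, rfl⟩ := QuotientGroup.mk_surjective y
    have hne : orderOf x ≠ 0 := (orderOf_pos x).ne'
    obtain ⟨e, m, hm, hem⟩ := Nat.exists_eq_pow_mul_and_not_dvd hne p hp.out.ne_one
    refine ⟨e, ?_⟩
    have hpe : p ^ e ∣ orderOf x := ⟨m, hem⟩
    have hord : orderOf (x ^ p ^ e) = m := by
      rw [orderOf_pow_of_dvd (pow_ne_zero e hp.out.ne_zero) hpe, hem,
        Nat.mul_div_cancel_left _ (pow_pos hp.out.pos e)]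
    have hmem : x ^ p ^ e ∈ Subgroup.center X := by
      apply h
      rw [hord]
      exact ((Nat.Prime.coprime_iff_not_dvd hp.out).2 hm).symm
    rw [← QuotientGroup.mk_pow]
    exact (QuotientGroup.eq_one_iff _).2 hmem
  haveI : Group.IsNilpotent (X ⧸ Subgroup.center X) := hq.isNilpotent
  apply Subgroup.isNilpotent_of_ker_le_center (QuotientGroup.mk' (Subgroup.center X))
  rw [QuotientGroup.ker_mk']

/-- **Centerless Lemma, non-abelian case**: if `C_G(x)` is a maximal subgroup of `G` for every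
`1 ≠ x ∈ N`, then a minimal normal subgroup of `G` contained in `N` is abelian. -/
theorem centerless_nonabelian (N : Subgroup G) [N.Normal]
    (hZ : ∀ x ∈ N, (∀ y ∈ N, x * y = y * x) → x = 1)
    (hM : ∀ x ∈ N, x ≠ 1 → IsCoatom (Subgroup.centralizer ({x} : Set G)))
    (A : Subgroup G) [hAn : A.Normal] (hAN : A ≤ N) (hA1 : A ≠ ⊥)
    (hAmin : ∀ B : Subgroup G, B.Normal → B ≤ A → B = ⊥ ∨ B = A)
    (hAnab : ¬ ∀ a ∈ A, ∀ b ∈ A, a * b = b * a) : False := by
  classical
  -- (F1) `A ∩ C_G(A) = 1`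
  have hZA : A ⊓ Subgroup.centralizer (A : Set G) = ⊥ := by
    rcases hAmin (A ⊓ Subgroup.centralizer (A : Set G)) inferInstance inf_le_left with h | h
    · exact h
    · exfalso
      apply hAnab
      intro a ha b hb
      have h1 : a ∈ A ⊓ Subgroup.centralizer (A : Set G) := by rw [h]; exact ha
      exact ((Subgroup.mem_centralizer_iff.1 h1.2) b hb).symm
  haveI hAnt : Nontrivial ↥A := (Subgroup.nontrivial_iff_ne_bot _).2 hA1
  -- `A` is not a `q`-group
  have hnotp : ∀ (q : ℕ) [Fact q.Prime], ¬ IsPGroup q ↥A := by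
    intro q _ hq
    haveI := hq.center_nontrivial
    obtain ⟨c, hc⟩ := exists_ne (1 : ↥(Subgroup.center ↥A))
    have h1 : ((c : ↥A) : G) ∈ A ⊓ Subgroup.centralizer (A : Set G) := by
      refine Subgroup.mem_inf.2 ⟨(c : ↥A).2, ?_⟩
      rw [Subgroup.mem_centralizer_iff]
      intro a ha
      have h2 := Subgroup.mem_center_iff.1 c.2 ⟨a, ha⟩
      exact congrArg Subtype.val h2
    rw [hZA, Subgroup.mem_bot] at h1
    apply hc
    apply Subtype.ext
    apply Subtype.ext
    exact h1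
  -- an odd prime dividing `|A|`
  obtain ⟨p, hp, hpodd, hpA⟩ : ∃ p : ℕ, p.Prime ∧ p ≠ 2 ∧ p ∣ Nat.card ↥A := by
    by_contra hcon
    push Not at hcon
    have h2 : Nat.card ↥A = 2 ^ (Nat.card ↥A).primeFactorsList.length := by
      apply Nat.eq_prime_pow_of_unique_prime_dvd Nat.card_pos.ne'
      intro d hd hdvd
      by_contra hne
      exact hcon d hd hne hdvd
    haveI : Fact (Nat.Prime 2) := ⟨Nat.prime_two⟩
    exact hnotp 2 (IsPGroup.of_card h2)
  haveI : Fact p.Prime := ⟨hp⟩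
  obtain ⟨P'⟩ : Nonempty (Sylow p ↥A) := inferInstance
  set Q : Subgroup G := (P' : Subgroup ↥A).map A.subtype with hQ
  have hQA : Q ≤ A := Subgroup.map_subtype_le _
  have hQp : IsPGroup p ↥Q := P'.isPGroup'.map A.subtype
  have hP'ne : (P' : Subgroup ↥A) ≠ ⊥ := P'.ne_bot_of_dvd_card hpA
  have hQne : Q ≠ ⊥ := by
    intro h
    apply hP'ne
    exact (Subgroup.map_eq_bot_iff_of_injective _ A.subtype_injective).1 h
  haveI : Nontrivial ↥Q := (Subgroup.nontrivial_iff_ne_bot _).2 hQne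
  -- `z ∈ Z(Q)` of order `p`
  haveI hcnt := hQp.center_nontrivial
  have hcp : IsPGroup p ↥(Subgroup.center ↥Q) := hQp.to_subgroup _
  obtain ⟨k, hk⟩ := IsPGroup.iff_card.1 hcp
  have hk0 : k ≠ 0 := by
    intro h
    rw [h, pow_zero] at hk
    have := Finite.one_lt_card_iff_nontrivial.2 hcnt
    omega
  have hpdvd : p ∣ Nat.card ↥(Subgroup.center ↥Q) := by
    rw [hk]
    exact dvd_pow_self p hk0
  obtain ⟨z', hz'⟩ := exists_prime_orderOf_dvd_card' p hpdvd
  obtain ⟨z, hzdef⟩ : ∃ z : G, z = ((z' : ↥Q) : G) := ⟨_, rfl⟩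
  have hzo : orderOf z = p := by
    rw [hzdef, Subgroup.orderOf_coe, Subgroup.orderOf_coe]
    exact hz'
  have hzQ : z ∈ Q := by
    rw [hzdef]
    exact (z' : ↥Q).2
  have hzc : ∀ q ∈ Q, q * z = z * q := by
    intro q hq
    have h1 := Subgroup.mem_center_iff.1 z'.2 ⟨q, hq⟩
    have h2 := congrArg Subtype.val h1
    rw [hzdef]
    exact h2
  have hz1 : z ≠ 1 := by
    intro h
    rw [h, orderOf_one] at hzo
    exact hp.one_lt.ne hzo
  have hzN : z ∈ N := hAN (hQA hzQ)
  obtain ⟨Mz, hMzdef⟩ : ∃ Mz : Subgroup G, Mz = Subgroup.centralizer ({z} : Set G) := ⟨_, rfl⟩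
  have hMz : IsCoatom Mz := by
    rw [hMzdef]
    exact hM z hzN hz1
  have hQMz : Q ≤ Mz := by
    intro q hq
    rw [hMzdef]
    exact mem_centralizer_singleton_iff'.2 (hzc q hq)
  -- the `p'`-elements of `A ∩ M_z` are central in `M_z`
  have key : ∀ y ∈ A, y ∈ Mz → (orderOf y).Coprime p → ∀ w ∈ Mz, w * y = y * w := by
    intro y hyA hyM hyo w hw
    by_cases hy1 : y = 1
    · rw [hy1, mul_one, one_mul]
    · rw [hMzdef] at hyM hw
      have h1 : z * y = y * z := (mem_centralizer_singleton_iff'.1 hyM).symm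
      have h2 := centralizer_eq_of_coprime N hM z y hzN (hAN hyA) hz1 hy1 h1
        (by rw [hzo]; exact hyo.symm)
      rw [h2] at hw
      exact mem_centralizer_singleton_iff'.1 hw
  -- `C = A ∩ M_z` is nilpotent
  obtain ⟨C, hCdef⟩ : ∃ C : Subgroup G, C = A ⊓ Mz := ⟨_, rfl⟩
  have hCA : C ≤ A := by rw [hCdef]; exact inf_le_left
  have hCM : C ≤ Mz := by rw [hCdef]; exact inf_le_right
  have hQC : Q ≤ C := by rw [hCdef]; exact le_inf hQA hQMz
  haveI hCnil : Group.IsNilpotent ↥C := by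
    apply isNilpotent_of_pprime_central p
    intro c hc
    rw [Subgroup.mem_center_iff]
    intro d
    apply Subtype.ext
    rw [Subgroup.coe_mul, Subgroup.coe_mul]
    have hco : (orderOf (c : G)).Coprime p := by
      rw [Subgroup.orderOf_coe]
      exact hc
    exact key (c : G) (hCA c.2) (hCM c.2) hco (d : G) (hCM d.2)
  -- `Q` is a normal Sylow `p`-subgroup of `C`
  have hQCp : IsPGroup p ↥(Q.subgroupOf C) := hQp.comap_subtype
  have hidx : ¬ p ∣ (Q.subgroupOf C).index := by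
    have h1 : Q.relIndex C * C.relIndex A = Q.relIndex A :=
      Subgroup.relIndex_mul_relIndex Q C A hQC hCA
    have h2 : Q.relIndex A = (P' : Subgroup ↥A).index := by
      unfold Subgroup.relIndex
      congr 1
      rw [hQ]
      exact Subgroup.comap_map_eq_self_of_injective A.subtype_injective _
    intro hdvd
    apply P'.not_dvd_index
    rw [← h2, ← h1]
    exact Dvd.dvd.mul_right hdvd _
  obtain ⟨SC, hSCdef⟩ : ∃ SC : Sylow p ↥C, (SC : Subgroup ↥C) = Q.subgroupOf C :=
    ⟨hQCp.toSylow hidx, rfl⟩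
  have hSCn : (SC : Subgroup ↥C).Normal := inferInstance
  have hMzQ : Mz ≤ Subgroup.normalizer (Q : Set G) := by
    intro g hg
    apply Cfsg.Agent.H2.CycSylAb.mem_normalizer_of_conj_le
    intro q hq
    have h1 : g * q * g⁻¹ ∈ C := by
      rw [hCdef]
      exact ⟨hAn.conj_mem q (hQA hq) g, Mz.mul_mem (Mz.mul_mem hg (hQMz hq)) (Mz.inv_mem hg)⟩
    obtain ⟨R, hRdef⟩ : ∃ R : Subgroup ↥C,
        R = (Q.map (MulAut.conj g).toMonoidHom).subgroupOf C := ⟨_, rfl⟩
    have hRp : IsPGroup p ↥R := by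
      rw [hRdef]
      exact (hQp.map _).comap_subtype
    obtain ⟨S, hS⟩ := hRp.exists_le_sylow
    have hSS : S = SC := by
      haveI := Sylow.unique_of_normal SC hSCn
      exact Subsingleton.elim _ _
    have h2 : (⟨g * q * g⁻¹, h1⟩ : ↥C) ∈ R := by
      rw [hRdef, Subgroup.mem_subgroupOf]
      exact ⟨q, hq, rfl⟩
    have h3 : (⟨g * q * g⁻¹, h1⟩ : ↥C) ∈ (SC : Subgroup ↥C) := by
      rw [← hSS]
      exact hS h2
    rw [hSCdef, Subgroup.mem_subgroupOf] at h3
    exact h3
  -- `Z₀ = Z(J(Q))`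
  obtain ⟨Z0, hZ0def⟩ : ∃ Z0 : Subgroup G, Z0 = Cfsg.centerThompsonOf p Q := ⟨_, rfl⟩
  have hZ0Q : Z0 ≤ Q := by
    rw [hZ0def]
    exact Cfsg.Agent.Lib.Helper4.ZJE.Z_le Q
  have hZ0ne : Z0 ≠ ⊥ := by
    rw [hZ0def]
    exact (Cfsg.Agent.Lib.Helper4.ZJE.pFunctor_WZE hpodd).ne_bot G Q hQp hQne
  have hNQ : Subgroup.normalizer (Q : Set G) ≤ Subgroup.normalizer (Z0 : Set G) := by
    intro n hn
    apply Cfsg.Agent.H2.CycSylAb.mem_normalizer_of_conj_le
    intro x hx
    rw [hZ0def] at hx ⊢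
    exact Cfsg.Agent.Lib.Helper4.ZJE.Z_conj_mem hn hx
  have hNZ0ne : Subgroup.normalizer (Z0 : Set G) ≠ ⊤ := by
    intro h
    have hn : Z0.Normal := Subgroup.normalizer_eq_top_iff.1 h
    rcases hAmin Z0 hn (hZ0Q.trans hQA) with h1 | h1
    · exact hZ0ne h1
    · apply hAnab
      intro a ha b hb
      rw [← h1, hZ0def] at ha hb
      exact Cfsg.Agent.Lib.Helper4.ZJE.Z_comm Q a ha b hb
  have hNZ0 : Subgroup.normalizer (Z0 : Set G) = Mz := by
    rcases eq_or_lt_of_le (hMzQ.trans hNQ) with h | h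
    · exact h.symm
    · exact absurd (hMz.2 _ h) hNZ0ne
  -- transport to `↥A`
  obtain ⟨Z0', hZ0'def⟩ : ∃ Z0' : Subgroup ↥A,
      Z0' = Cfsg.centerThompsonOf p (P' : Subgroup ↥A) := ⟨_, rfl⟩
  have hmap : Z0 = Z0'.map A.subtype := by
    rw [hZ0def, hZ0'def, hQ]
    exact (Cfsg.Agent.Lib.Helper4.ZJE.pFunctor_WZE hpodd).map ↥A G A.subtype
      (P' : Subgroup ↥A) (fun x _ hx => by
        apply Subtype.ext
        exact hx)
  have hXM : ∀ x : ↥A, x ∈ Subgroup.normalizer (Z0' : Set ↥A) → (x : G) ∈ Mz := by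
    intro x hx
    rw [← hNZ0]
    apply Cfsg.Agent.H2.CycSylAb.mem_normalizer_of_conj_le
    intro w hw
    rw [hmap] at hw ⊢
    obtain ⟨w', hw', rfl⟩ := hw
    refine ⟨x * w' * x⁻¹, (Subgroup.mem_normalizer_iff.1 hx w').1 hw', ?_⟩
    simp
  haveI hXnil : Group.IsNilpotent ↥(Subgroup.normalizer (Z0' : Set ↥A)) := by
    apply isNilpotent_of_pprime_central p
    intro x hx
    rw [Subgroup.mem_center_iff]
    intro w
    apply Subtype.ext
    apply Subtype.ext
    rw [Subgroup.coe_mul, Subgroup.coe_mul, Subgroup.coe_mul, Subgroup.coe_mul]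
    have hco : (orderOf ((x : ↥A) : G)).Coprime p := by
      rw [Subgroup.orderOf_coe, Subgroup.orderOf_coe]
      exact hx
    exact key ((x : ↥A) : G) (x : ↥A).2 (hXM _ x.2) hco ((w : ↥A) : G) (hXM _ w.2)
  have hnpcX : Cfsg.HasNormalPComplement p ↥(Subgroup.normalizer (Z0' : Set ↥A)) :=
    Cfsg.Agent.H1.hasNormalPComplement_of_isNilpotent p
  have hnpcA : Cfsg.HasNormalPComplement p ↥A := by
    rw [hZ0'def] at hnpcX
    exact (Cfsg.Agent.S0117.result hpodd P').2 hnpcX
  obtain ⟨T, hTA, hTn, hTc, ⟨k', hk'⟩, hTall⟩ := Cfsg.Agent.H2.CycSylAb.internal_npc A hnpcA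
  have hTnorm : T.Normal := by
    constructor
    intro t ht g
    apply hTall _ (hAn.conj_mem t (hTA ht) g)
    have h1 : orderOf (g * t * g⁻¹) = orderOf t := by
      have h2 : g * t * g⁻¹ = MulAut.conj g t := by rw [MulAut.conj_apply]
      rw [h2, MulEquiv.orderOf_eq]
    rw [h1]
    have h3 : orderOf t ∣ Nat.card ↥T := by
      have := orderOf_dvd_natCard (⟨t, ht⟩ : ↥T)
      rwa [Subgroup.orderOf_mk] at this
    exact Nat.Coprime.coprime_dvd_left h3 hTc
  rcases hAmin T hTnorm hTA with h | h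
  · rw [h, Subgroup.card_bot, one_mul] at hk'
    exact hnotp p (IsPGroup.of_card hk')
  · rw [h] at hTc
    exact (Nat.Prime.coprime_iff_not_dvd hp).1 hTc.symm hpA

end Cfsg.Agent.Lib.helper3.MaxCentNA
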