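import Mathlib
import Cfsg.Prelude.Def_Blocks
import Cfsg.Agent.Lib.helper3.Degrees
import Cfsg.Agent.Lib.helper3.Irr10
import Cfsg.Agent.Lib.helper3.Irr8
import Cfsg.Agent.Lib.helper3.Irr7

/-!
# Largest character degree: subgroups and `p`-groups
-/

set_option autoImplicit false
set_option linter.style.haveILetI false
set_option linter.unusedSectionVars false

namespace Cfsg.Agent.Lib.helper3.MaxDeg

open Cfsg Module Cfsg.Agent.Lib.helper3.IndFun Cfsg.Agent.Lib.helper3.CharBasic
open Cfsg.Agent.Lib.helper3.Irr Cfsg.Agent.Lib.helper3.Central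
open scoped ComplexConjugate

theorem charDegree_eq_of {X : Type*} [Group X] {χ : X → ℂ} {d : ℕ} (hd : χ 1 = d) :
    charDegree χ = d := by
  unfold charDegree
  rw [hd, Complex.natCast_re, Nat.floor_natCast]

variable {G : Type*} [Group G] [Fintype G]

/-- Every irreducible character of a subgroup has degree at most that of some irreducible
character of the group. -/
theorem exists_degree_ge (H : Subgroup G) (ψ : IrrCharacter H) :
    ∃ χ : IrrCharacter G, charDegree (ψ : H → ℂ) ≤ charDegree (χ : G → ℂ) := by
  classical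
  letI : Fintype H := Fintype.ofFinite H
  have hψc := isCharacter_of_isIrrCharacter ψ.2
  have hind : IsCharacter G (indFun H (ψ : H → ℂ)) := isCharacter_indFun H _ hψc
  obtain ⟨b, hb0, hb⟩ := exists_pos_nat_apply_one ψ.2
  have hne : indFun H (ψ : H → ℂ) ≠ 0 := by
    intro h0
    have h1 := congrFun h0 1
    rw [indFun_apply_one, hb] at h1
    have hidx : H.index ≠ 0 := Subgroup.index_ne_zero_of_finite
    simp only [Pi.zero_apply, mul_eq_zero, Nat.cast_eq_zero] at h1
    omega
  obtain ⟨χ, hχ⟩ := exists_constituent hind hne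
  refine ⟨χ, ?_⟩
  have hχc := isCharacter_of_isIrrCharacter χ.2
  rw [frobenius_reciprocity H (ψ : H → ℂ) (χ : G → ℂ) (isClassFunction_of_isCharacter hχc)] at hχ
  have hres : IsCharacter H (fun h : H => (χ : G → ℂ) h) := isCharacter_restrict hχc H
  have hχ' : classInner (fun h : H => (χ : G → ℂ) h) (ψ : H → ℂ) ≠ 0 := by
    rw [← classInner_conj_symm]
    intro h
    apply hχ
    have := congrArg conj h
    simpa using this
  obtain ⟨a, ha0, ha⟩ := exists_pos_nat_apply_one χ.2
  have hle := constituent_degree_le hres ψ hχ' (a := a) (b := b) (by simpa using ha) hb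
  rw [charDegree_eq_of hb, charDegree_eq_of ha]
  exact hle

/-- A `p`-group all of whose irreducible characters have degree less than `p` is commutative. -/
theorem comm_of_pgroup_of_degree_lt (p : ℕ) [hp : Fact p.Prime] (hG : IsPGroup p G)
    (hb : ∀ χ : IrrCharacter G, charDegree (χ : G → ℂ) < p) (a b : G) : a * b = b * a := by
  classical
  have hlin : ∀ χ : IrrCharacter G, (χ : G → ℂ) 1 = 1 := by
    intro χ
    obtain ⟨n, hn, hdvd, hpos⟩ := irr_degree_dvd_card χ.2
    obtain ⟨k, hk⟩ := IsPGroup.iff_card.mp hG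
    rw [hk] at hdvd
    obtain ⟨j, _, hj⟩ := (Nat.dvd_prime_pow hp.out).mp hdvd
    have hlt := hb χ
    rw [charDegree_eq_of hn, hj] at hlt
    have hj0 : j = 0 := by
      by_contra h
      have : p ^ 1 ≤ p ^ j := Nat.pow_le_pow_right hp.out.pos (Nat.one_le_iff_ne_zero.mpr h)
      rw [pow_one] at this
      omega
    rw [hn, hj, hj0, pow_zero, Nat.cast_one]
  have hsum := sum_sq_degree (G := G)
  simp only [hlin, one_pow, Finset.sum_const, Finset.card_univ, nsmul_eq_mul, mul_one] at hsum
  have hcard : Fintype.card (IrrCharacter G) = Nat.card G := by exact_mod_cast hsum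
  have hcls : Nat.card (ConjClasses G) = Nat.card G := by
    rw [← card_irr_eq_card_conjClasses, Nat.card_eq_fintype_card, hcard]
  have hprob : commProb G = 1 := by
    rw [commProb_def']
    rw [hcls]
    have : (Nat.card G : ℚ) ≠ 0 := by
      have : Nat.card G ≠ 0 := Nat.card_pos.ne'
      exact_mod_cast this
    field_simp
  have := (commProb_eq_one_iff (M := G)).mp hprob
  exact this.is_comm.comm a b

end Cfsg.Agent.Lib.helper3.MaxDeg
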