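import Mathlib
import Cfsg.Prelude.Def_Blocks
import Cfsg.Agent.Lib.helper3.MaxDeg1
import Cfsg.Agent.Lib.helper3.Irr11
import Cfsg.Agent.Lib.helper3.Irr9

/-!
# A degree bound from the rank of a permutation character
-/

set_option autoImplicit false
set_option linter.style.haveILetI false
set_option linter.unusedSectionVars false

namespace Cfsg.Agent.Lib.helper3.MaxDeg

open Cfsg Module Cfsg.Agent.Lib.helper3.IndFun Cfsg.Agent.Lib.helper3.CharBasic
open Cfsg.Agent.Lib.helper3.Irr Cfsg.Agent.Lib.helper3.Central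
open scoped ComplexConjugate

variable {G : Type*} [Group G] [Fintype G]

/-- The norm of the permutation character on the cosets of `N`, as a count of pairs. -/
theorem card_sq_mul_classInner_indFun_one [DecidableEq G] (N : Subgroup G) [Fintype N]
    [DecidablePred (· ∈ N)] :
    (Nat.card N : ℂ) ^ 2 * classInner (indFun N (fun _ => (1 : ℂ))) (indFun N (fun _ => (1 : ℂ)))
      = ((∑ x : G, (Finset.univ.filter (fun n : N => x⁻¹ * (n : G) * x ∈ N)).card : ℕ) : ℂ) := by
  have hcf : IsClassFunction G (indFun N (fun _ => (1 : ℂ))) := indFun_isClassFunction N _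
  rw [frobenius_reciprocity N _ _ hcf, classInner_apply]
  have hval : ∀ n : N, conj (indFun N (fun _ => (1 : ℂ)) (n : G))
      = (Nat.card N : ℂ)⁻¹ * ∑ x : G, (if x⁻¹ * (n : G) * x ∈ N then (1 : ℂ) else 0) := by
    intro n
    rw [indFun_apply, map_mul, map_inv₀, Complex.conj_natCast, map_sum]
    congr 1
    apply Finset.sum_congr rfl
    intro x _
    rw [extendByZero_eq_ite]
    split_ifs <;> simp
  simp_rw [hval, one_mul, ← Finset.mul_sum]
  rw [Finset.sum_comm]
  have hN : (Nat.card N : ℂ) ≠ 0 := card_ne_zero_complex N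
  have hcount : ∀ x : G, ∑ n : N, (if x⁻¹ * (n : G) * x ∈ N then (1 : ℂ) else 0)
      = ((Finset.univ.filter (fun n : N => x⁻¹ * (n : G) * x ∈ N)).card : ℂ) := by
    intro x
    rw [Finset.sum_ite, Finset.sum_const, Finset.sum_const_zero, add_zero, nsmul_eq_mul, mul_one]
  simp_rw [hcount]
  push_cast
  field_simp

/-- If `N` is a proper subgroup meeting each of its other conjugates in at most `|N| / m`
elements, then some irreducible character has degree at least `m`. -/
theorem exists_degree_ge_of_rank (N : Subgroup G) (m : ℕ) (hm : 0 < m) (hN : N ≠ ⊤)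
    [DecidableEq G] [Fintype N] [DecidablePred (· ∈ N)]
    (hc : ∀ x : G, x ∉ N →
      (Finset.univ.filter (fun n : N => x⁻¹ * (n : G) * x ∈ N)).card * m ≤ Nat.card N) :
    ∃ χ : IrrCharacter G, m ≤ charDegree (χ : G → ℂ) := by
  by_contra hcon
  push Not at hcon
  set π : G → ℂ := indFun N (fun _ => (1 : ℂ)) with hπ
  have hπc : IsCharacter G π := isCharacter_indFun N _ isCharacter_one
  obtain ⟨a, ha⟩ := exists_decomposition_of_isCharacter hπc
  have hdeg : ∀ χ : IrrCharacter G, ∃ n : ℕ, 0 < n ∧ (χ : G → ℂ) 1 = n :=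
    fun χ => exists_pos_nat_apply_one χ.2
  choose d hd0 hd using hdeg
  have hdm : ∀ χ, d χ < m := by
    intro χ
    have := hcon χ
    rwa [charDegree_eq_of (hd χ)] at this
  -- degree
  have h1 : ∑ χ : IrrCharacter G, a χ * d χ = N.index := by
    have h := congrFun ha 1
    rw [hπ, indFun_apply_one] at h
    simp only [Finset.sum_apply, Pi.smul_apply, smul_eq_mul, hd, mul_one] at h
    have : ((N.index : ℕ) : ℂ) = ((∑ χ : IrrCharacter G, a χ * d χ : ℕ) : ℂ) := by
      rw [h]; push_cast; rfl
    exact_mod_cast this.symm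
  -- the trivial character
  set χ₁ : IrrCharacter G := ⟨fun _ => (1 : ℂ), isIrrCharacter_one⟩ with hχ₁
  have h2 : a χ₁ = 1 := by
    have h := classInner_decomposition_left (fun χ => (a χ : ℂ)) χ₁
    rw [← ha, hπ] at h
    have hfr := frobenius_reciprocity N (fun _ => (1 : ℂ)) (χ₁ : G → ℂ)
      (isClassFunction_of_isCharacter (isCharacter_of_isIrrCharacter χ₁.2))
    rw [hfr] at h
    have : classInner (fun _ : N => (1 : ℂ)) (fun h : N => (χ₁ : G → ℂ) h) = 1 := classInner_one_one
    rw [this] at h
    exact_mod_cast h.symm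
  have hd1 : d χ₁ = 1 := by
    have := hd χ₁
    have h1' : (χ₁ : G → ℂ) 1 = 1 := rfl
    rw [h1'] at this
    exact_mod_cast this.symm
  -- the norm
  have h3 : Nat.card N ^ 2 * ∑ χ : IrrCharacter G, a χ ^ 2
      = ∑ x : G, (Finset.univ.filter (fun n : N => x⁻¹ * (n : G) * x ∈ N)).card := by
    have h := card_sq_mul_classInner_indFun_one N
    rw [← hπ] at h
    conv at h => lhs; rw [ha]
    rw [classInner_self_decomposition] at h
    exact_mod_cast h
  -- bound the count
  have hn0 : 0 < Nat.card N := Nat.card_pos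
  have hcardG : Nat.card G = Nat.card N * N.index := (N.card_mul_index).symm
  have h4 : m * ∑ x : G, (Finset.univ.filter (fun n : N => x⁻¹ * (n : G) * x ∈ N)).card
      ≤ m * Nat.card N ^ 2 + Nat.card N ^ 2 * (N.index - 1) := by
    have hsplit : ∀ x : G, m * (Finset.univ.filter (fun n : N => x⁻¹ * (n : G) * x ∈ N)).card
        ≤ (if x ∈ N then m * Nat.card N else 0) + (if x ∈ N then 0 else Nat.card N) := by
      intro x
      by_cases hx : x ∈ N
      · rw [if_pos hx, if_pos hx, add_zero]
        apply Nat.mul_le_mul_left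
        calc (Finset.univ.filter (fun n : N => x⁻¹ * (n : G) * x ∈ N)).card
            ≤ (Finset.univ : Finset N).card := Finset.card_le_card (Finset.filter_subset _ _)
          _ = Nat.card N := by rw [Finset.card_univ, Nat.card_eq_fintype_card]
      · rw [if_neg hx, if_neg hx, zero_add, mul_comm]
        exact hc x hx
    rw [Finset.mul_sum]
    refine le_trans (Finset.sum_le_sum (fun x _ => hsplit x)) ?_
    rw [Finset.sum_add_distrib]
    have e1 : ∑ x : G, (if x ∈ N then m * Nat.card N else 0) = m * Nat.card N ^ 2 := by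
      rw [← Finset.sum_filter, Finset.sum_const, smul_eq_mul]
      have : (Finset.univ.filter (fun x : G => x ∈ N)).card = Nat.card N := by
        rw [Nat.card_eq_fintype_card, Fintype.card_subtype]
      rw [this]; ring
    have e2 : ∑ x : G, (if x ∈ N then 0 else Nat.card N) = Nat.card N ^ 2 * (N.index - 1) := by
      have : ∀ x : G, (if x ∈ N then 0 else Nat.card N) = (if ¬ x ∈ N then Nat.card N else 0) := by
        intro x; split_ifs <;> rfl
      simp_rw [this]
      rw [← Finset.sum_filter, Finset.sum_const, smul_eq_mul]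
      have hcomp : (Finset.univ.filter (fun x : G => ¬ x ∈ N)).card = Nat.card G - Nat.card N := by
        have h1 : (Finset.univ.filter (fun x : G => x ∈ N)).card = Nat.card N := by
          rw [Nat.card_eq_fintype_card, Fintype.card_subtype]
        have h2 := Finset.card_filter_add_card_filter_not (s := (Finset.univ : Finset G))
          (fun x : G => x ∈ N)
        rw [Finset.card_univ, ← Nat.card_eq_fintype_card, h1] at h2
        omega
      rw [hcomp, hcardG]
      have hidx : 0 < N.index := Nat.pos_of_ne_zero Subgroup.index_ne_zero_of_finite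
      obtain ⟨k, hk⟩ : ∃ k, N.index = k + 1 := ⟨N.index - 1, by omega⟩
      rw [hk, Nat.add_sub_cancel]
      have : Nat.card N * (k + 1) - Nat.card N = Nat.card N * k := by
        rw [Nat.mul_succ, Nat.add_sub_cancel]
      rw [this]; ring
    rw [e1, e2]
  -- combine
  have h5 : m * ∑ χ : IrrCharacter G, a χ ^ 2 ≤ m + (N.index - 1) := by
    have : Nat.card N ^ 2 * (m * ∑ χ : IrrCharacter G, a χ ^ 2)
        ≤ Nat.card N ^ 2 * (m + (N.index - 1)) := by
      calc Nat.card N ^ 2 * (m * ∑ χ : IrrCharacter G, a χ ^ 2)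
          = m * (Nat.card N ^ 2 * ∑ χ : IrrCharacter G, a χ ^ 2) := by ring
        _ = m * ∑ x : G, (Finset.univ.filter (fun n : N => x⁻¹ * (n : G) * x ∈ N)).card := by
            rw [h3]
        _ ≤ m * Nat.card N ^ 2 + Nat.card N ^ 2 * (N.index - 1) := h4
        _ = Nat.card N ^ 2 * (m + (N.index - 1)) := by ring
    exact Nat.le_of_mul_le_mul_left this (by positivity)
  -- split off the trivial character
  have hS : ∑ χ : IrrCharacter G, a χ ^ 2
      = 1 + ∑ χ ∈ Finset.univ.erase χ₁, a χ ^ 2 := by
    rw [← Finset.add_sum_erase _ _ (Finset.mem_univ χ₁), h2]; norm_num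
  have hT : N.index = 1 + ∑ χ ∈ Finset.univ.erase χ₁, a χ * d χ := by
    rw [← h1, ← Finset.add_sum_erase _ _ (Finset.mem_univ χ₁), h2, hd1]
  set S := ∑ χ ∈ Finset.univ.erase χ₁, a χ ^ 2 with hSdef
  set T := ∑ χ ∈ Finset.univ.erase χ₁, a χ * d χ with hTdef
  have hTS : T ≤ (m - 1) * S := by
    rw [hTdef, hSdef, Finset.mul_sum]
    apply Finset.sum_le_sum
    intro χ _
    have h1 : d χ ≤ m - 1 := by have := hdm χ; omega
    have h2 : a χ ≤ a χ ^ 2 := by
      rw [pow_two]
      rcases Nat.eq_zero_or_pos (a χ) with h | h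
      · simp [h]
      · exact Nat.le_mul_of_pos_left _ h
    calc a χ * d χ ≤ a χ ^ 2 * (m - 1) := Nat.mul_le_mul h2 h1
      _ = (m - 1) * a χ ^ 2 := by ring
  rw [hS, hT] at h5
  have h6 : m * S ≤ T := by
    have : m * (1 + S) = m + m * S := by ring
    rw [this] at h5
    omega
  have h7 : m * S ≤ (m - 1) * S := le_trans h6 hTS
  have hS0 : S = 0 := by
    by_contra hS0
    have hSpos : 0 < S := Nat.pos_of_ne_zero hS0
    have : (m - 1) * S < m * S := Nat.mul_lt_mul_of_pos_right (by omega) hSpos
    omega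
  have hT0 : T = 0 := by
    rw [hS0, mul_zero] at hTS
    omega
  have hidx : N.index = 1 := by rw [hT, hT0]
  exact hN (Subgroup.index_eq_one.mp hidx)

end Cfsg.Agent.Lib.helper3.MaxDeg
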