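import Mathlib
import Cfsg.Prelude.Def_Blocks
import Cfsg.Agent.Lib.helper3.MaxDeg2

/-!
# Character degrees below `p` force a normal abelian Sylow `p`-subgroup
-/

set_option autoImplicit false
set_option linter.style.haveILetI false
set_option linter.unusedSectionVars false

namespace Cfsg.Agent.Lib.helper3.MaxDeg

open Cfsg Module Cfsg.Agent.Lib.helper3.IndFun Cfsg.Agent.Lib.helper3.CharBasic
open Cfsg.Agent.Lib.helper3.Irr Cfsg.Agent.Lib.helper3.Central
open scoped ComplexConjugate Pointwise

universe u

section count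

variable {G : Type u} [Group G] [Fintype G]

/-- If a Sylow subgroup meets its other conjugates inside the centre, its normalizer meets
each of its other conjugates in a small subgroup. -/
theorem card_filter_mul_le [DecidableEq G] (p : ℕ) [hp : Fact p.Prime] (P : Sylow p G)
    (hTI : ∀ Q : Sylow p G, Q ≠ P →
      (P : Subgroup G) ⊓ (Q : Subgroup G) ≤ Subgroup.center G)
    (N : Subgroup G) (hN : N = Subgroup.normalizer ((P : Subgroup G) : Set G))
    [Fintype N] [DecidablePred (· ∈ N)]
    (x : G) (hx : x ∉ N) :
    (Finset.univ.filter (fun n : N => x⁻¹ * (n : G) * x ∈ N)).card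
      * (Subgroup.center G).relIndex (P : Subgroup G)
      ≤ Nat.card N := by
  classical
  set K : Subgroup G := N.map (MulAut.conj x).toMonoidHom with hK
  have hmemK : ∀ y : G, y ∈ K ↔ x⁻¹ * y * x ∈ N := by
    intro y
    rw [hK, Subgroup.mem_map_equiv, MulAut.conj_symm_apply]
  letI : Fintype (K.subgroupOf N) := Fintype.ofFinite _
  have hcard : (Finset.univ.filter (fun n : N => x⁻¹ * (n : G) * x ∈ N)).card
      = Nat.card (K.subgroupOf N) := by
    rw [Nat.card_eq_fintype_card]
    symm
    apply Fintype.card_of_subtype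
    intro n
    simp only [Finset.mem_filter, Finset.mem_univ, true_and, Subgroup.mem_subgroupOf, hmemK]
  have h1 : Nat.card (K.subgroupOf N) * K.relIndex N = Nat.card N :=
    Subgroup.card_mul_index (K.subgroupOf N)
  -- the key containment
  have hKP : K ⊓ (P : Subgroup G) ≤ Subgroup.center G := by
    intro y hy
    obtain ⟨hyK, hyP⟩ := hy
    have hy' : x⁻¹ * y * x ∈ N := (hmemK y).mp hyK
    -- the conjugate Sylow subgroup
    set Q : Sylow p G := x • P with hQ
    have hQP : Q ≠ P := by
      intro h
      apply hx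
      rw [hN]
      exact Sylow.smul_eq_iff_mem_normalizer.mp h
    -- `x⁻¹ y x` lies in `x⁻¹ • P` and normalizes `P`
    set P' : Sylow p G := x⁻¹ • P with hP'
    have hmemP' : x⁻¹ * y * x ∈ (P' : Subgroup G) := by
      rw [hP']
      show x⁻¹ * y * x ∈ (MulAut.conj x⁻¹ • (P : Subgroup G))
      rw [Subgroup.mem_pointwise_smul_iff_inv_smul_mem]
      simp only [map_inv, inv_inv, MulAut.smul_def, MulAut.conj_apply]
      have : x * (x⁻¹ * y * x) * x⁻¹ = y := by group
      rw [this]; exact hyP
    have hinf : (P' : Subgroup G) ⊓ Subgroup.normalizer ((P : Subgroup G) : Set G)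
        = (P' : Subgroup G) ⊓ (P : Subgroup G) := IsPGroup.inf_normalizer_sylow (P'.isPGroup') P
    have hmem2 : x⁻¹ * y * x ∈ (P' : Subgroup G) ⊓ Subgroup.normalizer ((P : Subgroup G) : Set G) :=
      ⟨hmemP', hN ▸ hy'⟩
    rw [hinf] at hmem2
    have hyQ : y ∈ (Q : Subgroup G) := by
      rw [hQ]
      show y ∈ (MulAut.conj x • (P : Subgroup G))
      rw [Subgroup.mem_pointwise_smul_iff_inv_smul_mem]
      simp only [MulAut.smul_def, ← map_inv, MulAut.conj_apply, inv_inv]
      exact hmem2.2
    exact hTI Q hQP ⟨hyP, hyQ⟩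
  have hPN : (P : Subgroup G) ≤ N := by rw [hN]; exact Subgroup.le_normalizer
  have h2 : (Subgroup.center G).relIndex (P : Subgroup G) ≤ K.relIndex N := by
    have hd : (Subgroup.center G).relIndex (P : Subgroup G) ∣ K.relIndex (P : Subgroup G) := by
      have := Subgroup.relIndex_dvd_of_le_left (P : Subgroup G) hKP
      rwa [Subgroup.inf_relIndex_right] at this
    have hne : K.relIndex (P : Subgroup G) ≠ 0 :=
      Subgroup.index_ne_zero_of_finite (H := K.subgroupOf (P : Subgroup G))
    have hne' : K.relIndex N ≠ 0 :=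
      Subgroup.index_ne_zero_of_finite (H := K.subgroupOf N)
    have hle1 := Nat.le_of_dvd (Nat.pos_of_ne_zero hne) hd
    have hle2 : K.relIndex (P : Subgroup G) ≤ K.relIndex N :=
      Subgroup.relIndex_le_of_le_right hPN hne'
    exact le_trans hle1 hle2
  rw [hcard]
  calc Nat.card (K.subgroupOf N) * (Subgroup.center G).relIndex (P : Subgroup G)
      ≤ Nat.card (K.subgroupOf N) * K.relIndex N := Nat.mul_le_mul_left _ h2
    _ = Nat.card N := h1

/-- A Sylow `p`-subgroup meeting its other conjugates inside the centre is normal when all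
irreducible character degrees are below `p`. -/
theorem normal_of_inf_le_center (p : ℕ) [hp : Fact p.Prime] (P : Sylow p G)
    (hb : ∀ χ : IrrCharacter G, charDegree (χ : G → ℂ) < p)
    (hTI : ∀ Q : Sylow p G, Q ≠ P →
      (P : Subgroup G) ⊓ (Q : Subgroup G) ≤ Subgroup.center G) :
    (P : Subgroup G).Normal := by
  classical
  by_contra hnot
  set N : Subgroup G := Subgroup.normalizer ((P : Subgroup G) : Set G) with hN
  have hNtop : N ≠ ⊤ := by
    intro h
    exact hnot (Subgroup.normalizer_eq_top_iff.mp h)
  set m := (Subgroup.center G).relIndex (P : Subgroup G) with hm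
  -- `m` is a power of `p`, at least `p`
  have hpow : ∃ k : ℕ, m = p ^ k := by
    have hPg : IsPGroup p (P : Subgroup G) := P.isPGroup'
    exact hPg.index ((Subgroup.center G).subgroupOf (P : Subgroup G))
  obtain ⟨k, hk⟩ := hpow
  have hk0 : k ≠ 0 := by
    intro h0
    rw [h0, pow_zero] at hk
    have hle : (P : Subgroup G) ≤ Subgroup.center G := Subgroup.relIndex_eq_one.mp hk
    apply hnot
    constructor
    intro n hn g
    have hc := hle hn
    rw [Subgroup.mem_center_iff] at hc
    have : g * n * g⁻¹ = n := by rw [hc g]; group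
    rw [this]; exact hn
  have hpm : p ≤ m := by
    rw [hk]
    calc p = p ^ 1 := (pow_one p).symm
      _ ≤ p ^ k := Nat.pow_le_pow_right hp.out.pos (Nat.one_le_iff_ne_zero.mpr hk0)
  have hm0 : 0 < m := lt_of_lt_of_le hp.out.pos hpm
  letI : Fintype N := Fintype.ofFinite _
  obtain ⟨χ, hχ⟩ := exists_degree_ge_of_rank N m hm0 hNtop
    (fun x hx => card_filter_mul_le p P hTI N hN x hx)
  have := hb χ
  omega

end count

/-- All irreducible character degrees below `p`: every Sylow `p`-subgroup is commutative. -/
theorem sylow_comm {G : Type u} [Group G] [Fintype G] (p : ℕ) [hp : Fact p.Prime]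
    (hb : ∀ χ : IrrCharacter G, charDegree (χ : G → ℂ) < p) (P : Sylow p G)
    (a b : G) (ha : a ∈ (P : Subgroup G)) (hb' : b ∈ (P : Subgroup G)) : a * b = b * a := by
  classical
  letI : Fintype (P : Subgroup G) := Fintype.ofFinite _
  have hbP : ∀ ψ : IrrCharacter (P : Subgroup G), charDegree (ψ : ↥(P : Subgroup G) → ℂ) < p := by
    intro ψ
    obtain ⟨χ, hχ⟩ := exists_degree_ge (P : Subgroup G) ψ
    exact lt_of_le_of_lt hχ (hb χ)
  have hPg : IsPGroup p (P : Subgroup G) := P.isPGroup'
  have := comm_of_pgroup_of_degree_lt p hPg hbP ⟨a, ha⟩ ⟨b, hb'⟩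
  exact congrArg Subtype.val this

/-- All irreducible character degrees below `p`: every Sylow `p`-subgroup is normal. -/
theorem sylow_normal (p : ℕ) [hp : Fact p.Prime] :
    ∀ (n : ℕ) (G : Type u) [Group G] [Fintype G], Nat.card G = n →
      (∀ χ : IrrCharacter G, charDegree (χ : G → ℂ) < p) →
      ∀ P : Sylow p G, (P : Subgroup G).Normal := by
  intro n
  induction n using Nat.strong_induction_on with
  | _ n ih =>
    intro G _ _ hcard hb P
    classical
    apply normal_of_inf_le_center p P hb
    intro Q hQP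
    by_contra hD
    set D : Subgroup G := (P : Subgroup G) ⊓ (Q : Subgroup G) with hDdef
    set C : Subgroup G := Subgroup.centralizer (D : Set G) with hCdef
    have hCtop : C ≠ ⊤ := by
      intro h
      apply hD
      have := Subgroup.centralizer_eq_top_iff_subset.mp h
      exact this
    have hPC : (P : Subgroup G) ≤ C := by
      intro y hy
      rw [hCdef, Subgroup.mem_centralizer_iff]
      intro d hd
      exact sylow_comm p hb P d y hd.1 hy
    have hQC : (Q : Subgroup G) ≤ C := by
      intro y hy
      rw [hCdef, Subgroup.mem_centralizer_iff]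
      intro d hd
      exact sylow_comm p hb Q d y hd.2 hy
    letI : Fintype C := Fintype.ofFinite C
    have hcardC : Nat.card C < n := by
      rw [← hcard]
      have hlt : C < ⊤ := lt_top_iff_ne_top.mpr hCtop
      have h1 := Subgroup.card_mul_index C
      have hidx : C.index ≠ 1 := fun h => hCtop (Subgroup.index_eq_one.mp h)
      have hidx0 : C.index ≠ 0 := Subgroup.index_ne_zero_of_finite
      have hc0 : 0 < Nat.card C := Nat.card_pos
      have : Nat.card C * 2 ≤ Nat.card C * C.index := Nat.mul_le_mul_left _ (by omega)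
      omega
    have hbC : ∀ ψ : IrrCharacter C, charDegree (ψ : C → ℂ) < p := by
      intro ψ
      obtain ⟨χ, hχ⟩ := exists_degree_ge C ψ
      exact lt_of_le_of_lt hχ (hb χ)
    have hnormC := ih (Nat.card C) hcardC C rfl hbC
    -- Sylow subgroups of `C` above `P` and `Q`
    have hPp : IsPGroup p ((P : Subgroup G).subgroupOf C) := P.isPGroup'.comap_subtype
    have hQp : IsPGroup p ((Q : Subgroup G).subgroupOf C) := Q.isPGroup'.comap_subtype
    obtain ⟨S, hS⟩ := hPp.exists_le_sylow
    obtain ⟨S', hS'⟩ := hQp.exists_le_sylow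
    haveI : (S : Subgroup C).Normal := hnormC S
    have hSS' : S' = S := by
      obtain ⟨g, hg⟩ := MulAction.exists_smul_eq C S S'
      rw [← hg]
      exact Sylow.smul_eq_of_normal
    -- push to `G`
    have hSp : IsPGroup p ((S : Subgroup C).map C.subtype) := S.isPGroup'.map _
    have hPle : (P : Subgroup G) ≤ (S : Subgroup C).map C.subtype := by
      intro y hy
      exact ⟨⟨y, hPC hy⟩, hS (by simpa [Subgroup.mem_subgroupOf] using hy), rfl⟩
    have hQle : (Q : Subgroup G) ≤ (S : Subgroup C).map C.subtype := by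
      intro y hy
      refine ⟨⟨y, hQC hy⟩, ?_, rfl⟩
      rw [← hSS']
      exact hS' (by simpa [Subgroup.mem_subgroupOf] using hy)
    have e1 := P.is_maximal' hSp hPle
    have e2 := Q.is_maximal' hSp hQle
    apply hQP
    exact Sylow.ext (e2.symm.trans e1)

end Cfsg.Agent.Lib.helper3.MaxDeg
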