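import Mathlib
import Cfsg.Prelude.Def_Characters
import Cfsg.Prelude.Def_Blocks
import Cfsg.Agent.Lib.helper3.GalPow
import Cfsg.Agent.Lib.helper3.Irr7
import Cfsg.Agent.Lib.helper3.Irr8
import Cfsg.Agent.Lib.helper3.Irr9
import Cfsg.Agent.Lib.helper3.Inflate2
import Cfsg.Agent.Lib.helper3.MackeyLin
import Cfsg.Agent.S0189

set_option autoImplicit false
set_option linter.style.haveILetI false
set_option linter.unusedSectionVars false
set_option linter.unusedVariables false

/-!
# Characters multiplicative on coprime prime-power elements: the character-theoretic part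

Steps 1 to 5 of the direction (1) ⇒ (2) of S4756.
-/

namespace Cfsg.Agent.Lib.helper3.MultP2

open Cfsg Cfsg.Agent.Lib.helper3.Irr Cfsg.Agent.Lib.helper3.CharBasic
open scoped ComplexConjugate commutatorElement

universe u

variable {G : Type u} [Group G] [Fintype G]

/-- The multiplicativity hypothesis. -/
def Mult1 (G : Type u) [Group G] : Prop :=
  ∀ (x y : G) (χ : IrrCharacter G), x ≠ 1 → y ≠ 1 →
    (∃ p q a b : ℕ, p.Prime ∧ q.Prime ∧ p ≠ q ∧ orderOf x = p ^ a ∧ orderOf y = q ^ b) →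
    (χ : G → ℂ) (x * y) = (χ : G → ℂ) x * (χ : G → ℂ) y

/-- `χ` vanishes at every nontrivial `r`-element. -/
def Van (r : ℕ) (χ : IrrCharacter G) : Prop :=
  ∀ y : G, y ≠ 1 → (∃ k : ℕ, orderOf y = r ^ k) → (χ : G → ℂ) y = 0

theorem orderOf_conj' (g y : G) : orderOf (g * y * g⁻¹) = orderOf y := by
  have := (MulAut.conj g).orderOf_eq y
  rwa [MulAut.conj_apply] at this

/-- Step 1. -/
theorem mul_eq_zero_of_nonlinear (h1 : Mult1 G) (χ : IrrCharacter G)
    (hχ : (χ : G → ℂ) 1 ≠ 1) (x y : G) (hx : x ≠ 1) (hy : y ≠ 1) (r s a b : ℕ)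
    (hr : r.Prime) (hs : s.Prime) (hrs : r ≠ s) (hox : orderOf x = r ^ a)
    (hoy : orderOf y = s ^ b) : (χ : G → ℂ) x * (χ : G → ℂ) y = 0 := by
  classical
  have hcf := isClassFunction_of_isCharacter (isCharacter_of_isIrrCharacter χ.2)
  have hsum := Cfsg.Agent.Lib.helper3.GalPow.sum_irr_conj_mul χ.2 x y
  have hterm : ∀ g : G, (χ : G → ℂ) (x * (g * y * g⁻¹)) = (χ : G → ℂ) x * (χ : G → ℂ) y := by
    intro g
    have hne : g * y * g⁻¹ ≠ 1 := by
      intro h
      apply hy
      have : y = g⁻¹ * (g * y * g⁻¹) * g := by group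
      rw [this, h]; group
    rw [h1 x (g * y * g⁻¹) χ hx hne ⟨r, s, a, b, hr, hs, hrs, hox, by rw [orderOf_conj', hoy]⟩,
      hcf y g]
  rw [Finset.sum_congr rfl (fun g _ => hterm g), Finset.sum_const, Finset.card_univ,
    nsmul_eq_mul, ← Nat.card_eq_fintype_card] at hsum
  have hn0 : (Nat.card G : ℂ) ≠ 0 := by
    have : 0 < Nat.card G := Nat.card_pos
    exact_mod_cast this.ne'
  set z := (χ : G → ℂ) x * (χ : G → ℂ) y with hz
  have h2 : (Nat.card G : ℂ) * (((χ : G → ℂ) 1 - 1) * z) = 0 := by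
    have : (Nat.card G : ℂ) * (χ : G → ℂ) x * (χ : G → ℂ) y = (Nat.card G : ℂ) * z := by
      rw [hz]; ring
    rw [this] at hsum
    linear_combination hsum
  rcases mul_eq_zero.mp h2 with h | h
  · exact absurd h hn0
  · rcases mul_eq_zero.mp h with h | h
    · exact absurd (sub_eq_zero.mp h) hχ
    · exact h

/-- Consequence of Step 1: a dichotomy. -/
theorem van_or_van (h1 : Mult1 G) (χ : IrrCharacter G) (hχ : (χ : G → ℂ) 1 ≠ 1) (r s : ℕ)
    (hr : r.Prime) (hs : s.Prime) (hrs : r ≠ s) : Van r χ ∨ Van s χ := by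
  by_contra hcon
  push Not at hcon
  obtain ⟨h1', h2'⟩ := hcon
  unfold Van at h1' h2'
  push Not at h1' h2'
  obtain ⟨x, hx, ⟨a, ha⟩, hxne⟩ := h1'
  obtain ⟨y, hy, ⟨b, hb⟩, hyne⟩ := h2'
  have := mul_eq_zero_of_nonlinear h1 χ hχ x y hx hy r s a b hr hs hrs ha hb
  rcases mul_eq_zero.mp this with h | h
  · exact hxne h
  · exact hyne h

/-- Step 2. -/
theorem ordProj_dvd_of_van (χ : IrrCharacter G) (d : ℕ) (hd : (χ : G → ℂ) 1 = d) (r : ℕ)
    (hr : r.Prime) (hv : Van r χ) : r ^ (Nat.card G).factorization r ∣ d := by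
  haveI : Fact r.Prime := ⟨hr⟩
  obtain ⟨P⟩ : Nonempty (Sylow r G) := inferInstance
  obtain ⟨k, hk⟩ := Cfsg.Agent.S0189.result r P (χ : G → ℂ) (isCharacter_of_isIrrCharacter χ.2)
    (by
      intro g hg hg1
      apply hv g hg1
      obtain ⟨k, hk⟩ := (IsPGroup.iff_orderOf.mp P.2) ⟨g, hg⟩
      refine ⟨k, ?_⟩
      rw [← hk]
      exact (Subgroup.orderOf_mk g hg).symm)
  rw [hd, Sylow.card_eq_multiplicity] at hk
  refine ⟨k, ?_⟩
  exact_mod_cast hk

/-- The square of the degree of a nonlinear irreducible character is less than `|G|`. -/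
theorem degree_sq_lt (χ : IrrCharacter G) (d : ℕ) (hd : (χ : G → ℂ) 1 = d) (hd1 : d ≠ 1) :
    d ^ 2 < Nat.card G := by
  classical
  have hsum := sum_sq_degree (G := G)
  -- the trivial character
  obtain ⟨χ0, hχ0⟩ : ∃ χ0 : IrrCharacter G, (χ0 : G → ℂ) 1 = 1 := by
    have := Cfsg.Agent.Lib.helper3.Irr.card_linear_eq_index_commutator (G := G)
    have hpos : 0 < Nat.card {χ : IrrCharacter G // (χ : G → ℂ) 1 = 1} := by
      rw [this]
      exact Nat.pos_of_ne_zero (Subgroup.index_ne_zero_of_finite)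
    obtain ⟨⟨χ0, h0⟩⟩ := (Nat.card_pos_iff.mp hpos).1
    exact ⟨χ0, h0⟩
  have hne : χ0 ≠ χ := by
    rintro rfl
    rw [hχ0] at hd
    apply hd1
    exact_mod_cast hd.symm
  have hreal : ∀ ψ : IrrCharacter G, ∃ m : ℕ, (ψ : G → ℂ) 1 = m := by
    intro ψ
    obtain ⟨m, _, hm⟩ := exists_pos_nat_apply_one ψ.2
    exact ⟨m, hm⟩
  choose deg hdeg using hreal
  have hsumN : ∑ ψ : IrrCharacter G, deg ψ ^ 2 = Nat.card G := by
    have : ((∑ ψ : IrrCharacter G, deg ψ ^ 2 : ℕ) : ℂ) = (Nat.card G : ℂ) := by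
      rw [← hsum]
      push_cast
      apply Finset.sum_congr rfl
      intro ψ _
      rw [hdeg ψ]
    exact_mod_cast this
  have hdχ : deg χ = d := by
    have := hdeg χ
    rw [hd] at this
    exact_mod_cast this.symm
  have hd0 : deg χ0 = 1 := by
    have := hdeg χ0
    rw [hχ0] at this
    exact_mod_cast this.symm
  have hle : deg χ0 ^ 2 + deg χ ^ 2 ≤ ∑ ψ : IrrCharacter G, deg ψ ^ 2 := by
    have hsub : ({χ0, χ} : Finset (IrrCharacter G)) ⊆ Finset.univ := Finset.subset_univ _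
    have := Finset.sum_le_sum_of_subset (f := fun ψ : IrrCharacter G => deg ψ ^ 2) hsub
    rwa [Finset.sum_pair hne] at this
  rw [hsumN, hd0, hdχ] at hle
  omega

/-- Step 3a: a nonlinear irreducible character does not vanish on all elements of prime power
order. -/
theorem exists_bad_prime (χ : IrrCharacter G) (hχ : (χ : G → ℂ) 1 ≠ 1) :
    ∃ p : ℕ, p.Prime ∧ ¬ Van p χ := by
  by_contra hcon
  push Not at hcon
  obtain ⟨d, hd0, hd⟩ := exists_pos_nat_apply_one χ.2
  have hd1 : d ≠ 1 := by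
    rintro rfl
    apply hχ
    rw [hd]; simp
  have hlt := degree_sq_lt χ d hd hd1
  have hn0 : Nat.card G ≠ 0 := Nat.card_pos.ne'
  have hdvd : Nat.card G ∣ d := by
    rw [← Nat.factorization_le_iff_dvd hn0 hd0.ne']
    intro q
    by_cases hq : q.Prime
    · exact (hq.pow_dvd_iff_le_factorization hd0.ne').mp
        (ordProj_dvd_of_van χ d hd q hq (hcon q hq))
    · rw [Nat.factorization_eq_zero_of_not_prime _ hq]
      exact Nat.zero_le _
  have hle := Nat.le_of_dvd hd0 hdvd
  nlinarith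

/-- Step 3b. -/
theorem ordCompl_lt (χ : IrrCharacter G) (hχ : (χ : G → ℂ) 1 ≠ 1) (p : ℕ) (hp : p.Prime)
    (hv : ∀ q : ℕ, q.Prime → q ≠ p → Van q χ) :
    Nat.card G / p ^ (Nat.card G).factorization p < p ^ (Nat.card G).factorization p := by
  obtain ⟨d, hd0, hd⟩ := exists_pos_nat_apply_one χ.2
  have hd1 : d ≠ 1 := by
    rintro rfl
    apply hχ
    rw [hd]; simp
  have hlt := degree_sq_lt χ d hd hd1
  have hn0 : Nat.card G ≠ 0 := Nat.card_pos.ne'
  set n := Nat.card G with hn
  set a := p ^ n.factorization p with ha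
  set m := n / a with hm
  have hm0 : 0 < m := Nat.ordCompl_pos p hn0
  have ham : a * m = n := Nat.ordProj_mul_ordCompl_eq_self n p
  have hdvd : m ∣ d := by
    rw [← Nat.factorization_le_iff_dvd hm0.ne' hd0.ne']
    intro q
    rw [hm, ha, Nat.factorization_ordCompl n p]
    by_cases hqp : q = p
    · subst hqp
      simp
    · rw [Finsupp.erase_ne hqp]
      by_cases hq : q.Prime
      · exact (hq.pow_dvd_iff_le_factorization hd0.ne').mp
          (ordProj_dvd_of_van χ d hd q hq (hv q hq hqp))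
      · rw [Nat.factorization_eq_zero_of_not_prime _ hq]
        exact Nat.zero_le _
  have hle := Nat.le_of_dvd hd0 hdvd
  have h2 : m * m < a * m := by
    calc m * m ≤ d * d := Nat.mul_le_mul hle hle
      _ = d ^ 2 := (sq d).symm
      _ < n := hlt
      _ = a * m := ham.symm
  exact Nat.lt_of_mul_lt_mul_right h2

/-- Step 3c. -/
theorem prime_unique (n : ℕ) (hn0 : n ≠ 0) (p q : ℕ) (hp : p.Prime) (hq : q.Prime)
    (h1 : n / p ^ n.factorization p < p ^ n.factorization p)
    (h2 : n / q ^ n.factorization q < q ^ n.factorization q) : p = q := by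
  by_contra hpq
  have hcop : Nat.Coprime (p ^ n.factorization p) (q ^ n.factorization q) :=
    Nat.Coprime.pow _ _ ((Nat.coprime_primes hp hq).mpr hpq)
  have hdp : p ^ n.factorization p ∣ n := Nat.ordProj_dvd n p
  have hdq : q ^ n.factorization q ∣ n := Nat.ordProj_dvd n q
  have hmul : p ^ n.factorization p * q ^ n.factorization q ∣ n :=
    Nat.Coprime.mul_dvd_of_dvd_of_dvd hcop hdp hdq
  have hap : 0 < p ^ n.factorization p := pow_pos hp.pos _
  have haq : 0 < q ^ n.factorization q := pow_pos hq.pos _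
  have e1 : q ^ n.factorization q ≤ n / p ^ n.factorization p := by
    rw [Nat.le_div_iff_mul_le hap]
    rw [mul_comm]
    exact Nat.le_of_dvd (Nat.pos_of_ne_zero hn0) hmul
  have e2 : p ^ n.factorization p ≤ n / q ^ n.factorization q := by
    rw [Nat.le_div_iff_mul_le haq]
    exact Nat.le_of_dvd (Nat.pos_of_ne_zero hn0) hmul
  omega

/-- Step 3: a single prime. -/
theorem exists_prime_van (h1 : Mult1 G) :
    ∃ p : ℕ, p.Prime ∧ ∀ χ : IrrCharacter G, (χ : G → ℂ) 1 ≠ 1 →
      ∀ q : ℕ, q.Prime → q ≠ p → Van q χ := by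
  by_cases hex : ∃ χ0 : IrrCharacter G, (χ0 : G → ℂ) 1 ≠ 1
  · obtain ⟨χ0, hχ0⟩ := hex
    obtain ⟨p0, hp0, hbad0⟩ := exists_bad_prime χ0 hχ0
    have hrest : ∀ (χ : IrrCharacter G), (χ : G → ℂ) 1 ≠ 1 → ∀ p : ℕ, p.Prime → ¬ Van p χ →
        ∀ q : ℕ, q.Prime → q ≠ p → Van q χ := by
      intro χ hχ p hp hbad q hq hqp
      rcases van_or_van h1 χ hχ p q hp hq (Ne.symm hqp) with h | h
      · exact absurd h hbad
      · exact h
    refine ⟨p0, hp0, ?_⟩
    intro χ hχ q hq hqp
    obtain ⟨p, hp, hbad⟩ := exists_bad_prime χ hχ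
    have hn0 : Nat.card G ≠ 0 := Nat.card_pos.ne'
    have e0 := ordCompl_lt χ0 hχ0 p0 hp0 (hrest χ0 hχ0 p0 hp0 hbad0)
    have e1 := ordCompl_lt χ hχ p hp (hrest χ hχ p hp hbad)
    have hpp : p = p0 := prime_unique (Nat.card G) hn0 p p0 hp hp0 e1 e0
    subst hpp
    exact hrest χ hχ p hp hbad q hq hqp
  · push Not at hex
    exact ⟨2, Nat.prime_two, fun χ hχ => absurd (hex χ) hχ⟩

/-- Step 4 (converse of Lemma K). -/
theorem card_centralizer_eq_of_vanish' (g : G)
    (h : ∀ χ : IrrCharacter G, (χ : G → ℂ) 1 ≠ 1 → (χ : G → ℂ) g = 0) :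
    Nat.card (Subgroup.centralizer ({g} : Set G)) = (commutator G).index := by
  classical
  have hcol := (column_orthogonality g g).1 (IsConj.refl g)
  have hterm : ∀ χ : IrrCharacter G, (χ : G → ℂ) g * conj ((χ : G → ℂ) g)
      = if (χ : G → ℂ) 1 = 1 then 1 else 0 := by
    intro χ
    split_ifs with hχ
    · exact Cfsg.Agent.Lib.helper3.MackeyLin.mul_conj_eq_one_of_linear
        (isCharacter_of_isIrrCharacter χ.2) hχ g
    · rw [h χ hχ, zero_mul]
  rw [Finset.sum_congr rfl (fun χ _ => hterm χ), Finset.sum_boole] at hcol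
  have hcard : (Finset.univ.filter (fun χ : IrrCharacter G => (χ : G → ℂ) 1 = 1)).card
      = Nat.card {χ : IrrCharacter G // (χ : G → ℂ) 1 = 1} := by
    rw [Nat.card_eq_fintype_card, Fintype.card_subtype]
  rw [hcard, card_linear_eq_index_commutator] at hcol
  exact_mod_cast hcol.symm

/-- Step 5a: the commutator subgroup is a `p`-group. -/
theorem isPGroup_commutator (p : ℕ) (hp : p.Prime)
    (hcent : ∀ y : G, y ≠ 1 → ∀ q k : ℕ, q.Prime → q ≠ p → orderOf y = q ^ k →
      Nat.card (Subgroup.centralizer ({y} : Set G)) = (commutator G).index) :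
    IsPGroup p (commutator G) := by
  classical
  have hn0 : Nat.card G ≠ 0 := Nat.card_pos.ne'
  have hc0 : Nat.card (commutator G) ≠ 0 := Nat.card_pos.ne'
  have hkey : ∀ q : ℕ, q.Prime → q ∣ Nat.card (commutator G) → q = p := by
    intro q hq hqd
    by_contra hqp
    haveI : Fact q.Prime := ⟨hq⟩
    obtain ⟨Q⟩ : Nonempty (Sylow q G) := inferInstance
    have hqG : q ∣ Nat.card G := hqd.trans (Subgroup.card_subgroup_dvd_card _)
    have hQcard := Sylow.card_eq_multiplicity Q
    have hpos : 0 < (Nat.card G).factorization q :=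
      hq.factorization_pos_of_dvd hn0 hqG
    haveI : Nontrivial (Q : Subgroup G) := by
      rw [← Finite.one_lt_card_iff_nontrivial, hQcard]
      exact Nat.one_lt_pow hpos.ne' hq.one_lt
    haveI := Q.2.center_nontrivial
    obtain ⟨⟨z, hz⟩, hz1⟩ := exists_ne (1 : Subgroup.center (Q : Subgroup G))
    have hy1 : (z : G) ≠ 1 := by
      intro h
      apply hz1
      ext
      simpa using h
    obtain ⟨k, hk⟩ := (IsPGroup.iff_orderOf.mp Q.2) z
    have hok : orderOf (z : G) = q ^ k := by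
      rw [← hk]; exact Subgroup.orderOf_coe z
    have hcz := hcent (z : G) hy1 q k hq hqp hok
    have hle : (Q : Subgroup G) ≤ Subgroup.centralizer ({(z : G)} : Set G) := by
      intro x hx
      rw [Subgroup.mem_centralizer_iff]
      intro y hy
      rw [Set.mem_singleton_iff] at hy
      subst hy
      have := Subgroup.mem_center_iff.mp hz ⟨x, hx⟩
      have h2 := congrArg (Subtype.val) this
      simpa using h2.symm
    have hdvd : q ^ (Nat.card G).factorization q ∣ (commutator G).index := by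
      rw [← hcz, ← hQcard]
      exact Subgroup.card_dvd_of_le hle
    have hmul := Subgroup.card_mul_index (commutator G)
    have hfac : (Nat.card G).factorization q
        = (Nat.card (commutator G)).factorization q + ((commutator G).index).factorization q := by
      rw [← hmul, Nat.factorization_mul hc0 (Subgroup.index_ne_zero_of_finite)]
      rfl
    have h3 : (Nat.card G).factorization q ≤ ((commutator G).index).factorization q :=
      (hq.pow_dvd_iff_le_factorization (Subgroup.index_ne_zero_of_finite)).mp hdvd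
    have h4 : 0 < (Nat.card (commutator G)).factorization q :=
      hq.factorization_pos_of_dvd hc0 hqd
    omega
  have := Nat.eq_prime_pow_of_unique_prime_dvd hc0 (fun {d} hd hdd => hkey d hd hdd)
  exact IsPGroup.of_card this

/-- Steps 1 to 5 assembled. -/
theorem exists_prime_data
    (h1 : ∀ (x y : G) (χ : IrrCharacter G), x ≠ 1 → y ≠ 1 →
      (∃ p q a b : ℕ, p.Prime ∧ q.Prime ∧ p ≠ q ∧ orderOf x = p ^ a ∧ orderOf y = q ^ b) →
      (χ : G → ℂ) (x * y) = (χ : G → ℂ) x * (χ : G → ℂ) y)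
    (hnc : ¬ IsMulCommutative G) (hnp : ¬ ∃ p : ℕ, p.Prime ∧ IsPGroup p G) :
    ∃ p : ℕ, p.Prime ∧
      (∀ y : G, y ≠ 1 → ∀ q k : ℕ, q.Prime → q ≠ p → orderOf y = q ^ k →
        Nat.card ↥(Subgroup.centralizer ({y} : Set G)) = (commutator G).index) ∧
      IsPGroup p ↥(commutator G) ∧
      ∀ P : Sylow p G, (P : Subgroup G).Normal ∧ commutator G ≤ (P : Subgroup G) ∧
        (P : Subgroup G) ≠ ⊤ := by
  obtain ⟨p, hp, hvan⟩ := exists_prime_van (G := G) h1
  have hcent : ∀ y : G, y ≠ 1 → ∀ q k : ℕ, q.Prime → q ≠ p → orderOf y = q ^ k →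
      Nat.card ↥(Subgroup.centralizer ({y} : Set G)) = (commutator G).index := by
    intro y hy q k hq hqp hk
    apply card_centralizer_eq_of_vanish'
    intro χ hχ
    exact hvan χ hχ q hq hqp y hy ⟨k, hk⟩
  have hPG := isPGroup_commutator p hp hcent
  refine ⟨p, hp, hcent, hPG, ?_⟩
  intro P
  have hle : commutator G ≤ (P : Subgroup G) := hPG.le_sylow_of_normal P
  refine ⟨?_, hle, ?_⟩
  · constructor
    intro x hx g
    have : g * x * g⁻¹ = ⁅g, x⁆ * x := by
      rw [commutatorElement_def]; group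
    rw [this]
    apply (P : Subgroup G).mul_mem _ hx
    apply hle
    rw [commutator_def]
    exact Subgroup.commutator_mem_commutator (Subgroup.mem_top g) (Subgroup.mem_top x)
  · intro htop
    apply hnp
    refine ⟨p, hp, ?_⟩
    have := P.2
    rw [htop] at this
    exact IsPGroup.of_equiv this Subgroup.topEquiv

/-- The vanishing statement (*), in terms of `charDegree`. -/
theorem exists_prime_vanish
    (h1 : ∀ (x y : G) (χ : IrrCharacter G), x ≠ 1 → y ≠ 1 →
      (∃ p q a b : ℕ, p.Prime ∧ q.Prime ∧ p ≠ q ∧ orderOf x = p ^ a ∧ orderOf y = q ^ b) →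
      (χ : G → ℂ) (x * y) = (χ : G → ℂ) x * (χ : G → ℂ) y) :
    ∃ p : ℕ, p.Prime ∧ ∀ χ : IrrCharacter G, charDegree (χ : G → ℂ) ≠ 1 →
      ∀ y : G, y ≠ 1 → ∀ q k : ℕ, q.Prime → q ≠ p → orderOf y = q ^ k →
        (χ : G → ℂ) y = 0 := by
  obtain ⟨p, hp, hvan⟩ := exists_prime_van (G := G) h1
  refine ⟨p, hp, ?_⟩
  intro χ hχ y hy q k hq hqp hk
  have hχ1 : (χ : G → ℂ) 1 ≠ 1 := by
    intro h
    apply hχ
    unfold charDegree
    rw [h]
    simp
  exact hvan χ hχ1 q hq hqp y hy ⟨k, hk⟩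

end Cfsg.Agent.Lib.helper3.MultP2
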