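import Mathlib
import Cfsg.Prelude.Def_Blocks
import Cfsg.Agent.Lib.helper3.NormalAvg
import Cfsg.Agent.Lib.helper3.DefectOrder4
import Cfsg.Agent.Lib.helper3.CentSupp2
import Cfsg.Agent.Lib.helper3.BlockMinMax

set_option autoImplicit false
set_option linter.style.haveILetI false
set_option linter.unusedSectionVars false

/-!
# Counting the blocks of a group with a normal Sylow subgroup
-/

namespace Cfsg.Agent.Lib.helper3.Block

open Cfsg Module Cfsg.Agent.Lib.helper3.CharBasic Cfsg.Agent.Lib.helper3.Irr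
open Cfsg.Agent.Lib.helper3.Central Cfsg.Agent.Lib.helper3.LocalM
open scoped ComplexConjugate

universe u

variable {N : Type u} [Group N] [Fintype N] {M : Ideal AlgInt}

/-- A `p`-regular element commuting with a non-identity `p`-element: the product is not
`p`-regular. -/
theorem dvd_orderOf_mul_of_commute {p : ℕ} [hp : Fact p.Prime] (x u : N) (hxu : Commute x u)
    (hx : ¬ p ∣ orderOf x) (hu : ∃ k : ℕ, orderOf u = p ^ k) (hu1 : u ≠ 1) :
    p ∣ orderOf (x * u) := by
  obtain ⟨k, hk⟩ := hu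
  have hk0 : k ≠ 0 := by
    intro h0
    rw [h0, pow_zero] at hk
    exact hu1 (orderOf_eq_one_iff.1 hk)
  have h1 : (x * u) ^ orderOf x = u ^ orderOf x := by
    rw [hxu.mul_pow, pow_orderOf_eq_one, one_mul]
  have hcop : Nat.Coprime (orderOf u) (orderOf x) := by
    rw [hk]
    exact Nat.Coprime.pow_left k ((Nat.Prime.coprime_iff_not_dvd hp.out).2 hx)
  have h2 : orderOf (u ^ orderOf x) = orderOf u := hcop.orderOf_pow
  have h3 : orderOf ((x * u) ^ orderOf x) ∣ orderOf (x * u) := orderOf_pow_dvd _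
  rw [h1, h2, hk] at h3
  exact dvd_trans (dvd_pow_self p hk0) h3

open Classical in
/-- The second orthogonality relation restricted to the characters with a normal `p`-subgroup in
the kernel, at `p`-regular elements of its centralizer. -/
theorem sum_ker_mul_conj {p : ℕ} [hp : Fact p.Prime] (Q : Subgroup N) [hQn : Q.Normal]
    (hQp : IsPGroup p Q) (x x' : N) (hx : ¬ p ∣ orderOf x) (hx' : ¬ p ∣ orderOf x')
    (hx'Q : x' ∈ Subgroup.centralizer (Q : Set N)) :
    ∑ χ : IrrCharacter N, (if (∀ u ∈ Q, (χ : N → ℂ) u = (χ : N → ℂ) 1)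
        then (χ : N → ℂ) x' * conj ((χ : N → ℂ) x) else 0)
      = (Nat.card Q : ℂ)⁻¹ * (if IsConj x' x
          then (Nat.card (Subgroup.centralizer ({x'} : Set N)) : ℂ) else 0) := by
  have hQ0 : (Nat.card Q : ℂ) ≠ 0 := by
    exact_mod_cast Nat.card_pos.ne'
  have h1 : ∀ χ : IrrCharacter N, (if (∀ u ∈ Q, (χ : N → ℂ) u = (χ : N → ℂ) 1)
        then (χ : N → ℂ) x' * conj ((χ : N → ℂ) x) else 0)
      = (Nat.card Q : ℂ)⁻¹ * ∑ u : Q, (χ : N → ℂ) (x' * (u : N)) * conj ((χ : N → ℂ) x) := by
    intro χ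
    rw [← Finset.sum_mul, sum_apply_mul_normal χ Q x']
    split_ifs
    · field_simp
    · ring
  rw [Finset.sum_congr rfl (fun χ _ => h1 χ), ← Finset.mul_sum, Finset.sum_comm]
  congr 1
  have h2 : ∀ u : Q, ∑ χ : IrrCharacter N, (χ : N → ℂ) (x' * (u : N)) * conj ((χ : N → ℂ) x)
      = if u = 1 then (if IsConj x' x
          then (Nat.card (Subgroup.centralizer ({x'} : Set N)) : ℂ) else 0) else 0 := by
    intro u
    rw [sum_irr_mul_conj, card_conj_eq]
    by_cases hu : u = 1
    · rw [if_pos hu, hu, Subgroup.coe_one, mul_one]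
      split_ifs <;> simp
    · rw [if_neg hu, if_neg, Nat.cast_zero]
      intro hc
      have hcomm : Commute x' (u : N) :=
        ((Subgroup.mem_centralizer_iff.1 hx'Q) (u : N) u.2).symm
      have hu' : ∃ k : ℕ, orderOf (u : N) = p ^ k := by
        obtain ⟨k, hk⟩ := hQp u
        have h3 : (u : N) ^ p ^ k = 1 := by
          have := congrArg Subtype.val hk
          rwa [Subgroup.coe_pow] at this
        obtain ⟨i, _, hi⟩ := (Nat.dvd_prime_pow hp.out).1 (orderOf_dvd_of_pow_eq_one h3)
        exact ⟨i, hi⟩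
      have hu1 : (u : N) ≠ 1 := fun h => hu (Subtype.ext h)
      have h4 := dvd_orderOf_mul_of_commute x' (u : N) hcomm hx' hu' hu1
      obtain ⟨t, ht⟩ := isConj_iff.1 hc
      have h5 : orderOf x = orderOf (x' * (u : N)) := by
        rw [← ht]
        have : t * (x' * (u : N)) * t⁻¹ = MulAut.conj t (x' * (u : N)) := rfl
        rw [this, MulEquiv.orderOf_eq]
      rw [← h5] at h4
      exact hx h4
  rw [Finset.sum_congr rfl (fun u _ => h2 u), Finset.sum_ite_eq' Finset.univ (1 : Q)]
  simp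

/-- The classes used to count the blocks. -/
def regCentralClasses (p : ℕ) (Q : Subgroup N) : Set (ConjClasses N) :=
  {C | ∀ n : N, ConjClasses.mk n = C → ¬ p ∣ orderOf n ∧ n ∈ Subgroup.centralizer (Q : Set N)}

theorem mem_centralizer_of_isConj (Q : Subgroup N) [hQn : Q.Normal] {a b : N} (hab : IsConj a b)
    (ha : a ∈ Subgroup.centralizer (Q : Set N)) : b ∈ Subgroup.centralizer (Q : Set N) := by
  obtain ⟨t, rfl⟩ := isConj_iff.1 hab
  rw [Subgroup.mem_centralizer_iff] at ha ⊢
  intro u hu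
  have h1 : t⁻¹ * u * t ∈ Q := by
    have := hQn.conj_mem u hu t⁻¹
    rwa [inv_inv] at this
  have h2 := ha _ h1
  calc u * (t * a * t⁻¹) = t * ((t⁻¹ * u * t) * a) * t⁻¹ := by group
    _ = t * (a * (t⁻¹ * u * t)) * t⁻¹ := by rw [h2]
    _ = t * a * t⁻¹ * u := by group

/-- In a group with a normal Sylow `p`-subgroup `Q`, there are at most as many blocks as
`p`-regular classes inside the centralizer of `Q`. -/
theorem card_blocks_le_of_normal_sylow {p : ℕ} [hp : Fact p.Prime] (hM : IsPModular p M)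
    (Q : Subgroup N) [hQn : Q.Normal] (hQp : IsPGroup p Q) :
    Nat.card {b : Set (IrrCharacter N) | IsPBlock M b} ≤ Nat.card (regCentralClasses p Q) := by
  classical
  haveI hMp := isPrime_of_isPModular hM
  have hMtop : M ≠ ⊤ := hM.2.1.ne_top
  apply card_blocks_le_card_classes hM {b : Set (IrrCharacter N) | IsPBlock M b} (fun B hB => hB)
  intro B hB B' hB' χ hχ C hC
  unfold regCentralClasses at hC
  rw [Set.mem_ofPred_eq] at hC
  push Not at hC
  obtain ⟨n, hn, hbad⟩ := hC
  have hconj : IsConj n (Quotient.out C) := by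
    rw [← ConjClasses.mk_eq_mk_iff_isConj, hn]
    exact (Quotient.out_eq C).symm
  by_cases hdiv : p ∣ orderOf n
  · have h1 : p ∣ orderOf (Quotient.out C) := by
      obtain ⟨t, ht⟩ := isConj_iff.1 hconj
      rw [← ht]
      have : t * n * t⁻¹ = MulAut.conj t n := rfl
      rw [this, MulEquiv.orderOf_eq]
      exact hdiv
    rw [blockCoeff_eq_zero_of_dvd hM B' hB' _ h1, mul_zero]
    exact memLocalIdeal_zero hMtop
  · have h1 : Quotient.out C ∉ Subgroup.centralizer (Q : Set N) := by
      intro h2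
      exact hbad hdiv (mem_centralizer_of_isConj Q hconj.symm h2)
    have h3 := memLocalIdeal_centralChar_of_notMem_centralizer hM Q hQp χ _ h1
    rw [mul_comm]
    exact memLocalIdeal_mul_localRing (osima hM B' hB' _) h3

open Classical in
/-- In a group with a normal Sylow `p`-subgroup `Q`, there are at least as many blocks as
`p`-regular classes inside the centralizer of `Q`. -/
theorem card_classes_le_of_normal_sylow {p : ℕ} [hp : Fact p.Prime] (hM : IsPModular p M)
    (Q : Subgroup N) [hQn : Q.Normal] (hQp : IsPGroup p Q) (hQidx : ¬ p ∣ Q.index) :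
    Nat.card (regCentralClasses p Q) ≤ Nat.card {b : Set (IrrCharacter N) | IsPBlock M b} := by
  haveI hMp := isPrime_of_isPModular hM
  have hMtop : M ≠ ⊤ := hM.2.1.ne_top
  obtain ⟨𝔅, h𝔅⟩ : ∃ 𝔅 : Set (Set (IrrCharacter N)), 𝔅 = {b | IsPBlock M b} := ⟨_, rfl⟩
  obtain ⟨𝒦, h𝒦⟩ : ∃ 𝒦 : Set (ConjClasses N), 𝒦 = regCentralClasses p Q := ⟨_, rfl⟩
  rw [← h𝔅, ← h𝒦]
  letI : Fintype 𝔅 := Fintype.ofFinite _
  letI : Fintype 𝒦 := Fintype.ofFinite _
  rw [Nat.card_eq_fintype_card, Nat.card_eq_fintype_card]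
  have hmem𝔅 : ∀ b : Set (IrrCharacter N), b ∈ 𝔅 ↔ IsPBlock M b := by
    intro b
    rw [h𝔅]
    rfl
  have hmem𝒦 : ∀ C : ConjClasses N, C ∈ 𝒦 ↔ (∀ n : N, ConjClasses.mk n = C →
      ¬ p ∣ orderOf n ∧ n ∈ Subgroup.centralizer (Q : Set N)) := by
    intro C
    rw [h𝒦]
    rfl
  have hout : ∀ C : ConjClasses N, ConjClasses.mk (Quotient.out C) = C :=
    fun C => Quotient.out_eq C
  have hblock : ∀ B : 𝔅, IsPBlock M (B : Set (IrrCharacter N)) := by
    intro B
    exact (hmem𝔅 _).1 B.2
  have hex : ∀ B : 𝔅, ∃ χ : IrrCharacter N, χ ∈ (B : Set (IrrCharacter N)) := by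
    intro B
    obtain ⟨χ₀, h⟩ := hblock B
    refine ⟨χ₀, ?_⟩
    rw [h]
    exact sameBlock_refl hMtop _
  choose rep hrep using hex
  have hK : ∀ i : 𝒦, ¬ p ∣ orderOf (Quotient.out (i : ConjClasses N))
      ∧ Quotient.out (i : ConjClasses N) ∈ Subgroup.centralizer (Q : Set N) := by
    intro i
    exact (hmem𝒦 _).1 i.2 _ (hout _)
  obtain ⟨ker, hker⟩ : ∃ ker : IrrCharacter N → Prop,
      ker = fun χ : IrrCharacter N => ∀ u ∈ Q, (χ : N → ℂ) u = (χ : N → ℂ) 1 := ⟨_, rfl⟩
  obtain ⟨r, hr⟩ : ∃ r : ℂ, r = (Nat.card Q : ℂ) / (Nat.card N : ℂ) := ⟨_, rfl⟩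
  have hQ0 : (Nat.card Q : ℂ) ≠ 0 := by
    exact_mod_cast Nat.card_pos.ne'
  have hN0 : (Nat.card N : ℂ) ≠ 0 := by
    exact_mod_cast Nat.card_pos.ne'
  have hrR : MemLocalRing M r := by
    refine ⟨1, (Q.index : AlgInt), ?_, ?_⟩
    · intro h
      exact hQidx ((natCast_mem_iff hM _).1 h)
    · rw [hr, ← Subgroup.card_mul_index Q]
      have hi0 : (Q.index : ℂ) ≠ 0 := by
        exact_mod_cast Subgroup.index_ne_zero_of_finite
      push_cast
      field_simp
  apply card_le_of_local_pairing (M := M)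
    (fun (i : 𝒦) (B : 𝔅) => r * ∑ χ : IrrCharacter N,
      (if χ ∈ (B : Set (IrrCharacter N)) ∧ ker χ
        then (χ : N → ℂ) 1 * conj ((χ : N → ℂ) (Quotient.out (i : ConjClasses N))) else 0))
    (fun (B : 𝔅) (i : 𝒦) => centralChar (rep B : N → ℂ) (Quotient.out (i : ConjClasses N)))
  · intro i B
    apply memLocalRing_mul hrR
    apply memLocalRing_sum
    intro χ _
    split_ifs
    · apply memLocalRing_of_integral
      apply IsIntegral.mul
      · exact Cfsg.Agent.Lib.helper3.Lin.isIntegral_of_isCharacter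
          (isCharacter_of_isIrrCharacter χ.2) 1
      · exact (Cfsg.Agent.Lib.helper3.Lin.isIntegral_of_isCharacter
          (isCharacter_of_isIrrCharacter χ.2) _).map (starRingEnd ℂ).toIntAlgHom
    · exact memLocalRing_of_integral isIntegral_zero
  · intro B i
    exact memLocalRing_of_integral (isIntegral_centralChar (rep B).2 _)
  · intro i i'
    obtain ⟨x, hx⟩ : ∃ x : N, x = Quotient.out (i : ConjClasses N) := ⟨_, rfl⟩
    obtain ⟨x', hx'⟩ : ∃ x' : N, x' = Quotient.out (i' : ConjClasses N) := ⟨_, rfl⟩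
    simp only [← hx, ← hx']
    -- the exact value
    obtain ⟨T, hT⟩ : ∃ T : ℂ, T = r * ∑ χ : IrrCharacter N,
        (if ker χ then (χ : N → ℂ) 1 * conj ((χ : N → ℂ) x) * centralChar (χ : N → ℂ) x'
          else 0) := ⟨_, rfl⟩
    have hTval : T = if i = i' then 1 else 0 := by
      have h1 : ∀ χ : IrrCharacter N,
          (if ker χ then (χ : N → ℂ) 1 * conj ((χ : N → ℂ) x) * centralChar (χ : N → ℂ) x'
            else 0)
          = ((Subgroup.centralizer ({x'} : Set N)).index : ℂ)
            * (if (∀ u ∈ Q, (χ : N → ℂ) u = (χ : N → ℂ) 1)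
              then (χ : N → ℂ) x' * conj ((χ : N → ℂ) x) else 0) := by
        intro χ
        rw [hker]
        beta_reduce
        have hχ1 : (χ : N → ℂ) 1 ≠ 0 := apply_one_ne_zero χ.2
        unfold centralChar
        split_ifs
        · field_simp
        · ring
      rw [hT, Finset.sum_congr rfl (fun χ _ => h1 χ), ← Finset.mul_sum,
        sum_ker_mul_conj Q hQp x x' (hx ▸ (hK i).1) (hx' ▸ (hK i').1) (hx' ▸ (hK i').2)]
      have hconj : IsConj x' x ↔ i = i' := by
        rw [← ConjClasses.mk_eq_mk_iff_isConj, hx, hx', hout, hout]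
        constructor
        · intro h
          exact (Subtype.ext h).symm
        · intro h
          rw [h]
      by_cases hii : i = i'
      · rw [if_pos hii, if_pos (hconj.2 hii), hr]
        have h2 : (Nat.card N : ℂ) = (Nat.card (Subgroup.centralizer ({x'} : Set N)) : ℂ)
            * ((Subgroup.centralizer ({x'} : Set N)).index : ℂ) := by
          rw [← Nat.cast_mul, Subgroup.card_mul_index]
        have hc0 : (Nat.card (Subgroup.centralizer ({x'} : Set N)) : ℂ) ≠ 0 := by
          exact_mod_cast Nat.card_pos.ne'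
        have hi0 : ((Subgroup.centralizer ({x'} : Set N)).index : ℂ) ≠ 0 := by
          exact_mod_cast Subgroup.index_ne_zero_of_finite
        rw [h2]
        field_simp
      · rw [if_neg hii, if_neg (fun h => hii (hconj.1 h))]
        ring
    rw [← hTval]
    -- the congruence
    have hswap : T = r * ∑ B : 𝔅, ∑ χ : IrrCharacter N,
        (if χ ∈ (B : Set (IrrCharacter N)) ∧ ker χ
          then (χ : N → ℂ) 1 * conj ((χ : N → ℂ) x) * centralChar (χ : N → ℂ) x' else 0) := by
      rw [hT, Finset.sum_comm]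
      congr 1
      apply Finset.sum_congr rfl
      intro χ _
      have hBχ : blockOf M (χ : N → ℂ) ∈ 𝔅 := (hmem𝔅 _).2 ⟨χ, rfl⟩
      rw [Finset.sum_eq_single (⟨blockOf M (χ : N → ℂ), hBχ⟩ : 𝔅)]
      · have hmem : χ ∈ blockOf M (χ : N → ℂ) := sameBlock_refl hMtop _
        by_cases hk : ker χ
        · rw [if_pos hk, if_pos ⟨hmem, hk⟩]
        · rw [if_neg hk, if_neg (fun h => hk h.2)]
      · intro B _ hB
        rw [if_neg]
        rintro ⟨hχB, _⟩
        apply hB
        apply Subtype.ext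
        exact block_eq_of_mem (hblock B) ⟨χ, rfl⟩ χ hχB (sameBlock_refl hMtop _)
      · intro h
        exact absurd (Finset.mem_univ _) h
    rw [hswap]
    have hdiff : (∑ B : 𝔅, r * (∑ χ : IrrCharacter N,
        (if χ ∈ (B : Set (IrrCharacter N)) ∧ ker χ
          then (χ : N → ℂ) 1 * conj ((χ : N → ℂ) x) else 0)) * centralChar (rep B : N → ℂ) x')
        - r * ∑ B : 𝔅, ∑ χ : IrrCharacter N,
        (if χ ∈ (B : Set (IrrCharacter N)) ∧ ker χ
          then (χ : N → ℂ) 1 * conj ((χ : N → ℂ) x) * centralChar (χ : N → ℂ) x' else 0)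
        = r * ∑ B : 𝔅, ∑ χ : IrrCharacter N,
          (if χ ∈ (B : Set (IrrCharacter N)) ∧ ker χ
            then (χ : N → ℂ) 1 * conj ((χ : N → ℂ) x)
              * (centralChar (rep B : N → ℂ) x' - centralChar (χ : N → ℂ) x') else 0) := by
      rw [Finset.mul_sum, Finset.mul_sum, ← Finset.sum_sub_distrib]
      apply Finset.sum_congr rfl
      intro B _
      rw [mul_assoc, ← mul_sub, Finset.sum_mul, ← Finset.sum_sub_distrib]
      congr 1
      apply Finset.sum_congr rfl
      intro χ _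
      split_ifs
      · ring
      · ring
    rw [hdiff]
    apply memLocalIdeal_mul_localRing hrR
    apply memLocalIdeal_sum
    intro B _
    apply memLocalIdeal_sum
    intro χ _
    split_ifs with h
    · have h1 : SameBlock M (rep B : N → ℂ) (χ : N → ℂ) := by
        obtain ⟨χ₀, hχ₀⟩ := hblock B
        have h2 := hrep B
        have h3 := h.1
        rw [hχ₀] at h2 h3
        exact sameBlock_trans (sameBlock_symm h2) h3
      have h4 : MemLocalRing M ((χ : N → ℂ) 1 * conj ((χ : N → ℂ) x)) := by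
        apply memLocalRing_of_integral
        apply IsIntegral.mul
        · exact Cfsg.Agent.Lib.helper3.Lin.isIntegral_of_isCharacter
            (isCharacter_of_isIrrCharacter χ.2) 1
        · exact (Cfsg.Agent.Lib.helper3.Lin.isIntegral_of_isCharacter
            (isCharacter_of_isIrrCharacter χ.2) _).map (starRingEnd ℂ).toIntAlgHom
      exact memLocalIdeal_mul_localRing h4 (h1 x')
    · exact memLocalIdeal_zero hMtop

end Cfsg.Agent.Lib.helper3.Block
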