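import Mathlib
import Cfsg.Prelude.Def_Characters
import Cfsg.Agent.Lib.helper3.GoingDown2
import Cfsg.Agent.S0887

set_option autoImplicit false
set_option linter.style.haveILetI false
set_option linter.unusedSectionVars false
set_option linter.unusedVariables false

/-!
# S4872, piece P2: an odd Clifford multiplicity over a normal subgroup of `2`-power index is one
-/

namespace Cfsg.Agent.Lib.helper3.OddMult

open Cfsg Cfsg.Agent.Lib.helper3.CharBasic Cfsg.Agent.Lib.helper3.Irr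

universe u

theorem mult_eq_one_of_odd {G : Type u} [Group G] [Fintype G] (N : Subgroup G) [hN : N.Normal]
    [Fintype N] (a : ℕ) (hidx : N.index = 2 ^ a) (χ : IrrCharacter G) (φ : IrrCharacter N)
    (e : ℕ) (he : classInner (fun n : N => (χ : G → ℂ) n) (φ : N → ℂ) = e) (hodd : Odd e) :
    e = 1 := by
  classical
  have he0 : e ≠ 0 := by
    intro h
    rw [h] at hodd
    exact absurd hodd (by decide)
  have hc : classInner (fun n : N => (χ : G → ℂ) n) (φ : N → ℂ) ≠ 0 := by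
    rw [he]
    exact_mod_cast he0
  obtain ⟨e', he'0, he', hres, -, -⟩ := clifford_finset N (χ : G → ℂ) χ.2 (φ : N → ℂ) φ.2 hc
  have hee : e' = e := by
    rw [he] at he'
    exact_mod_cast he'.symm
  subst hee
  obtain ⟨d, hdpos, hd⟩ := exists_pos_nat_apply_one φ.2
  -- the degree of `χ`
  have h3 : ∀ ψ ∈ Finset.univ.image (conjFun N (φ : N → ℂ)), ψ 1 = (φ : N → ℂ) 1 := by
    intro ψ hψ
    obtain ⟨g, -, rfl⟩ := Finset.mem_image.mp hψ
    have hkk : (⟨g * ((1 : N) : G) * g⁻¹, hN.conj_mem 1 (1 : N).2 g⟩ : N) = 1 := by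
      apply Subtype.ext
      show g * ((1 : N) : G) * g⁻¹ = ((1 : N) : G)
      simp
    show (φ : N → ℂ) ⟨g * ((1 : N) : G) * g⁻¹, hN.conj_mem 1 (1 : N).2 g⟩ = (φ : N → ℂ) 1
    rw [hkk]
  have h2 := congrFun hres 1
  rw [Pi.smul_apply, Finset.sum_apply, Finset.sum_congr rfl h3, Finset.sum_const, nsmul_eq_mul,
    smul_eq_mul, hd] at h2
  set t := (Finset.univ.image (conjFun N (φ : N → ℂ))).card with ht
  have hχ1 : (χ : G → ℂ) 1 = ((e' * t * d : ℕ) : ℂ) := by
    have : (χ : G → ℂ) ((1 : N) : G) = (χ : G → ℂ) 1 := rfl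
    rw [← this, h2]
    push_cast
    ring
  have hdiv := (Cfsg.Agent.S0887.result N (χ : G → ℂ) χ.2 (φ : N → ℂ) φ.2 hc (e' * t * d) d
    hχ1 hd).2
  rw [Nat.mul_div_cancel _ hdpos, hidx] at hdiv
  have hdvd : e' ∣ 2 ^ a := (Dvd.intro _ rfl).trans hdiv
  obtain ⟨j, -, hj⟩ := (Nat.dvd_prime_pow Nat.prime_two).1 hdvd
  by_contra hne
  have hj0 : j ≠ 0 := by
    intro h
    rw [h, pow_zero] at hj
    exact hne hj
  rw [hj] at hodd
  exact (Nat.not_odd_iff_even.2 ((Nat.even_pow' hj0).2 even_two)) hodd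

end Cfsg.Agent.Lib.helper3.OddMult
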