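import Mathlib

set_option autoImplicit false

namespace Cfsg.Agent.Lib.helper3.OrbitDvd

/-- if `m` divides the length of every orbit, it divides the size of the set acted on -/
theorem dvd_card_of_forall_index_stabilizer {α β : Type*} [Group α] [MulAction α β] [Finite β]
    (m : ℕ) (h : ∀ b : β, m ∣ (MulAction.stabilizer α b).index) : m ∣ Nat.card β := by
  classical
  have := Fintype.ofFinite β
  have : Fintype (MulAction.orbitRel.Quotient α β) := Fintype.ofFinite _
  rw [Nat.card_congr (MulAction.selfEquivSigmaOrbits α β), Nat.card_sigma]
  apply Finset.dvd_sum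
  intro ω _
  rw [Nat.card_coe_set_eq, ← MulAction.index_stabilizer]
  exact h _

end Cfsg.Agent.Lib.helper3.OrbitDvd
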