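import Mathlib

set_option autoImplicit false
set_option linter.style.haveILetI false
set_option linter.unusedSectionVars false

/-!
# An abelian normal subgroup with quotient of order `p ^ 2` and no regular orbit on the dual

If `Z` is an abelian normal subgroup of the `p`-group `P`, `P ⧸ Z` is elementary abelian of order
`p ^ 2`, no element outside `Z` centralizes `Z` and every linear character of `Z` is fixed by some
element outside `Z`, then the centre of `P` has index `p ^ 3`.
-/

namespace Cfsg.Agent.Lib.helper3.PDeg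

open scoped IsMulCommutative

variable {P : Type*} [Group P] (Z : Subgroup P) [hZn : Z.Normal] [hZc : IsMulCommutative Z]

/-- The commutator map `z ↦ g z g⁻¹ z⁻¹` on the abelian normal subgroup `Z`. -/
noncomputable def commHom (g : P) : Z →* Z :=
  (MulAut.conjNormal g : MulAut Z).toMonoidHom / MonoidHom.id Z

theorem commHom_apply (g : P) (z : Z) :
    ((commHom Z g z : Z) : P) = g * z * g⁻¹ * (z : P)⁻¹ := by
  simp [commHom, div_eq_mul_inv]

theorem commHom_eq_one_iff (g : P) (z : Z) : commHom Z g z = 1 ↔ g * z = z * g := by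
  rw [← Subtype.coe_inj, commHom_apply, Subgroup.coe_one]
  constructor
  · intro h
    have : g * z * g⁻¹ = z := by
      rw [mul_inv_eq_one] at h; exact h
    calc g * z = g * z * g⁻¹ * g := by group
      _ = z * g := by rw [this]
  · intro h
    rw [h]; group

/-- A linear character of `Z` is fixed by `g`. -/
def Inv (g : P) (lam : Z →* ℂˣ) : Prop := ∀ z : Z, lam (MulAut.conjNormal g z) = lam z

theorem inv_iff_commHom (g : P) (lam : Z →* ℂˣ) :
    Inv Z g lam ↔ ∀ b ∈ (commHom Z g).range, lam b = 1 := by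
  constructor
  · rintro h b ⟨z, rfl⟩
    have : commHom Z g z = MulAut.conjNormal g z / z := rfl
    rw [this, map_div, h z, div_self']
  · intro h z
    have h1 := h (commHom Z g z) ⟨z, rfl⟩
    have : commHom Z g z = MulAut.conjNormal g z / z := rfl
    rw [this, map_div, div_eq_one] at h1
    exact h1

/-- The linear characters of `Z` fixed by `g`. -/
def invSub (g : P) : Subgroup (Z →* ℂˣ) where
  carrier := {lam | Inv Z g lam}
  one_mem' := fun z => rfl
  mul_mem' := by
    intro a b ha hb z
    rw [MonoidHom.mul_apply, MonoidHom.mul_apply, ha z, hb z]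
  inv_mem' := by
    intro a ha z
    rw [MonoidHom.inv_apply, MonoidHom.inv_apply, ha z]

theorem mem_invSub (g : P) (lam : Z →* ℂˣ) : lam ∈ invSub Z g ↔ Inv Z g lam := Iff.rfl

/-- The inertia group of a linear character of `Z`. -/
def inertiaSub (lam : Z →* ℂˣ) : Subgroup P where
  carrier := {g | Inv Z g lam}
  one_mem' := by
    intro z
    rw [map_one]; rfl
  mul_mem' := by
    intro a b ha hb z
    rw [map_mul, MulAut.mul_apply, ha, hb]
  inv_mem' := by
    intro a ha z
    have := ha (MulAut.conjNormal a⁻¹ z)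
    rw [← MulAut.mul_apply, ← map_mul, mul_inv_cancel, map_one] at this
    exact this.symm

theorem mem_inertiaSub (g : P) (lam : Z →* ℂˣ) : g ∈ inertiaSub Z lam ↔ Inv Z g lam := Iff.rfl

theorem inv_of_mem {g : P} (hg : g ∈ Z) (lam : Z →* ℂˣ) : Inv Z g lam := by
  intro z
  congr 1
  apply Subtype.ext
  rw [MulAut.conjNormal_apply]
  have := setLike_mul_comm hg z.2
  rw [this]; group

theorem le_inertiaSub (lam : Z →* ℂˣ) : Z ≤ inertiaSub Z lam :=
  fun _ hg => inv_of_mem Z hg lam

theorem card_dual [Finite P] : Nat.card (Z →* ℂˣ) = Nat.card Z := by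
  haveI : NeZero ((Monoid.exponent Z : ℕ) : ℂ) :=
    ⟨Nat.cast_ne_zero.mpr Monoid.exponent_ne_zero_of_finite⟩
  exact CommGroup.card_monoidHom_of_hasEnoughRootsOfUnity Z ℂ

theorem card_invSub [Finite P] (g : P) :
    Nat.card (invSub Z g) * Nat.card (commHom Z g).range = Nat.card Z := by
  haveI : NeZero ((Monoid.exponent Z : ℕ) : ℂ) :=
    ⟨Nat.cast_ne_zero.mpr Monoid.exponent_ne_zero_of_finite⟩
  have h1 := CommGroup.card_subgroupOrderIsoSubgroupMonoidHom (G := Z) ℂ (commHom Z g).range
  have h2 : Nat.card (invSub Z g)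
      = Nat.card ((CommGroup.subgroupOrderIsoSubgroupMonoidHom Z ℂ (commHom Z g).range).ofDual) := by
    apply Nat.card_congr
    apply Equiv.subtypeEquivRight
    intro lam
    rw [CommGroup.mem_subgroupOrderIsoSubgroupMonoidHom_iff, mem_invSub, inv_iff_commHom]
  rw [h2, h1, ← Subgroup.index_eq_card, Subgroup.index_mul_card]

theorem card_range_mul_card_ker [Finite P] (g : P) :
    Nat.card (commHom Z g).range * Nat.card (commHom Z g).ker = Nat.card Z := by
  rw [← Subgroup.index_ker, Subgroup.index_mul_card]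

/-- The subgroup generated by `Z` and `g`. -/
def adj (g : P) : Subgroup P := Z ⊔ Subgroup.zpowers g

theorem le_adj (g : P) : Z ≤ adj Z g := le_sup_left

theorem mem_adj_self (g : P) : g ∈ adj Z g :=
  (le_sup_right : Subgroup.zpowers g ≤ Z ⊔ Subgroup.zpowers g) (Subgroup.mem_zpowers g)

theorem index_adj [Finite P] (p : ℕ) [hp : Fact p.Prime] (hidx : Z.index = p ^ 2) {g : P}
    (hg : g ∉ Z) (hgp : g ^ p ∈ Z) : (adj Z g).index = p := by
  have h1 : adj Z g = (Subgroup.zpowers (QuotientGroup.mk' Z g)).comap (QuotientGroup.mk' Z) := by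
    rw [← MonoidHom.map_zpowers, Subgroup.comap_map_eq, QuotientGroup.ker_mk', adj, sup_comm]
  rw [h1, Subgroup.index_comap_of_surjective _ (QuotientGroup.mk'_surjective Z)]
  have hord : orderOf (QuotientGroup.mk' Z g) = p := by
    apply orderOf_eq_prime
    · rw [← map_pow]; exact (QuotientGroup.eq_one_iff _).mpr hgp
    · intro h; exact hg ((QuotientGroup.eq_one_iff _).mp h)
  have hcard : Nat.card (P ⧸ Z) = p ^ 2 := by rw [← Subgroup.index_eq_card, hidx]
  have := Subgroup.index_mul_card (Subgroup.zpowers (QuotientGroup.mk' Z g))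
  rw [Nat.card_zpowers, hord, hcard, pow_two] at this
  exact Nat.eq_of_mul_eq_mul_right hp.out.pos this

theorem eq_top_of_mem [Finite P] (p : ℕ) [hp : Fact p.Prime] (hidx : Z.index = p ^ 2) {x y : P}
    (hx : x ∉ Z) (hxp : x ^ p ∈ Z) (hy : y ∉ adj Z x) (T : Subgroup P) (hZT : Z ≤ T)
    (hxT : x ∈ T) (hyT : y ∈ T) : T = ⊤ := by
  have hAT : adj Z x ≤ T := sup_le hZT ((Subgroup.zpowers_le).mpr hxT)
  have hdvd : T.index ∣ p := by
    rw [← index_adj Z p hidx hx hxp]; exact Subgroup.index_dvd_of_le hAT
  rcases (Nat.dvd_prime hp.out).mp hdvd with h | h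
  · exact Subgroup.index_eq_one.mp h
  · exfalso
    apply hy
    have : adj Z x = T := by
      apply le_antisymm hAT
      have hrel : (adj Z x).relIndex T = 1 := by
        have := Subgroup.relIndex_mul_index hAT
        rw [h, index_adj Z p hidx hx hxp] at this
        exact Nat.eq_of_mul_eq_mul_right hp.out.pos (by rw [this, one_mul])
      exact Subgroup.relIndex_eq_one.mp hrel
    rw [this]; exact hyT

theorem sum_card_invSub [Fintype P] [Fintype (Z →* ℂˣ)] :
    ∑ g : P, Nat.card (invSub Z g) = ∑ lam : Z →* ℂˣ, Nat.card (inertiaSub Z lam) := by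
  classical
  have h1 : ∀ g : P, Nat.card (invSub Z g) = ∑ lam : Z →* ℂˣ, if Inv Z g lam then 1 else 0 := by
    intro g
    rw [Nat.card_eq_fintype_card, Fintype.card_subtype, Finset.card_filter]
    rfl
  have h2 : ∀ lam : Z →* ℂˣ, Nat.card (inertiaSub Z lam) = ∑ g : P, if Inv Z g lam then 1 else 0 := by
    intro lam
    rw [Nat.card_eq_fintype_card, Fintype.card_subtype, Finset.card_filter]
    rfl
  simp_rw [h1, h2]
  exact Finset.sum_comm

theorem card_mul_card_le [Finite P] (x y : P) :
    Nat.card (invSub Z x) * Nat.card (invSub Z y)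
      ≤ Nat.card (invSub Z x ⊓ invSub Z y : Subgroup (Z →* ℂˣ)) * Nat.card Z := by
  have hE := card_dual Z
  have h1 := Subgroup.index_inf_le (H := invSub Z x) (K := invSub Z y)
  have ha := Subgroup.index_mul_card (invSub Z x)
  have hb := Subgroup.index_mul_card (invSub Z y)
  have hc := Subgroup.index_mul_card (invSub Z x ⊓ invSub Z y)
  rw [hE] at ha hb hc
  have hpos : 0 < (invSub Z x ⊓ invSub Z y).index :=
    Nat.pos_of_ne_zero Subgroup.index_ne_zero_of_finite
  apply Nat.le_of_mul_le_mul_left _ hpos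
  calc (invSub Z x ⊓ invSub Z y).index * (Nat.card (invSub Z x) * Nat.card (invSub Z y))
      ≤ ((invSub Z x).index * (invSub Z y).index)
          * (Nat.card (invSub Z x) * Nat.card (invSub Z y)) := Nat.mul_le_mul_right _ h1
    _ = ((invSub Z x).index * Nat.card (invSub Z x))
          * ((invSub Z y).index * Nat.card (invSub Z y)) := by ring
    _ = Nat.card Z * Nat.card Z := by rw [ha, hb]
    _ = ((invSub Z x ⊓ invSub Z y).index * Nat.card (invSub Z x ⊓ invSub Z y : Subgroup _))
          * Nat.card Z := by rw [hc]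
    _ = _ := by ring

end Cfsg.Agent.Lib.helper3.PDeg
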