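import Mathlib
import Cfsg.Agent.Lib.helper3.PDeg1

set_option autoImplicit false
set_option linter.style.haveILetI false
set_option linter.unusedSectionVars false

/-!
# The counting argument for Isaacs 12.11
-/

namespace Cfsg.Agent.Lib.helper3.PDeg

open scoped IsMulCommutative

variable {P : Type*} [Group P] (Z : Subgroup P) [hZn : Z.Normal] [hZc : IsMulCommutative Z]

theorem sum_indicator [Fintype P] (H : Subgroup P) [DecidablePred (· ∈ H)] (c : ℤ) :
    ∑ g : P, (if g ∈ H then c else 0) = (Nat.card H : ℤ) * c := by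
  rw [← Finset.sum_filter, Finset.sum_const, Nat.card_eq_fintype_card, Fintype.card_subtype,
    nsmul_eq_mul]

/-- The arithmetic at the heart of the counting argument. -/
theorem arith_core (p n f e w V : ℤ) (hp : 2 ≤ p) (hn : 0 < n) (hw0 : 0 < w)
    (hwn : p * w ≤ n) (hfe : f + e = n) (hV : V = f * (p ^ 2 * n) + e * (p * n))
    (ha : p * V ≤ p ^ 2 * n * n + n * (p * n - n))
    (hb : w * V ≤ p ^ 2 * n * (f * n) + p * n * (w ^ 2 - f * n) + n * (w * n - w ^ 2))
    (hc : V ≤ p ^ 2 * n * w + n * (n - w)) :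
    n = p ^ 2 * f := by
  have he : e = n - f := by linarith
  subst he
  have hN : 0 < n * (p - 1) := mul_pos hn (by linarith)
  have hS : V - n ^ 2 = n * (p - 1) * (n + p * f) := by rw [hV]; ring
  -- (a)
  have h1 : p ^ 2 * f ≤ n := by
    have : n * (p - 1) * (p * (n + p * f)) ≤ n * (p - 1) * ((p + 1) * n) := by
      have e1 : n * (p - 1) * (p * (n + p * f)) = p * (V - n ^ 2) := by rw [hS]; ring
      have e2 : n * (p - 1) * ((p + 1) * n) = p ^ 2 * n * n + n * (p * n - n) - p * n ^ 2 := by ring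
      rw [e1, e2]; linarith
    have := le_of_mul_le_mul_left this hN
    linarith
  -- (b)
  have h2 : w ≤ p * f := by
    have : n * (p - 1) * (w * (n + p * f)) ≤ n * (p - 1) * (w ^ 2 + p * f * n) := by
      have e1 : n * (p - 1) * (w * (n + p * f)) = w * (V - n ^ 2) := by rw [hS]; ring
      have e2 : n * (p - 1) * (w ^ 2 + p * f * n)
          = p ^ 2 * n * (f * n) + p * n * (w ^ 2 - f * n) + n * (w * n - w ^ 2) - w * n ^ 2 := by
        ring
      rw [e1, e2]; linarith
    have h3 := le_of_mul_le_mul_left this hN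
    by_contra hcon
    push Not at hcon
    have hnw : 0 < n - w := by nlinarith
    have : 0 < (n - w) * (w - p * f) := mul_pos hnw (by linarith)
    nlinarith
  -- (c)
  have h3 : n ≤ p ^ 2 * f := by
    have : n * (p - 1) * (n + p * f) ≤ n * (p - 1) * ((p + 1) * w) := by
      have e2 : n * (p - 1) * ((p + 1) * w) = p ^ 2 * n * w + n * (n - w) - n ^ 2 := by ring
      rw [← hS, e2]; linarith
    have h4 := le_of_mul_le_mul_left this hN
    nlinarith
  linarith

/-- The counting argument: all fixed-point groups have index `p` and the group of invariant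
linear characters has index `p ^ 2`. -/
theorem counting [Finite P] (p : ℕ) [hp : Fact p.Prime] (hP : IsPGroup p P)
    (hidx : Z.index = p ^ 2) (hexp : ∀ g : P, g ^ p ∈ Z)
    (H1 : ∀ g : P, g ∉ Z → ∃ z : Z, g * z ≠ z * g)
    (H2 : ∀ lam : Z →* ℂˣ, ∃ g : P, g ∉ Z ∧ Inv Z g lam) :
    ∃ f : ℕ, Nat.card Z = p ^ 2 * f ∧ (∀ g : P, g ∉ Z → p * Nat.card (invSub Z g) = Nat.card Z) ∧
      ∀ x y : P, x ∉ Z → y ∉ adj Z x →
        Nat.card (invSub Z x ⊓ invSub Z y : Subgroup (Z →* ℂˣ)) = f := by
  classical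
  letI : Fintype P := Fintype.ofFinite P
  letI : Fintype (Z →* ℂˣ) := Fintype.ofFinite _
  obtain ⟨n, hn⟩ : ∃ n, n = Nat.card Z := ⟨_, rfl⟩
  have hn0 : 0 < n := hn ▸ Nat.card_pos
  have hPcard : Nat.card P = p ^ 2 * n := by rw [hn, ← hidx, Subgroup.index_mul_card]
  have hEcard : Nat.card (Z →* ℂˣ) = n := by rw [hn]; exact card_dual Z
  obtain ⟨a, ha⟩ : ∃ a, n = p ^ a := by rw [hn]; exact (hP.to_subgroup Z).exists_card_eq
  obtain ⟨v, hv⟩ : ∃ v : P → ℕ, v = fun g => Nat.card (invSub Z g) := ⟨_, rfl⟩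
  have hvb : ∀ g, v g * Nat.card (commHom Z g).range = n := by
    intro g; rw [hv, hn]; exact card_invSub Z g
  have hvZ : ∀ g ∈ Z, v g = n := by
    intro g hg
    rw [hv]; simp only
    have : invSub Z g = ⊤ := by
      rw [eq_top_iff]; intro lam _; exact inv_of_mem Z hg lam
    rw [this, Subgroup.card_top, hEcard]
  have hvpos : ∀ g, 0 < v g := by
    intro g; rw [hv]; exact Nat.card_pos
  have hvlt : ∀ g, g ∉ Z → p * v g ≤ n := by
    intro g hg
    obtain ⟨z, hz⟩ := H1 g hg
    have hb1 : Nat.card (commHom Z g).range ≠ 1 := by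
      intro h
      rw [Subgroup.card_eq_one] at h
      apply hz
      rw [← commHom_eq_one_iff]
      have : commHom Z g z ∈ (commHom Z g).range := ⟨z, rfl⟩
      rw [h, Subgroup.mem_bot] at this
      exact this
    have hbdvd : Nat.card (commHom Z g).range ∣ p ^ a := by
      rw [← ha, ← hvb g]; exact Dvd.intro_left _ rfl
    obtain ⟨j, hj, hbj⟩ := (Nat.dvd_prime_pow hp.out).mp hbdvd
    have hj0 : j ≠ 0 := by
      intro h; rw [h, pow_zero] at hbj; exact hb1 hbj
    obtain ⟨j', rfl⟩ := Nat.exists_eq_succ_of_ne_zero hj0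
    have := hvb g
    rw [hbj, pow_succ] at this
    calc p * v g ≤ p * v g * p ^ j' := Nat.le_mul_of_pos_right _ (pow_pos hp.out.pos _)
      _ = n := by rw [← this]; ring
  -- the invariant characters
  obtain ⟨f, hf⟩ : ∃ f : ℕ,
      f = (Finset.univ.filter (fun lam : Z →* ℂˣ => ∀ g, Inv Z g lam)).card := ⟨_, rfl⟩
  obtain ⟨e, he⟩ : ∃ e : ℕ,
      e = (Finset.univ.filter (fun lam : Z →* ℂˣ => ¬ ∀ g, Inv Z g lam)).card := ⟨_, rfl⟩
  have hfe : f + e = n := by
    rw [hf, he, Finset.card_filter_add_card_filter_not, Finset.card_univ,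
      ← Nat.card_eq_fintype_card, hEcard]
  -- sizes of the inertia groups
  have hT : ∀ lam : Z →* ℂˣ, Nat.card (inertiaSub Z lam)
      = if (∀ g, Inv Z g lam) then p ^ 2 * n else p * n := by
    intro lam
    have hZT := le_inertiaSub Z lam
    have hmul := Subgroup.index_mul_card (inertiaSub Z lam)
    rw [hPcard] at hmul
    split_ifs with hall
    · have : inertiaSub Z lam = ⊤ := by
        rw [eq_top_iff]; intro g _; exact hall g
      rw [this, Subgroup.card_top, hPcard]
    · have hdvd : (inertiaSub Z lam).index ∣ p ^ 2 := by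
        rw [← hidx]; exact Subgroup.index_dvd_of_le hZT
      obtain ⟨k, hk, hik⟩ := (Nat.dvd_prime_pow hp.out).mp hdvd
      have hk0 : k ≠ 0 := by
        intro h
        rw [h, pow_zero, Subgroup.index_eq_one] at hik
        apply hall
        intro g
        have : g ∈ inertiaSub Z lam := by rw [hik]; exact Subgroup.mem_top g
        exact this
      have hk2 : k ≠ 2 := by
        intro h
        rw [h] at hik
        rw [hik] at hmul
        have hcard : Nat.card (inertiaSub Z lam) = n :=
          Nat.eq_of_mul_eq_mul_left (pow_pos hp.out.pos 2) hmul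
        have heq : Z = inertiaSub Z lam := by
          apply Subgroup.eq_of_le_of_card_ge hZT
          rw [hcard, hn]
        obtain ⟨g, hgZ, hg⟩ := H2 lam
        apply hgZ
        rw [heq]
        exact hg
      have hk1 : k = 1 := by omega
      rw [hk1, pow_one] at hik
      rw [hik, pow_two, mul_assoc] at hmul
      exact Nat.eq_of_mul_eq_mul_left hp.out.pos hmul
  -- the total
  have hV : ∑ g : P, v g = f * (p ^ 2 * n) + e * (p * n) := by
    rw [hv]
    simp only
    rw [sum_card_invSub Z]
    simp_rw [hT]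
    rw [Finset.sum_ite, Finset.sum_const, Finset.sum_const, ← hf, ← he, smul_eq_mul, smul_eq_mul]
  -- pairs
  have hpairf : ∀ x y : P, x ∉ Z → y ∉ adj Z x →
      Nat.card (invSub Z x ⊓ invSub Z y : Subgroup (Z →* ℂˣ)) = f := by
    intro x y hx hy
    rw [hf, Nat.card_eq_fintype_card, Fintype.card_subtype]
    congr 1
    apply Finset.filter_congr
    intro lam _
    rw [Subgroup.mem_inf, mem_invSub, mem_invSub]
    constructor
    · rintro ⟨h1, h2⟩
      have := eq_top_of_mem Z p hidx hx (hexp x) hy (inertiaSub Z lam) (le_inertiaSub Z lam) h1 h2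
      intro g
      have hg : g ∈ inertiaSub Z lam := by rw [this]; exact Subgroup.mem_top g
      exact hg
    · intro h
      exact ⟨h x, h y⟩
  have hpair : ∀ x y : P, x ∉ Z → y ∉ adj Z x → v x * v y ≤ f * n := by
    intro x y hx hy
    have := card_mul_card_le Z x y
    rw [hpairf x y hx hy, ← hn] at this
    rw [hv]
    exact this
  -- a maximal element
  have hne : (Finset.univ.filter (fun g : P => g ∉ Z)).Nonempty := by
    by_contra hcon
    rw [Finset.not_nonempty_iff_eq_empty, Finset.filter_eq_empty_iff] at hcon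
    have : Z = ⊤ := by
      rw [eq_top_iff]; intro g _
      have := hcon (Finset.mem_univ g)
      push Not at this
      exact this
    rw [this, Subgroup.index_top] at hidx
    have : 1 < p ^ 2 := Nat.one_lt_pow (by norm_num) hp.out.one_lt
    omega
  obtain ⟨xm, hxm, hmax⟩ := Finset.exists_max_image _ v hne
  rw [Finset.mem_filter] at hxm
  have hxmZ : xm ∉ Z := hxm.2
  have hmax' : ∀ g, g ∉ Z → v g ≤ v xm := by
    intro g hg
    exact hmax g (Finset.mem_filter.mpr ⟨Finset.mem_univ g, hg⟩)
  have hAidx := index_adj Z p hidx hxmZ (hexp xm)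
  have hAcard : Nat.card (adj Z xm) = p * n := by
    have := Subgroup.index_mul_card (adj Z xm)
    rw [hAidx, hPcard, pow_two, mul_assoc] at this
    exact Nat.eq_of_mul_eq_mul_left hp.out.pos this
  -- the three inequalities
  have hVZ : ((∑ g : P, v g : ℕ) : ℤ) = ∑ g : P, (v g : ℤ) := by push_cast; rfl
  have hqa : (p : ℤ) * ∑ g : P, (v g : ℤ)
      ≤ (p : ℤ) ^ 2 * n * n + (n : ℤ) * ((p : ℤ) * n - n) := by
    rw [Finset.mul_sum]
    have hpt : ∀ g : P, (p : ℤ) * (v g : ℤ)
        ≤ (n : ℤ) + (if g ∈ Z then ((p : ℤ) * n - n) else 0) := by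
      intro g
      split_ifs with hg
      · rw [hvZ g hg]; linarith
      · have := hvlt g hg
        have : ((p * v g : ℕ) : ℤ) ≤ n := by exact_mod_cast this
        push_cast at this
        linarith
    refine le_trans (Finset.sum_le_sum (fun g _ => hpt g)) ?_
    rw [Finset.sum_add_distrib, sum_indicator, Finset.sum_const, Finset.card_univ,
      ← Nat.card_eq_fintype_card, hPcard, ← hn, nsmul_eq_mul]
    push_cast
    linarith
  have hqb : (v xm : ℤ) * ∑ g : P, (v g : ℤ)
      ≤ (p : ℤ) ^ 2 * n * ((f : ℤ) * n) + (p : ℤ) * n * ((v xm : ℤ) ^ 2 - f * n)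
        + (n : ℤ) * ((v xm : ℤ) * n - (v xm : ℤ) ^ 2) := by
    rw [Finset.mul_sum]
    have hpt : ∀ g : P, (v xm : ℤ) * (v g : ℤ)
        ≤ (f : ℤ) * n + (if g ∈ adj Z xm then ((v xm : ℤ) ^ 2 - f * n) else 0)
          + (if g ∈ Z then ((v xm : ℤ) * n - (v xm : ℤ) ^ 2) else 0) := by
      intro g
      by_cases hgZ : g ∈ Z
      · have hgA : g ∈ adj Z xm := le_adj Z xm hgZ
        rw [if_pos hgZ, if_pos hgA, hvZ g hgZ]
        linarith
      · rw [if_neg hgZ]
        by_cases hgA : g ∈ adj Z xm
        · rw [if_pos hgA]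
          have := hmax' g hgZ
          have h1 : (v g : ℤ) ≤ v xm := by exact_mod_cast this
          have h2 : (0 : ℤ) ≤ v xm := by positivity
          nlinarith
        · rw [if_neg hgA]
          have := hpair xm g hxmZ hgA
          have h1 : ((v xm * v g : ℕ) : ℤ) ≤ ((f * n : ℕ) : ℤ) := by exact_mod_cast this
          push_cast at h1
          linarith
    refine le_trans (Finset.sum_le_sum (fun g _ => hpt g)) ?_
    rw [Finset.sum_add_distrib, Finset.sum_add_distrib, sum_indicator, sum_indicator,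
      Finset.sum_const, Finset.card_univ, ← Nat.card_eq_fintype_card, hPcard, ← hn, hAcard,
      nsmul_eq_mul]
    push_cast
    linarith
  have hqc : ∑ g : P, (v g : ℤ)
      ≤ (p : ℤ) ^ 2 * n * (v xm : ℤ) + (n : ℤ) * ((n : ℤ) - v xm) := by
    have hpt : ∀ g : P, (v g : ℤ)
        ≤ (v xm : ℤ) + (if g ∈ Z then ((n : ℤ) - v xm) else 0) := by
      intro g
      split_ifs with hg
      · rw [hvZ g hg]; linarith
      · have := hmax' g hg
        have h1 : (v g : ℤ) ≤ v xm := by exact_mod_cast this
        linarith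
    refine le_trans (Finset.sum_le_sum (fun g _ => hpt g)) ?_
    rw [Finset.sum_add_distrib, sum_indicator, Finset.sum_const, Finset.card_univ,
      ← Nat.card_eq_fintype_card, hPcard, ← hn, nsmul_eq_mul]
    push_cast
    linarith
  have hVint : ∑ g : P, (v g : ℤ) = (f : ℤ) * ((p : ℤ) ^ 2 * n) + (e : ℤ) * ((p : ℤ) * n) := by
    rw [← hVZ, hV]; push_cast; ring
  have hnf : (n : ℤ) = (p : ℤ) ^ 2 * f := by
    apply arith_core (p : ℤ) n f e (v xm) (∑ g : P, (v g : ℤ))
    · exact_mod_cast hp.out.two_le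
    · exact_mod_cast hn0
    · exact_mod_cast hvpos xm
    · exact_mod_cast hvlt xm hxmZ
    · exact_mod_cast hfe
    · exact hVint
    · exact hqa
    · exact hqb
    · exact hqc
  have hnf' : n = p ^ 2 * f := by exact_mod_cast hnf
  refine ⟨f, by rw [← hn]; exact hnf', ?_, hpairf⟩
  -- equality in (a)
  have hzero : ∑ g : P, ((n : ℤ) + (if g ∈ Z then ((p : ℤ) * n - n) else 0) - (p : ℤ) * (v g : ℤ))
      = 0 := by
    rw [Finset.sum_sub_distrib, Finset.sum_add_distrib, sum_indicator, Finset.sum_const,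
      Finset.card_univ, ← Nat.card_eq_fintype_card, hPcard, ← hn, nsmul_eq_mul, ← Finset.mul_sum,
      hVint]
    have he' : (e : ℤ) = n - f := by
      have : ((f + e : ℕ) : ℤ) = n := by exact_mod_cast hfe
      push_cast at this; linarith
    rw [he']
    push_cast
    rw [hnf]
    ring
  have hnonneg : ∀ g ∈ (Finset.univ : Finset P),
      0 ≤ (n : ℤ) + (if g ∈ Z then ((p : ℤ) * n - n) else 0) - (p : ℤ) * (v g : ℤ) := by
    intro g _
    split_ifs with hg
    · rw [hvZ g hg]; linarith
    · have := hvlt g hg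
      have : ((p * v g : ℕ) : ℤ) ≤ n := by exact_mod_cast this
      push_cast at this
      linarith
  have hall := (Finset.sum_eq_zero_iff_of_nonneg hnonneg).mp hzero
  intro g hg
  have := hall g (Finset.mem_univ g)
  rw [if_neg hg] at this
  have h2 : ((p * v g : ℕ) : ℤ) = n := by push_cast; linarith
  rw [← hn]
  have h3 : p * v g = n := by exact_mod_cast h2
  rw [hv] at h3
  exact h3

end Cfsg.Agent.Lib.helper3.PDeg
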