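import Mathlib
import Cfsg.Agent.Lib.helper3.PDeg2

set_option autoImplicit false
set_option linter.style.haveILetI false
set_option linter.unusedSectionVars false

/-!
# The centre has index `p ^ 3` (end of the proof of Isaacs 12.11)
-/

namespace Cfsg.Agent.Lib.helper3.PDeg

open scoped IsMulCommutative

variable {P : Type*} [Group P] (Z : Subgroup P) [hZn : Z.Normal] [hZc : IsMulCommutative Z]

theorem eq_zpowers_of_card_prime {A : Type*} [Group A] (B : Subgroup A) (p : ℕ) [hp : Fact p.Prime]
    (hB : Nat.card B = p) {c : A} (hc : c ∈ B) (hc1 : c ≠ 1) : B = Subgroup.zpowers c := by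
  haveI : Finite B := Nat.finite_of_card_ne_zero (by rw [hB]; exact hp.out.ne_zero)
  symm
  apply Subgroup.eq_of_le_of_card_ge ((Subgroup.zpowers_le).mpr hc)
  rw [Nat.card_zpowers, hB]
  have hdvd : orderOf c ∣ p := by
    rw [← hB]
    exact Subgroup.orderOf_dvd_natCard B hc
  rcases (Nat.dvd_prime hp.out).mp hdvd with h | h
  · exact absurd (orderOf_eq_one_iff.mp h) hc1
  · exact h.ge

theorem center_index [Finite P] (p : ℕ) [hp : Fact p.Prime] (hP : IsPGroup p P)
    (hidx : Z.index = p ^ 2) (hexp : ∀ g : P, g ^ p ∈ Z)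
    (H1 : ∀ g : P, g ∉ Z → ∃ z : Z, g * z ≠ z * g)
    (H2 : ∀ lam : Z →* ℂˣ, ∃ g : P, g ∉ Z ∧ Inv Z g lam) :
    (Subgroup.center P).index = p ^ 3 := by
  classical
  obtain ⟨f, hnf, hF1, hF2⟩ := counting Z p hP hidx hexp H1 H2
  obtain ⟨n, hn⟩ : ∃ n, n = Nat.card Z := ⟨_, rfl⟩
  rw [← hn] at hnf hF1
  have hn0 : 0 < n := hn ▸ Nat.card_pos
  have hf0 : 0 < f := by
    rcases Nat.eq_zero_or_pos f with h | h
    · rw [h, mul_zero] at hnf; omega
    · exact h
  have hPcard : Nat.card P = p ^ 2 * n := by rw [hn, ← hidx, Subgroup.index_mul_card]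
  -- the commutator groups have order `p`
  have hb : ∀ g : P, g ∉ Z → Nat.card (commHom Z g).range = p := by
    intro g hg
    have h1 := card_invSub Z g
    have h2 := hF1 g hg
    rw [← hn] at h1
    have hvpos : 0 < Nat.card (invSub Z g) := Nat.card_pos
    have : Nat.card (invSub Z g) * Nat.card (commHom Z g).range = Nat.card (invSub Z g) * p := by
      rw [h1, ← h2]; ring
    exact Nat.eq_of_mul_eq_mul_left hvpos this
  have hker : ∀ g : P, g ∉ Z → p * Nat.card (commHom Z g).ker = n := by
    intro g hg
    have := card_range_mul_card_ker Z g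
    rw [hb g hg, ← hn] at this
    exact this
  -- the key comparison
  have hL : ∀ x y : P, x ∉ Z → y ∉ adj Z x → (commHom Z y).ker ≤ (commHom Z x).ker := by
    intro x y hx hy z hzy
    by_contra hzx
    rw [MonoidHom.mem_ker] at hzy hzx
    have hyz : y * z = z * y := (commHom_eq_one_iff Z y z).mp hzy
    have hxy : x * y ∉ adj Z x := by
      intro h
      apply hy
      have : y = x⁻¹ * (x * y) := by group
      rw [this]
      exact (adj Z x).mul_mem ((adj Z x).inv_mem (mem_adj_self Z x)) h
    have hxyZ : x * y ∉ Z := fun h => hxy (le_adj Z x h)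
    have hceq : commHom Z (x * y) z = commHom Z x z := by
      apply Subtype.ext
      rw [commHom_apply, commHom_apply]
      have : y * z * y⁻¹ = z := by rw [hyz]; group
      calc x * y * z * (x * y)⁻¹ * (z : P)⁻¹ = x * (y * z * y⁻¹) * x⁻¹ * (z : P)⁻¹ := by group
        _ = x * z * x⁻¹ * (z : P)⁻¹ := by rw [this]
    have hr1 := eq_zpowers_of_card_prime (commHom Z x).range p (hb x hx)
      (⟨z, rfl⟩ : commHom Z x z ∈ (commHom Z x).range) hzx
    have hr2 := eq_zpowers_of_card_prime (commHom Z (x * y)).range p (hb (x * y) hxyZ)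
      (⟨z, hceq⟩ : commHom Z x z ∈ (commHom Z (x * y)).range) hzx
    have hinv : invSub Z x = invSub Z (x * y) := by
      ext lam
      rw [mem_invSub, mem_invSub, inv_iff_commHom, inv_iff_commHom, hr1, hr2]
    have h1 := hF2 x (x * y) hx hxy
    rw [← hinv, inf_idem] at h1
    have h2 := hF1 x hx
    rw [h1, hnf] at h2
    have : p * f = p * (p * f) := by rw [pow_two, mul_assoc] at h2; exact h2
    have h3 := Nat.eq_of_mul_eq_mul_left hp.out.pos this
    have h4 : 1 * f = p * f := by rw [one_mul]; exact h3
    have := Nat.eq_of_mul_eq_mul_right hf0 h4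
    exact hp.out.one_lt.ne this
  -- a generating pair
  obtain ⟨x, hx⟩ : ∃ x : P, x ∉ Z := by
    by_contra hcon
    push Not at hcon
    have : Z = ⊤ := by rw [eq_top_iff]; intro g _; exact hcon g
    rw [this, Subgroup.index_top] at hidx
    have : 1 < p ^ 2 := Nat.one_lt_pow (by norm_num) hp.out.one_lt
    omega
  have hAidx := index_adj Z p hidx hx (hexp x)
  obtain ⟨y, hy⟩ : ∃ y : P, y ∉ adj Z x := by
    by_contra hcon
    push Not at hcon
    have : adj Z x = ⊤ := by rw [eq_top_iff]; intro g _; exact hcon g
    rw [this, Subgroup.index_top] at hAidx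
    exact hp.out.one_lt.ne hAidx
  have hyZ : y ∉ Z := fun h => hy (le_adj Z x h)
  have hxAy : x ∉ adj Z y := by
    intro h
    have := eq_top_of_mem Z p hidx hx (hexp x) hy (adj Z y) (le_adj Z y) h (mem_adj_self Z y)
    have h2 := index_adj Z p hidx hyZ (hexp y)
    rw [this, Subgroup.index_top] at h2
    exact hp.out.one_lt.ne h2
  have hkeq : (commHom Z x).ker = (commHom Z y).ker :=
    le_antisymm (hL y x hyZ hxAy) (hL x y hx hy)
  -- the centre
  have hcenter : Subgroup.center P = (commHom Z x).ker.map Z.subtype := by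
    ext c
    rw [Subgroup.mem_map]
    constructor
    · intro hc
      rw [Subgroup.mem_center_iff] at hc
      have hcZ : c ∈ Z := by
        by_contra hcZ
        obtain ⟨z, hz⟩ := H1 c hcZ
        exact hz (hc z).symm
      refine ⟨⟨c, hcZ⟩, ?_, rfl⟩
      rw [MonoidHom.mem_ker, commHom_eq_one_iff]
      exact hc x
    · rintro ⟨z, hz, rfl⟩
      have hzx : x * z = z * x := (commHom_eq_one_iff Z x z).mp (MonoidHom.mem_ker.mp hz)
      rw [hkeq] at hz
      have hzy : y * z = z * y := (commHom_eq_one_iff Z y z).mp (MonoidHom.mem_ker.mp hz)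
      have htop := eq_top_of_mem Z p hidx hx (hexp x) hy
        (Subgroup.centralizer {((Z.subtype z : P))}) ?_ ?_ ?_
      · rw [Subgroup.mem_center_iff]
        intro g
        have hg : g ∈ Subgroup.centralizer {((Z.subtype z : P))} := by
          rw [htop]; exact Subgroup.mem_top g
        rw [Subgroup.mem_centralizer_iff] at hg
        exact (hg _ (Set.mem_singleton _)).symm
      · intro g hg
        rw [Subgroup.mem_centralizer_iff]
        intro h hh
        rw [Set.mem_singleton_iff] at hh
        rw [hh]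
        exact setLike_mul_comm z.2 hg
      · rw [Subgroup.mem_centralizer_iff]
        intro h hh
        rw [Set.mem_singleton_iff] at hh
        rw [hh]
        exact hzx.symm
      · rw [Subgroup.mem_centralizer_iff]
        intro h hh
        rw [Set.mem_singleton_iff] at hh
        rw [hh]
        exact hzy.symm
  have hccard : p * Nat.card (Subgroup.center P) = n := by
    rw [hcenter, Subgroup.card_map_of_injective Z.subtype_injective]
    exact hker x hx
  have hmul := Subgroup.index_mul_card (Subgroup.center P)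
  rw [hPcard, ← hccard] at hmul
  have hcpos : 0 < Nat.card (Subgroup.center P) := Nat.card_pos
  have : (Subgroup.center P).index * Nat.card (Subgroup.center P)
      = p ^ 3 * Nat.card (Subgroup.center P) := by
    rw [hmul]; ring
  exact Nat.eq_of_mul_eq_mul_right hcpos this

end Cfsg.Agent.Lib.helper3.PDeg
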