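import Mathlib
import Cfsg.Prelude.Def_Characters
import Cfsg.Agent.Lib.helper3.PDeg3
import Cfsg.Agent.Lib.helper3.PDeg5
import Cfsg.Agent.Lib.helper3.CliffCorr
import Cfsg.Agent.Lib.helper3.TwoDeg1
import Cfsg.Agent.Lib.helper3.TransferChar
import Cfsg.Agent.Lib.helper3.Irr10

set_option autoImplicit false
set_option linter.style.haveILetI false
set_option linter.unusedSectionVars false

/-!
# `p`-groups with character degrees `1` and `p` (Isaacs 12.11 for `p`-groups)
-/

namespace Cfsg.Agent.Lib.helper3.PDeg

open Cfsg Module Cfsg.Agent.Lib.helper3.IndFun Cfsg.Agent.Lib.helper3.CharBasic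
open Cfsg.Agent.Lib.helper3.Irr Cfsg.Agent.Lib.helper3.Central Cfsg.Agent.Lib.helper3.Lin
open Cfsg.Agent.Lib.helper3.TwoDeg
open scoped ComplexConjugate
open scoped IsMulCommutative

universe u

theorem pgroup_degrees {P : Type u} [Group P] [Finite P] (p : ℕ) [hp : Fact p.Prime]
    (hP : IsPGroup p P)
    (hcd : ∀ χ : IrrCharacter P, (χ : P → ℂ) 1 = 1 ∨ (χ : P → ℂ) 1 = p) :
    (∀ a b : P, a * b = b * a) ∨
      (∃ A : Subgroup P, A.Normal ∧ (∀ a ∈ A, ∀ b ∈ A, a * b = b * a) ∧ A.index = p) ∨
      (Subgroup.center P).index = p ^ 3 := by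
  classical
  letI : Fintype P := Fintype.ofFinite P
  by_cases hnl : ∃ χ : IrrCharacter P, (χ : P → ℂ) 1 = p
  swap
  · left
    push Not at hnl
    apply comm_of_all_linear
    intro ψ
    rcases hcd ψ with h | h
    · exact h
    · exact absurd h (hnl ψ)
  right
  obtain ⟨Z, χ₀, hZn, hχ₀, hidx, hexp, hvan, hnorm⟩ := exists_fully_ramified p hP hcd hnl
  haveI := hZn
  have hZab := abelian_of_fully_ramified p hcd Z χ₀ hχ₀ hidx hvan hnorm
  haveI hZc : IsMulCommutative Z := ⟨⟨fun a b => Subtype.ext (hZab a a.2 b b.2)⟩⟩
  by_cases hcent : ∃ g : P, g ∉ Z ∧ ∀ z : Z, g * z = z * g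
  · left
    obtain ⟨g, hgZ, hg⟩ := hcent
    have hAidx := index_adj Z p hidx hgZ (hexp g)
    refine ⟨adj Z g, ?_, ?_, hAidx⟩
    · apply Subgroup.normal_of_index_eq_minFac_card
      rw [hAidx]
      obtain ⟨k, hk⟩ := (IsPGroup.iff_card).mp hP
      have hk0 : k ≠ 0 := by
        rintro rfl
        rw [pow_zero] at hk
        have := Subgroup.index_dvd_card Z
        rw [hk, hidx, Nat.dvd_one] at this
        have h2 : 1 < p ^ 2 := Nat.one_lt_pow (by norm_num) hp.out.one_lt
        omega
      rw [hk, hp.out.pow_minFac hk0]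
    · have hcl : adj Z g = Subgroup.closure ((Z : Set P) ∪ {g}) := by
        rw [Subgroup.closure_union, Subgroup.closure_eq, ← Subgroup.zpowers_eq_closure]
        rfl
      have hcomm : ∀ x ∈ ((Z : Set P) ∪ {g}), ∀ y ∈ ((Z : Set P) ∪ {g}), x * y = y * x := by
        intro x hx y hy
        rcases hx with hx | hx <;> rcases hy with hy | hy
        · exact hZab x hx y hy
        · rw [Set.mem_singleton_iff] at hy
          rw [hy]
          exact (hg ⟨x, hx⟩).symm
        · rw [Set.mem_singleton_iff] at hx
          rw [hx]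
          exact hg ⟨y, hy⟩
        · rw [Set.mem_singleton_iff] at hx hy
          rw [hx, hy]
      have := Subgroup.isMulCommutative_closure hcomm
      rw [← hcl] at this
      intro a ha b hb
      exact setLike_mul_comm ha hb
  · right
    push Not at hcent
    apply center_index Z p hP hidx hexp
    · intro g hg
      exact hcent g hg
    · intro lam
      by_contra hno
      push Not at hno
      letI : Fintype Z := Fintype.ofFinite Z
      obtain ⟨θ, hθdef⟩ : ∃ θ : Z → ℂ, θ = fun z => ((lam z : ℂˣ) : ℂ) := ⟨_, rfl⟩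
      have hθlin : IsLin Z θ := by
        rw [hθdef]
        exact ⟨isCharacter_of_hom lam, by simp⟩
      have hθ : IsIrrCharacter Z θ := hθlin.isIrr
      have hT : ∀ g : P, g ∈ Z ↔ ∀ h : Z, θ ⟨g * h * g⁻¹, hZn.conj_mem h h.2 g⟩ = θ h := by
        intro g
        constructor
        · intro hg h
          have := inv_of_mem Z hg lam h
          rw [hθdef]
          simp only
          have h2 : (MulAut.conjNormal g h : Z) = ⟨g * h * g⁻¹, hZn.conj_mem h h.2 g⟩ := by
            apply Subtype.ext
            rw [MulAut.conjNormal_apply]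
          rw [← h2, this]
        · intro hinv
          by_contra hg
          apply hno g hg
          intro h
          have h2 : (MulAut.conjNormal g h : Z) = ⟨g * h * g⁻¹, hZn.conj_mem h h.2 g⟩ := by
            apply Subtype.ext
            rw [MulAut.conjNormal_apply]
          have := hinv h
          rw [hθdef] at this
          simp only at this
          rw [h2]
          exact Units.ext this
      letI : Fintype (Z.subgroupOf Z) := Fintype.ofFinite _
      have hsub : subFun Z Z θ = fun h : Z.subgroupOf Z => θ h := rfl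
      have hc : classInner (indFun (Z.subgroupOf Z) (subFun Z Z θ)) θ ≠ 0 := by
        rw [frobenius_reciprocity (Z.subgroupOf Z) (subFun Z Z θ) θ
          (isClassFunction_of_isCharacter hθlin.1), ← hsub, classInner_subFun le_rfl,
          irr_classInner_self hθ]
        exact one_ne_zero
      have hirr := (clifford_corr_injective Z Z θ hθ hT le_rfl θ θ hθ hθ hc hc).1
      have hdeg : indFun Z θ 1 = (p : ℂ) ^ 2 := by
        rw [indFun_apply_one, hidx, hθlin.2]
        push_cast
        ring
      rcases hcd ⟨_, hirr⟩ with h | h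
      · simp only at h
        rw [hdeg] at h
        have : p ^ 2 = 1 := by exact_mod_cast h
        have h2 : 1 < p ^ 2 := Nat.one_lt_pow (by norm_num) hp.out.one_lt
        omega
      · simp only at h
        rw [hdeg] at h
        have : p ^ 2 = p := by exact_mod_cast h
        have h2 : p < p ^ 2 := by
          calc p = p ^ 1 := (pow_one p).symm
            _ < p ^ 2 := Nat.pow_lt_pow_right hp.out.one_lt (by norm_num)
        omega

end Cfsg.Agent.Lib.helper3.PDeg
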