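import Mathlib
import Cfsg.Prelude.Def_Characters
import Cfsg.Agent.Lib.helper3.PDeg6
import Cfsg.Agent.Lib.helper3.Ito
import Cfsg.Agent.Lib.helper3.ScalarIndex
import Cfsg.Agent.Lib.helper3.BurnsideZero

set_option autoImplicit false
set_option linter.style.haveILetI false
set_option linter.unusedSectionVars false

/-!
# Groups with character degrees `1` and `p` (Isaacs 12.11)
-/

namespace Cfsg.Agent.Lib.helper3.PDeg

open Cfsg Module Cfsg.Agent.Lib.helper3.IndFun Cfsg.Agent.Lib.helper3.CharBasic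
open Cfsg.Agent.Lib.helper3.Irr Cfsg.Agent.Lib.helper3.Central Cfsg.Agent.Lib.helper3.Lin
open Cfsg.Agent.Lib.helper3.TwoDeg Cfsg.Agent.Lib.helper3.Cyclo
open scoped ComplexConjugate

universe u

variable {G : Type u} [Group G] [Finite G]

theorem exists_degree_of_nonabelian (hG : ∃ a b : G, a * b ≠ b * a) (p : ℕ)
    (hcd : ∀ χ : IrrCharacter G, (χ : G → ℂ) 1 = 1 ∨ (χ : G → ℂ) 1 = p) :
    ∃ χ : IrrCharacter G, (χ : G → ℂ) 1 = p := by
  classical
  letI : Fintype G := Fintype.ofFinite G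
  by_contra hno
  push Not at hno
  obtain ⟨a, b, hab⟩ := hG
  apply hab
  apply comm_of_all_linear
  intro ψ
  rcases hcd ψ with h | h
  · exact h
  · exact absurd h (hno ψ)

theorem degrees_of_abelian_index (p : ℕ) (hp : p.Prime) (A : Subgroup G) [hAn : A.Normal]
    (hA : ∀ a ∈ A, ∀ b ∈ A, a * b = b * a) (hidx : A.index = p) :
    ∀ χ : IrrCharacter G, (χ : G → ℂ) 1 = 1 ∨ (χ : G → ℂ) 1 = p := by
  classical
  letI : Fintype G := Fintype.ofFinite G
  intro χ
  obtain ⟨d, ρ, hirr, hρ⟩ := χ.2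
  haveI := hirr
  have hdvd := ito ρ A hA
  rw [hidx] at hdvd
  have h1 : (χ : G → ℂ) 1 = (finrank ℂ (Fin d → ℂ) : ℂ) := by
    rw [← hρ]; exact Representation.char_one ρ
  rw [h1]
  rcases (Nat.dvd_prime hp).mp hdvd with h | h
  · left; rw [h, Nat.cast_one]
  · right; rw [h]

theorem degrees_of_center_index (p : ℕ) (hp : p.Prime)
    (hidx : (Subgroup.center G).index = p ^ 3) :
    ∀ χ : IrrCharacter G, (χ : G → ℂ) 1 = 1 ∨ (χ : G → ℂ) 1 = p := by
  classical
  letI : Fintype G := Fintype.ofFinite G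
  intro χ
  obtain ⟨d, ρ, hirr, hρ⟩ := id χ.2
  haveI := hirr
  have hsc : ∀ a ∈ Subgroup.center G, ∃ c : ℂ, ρ a = c • LinearMap.id :=
    fun a ha => exists_scalar_of_central ρ a ha
  have hdvd := finrank_dvd_index_of_scalar ρ (Subgroup.center G) hsc
  rw [hidx] at hdvd
  have h1 : (χ : G → ℂ) 1 = (finrank ℂ (Fin d → ℂ) : ℂ) := by
    rw [← hρ]; exact Representation.char_one ρ
  obtain ⟨k, hk, hfk⟩ := (Nat.dvd_prime_pow hp).mp hdvd
  -- the square of the degree is at most the index of the centre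
  have hsq : (finrank ℂ (Fin d → ℂ)) ^ 2 ≤ p ^ 3 := by
    have hsum := sum_norm_sq_of_irr χ.2
    have hle : ∑ g ∈ Finset.univ.filter (fun g : G => g ∈ Subgroup.center G),
        ‖(χ : G → ℂ) g‖ ^ 2 ≤ ∑ g : G, ‖(χ : G → ℂ) g‖ ^ 2 := by
      apply Finset.sum_le_sum_of_subset_of_nonneg (Finset.filter_subset _ _)
      intro g _ _
      positivity
    have hval : ∀ g ∈ Finset.univ.filter (fun g : G => g ∈ Subgroup.center G),
        ‖(χ : G → ℂ) g‖ ^ 2 = ((finrank ℂ (Fin d → ℂ) : ℕ) : ℝ) ^ 2 := by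
      intro g hg
      have hgc := (Finset.mem_filter.mp hg).2
      have : ‖ρ.character g‖ = (finrank ℂ (Fin d → ℂ) : ℝ) := by
        rw [norm_character_eq_finrank_iff]
        exact hsc g hgc
      rw [← hρ, this]
    rw [Finset.sum_congr rfl hval, Finset.sum_const, hsum, nsmul_eq_mul] at hle
    have hcardc : (Finset.univ.filter (fun g : G => g ∈ Subgroup.center G)).card
        = Nat.card (Subgroup.center G) := by
      rw [Nat.card_eq_fintype_card, Fintype.card_subtype]
    rw [hcardc] at hle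
    have hmul := Subgroup.index_mul_card (Subgroup.center G)
    rw [hidx] at hmul
    have hle' : Nat.card (Subgroup.center G) * (finrank ℂ (Fin d → ℂ)) ^ 2
        ≤ Nat.card (Subgroup.center G) * p ^ 3 := by
      have : ((Nat.card (Subgroup.center G) * (finrank ℂ (Fin d → ℂ)) ^ 2 : ℕ) : ℝ)
          ≤ ((Nat.card G : ℕ) : ℝ) := by
        push_cast
        exact hle
      have h2 : Nat.card (Subgroup.center G) * (finrank ℂ (Fin d → ℂ)) ^ 2 ≤ Nat.card G := by
        exact_mod_cast this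
      rw [← hmul, mul_comm (p ^ 3)] at h2
      exact h2
    exact Nat.le_of_mul_le_mul_left hle' Nat.card_pos
  have hk1 : k ≤ 1 := by
    rw [hfk, ← pow_mul] at hsq
    have := (Nat.pow_le_pow_iff_right hp.one_lt).mp hsq
    omega
  rw [h1, hfk]
  interval_cases k
  · left; simp
  · right; simp

end Cfsg.Agent.Lib.helper3.PDeg
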