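import Mathlib
import Cfsg.Prelude.Def_Characters
import Cfsg.Agent.Lib.helper3.PDeg7

set_option autoImplicit false
set_option linter.style.haveILetI false
set_option linter.unusedSectionVars false

/-!
# Groups with character degrees `1` and `p`: the structure (Isaacs 12.11)
-/

namespace Cfsg.Agent.Lib.helper3.PDeg

open Cfsg Module Cfsg.Agent.Lib.helper3.IndFun Cfsg.Agent.Lib.helper3.CharBasic
open Cfsg.Agent.Lib.helper3.Irr Cfsg.Agent.Lib.helper3.Central Cfsg.Agent.Lib.helper3.Lin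
open Cfsg.Agent.Lib.helper3.TwoDeg
open scoped ComplexConjugate

universe u

variable {G : Type u} [Group G] [Finite G]

theorem structure_of_degrees (hG : ∃ a b : G, a * b ≠ b * a) (p : ℕ) (hp : p.Prime)
    (hcd : ∀ χ : IrrCharacter G, (χ : G → ℂ) 1 = 1 ∨ (χ : G → ℂ) 1 = p)
    (hex : ∃ χ : IrrCharacter G, (χ : G → ℂ) 1 = p) :
    (∃ A : Subgroup G, A.Normal ∧ (∀ a ∈ A, ∀ b ∈ A, a * b = b * a) ∧ A.index = p) ∨
      (Subgroup.center G).index = p ^ 3 := by
  classical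
  haveI : Fact p.Prime := ⟨hp⟩
  rcases two_degrees_structure p hcd hex hp.ne_one with
    h | ⟨q, e, hq, hpe, Pq, A₀, hPn, hAn, hPq, hAab, hinf, hsup⟩
  · exact Or.inl h
  obtain ⟨hqp, -⟩ := (Nat.Prime.pow_eq_iff hp).mp hpe.symm
  rw [hqp] at hPq
  haveI := hPn
  haveI := hAn
  have hdec : ∀ x : G, ∃ u ∈ Pq, ∃ a ∈ A₀, x = u * a := by
    intro x
    have hx : x ∈ Pq ⊔ A₀ := by rw [hsup]; exact Subgroup.mem_top x
    rw [← SetLike.mem_coe, Subgroup.mul_normal Pq A₀] at hx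
    obtain ⟨u, hu, a, ha, rfl⟩ := Set.mem_mul.mp hx
    exact ⟨u, hu, a, ha, rfl⟩
  have hQP : ∀ x y : G ⧸ Pq, x * y = y * x := by
    intro x y
    obtain ⟨x, rfl⟩ := QuotientGroup.mk_surjective x
    obtain ⟨y, rfl⟩ := QuotientGroup.mk_surjective y
    obtain ⟨u, hu, a, ha, rfl⟩ := hdec x
    obtain ⟨v, hv, b, hb, rfl⟩ := hdec y
    have e1 : ((u * a : G) : G ⧸ Pq) = (a : G ⧸ Pq) := by
      rw [QuotientGroup.mk_mul, (QuotientGroup.eq_one_iff u).mpr hu, one_mul]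
    have e2 : ((v * b : G) : G ⧸ Pq) = (b : G ⧸ Pq) := by
      rw [QuotientGroup.mk_mul, (QuotientGroup.eq_one_iff v).mpr hv, one_mul]
    rw [e1, e2, ← QuotientGroup.mk_mul, ← QuotientGroup.mk_mul, hAab a ha b hb]
  have hcomP : ∀ x y : G, x * y * x⁻¹ * y⁻¹ ∈ Pq := by
    intro x y
    apply (QuotientGroup.eq_one_iff _).mp
    rw [QuotientGroup.mk_mul, QuotientGroup.mk_mul, QuotientGroup.mk_mul, QuotientGroup.mk_inv,
      QuotientGroup.mk_inv, hQP (x : G ⧸ Pq) y]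
    group
  have hkey : ∀ x y : G, (x : G ⧸ A₀) * (y : G ⧸ A₀) = (y : G ⧸ A₀) * (x : G ⧸ A₀) →
      x * y = y * x := by
    intro x y h
    have h1 : x * y * x⁻¹ * y⁻¹ ∈ A₀ := by
      apply (QuotientGroup.eq_one_iff _).mp
      rw [QuotientGroup.mk_mul, QuotientGroup.mk_mul, QuotientGroup.mk_mul, QuotientGroup.mk_inv,
        QuotientGroup.mk_inv, h]
      group
    have h2 : x * y * x⁻¹ * y⁻¹ ∈ Pq ⊓ A₀ := ⟨hcomP x y, h1⟩
    rw [hinf, Subgroup.mem_bot] at h2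
    calc x * y = (x * y * x⁻¹ * y⁻¹) * (y * x) := by group
      _ = y * x := by rw [h2, one_mul]
  have hQp : IsPGroup p (G ⧸ A₀) := by
    intro q'
    obtain ⟨x, rfl⟩ := QuotientGroup.mk_surjective q'
    obtain ⟨u, hu, a, ha, rfl⟩ := hdec x
    obtain ⟨k, hk⟩ := hPq ⟨u, hu⟩
    refine ⟨k, ?_⟩
    have e1 : ((u * a : G) : G ⧸ A₀) = (u : G ⧸ A₀) := by
      rw [QuotientGroup.mk_mul, (QuotientGroup.eq_one_iff a).mpr ha, mul_one]
    rw [e1, ← QuotientGroup.mk_pow]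
    have : u ^ p ^ k = 1 := by
      have := congrArg Subtype.val hk
      simpa using this
    rw [this, QuotientGroup.mk_one]
  have hcdQ : ∀ ψ : IrrCharacter (G ⧸ A₀),
      (ψ : G ⧸ A₀ → ℂ) 1 = 1 ∨ (ψ : G ⧸ A₀ → ℂ) 1 = p := by
    intro ψ
    have := hcd ⟨inflate A₀ ψ, isIrrCharacter_inflate A₀ ψ.2⟩
    simp only at this
    rw [inflate_apply, QuotientGroup.mk_one] at this
    exact this
  rcases pgroup_degrees p hQp hcdQ with h | ⟨B, hBn, hBab, hBidx⟩ | h
  · exfalso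
    obtain ⟨a, b, hab⟩ := hG
    exact hab (hkey a b (h _ _))
  · left
    haveI := hBn
    refine ⟨B.comap (QuotientGroup.mk' A₀), inferInstance, ?_, ?_⟩
    · intro a ha b hb
      exact hkey a b (hBab _ ha _ hb)
    · rw [Subgroup.index_comap_of_surjective _ (QuotientGroup.mk'_surjective A₀), hBidx]
  · right
    have hc : Subgroup.center G
        = (Subgroup.center (G ⧸ A₀)).comap (QuotientGroup.mk' A₀) := by
      ext x
      rw [Subgroup.mem_comap, Subgroup.mem_center_iff, Subgroup.mem_center_iff]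
      constructor
      · intro hx q'
        obtain ⟨y, rfl⟩ := QuotientGroup.mk_surjective q'
        show (y : G ⧸ A₀) * (x : G ⧸ A₀) = (x : G ⧸ A₀) * (y : G ⧸ A₀)
        rw [← QuotientGroup.mk_mul, ← QuotientGroup.mk_mul, hx y]
      · intro hx y
        exact hkey y x (hx (y : G ⧸ A₀))
    rw [hc, Subgroup.index_comap_of_surjective _ (QuotientGroup.mk'_surjective A₀), h]

end Cfsg.Agent.Lib.helper3.PDeg
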