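import Mathlib
import Cfsg.Prelude.Def_Characters
import Cfsg.Prelude.Def_Blocks
import Cfsg.Prelude.Def_Transfer
import Cfsg.Agent.Lib.helper3.PKer2
import Cfsg.Agent.Lib.helper3.BlockBasic
import Cfsg.Agent.Lib.helper3.Irr10

/-!
# The kernel of the characters of `p'`-degree, III

`not_mem_kerP_of_mem_centralizer` : a nonidentity `p'`-element centralizing a Sylow `p`-subgroup is
not in the kernel of all irreducible characters of `p'`-degree.
-/

set_option autoImplicit false
set_option linter.style.haveILetI false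
set_option linter.unusedSectionVars false

namespace Cfsg.Agent.Lib.helper3.PKer

open Cfsg Module Cfsg.Agent.Lib.helper3.Irr Cfsg.Agent.Lib.helper3.CharBasic
open Cfsg.Agent.Lib.helper3.IndFun Cfsg.Agent.Lib.helper3.Lin Cfsg.Agent.Lib.helper3.UniqueP
open Cfsg.Agent.Lib.helper3.Pdeg Cfsg.Agent.Lib.helper3.Block
open scoped ComplexConjugate commutatorElement

variable {G : Type*} [Group G]

/-- **Lemma B**: a nonidentity element of order prime to `p` centralizing a Sylow `p`-subgroup is
not in the kernel of every irreducible character of `p'`-degree. -/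
theorem not_mem_kerP_of_mem_centralizer [Finite G] (p : ℕ) [hp : Fact p.Prime] (P : Sylow p G)
    (x : G) (hxC : x ∈ Subgroup.centralizer ((P : Subgroup G) : Set G)) (hx1 : x ≠ 1)
    (hxp : ¬ p ∣ orderOf x) : x ∉ kerP p G := by
  classical
  letI : Fintype G := Fintype.ofFinite G
  letI : Fintype (P : Subgroup G) := Fintype.ofFinite _
  intro hxK
  -- the permutation character on the cosets of `P`
  have hπ := isCharacter_indFun (P : Subgroup G) (fun _ => (1 : ℂ)) isCharacter_one
  have hπ1 : indFun (P : Subgroup G) (fun _ => (1 : ℂ)) 1 = ((P : Subgroup G).index : ℂ) := by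
    rw [indFun_apply_one, mul_one]
  have hπx : indFun (P : Subgroup G) (fun _ => (1 : ℂ)) x = 0 := by
    rw [indFun_apply]
    have : ∀ y : G, extendByZero (P : Subgroup G) (fun _ => (1 : ℂ)) (y⁻¹ * x * y) = 0 := by
      intro y
      apply extendByZero_not_mem
      intro hmem
      obtain ⟨j, hj⟩ := P.isPGroup' ⟨y⁻¹ * x * y, hmem⟩
      have hj' : (y⁻¹ * x * y) ^ p ^ j = 1 := by
        have := congrArg Subtype.val hj
        simpa using this
      have hconj : y⁻¹ * x * y = MulAut.conj y⁻¹ x := by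
        rw [MulAut.conj_apply, inv_inv]
      have hord : orderOf (y⁻¹ * x * y) = orderOf x := by
        rw [hconj]
        exact MulEquiv.orderOf_eq (MulAut.conj y⁻¹) x
      have h1 : orderOf x ∣ p ^ j := by
        rw [← hord]
        exact orderOf_dvd_of_pow_eq_one hj'
      obtain ⟨i, -, hi⟩ := (Nat.dvd_prime_pow hp.out).1 h1
      have hi0 : i = 0 := by
        by_contra hi0
        apply hxp
        rw [hi]
        exact dvd_pow_self p hi0
      rw [hi0, pow_zero] at hi
      exact hx1 (orderOf_eq_one_iff.1 hi)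
    simp only [this, Finset.sum_const_zero, mul_zero]
  have hdec := isCharacter_eq_sum_classInner hπ
  choose a ha using fun χ : IrrCharacter G => exists_nat_classInner_of_isCharacter hπ χ
  choose deg hdeg using fun χ : IrrCharacter G =>
    Cfsg.Agent.Lib.helper3.Central.irr_degree_dvd_card χ.2
  have h1 := congrFun hdec 1
  have h2 := congrFun hdec x
  simp only [Finset.sum_apply, Pi.smul_apply, smul_eq_mul] at h1 h2
  rw [hπ1] at h1
  rw [hπx] at h2
  -- the class size of `x`
  set K : ℕ := (Subgroup.centralizer ({x} : Set G)).index with hK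
  have hKdvd : K ∣ (P : Subgroup G).index := by
    apply Subgroup.index_dvd_of_le
    intro u hu
    rw [Subgroup.mem_centralizer_iff]
    intro y hy
    rw [Set.mem_singleton_iff] at hy
    rw [hy]
    exact (Subgroup.mem_centralizer_iff.1 hxC u hu).symm
  -- the algebraic integer `β`
  let β : ℂ := ∑ χ : IrrCharacter G, (a χ : ℂ) *
    (if p ∣ deg χ then ((deg χ / p : ℕ) : ℂ) * ((K : ℂ) - centralChar (χ : G → ℂ) x) else 0)
  have hnat : ∀ n : ℕ, IsIntegral ℤ (n : ℂ) := by
    intro n
    have := isIntegral_algebraMap (R := ℤ) (A := ℂ) (x := (n : ℤ))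
    simpa using this
  have hβint : IsIntegral ℤ β := by
    apply IsIntegral.sum
    intro χ _
    apply IsIntegral.mul (hnat (a χ))
    split_ifs with hpd
    · apply IsIntegral.mul
      · exact hnat (deg χ / p)
      · apply IsIntegral.sub
        · exact hnat K
        · exact isIntegral_centralChar χ.2 x
    · exact isIntegral_zero
  have hmain : ((K * (P : Subgroup G).index : ℕ) : ℂ) = (p : ℂ) * β := by
    push_cast
    rw [h1]
    have h3 : (K : ℂ) * ∑ χ : IrrCharacter G,
        classInner (indFun (P : Subgroup G) fun _ => (1 : ℂ)) (χ : G → ℂ) * (χ : G → ℂ) 1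
        = (K : ℂ) * ∑ χ : IrrCharacter G,
          classInner (indFun (P : Subgroup G) fun _ => (1 : ℂ)) (χ : G → ℂ) * (χ : G → ℂ) 1
          - (K : ℂ) * ∑ χ : IrrCharacter G,
          classInner (indFun (P : Subgroup G) fun _ => (1 : ℂ)) (χ : G → ℂ) * (χ : G → ℂ) x := by
      rw [← h2, mul_zero, sub_zero]
    rw [h3, Finset.mul_sum, Finset.mul_sum, ← Finset.sum_sub_distrib]
    show _ = (p : ℂ) * ∑ χ : IrrCharacter G, (a χ : ℂ) *
      (if p ∣ deg χ then ((deg χ / p : ℕ) : ℂ) * ((K : ℂ) - centralChar (χ : G → ℂ) x) else 0)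
    rw [Finset.mul_sum]
    apply Finset.sum_congr rfl
    intro χ _
    rw [ha χ]
    by_cases hpd : p ∣ deg χ
    · rw [if_pos hpd]
      have hχ1 : (χ : G → ℂ) 1 ≠ 0 := apply_one_ne_zero χ.2
      have hω : centralChar (χ : G → ℂ) x * (χ : G → ℂ) 1 = (K : ℂ) * (χ : G → ℂ) x := by
        unfold centralChar
        rw [div_mul_cancel₀ _ hχ1]
      obtain ⟨t, ht⟩ := hpd
      have hdiv : deg χ / p = t := by
        rw [ht, Nat.mul_div_cancel_left _ hp.out.pos]
      rw [hdiv]
      have hd1 : (χ : G → ℂ) 1 = (p : ℂ) * (t : ℂ) := by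
        rw [(hdeg χ).1, ht]
        push_cast
        rfl
      have hω' : (K : ℂ) * (χ : G → ℂ) x = centralChar (χ : G → ℂ) x * ((p : ℂ) * (t : ℂ)) := by
        rw [← hω, hd1]
      calc (K : ℂ) * ((a χ : ℂ) * (χ : G → ℂ) 1) - (K : ℂ) * ((a χ : ℂ) * (χ : G → ℂ) x)
          = (a χ : ℂ) * ((K : ℂ) * (χ : G → ℂ) 1 - (K : ℂ) * (χ : G → ℂ) x) := by ring
        _ = (a χ : ℂ) * ((K : ℂ) * ((p : ℂ) * (t : ℂ))
            - centralChar (χ : G → ℂ) x * ((p : ℂ) * (t : ℂ))) := by rw [hω', hd1]
        _ = (p : ℂ) * ((a χ : ℂ) * ((t : ℂ) * ((K : ℂ) - centralChar (χ : G → ℂ) x))) := by ring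
    · rw [if_neg hpd]
      have hχdeg : ¬ p ∣ charDegree (χ : G → ℂ) := by
        rw [charDegree_eq' (hdeg χ).1]
        exact hpd
      rw [hxK χ hχdeg]
      ring
  have hdvd : p ∣ K * (P : Subgroup G).index :=
    nat_dvd_of_eq_mul_isIntegral hp.out.ne_zero hβint hmain
  rcases (Nat.Prime.dvd_mul hp.out).1 hdvd with h | h
  · exact P.not_dvd_index (dvd_trans h hKdvd)
  · exact P.not_dvd_index h

end Cfsg.Agent.Lib.helper3.PKer
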