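import Mathlib
import Cfsg.Prelude.Def_Characters
import Cfsg.Prelude.Def_Blocks
import Cfsg.Prelude.Def_Transfer
import Cfsg.Agent.Lib.helper3.PKer3
import Cfsg.Agent.Lib.helper3.Inflate2
import Cfsg.Agent.S0081
import Cfsg.Agent.H1.Frattini

/-!
# The kernel of the characters of `p'`-degree, IV

The intersection of the kernels of the irreducible characters of degree prime to `p` is the normal
core of `N P'`, where `N` is the largest normal subgroup with `C_N(P) = 1`.
-/

set_option autoImplicit false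
set_option linter.style.haveILetI false
set_option linter.unusedSectionVars false

namespace Cfsg.Agent.Lib.helper3.PKer

open Cfsg Module Cfsg.Agent.Lib.helper3.Irr Cfsg.Agent.Lib.helper3.CharBasic
open Cfsg.Agent.Lib.helper3.IndFun Cfsg.Agent.Lib.helper3.Lin Cfsg.Agent.Lib.helper3.UniqueP
open Cfsg.Agent.Lib.helper3.Pdeg
open scoped ComplexConjugate commutatorElement Pointwise

variable {G : Type*} [Group G]

theorem core_le_kerP [Finite G] (p : ℕ) [hp : Fact p.Prime] (P : Sylow p G) (N : Subgroup G)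
    [hNn : N.Normal] (hN : N ⊓ Subgroup.centralizer ((P : Subgroup G) : Set G) = ⊥) :
    (N ⊔ ⁅(P : Subgroup G), (P : Subgroup G)⁆).normalCore ≤ kerP p G := by
  classical
  intro c hc χ hχ
  have hNk := apply_eq_of_inf_centralizer_eq_bot p P N hN χ hχ
  have hχc := isCharacter_of_isIrrCharacter χ.2
  have hconst : ∀ g n : G, n ∈ N → (χ : G → ℂ) (g * n) = (χ : G → ℂ) g :=
    fun g n hn => apply_mul_of_apply_eq_one hχc (hNk n hn) g
  obtain ⟨ψ, hψ, hχψ⟩ := exists_eq_inflate χ.2 N hconst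
  have hsurj := QuotientGroup.mk'_surjective N
  obtain ⟨Pbar, hPbar⟩ : ∃ Pbar : Sylow p (G ⧸ N), Pbar = P.mapSurjective hsurj := ⟨_, rfl⟩
  obtain ⟨X, hXdef⟩ : ∃ X : Subgroup (G ⧸ N),
      X = ((N ⊔ ⁅(P : Subgroup G), (P : Subgroup G)⁆).normalCore).map (QuotientGroup.mk' N) :=
    ⟨_, rfl⟩
  haveI : X.Normal := by
    rw [hXdef]
    exact Subgroup.Normal.map (Subgroup.normalCore_normal _) _ hsurj
  have hX : X ≤ ⁅(Pbar : Subgroup (G ⧸ N)), (Pbar : Subgroup (G ⧸ N))⁆ := by
    have h1 : X ≤ (N ⊔ ⁅(P : Subgroup G), (P : Subgroup G)⁆).map (QuotientGroup.mk' N) := by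
      rw [hXdef]
      exact Subgroup.map_mono (Subgroup.normalCore_le _)
    refine h1.trans ?_
    rw [Subgroup.map_sup, Subgroup.map_commutator, QuotientGroup.map_mk'_self, bot_sup_eq, hPbar]
    exact le_rfl
  have hdeg : ¬ p ∣ charDegree ψ := by
    have h1 : charDegree (inflate N ψ) = charDegree ψ := by
      unfold charDegree
      rw [inflate_apply, QuotientGroup.mk_one]
    rw [← h1, ← hχψ]
    exact hχ
  have hmem : (QuotientGroup.mk' N c) ∈ X := by
    rw [hXdef]
    exact Subgroup.mem_map_of_mem _ hc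
  have h2 := apply_eq_of_le_commutator_sylow p Pbar X hX ⟨ψ, hψ⟩ hdeg _ hmem
  rw [hχψ, inflate_apply, inflate_apply]
  exact h2

theorem kerP_le_sup [Finite G] (p : ℕ) [hp : Fact p.Prime] (P : Sylow p G) (N : Subgroup G)
    [hNn : N.Normal]
    (hmax : ∀ L : Subgroup G, L.Normal →
      L ⊓ Subgroup.centralizer ((P : Subgroup G) : Set G) = ⊥ → L ≤ N) :
    kerP p G ≤ N ⊔ ⁅(P : Subgroup G), (P : Subgroup G)⁆ := by
  classical
  have hKn : (kerP p G).Normal := kerP_normal p
  have hfr : kerP p G ⊓ (P : Subgroup G) ≤ (frattini (P : Subgroup G)).map (P : Subgroup G).subtype := by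
    intro g hg
    have h1 := mem_commutator_of_mem_kerP p P g hg.2 hg.1
    rw [← Subgroup.map_subtype_commutator] at h1
    exact Subgroup.map_mono (Cfsg.Agent.H1.commutator_le_frattini P.isPGroup') h1
  obtain ⟨Q0, L, hLn, hc⟩ := Cfsg.Agent.S0081.result P (kerP p G) hfr
  haveI := hLn
  have hLcard : (Q0 : Subgroup (kerP p G)).index = Nat.card L := hc.index_eq_card
  have hLidx : L.index = Nat.card (Q0 : Subgroup (kerP p G)) := hc.symm.index_eq_card
  have hLcop : ¬ p ∣ Nat.card L := by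
    rw [← hLcard]
    exact Q0.not_dvd_index
  obtain ⟨k, hk⟩ := IsPGroup.iff_card.1 Q0.isPGroup'
  rw [hk] at hLidx
  -- elements of `L` have order prime to `p`
  have hLord : ∀ l : kerP p G, l ∈ L → ¬ p ∣ orderOf (l : G) := by
    intro l hl hdvd
    have h1 : orderOf (l : G) ∣ Nat.card L := by
      have h2 := orderOf_dvd_natCard (⟨l, hl⟩ : L)
      rw [Subgroup.orderOf_mk, ← Subgroup.orderOf_coe] at h2
      exact h2
    exact hLcop (dvd_trans hdvd h1)
  -- `p'`-elements of the kernel lie in `L`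
  have hpel : ∀ y : kerP p G, ¬ p ∣ orderOf (y : G) → y ∈ L := by
    intro y hy
    have h1 : y ^ L.index ∈ L := Subgroup.pow_index_mem L y
    rw [hLidx] at h1
    have h2 : ((y : kerP p G ⧸ L)) ^ p ^ k = 1 := by
      rw [← QuotientGroup.mk_pow]
      exact (QuotientGroup.eq_one_iff _).2 h1
    have h3 : ((y : kerP p G ⧸ L)) ^ orderOf (y : G) = 1 := by
      rw [← QuotientGroup.mk_pow, Subgroup.orderOf_coe, pow_orderOf_eq_one]
      rfl
    have h4 : orderOf (y : kerP p G ⧸ L) ∣ p ^ k := orderOf_dvd_of_pow_eq_one h2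
    have h5 : orderOf (y : kerP p G ⧸ L) ∣ orderOf (y : G) := orderOf_dvd_of_pow_eq_one h3
    have hcop : (orderOf (y : G)).Coprime (p ^ k) :=
      Nat.Coprime.pow_right k ((Nat.Prime.coprime_iff_not_dvd hp.out).2 hy).symm
    have h6 : orderOf (y : kerP p G ⧸ L) = 1 := Nat.eq_one_of_dvd_coprimes hcop h5 h4
    exact (QuotientGroup.eq_one_iff y).1 (orderOf_eq_one_iff.1 h6)
  -- the image of `L` is normal in `G`
  obtain ⟨L', hL'def⟩ : ∃ L' : Subgroup G, L' = L.map (kerP p G).subtype := ⟨_, rfl⟩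
  have hL'n : L'.Normal := by
    constructor
    intro x hx g
    rw [hL'def] at hx ⊢
    obtain ⟨l, hl, rfl⟩ := hx
    have hmemK : g * (l : G) * g⁻¹ ∈ kerP p G := hKn.conj_mem l l.2 g
    refine ⟨⟨_, hmemK⟩, ?_, rfl⟩
    apply hpel
    have hord : orderOf (g * (l : G) * g⁻¹) = orderOf (l : G) := by
      have : g * (l : G) * g⁻¹ = MulAut.conj g (l : G) := by rw [MulAut.conj_apply]
      rw [this]
      exact MulEquiv.orderOf_eq _ _
    show ¬ p ∣ orderOf (g * (l : G) * g⁻¹)
    rw [hord]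
    exact hLord l hl
  have hL'C : L' ⊓ Subgroup.centralizer ((P : Subgroup G) : Set G) = ⊥ := by
    rw [eq_bot_iff]
    intro x hx
    obtain ⟨hxL, hxC⟩ := Subgroup.mem_inf.1 hx
    rw [Subgroup.mem_bot]
    by_contra hx1
    rw [hL'def] at hxL
    obtain ⟨l, hl, rfl⟩ := hxL
    exact not_mem_kerP_of_mem_centralizer p P (l : G) hxC hx1 (hLord l hl) l.2
  have hL'N : L' ≤ N := hmax L' hL'n hL'C
  -- move the Sylow subgroup of the kernel into `P`
  have hQp : IsPGroup p ((Q0 : Subgroup (kerP p G)).map (kerP p G).subtype) :=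
    Q0.isPGroup'.map _
  obtain ⟨R, hR⟩ := hQp.exists_le_sylow
  obtain ⟨h, hh⟩ := MulAction.exists_smul_eq G R P
  have hconjP : ∀ q : kerP p G, q ∈ (Q0 : Subgroup (kerP p G)) →
      h * (q : G) * h⁻¹ ∈ (P : Subgroup G) := by
    intro q hq
    have h1 : (q : G) ∈ (R : Subgroup G) := hR ⟨q, hq, rfl⟩
    have h2 : MulAut.conj h • (q : G) ∈ MulAut.conj h • (R : Subgroup G) :=
      Subgroup.smul_mem_pointwise_smul _ _ _ h1
    rw [← Sylow.coe_subgroup_smul, hh] at h2
    rw [MulAut.smul_def, MulAut.conj_apply] at h2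
    exact h2
  intro g hg
  have hg1 : h⁻¹ * g * h ∈ kerP p G := by
    have := hKn.conj_mem g hg h⁻¹
    rwa [inv_inv] at this
  obtain ⟨⟨l, q⟩, hlq⟩ := hc.2 ⟨h⁻¹ * g * h, hg1⟩
  have hlq' : ((l : kerP p G) : G) * ((q : kerP p G) : G) = h⁻¹ * g * h := by
    have := congrArg Subtype.val hlq
    simpa using this
  have hg2 : g = (h * ((l : kerP p G) : G) * h⁻¹) * (h * ((q : kerP p G) : G) * h⁻¹) := by
    calc g = h * (h⁻¹ * g * h) * h⁻¹ := by group
      _ = h * (((l : kerP p G) : G) * ((q : kerP p G) : G)) * h⁻¹ := by rw [hlq']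
      _ = _ := by group
  rw [hg2]
  apply Subgroup.mul_mem_sup
  · apply hL'N
    apply hL'n.conj_mem
    rw [hL'def]
    exact ⟨l, l.2, rfl⟩
  · exact mem_commutator_of_mem_kerP p P _ (hconjP q q.2) (hKn.conj_mem _ (q : kerP p G).2 h)

/-- The intersection of the kernels of the irreducible characters of `p'`-degree. -/
theorem main [Finite G] (p : ℕ) [hp : Fact p.Prime] (P : Sylow p G) (N : Subgroup G) [hNn : N.Normal]
    (hN : N ⊓ Subgroup.centralizer ((P : Subgroup G) : Set G) = ⊥)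
    (hmax : ∀ L : Subgroup G, L.Normal →
      L ⊓ Subgroup.centralizer ((P : Subgroup G) : Set G) = ⊥ → L ≤ N) :
    {g : G | ∀ χ : IrrCharacter G, ¬ p ∣ charDegree (χ : G → ℂ) →
        (χ : G → ℂ) g = (χ : G → ℂ) 1} =
      ((N ⊔ ⁅(P : Subgroup G), (P : Subgroup G)⁆).normalCore : Set G) := by
  ext g
  constructor
  · intro hg
    haveI : (kerP p G).Normal := kerP_normal p
    exact (Subgroup.normal_le_normalCore.2 (kerP_le_sup p P N hmax)) hg
  · intro hg
    exact core_le_kerP p P N hN hg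

end Cfsg.Agent.Lib.helper3.PKer
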