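import Mathlib
import Cfsg.Prelude.Def_Characters
import Cfsg.Agent.Lib.helper3.Cyclo
import Cfsg.Agent.Lib.Helper4.PRX0

/-!
# S4892, bridge 2: a character invariant under the power maps `x ↦ x ^ k`, `k ≡ 1` modulo the
`p'`-part `m` of the exponent, has its values in `ℚ(ζ_m)`
-/

set_option autoImplicit false
set_option linter.style.haveILetI false
set_option linter.unusedSectionVars false
set_option linter.unusedVariables false
set_option maxHeartbeats 1000000

namespace Cfsg.Agent.Lib.helper3.PRXA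

open Cfsg Cfsg.Agent.Lib.helper3.Cyclo Cfsg.Agent.Lib.Helper4.PRX

theorem rat_of_pr {X : Type*} [Group X] [Finite X] (p : ℕ) [Fact p.Prime] (χ : X → ℂ)
    (hχ : IsCharacter X χ) (b m : ℕ) (hm : ¬ p ∣ m) (hexp : ∀ x : X, x ^ (p ^ b * m) = 1)
    (h : PRn (p ^ b * m) m χ) :
    ∀ x : X, χ x ∈ IntermediateField.adjoin ℚ
      ({Complex.exp (2 * Real.pi * Complex.I / m)} : Set ℂ) := by
  intro x
  have hpp : p.Prime := Fact.out
  have hm0 : m ≠ 0 := by
    rintro rfl
    exact hm (dvd_zero p)
  obtain ⟨n, hn⟩ : ∃ n : ℕ, n = p ^ b * m := ⟨_, rfl⟩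
  have hn0 : n ≠ 0 := by
    rw [hn]
    exact Nat.mul_ne_zero (pow_ne_zero b hpp.ne_zero) hm0
  haveI : NeZero n := ⟨hn0⟩
  rw [← hn] at hexp h
  obtain ⟨d, ρ, rfl⟩ := hχ
  obtain ⟨a, -, ha, hgal⟩ := exists_cyclo_lift n hexp ρ x
  haveI : IsCyclotomicExtension {n} ℚ (CyclotomicField n ℚ) :=
    CyclotomicField.isCyclotomicExtension n ℚ
  haveI : IsGalois ℚ (CyclotomicField n ℚ) :=
    IsCyclotomicExtension.isGalois {n} ℚ (CyclotomicField n ℚ)
  haveI : FiniteDimensional ℚ (CyclotomicField n ℚ) :=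
    IsCyclotomicExtension.finiteDimensional {n} ℚ (CyclotomicField n ℚ)
  -- the primitive `m`-th root
  set ω : CyclotomicField n ℚ := zetaK n ^ (p ^ b) with hω
  have hωprim : IsPrimitiveRoot ω m := (zetaK_spec n).pow (Nat.pos_of_ne_zero hn0) hn
  set F : IntermediateField ℚ (CyclotomicField n ℚ) :=
    IntermediateField.adjoin ℚ ({ω} : Set (CyclotomicField n ℚ)) with hF
  have haF : a ∈ F := by
    rw [← IsGalois.fixedField_fixingSubgroup F, IntermediateField.mem_fixedField_iff]
    intro σ hσ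
    have hσω : σ ω = ω := by
      have := (IntermediateField.mem_fixingSubgroup_iff F σ).mp hσ ω
        (IntermediateField.mem_adjoin_simple_self ℚ ω)
      exact this
    obtain ⟨t, htc, ht⟩ := aut_zeta n σ
    have h1 : ω ^ t = ω := by
      conv_rhs => rw [← hσω]
      rw [hω, map_pow, ht, ← pow_mul, ← pow_mul, mul_comm]
    have hω0 : ω ≠ 0 := hωprim.ne_zero hm0
    have h2 : t ≡ 1 [MOD m] := by
      rcases Nat.eq_zero_or_pos t with h0 | h0
      · rw [h0, pow_zero] at h1
        have : m ∣ 1 := hωprim.dvd_of_pow_eq_one 1 (by rw [pow_one]; exact h1.symm)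
        have hm1 : m = 1 := Nat.dvd_one.mp this
        rw [hm1]
        exact Nat.modEq_one
      · have h3 : ω ^ (t - 1) = 1 := by
          have h4 : ω ^ (t - 1) * ω = 1 * ω := by
            rw [← pow_succ, one_mul]
            have : t - 1 + 1 = t := by omega
            rw [this]
            exact h1
          exact mul_right_cancel₀ hω0 h4
        have h5 : m ∣ t - 1 := hωprim.dvd_of_pow_eq_one _ h3
        exact ((Nat.modEq_iff_dvd' h0).mpr h5).symm
    have h3 := h t htc h2 x
    apply emb_injective n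
    rw [hgal σ t ht, h3, ha]
  -- push forward to `ℂ`
  have h1 : emb n a ∈ F.map (emb n) := (IntermediateField.mem_map F).mpr ⟨a, haF, rfl⟩
  rw [hF, IntermediateField.adjoin_map, Set.image_singleton] at h1
  rw [← ha]
  have hle : IntermediateField.adjoin ℚ ({emb n ω} : Set ℂ)
      ≤ IntermediateField.adjoin ℚ ({Complex.exp (2 * Real.pi * Complex.I / m)} : Set ℂ) := by
    rw [IntermediateField.adjoin_le_iff]
    intro z hz
    rw [Set.mem_singleton_iff] at hz
    subst hz
    haveI : NeZero m := ⟨hm0⟩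
    have hprim := Complex.isPrimitiveRoot_exp m hm0
    have hpow : (emb n ω) ^ m = 1 := by
      rw [← map_pow, hωprim.pow_eq_one, map_one]
    obtain ⟨k, -, hk⟩ := hprim.eq_pow_of_pow_eq_one hpow
    rw [← hk]
    exact pow_mem (IntermediateField.mem_adjoin_simple_self ℚ _) k
  exact hle h1

end Cfsg.Agent.Lib.helper3.PRXA
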