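import Mathlib
import Cfsg.Prelude.Def_Blocks
import Cfsg.Prelude.Def_CharExt
import Cfsg.Agent.Lib.helper3.ADB0
import Cfsg.Agent.Lib.helper3.GlCyc3
import Cfsg.Agent.Lib.helper3.GalExt2
import Cfsg.Agent.Lib.helper3.CExt9
import Cfsg.Agent.Lib.helper3.Irr12
import Cfsg.Agent.Lib.Helper4.PRX0
import Cfsg.Agent.S0867

/-!
# S4892, piece P-C: a `p`-rational invariant character of `p'`-degree in the principal block
extends to the whole group
-/

set_option autoImplicit false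
set_option linter.style.haveILetI false
set_option linter.unusedSectionVars false
set_option linter.unusedVariables false
set_option maxHeartbeats 1000000

namespace Cfsg.Agent.Lib.helper3.PRXC

open Cfsg Cfsg.Agent.Lib.helper3.Irr Cfsg.Agent.Lib.helper3.CharBasic
open Cfsg.Agent.Lib.helper3.SolvExt Cfsg.Agent.Lib.helper3.GlCyc Cfsg.Agent.Lib.helper3.GalExt
open Cfsg.Agent.Lib.Helper4.PRX Cfsg.Agent.Lib.helper3.ADB

universe u

/-- **C1**: a character invariant under the power maps `x ↦ x ^ k` (`k ≡ 1` modulo the `p'`-part)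
has determinantal order prime to `p`, for odd `p`. -/
theorem not_dvd_detOrder {Y : Type*} [Group Y] [Finite Y] {p : ℕ} [hp : Fact p.Prime]
    (hp2 : p ≠ 2) (φ : Y → ℂ) (hφ : IsCharacter Y φ) (b m : ℕ) (hm : ¬ p ∣ m)
    (hY : Nat.card Y ∣ p ^ b * m) (hPR : PRn (p ^ b * m) m φ) : ¬ p ∣ detOrder φ := by
  intro hdvd
  have hpp := hp.out
  have hdc : detOrder φ ∣ Nat.card Y := detOrder_dvd_card hφ
  have hb : b ≠ 0 := by
    rintro rfl
    have : p ∣ p ^ 0 * m := hdvd.trans (hdc.trans hY)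
    rw [pow_zero, one_mul] at this
    exact hm this
  have hco : Nat.Coprime (p ^ b) m :=
    Nat.Coprime.pow_left b ((Nat.Prime.coprime_iff_not_dvd hpp).mpr hm)
  obtain ⟨s, hs2, hs1⟩ := Nat.chineseRemainder hco 2 1
  have hsp : s ≡ 2 [MOD p] := hs2.of_dvd (dvd_pow_self p hb)
  have hcop_p : Nat.Coprime s p := by
    have h := hsp.gcd_eq
    show Nat.gcd s p = 1
    rw [h]
    exact (Nat.coprime_primes Nat.prime_two hpp).mpr (Ne.symm hp2)
  have hcop_m : Nat.Coprime s m := by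
    have h := hs1.gcd_eq
    show Nat.gcd s m = 1
    rw [h]
    exact Nat.gcd_one_left m
  have hcop : Nat.Coprime s (p ^ b * m) :=
    Nat.Coprime.mul_right (Nat.Coprime.pow_right b hcop_p) hcop_m
  have hs0 : 1 ≤ s := by
    rcases Nat.eq_zero_or_pos s with h0 | h0
    · exfalso
      rw [h0] at hcop_p
      have : p = 1 := by simpa using hcop_p
      exact hpp.one_lt.ne' this
    · exact h0
  -- determinant relation
  have hdet : ∀ x : Y, detChar φ x = detChar φ x ^ s :=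
    fun x => detChar_pow_conj hφ hφ s (fun y => (hPR s hcop hs1 y).symm) x
  have hk0 : detOrder φ ≠ 0 := by
    intro h0
    rw [h0] at hdc
    have := Nat.eq_zero_of_zero_dvd hdc
    exact Nat.card_pos.ne' this
  have hne : ∀ x : Y, detChar φ x ≠ 0 := by
    intro x h0
    have h1 := congrFun (pow_orderOf_eq_one (detChar φ)) x
    rw [Pi.pow_apply, Pi.one_apply, h0] at h1
    have : (0 : ℂ) ^ orderOf (detChar φ) = 0 := zero_pow hk0
    rw [this] at h1
    exact zero_ne_one h1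
  have hpow : detChar φ ^ (s - 1) = 1 := by
    funext x
    rw [Pi.pow_apply, Pi.one_apply]
    have h1 := hdet x
    have h2 : detChar φ x ^ s = detChar φ x ^ (s - 1) * detChar φ x := by
      rw [← pow_succ]
      congr 1
      omega
    rw [h2] at h1
    have h3 : detChar φ x ^ (s - 1) * detChar φ x = 1 * detChar φ x := by
      rw [one_mul]; exact h1.symm
    exact mul_right_cancel₀ (hne x) h3
  have hord : detOrder φ ∣ s - 1 := orderOf_dvd_of_pow_eq_one hpow
  have hps : p ∣ s - 1 := hdvd.trans hord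
  have h1s : 1 ≡ s [MOD p] := (Nat.modEq_iff_dvd' hs0).mpr hps
  have h12 : 1 ≡ 2 [MOD p] := h1s.trans hsp
  have : p ∣ 2 - 1 := (Nat.modEq_iff_dvd' (by norm_num)).mp h12
  have hp1 : p ∣ 1 := by simpa using this
  exact hpp.one_lt.ne' (Nat.dvd_one.mp hp1)

variable {G : Type u} [Group G] [Finite G] {p : ℕ} [hp : Fact p.Prime] {M : Ideal AlgInt}

/-- **C2**: extension to `N ⊔ P`, `P` a Sylow `p`-subgroup. -/
theorem exists_ext_sylow (hp2 : p ≠ 2) (N : Subgroup G) [hN : N.Normal] (θ : IrrCharacter ↥N)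
    (hinv : ∀ (g : G) (n : N),
      (θ : ↥N → ℂ) ⟨g * n * g⁻¹, hN.conj_mem n n.2 g⟩ = (θ : ↥N → ℂ) n)
    (d : ℕ) (hd : (θ : ↥N → ℂ) 1 = d) (hpd : ¬ p ∣ d) (b m : ℕ) (hm : ¬ p ∣ m)
    (hcard : Nat.card G = p ^ b * m) (hPR : PRn (p ^ b * m) m (θ : ↥N → ℂ)) :
    ∃ (P : Subgroup G) (hNP : N ≤ P) (η : P → ℂ),
      Nat.Coprime P.index p ∧ IsIrrCharacter P η ∧ ∀ n : N, η ⟨(n : G), hNP n.2⟩ = (θ : ↥N → ℂ) n := by
  classical
  have hpp := hp.out
  obtain ⟨S⟩ : Nonempty (Sylow p G) := inferInstance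
  set X : Subgroup G := N ⊔ (S : Subgroup G) with hX
  have hNX : N ≤ X := le_sup_left
  have hSX : (S : Subgroup G) ≤ X := le_sup_right
  -- the index of `X` is prime to `p`
  have hXidx : Nat.Coprime X.index p := by
    rw [Nat.coprime_comm, Nat.Prime.coprime_iff_not_dvd hpp]
    intro h
    exact S.not_dvd_index (h.trans (Subgroup.index_dvd_of_le hSX))
  -- the index of `N` in `X` is a power of `p`
  have hrel : ∃ c : ℕ, (N.subgroupOf X).index = p ^ c := by
    have h1 : N.relIndex X = N.relIndex (S : Subgroup G) := Subgroup.relIndex_sup_left (K := N) (H := (S : Subgroup G))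
    have h2 : N.relIndex (S : Subgroup G) ∣ Nat.card (S : Subgroup G) := by
      show (N.subgroupOf (S : Subgroup G)).index ∣ _
      exact Subgroup.index_dvd_card _
    obtain ⟨c, hc⟩ := IsPGroup.exists_card_eq S.isPGroup'
    rw [hc] at h2
    obtain ⟨c', -, hc'⟩ := (Nat.dvd_prime_pow hpp).mp h2
    exact ⟨c', by show N.relIndex X = _; rw [h1, hc']⟩
  obtain ⟨c, hc⟩ := hrel
  -- transport `θ`
  let e : ↥(N.subgroupOf X) ≃* ↥N := Subgroup.subgroupOfEquivOfLe hNX
  have he : ∀ k : ↥(N.subgroupOf X), ((e k : N) : G) = ((k : X) : G) := fun k => rfl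
  set ϑ : ↥(N.subgroupOf X) → ℂ := fun k => (θ : ↥N → ℂ) (e k) with hϑdef
  have hϑ : IsIrrCharacter ↥(N.subgroupOf X) ϑ := isIrrCharacter_comp_mulEquiv e θ.2
  have hϑc := isCharacter_of_isIrrCharacter hϑ
  haveI hN' : (N.subgroupOf X).Normal := Subgroup.normal_subgroupOf
  have hinv' : ∀ (g : X) (k : ↥(N.subgroupOf X)),
      ϑ ⟨g * k * g⁻¹, hN'.conj_mem (k : X) k.2 g⟩ = ϑ k := by
    intro g k
    have h1 := hinv (g : G) (e k)
    simp only [hϑdef]
    rw [← h1]
    congr 1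
  have hϑ1 : ϑ 1 = d := by
    simp only [hϑdef, map_one]
    exact hd
  -- the power-map invariance passes to `ϑ`
  have hPR' : PRn (p ^ b * m) m ϑ := by
    intro k hk hk1 x
    simp only [hϑdef, map_pow]
    exact hPR k hk hk1 (e x)
  have hcardN : Nat.card ↥(N.subgroupOf X) ∣ p ^ b * m := by
    rw [← hcard]
    have h1 : Nat.card ↥(N.subgroupOf X) = Nat.card ↥N := Nat.card_congr e.toEquiv
    rw [h1]
    exact Subgroup.card_subgroup_dvd_card N
  have hdet : ¬ p ∣ detOrder ϑ := not_dvd_detOrder hp2 ϑ hϑc b m hm hcardN hPR'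
  have hcop : Nat.Coprime (N.subgroupOf X).index (detOrder ϑ * d) := by
    rw [hc]
    apply Nat.Coprime.pow_left
    rw [Nat.Prime.coprime_iff_not_dvd hpp]
    intro h
    rcases (Nat.Prime.dvd_mul hpp).mp h with h | h
    · exact hdet h
    · exact hpd h
  obtain ⟨χ, ⟨hχ, hχN, -⟩, -⟩ :=
    Cfsg.Agent.S0867.result (N.subgroupOf X) ϑ hϑ hinv' d hϑ1 hcop
  refine ⟨X, hNX, χ, hXidx, hχ, ?_⟩
  intro n
  have h1 := hχN (e.symm n)
  have h2 : ((e.symm n : ↥(N.subgroupOf X)) : X) = ⟨(n : G), hNX n.2⟩ := by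
    apply Subtype.ext
    have := he (e.symm n)
    rw [MulEquiv.apply_symm_apply] at this
    exact this.symm
  rw [h2] at h1
  rw [h1]
  simp only [hϑdef, MulEquiv.apply_symm_apply]

/-- **C3**: extension to the preimage of a Sylow `r`-subgroup of the quotient, `r ≠ p`. -/
theorem exists_ext_prime (N : Subgroup G) [hN : N.Normal] (θ : IrrCharacter ↥N)
    (hθ : θ ∈ principalBlock M ↥N)
    (hext : ∀ (J : Subgroup G) (hNJ : N ≤ J), ¬ p ∣ N.relIndex J → ExtU M N J hNJ)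
    (r : ℕ) (hr : r.Prime) (hrp : r ≠ p) :
    ∃ (P : Subgroup G) (hNP : N ≤ P) (η : P → ℂ),
      Nat.Coprime P.index r ∧ IsIrrCharacter P η ∧ ∀ n : N, η ⟨(n : G), hNP n.2⟩ = (θ : ↥N → ℂ) n := by
  classical
  have hpp := hp.out
  haveI : Fact r.Prime := ⟨hr⟩
  obtain ⟨S⟩ : Nonempty (Sylow r (G ⧸ N)) := inferInstance
  set R : Subgroup G := (S : Subgroup (G ⧸ N)).comap (QuotientGroup.mk' N) with hR
  have hNR : N ≤ R := by
    intro n hn
    rw [hR, Subgroup.mem_comap]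
    have : (QuotientGroup.mk' N) n = 1 := (QuotientGroup.eq_one_iff n).mpr hn
    rw [this]
    exact Subgroup.one_mem _
  have hRidx : R.index = (S : Subgroup (G ⧸ N)).index :=
    Subgroup.index_comap_of_surjective _ (QuotientGroup.mk'_surjective N)
  have hcopr : Nat.Coprime R.index r := by
    rw [hRidx, Nat.coprime_comm, Nat.Prime.coprime_iff_not_dvd hr]
    exact S.not_dvd_index
  -- `|R : N| = |S|`
  have h1 : N.relIndex R * R.index = N.index := Subgroup.relIndex_mul_index hNR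
  have h2 : Nat.card (S : Subgroup (G ⧸ N)) * (S : Subgroup (G ⧸ N)).index = N.index := by
    rw [Subgroup.card_mul_index, Subgroup.index_eq_card]
  have hidx0 : (S : Subgroup (G ⧸ N)).index ≠ 0 := Subgroup.index_ne_zero_of_finite
  have h3 : N.relIndex R = Nat.card (S : Subgroup (G ⧸ N)) := by
    rw [hRidx, ← h2] at h1
    exact Nat.eq_of_mul_eq_mul_right (Nat.pos_of_ne_zero hidx0) h1
  have hgood : ¬ p ∣ N.relIndex R := by
    rw [h3]
    obtain ⟨c, hc⟩ := IsPGroup.exists_card_eq S.isPGroup'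
    rw [hc]
    intro h
    have := hpp.dvd_of_dvd_pow h
    exact hrp ((Nat.prime_dvd_prime_iff_eq hpp hr).mp this).symm
  obtain ⟨ψ, ⟨-, hψN⟩, -⟩ := hext R hNR hgood θ hθ
  exact ⟨R, hNR, (ψ : ↥R → ℂ), hcopr, ψ.2, hψN⟩

/-- **P-C**: `θ` extends to `G`. -/
theorem exists_extension (hp2 : p ≠ 2) (N : Subgroup G) [hN : N.Normal] (θ : IrrCharacter ↥N)
    (hinv : ∀ (g : G) (n : N),
      (θ : ↥N → ℂ) ⟨g * n * g⁻¹, hN.conj_mem n n.2 g⟩ = (θ : ↥N → ℂ) n)
    (d : ℕ) (hd : (θ : ↥N → ℂ) 1 = d) (hpd : ¬ p ∣ d) (b m : ℕ) (hm : ¬ p ∣ m)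
    (hcard : Nat.card G = p ^ b * m) (hPR : PRn (p ^ b * m) m (θ : ↥N → ℂ))
    (hθ : θ ∈ principalBlock M ↥N)
    (hext : ∀ (J : Subgroup G) (hNJ : N ≤ J), ¬ p ∣ N.relIndex J → ExtU M N J hNJ) :
    ∃ ψ : IrrCharacter G, ∀ n : N, (ψ : G → ℂ) n = (θ : ↥N → ℂ) n := by
  classical
  letI : Fintype G := Fintype.ofFinite G
  letI : Fintype N := Fintype.ofFinite N
  obtain ⟨χ, hχ, hχN⟩ := Cfsg.Agent.Lib.helper3.CExt.extends_of_local N (θ : ↥N → ℂ) θ.2 hinv
    (by
      intro r hr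
      by_cases hrp : r = p
      · subst hrp
        exact exists_ext_sylow hp2 N θ hinv d hd hpd b m hm hcard hPR
      · exact exists_ext_prime N θ hθ hext r hr hrp)
  exact ⟨⟨χ, hχ⟩, hχN⟩

end Cfsg.Agent.Lib.helper3.PRXC
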