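import Mathlib
import Cfsg.Prelude.Def_Characters
import Cfsg.Prelude.Def_Blocks
import Cfsg.Agent.Lib.helper3.FongB6
import Cfsg.Agent.Lib.helper3.BlockCover

/-!
# Blocks of principal type over an invariant character of a normal `p'`-subgroup: sums

* the idempotent coefficients of `Irr(G|θ)` for an invariant `θ` of a normal subgroup;
* a Clifford-type average `Σ_{n ∈ N} conj ϑ(n) ξ(n)/ξ(1)` for an invariant `ϑ`.
-/

set_option autoImplicit false
set_option linter.style.haveILetI false
set_option linter.unusedSectionVars false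
set_option linter.unusedVariables false

namespace Cfsg.Agent.Lib.helper3.PType

open Cfsg Cfsg.Agent.Lib.helper3.Irr Cfsg.Agent.Lib.helper3.CharBasic
open Cfsg.Agent.Lib.helper3.IndFun Cfsg.Agent.Lib.helper3.Block Cfsg.Agent.Lib.helper3.FongB
open scoped ComplexConjugate

variable {G : Type*} [Group G] [Fintype G]

/-- The induced function of an invariant function on a normal subgroup. -/
theorem indFun_of_invariant (N : Subgroup G) [hN : N.Normal] [Fintype N] (ϑ : N → ℂ)
    (hinv : ∀ (g : G) (n : N), ϑ ⟨g * n * g⁻¹, hN.conj_mem n n.2 g⟩ = ϑ n) (g : G) :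
    indFun N ϑ g = (N.index : ℂ) * extendByZero N ϑ g := by
  classical
  rw [indFun_apply]
  have h1 : ∀ x : G, extendByZero N ϑ (x⁻¹ * g * x) = extendByZero N ϑ g := by
    intro x
    by_cases hg : g ∈ N
    · have hg' : x⁻¹ * g * x ∈ N := by
        have := hN.conj_mem g hg x⁻¹
        rwa [inv_inv] at this
      rw [extendByZero_mem N ϑ hg', extendByZero_mem N ϑ hg]
      have := hinv x⁻¹ ⟨g, hg⟩
      rw [← this]
      congr 1
      apply Subtype.ext
      simp
    · have hg' : x⁻¹ * g * x ∉ N := by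
        intro h
        apply hg
        have := hN.conj_mem _ h x
        have e : x * (x⁻¹ * g * x) * x⁻¹ = g := by group
        rwa [e] at this
      rw [extendByZero_not_mem N ϑ hg', extendByZero_not_mem N ϑ hg]
  rw [Finset.sum_congr rfl (fun x _ => h1 x), Finset.sum_const, Finset.card_univ, nsmul_eq_mul,
    ← mul_assoc]
  congr 1
  have h2 : (Nat.card N : ℂ) ≠ 0 := by
    have : Nat.card N ≠ 0 := Nat.card_pos.ne'
    exact_mod_cast this
  have h3 : (Fintype.card G : ℂ) = (N.index : ℂ) * (Nat.card N : ℂ) := by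
    rw [← Nat.cast_mul, Subgroup.index_mul_card, Nat.card_eq_fintype_card]
  rw [h3]
  field_simp

/-- The sum defining the idempotent coefficients of `Irr(G|θ)`, for an invariant `θ`. -/
theorem sum_irrOver (N : Subgroup G) [hN : N.Normal] [Fintype N] (θ : IrrCharacter N)
    (hinv : ∀ (g : G) (n : N), (θ : N → ℂ) ⟨g * n * g⁻¹, hN.conj_mem n n.2 g⟩ = (θ : N → ℂ) n)
    (g : G) :
    ∑ᶠ χ ∈ irrOver N (θ : N → ℂ), (χ : G → ℂ) 1 * conj ((χ : G → ℂ) g)
      = (θ : N → ℂ) 1 * conj (indFun N (θ : N → ℂ) g) := by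
  classical
  have hθc := isCharacter_of_isIrrCharacter θ.2
  have hind := isCharacter_indFun N (θ : N → ℂ) hθc
  have hdec := congrFun (isCharacter_eq_sum_classInner hind) g
  rw [Finset.sum_apply] at hdec
  have hfr : ∀ χ : IrrCharacter G, classInner (indFun N (θ : N → ℂ)) (χ : G → ℂ)
      = conj (classInner (fun n : N => (χ : G → ℂ) n) (θ : N → ℂ)) := by
    intro χ
    rw [frobenius_reciprocity N (θ : N → ℂ) (χ : G → ℂ)
      (isClassFunction_of_isCharacter (isCharacter_of_isIrrCharacter χ.2)), classInner_conj_symm]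
  rw [hdec, map_sum, Finset.mul_sum, finsum_mem_eq_finite_toFinset_sum _ (Set.toFinite _)]
  rw [← Finset.sum_subset (Finset.subset_univ _)]
  · apply Finset.sum_congr rfl
    intro χ hχ
    rw [Set.Finite.mem_toFinset] at hχ
    have h1 := restrict_eq_of_invariant N (θ : N → ℂ) θ.2 hinv (χ : G → ℂ) χ.2 hχ 1
    have e1 : ((1 : N) : G) = 1 := rfl
    rw [e1] at h1
    rw [h1, Pi.smul_apply, smul_eq_mul, map_mul, hfr, Complex.conj_conj]
    ring
  · intro χ _ hχ
    rw [Set.Finite.mem_toFinset] at hχ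
    have h0 : classInner (fun n : N => (χ : G → ℂ) n) (θ : N → ℂ) = 0 := by
      by_contra h
      exact hχ h
    rw [Pi.smul_apply, smul_eq_mul, hfr, h0, map_zero, zero_mul, map_zero, mul_zero]

/-- The idempotent coefficients of `Irr(G|θ)`, for an invariant `θ`. -/
theorem blockCoeff_irrOver (N : Subgroup G) [hN : N.Normal] [Fintype N] (θ : IrrCharacter N)
    (hinv : ∀ (g : G) (n : N), (θ : N → ℂ) ⟨g * n * g⁻¹, hN.conj_mem n n.2 g⟩ = (θ : N → ℂ) n)
    (g : G) :
    blockCoeff (irrOver N (θ : N → ℂ)) g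
      = (θ : N → ℂ) 1 / (Nat.card N : ℂ) * conj (extendByZero N (θ : N → ℂ) g) := by
  unfold blockCoeff
  rw [sum_irrOver N θ hinv g, indFun_of_invariant N (θ : N → ℂ) hinv g, map_mul, Complex.conj_natCast]
  have h2 : (Nat.card N : ℂ) ≠ 0 := by
    have : Nat.card N ≠ 0 := Nat.card_pos.ne'
    exact_mod_cast this
  have h3 : (Nat.card G : ℂ) = (N.index : ℂ) * (Nat.card N : ℂ) := by
    rw [← Nat.cast_mul, Subgroup.index_mul_card]
  have h4 : (N.index : ℂ) ≠ 0 := by
    have : N.index ≠ 0 := Subgroup.index_ne_zero_of_finite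
    exact_mod_cast this
  rw [h3]
  field_simp

/-- A Clifford-type average: for an invariant function `ϑ` on the normal subgroup `N` and an
irreducible character `ξ` over `φ ∈ Irr(N)`. -/
theorem sum_conj_mul_div (N : Subgroup G) [hN : N.Normal] [Fintype N] (ϑ : N → ℂ)
    (hinv : ∀ (g : G) (n : N), ϑ ⟨g * n * g⁻¹, hN.conj_mem n n.2 g⟩ = ϑ n)
    (ξ : IrrCharacter G) (φ : IrrCharacter N) (h : ξ ∈ irrOver N (φ : N → ℂ)) :
    ∑ n : N, conj (ϑ n) * ((ξ : G → ℂ) n / (ξ : G → ℂ) 1)
      = (Nat.card N : ℂ) * classInner (φ : N → ℂ) ϑ / (φ : N → ℂ) 1 := by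
  classical
  have hφ1 := apply_one_ne_zero φ.2
  have hξ1 := apply_one_ne_zero ξ.2
  have hi1 := indFun_one_ne_zero N (φ : N → ℂ) hφ1
  have hN0 : (Nat.card N : ℂ) ≠ 0 := by
    have : Nat.card N ≠ 0 := Nat.card_pos.ne'
    exact_mod_cast this
  have hidx0 : (N.index : ℂ) ≠ 0 := by
    have : N.index ≠ 0 := Subgroup.index_ne_zero_of_finite
    exact_mod_cast this
  have hG0 : (Nat.card G : ℂ) ≠ 0 := by
    have : Nat.card G ≠ 0 := Nat.card_pos.ne'
    exact_mod_cast this
  -- replace ξ by the induced character of φ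
  have h1 : ∀ n : N, (ξ : G → ℂ) n / (ξ : G → ℂ) 1
      = indFun N (φ : N → ℂ) n / indFun N (φ : N → ℂ) 1 := by
    intro n
    have := apply_mul_indFun_one_of_over N ξ φ h n
    field_simp
    rw [this]
    ring
  rw [Finset.sum_congr rfl (fun n _ => by rw [h1 n])]
  -- Frobenius reciprocity against the induced function of ϑ
  have hfr := frobenius_reciprocity N (φ : N → ℂ) (indFun N ϑ) (indFun_isClassFunction N ϑ)
  rw [classInner_apply, classInner_apply] at hfr
  have e1 : ∑ g : G, indFun N (φ : N → ℂ) g * conj (indFun N ϑ g)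
      = (N.index : ℂ) * ∑ n : N, indFun N (φ : N → ℂ) n * conj (ϑ n) := by
    rw [Finset.mul_sum]
    have : ∑ g ∈ Finset.univ.filter (fun g : G => g ∈ N),
          indFun N (φ : N → ℂ) g * conj (indFun N ϑ g)
        = ∑ n : N, indFun N (φ : N → ℂ) n * conj (indFun N ϑ (n : G)) :=
      Finset.sum_subtype (Finset.univ.filter (fun g : G => g ∈ N)) (by intro x; simp)
        (fun g : G => indFun N (φ : N → ℂ) g * conj (indFun N ϑ g))
    rw [Finset.sum_filter] at this
    have e2 : ∑ g : G, indFun N (φ : N → ℂ) g * conj (indFun N ϑ g)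
        = ∑ g : G, if g ∈ N then indFun N (φ : N → ℂ) g * conj (indFun N ϑ g) else 0 := by
      apply Finset.sum_congr rfl
      intro g _
      split_ifs with hg
      · rfl
      · rw [indFun_of_invariant N ϑ hinv g, extendByZero_not_mem N ϑ hg, mul_zero, map_zero,
          mul_zero]
    rw [e2, this]
    apply Finset.sum_congr rfl
    intro n _
    rw [indFun_of_invariant N ϑ hinv (n : G), extendByZero_coe, map_mul, Complex.conj_natCast]
    ring
  have e3 : ∑ n : N, (φ : N → ℂ) n * conj (indFun N ϑ (n : G))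
      = (N.index : ℂ) * ∑ n : N, (φ : N → ℂ) n * conj (ϑ n) := by
    rw [Finset.mul_sum]
    apply Finset.sum_congr rfl
    intro n _
    rw [indFun_of_invariant N ϑ hinv (n : G), extendByZero_coe, map_mul, Complex.conj_natCast]
    ring
  rw [e1, e3] at hfr
  have hcard : (Nat.card G : ℂ) = (N.index : ℂ) * (Nat.card N : ℂ) := by
    rw [← Nat.cast_mul, Subgroup.index_mul_card]
  rw [indFun_apply_one, classInner_apply]
  have hS : ∑ n : N, indFun N (φ : N → ℂ) n * conj (ϑ n)
      = (N.index : ℂ) * ∑ n : N, (φ : N → ℂ) n * conj (ϑ n) := by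
    have h5 : (Nat.card G : ℂ)⁻¹ * (N.index : ℂ) ≠ 0 := mul_ne_zero (inv_ne_zero hG0) hidx0
    have h6 : (Nat.card G : ℂ)⁻¹ * ((N.index : ℂ) * ∑ n : N, indFun N (φ : N → ℂ) n * conj (ϑ n))
        = (Nat.card G : ℂ)⁻¹ * (N.index : ℂ) *
          ((N.index : ℂ) * ∑ n : N, (φ : N → ℂ) n * conj (ϑ n)) := by
      rw [hfr, hcard]
      field_simp
    rw [← mul_assoc] at h6
    exact mul_left_cancel₀ h5 h6
  have hL : ∑ n : N, conj (ϑ n) * (indFun N (φ : N → ℂ) n / ((N.index : ℂ) * (φ : N → ℂ) 1))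
      = (∑ n : N, indFun N (φ : N → ℂ) n * conj (ϑ n)) / ((N.index : ℂ) * (φ : N → ℂ) 1) := by
    rw [Finset.sum_div]
    apply Finset.sum_congr rfl
    intro n _
    ring
  rw [hL, hS]
  field_simp

end Cfsg.Agent.Lib.helper3.PType
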