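import Mathlib
import Cfsg.Prelude.Def_Characters
import Cfsg.Prelude.Def_Blocks
import Cfsg.Prelude.Def_BrauerPairs
import Cfsg.Agent.Lib.helper3.PType1
import Cfsg.Agent.Lib.helper3.GNS2
import Cfsg.Agent.Lib.helper3.BrauerMap3
import Cfsg.Agent.Lib.helper3.PrincIdem2
import Cfsg.Agent.Lib.helper3.PrincNormal2
import Cfsg.Agent.Lib.helper3.Fong2

/-!
# Blocks of principal type: the Brauer-map value of the idempotent of `Irr(G|θ)`
-/

set_option autoImplicit false
set_option linter.style.haveILetI false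
set_option linter.unusedSectionVars false
set_option linter.unusedVariables false

namespace Cfsg.Agent.Lib.helper3.PType

open Cfsg Cfsg.Agent.Lib.helper3.Irr Cfsg.Agent.Lib.helper3.CharBasic
open Cfsg.Agent.Lib.helper3.IndFun Cfsg.Agent.Lib.helper3.Block Cfsg.Agent.Lib.helper3.FongB
open Cfsg.Agent.Lib.helper3.LocalM Cfsg.Agent.Lib.helper3.GNS
open scoped ComplexConjugate

variable {G : Type*} [Group G] [Fintype G] {M : Ideal AlgInt}

/-- The value of an irreducible character of `C_G(P)` on the Brauer-map image of a block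
idempotent is `0` or `1` modulo the local ideal. -/
theorem brauerOmega_dichotomy {p : ℕ} [hp : Fact p.Prime] (hM : IsPModular p M) (P : Subgroup G)
    (hPp : IsPGroup p P) [Fintype (Subgroup.centralizer (P : Set G))]
    (B : Set (IrrCharacter G)) (hB : IsPBlock M B)
    (ξ : IrrCharacter (Subgroup.centralizer (P : Set G))) :
    MemLocalIdeal M (brauerOmega P (blockCoeff B) (ξ : Subgroup.centralizer (P : Set G) → ℂ))
      ∨ MemLocalIdeal M (brauerOmega P (blockCoeff B)
        (ξ : Subgroup.centralizer (P : Set G) → ℂ) - 1) := by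
  classical
  haveI hMp := isPrime_of_isPModular hM
  have hclosed : ∀ θ ∈ B, blockOf M (θ : G → ℂ) ⊆ B := by
    obtain ⟨χ₀, rfl⟩ := hB
    intro θ hθ ψ hψ
    exact sameBlock_trans hθ hψ
  have hloc : ∀ g, MemLocalRing M (blockCoeff B g) :=
    fun g => memLocalRing_blockCoeff_of_closed hM B hclosed g
  have hconj : ∀ c g : G, blockCoeff B (c * g * c⁻¹) = blockCoeff B g :=
    fun c g => blockCoeff_conj' B g c
  have hΛloc : MemLocalRing M (brauerOmega P (blockCoeff B)
      (ξ : Subgroup.centralizer (P : Set G) → ℂ)) :=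
    memLocalRing_brauerOmega P _ hloc (fun c _ g => hconj c g) ξ
  have h1 := memLocalIdeal_brauerOmega_conv hM P hPp _ _ hloc hloc
    (fun u _ g => hconj u g) (fun u _ g => hconj u g)
    (fun c _ g => hconj c g) (fun c _ g => hconj c g) ξ
  rw [conv_blockCoeff_self] at h1
  have h2 := memLocalIdeal_neg h1
  apply memLocalIdeal_or_of_mul_local hΛloc
  · obtain ⟨a1, a2, ha2, ha⟩ := hΛloc
    refine ⟨a1 - a2, a2, ha2, ?_⟩
    rw [← ha]
    have := coe_ne_zero_of_notMem ha2
    push_cast
    field_simp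
  · convert h2 using 1
    ring

/-- A quotient of natural numbers with denominator prime to `p`. -/
theorem memLocalIdeal_natCast_div_iff {p : ℕ} (hM : IsPModular p M) (x y : ℕ) (hy : ¬ p ∣ y) :
    MemLocalIdeal M ((x : ℂ) / (y : ℂ)) ↔ p ∣ x := by
  haveI hMp := isPrime_of_isPModular hM
  constructor
  · intro h
    by_contra hx
    have hy0 : (y : ℂ) ≠ 0 := by
      have : y ≠ 0 := by
        rintro rfl
        exact hy (dvd_zero p)
      exact_mod_cast this
    have h1 := memLocalIdeal_mul_integral h (c := (y : ℂ)) (isIntegral_algebraMap (x := (y : ℤ)) |> fun h => by simpa using h)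
    have e : (y : ℂ) * ((x : ℂ) / (y : ℂ)) = (x : ℂ) := by field_simp
    rw [e] at h1
    exact not_memLocalIdeal_natCast hM x hx h1
  · intro h
    exact memLocalIdeal_div_natCast hM (memLocalIdeal_natCast_of_dvd hM x h) y hy

section formula

variable (K R : Subgroup G) [hK : K.Normal] [Fintype K]
  [Fintype ↥(Subgroup.centralizer (R : Set G))]
  [Fintype ↥((K ⊓ Subgroup.centralizer (R : Set G)).subgroupOf (Subgroup.centralizer (R : Set G)))]
  [hN' : ((K ⊓ Subgroup.centralizer (R : Set G)).subgroupOf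
    (Subgroup.centralizer (R : Set G))).Normal]
  (θ : IrrCharacter K)
  (hinv : ∀ (g : G) (n : K), (θ : K → ℂ) ⟨g * n * g⁻¹, hK.conj_mem n n.2 g⟩ = (θ : K → ℂ) n)

include hinv in
/-- The Brauer-map value of the idempotent of `Irr(G|θ)` at a character of `C_G(R)` lying over
`φ ∈ Irr(C_K(R))`. -/
theorem brauerOmega_irrOver (ξ : IrrCharacter ↥(Subgroup.centralizer (R : Set G)))
    (φ : IrrCharacter ↥(K ⊓ Subgroup.centralizer (R : Set G)))
    (hξφ : ξ ∈ irrOver ((K ⊓ Subgroup.centralizer (R : Set G)).subgroupOf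
      (Subgroup.centralizer (R : Set G)))
      (toSub (inf_le_right : K ⊓ Subgroup.centralizer (R : Set G) ≤ _) (φ : ↥(K ⊓ Subgroup.centralizer (R : Set G)) → ℂ))) :
    brauerOmega R (blockCoeff (irrOver K (θ : K → ℂ)))
        (ξ : ↥(Subgroup.centralizer (R : Set G)) → ℂ)
      = (θ : K → ℂ) 1 / (Nat.card K : ℂ) *
        ((Nat.card ↥(K ⊓ Subgroup.centralizer (R : Set G)) : ℂ) *
          conj (ip (res (inf_le_left : K ⊓ Subgroup.centralizer (R : Set G) ≤ K) (θ : K → ℂ))
            (φ : ↥(K ⊓ Subgroup.centralizer (R : Set G)) → ℂ)) / (φ : ↥(K ⊓ Subgroup.centralizer (R : Set G)) → ℂ) 1) := by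
  classical
  letI : Fintype ↥(K ⊓ Subgroup.centralizer (R : Set G)) := Fintype.ofFinite _
  rw [brauerOmega_eq_sum]
  simp_rw [blockCoeff_irrOver K θ hinv]
  -- the function on the normal subgroup
  set ϑ' : ↥((K ⊓ Subgroup.centralizer (R : Set G)).subgroupOf
      (Subgroup.centralizer (R : Set G))) → ℂ :=
    toSub (inf_le_right : K ⊓ Subgroup.centralizer (R : Set G) ≤ _)
      (res (inf_le_left : K ⊓ Subgroup.centralizer (R : Set G) ≤ K) (θ : K → ℂ)) with hϑ'
  have hϑ'inv : ∀ (c : ↥(Subgroup.centralizer (R : Set G)))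
      (n : ↥((K ⊓ Subgroup.centralizer (R : Set G)).subgroupOf
        (Subgroup.centralizer (R : Set G)))),
      ϑ' ⟨c * n * c⁻¹, hN'.conj_mem n n.2 c⟩ = ϑ' n := by
    intro c n
    have := hinv (c : G) ⟨((n : ↥(Subgroup.centralizer (R : Set G))) : G),
      (Subgroup.mem_subgroupOf.mp n.2).1⟩
    rw [hϑ', toSub_apply, toSub_apply, res_apply, res_apply]
    rw [← this]
    congr 1
  -- restrict the sum to the normal subgroup
  have hsum : ∑ x : ↥(Subgroup.centralizer (R : Set G)),
      (θ : K → ℂ) 1 / (Nat.card K : ℂ) * conj (extendByZero K (θ : K → ℂ) (x : G)) *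
        ((ξ : ↥(Subgroup.centralizer (R : Set G)) → ℂ) x /
          (ξ : ↥(Subgroup.centralizer (R : Set G)) → ℂ) 1)
      = (θ : K → ℂ) 1 / (Nat.card K : ℂ) *
        ∑ n : ↥((K ⊓ Subgroup.centralizer (R : Set G)).subgroupOf
          (Subgroup.centralizer (R : Set G))),
          conj (ϑ' n) * ((ξ : ↥(Subgroup.centralizer (R : Set G)) → ℂ) n /
            (ξ : ↥(Subgroup.centralizer (R : Set G)) → ℂ) 1) := by
    rw [Finset.mul_sum]
    have hsub : ∑ x ∈ Finset.univ.filter (fun x : ↥(Subgroup.centralizer (R : Set G)) =>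
          x ∈ (K ⊓ Subgroup.centralizer (R : Set G)).subgroupOf
            (Subgroup.centralizer (R : Set G))),
          (θ : K → ℂ) 1 / (Nat.card K : ℂ) * conj (extendByZero K (θ : K → ℂ) (x : G)) *
            ((ξ : ↥(Subgroup.centralizer (R : Set G)) → ℂ) x /
              (ξ : ↥(Subgroup.centralizer (R : Set G)) → ℂ) 1)
        = ∑ n : ↥((K ⊓ Subgroup.centralizer (R : Set G)).subgroupOf
            (Subgroup.centralizer (R : Set G))),
          (θ : K → ℂ) 1 / (Nat.card K : ℂ) *
            conj (extendByZero K (θ : K → ℂ) ((n : ↥(Subgroup.centralizer (R : Set G))) : G)) *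
            ((ξ : ↥(Subgroup.centralizer (R : Set G)) → ℂ) n /
              (ξ : ↥(Subgroup.centralizer (R : Set G)) → ℂ) 1) :=
      Finset.sum_subtype (Finset.univ.filter (fun x : ↥(Subgroup.centralizer (R : Set G)) =>
          x ∈ (K ⊓ Subgroup.centralizer (R : Set G)).subgroupOf
            (Subgroup.centralizer (R : Set G)))) (by intro x; simp)
        (fun x : ↥(Subgroup.centralizer (R : Set G)) =>
          (θ : K → ℂ) 1 / (Nat.card K : ℂ) * conj (extendByZero K (θ : K → ℂ) (x : G)) *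
            ((ξ : ↥(Subgroup.centralizer (R : Set G)) → ℂ) x /
              (ξ : ↥(Subgroup.centralizer (R : Set G)) → ℂ) 1))
    rw [Finset.sum_filter] at hsub
    have e2 : ∀ x : ↥(Subgroup.centralizer (R : Set G)),
        (θ : K → ℂ) 1 / (Nat.card K : ℂ) * conj (extendByZero K (θ : K → ℂ) (x : G)) *
          ((ξ : ↥(Subgroup.centralizer (R : Set G)) → ℂ) x /
            (ξ : ↥(Subgroup.centralizer (R : Set G)) → ℂ) 1)
        = if x ∈ (K ⊓ Subgroup.centralizer (R : Set G)).subgroupOf
            (Subgroup.centralizer (R : Set G)) then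
          (θ : K → ℂ) 1 / (Nat.card K : ℂ) * conj (extendByZero K (θ : K → ℂ) (x : G)) *
          ((ξ : ↥(Subgroup.centralizer (R : Set G)) → ℂ) x /
            (ξ : ↥(Subgroup.centralizer (R : Set G)) → ℂ) 1) else 0 := by
      intro x
      split_ifs with hx
      · rfl
      · have hxK : (x : G) ∉ K := by
          intro h
          apply hx
          rw [Subgroup.mem_subgroupOf]
          exact ⟨h, x.2⟩
        rw [extendByZero_not_mem K _ hxK, map_zero, mul_zero, zero_mul]
    rw [Finset.sum_congr rfl (fun x _ => e2 x), hsub]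
    apply Finset.sum_congr rfl
    intro n _
    have hnK : ((n : ↥(Subgroup.centralizer (R : Set G))) : G) ∈ K :=
      (Subgroup.mem_subgroupOf.mp n.2).1
    rw [extendByZero_mem K _ hnK]
    have : ϑ' n = (θ : K → ℂ) ⟨((n : ↥(Subgroup.centralizer (R : Set G))) : G), hnK⟩ := rfl
    rw [this]
    ring
  rw [hsum]
  congr 1
  rw [sum_conj_mul_div ((K ⊓ Subgroup.centralizer (R : Set G)).subgroupOf
      (Subgroup.centralizer (R : Set G))) ϑ' hϑ'inv ξ
    ⟨_, isIrrCharacter_toSub inf_le_right φ.2⟩ hξφ]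
  have hcard : Nat.card ↥((K ⊓ Subgroup.centralizer (R : Set G)).subgroupOf
      (Subgroup.centralizer (R : Set G))) = Nat.card ↥(K ⊓ Subgroup.centralizer (R : Set G)) :=
    Nat.card_congr (Subgroup.subgroupOfEquivOfLe inf_le_right).toEquiv
  have hinner : classInner (toSub (inf_le_right : K ⊓ Subgroup.centralizer (R : Set G) ≤ _)
      (φ : ↥(K ⊓ Subgroup.centralizer (R : Set G)) → ℂ)) ϑ'
      = conj (ip (res (inf_le_left : K ⊓ Subgroup.centralizer (R : Set G) ≤ K) (θ : K → ℂ))
          (φ : ↥(K ⊓ Subgroup.centralizer (R : Set G)) → ℂ)) := by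
    rw [hϑ', ← ip_eq_classInner, ip_toSub, ip_conj_symm]
  have hone : toSub (inf_le_right : K ⊓ Subgroup.centralizer (R : Set G) ≤ _) (φ : ↥(K ⊓ Subgroup.centralizer (R : Set G)) → ℂ) 1
      = (φ : ↥(K ⊓ Subgroup.centralizer (R : Set G)) → ℂ) 1 := rfl
  show (Nat.card ↥((K ⊓ Subgroup.centralizer (R : Set G)).subgroupOf
      (Subgroup.centralizer (R : Set G))) : ℂ) *
      classInner (toSub (inf_le_right : K ⊓ Subgroup.centralizer (R : Set G) ≤ _) (φ : ↥(K ⊓ Subgroup.centralizer (R : Set G)) → ℂ)) ϑ' /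
      toSub (inf_le_right : K ⊓ Subgroup.centralizer (R : Set G) ≤ _) (φ : ↥(K ⊓ Subgroup.centralizer (R : Set G)) → ℂ) 1 = _
  rw [hcard, hinner, hone]

end formula

end Cfsg.Agent.Lib.helper3.PType
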