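import Mathlib
import Cfsg.Prelude.Def_Characters
import Cfsg.Prelude.Def_Blocks
import Cfsg.Prelude.Def_BlockLocal
import Cfsg.Prelude.Def_BrauerPairs
import Cfsg.Agent.Lib.helper3.PType2
import Cfsg.Agent.Lib.helper3.BrauerPairInd
import Cfsg.Agent.Lib.helper3.SP37
import Cfsg.Agent.Lib.helper3.Degrees

/-!
# Blocks of principal type: exactly one block of `C_G(R)` induces `Irr(G|θ)`
-/

set_option autoImplicit false
set_option linter.style.haveILetI false
set_option linter.unusedSectionVars false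
set_option linter.unusedVariables false
set_option maxHeartbeats 1000000

namespace Cfsg.Agent.Lib.helper3.PType

open Cfsg Cfsg.Agent.Lib.helper3.Irr Cfsg.Agent.Lib.helper3.CharBasic
open Cfsg.Agent.Lib.helper3.IndFun Cfsg.Agent.Lib.helper3.Block Cfsg.Agent.Lib.helper3.FongB
open Cfsg.Agent.Lib.helper3.LocalM Cfsg.Agent.Lib.helper3.GNS
open scoped ComplexConjugate

universe u

variable {G : Type u} [Group G] [Fintype G] {M : Ideal AlgInt}

/-- Every irreducible character of the copy of `B` inside `A` comes from `B`. -/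
theorem exists_toSub_eq {A B : Subgroup G} (h : B ≤ A) (ψ : IrrCharacter ↥(B.subgroupOf A)) :
    ∃ φ : IrrCharacter ↥B, toSub h (φ : ↥B → ℂ) = (ψ : ↥(B.subgroupOf A) → ℂ) := by
  refine ⟨⟨fun b => (ψ : ↥(B.subgroupOf A) → ℂ) ((Subgroup.subgroupOfEquivOfLe h).symm b),
    isIrrCharacter_comp_mulEquiv (Subgroup.subgroupOfEquivOfLe h).symm ψ.2⟩, ?_⟩
  funext x
  show (ψ : ↥(B.subgroupOf A) → ℂ) ((Subgroup.subgroupOfEquivOfLe h).symm
    (Subgroup.subgroupOfEquivOfLe h x)) = _
  rw [MulEquiv.symm_apply_apply]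

section main

variable {p : ℕ} [hp : Fact p.Prime] (hM : IsPModular p M)
  (K : Subgroup G) [hK : K.Normal] [Fintype K] (hKp : ¬ p ∣ Nat.card K)
  (θ : IrrCharacter K)
  (hinv : ∀ (g : G) (n : K), (θ : K → ℂ) ⟨g * n * g⁻¹, hK.conj_mem n n.2 g⟩ = (θ : K → ℂ) n)
  (hB : IsPBlock M (irrOver K (θ : K → ℂ)))
  (R : Subgroup G) (hR : IsPGroup p R)

include hM hKp hinv in
/-- The Brauer-map value is in the local ideal exactly when `p` divides the multiplicity. -/
theorem memLocalIdeal_brauerOmega_iff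
    [Fintype ↥(Subgroup.centralizer (R : Set G))]
    [Fintype ↥((K ⊓ Subgroup.centralizer (R : Set G)).subgroupOf
      (Subgroup.centralizer (R : Set G)))]
    [hN' : ((K ⊓ Subgroup.centralizer (R : Set G)).subgroupOf
      (Subgroup.centralizer (R : Set G))).Normal]
    (ξ : IrrCharacter ↥(Subgroup.centralizer (R : Set G)))
    (φ : IrrCharacter ↥(K ⊓ Subgroup.centralizer (R : Set G)))
    (hξφ : ξ ∈ irrOver ((K ⊓ Subgroup.centralizer (R : Set G)).subgroupOf
      (Subgroup.centralizer (R : Set G)))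
      (toSub (inf_le_right : K ⊓ Subgroup.centralizer (R : Set G) ≤ _)
        (φ : ↥(K ⊓ Subgroup.centralizer (R : Set G)) → ℂ)))
    (a : ℕ)
    (ha : ip (res (inf_le_left : K ⊓ Subgroup.centralizer (R : Set G) ≤ K) (θ : K → ℂ))
      (φ : ↥(K ⊓ Subgroup.centralizer (R : Set G)) → ℂ) = a) :
    MemLocalIdeal M (brauerOmega R (blockCoeff (irrOver K (θ : K → ℂ)))
        (ξ : ↥(Subgroup.centralizer (R : Set G)) → ℂ)) ↔ p ∣ a := by
  classical
  letI : Fintype ↥(K ⊓ Subgroup.centralizer (R : Set G)) := Fintype.ofFinite _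
  rw [brauerOmega_irrOver K R θ hinv ξ φ hξφ, ha, Complex.conj_natCast]
  obtain ⟨t, ht, htK, ht0⟩ := Cfsg.Agent.Lib.helper3.Central.irr_degree_dvd_card θ.2
  obtain ⟨s, hs, hsK, hs0⟩ := Cfsg.Agent.Lib.helper3.Central.irr_degree_dvd_card φ.2
  have hcK : Nat.card ↥(K ⊓ Subgroup.centralizer (R : Set G)) ∣ Nat.card K :=
    Subgroup.card_dvd_of_le inf_le_left
  have hpc : ¬ p ∣ Nat.card ↥(K ⊓ Subgroup.centralizer (R : Set G)) :=
    fun h => hKp (h.trans hcK)
  have hps : ¬ p ∣ s := fun h => hpc (h.trans hsK)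
  have hpt : ¬ p ∣ t := fun h => hKp (h.trans htK)
  have hpy : ¬ p ∣ Nat.card K * s := by
    intro h
    rcases (Nat.Prime.dvd_mul hp.out).mp h with h | h
    · exact hKp h
    · exact hps h
  have hs0' : (s : ℂ) ≠ 0 := by exact_mod_cast hs0.ne'
  have hK0 : (Nat.card K : ℂ) ≠ 0 := by
    have : Nat.card K ≠ 0 := Nat.card_pos.ne'
    exact_mod_cast this
  have e : (θ : K → ℂ) 1 / (Nat.card K : ℂ) *
      ((Nat.card ↥(K ⊓ Subgroup.centralizer (R : Set G)) : ℂ) * (a : ℂ) /
        (φ : ↥(K ⊓ Subgroup.centralizer (R : Set G)) → ℂ) 1)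
      = ((t * Nat.card ↥(K ⊓ Subgroup.centralizer (R : Set G)) * a : ℕ) : ℂ) /
        ((Nat.card K * s : ℕ) : ℂ) := by
    rw [ht, hs]
    push_cast
    field_simp
  rw [e, memLocalIdeal_natCast_div_iff hM _ _ hpy]
  constructor
  · intro h
    rcases (Nat.Prime.dvd_mul hp.out).mp h with h | h
    · rcases (Nat.Prime.dvd_mul hp.out).mp h with h | h
      · exact absurd h hpt
      · exact absurd h hpc
    · exact h
  · intro h
    exact Dvd.dvd.mul_left h _

include hM hKp hinv hB hR in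
/-- **Principal type**: given the Glauberman data at `R` and the `p`-constraint of `C_G(R)`
over `C_K(R)`, exactly one block of `C_G(R)` induces `Irr(G|θ)`. -/
theorem exists_unique_induced
    (θs : IrrCharacter ↥(K ⊓ Subgroup.centralizer (R : Set G)))
    (hθs1 : ∃ a : ℕ, ip (res (inf_le_left : K ⊓ Subgroup.centralizer (R : Set G) ≤ K)
      (θ : K → ℂ)) (θs : ↥(K ⊓ Subgroup.centralizer (R : Set G)) → ℂ) = a ∧ ¬ p ∣ a)
    (hθs2 : ∀ φ : IrrCharacter ↥(K ⊓ Subgroup.centralizer (R : Set G)), φ ≠ θs →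
      ∃ a : ℕ, ip (res (inf_le_left : K ⊓ Subgroup.centralizer (R : Set G) ≤ K)
      (θ : K → ℂ)) (φ : ↥(K ⊓ Subgroup.centralizer (R : Set G)) → ℂ) = a ∧ p ∣ a)
    (hθs3 : ∀ c ∈ Subgroup.centralizer (R : Set G),
      IsConjCharOf (K ⊓ Subgroup.centralizer (R : Set G)) c
        (θs : ↥(K ⊓ Subgroup.centralizer (R : Set G)) → ℂ)
        (θs : ↥(K ⊓ Subgroup.centralizer (R : Set G)) → ℂ))
    (L' Q' : Subgroup ↥(Subgroup.centralizer (R : Set G))) (k : ℕ) (hL'n : L'.Normal)
    (hNL' : (K ⊓ Subgroup.centralizer (R : Set G)).subgroupOf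
      (Subgroup.centralizer (R : Set G)) ≤ L')
    (hidx' : ((K ⊓ Subgroup.centralizer (R : Set G)).subgroupOf
      (Subgroup.centralizer (R : Set G))).relIndex L' = p ^ k)
    (hQ'L' : Q' ≤ L') (hQ'p : IsPGroup p Q')
    (hCQ' : Subgroup.centralizer (Q' : Set ↥(Subgroup.centralizer (R : Set G))) ≤ L') :
    ∃! f : Set (IrrCharacter ↥(Subgroup.centralizer (R : Set G))),
      IsInducedBlock M (Subgroup.centralizer (R : Set G)) f (irrOver K (θ : K → ℂ)) := by
  classical
  haveI hMp := isPrime_of_isPModular hM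
  have hMtop : M ≠ ⊤ := hM.2.1.ne_top
  letI : Fintype ↥(Subgroup.centralizer (R : Set G)) := Fintype.ofFinite _
  letI : Fintype ↥((K ⊓ Subgroup.centralizer (R : Set G)).subgroupOf
    (Subgroup.centralizer (R : Set G))) := Fintype.ofFinite _
  letI : Fintype ↥(K ⊓ Subgroup.centralizer (R : Set G)) := Fintype.ofFinite _
  haveI hN' : ((K ⊓ Subgroup.centralizer (R : Set G)).subgroupOf
      (Subgroup.centralizer (R : Set G))).Normal := by
    rw [Subgroup.inf_subgroupOf_right]
    infer_instance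
  haveI := hL'n
  -- the character θs on the copy of `C_K(R)` in `C_G(R)`
  have hθs'irr := isIrrCharacter_toSub
    (inf_le_right : K ⊓ Subgroup.centralizer (R : Set G) ≤ Subgroup.centralizer (R : Set G)) θs.2
  set θs' : IrrCharacter ↥((K ⊓ Subgroup.centralizer (R : Set G)).subgroupOf
      (Subgroup.centralizer (R : Set G))) := ⟨_, hθs'irr⟩ with hθs'def
  have hinv' : ∀ (c : ↥(Subgroup.centralizer (R : Set G)))
      (n : ↥((K ⊓ Subgroup.centralizer (R : Set G)).subgroupOf
        (Subgroup.centralizer (R : Set G)))),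
      (θs' : ↥((K ⊓ Subgroup.centralizer (R : Set G)).subgroupOf
        (Subgroup.centralizer (R : Set G))) → ℂ) ⟨c * n * c⁻¹, hN'.conj_mem n n.2 c⟩ = (θs' : ↥((K ⊓ Subgroup.centralizer (R : Set G)).subgroupOf
        (Subgroup.centralizer (R : Set G))) → ℂ) n := by
    intro c n
    exact hθs3 (c : G) c.2 ⟨_, Subgroup.mem_subgroupOf.mp n.2⟩
      ⟨_, Subgroup.mem_subgroupOf.mp (hN'.conj_mem n n.2 c)⟩ rfl
  have hcard : Nat.card ↥((K ⊓ Subgroup.centralizer (R : Set G)).subgroupOf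
      (Subgroup.centralizer (R : Set G))) = Nat.card ↥(K ⊓ Subgroup.centralizer (R : Set G)) :=
    Nat.card_congr (Subgroup.subgroupOfEquivOfLe inf_le_right).toEquiv
  have hNp' : ¬ p ∣ Nat.card ↥((K ⊓ Subgroup.centralizer (R : Set G)).subgroupOf
      (Subgroup.centralizer (R : Set G))) := by
    rw [hcard]
    intro h
    exact hKp (h.trans (Subgroup.card_dvd_of_le inf_le_left))
  -- the block of `C_G(R)`
  have hf : IsPBlock M (irrOver ((K ⊓ Subgroup.centralizer (R : Set G)).subgroupOf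
      (Subgroup.centralizer (R : Set G))) (θs' : ↥((K ⊓ Subgroup.centralizer (R : Set G)).subgroupOf
        (Subgroup.centralizer (R : Set G))) → ℂ)) :=
    isPBlock_irrOver hM _ L' Q' hNL' hNp' k hidx' hQ'L' hQ'p hCQ' θs' hinv'
  -- every character of `C_G(R)` lies over some `φ`
  have hover : ∀ ξ : IrrCharacter ↥(Subgroup.centralizer (R : Set G)),
      ∃ φ : IrrCharacter ↥(K ⊓ Subgroup.centralizer (R : Set G)),
        ξ ∈ irrOver ((K ⊓ Subgroup.centralizer (R : Set G)).subgroupOf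
          (Subgroup.centralizer (R : Set G)))
          (toSub (inf_le_right : K ⊓ Subgroup.centralizer (R : Set G) ≤ _)
            (φ : ↥(K ⊓ Subgroup.centralizer (R : Set G)) → ℂ)) := by
    intro ξ
    have hc := isCharacter_restrict (isCharacter_of_isIrrCharacter ξ.2)
      ((K ⊓ Subgroup.centralizer (R : Set G)).subgroupOf (Subgroup.centralizer (R : Set G)))
    have h0 : (fun n : ↥((K ⊓ Subgroup.centralizer (R : Set G)).subgroupOf
        (Subgroup.centralizer (R : Set G))) =>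
        (ξ : ↥(Subgroup.centralizer (R : Set G)) → ℂ) n) ≠ 0 := by
      intro h
      have := congrFun h 1
      exact apply_one_ne_zero ξ.2 this
    obtain ⟨ψ, hψ⟩ := exists_constituent hc h0
    obtain ⟨φ, hφ⟩ := exists_toSub_eq
      (inf_le_right : K ⊓ Subgroup.centralizer (R : Set G) ≤ Subgroup.centralizer (R : Set G)) ψ
    refine ⟨φ, ?_⟩
    show classInner _ _ ≠ 0
    rw [hφ]
    exact hψ
  -- the multiplicity as a natural number
  have hmult : ∀ φ : IrrCharacter ↥(K ⊓ Subgroup.centralizer (R : Set G)),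
      ∃ a : ℕ, ip (res (inf_le_left : K ⊓ Subgroup.centralizer (R : Set G) ≤ K)
        (θ : K → ℂ)) (φ : ↥(K ⊓ Subgroup.centralizer (R : Set G)) → ℂ) = a ∧
        (p ∣ a ↔ φ ≠ θs) := by
    intro φ
    by_cases hφ : φ = θs
    · obtain ⟨a, ha, hpa⟩ := hθs1
      refine ⟨a, by rw [hφ]; exact ha, ?_⟩
      constructor
      · intro h
        exact absurd h hpa
      · intro h
        exact absurd hφ h
    · obtain ⟨a, ha, hpa⟩ := hθs2 φ hφ
      exact ⟨a, ha, fun _ => hφ, fun _ => hpa⟩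
  -- membership in the candidate block
  have hmemf : ∀ ξ : IrrCharacter ↥(Subgroup.centralizer (R : Set G)),
      ¬ MemLocalIdeal M (brauerOmega R (blockCoeff (irrOver K (θ : K → ℂ)))
        (ξ : ↥(Subgroup.centralizer (R : Set G)) → ℂ)) ↔
      ξ ∈ irrOver ((K ⊓ Subgroup.centralizer (R : Set G)).subgroupOf
        (Subgroup.centralizer (R : Set G))) (θs' : ↥((K ⊓ Subgroup.centralizer (R : Set G)).subgroupOf
        (Subgroup.centralizer (R : Set G))) → ℂ) := by
    intro ξ
    constructor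
    · intro hnot
      obtain ⟨φ, hφ⟩ := hover ξ
      obtain ⟨a, ha, hpa⟩ := hmult φ
      have h1 := memLocalIdeal_brauerOmega_iff hM K hKp θ hinv R ξ φ hφ a ha
      have h2 : ¬ p ∣ a := fun h => hnot (h1.mpr h)
      have h3 : φ = θs := by
        by_contra hne
        exact h2 (hpa.mpr hne)
      rw [h3] at hφ
      exact hφ
    · intro hξ hmem
      obtain ⟨a, ha, hpa⟩ := hmult θs
      have h1 := memLocalIdeal_brauerOmega_iff hM K hKp θ hinv R ξ θs hξ a ha
      exact hpa.mp (h1.mp hmem) rfl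
  refine ⟨irrOver ((K ⊓ Subgroup.centralizer (R : Set G)).subgroupOf
      (Subgroup.centralizer (R : Set G))) (θs' : ↥((K ⊓ Subgroup.centralizer (R : Set G)).subgroupOf
        (Subgroup.centralizer (R : Set G))) → ℂ), ?_, ?_⟩
  · -- existence
    apply isInducedBlock_of_isBrauerPairOf hM R
    refine ⟨⟨hR, hf⟩, hB, ?_⟩
    intro ξ hξ
    rcases brauerOmega_dichotomy hM R hR _ hB ξ with h | h
    · exact absurd h ((hmemf ξ).mpr hξ)
    · exact h
  · -- uniqueness
    intro f' hf'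
    have hbp := isBrauerPairOf_of_isInducedBlock hM R hR _ f' hf'
    obtain ⟨⟨-, hf'b⟩, -, hΛ⟩ := hbp
    obtain ⟨ξ₀, hξ₀⟩ := hf'b
    have hξ₀mem : ξ₀ ∈ f' := by
      rw [hξ₀]
      exact sameBlock_refl hMtop _
    have h1 := hΛ ξ₀ hξ₀mem
    have h2 : ¬ MemLocalIdeal M (brauerOmega R (blockCoeff (irrOver K (θ : K → ℂ)))
        (ξ₀ : ↥(Subgroup.centralizer (R : Set G)) → ℂ)) := by
      intro h
      apply not_memLocalIdeal_one (M := M)
      have := memLocalIdeal_sub h h1
      rwa [sub_sub_cancel] at this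
    have h3 := (hmemf ξ₀).mp h2
    exact isPBlock_eq_of_mem ⟨ξ₀, hξ₀⟩ hf ξ₀ hξ₀mem h3

end main

end Cfsg.Agent.Lib.helper3.PType
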