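import Mathlib
import Cfsg.Prelude.Def_Characters
import Cfsg.Prelude.Def_Blocks
import Cfsg.Prelude.Def_BlockLocal
import Cfsg.Prelude.Def_BrauerPairs
import Cfsg.Prelude.Def_Local
import Cfsg.Agent.Lib.helper3.PType3
import Cfsg.Agent.Lib.Lead.PSolvable
import Cfsg.Agent.H2.PPrimeCore

/-!
# Blocks of principal type: the statement, from the two local inputs
-/

set_option autoImplicit false
set_option linter.style.haveILetI false
set_option linter.unusedSectionVars false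
set_option linter.unusedVariables false
set_option maxHeartbeats 1000000

namespace Cfsg.Agent.Lib.helper3.PType

open Cfsg Cfsg.Agent.Lib.helper3.Irr Cfsg.Agent.Lib.helper3.CharBasic
open Cfsg.Agent.Lib.helper3.IndFun Cfsg.Agent.Lib.helper3.Block Cfsg.Agent.Lib.helper3.FongB
open Cfsg.Agent.Lib.helper3.LocalM Cfsg.Agent.Lib.helper3.GNS
open scoped ComplexConjugate

universe u

theorem principal_type {G : Type u} [Group G] [Fintype G] (p : ℕ) [hp : Fact p.Prime]
    (M : Ideal AlgInt) (hM : IsPModular p M) (K : Subgroup G) (hK : K = pPrimeCore p G)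
    [Fintype K] (L : Subgroup G) (hL : L = pPrimePCore p G) (Q : Subgroup G) (hQL : Q ≤ L)
    (hQp : IsPGroup p Q) (hQS : ¬ p ∣ Q.relIndex L)
    (hCQ : Subgroup.centralizer (Q : Set G) ≤ L) (θ : IrrCharacter K)
    (hθ : ∀ g : G, IsConjCharOf K g (θ : K → ℂ) (θ : K → ℂ))
    (B : Set (IrrCharacter G))
    (hBdef : ∀ χ : IrrCharacter G, χ ∈ B ↔
      classInner (fun k : K => (χ : G → ℂ) k) (θ : K → ℂ) ≠ 0)
    (P1 : ∀ R : Subgroup G, IsPGroup p R →
      ∃ (L' Q' : Subgroup ↥(Subgroup.centralizer (R : Set G))) (k : ℕ), L'.Normal ∧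
        (K ⊓ Subgroup.centralizer (R : Set G)).subgroupOf (Subgroup.centralizer (R : Set G)) ≤ L' ∧
        ((K ⊓ Subgroup.centralizer (R : Set G)).subgroupOf
          (Subgroup.centralizer (R : Set G))).relIndex L' = p ^ k ∧ Q' ≤ L' ∧ IsPGroup p Q' ∧
        Subgroup.centralizer (Q' : Set ↥(Subgroup.centralizer (R : Set G))) ≤ L')
    (P2 : ∀ R : Subgroup G, IsPGroup p R →
      ∃ θs : IrrCharacter ↥(K ⊓ Subgroup.centralizer (R : Set G)),
        (∃ a : ℕ, ip (res (inf_le_left : K ⊓ Subgroup.centralizer (R : Set G) ≤ K)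
          (θ : K → ℂ)) (θs : ↥(K ⊓ Subgroup.centralizer (R : Set G)) → ℂ) = a ∧ ¬ p ∣ a) ∧
        (∀ φ : IrrCharacter ↥(K ⊓ Subgroup.centralizer (R : Set G)), φ ≠ θs →
          ∃ a : ℕ, ip (res (inf_le_left : K ⊓ Subgroup.centralizer (R : Set G) ≤ K)
          (θ : K → ℂ)) (φ : ↥(K ⊓ Subgroup.centralizer (R : Set G)) → ℂ) = a ∧ p ∣ a) ∧
        ∀ c ∈ Subgroup.centralizer (R : Set G),
          IsConjCharOf (K ⊓ Subgroup.centralizer (R : Set G)) c
            (θs : ↥(K ⊓ Subgroup.centralizer (R : Set G)) → ℂ)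
            (θs : ↥(K ⊓ Subgroup.centralizer (R : Set G)) → ℂ)) :
    IsPBlock M B ∧ (∀ S : Sylow p G, IsDefectGroup p M B S) ∧
      ∀ R : Subgroup G, IsPGroup p R →
        ∃! f : Set (IrrCharacter (Subgroup.centralizer (R : Set G))),
          IsInducedBlock M (Subgroup.centralizer (R : Set G)) f B := by
  classical
  haveI hMp := isPrime_of_isPModular hM
  haveI hKn : K.Normal := by
    rw [hK]
    exact Cfsg.Agent.H1.pPrimeCore_normal p
  haveI hLn : L.Normal := by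
    rw [hL]
    infer_instance
  have hKc : (Nat.card ↥K).Coprime p := by
    rw [hK]
    exact Cfsg.Agent.H1.pPrimeCore_coprime p
  have hNp : ¬ p ∣ Nat.card ↥K :=
    (Nat.Prime.coprime_iff_not_dvd hp.out).1 hKc.symm
  have hNL : K ≤ L := by
    rw [hK, hL]
    exact Cfsg.Agent.Lib.Lead.PSolvable.pPrimeCore_le_pPrimePCore
  obtain ⟨a, ha⟩ := IsPGroup.iff_card.mp
    (Cfsg.Agent.H1.pCore_isPGroup (G := G ⧸ Cfsg.pPrimeCore p G) p)
  have hMcard : Nat.card ↥(Cfsg.pPrimePCore p G) =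
      Nat.card ↥(Cfsg.pCore p (G ⧸ Cfsg.pPrimeCore p G)) * Nat.card ↥(Cfsg.pPrimeCore p G) :=
    Cfsg.Agent.H2.card_comap_mk' (Cfsg.pPrimeCore p G) (Cfsg.pCore p (G ⧸ Cfsg.pPrimeCore p G))
  have hidx : K.relIndex L = p ^ a := by
    have h1 := Subgroup.card_mul_index (K.subgroupOf L)
    have h2 : Nat.card ↥(K.subgroupOf L) = Nat.card ↥K :=
      Nat.card_congr (Subgroup.subgroupOfEquivOfLe hNL).toEquiv
    have h3 : Nat.card ↥L = p ^ a * Nat.card ↥K := by
      rw [hL, hK, hMcard, ha]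
    rw [h2, h3, mul_comm] at h1
    exact Nat.eq_of_mul_eq_mul_right Nat.card_pos h1
  have hinv : ∀ (g : G) (n : K),
      (θ : K → ℂ) ⟨g * n * g⁻¹, hKn.conj_mem n n.2 g⟩ = (θ : K → ℂ) n := by
    intro g n
    exact hθ g n ⟨g * n * g⁻¹, hKn.conj_mem n n.2 g⟩ rfl
  have hBeq : B = irrOver K (θ : K → ℂ) := by
    ext χ
    exact hBdef χ
  subst hBeq
  have hB := isPBlock_irrOver hM K L Q hNL hNp a hidx hQL hQp hCQ θ hinv
  have hcard := card_of_isDefectGroup_irrOver hM K hNp θ hinv hB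
  refine ⟨hB, ?_, ?_⟩
  · intro S
    exact isDefectGroup_sylow hM _ hB hcard S
  · intro R hR
    obtain ⟨L', Q', k, hL'n, hNL', hidx', hQ'L', hQ'p, hCQ'⟩ := P1 R hR
    obtain ⟨θs, h1, h2, h3⟩ := P2 R hR
    exact exists_unique_induced hM K hNp θ hinv hB R hR θs h1 h2 h3 L' Q' k hL'n hNL' hidx'
      hQ'L' hQ'p hCQ'

end Cfsg.Agent.Lib.helper3.PType
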