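import Mathlib
import Cfsg.Prelude.Def_Characters
import Cfsg.Prelude.Def_Blocks
import Cfsg.Agent.Lib.helper3.Pdeg2
import Cfsg.Agent.Lib.helper3.GlS2

/-!
# Characters of degree coprime to `|H|` in `G = K ⋊ H` and in `N_G(H)`
-/

set_option autoImplicit false
set_option linter.style.haveILetI false
set_option linter.unusedSectionVars false

namespace Cfsg.Agent.Lib.helper3.Pdeg

open Cfsg Module Cfsg.Agent.Lib.helper3.Irr Cfsg.Agent.Lib.helper3.CharBasic
open Cfsg.Agent.Lib.helper3.GlP Cfsg.Agent.Lib.helper3.GlS Cfsg.Agent.Lib.helper3.GlSub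
open scoped ComplexConjugate

universe u

variable {G : Type u} [Group G] [Finite G]

/-- Elements of `G = K H` factor. -/
theorem exists_mul_of_sup_eq_top (K H : Subgroup G) [hK : K.Normal] (hKH : K ⊔ H = ⊤) (g : G) :
    ∃ k ∈ K, ∃ h ∈ H, g = k * h := by
  have hg : g ∈ ((K ⊔ H : Subgroup G) : Set G) := by
    rw [hKH]
    exact Subgroup.mem_top g
  rw [Subgroup.normal_mul] at hg
  obtain ⟨k, hk, h, hh, rfl⟩ := Set.mem_mul.mp hg
  exact ⟨k, hk, h, hh, rfl⟩

/-- The complement maps isomorphically onto the quotient. -/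
theorem quot_bijective (K H : Subgroup G) [hK : K.Normal] (hKH : K ⊔ H = ⊤)
    (h0 : K ⊓ H = ⊥) :
    Function.Bijective ((QuotientGroup.mk' K).comp H.subtype) := by
  constructor
  · rw [injective_iff_map_eq_one]
    intro h hh
    have h1 : (h : G) ∈ K := by
      have : (QuotientGroup.mk' K) (h : G) = 1 := hh
      exact (QuotientGroup.eq_one_iff _).mp this
    have h2 : (h : G) ∈ K ⊓ H := ⟨h1, h.2⟩
    rw [h0, Subgroup.mem_bot] at h2
    exact Subtype.ext h2
  · intro x
    obtain ⟨g, rfl⟩ := QuotientGroup.mk'_surjective K x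
    obtain ⟨k, hk, h, hh, rfl⟩ := exists_mul_of_sup_eq_top K H hKH g
    refine ⟨⟨h, hh⟩, ?_⟩
    show (QuotientGroup.mk' K) h = (QuotientGroup.mk' K) (k * h)
    have hk1 : (QuotientGroup.mk' K) k = 1 := (QuotientGroup.eq_one_iff k).mpr hk
    rw [map_mul, hk1, one_mul]

theorem index_eq_card_of_sup_eq_top (K H : Subgroup G) [hK : K.Normal] (hKH : K ⊔ H = ⊤)
    (h0 : K ⊓ H = ⊥) : K.index = Nat.card H := by
  rw [Subgroup.index_eq_card]
  exact (Nat.card_eq_of_bijective _ (quot_bijective K H hKH h0)).symm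

theorem solvable_quot_of_sup_eq_top (K H : Subgroup G) [hK : K.Normal] (hKH : K ⊔ H = ⊤)
    (h0 : K ⊓ H = ⊥) (hsolv : Group.IsSolvable H) : Group.IsSolvable (G ⧸ K) :=
  Group.isSolvable_of_surjective (quot_bijective K H hKH h0).2

/-- An element of `K` normalising `H` centralises `H`, when `K ∩ H = 1`. -/
theorem commute_of_mem_normalizer (K H : Subgroup G) [hK : K.Normal] (h0 : K ⊓ H = ⊥)
    (x : G) (hxK : x ∈ K) (hxN : x ∈ Subgroup.normalizer (H : Set G)) (h : G) (hh : h ∈ H) :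
    h * x = x * h := by
  have h1 : x * h * x⁻¹ ∈ H := (Subgroup.mem_normalizer_iff.mp hxN h).mp hh
  have h2 : x * h * x⁻¹ * h⁻¹ ∈ H := H.mul_mem h1 (H.inv_mem hh)
  have h3 : x * h * x⁻¹ * h⁻¹ ∈ K := by
    have := hK.conj_mem x⁻¹ (K.inv_mem hxK) h
    have h4 := K.mul_mem hxK this
    have h5 : x * (h * x⁻¹ * h⁻¹) = x * h * x⁻¹ * h⁻¹ := by group
    rwa [h5] at h4
  have h4 : x * h * x⁻¹ * h⁻¹ ∈ K ⊓ H := ⟨h3, h2⟩
  rw [h0, Subgroup.mem_bot] at h4
  calc h * x = (x * h * x⁻¹ * h⁻¹)⁻¹ * (x * h) := by group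
    _ = x * h := by rw [h4]; simp

/-- The count for `G = K ⋊ H`. -/
theorem card_deg_G (K H : Subgroup G) [hK : K.Normal] (hKH : K ⊔ H = ⊤)
    (hcop : (Nat.card K).Coprime (Nat.card H)) (hsolv : Group.IsSolvable H) :
    Nat.card {χ : IrrCharacter G // (charDegree (χ : G → ℂ)).Coprime (Nat.card H)}
      = Nat.card (IrrCharacter ↥(K ⊓ Subgroup.centralizer (H : Set G)))
        * Nat.card {lam : IrrCharacter (G ⧸ K) // (lam : G ⧸ K → ℂ) 1 = 1} := by
  classical
  letI : Fintype G := Fintype.ofFinite G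
  have h0 : K ⊓ H = ⊥ := (Subgroup.disjoint_of_coprime_natCard hcop).eq_bot
  have hidx := index_eq_card_of_sup_eq_top K H hKH h0
  have hsq := solvable_quot_of_sup_eq_top K H hKH h0 hsolv
  have key := card_coprime_degree K (hidx ▸ hcop) hsq
  rw [hidx] at key
  rw [key]
  congr 1
  have hnormK : H ≤ Subgroup.normalizer (K : Set G) := by
    rw [Subgroup.normalizer_eq_top]
    exact le_top
  rw [← card_inv_irr (Nat.card K) K rfl H hsolv hnormK hcop _ rfl]
  apply Nat.card_congr (Equiv.subtypeEquivRight _)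
  intro θ
  have hcfθ := isClassFunction_of_isCharacter (isCharacter_of_isIrrCharacter θ.2)
  constructor
  · intro hinv s hs g g' hgg'
    rw [← hinv s g]
    apply congrArg (θ : K → ℂ)
    exact Subtype.ext hgg'
  · intro hinv g n
    obtain ⟨k, hk, h, hh, rfl⟩ := exists_mul_of_sup_eq_top K H hKH g
    have h1 : h * n * h⁻¹ ∈ K := hK.conj_mem n n.2 h
    have h2 := hinv h hh n ⟨h * n * h⁻¹, h1⟩ rfl
    rw [← h2, ← hcfθ ⟨h * n * h⁻¹, h1⟩ ⟨k, hk⟩]
    apply congrArg (θ : K → ℂ)
    apply Subtype.ext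
    push_cast
    group

/-- The part of `K` in the normalizer of `H` is the centralizer of `H` in `K`. -/
noncomputable def subEquiv (K H N : Subgroup G) [hK : K.Normal]
    (hN : N = Subgroup.normalizer (H : Set G)) (h0 : K ⊓ H = ⊥) :
    K.subgroupOf N ≃* ↥(K ⊓ Subgroup.centralizer (H : Set G)) where
  toFun x := ⟨((x : N) : G), Subgroup.mem_subgroupOf.mp x.2,
    Subgroup.mem_centralizer_iff.mpr (fun h hh =>
      commute_of_mem_normalizer K H h0 _ (Subgroup.mem_subgroupOf.mp x.2) (hN ▸ (x : N).2) h hh)⟩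
  invFun c := ⟨⟨(c : G), hN ▸ Subgroup.centralizer_le_normalizer (H : Set G) c.2.2⟩,
    Subgroup.mem_subgroupOf.mpr c.2.1⟩
  left_inv _ := rfl
  right_inv _ := rfl
  map_mul' _ _ := rfl

/-- The count for the normalizer of `H`. -/
theorem card_deg_N (K H N : Subgroup G) [hK : K.Normal] (hKH : K ⊔ H = ⊤)
    (hcop : (Nat.card K).Coprime (Nat.card H)) (hsolv : Group.IsSolvable H)
    (hN : N = Subgroup.normalizer (H : Set G)) :
    Nat.card {η : IrrCharacter N // (charDegree (η : N → ℂ)).Coprime (Nat.card H)}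
      = Nat.card (IrrCharacter ↥(K ⊓ Subgroup.centralizer (H : Set G)))
        * Nat.card {lam : IrrCharacter (G ⧸ K) // (lam : G ⧸ K → ℂ) 1 = 1} := by
  classical
  letI : Fintype N := Fintype.ofFinite N
  have h0 : K ⊓ H = ⊥ := (Subgroup.disjoint_of_coprime_natCard hcop).eq_bot
  have hHN : H ≤ N := hN ▸ Subgroup.le_normalizer
  obtain ⟨K', hK'⟩ : ∃ K' : Subgroup N, K' = K.subgroupOf N := ⟨_, rfl⟩
  obtain ⟨H', hH'⟩ : ∃ H' : Subgroup N, H' = H.subgroupOf N := ⟨_, rfl⟩
  haveI hK'n : K'.Normal := by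
    rw [hK']
    infer_instance
  have hsup : K' ⊔ H' = ⊤ := by
    rw [eq_top_iff]
    intro n _
    obtain ⟨k, hk, h, hh, hn⟩ := exists_mul_of_sup_eq_top K H hKH (n : G)
    have hkN : k ∈ N := by
      have : k = (n : G) * h⁻¹ := by rw [hn]; group
      rw [this]
      exact N.mul_mem n.2 (N.inv_mem (hHN hh))
    have hn' : n = (⟨k, hkN⟩ : N) * ⟨h, hHN hh⟩ := Subtype.ext hn
    rw [hn']
    apply Subgroup.mul_mem_sup
    · rw [hK', Subgroup.mem_subgroupOf]
      exact hk
    · rw [hH', Subgroup.mem_subgroupOf]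
      exact hh
  have hcardH' : Nat.card H' = Nat.card H := by
    rw [hH']
    exact Nat.card_congr (Subgroup.subgroupOfEquivOfLe hHN).toEquiv
  have hcardK' : Nat.card K' ∣ Nat.card K := by
    rw [hK', Nat.card_congr (subEquiv K H N hN h0).toEquiv]
    exact Subgroup.card_dvd_of_le inf_le_left
  have hcop' : (Nat.card K').Coprime (Nat.card H') := by
    rw [hcardH']
    exact Nat.Coprime.coprime_dvd_left hcardK' hcop
  have h0' : K' ⊓ H' = ⊥ := (Subgroup.disjoint_of_coprime_natCard hcop').eq_bot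
  have hsolv' : Group.IsSolvable H' := by
    rw [hH']
    exact Group.isSolvable_of_surjective (f := (Subgroup.subgroupOfEquivOfLe hHN).symm.toMonoidHom)
      (Subgroup.subgroupOfEquivOfLe hHN).symm.surjective
  have hidx := index_eq_card_of_sup_eq_top K' H' hsup h0'
  have hsq := solvable_quot_of_sup_eq_top K' H' hsup h0' hsolv'
  have key := card_coprime_degree K' (hidx ▸ hcop') hsq
  rw [hidx, hcardH'] at key
  rw [key]
  congr 1
  · -- every irreducible character of `K'` is invariant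
    have hall : ∀ θ : IrrCharacter K', ∀ (g : N) (n : K'),
        (θ : K' → ℂ) ⟨g * n * g⁻¹, hK'n.conj_mem n n.2 g⟩ = (θ : K' → ℂ) n := by
      intro θ g n
      have hcfθ := isClassFunction_of_isCharacter (isCharacter_of_isIrrCharacter θ.2)
      obtain ⟨k, hk, h, hh, rfl⟩ := exists_mul_of_sup_eq_top K' H' hsup g
      rw [← hcfθ n ⟨k, hk⟩]
      apply congrArg (θ : K' → ℂ)
      apply Subtype.ext
      apply Subtype.ext
      have hnK : ((n : N) : G) ∈ K := Subgroup.mem_subgroupOf.mp (hK'.le n.2)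
      have hhH : (h : G) ∈ H := by
        rw [hH', Subgroup.mem_subgroupOf] at hh
        exact hh
      have hc := commute_of_mem_normalizer K H h0 ((n : N) : G) hnK (hN ▸ (n : N).2) (h : G) hhH
      push_cast
      calc (k : G) * (h : G) * ((n : N) : G) * ((k : G) * (h : G))⁻¹
          = (k : G) * ((h : G) * ((n : N) : G)) * (h : G)⁻¹ * (k : G)⁻¹ := by group
        _ = (k : G) * (((n : N) : G) * (h : G)) * (h : G)⁻¹ * (k : G)⁻¹ := by rw [hc]
        _ = (k : G) * ((n : N) : G) * (k : G)⁻¹ := by group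
    rw [Nat.card_congr (Equiv.subtypeUnivEquiv hall)]
    subst hK'
    exact Nat.card_congr (irrEquiv (subEquiv K H N hN h0)).symm
  · -- the quotients are isomorphic
    obtain ⟨f, hf⟩ : ∃ f : N →* G ⧸ K, f = (QuotientGroup.mk' K).comp N.subtype := ⟨_, rfl⟩
    have hker : f.ker = K' := by
      ext x
      rw [MonoidHom.mem_ker, hf, hK', Subgroup.mem_subgroupOf]
      exact QuotientGroup.eq_one_iff (x : G)
    have hsurj : Function.Surjective f := by
      intro x
      obtain ⟨g, rfl⟩ := QuotientGroup.mk'_surjective K x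
      obtain ⟨k, hk, h, hh, rfl⟩ := exists_mul_of_sup_eq_top K H hKH g
      refine ⟨⟨h, hHN hh⟩, ?_⟩
      rw [hf]
      show (QuotientGroup.mk' K) h = (QuotientGroup.mk' K) (k * h)
      have hk1 : (QuotientGroup.mk' K) k = 1 := (QuotientGroup.eq_one_iff k).mpr hk
      rw [map_mul, hk1, one_mul]
    subst hker
    obtain ⟨φ, hφ⟩ : ∃ φ : N ⧸ f.ker ≃* G ⧸ K,
      φ = QuotientGroup.quotientKerEquivOfSurjective f hsurj := ⟨_, rfl⟩
    apply Nat.card_congr
    exact (Equiv.subtypeEquiv (irrEquiv φ) (by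
      intro lam
      rw [irrEquiv_apply, map_one])).symm

end Cfsg.Agent.Lib.helper3.Pdeg
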