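import Mathlib
import Cfsg.Prelude.Def_Characters
import Cfsg.Agent.Lib.helper3.Pf4d
import Cfsg.Agent.Lib.helper3.Pf4e
import Cfsg.Agent.Lib.helper3.IndLin
import Cfsg.Agent.Lib.helper3.BrauerChar

/-!
# Semidirect products `K ⋊ W₁` with a common centralizer: the characters `μ_ω`
-/

set_option autoImplicit false
set_option linter.style.haveILetI false
set_option linter.unusedSectionVars false

namespace Cfsg.Agent.Lib.helper3.Pf4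

open Cfsg Cfsg.Agent.Lib.helper3.Irr Cfsg.Agent.Lib.helper3.CharBasic
open Cfsg.Agent.Lib.helper3.IndFun Cfsg.Agent.Lib.helper3.IndFunTI
open Cfsg.Agent.Lib.helper3.CycTI Cfsg.Agent.Lib.helper3.Lin Cfsg.Agent.Lib.helper3.TwoDeg
open Cfsg.Agent.Lib.helper3.BrauerInd
open scoped ComplexConjugate

universe u

section main

variable {L : Type u} [Group L] [Fintype L] (K W₁ W₂ : Subgroup L) [hK : K.Normal]

/-- The hypotheses. -/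
structure Hyp : Prop where
  hKW₁ : K ⊓ W₁ = ⊥
  hKW₁' : K ⊔ W₁ = ⊤
  hW₁ : W₁ ≠ ⊥
  hW₁c : IsCyclic W₁
  hHall : Nat.Coprime (Nat.card W₁) W₁.index
  hW₂c : IsCyclic W₂
  hW₂K : W₂ ≤ K
  hC : ∀ x ∈ W₁, x ≠ 1 → K ⊓ Subgroup.centralizer ({x} : Set L) = W₂

/-- Two linear characters of `W` agreeing on `W₂`. -/
def Agree (ω ω' : ↥(W₁ ⊔ W₂) →* ℂˣ) : Prop :=
  ∀ w : ↥(W₁ ⊔ W₂), (w : L) ∈ W₂ → ω w = ω' w

/-- The support set. -/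
def suppSet : Set L := {x | x ∈ W₁ ⊔ W₂ ∧ x ∉ W₂}

variable {K W₁ W₂}

theorem Agree.refl (ω : ↥(W₁ ⊔ W₂) →* ℂˣ) : Agree W₁ W₂ ω ω := fun _ _ => rfl

theorem Agree.symm {ω ω' : ↥(W₁ ⊔ W₂) →* ℂˣ} (h : Agree W₁ W₂ ω ω') : Agree W₁ W₂ ω' ω :=
  fun w hw => (h w hw).symm

theorem Agree.trans {ω ω' ω'' : ↥(W₁ ⊔ W₂) →* ℂˣ} (h : Agree W₁ W₂ ω ω')
    (h' : Agree W₁ W₂ ω' ω'') : Agree W₁ W₂ ω ω'' :=
  fun w hw => (h w hw).trans (h' w hw)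

theorem Hyp.control (h : Hyp K W₁ W₂) :
    ∀ g : L, ∀ a ∈ suppSet W₁ W₂, g * a * g⁻¹ ∈ suppSet W₁ W₂ → g ∈ W₁ ⊔ W₂ := by
  intro g a ha hga
  exact mem_sup_of_conj_mem K W₁ W₂ h.hKW₁ h.hKW₁' h.hW₁c h.hHall h.hW₂K h.hC ha.1 ha.2 hga.1

theorem sub_vanish {ω ω' : ↥(W₁ ⊔ W₂) →* ℂˣ} (hA : Agree W₁ W₂ ω ω') :
    ∀ x : ↥(W₁ ⊔ W₂), (x : L) ∉ suppSet W₁ W₂ → (linFun ω - linFun ω') x = 0 := by
  intro x hx
  have hx2 : (x : L) ∈ W₂ := by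
    by_contra h2
    exact hx ⟨x.2, h2⟩
  rw [Pi.sub_apply, linFun, linFun, hA x hx2, sub_self]

theorem isClassFunction_sub_linFun (ω ω' : ↥(W₁ ⊔ W₂) →* ℂˣ) :
    IsClassFunction ↥(W₁ ⊔ W₂) (linFun ω - linFun ω') := by
  intro g x
  have h1 := isClassFunction_of_isCharacter (isCharacter_of_hom ω) g x
  have h2 := isClassFunction_of_isCharacter (isCharacter_of_hom ω') g x
  simp only [Pi.sub_apply, linFun]
  rw [h1, h2]

open Classical in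
/-- The Gram matrix of the induced differences. -/
theorem Hyp.classInner_ind_diff (h : Hyp K W₁ W₂) {ω₁ ω₁' ω₂ ω₂' : ↥(W₁ ⊔ W₂) →* ℂˣ}
    (h1 : Agree W₁ W₂ ω₁ ω₁') (h2 : Agree W₁ W₂ ω₂ ω₂') :
    classInner (indFun (W₁ ⊔ W₂) (linFun ω₁ - linFun ω₁'))
      (indFun (W₁ ⊔ W₂) (linFun ω₂ - linFun ω₂')) =
      (if ω₁ = ω₂ then 1 else 0) - (if ω₁ = ω₂' then 1 else 0) -
        ((if ω₁' = ω₂ then 1 else 0) - (if ω₁' = ω₂' then 1 else 0)) := by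
  letI : Fintype ↥(W₁ ⊔ W₂) := Fintype.ofFinite _
  rw [classInner_indFun_of_control (W₁ ⊔ W₂) (suppSet W₁ W₂) h.control _ _
    (isClassFunction_sub_linFun ω₂ ω₂') (sub_vanish h1) (sub_vanish h2)]
  rw [classInner_sub_left, classInner_sub_right, classInner_sub_right, classInner_linFun,
    classInner_linFun, classInner_linFun, classInner_linFun]
  congr!

theorem isGeneralizedCharacter_ind_diff (ω ω' : ↥(W₁ ⊔ W₂) →* ℂˣ) :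
    IsGeneralizedCharacter L (indFun (W₁ ⊔ W₂) (linFun ω - linFun ω')) := by
  rw [indFun_sub']
  exact ⟨_, _, isCharacter_indFun _ _ (isCharacter_of_hom ω),
    isCharacter_indFun _ _ (isCharacter_of_hom ω'), rfl⟩

/-- The family of exceptional characters attached to one class of linear characters. -/
theorem Hyp.exists_family (h : Hyp K W₁ W₂) (ω₀ : ↥(W₁ ⊔ W₂) →* ℂˣ) :
    ∃ ε : ℂ, (ε = 1 ∨ ε = -1) ∧
      ∃ ν : {ω : ↥(W₁ ⊔ W₂) →* ℂˣ // Agree W₁ W₂ ω ω₀} → (L → ℂ),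
        (∀ i, IsIrrCharacter L (ν i)) ∧ Function.Injective ν ∧
        ∀ i, indFun (W₁ ⊔ W₂) (linFun i.1 - linFun ω₀) =
          ε • (ν i - ν ⟨ω₀, Agree.refl ω₀⟩) := by
  classical
  letI : Fintype {ω : ↥(W₁ ⊔ W₂) →* ℂˣ // Agree W₁ W₂ ω ω₀} := Fintype.ofFinite _
  apply exceptional_isometry' (⟨ω₀, Agree.refl ω₀⟩ :
    {ω : ↥(W₁ ⊔ W₂) →* ℂˣ // Agree W₁ W₂ ω ω₀})
    (fun i => indFun (W₁ ⊔ W₂) (linFun i.1 - linFun ω₀))
  · simp only [sub_self]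
    exact indFun_zero _
  · intro i
    exact isGeneralizedCharacter_ind_diff _ _
  · intro i
    apply indFun_one_of_apply_one_eq_zero
    simp [linFun]
  · intro i j hi hj
    rw [h.classInner_ind_diff i.2 j.2]
    have hi' : i.1 ≠ ω₀ := fun e => hi (Subtype.ext e)
    have hj' : ω₀ ≠ j.1 := fun e => hj (Subtype.ext e.symm)
    rw [if_neg hi', if_neg hj', if_pos rfl]
    by_cases hij : i = j
    · rw [if_pos hij, if_pos (congrArg Subtype.val hij)]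
      norm_num
    · rw [if_neg hij, if_neg (fun e => hij (Subtype.ext e))]
      norm_num

/-- Representatives of the classes. -/
theorem exists_rep (W₁ W₂ : Subgroup L) : ∃ rep : (↥(W₁ ⊔ W₂) →* ℂˣ) → (↥(W₁ ⊔ W₂) →* ℂˣ),
    (∀ ω, Agree W₁ W₂ (rep ω) ω) ∧ ∀ ω ω', Agree W₁ W₂ ω ω' → rep ω = rep ω' := by
  obtain ⟨s, hs⟩ : ∃ s : Setoid (↥(W₁ ⊔ W₂) →* ℂˣ), ∀ a b, s.r a b ↔ Agree W₁ W₂ a b :=
    ⟨⟨Agree W₁ W₂, ⟨Agree.refl, Agree.symm, Agree.trans⟩⟩, fun a b => Iff.rfl⟩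
  refine ⟨fun ω => Quotient.out (Quotient.mk s ω), ?_, ?_⟩
  · intro ω
    rw [← hs]
    exact Quotient.exact (Quotient.out_eq _)
  · intro ω ω' hA
    have : Quotient.mk s ω = Quotient.mk s ω' := Quotient.sound ((hs _ _).mpr hA)
    simp only [this]

/-- The characters `μ_ω` and signs `δ_ω`: the core properties. -/
theorem Hyp.exists_mu_delta (h : Hyp K W₁ W₂) :
    ∃ (μ : (↥(W₁ ⊔ W₂) →* ℂˣ) → (L → ℂ)) (δ : (↥(W₁ ⊔ W₂) →* ℂˣ) → ℂ),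
      (∀ ω, IsIrrCharacter L (μ ω)) ∧ (∀ ω, δ ω = 1 ∨ δ ω = -1) ∧
      (∀ ω ω', Agree W₁ W₂ ω ω' → δ ω = δ ω' ∧
        indFun (W₁ ⊔ W₂) (linFun ω - linFun ω') = δ ω • (μ ω - μ ω')) ∧
      (∀ ω ω', Agree W₁ W₂ ω ω' → μ ω = μ ω' → ω = ω') := by
  classical
  choose ε hε ν hνirr hνinj hν using h.exists_family
  obtain ⟨rep, hrep, hrepeq⟩ := exists_rep W₁ W₂
  obtain ⟨μ, hμdef⟩ : ∃ μ : (↥(W₁ ⊔ W₂) →* ℂˣ) → (L → ℂ),
      ∀ ω, μ ω = ν (rep ω) ⟨ω, (hrep ω).symm⟩ := ⟨fun ω => ν (rep ω) ⟨ω, (hrep ω).symm⟩, fun _ => rfl⟩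
  obtain ⟨δ, hδdef⟩ : ∃ δ : (↥(W₁ ⊔ W₂) →* ℂˣ) → ℂ, ∀ ω, δ ω = ε (rep ω) :=
    ⟨fun ω => ε (rep ω), fun _ => rfl⟩
  have key : ∀ ω r, rep ω = r → ∀ hA : Agree W₁ W₂ ω r, μ ω = ν r ⟨ω, hA⟩ := by
    intro ω r hr hA
    subst hr
    exact hμdef ω
  refine ⟨μ, δ, ?_, ?_, ?_, ?_⟩
  · intro ω
    rw [hμdef]
    exact hνirr _ _
  · intro ω
    rw [hδdef]
    exact hε _
  · intro ω ω' hA
    have hr : rep ω' = rep ω := hrepeq ω' ω hA.symm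
    have hA1 : Agree W₁ W₂ ω (rep ω) := (hrep ω).symm
    have hA2 : Agree W₁ W₂ ω' (rep ω) := hA.symm.trans hA1
    refine ⟨by rw [hδdef, hδdef, hr], ?_⟩
    rw [key ω (rep ω) rfl hA1, key ω' (rep ω) hr hA2, hδdef]
    have e1 := hν (rep ω) ⟨ω, hA1⟩
    have e2 := hν (rep ω) ⟨ω', hA2⟩
    have e3 : linFun ω - linFun ω' =
        (linFun ω - linFun (rep ω)) - (linFun ω' - linFun (rep ω)) := by abel
    rw [e3, indFun_sub', e1, e2, ← smul_sub]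
    congr 1
    abel
  · intro ω ω' hA hμeq
    have hr : rep ω' = rep ω := hrepeq ω' ω hA.symm
    have hA1 : Agree W₁ W₂ ω (rep ω) := (hrep ω).symm
    have hA2 : Agree W₁ W₂ ω' (rep ω) := hA.symm.trans hA1
    rw [key ω (rep ω) rfl hA1, key ω' (rep ω) hr hA2] at hμeq
    exact congrArg Subtype.val (hνinj _ hμeq)

end main

end Cfsg.Agent.Lib.helper3.Pf4
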