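import Mathlib
import Cfsg.Prelude.Def_Characters
import Cfsg.Agent.Lib.helper3.Pf4f
import Cfsg.Agent.Lib.helper3.GenChar
import Cfsg.Agent.Lib.helper3.Coh6

/-!
# Semidirect products `K ⋊ W₁` with a common centralizer: properties of the characters `μ_ω`
-/

set_option autoImplicit false
set_option linter.style.haveILetI false
set_option linter.unusedSectionVars false

namespace Cfsg.Agent.Lib.helper3.Pf4

open Cfsg Cfsg.Agent.Lib.helper3.Irr Cfsg.Agent.Lib.helper3.CharBasic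
open Cfsg.Agent.Lib.helper3.IndFun Cfsg.Agent.Lib.helper3.IndFunTI
open Cfsg.Agent.Lib.helper3.CycTI Cfsg.Agent.Lib.helper3.Lin Cfsg.Agent.Lib.helper3.TwoDeg
open Cfsg.Agent.Lib.helper3.BrauerInd
open scoped ComplexConjugate

universe u

section derive

variable {L : Type u} [Group L] [Fintype L] {K W₁ W₂ : Subgroup L} [hK : K.Normal]

theorem Hyp.inf_eq_bot (h : Hyp K W₁ W₂) {a : L} (ha : a ∈ W₁) (ha2 : a ∈ W₂) : a = 1 := by
  have : a ∈ K ⊓ W₁ := Subgroup.mem_inf.mpr ⟨h.hW₂K ha2, ha⟩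
  rw [h.hKW₁] at this
  exact Subgroup.mem_bot.mp this

/-- `W` is commutative. -/
theorem Hyp.sup_comm (h : Hyp K W₁ W₂) : ∀ a b : ↥(W₁ ⊔ W₂), a * b = b * a := by
  intro a b
  have hc := commute_of_mem K W₁ W₂ h.hW₂K h.hC
  have hc1 := comm_of_isCyclic W₁ h.hW₁c
  have hc2 := comm_of_isCyclic W₂ h.hW₂c
  obtain ⟨a₁, ha₁, a₂, ha₂, hae⟩ := exists_mul_of_mem_sup K W₁ W₂ h.hW₂K h.hC a.2
  obtain ⟨b₁, hb₁, b₂, hb₂, hbe⟩ := exists_mul_of_mem_sup K W₁ W₂ h.hW₂K h.hC b.2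
  apply Subtype.ext
  simp only [Subgroup.coe_mul]
  rw [hae, hbe]
  calc a₁ * a₂ * (b₁ * b₂) = a₁ * (a₂ * b₁) * b₂ := by group
    _ = a₁ * (b₁ * a₂) * b₂ := by rw [hc b₁ hb₁ a₂ ha₂]
    _ = (a₁ * b₁) * (a₂ * b₂) := by group
    _ = (b₁ * a₁) * (b₂ * a₂) := by rw [hc1 a₁ ha₁ b₁ hb₁, hc2 a₂ ha₂ b₂ hb₂]
    _ = b₁ * (a₁ * b₂) * a₂ := by group
    _ = b₁ * (b₂ * a₁) * a₂ := by rw [hc a₁ ha₁ b₂ hb₂]
    _ = b₁ * b₂ * (a₁ * a₂) := by group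

theorem Hyp.exists_hom (h : Hyp K W₁ W₂) (x : ↥(W₁ ⊔ W₂)) (hx : (x : L) ∉ W₂) :
    ∃ β : ↥(W₁ ⊔ W₂) →* ℂˣ, (∀ ω, Agree W₁ W₂ (β * ω) ω) ∧ β x ≠ 1 := by
  obtain ⟨β, hβ1, hβ2⟩ := exists_hom_ne_one K W₁ W₂ h.hKW₁ h.hKW₁' h.hW₁c h.hW₂K h.hC x hx
  refine ⟨β, ?_, hβ2⟩
  intro ω w hw
  rw [MonoidHom.mul_apply, hβ1 w hw, one_mul]

/-- Each class has at least two members. -/
theorem Hyp.exists_ne_agree (h : Hyp K W₁ W₂) (ω : ↥(W₁ ⊔ W₂) →* ℂˣ) :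
    ∃ ω₁, ω₁ ≠ ω ∧ Agree W₁ W₂ ω₁ ω := by
  obtain ⟨a, ha, ha1⟩ : ∃ a ∈ W₁, a ≠ 1 := by
    by_contra hno
    push Not at hno
    apply h.hW₁
    rw [eq_bot_iff]
    intro a ha
    exact Subgroup.mem_bot.mpr (hno a ha)
  have hx : ((⟨a, Subgroup.mem_sup_left ha⟩ : ↥(W₁ ⊔ W₂)) : L) ∉ W₂ := fun h2 =>
    ha1 (h.inf_eq_bot ha h2)
  obtain ⟨β, hβ1, hβ2⟩ := h.exists_hom _ hx
  refine ⟨β * ω, ?_, hβ1 ω⟩
  intro he
  apply hβ2
  have h1 := DFunLike.congr_fun he ⟨a, Subgroup.mem_sup_left ha⟩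
  rw [MonoidHom.mul_apply] at h1
  exact mul_eq_right.mp h1

variable (h : Hyp K W₁ W₂) (μ : (↥(W₁ ⊔ W₂) →* ℂˣ) → (L → ℂ))
  (δ : (↥(W₁ ⊔ W₂) →* ℂˣ) → ℂ)
  (hirr : ∀ ω, IsIrrCharacter L (μ ω)) (hδ : ∀ ω, δ ω = 1 ∨ δ ω = -1)
  (hind : ∀ ω ω', Agree W₁ W₂ ω ω' → δ ω = δ ω' ∧
        indFun (W₁ ⊔ W₂) (linFun ω - linFun ω') = δ ω • (μ ω - μ ω'))
  (hinjc : ∀ ω ω', Agree W₁ W₂ ω ω' → μ ω = μ ω' → ω = ω')

include hδ in
theorem conj_delta (ω : ↥(W₁ ⊔ W₂) →* ℂˣ) : conj (δ ω) = δ ω := by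
  rcases hδ ω with h1 | h1 <;> rw [h1] <;> simp

include hδ in
theorem delta_ne_zero (ω : ↥(W₁ ⊔ W₂) →* ℂˣ) : δ ω ≠ 0 := by
  rcases hδ ω with h1 | h1 <;> rw [h1] <;> norm_num

include h hirr hδ hind hinjc in
/-- Global injectivity. -/
theorem mu_injective : Function.Injective μ := by
  classical
  intro ω ω' hμeq
  by_contra hne
  have hnA : ¬ Agree W₁ W₂ ω ω' := fun hA => hne (hinjc ω ω' hA hμeq)
  obtain ⟨ω₁, hω₁, hA₁⟩ := h.exists_ne_agree ω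
  obtain ⟨ω₁', hω₁', hA₁'⟩ := h.exists_ne_agree ω'
  have hX := h.classInner_ind_diff hA₁.symm hA₁'.symm
  have e1 : ω ≠ ω' := hne
  have e2 : ω ≠ ω₁' := fun e => hnA (by rw [e]; exact hA₁')
  have e3 : ω₁ ≠ ω' := fun e => hnA (by rw [← e]; exact hA₁.symm)
  have e4 : ω₁ ≠ ω₁' := fun e => hnA (hA₁.symm.trans (by rw [e]; exact hA₁'))
  rw [if_neg e1, if_neg e2, if_neg e3, if_neg e4, (hind ω ω₁ hA₁.symm).2,
    (hind ω' ω₁' hA₁'.symm).2, classInner_smul_left, classInner_smul_right,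
    classInner_sub_left, classInner_sub_right, classInner_sub_right,
    irr_classInner_eq (hirr ω) (hirr ω'), irr_classInner_eq (hirr ω) (hirr ω₁'),
    irr_classInner_eq (hirr ω₁) (hirr ω'), irr_classInner_eq (hirr ω₁) (hirr ω₁')] at hX
  have f1 : μ ω ≠ μ ω₁' := by
    rw [hμeq]
    intro e
    exact hω₁' (hinjc ω' ω₁' hA₁'.symm e).symm
  have f2 : μ ω₁ ≠ μ ω' := by
    rw [← hμeq]
    intro e
    exact hω₁ (hinjc ω₁ ω hA₁ e)
  rw [if_pos hμeq, if_neg f1, if_neg f2] at hX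
  have hd1 := delta_ne_zero δ hδ ω
  have hd2 : conj (δ ω') ≠ 0 := by rw [conj_delta δ hδ]; exact delta_ne_zero δ hδ ω'
  split_ifs at hX with h9
  · have : δ ω * (conj (δ ω') * 2) = 0 := by
      rw [show (2 : ℂ) = 1 - 0 - (0 - 1) by norm_num, hX]; norm_num
    rcases mul_eq_zero.mp this with h0 | h0
    · exact hd1 h0
    · rcases mul_eq_zero.mp h0 with h0 | h0
      · exact hd2 h0
      · norm_num at h0
  · have : δ ω * (conj (δ ω') * 1) = 0 := by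
      rw [show (1 : ℂ) = 1 - 0 - (0 - 0) by norm_num, hX]; norm_num
    rcases mul_eq_zero.mp this with h0 | h0
    · exact hd1 h0
    · rcases mul_eq_zero.mp h0 with h0 | h0
      · exact hd2 h0
      · norm_num at h0

include hδ hind in
/-- The multiplicities of linear characters in the restriction to `W`. -/
theorem mult_sub [Fintype ↥(W₁ ⊔ W₂)] {χ : L → ℂ} (hχ : IsCharacter L χ)
    {ω ω' : ↥(W₁ ⊔ W₂) →* ℂˣ}
    (hA : Agree W₁ W₂ ω ω') :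
    classInner (fun w : ↥(W₁ ⊔ W₂) => χ w) (linFun ω) -
      classInner (fun w : ↥(W₁ ⊔ W₂) => χ w) (linFun ω') =
      δ ω * (classInner χ (μ ω) - classInner χ (μ ω')) := by
  rw [← classInner_sub_right, ← classInner_conj_symm,
    ← frobenius_reciprocity _ _ χ (isClassFunction_of_isCharacter hχ), (hind ω ω' hA).2,
    classInner_smul_left, classInner_sub_left, map_mul, map_sub, classInner_conj_symm,
    classInner_conj_symm, conj_delta δ hδ]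

include h in
/-- The values of a character of `L` on `W` through the multiplicities. -/
theorem apply_eq_sum [Fintype ↥(W₁ ⊔ W₂)] [Fintype (↥(W₁ ⊔ W₂) →* ℂˣ)] {χ : L → ℂ}
    (hχ : IsCharacter L χ) (x : ↥(W₁ ⊔ W₂)) :
    χ x = ∑ ω : ↥(W₁ ⊔ W₂) →* ℂˣ,
      classInner (fun w : ↥(W₁ ⊔ W₂) => χ w) (linFun ω) * ((ω x : ℂˣ) : ℂ) := by
  have h1 := isCharacter_eq_sum_hom h.sup_comm (isCharacter_restrict hχ (W₁ ⊔ W₂))
  have h2 := congrFun h1 x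
  simp only [Finset.sum_apply, Pi.smul_apply, smul_eq_mul] at h2
  exact h2

include h hirr hδ hind in
/-- Irreducible characters other than the `μ_ω` vanish on `W` outside `W₂`. -/
theorem apply_eq_zero_of_ne {θ : L → ℂ} (hθ : IsIrrCharacter L θ) (hne : ∀ ω, θ ≠ μ ω)
    (x : ↥(W₁ ⊔ W₂)) (hx : (x : L) ∉ W₂) : θ x = 0 := by
  classical
  letI : Fintype ↥(W₁ ⊔ W₂) := Fintype.ofFinite _
  letI : Fintype (↥(W₁ ⊔ W₂) →* ℂˣ) := Fintype.ofFinite _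
  have hθc := isCharacter_of_isIrrCharacter hθ
  rw [apply_eq_sum h hθc x]
  obtain ⟨β, hβ1, hβ2⟩ := h.exists_hom x hx
  apply sum_mul_hom_eq_zero β x hβ2
  intro ω
  have := mult_sub μ δ hδ hind hθc (hβ1 ω)
  rw [irr_classInner_eq hθ (hirr _), irr_classInner_eq hθ (hirr _), if_neg (hne _),
    if_neg (hne _), sub_self, mul_zero] at this
  exact sub_eq_zero.mp this

include h hirr hδ hind hinjc in
/-- The values of `μ_ω` on `W` outside `W₂`. -/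
theorem mu_apply (ω₀ : ↥(W₁ ⊔ W₂) →* ℂˣ) (x : ↥(W₁ ⊔ W₂)) (hx : (x : L) ∉ W₂) :
    μ ω₀ x = δ ω₀ * ((ω₀ x : ℂˣ) : ℂ) := by
  classical
  letI : Fintype ↥(W₁ ⊔ W₂) := Fintype.ofFinite _
  letI : Fintype (↥(W₁ ⊔ W₂) →* ℂˣ) := Fintype.ofFinite _
  have hinj := mu_injective h μ δ hirr hδ hind hinjc
  have hχc := isCharacter_of_isIrrCharacter (hirr ω₀)
  rw [apply_eq_sum h hχc x]
  obtain ⟨β, hβ1, hβ2⟩ := h.exists_hom x hx
  obtain ⟨f, hf⟩ : ∃ f : (↥(W₁ ⊔ W₂) →* ℂˣ) → ℂ, ∀ ω, f ω =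
      classInner (fun w : ↥(W₁ ⊔ W₂) => μ ω₀ w) (linFun ω) -
        (if ω = ω₀ then δ ω₀ else 0) := ⟨_, fun _ => rfl⟩
  have hfinv : ∀ ω, f (β * ω) = f ω := by
    intro ω
    have h1 := mult_sub μ δ hδ hind hχc (hβ1 ω)
    rw [irr_classInner_eq (hirr ω₀) (hirr _), irr_classInner_eq (hirr ω₀) (hirr _)] at h1
    have e1 : (μ ω₀ = μ (β * ω)) ↔ (β * ω = ω₀) :=
      ⟨fun e => (hinj e).symm, fun e => by rw [e]⟩
    have e2 : (μ ω₀ = μ ω) ↔ (ω = ω₀) := ⟨fun e => (hinj e).symm, fun e => by rw [e]⟩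
    simp only [e1, e2] at h1
    rw [hf, hf]
    by_cases hA : Agree W₁ W₂ ω ω₀
    · have hd : δ (β * ω) = δ ω₀ := (hind _ _ ((hβ1 ω).trans hA)).1
      rw [hd] at h1
      have : classInner (fun w : ↥(W₁ ⊔ W₂) => μ ω₀ w) (linFun (β * ω)) =
          classInner (fun w : ↥(W₁ ⊔ W₂) => μ ω₀ w) (linFun ω) +
            δ ω₀ * ((if β * ω = ω₀ then 1 else 0) - if ω = ω₀ then 1 else 0) := by
        rw [← h1]; ring
      rw [this]
      split_ifs <;> ring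
    · have n1 : ω ≠ ω₀ := fun e => hA (by rw [e]; exact Agree.refl _)
      have n2 : β * ω ≠ ω₀ := fun e => hA (by rw [← e]; exact (hβ1 ω).symm)
      rw [if_neg n1, if_neg n2, sub_self, mul_zero] at h1
      rw [if_neg n1, if_neg n2, sub_zero, sub_zero]
      exact sub_eq_zero.mp h1
  have hzero := sum_mul_hom_eq_zero β x hβ2 f hfinv
  have hsplit : ∀ ω, classInner (fun w : ↥(W₁ ⊔ W₂) => μ ω₀ w) (linFun ω) * ((ω x : ℂˣ) : ℂ) =
      f ω * ((ω x : ℂˣ) : ℂ) + (if ω = ω₀ then δ ω₀ else 0) * ((ω x : ℂˣ) : ℂ) := by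
    intro ω
    rw [hf]; ring
  simp_rw [hsplit]
  rw [Finset.sum_add_distrib, hzero, zero_add]
  simp only [ite_mul, zero_mul]
  rw [Finset.sum_ite_eq' Finset.univ ω₀]
  simp

include h hirr hδ hind hinjc in
/-- The congruence for the degrees. -/
theorem mu_degree (ω : ↥(W₁ ⊔ W₂) →* ℂˣ) :
    ∃ n : ℤ, μ ω 1 - δ ω = n * (Nat.card W₁ : ℂ) := by
  classical
  letI : Fintype W₁ := Fintype.ofFinite _
  obtain ⟨ι, hι⟩ : ∃ ι : W₁ →* ↥(W₁ ⊔ W₂), ∀ w : W₁, ((ι w : ↥(W₁ ⊔ W₂)) : L) = w :=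
    ⟨Subgroup.inclusion le_sup_left, fun w => rfl⟩
  obtain ⟨f, hf⟩ : ∃ f : W₁ → ℂ, f = (fun w : W₁ => μ ω w) - δ ω • linFun (ω.comp ι) :=
    ⟨_, rfl⟩
  have hgen : IsGeneralizedCharacter W₁ f := by
    rw [hf]
    have h1 : IsGeneralizedCharacter W₁ (fun w : W₁ => μ ω w) :=
      GenChar.of_isCharacter (isCharacter_restrict (isCharacter_of_isIrrCharacter (hirr ω)) W₁)
    have h2 : IsGeneralizedCharacter W₁ (linFun (ω.comp ι)) :=
      GenChar.of_isCharacter (isCharacter_of_hom _)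
    rcases hδ ω with hd | hd
    · rw [hd, one_smul]
      exact GenChar.sub h1 h2
    · rw [hd, neg_one_smul, sub_neg_eq_add]
      exact GenChar.add h1 h2
  have hvan : ∀ w : W₁, w ≠ 1 → f w = 0 := by
    intro w hw
    rw [hf]
    simp only [Pi.sub_apply, Pi.smul_apply, smul_eq_mul, linFun, MonoidHom.comp_apply]
    have hw2 : ((ι w : ↥(W₁ ⊔ W₂)) : L) ∉ W₂ := by
      rw [hι]
      intro h2
      apply hw
      exact Subtype.ext (h.inf_eq_bot w.2 h2)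
    have := mu_apply h μ δ hirr hδ hind hinjc ω (ι w) hw2
    rw [hι] at this
    rw [this, sub_self]
  obtain ⟨z, hz⟩ := Cfsg.Agent.Lib.helper3.Coh.exists_int_classInner hgen
    (GenChar.of_isIrrCharacter (isIrrCharacter_one (G := W₁)))
  rw [classInner_apply] at hz
  have hsum : ∑ w : W₁, f w * conj ((fun _ : W₁ => (1 : ℂ)) w) = f 1 := by
    rw [Finset.sum_eq_single 1]
    · simp
    · intro w _ hw
      rw [hvan w hw, zero_mul]
    · intro h1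
      exact absurd (Finset.mem_univ _) h1
  rw [hsum] at hz
  have hW0 : (Nat.card W₁ : ℂ) ≠ 0 := by exact_mod_cast Nat.card_pos.ne'
  refine ⟨z, ?_⟩
  have hf1 : f 1 = μ ω 1 - δ ω := by
    rw [hf]
    simp [linFun]
  rw [← hf1, ← hz]
  field_simp

end derive

end Cfsg.Agent.Lib.helper3.Pf4
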