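import Mathlib
import Cfsg.Prelude.Def_Blocks
import Cfsg.Agent.Lib.helper3.RankDefect2
import Cfsg.Agent.Lib.helper3.Central2
import Cfsg.Agent.Lib.helper3.CharBasic2

/-!
# Blocks containing a faithful character of prime power degree
-/

set_option autoImplicit false
set_option linter.style.haveILetI false
set_option linter.unusedSectionVars false

namespace Cfsg.Agent.Lib.helper3.Block

open Cfsg Cfsg.Agent.Lib.helper3.LocalM Cfsg.Agent.Lib.helper3.CharBasic
open Cfsg.Agent.Lib.helper3.Irr Cfsg.Agent.Lib.helper3.IndFun Cfsg.Agent.Lib.helper3.Central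
open scoped ComplexConjugate

variable {G : Type*} [Group G] [Fintype G] {M : Ideal AlgInt}

/-- If the normalized values of a character on the non-identity elements of a `p`-subgroup lie in
the local ideal, the order of the subgroup divides the degree. -/
theorem card_dvd_degree_of_local {p : ℕ} [hp : Fact p.Prime] (hM : IsPModular p M)
    {Z : Type*} [Group Z] [Fintype Z] (b : ℕ) (hZ : Nat.card Z = p ^ b) (ι : Z →* G)
    {ψ : G → ℂ} (hψ : IsCharacter G ψ) (d : ℕ) (hd : ψ 1 = d) (hdpos : 0 < d)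
    (hloc : ∀ z : Z, z ≠ 1 → MemLocalIdeal M (ψ (ι z) / (d : ℂ))) : p ^ b ∣ d := by
  classical
  haveI hMp := isPrime_of_isPModular hM
  have hMtop : M ≠ ⊤ := hM.2.1.ne_top
  have hψZ : IsCharacter Z (fun z : Z => ψ (ι z)) := isCharacter_comp hψ ι
  have h1 : IsCharacter Z (fun _ : Z => (1 : ℂ)) :=
    isCharacter_of_isIrrCharacter isIrrCharacter_one
  obtain ⟨m, hm⟩ := exists_nat_classInner_of_isCharacter_of_isCharacter hψZ h1
  rw [classInner_apply, hZ] at hm
  have hd0 : (d : ℂ) ≠ 0 := by exact_mod_cast hdpos.ne'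
  obtain ⟨π, hπdef⟩ : ∃ π : ℂ, π = ∑ z ∈ Finset.univ.erase (1 : Z), ψ (ι z) / (d : ℂ) := ⟨_, rfl⟩
  have hπ : MemLocalIdeal M π := by
    rw [hπdef]
    apply memLocalIdeal_sum
    intro z hz
    exact hloc z (Finset.ne_of_mem_erase hz)
  have hsum : ∑ z : Z, ψ (ι z) * conj (1 : ℂ) = (d : ℂ) * (1 + π) := by
    rw [← Finset.add_sum_erase Finset.univ _ (Finset.mem_univ (1 : Z)), hπdef, mul_add, mul_one,
      Finset.mul_sum, map_one, ← hd]
    congr 1
    · simp
    · apply Finset.sum_congr rfl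
      intro z _
      rw [hd]
      field_simp
      simp
  rw [hsum] at hm
  have hp0 : ((p : ℂ) ^ b) ≠ 0 := by
    apply pow_ne_zero
    exact_mod_cast hp.out.ne_zero
  have hm' : (d : ℂ) * (1 + π) = (m : ℂ) * (p : ℂ) ^ b := by
    rw [← hm]
    push_cast
    field_simp
  by_contra hnd
  rw [hp.out.pow_dvd_iff_le_factorization hdpos.ne'] at hnd
  push Not at hnd
  obtain ⟨c, hcdef⟩ : ∃ c : ℕ, c = d.factorization p := ⟨_, rfl⟩
  rw [← hcdef] at hnd
  obtain ⟨d', hd'def⟩ : ∃ d' : ℕ, d' = d / p ^ c := ⟨_, rfl⟩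
  have hdd' : p ^ c * d' = d := by
    rw [hd'def, hcdef]
    exact Nat.ordProj_mul_ordCompl_eq_self d p
  have hpd' : ¬ p ∣ d' := by
    rw [hd'def, hcdef]
    exact Nat.not_dvd_ordCompl hp.out hdpos.ne'
  have hpc0 : ((p : ℂ) ^ c) ≠ 0 := by
    apply pow_ne_zero
    exact_mod_cast hp.out.ne_zero
  have hkey : (d' : ℂ) = (m : ℂ) * (p : ℂ) ^ (b - c) - (d' : ℂ) * π := by
    have h2 : (d : ℂ) = (p : ℂ) ^ c * (d' : ℂ) := by
      rw [← hdd']
      push_cast
      rfl
    have h3 : (p : ℂ) ^ b = (p : ℂ) ^ c * (p : ℂ) ^ (b - c) := by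
      rw [← pow_add]
      congr 1
      omega
    rw [h2, h3] at hm'
    have h4 : (p : ℂ) ^ c * ((d' : ℂ) * (1 + π)) = (p : ℂ) ^ c * ((m : ℂ) * (p : ℂ) ^ (b - c)) := by
      linear_combination hm'
    have h5 := mul_left_cancel₀ hpc0 h4
    linear_combination h5
  have hloc1 : MemLocalIdeal M ((m : ℂ) * (p : ℂ) ^ (b - c)) := by
    have h6 : ((m * p ^ (b - c) : ℕ) : AlgInt) ∈ M := by
      rw [natCast_mem_iff hM]
      exact Dvd.dvd.mul_left (dvd_pow_self p (by omega)) m
    have := memLocalIdeal_of_mem h6 hMtop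
    convert this using 1
    push_cast
    rfl
  have hloc2 : MemLocalIdeal M ((d' : ℂ) * π) :=
    memLocalIdeal_mul_integral hπ (isIntegral_algebraMap (R := ℤ) (x := (d' : ℤ)) |> fun h => by
      simpa using h)
  have hloc3 : MemLocalIdeal M (d' : ℂ) := by
    rw [hkey]
    exact memLocalIdeal_sub hloc1 hloc2
  have h7 : ((d' : ℕ) : AlgInt) ∈ M := by
    apply mem_of_memLocalIdeal
    convert hloc3 using 1
    push_cast
    rfl
  rw [natCast_mem_iff hM] at h7
  exact hpd' h7

end Cfsg.Agent.Lib.helper3.Block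

namespace Cfsg.Agent.Lib.helper3.Block

open Cfsg Cfsg.Agent.Lib.helper3.LocalM Cfsg.Agent.Lib.helper3.CharBasic
open Cfsg.Agent.Lib.helper3.Irr Cfsg.Agent.Lib.helper3.IndFun Cfsg.Agent.Lib.helper3.Central
open Module

/-- The index of the centralizer of an element centralizing a Sylow `p`-subgroup is prime to
`p`. -/
theorem not_dvd_index_centralizer {G : Type*} [Group G] [Finite G] {p : ℕ} [hp : Fact p.Prime]
    (P : Sylow p G) (z : G) (hzc : ∀ w ∈ (P : Subgroup G), w * z = z * w) :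
    ¬ p ∣ (Subgroup.centralizer ({z} : Set G)).index := by
  intro hdvd
  have hle : (P : Subgroup G) ≤ Subgroup.centralizer ({z} : Set G) := by
    intro w hw
    rw [Subgroup.mem_centralizer_singleton_iff]
    exact hzc w hw
  have h1 : Nat.card (P : Subgroup G) ∣ Nat.card (Subgroup.centralizer ({z} : Set G)) :=
    Subgroup.card_dvd_of_le hle
  rw [Sylow.card_eq_multiplicity P] at h1
  have h2 : p ^ ((Nat.card G).factorization p + 1) ∣
      Nat.card (Subgroup.centralizer ({z} : Set G)) * (Subgroup.centralizer ({z} : Set G)).index := by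
    rw [pow_succ]
    exact mul_dvd_mul h1 hdvd
  rw [Subgroup.card_mul_index] at h2
  exact Nat.pow_succ_factorization_not_dvd Nat.card_pos.ne' hp.out h2

/-- A faithful irreducible character of `p`-power degree of a group with trivial centre vanishes
at the non-identity elements centralizing a Sylow `p`-subgroup. -/
theorem apply_eq_zero_of_centralizes_sylow {G : Type*} [Group G] [Fintype G] {p : ℕ}
    [hp : Fact p.Prime] (hZ : Subgroup.center G = ⊥) (P : Sylow p G) (χ : IrrCharacter G)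
    (hfaith : ∀ g : G, (χ : G → ℂ) g = (χ : G → ℂ) 1 → g = 1) (n : ℕ)
    (hdeg : (χ : G → ℂ) 1 = ((p ^ n : ℕ) : ℂ)) (z : G)
    (hzc : ∀ w ∈ (P : Subgroup G), w * z = z * w) (hz1 : z ≠ 1) : (χ : G → ℂ) z = 0 := by
  obtain ⟨k, ρ, hirr, hρ⟩ := χ.2
  haveI := hirr
  have hfr : (finrank ℂ (Fin k → ℂ) : ℂ) = ((p ^ n : ℕ) : ℂ) := by
    rw [← hdeg, ← hρ]
    exact (Representation.char_one ρ).symm
  have hfr' : finrank ℂ (Fin k → ℂ) = p ^ n := by exact_mod_cast hfr
  have hcop : Nat.Coprime (finrank ℂ (Fin k → ℂ)) (Subgroup.centralizer ({z} : Set G)).index := by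
    rw [hfr']
    apply Nat.Coprime.pow_left
    exact (Nat.Prime.coprime_iff_not_dvd hp.out).mpr (not_dvd_index_centralizer P z hzc)
  rcases character_eq_zero_or_norm_eq_of_coprime ρ z hcop with h | h
  · rw [← hρ]; exact h
  · exfalso
    obtain ⟨ω, hω⟩ := (norm_character_eq_finrank_iff ρ z).mp h
    apply hz1
    have hzcenter : z ∈ Subgroup.center G := by
      rw [Subgroup.mem_center_iff]
      intro g
      have hcomm : ρ (g * z) = ρ (z * g) := by
        rw [map_mul, map_mul, hω, mul_smul_comm, smul_mul_assoc]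
        rfl
      have h1 : ρ (g * z * g⁻¹ * z⁻¹) = ρ 1 := by
        have e : g * z * g⁻¹ * z⁻¹ = (g * z) * (z * g)⁻¹ := by group
        rw [e, map_mul, hcomm, ← map_mul, mul_inv_cancel]
      have h2 : (χ : G → ℂ) (g * z * g⁻¹ * z⁻¹) = (χ : G → ℂ) 1 := by
        rw [← hρ]
        show LinearMap.trace ℂ _ (ρ (g * z * g⁻¹ * z⁻¹)) = LinearMap.trace ℂ _ (ρ 1)
        rw [h1]
      have h3 := hfaith _ h2
      calc g * z = (g * z * g⁻¹ * z⁻¹) * z * g := by group
        _ = z * g := by rw [h3, one_mul]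
    rw [hZ, Subgroup.mem_bot] at hzcenter
    exact hzcenter

end Cfsg.Agent.Lib.helper3.Block

namespace Cfsg.Agent.Lib.helper3.Block

open Cfsg Cfsg.Agent.Lib.helper3.LocalM Cfsg.Agent.Lib.helper3.CharBasic
open Cfsg.Agent.Lib.helper3.Irr Cfsg.Agent.Lib.helper3.IndFun Cfsg.Agent.Lib.helper3.Central
open Module

/-- The block of a faithful irreducible character of `p`-power degree in a group with trivial
centre has defect at most `a - b`. -/
theorem defect_le_of_faithful_ppow {G : Type*} [Group G] [Finite G] (p : ℕ) [hp : Fact p.Prime]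
    (M : Ideal AlgInt) (hM : IsPModular p M) (hZ : Subgroup.center G = ⊥) (P : Sylow p G)
    (a b : ℕ) (ha : Nat.card P = p ^ a)
    (hb : Nat.card (Subgroup.center ↥(P : Subgroup G)) = p ^ b) (χ : IrrCharacter G)
    (hfaith : ∀ g : G, (χ : G → ℂ) g = (χ : G → ℂ) 1 → g = 1) (n : ℕ)
    (hdeg : charDegree (χ : G → ℂ) = p ^ n) :
    blockDefect p (blockOf M (χ : G → ℂ)) ≤ a - b ∧
      (IsMulCommutative ↥(P : Subgroup G) → blockDefect p (blockOf M (χ : G → ℂ)) = 0) := by
  classical
  haveI : Fintype G := Fintype.ofFinite G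
  haveI hMp := isPrime_of_isPModular hM
  have hMtop : M ≠ ⊤ := hM.2.1.ne_top
  haveI : Fintype (Subgroup.center ↥(P : Subgroup G)) := Fintype.ofFinite _
  obtain ⟨dχ, hdχ1, -, hdχpos⟩ := irr_degree_dvd_card χ.2
  have hdχ : dχ = p ^ n := by rw [← hdeg, charDegree_eq hdχ1]
  have hdegC : (χ : G → ℂ) 1 = ((p ^ n : ℕ) : ℂ) := by rw [hdχ1, hdχ]
  obtain ⟨ι, hιdef⟩ : ∃ ι : Subgroup.center ↥(P : Subgroup G) →* G,
      ι = (P : Subgroup G).subtype.comp (Subgroup.center ↥(P : Subgroup G)).subtype := ⟨_, rfl⟩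
  have hιapp : ∀ z : Subgroup.center ↥(P : Subgroup G), ι z = ((z : (P : Subgroup G)) : G) := by
    intro z
    rw [hιdef]
    rfl
  have hιc : ∀ z : Subgroup.center ↥(P : Subgroup G), ∀ w ∈ (P : Subgroup G),
      w * ι z = ι z * w := by
    intro z w hw
    have h1 := Subgroup.mem_center_iff.mp z.2 ⟨w, hw⟩
    have h2 := congrArg (fun x : (P : Subgroup G) => (x : G)) h1
    rw [hιapp]
    exact h2
  have hι1 : ∀ z : Subgroup.center ↥(P : Subgroup G), z ≠ 1 → ι z ≠ 1 := by
    intro z hz h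
    apply hz
    apply Subtype.ext
    apply Subtype.ext
    rw [hιapp] at h
    exact h
  have hχ0 : ∀ z : Subgroup.center ↥(P : Subgroup G), z ≠ 1 → (χ : G → ℂ) (ι z) = 0 := by
    intro z hz
    exact apply_eq_zero_of_centralizes_sylow hZ P χ hfaith n hdegC (ι z) (hιc z) (hι1 z hz)
  -- every member of the block has degree divisible by `p ^ b`
  have hmem : ∀ ψ ∈ blockOf M (χ : G → ℂ), b ≤ (charDegree (ψ : G → ℂ)).factorization p := by
    intro ψ hψ
    obtain ⟨d, hd1, -, hdpos⟩ := irr_degree_dvd_card ψ.2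
    have hcd : charDegree (ψ : G → ℂ) = d := charDegree_eq hd1
    have hloc : ∀ z : Subgroup.center ↥(P : Subgroup G), z ≠ 1 →
        MemLocalIdeal M ((ψ : G → ℂ) (ι z) / (d : ℂ)) := by
      intro z hz
      have h1 := hψ (ι z)
      have h2 : centralChar (χ : G → ℂ) (ι z) = 0 := by
        unfold centralChar
        rw [hχ0 z hz, mul_zero, zero_div]
      rw [h2, zero_sub] at h1
      have h3 := memLocalIdeal_neg h1
      rw [neg_neg] at h3
      have hint := isIntegral_centralChar ψ.2 (ι z)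
      have hu : (⟨centralChar (ψ : G → ℂ) (ι z), hint⟩ : AlgInt) ∈ M := mem_of_memLocalIdeal h3
      have hidx : (((Subgroup.centralizer ({ι z} : Set G)).index : ℕ) : AlgInt) ∉ M := by
        rw [natCast_mem_iff hM]
        exact not_dvd_index_centralizer P (ι z) (hιc z)
      refine ⟨⟨centralChar (ψ : G → ℂ) (ι z), hint⟩,
        (((Subgroup.centralizer ({ι z} : Set G)).index : ℕ) : AlgInt), hu, hidx, ?_⟩
      have hi0 : ((Subgroup.centralizer ({ι z} : Set G)).index : ℂ) ≠ 0 := by
        exact_mod_cast Subgroup.index_ne_zero_of_finite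
      show centralChar (ψ : G → ℂ) (ι z) /
        ((((Subgroup.centralizer ({ι z} : Set G)).index : ℕ) : AlgInt) : ℂ) = _
      unfold centralChar
      rw [hd1]
      push_cast
      field_simp
    have h4 := card_dvd_degree_of_local hM b hb ι (isCharacter_of_isIrrCharacter ψ.2) d hd1 hdpos hloc
    rw [hcd]
    exact (hp.out.pow_dvd_iff_le_factorization hdpos.ne').mp h4
  obtain ⟨S, hS⟩ : ∃ S : Set ℕ, S = (fun ψ : IrrCharacter G =>
      (charDegree (ψ : G → ℂ)).factorization p) '' blockOf M (χ : G → ℂ) := ⟨_, rfl⟩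
  have hSne : S.Nonempty := by
    rw [hS]
    exact ⟨_, ⟨χ, sameBlock_refl hMtop _, rfl⟩⟩
  have hinf : b ≤ sInf S := by
    have hm := Nat.sInf_mem hSne
    rw [hS] at hm
    obtain ⟨ψ, hψ, hψe⟩ := hm
    rw [← hS] at hψe
    rw [← hψe]
    exact hmem ψ hψ
  have haG : (Nat.card G).factorization p = a := by
    have h1 := Sylow.card_eq_multiplicity P
    rw [ha] at h1
    exact (Nat.pow_right_injective hp.out.two_le h1).symm
  have hdef : blockDefect p (blockOf M (χ : G → ℂ)) = a - sInf S := by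
    unfold blockDefect
    rw [hS, haG]
  have hmain : blockDefect p (blockOf M (χ : G → ℂ)) ≤ a - b := by
    rw [hdef]
    exact Nat.sub_le_sub_left hinf a
  refine ⟨hmain, ?_⟩
  intro hcomm
  have htop : Subgroup.center ↥(P : Subgroup G) = ⊤ := by
    rw [Subgroup.eq_top_iff']
    intro x
    rw [Subgroup.mem_center_iff]
    intro g
    exact hcomm.is_comm.comm g x
  have hab : a = b := by
    have h1 : Nat.card (Subgroup.center ↥(P : Subgroup G)) = Nat.card (P : Subgroup G) := by
      rw [htop, Subgroup.card_top]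
    rw [hb] at h1
    have h2 : Nat.card (P : Subgroup G) = p ^ a := ha
    rw [h2] at h1
    exact (Nat.pow_right_injective hp.out.two_le h1).symm
  rw [hab, Nat.sub_self] at hmain
  exact Nat.le_zero.mp hmain

end Cfsg.Agent.Lib.helper3.Block
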