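import Mathlib
import Cfsg.Prelude.Def_Blocks
import Cfsg.Prelude.Def_BlockRank
import Cfsg.Agent.Lib.helper3.Q8Seven1
import Cfsg.Agent.Lib.helper3.KleinOne4
import Cfsg.Agent.Lib.helper3.PrincQuot3
import Cfsg.Agent.H2.BSCenter
import Cfsg.Agent.H2.BSQ8Group

/-!
# Quaternion Sylow `2`-subgroups of order eight: the principal block has seven characters
-/

set_option autoImplicit false
set_option linter.style.haveILetI false
set_option linter.unusedSectionVars false

namespace Cfsg.Agent.Lib.helper3.Q8Seven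

open Cfsg Cfsg.Agent.Lib.helper3.Block Cfsg.Agent.H2.BSQ8

universe u

variable {G : Type u} [Group G] [Finite G]

section group

variable (S : Sylow 2 G) (e : (S : Subgroup G) ≃* QuaternionGroup 2)

/-- The `2`-elements: the identity, the central involution, and one class of elements of order
four. -/
theorem two_element_cases
    (hnc : ∀ N : Subgroup G, N.Normal → ¬ Subgroup.IsComplement' N (S : Subgroup G))
    (hzc : xe (S : Subgroup G) e * xe (S : Subgroup G) e ∈ Subgroup.center G) (g : G)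
    (hg : ∃ k : ℕ, orderOf g = 2 ^ k) :
    g = 1 ∨ g = xe (S : Subgroup G) e * xe (S : Subgroup G) e ∨ IsConj (xe (S : Subgroup G) e) g := by
  haveI : Fact (Nat.Prime 2) := ⟨Nat.prime_two⟩
  obtain ⟨k, hk⟩ := hg
  have hP : IsPGroup 2 (Subgroup.zpowers g) :=
    IsPGroup.of_card (n := k) (by rw [Nat.card_zpowers, hk])
  obtain ⟨Q, hQ⟩ := hP.exists_le_sylow
  obtain ⟨h, hh⟩ := MulAction.exists_smul_eq G S Q
  have hgQ : g ∈ (Q : Subgroup G) := hQ (Subgroup.mem_zpowers g)
  rw [← hh, Cfsg.Agent.H2.mem_sylow_smul_iff] at hgQ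
  obtain ⟨g', hg'⟩ : ∃ g' : G, g' = h⁻¹ * g * h := ⟨_, rfl⟩
  rw [← hg'] at hgQ
  have hord : orderOf g' = orderOf g := by
    have := orderOf_conj h⁻¹ g
    rw [inv_inv] at this
    rw [hg', this]
  have hgg' : g = h * g' * h⁻¹ := by rw [hg']; group
  have h4 : g' ^ 4 = 1 := (Cfsg.Agent.S0950.q8Like_of_equiv e).pow4 g' hgQ
  have hdvd : orderOf g ∣ 2 ^ 2 := by
    rw [← hord]
    exact orderOf_dvd_of_pow_eq_one h4
  rw [hk, Nat.pow_dvd_pow_iff_le_right (le_refl 2)] at hdvd
  interval_cases k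
  · left
    rw [pow_zero, orderOf_eq_one_iff] at hk
    exact hk
  · right; left
    rw [pow_one] at hk
    have h1 := eq_sq_of_involution (S : Subgroup G) e hgQ (hord.trans hk)
    rw [hgg', h1]
    have h2 := Subgroup.mem_center_iff.mp hzc h
    rw [h2, mul_inv_cancel_right]
  · right; right
    exact isConj_xe_of_orderOf_eq_four S e hnc g (by rw [hk]; norm_num)

/-- The `2`-elements of the quotient by the central involution. -/
theorem quot_two_element_cases
    (hnc : ∀ N : Subgroup G, N.Normal → ¬ Subgroup.IsComplement' N (S : Subgroup G))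
    (hzc : xe (S : Subgroup G) e * xe (S : Subgroup G) e ∈ Subgroup.center G)
    (Z : Subgroup G) [Z.Normal]
    (hZ : Z = Subgroup.zpowers (xe (S : Subgroup G) e * xe (S : Subgroup G) e))
    (y : G ⧸ Z) (hy : ∃ k : ℕ, orderOf y = 2 ^ k) :
    y = 1 ∨ IsConj ((xe (S : Subgroup G) e : G) : G ⧸ Z) y := by
  obtain ⟨g, rfl⟩ := QuotientGroup.mk_surjective y
  obtain ⟨k, hk⟩ := hy
  obtain ⟨z, hz⟩ : ∃ z : G, z = xe (S : Subgroup G) e * xe (S : Subgroup G) e := ⟨_, rfl⟩
  rw [← hz] at hZ hzc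
  have hz2 : z ^ 2 = 1 := by
    rw [hz, pow_two, ← mul_assoc]
    exact xe_rel1 (S : Subgroup G) e
  have h1 : ((g ^ (2 ^ k) : G) : G ⧸ Z) = 1 := by
    rw [QuotientGroup.mk_pow, ← hk, pow_orderOf_eq_one]
  rw [QuotientGroup.eq_one_iff, hZ] at h1
  obtain ⟨i, hi⟩ := Subgroup.mem_zpowers_iff.mp h1
  have h2 : g ^ (2 ^ (k + 1)) = 1 := by
    rw [pow_succ, pow_mul, ← hi, ← zpow_natCast, ← zpow_mul, mul_comm, zpow_mul, zpow_natCast, hz2,
      one_zpow]
  have h3 : orderOf g ∣ 2 ^ (k + 1) := orderOf_dvd_of_pow_eq_one h2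
  obtain ⟨j, -, hj⟩ := (Nat.dvd_prime_pow Nat.prime_two).mp h3
  rcases two_element_cases S e hnc (by rw [← hz]; exact hzc) g ⟨j, hj⟩ with h | h | h
  · left
    rw [h]
    rfl
  · left
    rw [h, ← hz, QuotientGroup.eq_one_iff, hZ]
    exact Subgroup.mem_zpowers z
  · right
    exact (QuotientGroup.mk' Z).map_isConj h

end group

section block

variable {M : Ideal AlgInt}

/-- The rank of the principal block of the quotient by the central involution. -/
theorem blockRank_quot (hM : IsPModular 2 M) (S : Sylow 2 G)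
    (e : (S : Subgroup G) ≃* QuaternionGroup 2)
    (hnc : ∀ N : Subgroup G, N.Normal → ¬ Subgroup.IsComplement' N (S : Subgroup G))
    (hzc : xe (S : Subgroup G) e * xe (S : Subgroup G) e ∈ Subgroup.center G)
    (Z : Subgroup G) [Z.Normal]
    (hZ : Z = Subgroup.zpowers (xe (S : Subgroup G) e * xe (S : Subgroup G) e)) :
    blockRank 2 (principalBlock M (G ⧸ Z)) = 3 := by
  classical
  haveI : Fact (Nat.Prime 2) := ⟨Nat.prime_two⟩
  haveI : Fintype (G ⧸ Z) := Fintype.ofFinite _
  have hcases := quot_two_element_cases S e hnc hzc Z hZ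
  obtain ⟨xb, hxb⟩ : ∃ xb : G ⧸ Z, xb = ((xe (S : Subgroup G) e : G) : G ⧸ Z) := ⟨_, rfl⟩
  rw [← hxb] at hcases
  have hxb2 : xb * xb = 1 := by
    rw [hxb, ← QuotientGroup.mk_mul, QuotientGroup.eq_one_iff, hZ]
    exact Subgroup.mem_zpowers _
  have hconj2 : ∀ y : G ⧸ Z, IsConj xb y → y * y = 1 := by
    intro y hy
    obtain ⟨c, hc⟩ := isConj_iff.mp hy
    rw [← hc]
    calc c * xb * c⁻¹ * (c * xb * c⁻¹) = c * (xb * xb) * c⁻¹ := by group
      _ = 1 := by rw [hxb2, mul_one, mul_inv_cancel]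
  obtain ⟨P⟩ : Nonempty (Sylow 2 (G ⧸ Z)) := inferInstance
  -- the order of `P`
  have hS8 : Nat.card (S : Subgroup G) = 8 := by
    rw [Nat.card_congr e.toEquiv, Nat.card_eq_fintype_card, QuaternionGroup.card]
  have hfG : (Nat.card G).factorization 2 = 3 := by
    have h1 := S.card_eq_multiplicity
    rw [hS8] at h1
    have h2 : (2 : ℕ) ^ 3 = 2 ^ (Nat.card G).factorization 2 := by rw [← h1]; norm_num
    exact (Nat.pow_right_injective (le_refl 2) h2).symm
  have hZ2 : Nat.card Z = 2 := by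
    rw [hZ, Nat.card_zpowers]
    exact orderOf_xe_sq (S : Subgroup G) e
  have hcard : Nat.card G = Nat.card (G ⧸ Z) * 2 := by
    rw [← hZ2]
    exact Subgroup.card_eq_card_quotient_mul_card_subgroup Z
  have hfQ : (Nat.card (G ⧸ Z)).factorization 2 = 2 := by
    rw [hcard, Nat.factorization_mul Nat.card_pos.ne' (by norm_num)] at hfG
    simp only [Finsupp.coe_add, Pi.add_apply] at hfG
    rw [Nat.Prime.factorization_self Nat.prime_two] at hfG
    omega
  have hP4 : Nat.card P = 4 := by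
    have h1 := P.card_eq_multiplicity
    rw [hfQ] at h1
    rw [h1]
    norm_num
  -- exponent two
  have hexp : ∀ x : P, x * x = 1 := by
    intro x
    obtain ⟨k, hk⟩ := P.isPGroup' x
    have h1 : ((x : G ⧸ Z)) ^ (2 ^ k) = 1 := by
      have := congrArg Subtype.val hk
      simpa using this
    have h2 : orderOf (x : G ⧸ Z) ∣ 2 ^ k := orderOf_dvd_of_pow_eq_one h1
    obtain ⟨j, -, hj⟩ := (Nat.dvd_prime_pow Nat.prime_two).mp h2
    apply Subtype.ext
    rw [Subgroup.coe_mul, Subgroup.coe_one]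
    rcases hcases (x : G ⧸ Z) ⟨j, hj⟩ with h | h
    · rw [h, mul_one]
    · exact hconj2 _ h
  -- one class of involutions
  have hone : ∀ s t : G ⧸ Z, orderOf s = 2 → orderOf t = 2 → IsConj s t := by
    intro s t hs ht
    have hs1 : s ≠ 1 := by
      rintro rfl
      rw [orderOf_one] at hs
      norm_num at hs
    have ht1 : t ≠ 1 := by
      rintro rfl
      rw [orderOf_one] at ht
      norm_num at ht
    have h1 := (hcases s ⟨1, by rw [hs, pow_one]⟩).resolve_left hs1
    have h2 := (hcases t ⟨1, by rw [ht, pow_one]⟩).resolve_left ht1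
    exact h1.symm.trans h2
  exact blockRank_principal_klein hM P hP4 hexp hone

/-- The rank of the principal block of the centralizer of the element of order four. -/
theorem blockRank_centralizer_xe (hM : IsPModular 2 M) (S : Sylow 2 G)
    (e : (S : Subgroup G) ≃* QuaternionGroup 2) :
    blockRank 2 (principalBlock M (Subgroup.centralizer ({xe (S : Subgroup G) e} : Set G))) = 1 := by
  classical
  haveI : Fact (Nat.Prime 2) := ⟨Nat.prime_two⟩
  obtain ⟨hfac, k, hk⟩ := centralizer_xe S e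
  obtain ⟨C, hC⟩ : ∃ C : Subgroup G, C = Subgroup.centralizer ({xe (S : Subgroup G) e} : Set G) :=
    ⟨_, rfl⟩
  rw [← hC] at hfac hk ⊢
  haveI : Fintype C := Fintype.ofFinite _
  rw [blockRank_principal_eq_one_iff hM]
  obtain ⟨P⟩ : Nonempty (Sylow 2 C) := inferInstance
  refine ⟨P, Cfsg.pPrimeCore 2 C, Cfsg.Agent.H1.pPrimeCore_normal 2, ?_⟩
  have hcop : (Nat.card (Cfsg.pPrimeCore 2 C)).Coprime 2 := Cfsg.Agent.H1.pPrimeCore_coprime 2
  have hPcard : Nat.card P = 2 ^ 2 := by
    rw [P.card_eq_multiplicity, hfac]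
  have hmul := Subgroup.card_mul_index (Cfsg.pPrimeCore 2 C)
  rw [hk] at hmul
  have hk2 : k = 2 := by
    have h1 : (Nat.card (Cfsg.pPrimeCore 2 C) * 2 ^ k).factorization 2 = 2 := by rw [hmul, hfac]
    rw [Nat.factorization_mul Nat.card_pos.ne' (by positivity)] at h1
    simp only [Finsupp.coe_add, Pi.add_apply] at h1
    rw [Nat.Prime.factorization_pow Nat.prime_two] at h1
    have h2 : (Nat.card (Cfsg.pPrimeCore 2 C)).factorization 2 = 0 := by
      apply Nat.factorization_eq_zero_of_not_dvd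
      exact (Nat.Prime.coprime_iff_not_dvd Nat.prime_two).mp hcop.symm
    rw [Finsupp.single_eq_same, h2, zero_add] at h1
    exact h1
  rw [hk2] at hmul
  apply Subgroup.isComplement'_of_coprime
  · rw [hPcard]
    exact hmul
  · rw [hPcard]
    exact hcop.pow_right 2

end block

end Cfsg.Agent.Lib.helper3.Q8Seven
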