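import Mathlib
import Cfsg.Prelude.Def_Blocks
import Cfsg.Prelude.Def_BlockRank
import Cfsg.Agent.Lib.helper3.Q8Seven2

/-!
# Quaternion Sylow `2`-subgroups of order eight: the principal block has seven characters
-/

set_option autoImplicit false
set_option linter.style.haveILetI false
set_option linter.unusedSectionVars false

namespace Cfsg.Agent.Lib.helper3.Q8Seven

open Cfsg Cfsg.Agent.Lib.helper3.Block Cfsg.Agent.H2.BSQ8

universe u

variable {G : Type u} [Group G] [Finite G] {M : Ideal AlgInt}

/-- The rank of the principal block of a centralizer which is the whole group. -/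
theorem blockRank_centralizer_of_mem_center (c : G) (hc : c ∈ Subgroup.center G) :
    blockRank 2 (principalBlock M (Subgroup.centralizer ({c} : Set G)))
      = blockRank 2 (principalBlock M G) := by
  classical
  haveI : Fintype G := Fintype.ofFinite G
  have htop : Subgroup.centralizer ({c} : Set G) = ⊤ := by
    rw [Subgroup.centralizer_eq_top_iff_subset, Set.singleton_subset_iff]
    exact hc
  haveI : Fintype (Subgroup.centralizer ({c} : Set G)) := Fintype.ofFinite _
  exact blockRank_principal_congr 2 ((MulEquiv.subgroupCongr htop).trans Subgroup.topEquiv)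

/-- **Sylow `2`-subgroup `Q₈`, `O(G) = 1`, `G ≠ S`: the principal `2`-block has seven
characters.** -/
theorem card_principalBlock_q8 (hM : IsPModular 2 M) (S : Sylow 2 G)
    (e : (S : Subgroup G) ≃* QuaternionGroup 2)
    (hO : ∀ N : Subgroup G, N.Normal → Odd (Nat.card N) → N = ⊥)
    (hG : (S : Subgroup G) ≠ ⊤) : Nat.card (principalBlock M G) = 7 := by
  classical
  haveI : Fintype G := Fintype.ofFinite G
  haveI : Fact (Nat.Prime 2) := ⟨Nat.prime_two⟩
  have hO' : Cfsg.pPrimeCore 2 G = ⊥ := by
    apply hO _ (Cfsg.Agent.H1.pPrimeCore_normal 2)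
    have := Cfsg.Agent.H1.pPrimeCore_coprime (G := G) 2
    exact Nat.coprime_two_left.mp this.symm
  have hnc : ∀ N : Subgroup G, N.Normal → ¬ Subgroup.IsComplement' N (S : Subgroup G) :=
    fun N hN hc => hG (Cfsg.Agent.H2.BSUnique.sylow_eq_top_of_complement hO' S N hN hc)
  obtain ⟨x, hx⟩ : ∃ x : G, x = xe (S : Subgroup G) e := ⟨_, rfl⟩
  obtain ⟨z, hz⟩ : ∃ z : G, z = x * x := ⟨_, rfl⟩
  have hx4 : orderOf x = 4 := by rw [hx]; exact orderOf_xe _ e
  have hz2 : orderOf z = 2 := by rw [hz, hx]; exact orderOf_xe_sq _ e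
  have hzc : z ∈ Subgroup.center G := by
    apply Cfsg.Agent.H2.BSUnique.central hz2 _ hO'
    intro s hs hc
    exact Cfsg.Agent.Lib.helper3.BSQ.eq_of_commute_involutions S 2 e s z hs hz2 hc
  have hcases := two_element_cases S e hnc (by rw [← hx, ← hz]; exact hzc)
  rw [← hx, ← hz] at hcases
  have h1z : (1 : G) ≠ z := by
    intro h
    rw [← h, orderOf_one] at hz2
    norm_num at hz2
  have h1x : (1 : G) ≠ x := by
    intro h
    rw [← h, orderOf_one] at hx4
    norm_num at hx4
  have hzx : z ≠ x := by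
    intro h
    rw [h, hx4] at hz2
    norm_num at hz2
  -- the representatives
  have hX : ∀ y ∈ ({1, z, x} : Finset G), ∃ k : ℕ, orderOf y = 2 ^ k := by
    intro y hy
    rw [Finset.mem_insert, Finset.mem_insert, Finset.mem_singleton] at hy
    rcases hy with rfl | rfl | rfl
    · exact ⟨0, by rw [orderOf_one, pow_zero]⟩
    · exact ⟨1, by rw [hz2, pow_one]⟩
    · exact ⟨2, by rw [hx4]; norm_num⟩
  have hord : ∀ a b : G, IsConj a b → orderOf a = orderOf b := by
    intro a b hab
    obtain ⟨c, hc⟩ := isConj_iff.mp hab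
    rw [← hc, orderOf_conj]
  have hXrep : ∀ g : G, (∃ k : ℕ, orderOf g = 2 ^ k) →
      ∃! y, y ∈ ({1, z, x} : Finset G) ∧ IsConj g y := by
    intro g hg
    have huniq : ∀ y₁ : G, y₁ ∈ ({1, z, x} : Finset G) → IsConj g y₁ →
        ∀ y₂ : G, y₂ ∈ ({1, z, x} : Finset G) ∧ IsConj g y₂ → y₂ = y₁ := by
      intro y₁ hy₁ hc₁ y₂ ⟨hy₂, hc₂⟩
      have ho : orderOf y₂ = orderOf y₁ := (hord _ _ hc₂).symm.trans (hord _ _ hc₁)
      rw [Finset.mem_insert, Finset.mem_insert, Finset.mem_singleton] at hy₁ hy₂
      rcases hy₁ with rfl | rfl | rfl <;> rcases hy₂ with rfl | rfl | rfl <;>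
        first
        | rfl
        | (exfalso; simp only [orderOf_one, hz2, hx4] at ho; omega)
    rcases hcases g hg with h | h | h
    · exact ⟨1, ⟨by simp, by rw [h]⟩, huniq 1 (by simp) (by rw [h])⟩
    · exact ⟨z, ⟨by simp, by rw [h]⟩, huniq z (by simp) (by rw [h])⟩
    · exact ⟨x, ⟨by simp, h.symm⟩, huniq x (by simp) h.symm⟩
  have hcount := card_principalBlock_eq_sum hM ({1, z, x} : Finset G) hX hXrep
  rw [Finset.sum_insert (by
      rw [Finset.mem_insert, Finset.mem_singleton]
      rintro (h | h)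
      · exact h1z h
      · exact h1x h),
    Finset.sum_pair hzx] at hcount
  -- the three terms
  have hZn : (Subgroup.zpowers z).Normal := by
    constructor
    intro y hy c
    obtain ⟨k, rfl⟩ := Subgroup.mem_zpowers_iff.mp hy
    have h2 := Subgroup.mem_center_iff.mp (Subgroup.zpow_mem _ hzc k) c
    have h1 : c * z ^ k * c⁻¹ = z ^ k := by
      rw [h2, mul_inv_cancel_right]
    rw [h1]
    exact Subgroup.zpow_mem _ (Subgroup.mem_zpowers z) k
  have hZp : IsPGroup 2 (Subgroup.zpowers z) :=
    IsPGroup.of_card (n := 1) (by rw [Nat.card_zpowers, hz2, pow_one])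
  have hsup : Subgroup.zpowers z ⊔ Subgroup.centralizer ((Subgroup.zpowers z : Subgroup G) : Set G)
      = ⊤ := by
    have : Subgroup.centralizer ((Subgroup.zpowers z : Subgroup G) : Set G) = ⊤ := by
      rw [Subgroup.centralizer_eq_top_iff_subset]
      intro y hy
      obtain ⟨k, rfl⟩ := Subgroup.mem_zpowers_iff.mp hy
      exact Subgroup.zpow_mem _ hzc k
    rw [this, sup_top_eq]
  have hG3 : blockRank 2 (principalBlock M G) = 3 := by
    rw [blockRank_principal_quot hM (Subgroup.zpowers z) hZp hsup]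
    exact blockRank_quot hM S e hnc (by rw [← hx, ← hz]; exact hzc) (Subgroup.zpowers z)
      (by rw [hz, hx])
  have hx1 : blockRank 2 (principalBlock M (Subgroup.centralizer ({x} : Set G))) = 1 := by
    rw [hx]
    exact blockRank_centralizer_xe hM S e
  rw [blockRank_centralizer_of_mem_center 1 (Subgroup.one_mem _),
    blockRank_centralizer_of_mem_center z hzc, hG3, hx1] at hcount
  exact hcount

end Cfsg.Agent.Lib.helper3.Q8Seven
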