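import Mathlib
import Cfsg.Prelude.Def_Characters
import Cfsg.Agent.Lib.helper3.RealOdd4
import Cfsg.Agent.H2.ConjOrbitCard
import Cfsg.Agent.H1.RealL0
import Cfsg.Agent.Lib.helper3.Pdeg2

set_option autoImplicit false
set_option linter.style.haveILetI false
set_option linter.unusedSectionVars false
set_option linter.unusedVariables false

/-!
# S4863, piece L3: real characters of a normal subgroup of odd `p`-power index are invariant

If every real irreducible character of `X` has degree prime to `p` (`p` odd) and `K` is normal of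
index a power of `p`, then every real irreducible character of `K` is `X`-invariant.
-/

namespace Cfsg.Agent.Lib.helper3.RealInvPow

open Cfsg Cfsg.Agent.Lib.helper3.CharBasic Cfsg.Agent.Lib.helper3.Irr
open Cfsg.Agent.Lib.helper3.RealOdd Cfsg.Agent.H1.RealL

universe u

theorem realInv_of_index_pow {X : Type u} [Group X] [Finite X] (p : ℕ) [hp : Fact p.Prime]
    (hp2 : p ≠ 2) (K : Subgroup X) [hK : K.Normal] (a : ℕ) (hidx : K.index = p ^ a)
    (hreal : ∀ χ : IrrCharacter X, (∀ g, ((χ : X → ℂ) g).im = 0) →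
      ¬ p ∣ charDegree (χ : X → ℂ))
    (P : Subgroup X) : RealInv K P := by
  classical
  letI : Fintype X := Fintype.ofFinite X
  letI : Fintype ↥K := Fintype.ofFinite _
  have hpodd : Odd p := hp.out.odd_of_ne_two hp2
  have hodd : Odd K.index := by
    rw [hidx]
    exact hpodd.pow
  intro θ hθ x _ k k' hkk
  obtain ⟨χ, hχ, hc⟩ := Cfsg.Agent.Lib.Helper8.IN.exists_real_over K hodd θ hθ
  have hdeg := real_over_apply_one K hodd χ hχ θ hθ hc
  have hnd := hreal χ hχ
  -- the orbit size divides the index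
  have hcard := Cfsg.Agent.H2.ConjOrbitCard.card_image_conjFun K (θ : ↥K → ℂ)
  have hle : K ≤ inertia K (θ : ↥K → ℂ) :=
    le_inertia K (θ : ↥K → ℂ) (isClassFunction_of_isCharacter (isCharacter_of_isIrrCharacter θ.2))
  have hdvd : (inertia K (θ : ↥K → ℂ)).index ∣ p ^ a := by
    rw [← hidx]
    exact Subgroup.index_dvd_of_le hle
  obtain ⟨j, -, hj⟩ := (Nat.dvd_prime_pow hp.out).1 hdvd
  -- `p` does not divide the orbit size
  have hj0 : j = 0 := by
    by_contra hj0
    apply hnd
    obtain ⟨d, _, hd⟩ := exists_pos_nat_apply_one θ.2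
    have h1 : (χ : X → ℂ) 1 = ((p ^ j * d : ℕ) : ℂ) := by
      rw [hdeg, hcard, hj, hd]
      push_cast
      ring
    rw [Cfsg.Agent.Lib.helper3.Pdeg.charDegree_eq' h1]
    exact Dvd.dvd.mul_right (dvd_pow_self p hj0) _
  rw [hj0, pow_zero] at hj
  have htop : inertia K (θ : ↥K → ℂ) = ⊤ := Subgroup.index_eq_one.1 hj
  have hx : x ∈ inertia K (θ : ↥K → ℂ) := by
    rw [htop]
    exact Subgroup.mem_top x
  have hinv : conjFun K (θ : ↥K → ℂ) x = (θ : ↥K → ℂ) := hx
  have h3 := congrFun hinv k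
  have hkk' : (⟨x * (k : X) * x⁻¹, hK.conj_mem k k.2 x⟩ : ↥K) = k' := by
    apply Subtype.ext
    exact hkk.symm
  have h4 : conjFun K (θ : ↥K → ℂ) x k = (θ : ↥K → ℂ) k' := by
    show (θ : ↥K → ℂ) ⟨x * (k : X) * x⁻¹, hK.conj_mem k k.2 x⟩ = (θ : ↥K → ℂ) k'
    rw [hkk']
  rw [← h4, h3]

end Cfsg.Agent.Lib.helper3.RealInvPow
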