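import Mathlib
import Cfsg.Prelude.Def_Characters
import Cfsg.Prelude.Def_Blocks
import Cfsg.Agent.Lib.helper3.RealOddI2
import Cfsg.Agent.Lib.Helper4.RealOddIA
import Cfsg.Agent.Lib.Helper7.RealOddB
import Cfsg.Agent.Lib.Helper7.RealOddB1
import Cfsg.Agent.Lib.Helper7.RealOddB2

set_option autoImplicit false
set_option linter.style.haveILetI false
set_option linter.unusedSectionVars false
set_option linter.unusedVariables false

/-!
# Real characters of odd degree and Sylow normalizers (S4581), part 3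

Counting along surjective homomorphisms, and the count over a fixed invariant linear character.
-/

namespace Cfsg.Agent.Lib.helper3.RealOddI

open Cfsg Cfsg.Agent.Lib.helper3.Irr Cfsg.Agent.Lib.helper3.CharBasic
open Cfsg.Agent.Lib.helper3.IndFun Cfsg.Agent.Lib.Helper4.RealOddIA Cfsg.Agent.Lib.Helper7.RealOddB
open scoped ComplexConjugate

universe u

/-- Real, of odd degree, with prescribed sign at `x`. -/
def RO {X : Type u} [Group X] (x : X) (ε : ℂ) (χ : IrrCharacter X) : Prop :=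
  (∀ g : X, ((χ : X → ℂ) g).im = 0) ∧ Odd (charDegree (χ : X → ℂ)) ∧
    (χ : X → ℂ) x = ε * (χ : X → ℂ) 1

section surj

variable {X Y : Type u} [Group X] [Group Y]

theorem card_RO_surjective [Finite X] (f : X →* Y) (hf : Function.Surjective f) (x0 : X) (ε : ℂ) :
    Nat.card {ψ : IrrCharacter Y // RO (f x0) ε ψ} =
      Nat.card {χ : IrrCharacter X // RO x0 ε χ ∧
        ∀ k ∈ f.ker, (χ : X → ℂ) k = (χ : X → ℂ) 1} := by
  obtain ⟨e, he⟩ := exists_irr_equiv_of_surjective f hf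
  have hiff : ∀ ψ : IrrCharacter Y, RO (f x0) ε ψ ↔ RO x0 ε (e ψ : IrrCharacter X) := by
    intro ψ
    unfold RO
    have h1 : (∀ g : Y, ((ψ : Y → ℂ) g).im = 0) ↔
        (∀ g : X, (((e ψ : IrrCharacter X) : X → ℂ) g).im = 0) := by
      constructor
      · intro h g
        rw [he]
        exact h _
      · intro h y
        obtain ⟨x, rfl⟩ := hf y
        rw [← he]
        exact h x
    have h2 : charDegree ((e ψ : IrrCharacter X) : X → ℂ) = charDegree (ψ : Y → ℂ) := by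
      unfold charDegree
      rw [he, map_one]
    rw [h1, h2, he, he, map_one]
  apply Nat.card_congr
  refine
    { toFun := fun ψ => ⟨(e ψ.1 : IrrCharacter X), (hiff ψ.1).mp ψ.2, (e ψ.1).2⟩
      invFun := fun χ => ⟨e.symm ⟨χ.1, χ.2.2⟩, ?_⟩
      left_inv := ?_
      right_inv := ?_ }
  · apply (hiff _).mpr
    rw [Equiv.apply_symm_apply]
    exact χ.2.1
  · intro ψ
    apply Subtype.ext
    simp
  · intro χ
    apply Subtype.ext
    simp

/-- A surjective homomorphism with kernel of odd order preserves the count. -/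
theorem card_RO_of_odd_kernel [Finite X] (f : X →* Y) (hf : Function.Surjective f)
    (hker : Odd (Nat.card f.ker)) (x0 : X) (ε : ℂ) :
    Nat.card {ψ : IrrCharacter Y // RO (f x0) ε ψ} = Nat.card {χ : IrrCharacter X // RO x0 ε χ} := by
  rw [card_RO_surjective f hf x0 ε]
  apply Nat.card_congr
  apply Equiv.subtypeEquivRight
  intro χ
  constructor
  · exact fun h => h.1
  · intro h
    exact ⟨h, kernel_of_real_odd f.ker hker χ h.1 h.2.1⟩

/-- Restricting the codomain of a homomorphism to its range. -/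
theorem exists_cod_hom {W : Type u} [Group W] (h : W →* Y) (NY : Subgroup Y) (hr : h.range = NY) :
    ∃ g : W →* ↥NY, Function.Surjective g ∧ ∀ w, ((g w : ↥NY) : Y) = h w := by
  have hmem : ∀ w, h w ∈ NY := by
    intro w
    rw [← hr]
    exact ⟨w, rfl⟩
  refine ⟨h.codRestrict NY hmem, ?_, fun w => rfl⟩
  rintro ⟨y, hy⟩
  rw [← hr] at hy
  obtain ⟨w, rfl⟩ := hy
  exact ⟨w, rfl⟩

end surj

section pm

variable {G : Type u} [Group G] [Fintype G]

/-- Over a `T`-invariant linear character: the kernel-and-value description. -/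
theorem over_sub_iff (Q T : Subgroup G) [hQ : Q.Normal] [Fintype Q] [Fintype T]
    (μ : IrrCharacter Q) (hμ1 : (μ : Q → ℂ) 1 = 1)
    (hT : ∀ g : G, g ∈ T → conjFun Q (μ : Q → ℂ) g = (μ : Q → ℂ))
    (hQT : Q ≤ T) (ψ : IrrCharacter T) :
    classInner (fun n : Q => (ψ : T → ℂ) ⟨(n : G), hQT n.2⟩) (μ : Q → ℂ) ≠ 0 ↔
      ∀ q : Q, (ψ : T → ℂ) ⟨(q : G), hQT q.2⟩ = (ψ : T → ℂ) 1 * (μ : Q → ℂ) q := by
  classical
  letI : Fintype (Q.subgroupOf T) := Fintype.ofFinite _
  haveI : (Q.subgroupOf T).Normal := Subgroup.normal_subgroupOf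
  let μ' : IrrCharacter (Q.subgroupOf T) := ⟨subFun Q T (μ : Q → ℂ), isIrrCharacter_subFun hQT μ.2⟩
  have hμ'1 : (μ' : Q.subgroupOf T → ℂ) 1 = 1 := by
    show (μ : Q → ℂ) ⟨((1 : Q.subgroupOf T) : T), _⟩ = 1
    rw [← hμ1]
    congr 1
  have hinv : ∀ t : T, conjFun (Q.subgroupOf T) (μ' : Q.subgroupOf T → ℂ) t
      = (μ' : Q.subgroupOf T → ℂ) := by
    intro t
    funext x
    have h1 := congrFun (hT (t : G) t.2) ⟨((x : T) : G), Subgroup.mem_subgroupOf.mp x.2⟩
    show (μ : Q → ℂ) ⟨((t * x * t⁻¹ : T) : T), _⟩ = (μ : Q → ℂ) ⟨(x : T), _⟩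
    rw [← h1]
    unfold conjFun
    congr 1
  have hB := over_invariant_linear_iff (Q.subgroupOf T) μ' hμ'1 hinv ψ
  have h2 : (fun x : Q.subgroupOf T => (ψ : T → ℂ) (x : T))
      = subFun Q T (fun n : Q => (ψ : T → ℂ) ⟨(n : G), hQT n.2⟩) := rfl
  have h3 : classInner (fun x : Q.subgroupOf T => (ψ : T → ℂ) (x : T)) (μ' : Q.subgroupOf T → ℂ)
      = classInner (fun n : Q => (ψ : T → ℂ) ⟨(n : G), hQT n.2⟩) (μ : Q → ℂ) := by
    rw [h2]
    exact classInner_subFun hQT _ _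
  rw [← h3, hB]
  constructor
  · intro h q
    have := h ⟨⟨(q : G), hQT q.2⟩, Subgroup.mem_subgroupOf.mpr q.2⟩
    exact this
  · intro h x
    have := h ⟨((x : T) : G), Subgroup.mem_subgroupOf.mp x.2⟩
    exact this

/-- The count over a fixed real linear character of a normal subgroup, transported to its
stabilizer. -/
theorem card_RO_over_eq (Q T : Subgroup G) [hQ : Q.Normal] [Fintype Q] [Fintype T]
    (μ : IrrCharacter Q) (hμ1 : (μ : Q → ℂ) 1 = 1) (hμr : ∀ q : Q, ((μ : Q → ℂ) q).im = 0)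
    (hT : ∀ g : G, g ∈ T ↔ conjFun Q (μ : Q → ℂ) g = (μ : Q → ℂ))
    (hQT : Q ≤ T) (hodd : Odd T.index) (z : Q) (hz : (z : G) ∈ Subgroup.center G) (ε : ℂ)
    (hε : (μ : Q → ℂ) z = ε) :
    Nat.card {χ : IrrCharacter G // RO (z : G) ε χ ∧
        classInner (fun q : Q => (χ : G → ℂ) q) (μ : Q → ℂ) ≠ 0} =
      Nat.card {ψ : IrrCharacter T // (∀ t : T, ((ψ : T → ℂ) t).im = 0) ∧
        Odd (charDegree (ψ : T → ℂ)) ∧
        ∀ q : Q, (ψ : T → ℂ) ⟨(q : G), hQT q.2⟩ = (ψ : T → ℂ) 1 * (μ : Q → ℂ) q} := by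
  classical
  have ha : Nat.card {χ : IrrCharacter G // RO (z : G) ε χ ∧
        classInner (fun q : Q => (χ : G → ℂ) q) (μ : Q → ℂ) ≠ 0} =
      Nat.card {χ : IrrCharacter G // (∀ g : G, ((χ : G → ℂ) g).im = 0) ∧
        Odd (charDegree (χ : G → ℂ)) ∧
        classInner (fun n : Q => (χ : G → ℂ) n) (μ : Q → ℂ) ≠ 0} := by
    apply Nat.card_congr
    apply Equiv.subtypeEquivRight
    intro χ
    constructor
    · rintro ⟨⟨h1, h2, -⟩, h3⟩
      exact ⟨h1, h2, h3⟩
    · rintro ⟨h1, h2, h3⟩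
      refine ⟨⟨h1, h2, ?_⟩, h3⟩
      rw [apply_central_of_over Q χ μ hμ1 h3 z hz, hε]
  have hT' : ∀ g : G, (∀ h : Q, (μ : Q → ℂ) ⟨g * h * g⁻¹, hQ.conj_mem h h.2 g⟩ = (μ : Q → ℂ) h)
      → g ∈ T := by
    intro g hg
    rw [hT]
    funext h
    exact hg h
  rw [ha, card_real_odd_over_eq Q T (μ : Q → ℂ) μ.2 hμr hT' hQT hodd]
  apply Nat.card_congr
  apply Equiv.subtypeEquivRight
  intro ψ
  rw [over_sub_iff Q T μ hμ1 (fun g hg => (hT g).mp hg) hQT ψ]

end pm

end Cfsg.Agent.Lib.helper3.RealOddI
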