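import Mathlib
import Cfsg.Prelude.Def_Characters
import Cfsg.Prelude.Def_Blocks
import Cfsg.Agent.Lib.helper3.RealOddI3

set_option autoImplicit false
set_option linter.style.haveILetI false
set_option linter.unusedSectionVars false
set_option linter.unusedVariables false

/-!
# Real characters of odd degree and Sylow normalizers (S4581), part 4

The statement of the relative theorem, the trivial case and the reduction modulo a normal subgroup
of odd order.
-/

namespace Cfsg.Agent.Lib.helper3.RealOddI

open Cfsg Cfsg.Agent.Lib.helper3.Irr Cfsg.Agent.Lib.helper3.CharBasic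
open Cfsg.Agent.Lib.helper3.IndFun Cfsg.Agent.Lib.Helper4.RealOddIA Cfsg.Agent.Lib.Helper7.RealOddB
open scoped ComplexConjugate

universe u

/-- The relative form of the theorem for the group `G`. -/
def Thm (G : Type u) [Group G] : Prop :=
  ∀ (P : Sylow 2 G) (z : ↥(Subgroup.normalizer ((P : Subgroup G) : Set G))),
    (z : G) ∈ Subgroup.center G → (z : G) * (z : G) = 1 → ∀ ε : ℂ,
    Nat.card {χ : IrrCharacter G // RO (z : G) ε χ} =
      Nat.card {φ : IrrCharacter ↥(Subgroup.normalizer ((P : Subgroup G) : Set G)) // RO z ε φ}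

variable {G : Type u} [Group G] [Finite G]

/-- The normalizer of a Sylow subgroup. -/
abbrev Nz (P : Sylow 2 G) : Subgroup G := Subgroup.normalizer ((P : Subgroup G) : Set G)

/-- The case of a normal Sylow subgroup. -/
theorem thm_of_normalizer_eq_top (P : Sylow 2 G) (hN : Nz P = ⊤) (z : ↥(Nz P)) (ε : ℂ) :
    Nat.card {χ : IrrCharacter G // RO (z : G) ε χ} =
      Nat.card {φ : IrrCharacter ↥(Nz P) // RO z ε φ} := by
  have hf : Function.Surjective (Nz P).subtype := by
    intro g
    exact ⟨⟨g, by rw [hN]; exact Subgroup.mem_top g⟩, rfl⟩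
  have h1 := card_RO_surjective (Nz P).subtype hf z ε
  have h2 : ((Nz P).subtype z : G) = (z : G) := rfl
  rw [h2] at h1
  rw [h1]
  apply Nat.card_congr
  apply Equiv.subtypeEquivRight
  intro χ
  constructor
  · exact fun h => h.1
  · intro h
    refine ⟨h, ?_⟩
    intro k hk
    have : k = 1 := by
      apply Subtype.ext
      exact MonoidHom.mem_ker.mp hk
    rw [this]

/-- Reduction modulo a normal subgroup of odd order. -/
theorem thm_step1 (M : Subgroup G) [hM : M.Normal] (hodd : Odd (Nat.card M))
    (ih : Thm (G ⧸ M)) (P : Sylow 2 G) (z : ↥(Nz P))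
    (hz : (z : G) ∈ Subgroup.center G) (hz2 : (z : G) * (z : G) = 1) (ε : ℂ) :
    Nat.card {χ : IrrCharacter G // RO (z : G) ε χ} =
      Nat.card {φ : IrrCharacter ↥(Nz P) // RO z ε φ} := by
  classical
  have hfs : Function.Surjective (QuotientGroup.mk' M) := QuotientGroup.mk'_surjective M
  have hNYeq : Nz (P.mapSurjective hfs) = (Nz P).map (QuotientGroup.mk' M) := by
    show Subgroup.normalizer (((P.mapSurjective hfs : Sylow 2 (G ⧸ M)) : Subgroup (G ⧸ M)) : Set (G ⧸ M)) = _
    rw [Sylow.coe_mapSurjective]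
    exact normalizer_map_eq 2 (QuotientGroup.mk' M) hfs P
  -- the restricted homomorphism
  have hrange : ((QuotientGroup.mk' M).comp (Nz P).subtype).range = Nz (P.mapSurjective hfs) := by
    rw [hNYeq, MonoidHom.range_comp, Subgroup.range_subtype]
  obtain ⟨g, hgs, hg⟩ := exists_cod_hom ((QuotientGroup.mk' M).comp (Nz P).subtype)
    (Nz (P.mapSurjective hfs)) hrange
  -- the central element of the quotient
  have hzY : (QuotientGroup.mk' M (z : G)) ∈ Subgroup.center (G ⧸ M) := by
    rw [Subgroup.mem_center_iff]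
    intro y
    obtain ⟨x, rfl⟩ := hfs y
    rw [← map_mul, ← map_mul, Subgroup.mem_center_iff.mp hz x]
  have hzY2 : QuotientGroup.mk' M (z : G) * QuotientGroup.mk' M (z : G) = 1 := by
    rw [← map_mul, hz2, map_one]
  have hgz : ((g z : ↥(Nz (P.mapSurjective hfs))) : G ⧸ M) = QuotientGroup.mk' M (z : G) := hg z
  have h0 := ih (P.mapSurjective hfs) (g z) (by rw [hgz]; exact hzY) (by rw [hgz]; exact hzY2) ε
  rw [hgz] at h0
  -- the `G`-side
  have hkerf : Odd (Nat.card (QuotientGroup.mk' M).ker) := by
    rw [QuotientGroup.ker_mk']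
    exact hodd
  have h1 := card_RO_of_odd_kernel (QuotientGroup.mk' M) hfs hkerf (z : G) ε
  -- the normalizer side
  have hkerg : Odd (Nat.card g.ker) := by
    have hmem : ∀ k : g.ker, ((k : ↥(Nz P)) : G) ∈ M := by
      intro k
      have h2 : g (k : ↥(Nz P)) = 1 := MonoidHom.mem_ker.mp k.2
      have h3 := hg (k : ↥(Nz P))
      rw [h2] at h3
      have h4 : QuotientGroup.mk' M ((k : ↥(Nz P)) : G) = 1 := h3.symm
      exact (QuotientGroup.eq_one_iff _).mp h4
    let j : g.ker →* ↥M :=
      { toFun := fun k => ⟨((k : ↥(Nz P)) : G), hmem k⟩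
        map_one' := rfl
        map_mul' := fun a b => rfl }
    have hinj : Function.Injective j := by
      intro a b hab
      apply Subtype.ext
      apply Subtype.ext
      exact congrArg (fun m : ↥M => (m : G)) hab
    have hdvd : Nat.card g.ker ∣ Nat.card M := Subgroup.card_dvd_of_injective j hinj
    exact Odd.of_dvd_nat hodd hdvd
  have h2 := card_RO_of_odd_kernel g hgs hkerg z ε
  rw [← h1, h0, h2]

end Cfsg.Agent.Lib.helper3.RealOddI
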