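import Mathlib
import Cfsg.Prelude.Def_Characters
import Cfsg.Prelude.Def_Blocks
import Cfsg.Agent.Lib.helper3.RealOddI4
import Cfsg.Agent.Lib.helper3.MackeyLin

set_option autoImplicit false
set_option linter.style.haveILetI false
set_option linter.unusedSectionVars false
set_option linter.unusedVariables false

/-!
# Real characters of odd degree and Sylow normalizers (S4581), part 5

The stabilizer of a character of a normal subgroup, the kernel of a real linear character, and the
description of the characters lying over it.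
-/

namespace Cfsg.Agent.Lib.helper3.RealOddI

open Cfsg Cfsg.Agent.Lib.helper3.Irr Cfsg.Agent.Lib.helper3.CharBasic
open Cfsg.Agent.Lib.helper3.IndFun Cfsg.Agent.Lib.Helper4.RealOddIA Cfsg.Agent.Lib.Helper7.RealOddB
open scoped ComplexConjugate

universe u

section stab

variable {G : Type u} [Group G]

/-- The stabilizer of a function on a normal subgroup. -/
def stab (Q : Subgroup G) [hQ : Q.Normal] (μ : Q → ℂ) : Subgroup G where
  carrier := {g | conjFun Q μ g = μ}
  one_mem' := conjFun_one Q μ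
  mul_mem' := by
    intro a b ha hb
    show conjFun Q μ (a * b) = μ
    rw [← conjFun_mul, ha, hb]
  inv_mem' := by
    intro a ha
    show conjFun Q μ a⁻¹ = μ
    have h := conjFun_mul Q μ a a⁻¹
    rw [ha, mul_inv_cancel, conjFun_one] at h
    exact h

theorem mem_stab (Q : Subgroup G) [hQ : Q.Normal] (μ : Q → ℂ) (g : G) :
    g ∈ stab Q μ ↔ conjFun Q μ g = μ := Iff.rfl

theorem le_stab [Finite G] (Q : Subgroup G) [hQ : Q.Normal] {μ : Q → ℂ} (hμ : IsCharacter Q μ) :
    Q ≤ stab Q μ := by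
  intro q hq
  rw [mem_stab]
  funext h
  have := isClassFunction_of_isCharacter hμ h ⟨q, hq⟩
  rw [← this]
  unfold conjFun
  congr 1

theorem odd_index_of_le (P : Sylow 2 G) [Finite G] (T : Subgroup G) (hPT : (P : Subgroup G) ≤ T) :
    Odd T.index := by
  have h1 : T.index ∣ (P : Subgroup G).index := Subgroup.index_dvd_of_le hPT
  have h2 : ¬ 2 ∣ (P : Subgroup G).index := P.not_dvd_index
  rw [← Nat.not_even_iff_odd, even_iff_two_dvd]
  exact fun h => h2 (h.trans h1)

end stab

section values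

variable {G : Type u} [Group G]

/-- A real linear character takes the values `±1`. -/
theorem real_linear_values [Finite G] {μ : G → ℂ} (hμ : IsCharacter G μ) (h1 : μ 1 = 1)
    (hr : ∀ g, (μ g).im = 0) (g : G) : μ g = 1 ∨ μ g = -1 := by
  have h2 := Cfsg.Agent.Lib.helper3.MackeyLin.mul_conj_eq_one_of_linear hμ h1 g
  rw [Complex.conj_eq_iff_im.mpr (hr g)] at h2
  have h3 : (μ g - 1) * (μ g + 1) = 0 := by linear_combination h2
  rcases mul_eq_zero.mp h3 with h | h
  · left; exact sub_eq_zero.mp h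
  · right; exact eq_neg_of_add_eq_zero_left h

/-- The description of the characters of `W` restricting to a multiple of a `±1`-valued
homomorphism on the image of `ι`. -/
theorem values_iff {W : Type u} [Group W] [Finite W] (Q : Subgroup G) (m : ↥Q →* ℂ) (q0 : Q)
    (hq0 : ∀ q, m q = 1 ∨ m q = m q0) (ι : ↥Q →* W) (ψ : IrrCharacter W) :
    (∀ q : Q, (ψ : W → ℂ) (ι q) = (ψ : W → ℂ) 1 * m q) ↔
      ((ψ : W → ℂ) (ι q0) = m q0 * (ψ : W → ℂ) 1 ∧
        ∀ w ∈ m.ker.map ι, (ψ : W → ℂ) w = (ψ : W → ℂ) 1) := by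
  constructor
  · intro h
    refine ⟨by rw [h q0, mul_comm], ?_⟩
    rintro w ⟨q, hq, rfl⟩
    rw [h q, MonoidHom.mem_ker.mp hq, mul_one]
  · rintro ⟨h1, h2⟩ q
    rcases hq0 q with hq | hq
    · rw [hq, mul_one]
      exact h2 _ ⟨q, MonoidHom.mem_ker.mpr hq, rfl⟩
    · have hk : m (q0⁻¹ * q) = 1 := by
        have e1 : m q0⁻¹ * m q0 = 1 := by rw [← map_mul, inv_mul_cancel, map_one]
        rw [map_mul, hq, e1]
      have hq' : q = q0 * (q0⁻¹ * q) := by group
      have e2 : (ψ : W → ℂ) (ι (q0⁻¹ * q)) = (ψ : W → ℂ) 1 :=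
        h2 _ ⟨_, MonoidHom.mem_ker.mpr hk, rfl⟩
      have e3 : (ψ : W → ℂ) (ι q0 * ι (q0⁻¹ * q)) = (ψ : W → ℂ) (ι q0) :=
        apply_mul_of_apply_eq_one (isCharacter_of_isIrrCharacter ψ.2) e2 _
      have e4 : ι q = ι q0 * ι (q0⁻¹ * q) := by rw [← map_mul, ← hq']
      rw [e4, e3, h1, hq, mul_comm]

/-- The choice of an element on which a `±1`-valued homomorphism is not `1`, if any. -/
theorem exists_q0 (Q : Subgroup G) (m : ↥Q →* ℂ) (hm : ∀ q, m q = 1 ∨ m q = -1) :
    ∃ q0 : Q, ∀ q, m q = 1 ∨ m q = m q0 := by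
  by_cases h : ∃ q, m q ≠ 1
  · obtain ⟨q0, hq0⟩ := h
    refine ⟨q0, fun q => ?_⟩
    rcases hm q with h1 | h1
    · exact Or.inl h1
    · right
      rcases hm q0 with h2 | h2
      · exact absurd h2 hq0
      · rw [h1, h2]
  · push Not at h
    exact ⟨1, fun q => Or.inl (h q)⟩

end values

end Cfsg.Agent.Lib.helper3.RealOddI
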