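import Mathlib
import Cfsg.Prelude.Def_Characters
import Cfsg.Prelude.Def_Blocks
import Cfsg.Agent.Lib.helper3.RealOddI5

set_option autoImplicit false
set_option linter.style.haveILetI false
set_option linter.unusedSectionVars false
set_option linter.unusedVariables false

/-!
# Real characters of odd degree and Sylow normalizers (S4581), part 6

The count over a fixed `P`-invariant real linear character of a normal `2`-subgroup.
-/

namespace Cfsg.Agent.Lib.helper3.RealOddI

open Cfsg Cfsg.Agent.Lib.helper3.Irr Cfsg.Agent.Lib.helper3.CharBasic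
open Cfsg.Agent.Lib.helper3.IndFun Cfsg.Agent.Lib.Helper4.RealOddIA Cfsg.Agent.Lib.Helper7.RealOddB
open scoped ComplexConjugate

universe u

section generic

variable {G : Type u} [Group G]

/-- Counting through a surjective homomorphism whose kernel is the kernel of `m`. -/
theorem card_values_eq_of_surjective {W Y' : Type u} [Group W] [Group Y'] [Finite W]
    (Q : Subgroup G) (m : ↥Q →* ℂ) (q0 : Q) (hq0 : ∀ q, m q = 1 ∨ m q = m q0) (ι : ↥Q →* W)
    (g : W →* Y') (hg : Function.Surjective g) (hker : g.ker = m.ker.map ι) :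
    Nat.card {ψ : IrrCharacter W // (∀ t : W, ((ψ : W → ℂ) t).im = 0) ∧
        Odd (charDegree (ψ : W → ℂ)) ∧
        ∀ q : Q, (ψ : W → ℂ) (ι q) = (ψ : W → ℂ) 1 * m q} =
      Nat.card {ψ : IrrCharacter Y' // RO (g (ι q0)) (m q0) ψ} := by
  rw [card_RO_surjective g hg (ι q0) (m q0)]
  apply Nat.card_congr
  apply Equiv.subtypeEquivRight
  intro ψ
  rw [values_iff Q m q0 hq0 ι ψ, hker]
  unfold RO
  tauto

end generic

section dict

variable {G : Type u} [Group G]

theorem conjFun_subFun (Q H : Subgroup G) [hQ : Q.Normal] (μ : Q → ℂ) (h : ↥H) :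
    haveI : (Q.subgroupOf H).Normal := Subgroup.normal_subgroupOf
    conjFun (Q.subgroupOf H) (subFun Q H μ) h = subFun Q H (conjFun Q μ (h : G)) := by
  funext x
  rfl

theorem subFun_injective (Q H : Subgroup G) (hQH : Q ≤ H) {μ μ' : Q → ℂ}
    (h : subFun Q H μ = subFun Q H μ') : μ = μ' := by
  funext q
  have := congrFun h ⟨⟨(q : G), hQH q.2⟩, Subgroup.mem_subgroupOf.mpr q.2⟩
  exact this

theorem classInner_sub_eq [Finite G] (Q H : Subgroup G) (hQH : Q ≤ H) [Fintype Q]
    [Fintype (Q.subgroupOf H)] (φ : H → ℂ) (μ : Q → ℂ) :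
    classInner (fun q : Q.subgroupOf H => φ (q : H)) (subFun Q H μ)
      = classInner (fun q : Q => φ ⟨(q : G), hQH q.2⟩) μ := by
  have h2 : (fun x : Q.subgroupOf H => φ (x : H))
      = subFun Q H (fun n : Q => φ ⟨(n : G), hQH n.2⟩) := rfl
  rw [h2]
  exact classInner_subFun hQH _ _

/-- The normalizer of `P ∩ T` in `T`, for `P ≤ T`. -/
theorem mem_normalizer_subgroupOf_iff (P T : Subgroup G) (hPT : P ≤ T) (x : ↥T) :
    x ∈ Subgroup.normalizer ((P.subgroupOf T : Subgroup ↥T) : Set ↥T) ↔
      (x : G) ∈ Subgroup.normalizer (P : Set G) := by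
  rw [Subgroup.mem_normalizer_iff, Subgroup.mem_normalizer_iff]
  constructor
  · intro h g
    constructor
    · intro hg
      have := (h ⟨g, hPT hg⟩).mp (Subgroup.mem_subgroupOf.mpr hg)
      exact Subgroup.mem_subgroupOf.mp this
    · intro hg
      have hgT : g ∈ T := by
        have h1 : (x : G)⁻¹ * ((x : G) * g * (x : G)⁻¹) * (x : G) ∈ T :=
          T.mul_mem (T.mul_mem (T.inv_mem x.2) (hPT hg)) x.2
        have h2 : (x : G)⁻¹ * ((x : G) * g * (x : G)⁻¹) * (x : G) = g := by group
        rwa [h2] at h1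
      have := (h ⟨g, hgT⟩).mpr (Subgroup.mem_subgroupOf.mpr hg)
      exact Subgroup.mem_subgroupOf.mp this
  · intro h y
    constructor
    · intro hy
      exact Subgroup.mem_subgroupOf.mpr ((h (y : G)).mp (Subgroup.mem_subgroupOf.mp hy))
    · intro hy
      exact Subgroup.mem_subgroupOf.mpr ((h (y : G)).mpr (Subgroup.mem_subgroupOf.mp hy))

end dict

end Cfsg.Agent.Lib.helper3.RealOddI
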