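import Mathlib
import Cfsg.Prelude.Def_Characters
import Cfsg.Prelude.Def_Blocks
import Cfsg.Agent.Lib.helper3.RealOddI6

set_option autoImplicit false
set_option linter.style.haveILetI false
set_option linter.unusedSectionVars false
set_option linter.unusedVariables false
set_option maxHeartbeats 1000000

/-!
# Real characters of odd degree and Sylow normalizers (S4581), part 7

The count over a fixed `P`-invariant real linear character of a normal `2`-subgroup: comparison of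
the group and the Sylow normalizer through the inductive hypothesis.
-/

namespace Cfsg.Agent.Lib.helper3.RealOddI

open Cfsg Cfsg.Agent.Lib.helper3.Irr Cfsg.Agent.Lib.helper3.CharBasic
open Cfsg.Agent.Lib.helper3.IndFun Cfsg.Agent.Lib.Helper4.RealOddIA Cfsg.Agent.Lib.Helper7.RealOddB
open scoped ComplexConjugate

universe u

variable {G : Type u} [Group G] [Fintype G]

/-- The kernel of a `±1`-valued homomorphism on a group of order at least `3` is nontrivial. -/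
theorem exists_ne_one_mem_ker (Q : Subgroup G) (m : ↥Q →* ℂ) (hm : ∀ q, m q = 1 ∨ m q = -1)
    (hQ3 : 2 < Nat.card Q) : ∃ q : Q, q ≠ 1 ∧ m q = 1 := by
  classical
  letI : Fintype Q := Fintype.ofFinite _
  have hcard : Fintype.card Bool < Fintype.card Q := by
    rw [Fintype.card_bool, ← Nat.card_eq_fintype_card]
    exact hQ3
  obtain ⟨a, b, hab, hfab⟩ := Fintype.exists_ne_map_eq_of_card_lt
    (fun q : Q => decide (m q = 1)) hcard
  have hmab : m a = m b := by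
    have h1 : (m a = 1) ↔ (m b = 1) := by
      simpa using hfab
    rcases hm a with ha | ha
    · rw [ha, h1.mp ha]
    · rcases hm b with hb | hb
      · rw [h1.mpr hb, hb]
      · rw [ha, hb]
  refine ⟨a⁻¹ * b, ?_, ?_⟩
  · intro h
    apply hab
    exact inv_mul_eq_one.mp h
  · have e1 : m a⁻¹ * m a = 1 := by rw [← map_mul, inv_mul_cancel, map_one]
    rw [map_mul, ← hmab, e1]

set_option maxHeartbeats 4000000 in
/-- The count over a fixed `P`-invariant real linear character. -/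
theorem per_mu [Group.IsSolvable G] (P : Sylow 2 G) (Q : Subgroup G) [hQ : Q.Normal] [Fintype Q]
    (hQP : Q ≤ (P : Subgroup G)) (hQ3 : 2 < Nat.card Q)
    (ih : ∀ (Y : Type u) [Group Y] [Finite Y] [Group.IsSolvable Y],
      Nat.card Y < Nat.card G → Thm Y)
    (z : ↥(Nz P)) (hz : (z : G) ∈ Subgroup.center G) (hzQ : (z : G) ∈ Q) (ε : ℂ)
    (μ : IrrCharacter Q) (hμ1 : (μ : Q → ℂ) 1 = 1) (hμr : ∀ q, ((μ : Q → ℂ) q).im = 0)
    (hμz : (μ : Q → ℂ) ⟨(z : G), hzQ⟩ = ε)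
    (hμP : ∀ u ∈ (P : Subgroup G), conjFun Q (μ : Q → ℂ) u = (μ : Q → ℂ)) :
    Nat.card {χ : IrrCharacter G // RO (z : G) ε χ ∧
        classInner (fun q : Q => (χ : G → ℂ) q) (μ : Q → ℂ) ≠ 0} =
      Nat.card {φ : IrrCharacter ↥(Nz P) // RO z ε φ ∧
        classInner (fun q : Q => (φ : ↥(Nz P) → ℂ)
          ⟨(q : G), (le_trans hQP Subgroup.le_normalizer : Q ≤ Nz P) q.2⟩) (μ : Q → ℂ) ≠ 0} := by
  classical
  have hμc := isCharacter_of_isIrrCharacter μ.2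
  have hPT : (P : Subgroup G) ≤ stab Q (μ : Q → ℂ) := fun u hu => hμP u hu
  have hQT : Q ≤ stab Q (μ : Q → ℂ) := le_stab Q hμc
  have hTodd : Odd (stab Q (μ : Q → ℂ)).index := odd_index_of_le P _ hPT
  let m : ↥Q →* ℂ := Cfsg.Agent.Lib.helper3.Lin.toHom hμc hμ1
  have hm : ∀ q, m q = (μ : Q → ℂ) q := fun q => rfl
  have hmval : ∀ q, m q = 1 ∨ m q = -1 := fun q => real_linear_values hμc hμ1 hμr q
  obtain ⟨q0, hq0⟩ := exists_q0 Q m hmval
  have hminv : ∀ t ∈ stab Q (μ : Q → ℂ), ∀ q : Q,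
      m ⟨t * (q : G) * t⁻¹, hQ.conj_mem q q.2 t⟩ = m q := by
    intro t ht q
    exact congrFun ((mem_stab Q _ t).mp ht) q
  -- the `G`-side
  let ι : ↥Q →* ↥(stab Q (μ : Q → ℂ)) := Subgroup.inclusion hQT
  haveI hKn : (m.ker.map ι).Normal := by
    constructor
    rintro _ ⟨q, hq, rfl⟩ t
    refine ⟨⟨(t : G) * (q : G) * (t : G)⁻¹, hQ.conj_mem q q.2 t⟩, ?_, ?_⟩
    · rw [SetLike.mem_coe, MonoidHom.mem_ker, hminv (t : G) t.2 q]
      exact MonoidHom.mem_ker.mp hq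
    · apply Subtype.ext
      rfl
  have hfs : Function.Surjective (QuotientGroup.mk' (m.ker.map ι)) := QuotientGroup.mk'_surjective _
  have hG1 := card_RO_over_eq Q (stab Q (μ : Q → ℂ)) μ hμ1 hμr (fun g => Iff.rfl) hQT hTodd
    ⟨(z : G), hzQ⟩ hz ε hμz
  have hG2 := card_values_eq_of_surjective Q m q0 hq0 ι (QuotientGroup.mk' (m.ker.map ι)) hfs
    (QuotientGroup.ker_mk' _)
  have hG := hG1.trans hG2
  -- the normalizer side
  have hQN : Q ≤ Nz P := le_trans hQP Subgroup.le_normalizer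
  have hPN : (P : Subgroup G) ≤ Nz P := Subgroup.le_normalizer
  letI : Fintype ↥(Nz P) := Fintype.ofFinite _
  haveI hQ'n : (Q.subgroupOf (Nz P)).Normal := Subgroup.normal_subgroupOf
  letI : Fintype ↥(Q.subgroupOf (Nz P)) := Fintype.ofFinite _
  let μ' : IrrCharacter ↥(Q.subgroupOf (Nz P)) :=
    ⟨subFun Q (Nz P) (μ : Q → ℂ), isIrrCharacter_subFun hQN μ.2⟩
  letI : Fintype ↥((stab Q (μ : Q → ℂ)).subgroupOf (Nz P)) := Fintype.ofFinite _
  have hμ'1 : (μ' : ↥(Q.subgroupOf (Nz P)) → ℂ) 1 = 1 := by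
    show (μ : Q → ℂ) ⟨((1 : ↥(Q.subgroupOf (Nz P))) : ↥(Nz P)), _⟩ = 1
    rw [← hμ1]
    congr 1
  have hμ'r : ∀ q, ((μ' : ↥(Q.subgroupOf (Nz P)) → ℂ) q).im = 0 := fun q => hμr _
  have hT' : ∀ g : ↥(Nz P), g ∈ (stab Q (μ : Q → ℂ)).subgroupOf (Nz P) ↔
      conjFun (Q.subgroupOf (Nz P)) (μ' : ↥(Q.subgroupOf (Nz P)) → ℂ) g
        = (μ' : ↥(Q.subgroupOf (Nz P)) → ℂ) := by
    intro g
    show _ ↔ conjFun (Q.subgroupOf (Nz P)) (subFun Q (Nz P) (μ : Q → ℂ)) g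
      = subFun Q (Nz P) (μ : Q → ℂ)
    rw [conjFun_subFun]
    constructor
    · intro hg
      have : conjFun Q (μ : Q → ℂ) (g : G) = (μ : Q → ℂ) := Subgroup.mem_subgroupOf.mp hg
      rw [this]
    · intro h
      exact Subgroup.mem_subgroupOf.mpr (subFun_injective Q (Nz P) hQN h)
  have hQT' : Q.subgroupOf (Nz P) ≤ (stab Q (μ : Q → ℂ)).subgroupOf (Nz P) := by
    intro x hx
    exact Subgroup.mem_subgroupOf.mpr (hQT (Subgroup.mem_subgroupOf.mp hx))
  have hT'odd : Odd ((stab Q (μ : Q → ℂ)).subgroupOf (Nz P)).index :=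
    odd_index_of_le (P.subtype hPN) _ (by
      intro x hx
      rw [Sylow.coe_subtype] at hx
      exact Subgroup.mem_subgroupOf.mpr (hPT (Subgroup.mem_subgroupOf.mp hx)))
  let z' : ↥(Q.subgroupOf (Nz P)) := ⟨z, Subgroup.mem_subgroupOf.mpr hzQ⟩
  have hz' : ((z' : ↥(Q.subgroupOf (Nz P))) : ↥(Nz P)) ∈ Subgroup.center ↥(Nz P) := by
    rw [Subgroup.mem_center_iff]
    intro n
    apply Subtype.ext
    exact Subgroup.mem_center_iff.mp hz n
  have hε' : (μ' : ↥(Q.subgroupOf (Nz P)) → ℂ) z' = ε := hμz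
  have hN1 := card_RO_over_eq (Q.subgroupOf (Nz P)) ((stab Q (μ : Q → ℂ)).subgroupOf (Nz P)) μ'
    hμ'1 hμ'r hT' hQT' hT'odd z' hz' ε hε'
  -- the homomorphisms on the normalizer side
  let ι' : ↥Q →* ↥((stab Q (μ : Q → ℂ)).subgroupOf (Nz P)) :=
    { toFun := fun q => ⟨⟨(q : G), hQN q.2⟩, Subgroup.mem_subgroupOf.mpr (hQT q.2)⟩
      map_one' := rfl
      map_mul' := fun _ _ => rfl }
  let j : ↥((stab Q (μ : Q → ℂ)).subgroupOf (Nz P)) →* ↥(stab Q (μ : Q → ℂ)) :=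
    { toFun := fun w => ⟨((w : ↥(Nz P)) : G), Subgroup.mem_subgroupOf.mp w.2⟩
      map_one' := rfl
      map_mul' := fun _ _ => rfl }
  have hjι : ∀ q, j (ι' q) = ι q := fun q => rfl
  have hjinj : Function.Injective j := by
    intro a b hab
    apply Subtype.ext
    apply Subtype.ext
    exact congrArg (fun t : ↥(stab Q (μ : Q → ℂ)) => (t : G)) hab
  have hjrange : j.range = Nz (P.subtype hPT) := by
    ext x
    rw [MonoidHom.mem_range]
    constructor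
    · rintro ⟨w, rfl⟩
      exact (mem_normalizer_subgroupOf_iff (P : Subgroup G) _ hPT (j w)).mpr (w : ↥(Nz P)).2
    · intro hx
      have hx' := (mem_normalizer_subgroupOf_iff (P : Subgroup G) _ hPT x).mp hx
      exact ⟨⟨⟨(x : G), hx'⟩, Subgroup.mem_subgroupOf.mpr x.2⟩, rfl⟩
  have hNYeq : Nz ((P.subtype hPT).mapSurjective hfs)
      = (Nz (P.subtype hPT)).map (QuotientGroup.mk' (m.ker.map ι)) := by
    exact normalizer_map_eq 2 (QuotientGroup.mk' (m.ker.map ι)) hfs (P.subtype hPT)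
  have hrange : ((QuotientGroup.mk' (m.ker.map ι)).comp j).range
      = Nz ((P.subtype hPT).mapSurjective hfs) := by
    rw [hNYeq, MonoidHom.range_comp, hjrange]
  obtain ⟨g, hgs, hg⟩ := exists_cod_hom ((QuotientGroup.mk' (m.ker.map ι)).comp j)
    (Nz ((P.subtype hPT).mapSurjective hfs)) hrange
  have hkerg : g.ker = m.ker.map ι' := by
    ext w
    rw [MonoidHom.mem_ker, Subgroup.mem_map]
    constructor
    · intro hw
      have h1 : ((g w : ↥(Nz ((P.subtype hPT).mapSurjective hfs))) : _ ⧸ m.ker.map ι) = 1 := by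
        rw [hw]; rfl
      rw [hg w] at h1
      have h2 : j w ∈ m.ker.map ι := (QuotientGroup.eq_one_iff _).mp h1
      obtain ⟨q, hq, hqw⟩ := h2
      refine ⟨q, hq, ?_⟩
      apply hjinj
      rw [hjι, hqw]
    · rintro ⟨q, hq, rfl⟩
      apply Subtype.ext
      rw [hg]
      show QuotientGroup.mk' (m.ker.map ι) (j (ι' q)) = 1
      rw [hjι]
      exact (QuotientGroup.eq_one_iff _).mpr ⟨q, hq, rfl⟩
  have hN2 := card_values_eq_of_surjective Q m q0 hq0 ι' g hgs hkerg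
  -- the inductive hypothesis
  have hcoe : ((g (ι' q0) : ↥(Nz ((P.subtype hPT).mapSurjective hfs))) : _ ⧸ m.ker.map ι)
      = QuotientGroup.mk' (m.ker.map ι) (ι q0) := by
    rw [hg]
    rfl
  have hcenter : QuotientGroup.mk' (m.ker.map ι) (ι q0) ∈ Subgroup.center (_ ⧸ m.ker.map ι) := by
    rw [Subgroup.mem_center_iff]
    intro y
    obtain ⟨t, rfl⟩ := hfs y
    rw [← map_mul, ← map_mul]
    show ((t * ι q0 : ↥(stab Q (μ : Q → ℂ))) : _ ⧸ m.ker.map ι) = ((ι q0 * t : ↥(stab Q (μ : Q → ℂ))) : _ ⧸ m.ker.map ι)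
    rw [QuotientGroup.eq]
    -- the commutator lies in the kernel
    refine ⟨(q0⁻¹ * ⟨(t : G)⁻¹ * (q0 : G) * ((t : G)⁻¹)⁻¹, hQ.conj_mem q0 q0.2 _⟩ : Q), ?_, ?_⟩
    · rw [SetLike.mem_coe, MonoidHom.mem_ker, map_mul,
        hminv (t : G)⁻¹ (Subgroup.inv_mem _ t.2) q0, ← map_mul, inv_mul_cancel, map_one]
    · apply Subtype.ext
      show (q0 : G)⁻¹ * ((t : G)⁻¹ * (q0 : G) * ((t : G)⁻¹)⁻¹) = ((t : G) * (q0 : G))⁻¹ * ((q0 : G) * (t : G))
      group
  have hsq : QuotientGroup.mk' (m.ker.map ι) (ι q0) * QuotientGroup.mk' (m.ker.map ι) (ι q0) = 1 := by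
    rw [← map_mul]
    apply (QuotientGroup.eq_one_iff _).mpr
    refine ⟨q0 * q0, ?_, map_mul ι q0 q0⟩
    rw [SetLike.mem_coe, MonoidHom.mem_ker, map_mul]
    rcases hmval q0 with h | h <;> rw [h] <;> norm_num
  have hcardY : Nat.card (↥(stab Q (μ : Q → ℂ)) ⧸ m.ker.map ι) < Nat.card G := by
    obtain ⟨k, hk1, hk⟩ := exists_ne_one_mem_ker Q m hmval hQ3
    have h1 : 1 < Nat.card ↥(m.ker.map ι) := by
      rw [Finite.one_lt_card_iff_nontrivial]
      refine ⟨⟨⟨ι k, ⟨k, MonoidHom.mem_ker.mpr hk, rfl⟩⟩, 1, ?_⟩⟩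
      intro h
      apply hk1
      have h2 : ι k = 1 := congrArg Subtype.val h
      apply Subtype.ext
      exact congrArg (fun t : ↥(stab Q (μ : Q → ℂ)) => (t : G)) h2
    have h2 : Nat.card ↥(m.ker.map ι) * Nat.card (↥(stab Q (μ : Q → ℂ)) ⧸ m.ker.map ι)
        = Nat.card ↥(stab Q (μ : Q → ℂ)) := by
      rw [← Subgroup.index_eq_card, Subgroup.card_mul_index]
    have h3 : Nat.card ↥(stab Q (μ : Q → ℂ)) ≤ Nat.card G := Subgroup.card_le_card_group _
    have h4 : 0 < Nat.card (↥(stab Q (μ : Q → ℂ)) ⧸ m.ker.map ι) := Nat.card_pos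
    nlinarith
  have hY := ih (↥(stab Q (μ : Q → ℂ)) ⧸ m.ker.map ι) hcardY ((P.subtype hPT).mapSurjective hfs)
    (g (ι' q0)) (by rw [hcoe]; exact hcenter) (by rw [hcoe]; exact hsq) (m q0)
  rw [hcoe] at hY
  -- assembling
  rw [hG, hY, ← hN2]
  -- the remaining identification on the normalizer side
  have hN1' : Nat.card {φ : IrrCharacter ↥(Nz P) // RO z ε φ ∧
        classInner (fun q : Q => (φ : ↥(Nz P) → ℂ) ⟨(q : G), hQN q.2⟩) (μ : Q → ℂ) ≠ 0}
      = Nat.card {φ : IrrCharacter ↥(Nz P) // RO ((z' : ↥(Q.subgroupOf (Nz P))) : ↥(Nz P)) ε φ ∧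
        classInner (fun q : ↥(Q.subgroupOf (Nz P)) => (φ : ↥(Nz P) → ℂ) q)
          (μ' : ↥(Q.subgroupOf (Nz P)) → ℂ) ≠ 0} := by
    apply Nat.card_congr
    apply Equiv.subtypeEquivRight
    intro φ
    have := classInner_sub_eq Q (Nz P) hQN (φ : ↥(Nz P) → ℂ) (μ : Q → ℂ)
    show _ ↔ RO z ε φ ∧ classInner (fun q : ↥(Q.subgroupOf (Nz P)) => (φ : ↥(Nz P) → ℂ) q)
      (subFun Q (Nz P) (μ : Q → ℂ)) ≠ 0
    rw [this]
  rw [hN1', hN1]
  apply Nat.card_congr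
  apply Equiv.subtypeEquivRight
  intro ψ
  have hiff : (∀ q : ↥(Q.subgroupOf (Nz P)),
      (ψ : ↥((stab Q (μ : Q → ℂ)).subgroupOf (Nz P)) → ℂ) ⟨(q : ↥(Nz P)), hQT' q.2⟩
        = (ψ : ↥((stab Q (μ : Q → ℂ)).subgroupOf (Nz P)) → ℂ) 1
          * (μ' : ↥(Q.subgroupOf (Nz P)) → ℂ) q) ↔
      (∀ q : Q, (ψ : ↥((stab Q (μ : Q → ℂ)).subgroupOf (Nz P)) → ℂ) (ι' q)
        = (ψ : ↥((stab Q (μ : Q → ℂ)).subgroupOf (Nz P)) → ℂ) 1 * m q) := by
    constructor
    · intro h q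
      exact h ⟨⟨(q : G), hQN q.2⟩, Subgroup.mem_subgroupOf.mpr q.2⟩
    · intro h q
      exact h ⟨((q : ↥(Nz P)) : G), Subgroup.mem_subgroupOf.mp q.2⟩
  rw [hiff]

end Cfsg.Agent.Lib.helper3.RealOddI
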