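import Mathlib
import Cfsg.Prelude.Def_Characters
import Cfsg.Prelude.Def_Blocks
import Cfsg.Agent.Lib.helper3.RealOddI7
import Cfsg.Agent.Lib.helper3.Clifford
import Cfsg.Agent.H1.Cores
import Cfsg.Agent.Lib.Lead.PSolvable
import Cfsg.Agent.Lib.Helper4.SolvPSolv

set_option autoImplicit false
set_option linter.style.haveILetI false
set_option linter.unusedSectionVars false
set_option linter.unusedVariables false

/-!
# Real characters of odd degree and Sylow normalizers (S4581), part 8

The orbit matching over `O_2(G)` and the main induction.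
-/

namespace Cfsg.Agent.Lib.helper3.RealOddI

open Cfsg Cfsg.Agent.Lib.helper3.Irr Cfsg.Agent.Lib.helper3.CharBasic
open Cfsg.Agent.Lib.helper3.IndFun Cfsg.Agent.Lib.Helper4.RealOddIA Cfsg.Agent.Lib.Helper7.RealOddB
open scoped ComplexConjugate

universe u

variable {G : Type u} [Group G] [Fintype G]

/-- Invariance under `P` is preserved by conjugation with elements normalizing `P`. -/
theorem pinv_conj (Q P : Subgroup G) [hQ : Q.Normal] (μ : Q → ℂ)
    (hμP : ∀ u ∈ P, conjFun Q μ u = μ) (n : G) (hn : n ∈ Subgroup.normalizer (P : Set G)) :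
    ∀ u ∈ P, conjFun Q (conjFun Q μ n) u = conjFun Q μ n := by
  intro u hu
  have h1 : n * u * n⁻¹ ∈ P := (Subgroup.mem_normalizer_iff.mp hn u).mp hu
  have h2 : n * u = (n * u * n⁻¹) * n := by group
  rw [conjFun_mul, h2, ← conjFun_mul, hμP _ h1]

theorem conj_conj_inv (Q : Subgroup G) [hQ : Q.Normal] (μ : Q → ℂ) (n : G) :
    conjFun Q (conjFun Q μ n) n⁻¹ = μ := by
  rw [conjFun_mul, mul_inv_cancel, conjFun_one]

/-- Restriction to `Q` of a class function of a subgroup `H ≥ Q` is invariant under `H`. -/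
theorem classInner_sub_conjFun (Q H : Subgroup G) [hQ : Q.Normal] [Fintype Q] (hQH : Q ≤ H)
    (φ : H → ℂ) (hφ : IsClassFunction H φ) (μ : Q → ℂ) (n : G) (hn : n ∈ H) :
    classInner (fun q : Q => φ ⟨(q : G), hQH q.2⟩) (conjFun Q μ n)
      = classInner (fun q : Q => φ ⟨(q : G), hQH q.2⟩) μ := by
  classical
  letI : Fintype ↥H := Fintype.ofFinite _
  haveI : (Q.subgroupOf H).Normal := Subgroup.normal_subgroupOf
  letI : Fintype ↥(Q.subgroupOf H) := Fintype.ofFinite _
  rw [← classInner_sub_eq Q H hQH φ (conjFun Q μ n), ← classInner_sub_eq Q H hQH φ μ]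
  have h1 := conjFun_subFun Q H μ ⟨n, hn⟩
  rw [← h1]
  exact classInner_restrict_conjFun (Q.subgroupOf H) φ hφ (subFun Q H μ) ⟨n, hn⟩

/-- A normal subgroup of order at most two is central. -/
theorem le_center_of_card_le_two (Q : Subgroup G) [hQ : Q.Normal] (h2 : Nat.card Q ≤ 2) :
    Q ≤ Subgroup.center G := by
  classical
  intro q hq
  rw [Subgroup.mem_center_iff]
  intro g
  by_contra hne
  have hne' : g * q * g⁻¹ ≠ q := by
    intro h
    apply hne
    have : g * q = (g * q * g⁻¹) * g := by group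
    rw [this, h]
  have hq1 : q ≠ 1 := by
    rintro rfl
    apply hne'
    group
  have hc1 : g * q * g⁻¹ ≠ 1 := by
    intro h
    apply hq1
    have : q = g⁻¹ * (g * q * g⁻¹) * g := by group
    rw [this, h]
    group
  let s : Finset ↥Q := {1, ⟨q, hq⟩, ⟨g * q * g⁻¹, hQ.conj_mem q hq g⟩}
  have hs : s.card = 3 := by
    rw [Finset.card_eq_three]
    refine ⟨1, ⟨q, hq⟩, ⟨g * q * g⁻¹, hQ.conj_mem q hq g⟩, ?_, ?_, ?_, rfl⟩
    · intro h
      exact hq1 (congrArg Subtype.val h).symm
    · intro h
      exact hc1 (congrArg Subtype.val h).symm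
    · intro h
      exact hne' (congrArg Subtype.val h).symm
  have hle : s.card ≤ Fintype.card ↥Q := Finset.card_le_univ s
  rw [← Nat.card_eq_fintype_card] at hle
  omega

end Cfsg.Agent.Lib.helper3.RealOddI
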