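import Mathlib
import Cfsg.Prelude.Def_Characters
import Cfsg.Prelude.Def_Blocks
import Cfsg.Agent.Lib.helper3.RealOddI8
import Cfsg.Agent.Lib.helper3.RealOdd1

set_option autoImplicit false
set_option linter.style.haveILetI false
set_option linter.unusedSectionVars false
set_option linter.unusedVariables false

/-!
# Real characters of odd degree and Sylow normalizers (S4581), part 9

The orbit matching over `O_2(G)`.
-/

namespace Cfsg.Agent.Lib.helper3.RealOddI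

open Cfsg Cfsg.Agent.Lib.helper3.Irr Cfsg.Agent.Lib.helper3.CharBasic
open Cfsg.Agent.Lib.helper3.IndFun Cfsg.Agent.Lib.Helper4.RealOddIA Cfsg.Agent.Lib.Helper7.RealOddB
open scoped ComplexConjugate

universe u

variable {G : Type u} [Group G] [Fintype G]

/-- Linear, real, with prescribed value at `z`. -/
def Good (Q : Subgroup G) (z : G) (hzQ : z ∈ Q) (ε : ℂ) (μ : Q → ℂ) : Prop :=
  μ 1 = 1 ∧ (∀ q, (μ q).im = 0) ∧ μ ⟨z, hzQ⟩ = ε

/-- Invariant under `P`. -/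
def Pinv (Q P : Subgroup G) [hQ : Q.Normal] (μ : Q → ℂ) : Prop :=
  ∀ u ∈ P, conjFun Q μ u = μ

theorem good_conj (Q : Subgroup G) [hQ : Q.Normal] (z : G) (hzQ : z ∈ Q)
    (hz : z ∈ Subgroup.center G) (ε : ℂ) (μ : Q → ℂ) (h : Good Q z hzQ ε μ) (n : G) :
    Good Q z hzQ ε (conjFun Q μ n) := by
  obtain ⟨h1, h2, h3⟩ := h
  refine ⟨?_, fun q => h2 _, ?_⟩
  · rw [← h1]
    unfold conjFun
    congr 1
    apply Subtype.ext
    simp
  · rw [← h3]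
    unfold conjFun
    congr 1
    apply Subtype.ext
    show n * z * n⁻¹ = z
    rw [Subgroup.mem_center_iff.mp hz n]
    group

/-- Transfer of the relation on the group side. -/
theorem relG_conj (Q : Subgroup G) [hQ : Q.Normal] [Fintype Q] (P : Subgroup G) (z : G)
    (hzQ : z ∈ Q) (hz : z ∈ Subgroup.center G) (ε : ℂ) (χ : IrrCharacter G) (μ : Q → ℂ) (n : G)
    (hn : n ∈ Subgroup.normalizer (P : Set G))
    (h : Good Q z hzQ ε μ ∧ Pinv Q P μ ∧ classInner (fun q : Q => (χ : G → ℂ) q) μ ≠ 0) :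
    Good Q z hzQ ε (conjFun Q μ n) ∧ Pinv Q P (conjFun Q μ n) ∧
      classInner (fun q : Q => (χ : G → ℂ) q) (conjFun Q μ n) ≠ 0 := by
  refine ⟨good_conj Q z hzQ hz ε μ h.1 n, pinv_conj Q P μ h.2.1 n hn, ?_⟩
  rw [classInner_restrict_conjFun Q (χ : G → ℂ)
    (isClassFunction_of_isCharacter (isCharacter_of_isIrrCharacter χ.2)) μ n]
  exact h.2.2

/-- Transfer of the relation on the normalizer side. -/
theorem relN_conj (Q : Subgroup G) [hQ : Q.Normal] [Fintype Q] (P : Subgroup G)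
    (hQN : Q ≤ Subgroup.normalizer (P : Set G)) (z : G)
    (hzQ : z ∈ Q) (hz : z ∈ Subgroup.center G) (ε : ℂ)
    (φ : IrrCharacter ↥(Subgroup.normalizer (P : Set G))) (μ : Q → ℂ) (n : G)
    (hn : n ∈ Subgroup.normalizer (P : Set G))
    (h : Good Q z hzQ ε μ ∧ Pinv Q P μ ∧
      classInner (fun q : Q => (φ : ↥(Subgroup.normalizer (P : Set G)) → ℂ) ⟨(q : G), hQN q.2⟩) μ ≠ 0) :
    Good Q z hzQ ε (conjFun Q μ n) ∧ Pinv Q P (conjFun Q μ n) ∧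
      classInner (fun q : Q => (φ : ↥(Subgroup.normalizer (P : Set G)) → ℂ) ⟨(q : G), hQN q.2⟩)
        (conjFun Q μ n) ≠ 0 := by
  refine ⟨good_conj Q z hzQ hz ε μ h.1 n, pinv_conj Q P μ h.2.1 n hn, ?_⟩
  rw [classInner_sub_conjFun Q _ hQN (φ : ↥(Subgroup.normalizer (P : Set G)) → ℂ)
    (isClassFunction_of_isCharacter (isCharacter_of_isIrrCharacter φ.2)) μ n hn]
  exact h.2.2

/-- Existence of a good `P`-invariant constituent, group side. -/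
theorem exists_rel_G (Q : Subgroup G) [hQ : Q.Normal] [Fintype Q] (hQ2 : IsPGroup 2 Q)
    (P : Sylow 2 G) (z : G) (hzQ : z ∈ Q) (hz : z ∈ Subgroup.center G) (ε : ℂ)
    (χ : IrrCharacter G) (hχ : RO z ε χ) :
    ∃ μ : IrrCharacter Q, Good Q z hzQ ε (μ : Q → ℂ) ∧ Pinv Q (P : Subgroup G) (μ : Q → ℂ) ∧
      classInner (fun q : Q => (χ : G → ℂ) q) (μ : Q → ℂ) ≠ 0 := by
  obtain ⟨hr, hodd, hval⟩ := hχ
  obtain ⟨μ, hP, hov⟩ := exists_pinv_over Q P χ hodd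
  have hμ1 := linear_of_odd_over Q hQ2 χ hodd μ hov
  refine ⟨μ, ⟨hμ1, real_of_real_odd_over Q χ hr hodd μ hov, ?_⟩, hP, hov⟩
  have h1 := apply_central_of_over Q χ μ hμ1 hov ⟨z, hzQ⟩ hz
  have h2 : (χ : G → ℂ) z = (μ : Q → ℂ) ⟨z, hzQ⟩ * (χ : G → ℂ) 1 := h1
  rw [hval] at h2
  exact (mul_right_cancel₀ (apply_one_ne_zero χ.2) h2).symm

/-- The dictionary between characters of `Q` and of `Q` inside a subgroup `H`. -/
theorem exists_subFun_eq [Finite G] (Q H : Subgroup G) (hQH : Q ≤ H)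
    (μ' : IrrCharacter ↥(Q.subgroupOf H)) :
    ∃ μ : IrrCharacter Q, subFun Q H (μ : Q → ℂ) = (μ' : ↥(Q.subgroupOf H) → ℂ) := by
  have hirr : IsIrrCharacter Q (fun q => (μ' : ↥(Q.subgroupOf H) → ℂ)
      ((Subgroup.subgroupOfEquivOfLe hQH).symm q)) :=
    isIrrCharacter_comp_mulEquiv (Subgroup.subgroupOfEquivOfLe hQH).symm μ'.2
  refine ⟨⟨_, hirr⟩, ?_⟩
  funext x
  show (μ' : ↥(Q.subgroupOf H) → ℂ) ((Subgroup.subgroupOfEquivOfLe hQH).symm _) = _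
  congr 1

/-- Existence of a good `P`-invariant constituent, normalizer side. -/
theorem exists_rel_N (Q : Subgroup G) [hQ : Q.Normal] [Fintype Q] (hQ2 : IsPGroup 2 Q)
    (P : Sylow 2 G) (hQP : Q ≤ (P : Subgroup G)) (z : ↥(Nz P)) (hzQ : (z : G) ∈ Q)
    (hz : (z : G) ∈ Subgroup.center G) (ε : ℂ) (φ : IrrCharacter ↥(Nz P)) (hφ : RO z ε φ) :
    ∃ μ : IrrCharacter Q, Good Q (z : G) hzQ ε (μ : Q → ℂ) ∧ Pinv Q (P : Subgroup G) (μ : Q → ℂ) ∧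
      classInner (fun q : Q => (φ : ↥(Nz P) → ℂ)
        ⟨(q : G), (le_trans hQP Subgroup.le_normalizer : Q ≤ Nz P) q.2⟩) (μ : Q → ℂ) ≠ 0 := by
  classical
  have hQN : Q ≤ Nz P := le_trans hQP Subgroup.le_normalizer
  have hPN : (P : Subgroup G) ≤ Nz P := Subgroup.le_normalizer
  letI : Fintype ↥(Nz P) := Fintype.ofFinite _
  haveI hQ'n : (Q.subgroupOf (Nz P)).Normal := Subgroup.normal_subgroupOf
  letI : Fintype ↥(Q.subgroupOf (Nz P)) := Fintype.ofFinite _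
  have hQ'2 : IsPGroup 2 ↥(Q.subgroupOf (Nz P)) := hQ2.comap_subtype
  obtain ⟨hr, hodd, hval⟩ := hφ
  obtain ⟨μ', hP', hov'⟩ := exists_pinv_over (Q.subgroupOf (Nz P)) (P.subtype hPN) φ hodd
  have hμ'1 := linear_of_odd_over (Q.subgroupOf (Nz P)) hQ'2 φ hodd μ' hov'
  have hμ'r := real_of_real_odd_over (Q.subgroupOf (Nz P)) φ hr hodd μ' hov'
  obtain ⟨μ, hμ⟩ := exists_subFun_eq Q (Nz P) hQN μ'
  have hval' : ∀ q : Q, (μ : Q → ℂ) q
      = (μ' : ↥(Q.subgroupOf (Nz P)) → ℂ) ⟨⟨(q : G), hQN q.2⟩, Subgroup.mem_subgroupOf.mpr q.2⟩ := by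
    intro q
    rw [← hμ]
    rfl
  refine ⟨μ, ⟨?_, ?_, ?_⟩, ?_, ?_⟩
  · rw [hval', ← hμ'1]
    congr 1
  · intro q
    rw [hval']
    exact hμ'r _
  · have hz' : ((⟨z, Subgroup.mem_subgroupOf.mpr hzQ⟩ : ↥(Q.subgroupOf (Nz P))) : ↥(Nz P))
        ∈ Subgroup.center ↥(Nz P) := by
      rw [Subgroup.mem_center_iff]
      intro n
      apply Subtype.ext
      exact Subgroup.mem_center_iff.mp hz n
    have h1 := apply_central_of_over (Q.subgroupOf (Nz P)) φ μ' hμ'1 hov'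
      ⟨z, Subgroup.mem_subgroupOf.mpr hzQ⟩ hz'
    have h2 : (φ : ↥(Nz P) → ℂ) z = (μ' : ↥(Q.subgroupOf (Nz P)) → ℂ)
        ⟨z, Subgroup.mem_subgroupOf.mpr hzQ⟩ * (φ : ↥(Nz P) → ℂ) 1 := h1
    rw [hval] at h2
    rw [hval']
    exact (mul_right_cancel₀ (apply_one_ne_zero φ.2) h2).symm
  · intro u hu
    have h1 := hP' ⟨u, hPN hu⟩ (by
      rw [Sylow.coe_subtype]
      exact Subgroup.mem_subgroupOf.mpr hu)
    rw [← hμ, conjFun_subFun] at h1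
    exact subFun_injective Q (Nz P) hQN h1
  · rw [← classInner_sub_eq Q (Nz P) hQN (φ : ↥(Nz P) → ℂ) (μ : Q → ℂ), hμ]
    exact hov'

/-- Two `P`-invariant constituents on the normalizer side are conjugate under the normalizer. -/
theorem conj_rel_N (Q : Subgroup G) [hQ : Q.Normal] [Fintype Q]
    (P : Sylow 2 G) (hQP : Q ≤ (P : Subgroup G)) (φ : IrrCharacter ↥(Nz P))
    (μ₁ μ₂ : IrrCharacter Q)
    (h₁ : classInner (fun q : Q => (φ : ↥(Nz P) → ℂ)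
        ⟨(q : G), (le_trans hQP Subgroup.le_normalizer : Q ≤ Nz P) q.2⟩) (μ₁ : Q → ℂ) ≠ 0)
    (h₂ : classInner (fun q : Q => (φ : ↥(Nz P) → ℂ)
        ⟨(q : G), (le_trans hQP Subgroup.le_normalizer : Q ≤ Nz P) q.2⟩) (μ₂ : Q → ℂ) ≠ 0) :
    ∃ n ∈ Nz P, (μ₂ : Q → ℂ) = conjFun Q (μ₁ : Q → ℂ) n := by
  classical
  have hQN : Q ≤ Nz P := le_trans hQP Subgroup.le_normalizer
  letI : Fintype ↥(Nz P) := Fintype.ofFinite _
  haveI hQ'n : (Q.subgroupOf (Nz P)).Normal := Subgroup.normal_subgroupOf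
  letI : Fintype ↥(Q.subgroupOf (Nz P)) := Fintype.ofFinite _
  let ν₁ : IrrCharacter ↥(Q.subgroupOf (Nz P)) :=
    ⟨subFun Q (Nz P) (μ₁ : Q → ℂ), isIrrCharacter_subFun hQN μ₁.2⟩
  let ν₂ : IrrCharacter ↥(Q.subgroupOf (Nz P)) :=
    ⟨subFun Q (Nz P) (μ₂ : Q → ℂ), isIrrCharacter_subFun hQN μ₂.2⟩
  have e₁ : classInner (fun q : ↥(Q.subgroupOf (Nz P)) => (φ : ↥(Nz P) → ℂ) q)
      (ν₁ : ↥(Q.subgroupOf (Nz P)) → ℂ) ≠ 0 := by
    show classInner _ (subFun Q (Nz P) (μ₁ : Q → ℂ)) ≠ 0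
    rw [classInner_sub_eq Q (Nz P) hQN]
    exact h₁
  have e₂ : classInner (fun q : ↥(Q.subgroupOf (Nz P)) => (φ : ↥(Nz P) → ℂ) q)
      (ν₂ : ↥(Q.subgroupOf (Nz P)) → ℂ) ≠ 0 := by
    show classInner _ (subFun Q (Nz P) (μ₂ : Q → ℂ)) ≠ 0
    rw [classInner_sub_eq Q (Nz P) hQN]
    exact h₂
  obtain ⟨n, hn⟩ := Cfsg.Agent.Lib.helper3.RealOdd.exists_conj_of_constituents
    (Q.subgroupOf (Nz P)) φ ν₁ ν₂ e₁ e₂
  refine ⟨(n : G), n.2, ?_⟩
  have h3 : subFun Q (Nz P) (μ₂ : Q → ℂ)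
      = conjFun (Q.subgroupOf (Nz P)) (subFun Q (Nz P) (μ₁ : Q → ℂ)) n := hn
  rw [conjFun_subFun] at h3
  exact subFun_injective Q (Nz P) hQN h3

end Cfsg.Agent.Lib.helper3.RealOddI
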