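import Mathlib
import Cfsg.Prelude.Def_Characters
import Cfsg.Prelude.Def_Blocks
import Cfsg.Agent.Lib.helper3.RealOddI9

set_option autoImplicit false
set_option linter.style.haveILetI false
set_option linter.unusedSectionVars false
set_option linter.unusedVariables false

/-!
# Real characters of odd degree and Sylow normalizers (S4581), part 10

The main induction: for a solvable group, the numbers of real irreducible characters of odd degree
of the group and of a Sylow `2`-normalizer coincide.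
-/

namespace Cfsg.Agent.Lib.helper3.RealOddI

open Cfsg Cfsg.Agent.Lib.helper3.Irr Cfsg.Agent.Lib.helper3.CharBasic
open Cfsg.Agent.Lib.helper3.IndFun Cfsg.Agent.Lib.Helper4.RealOddIA Cfsg.Agent.Lib.Helper7.RealOddB
open scoped ComplexConjugate

universe u

set_option maxHeartbeats 4000000 in
/-- The case `O(G) = 1`. -/
theorem thm_step2 {G : Type u} [Group G] [Fintype G] [Group.IsSolvable G]
    (hO : pPrimeCore 2 G = ⊥) (P : Sylow 2 G) (hNtop : Nz P ≠ ⊤)
    (ih : ∀ (Y : Type u) [Group Y] [Finite Y] [Group.IsSolvable Y],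
      Nat.card Y < Nat.card G → Thm Y)
    (z : ↥(Nz P)) (hz : (z : G) ∈ Subgroup.center G) (hz2 : (z : G) * (z : G) = 1) (ε : ℂ) :
    Nat.card {χ : IrrCharacter G // RO (z : G) ε χ} =
      Nat.card {φ : IrrCharacter ↥(Nz P) // RO z ε φ} := by
  classical
  haveI hQn : (pCore 2 G).Normal := Cfsg.Agent.H1.pCore_normal 2
  have hQ2 : IsPGroup 2 ↥(pCore 2 G) := Cfsg.Agent.H1.pCore_isPGroup 2
  have hQP : pCore 2 G ≤ (P : Subgroup G) := Cfsg.Agent.H1.pCore_le_sylow P
  letI : Fintype ↥(pCore 2 G) := Fintype.ofFinite _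
  -- `z` lies in `O_2(G)`
  have hzQ : (z : G) ∈ pCore 2 G := by
    have hZn : (Subgroup.zpowers (z : G)).Normal := by
      constructor
      intro x hx g
      have hxc : x ∈ Subgroup.center G := by
        obtain ⟨k, rfl⟩ := Subgroup.mem_zpowers_iff.mp hx
        exact Subgroup.zpow_mem _ hz k
      have : g * x * g⁻¹ = x := by
        rw [Subgroup.mem_center_iff.mp hxc g]
        group
      rw [this]
      exact hx
    have hZ2 : IsPGroup 2 ↥(Subgroup.zpowers (z : G)) := by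
      intro x
      refine ⟨1, ?_⟩
      obtain ⟨k, hk⟩ := Subgroup.mem_zpowers_iff.mp x.2
      apply Subtype.ext
      show ((x : G)) ^ (2 ^ 1) = 1
      have hz2' : (z : G) ^ 2 = 1 := by rw [pow_two]; exact hz2
      rw [← hk, pow_one, ← zpow_natCast, ← zpow_mul, mul_comm, zpow_mul, zpow_natCast, hz2',
        one_zpow]
    exact Cfsg.Agent.H1.le_pCore hZn hZ2 (Subgroup.mem_zpowers _)
  -- `O_2(G)` has order at least three
  have hQ3 : 2 < Nat.card ↥(pCore 2 G) := by
    by_contra hle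
    push Not at hle
    apply hNtop
    have hcen := le_center_of_card_le_two (pCore 2 G) hle
    have hsol : IsPSolvable 2 G := Cfsg.Agent.Lib.Helper4.SolvPSolv.isPSolvable_of_isSolvable 2 G
    have hC := Cfsg.Agent.Lib.Lead.PSolvable.centralizer_pCore_le hsol hO
    have hCtop : Subgroup.centralizer ((pCore 2 G : Subgroup G) : Set G) = ⊤ := by
      rw [eq_top_iff]
      intro g _
      rw [Subgroup.mem_centralizer_iff]
      intro q hq
      exact (Subgroup.mem_center_iff.mp (hcen hq) g).symm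
    rw [hCtop] at hC
    have hPtop : (P : Subgroup G) = ⊤ := eq_top_iff.mpr (hC.trans hQP)
    rw [eq_top_iff]
    calc (⊤ : Subgroup G) = (P : Subgroup G) := hPtop.symm
      _ ≤ Nz P := Subgroup.le_normalizer
  have hQN : pCore 2 G ≤ Nz P := le_trans hQP Subgroup.le_normalizer
  -- the fibrewise count
  apply card_eq_of_fiberwise
    (fun μ μ' : IrrCharacter ↥(pCore 2 G) =>
      ∃ n ∈ Nz P, (μ' : ↥(pCore 2 G) → ℂ) = conjFun (pCore 2 G) (μ : ↥(pCore 2 G) → ℂ) n)
    (fun (μ : IrrCharacter ↥(pCore 2 G)) (χ : {χ : IrrCharacter G // RO (z : G) ε χ}) =>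
      Good (pCore 2 G) (z : G) hzQ ε (μ : ↥(pCore 2 G) → ℂ) ∧
      Pinv (pCore 2 G) (P : Subgroup G) (μ : ↥(pCore 2 G) → ℂ) ∧
      classInner (fun q : ↥(pCore 2 G) => ((χ : IrrCharacter G) : G → ℂ) q)
        (μ : ↥(pCore 2 G) → ℂ) ≠ 0)
    (fun (μ : IrrCharacter ↥(pCore 2 G)) (φ : {φ : IrrCharacter ↥(Nz P) // RO z ε φ}) =>
      Good (pCore 2 G) (z : G) hzQ ε (μ : ↥(pCore 2 G) → ℂ) ∧
      Pinv (pCore 2 G) (P : Subgroup G) (μ : ↥(pCore 2 G) → ℂ) ∧
      classInner (fun q : ↥(pCore 2 G) => ((φ : IrrCharacter ↥(Nz P)) : ↥(Nz P) → ℂ)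
        ⟨(q : G), hQN q.2⟩) (μ : ↥(pCore 2 G) → ℂ) ≠ 0)
  · -- h1
    intro χ
    exact exists_rel_G (pCore 2 G) hQ2 P (z : G) hzQ hz ε χ.1 χ.2
  · -- h2
    intro χ μ μ' h h'
    exact exists_normalizer_conj (pCore 2 G) P χ.1 μ μ' h.2.1 h'.2.1 h.2.2 h'.2.2
  · -- h3
    rintro χ μ μ' ⟨n, hn, hμ'⟩
    constructor
    · intro h
      rw [hμ']
      exact relG_conj (pCore 2 G) (P : Subgroup G) (z : G) hzQ hz ε χ.1 _ n hn h
    · intro h
      have h1 := relG_conj (pCore 2 G) (P : Subgroup G) (z : G) hzQ hz ε χ.1 _ n⁻¹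
        (Subgroup.inv_mem _ hn) h
      rw [hμ', conj_conj_inv] at h1
      exact h1
  · -- h1'
    intro φ
    exact exists_rel_N (pCore 2 G) hQ2 P hQP z hzQ hz ε φ.1 φ.2
  · -- h2'
    intro φ μ μ' h h'
    exact conj_rel_N (pCore 2 G) P hQP φ.1 μ μ' h.2.2 h'.2.2
  · -- h3'
    rintro φ μ μ' ⟨n, hn, hμ'⟩
    constructor
    · intro h
      rw [hμ']
      exact relN_conj (pCore 2 G) (P : Subgroup G) hQN (z : G) hzQ hz ε φ.1 _ n hn h
    · intro h
      have h1 := relN_conj (pCore 2 G) (P : Subgroup G) hQN (z : G) hzQ hz ε φ.1 _ n⁻¹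
        (Subgroup.inv_mem _ hn) h
      rw [hμ', conj_conj_inv] at h1
      exact h1
  · -- h4
    intro μ
    by_cases hgood : Good (pCore 2 G) (z : G) hzQ ε (μ : ↥(pCore 2 G) → ℂ) ∧
        Pinv (pCore 2 G) (P : Subgroup G) (μ : ↥(pCore 2 G) → ℂ)
    · have hper := per_mu P (pCore 2 G) hQP hQ3 ih z hz hzQ ε μ hgood.1.1 hgood.1.2.1
        hgood.1.2.2 hgood.2
      have e1 : Nat.card {χ : {χ : IrrCharacter G // RO (z : G) ε χ} //
          Good (pCore 2 G) (z : G) hzQ ε (μ : ↥(pCore 2 G) → ℂ) ∧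
          Pinv (pCore 2 G) (P : Subgroup G) (μ : ↥(pCore 2 G) → ℂ) ∧
          classInner (fun q : ↥(pCore 2 G) => ((χ : IrrCharacter G) : G → ℂ) q)
            (μ : ↥(pCore 2 G) → ℂ) ≠ 0}
          = Nat.card {χ : IrrCharacter G // RO (z : G) ε χ ∧
            classInner (fun q : ↥(pCore 2 G) => (χ : G → ℂ) q) (μ : ↥(pCore 2 G) → ℂ) ≠ 0} := by
        apply Nat.card_congr
        refine (Equiv.subtypeEquivRight ?_).trans
          (Equiv.subtypeSubtypeEquivSubtypeInter (fun χ : IrrCharacter G => RO (z : G) ε χ)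
            (fun χ : IrrCharacter G => classInner (fun q : ↥(pCore 2 G) => (χ : G → ℂ) q)
              (μ : ↥(pCore 2 G) → ℂ) ≠ 0))
        intro χ
        exact ⟨fun h => h.2.2, fun h => ⟨hgood.1, hgood.2, h⟩⟩
      have e2 : Nat.card {φ : {φ : IrrCharacter ↥(Nz P) // RO z ε φ} //
          Good (pCore 2 G) (z : G) hzQ ε (μ : ↥(pCore 2 G) → ℂ) ∧
          Pinv (pCore 2 G) (P : Subgroup G) (μ : ↥(pCore 2 G) → ℂ) ∧
          classInner (fun q : ↥(pCore 2 G) => ((φ : IrrCharacter ↥(Nz P)) : ↥(Nz P) → ℂ)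
            ⟨(q : G), hQN q.2⟩) (μ : ↥(pCore 2 G) → ℂ) ≠ 0}
          = Nat.card {φ : IrrCharacter ↥(Nz P) // RO z ε φ ∧
            classInner (fun q : ↥(pCore 2 G) => (φ : ↥(Nz P) → ℂ) ⟨(q : G), hQN q.2⟩)
              (μ : ↥(pCore 2 G) → ℂ) ≠ 0} := by
        apply Nat.card_congr
        refine (Equiv.subtypeEquivRight ?_).trans
          (Equiv.subtypeSubtypeEquivSubtypeInter (fun φ : IrrCharacter ↥(Nz P) => RO z ε φ)
            (fun φ : IrrCharacter ↥(Nz P) => classInner (fun q : ↥(pCore 2 G) =>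
              (φ : ↥(Nz P) → ℂ) ⟨(q : G), hQN q.2⟩) (μ : ↥(pCore 2 G) → ℂ) ≠ 0))
        intro φ
        exact ⟨fun h => h.2.2, fun h => ⟨hgood.1, hgood.2, h⟩⟩
      rw [e1, e2]
      exact hper
    · haveI : IsEmpty {χ : {χ : IrrCharacter G // RO (z : G) ε χ} //
          Good (pCore 2 G) (z : G) hzQ ε (μ : ↥(pCore 2 G) → ℂ) ∧
          Pinv (pCore 2 G) (P : Subgroup G) (μ : ↥(pCore 2 G) → ℂ) ∧
          classInner (fun q : ↥(pCore 2 G) => ((χ : IrrCharacter G) : G → ℂ) q)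
            (μ : ↥(pCore 2 G) → ℂ) ≠ 0} := ⟨fun x => hgood ⟨x.2.1, x.2.2.1⟩⟩
      haveI : IsEmpty {φ : {φ : IrrCharacter ↥(Nz P) // RO z ε φ} //
          Good (pCore 2 G) (z : G) hzQ ε (μ : ↥(pCore 2 G) → ℂ) ∧
          Pinv (pCore 2 G) (P : Subgroup G) (μ : ↥(pCore 2 G) → ℂ) ∧
          classInner (fun q : ↥(pCore 2 G) => ((φ : IrrCharacter ↥(Nz P)) : ↥(Nz P) → ℂ)
            ⟨(q : G), hQN q.2⟩) (μ : ↥(pCore 2 G) → ℂ) ≠ 0} := ⟨fun x => hgood ⟨x.2.1, x.2.2.1⟩⟩
      rw [Nat.card_of_isEmpty, Nat.card_of_isEmpty]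

/-- The relative theorem for all finite solvable groups. -/
theorem thm_all : ∀ (n : ℕ) (G : Type u) [Group G] [Finite G] [Group.IsSolvable G],
    Nat.card G = n → Thm G := by
  intro n
  induction n using Nat.strong_induction_on with
  | _ n ih =>
  intro G _ _ _ hcard
  classical
  letI : Fintype G := Fintype.ofFinite G
  have ih' : ∀ (Y : Type u) [Group Y] [Finite Y] [Group.IsSolvable Y],
      Nat.card Y < Nat.card G → Thm Y := by
    intro Y _ _ _ hY
    exact ih (Nat.card Y) (by omega) Y rfl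
  intro P z hz hz2 ε
  by_cases hN : Nz P = ⊤
  · exact thm_of_normalizer_eq_top P hN z ε
  by_cases hO : pPrimeCore 2 G = ⊥
  · exact thm_step2 hO P hN ih' z hz hz2 ε
  · haveI : (pPrimeCore 2 G).Normal := Cfsg.Agent.H1.pPrimeCore_normal 2
    have hodd : Odd (Nat.card ↥(pPrimeCore 2 G)) := by
      have := Cfsg.Agent.H1.pPrimeCore_coprime (G := G) 2
      exact Nat.Coprime.odd_of_right this
    have hlt : Nat.card (G ⧸ pPrimeCore 2 G) < Nat.card G := by
      have h1 : 1 < Nat.card ↥(pPrimeCore 2 G) := by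
        rw [Finite.one_lt_card_iff_nontrivial]
        exact (Subgroup.nontrivial_iff_ne_bot _).mpr hO
      have h2 : Nat.card ↥(pPrimeCore 2 G) * Nat.card (G ⧸ pPrimeCore 2 G) = Nat.card G := by
        rw [← Subgroup.index_eq_card, Subgroup.card_mul_index]
      have h4 : 0 < Nat.card (G ⧸ pPrimeCore 2 G) := Nat.card_pos
      nlinarith
    exact thm_step1 (pPrimeCore 2 G) hodd (ih' _ hlt) P z hz hz2 ε

/-- **Theorem I.** In a finite solvable group the number of real irreducible characters of odd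
degree equals that of the normalizer of a Sylow `2`-subgroup. -/
theorem card_real_odd_eq {G : Type u} [Group G] [Finite G] [Group.IsSolvable G] (P : Sylow 2 G) :
    Nat.card {χ : Cfsg.IrrCharacter G // (∀ g : G, ((χ : G → ℂ) g).im = 0) ∧
        Odd (Cfsg.charDegree (χ : G → ℂ))} =
      Nat.card {ψ : Cfsg.IrrCharacter (Subgroup.normalizer ((P : Subgroup G) : Set G)) //
        (∀ g, ((ψ : Subgroup.normalizer ((P : Subgroup G) : Set G) → ℂ) g).im = 0) ∧
        Odd (Cfsg.charDegree (ψ : Subgroup.normalizer ((P : Subgroup G) : Set G) → ℂ))} := by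
  have h := thm_all (Nat.card G) G rfl P 1 (by simp) (by simp) 1
  have e1 : Nat.card {χ : Cfsg.IrrCharacter G // (∀ g : G, ((χ : G → ℂ) g).im = 0) ∧
        Odd (Cfsg.charDegree (χ : G → ℂ))}
      = Nat.card {χ : IrrCharacter G // RO (((1 : ↥(Nz P)) : G)) 1 χ} := by
    apply Nat.card_congr
    apply Equiv.subtypeEquivRight
    intro χ
    unfold RO
    constructor
    · rintro ⟨h1, h2⟩
      exact ⟨h1, h2, by rw [one_mul]; rfl⟩
    · rintro ⟨h1, h2, -⟩
      exact ⟨h1, h2⟩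
  have e2 : Nat.card {ψ : Cfsg.IrrCharacter (Subgroup.normalizer ((P : Subgroup G) : Set G)) //
        (∀ g, ((ψ : Subgroup.normalizer ((P : Subgroup G) : Set G) → ℂ) g).im = 0) ∧
        Odd (Cfsg.charDegree (ψ : Subgroup.normalizer ((P : Subgroup G) : Set G) → ℂ))}
      = Nat.card {φ : IrrCharacter ↥(Nz P) // RO (1 : ↥(Nz P)) 1 φ} := by
    apply Nat.card_congr
    apply Equiv.subtypeEquivRight
    intro χ
    unfold RO
    constructor
    · rintro ⟨h1, h2⟩
      exact ⟨h1, h2, by rw [one_mul]⟩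
    · rintro ⟨h1, h2, -⟩
      exact ⟨h1, h2⟩
  rw [e1, e2]
  exact h

end Cfsg.Agent.Lib.helper3.RealOddI
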