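import Mathlib
import Cfsg.Prelude.Def_Characters
import Cfsg.Agent.Lib.helper3.RelM1

set_option autoImplicit false
set_option linter.style.haveILetI false
set_option linter.unusedSectionVars false

/-!
# Relative M-groups: the induction
-/

namespace Cfsg.Agent.Lib.helper3.RelM

open Cfsg Module Cfsg.Agent.Lib.helper3.IndFun Cfsg.Agent.Lib.helper3.CharBasic
open Cfsg.Agent.Lib.helper3.Irr Cfsg.Agent.Lib.helper3.GoingDown
open scoped ComplexConjugate

universe u

theorem relM_aux : ∀ (n : ℕ) (G : Type u) [Group G] [Fintype G] (N : Subgroup G) [N.Normal],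
    Nat.card G = n → Group.IsSolvable (G ⧸ N) → HC N → ∀ χ : G → ℂ, IsIrrCharacter G χ →
    ∃ (H : Subgroup G) (hNH : N ≤ H) (ψ : H → ℂ), IsIrrCharacter H ψ ∧ indFun H ψ = χ ∧
      IsIrrCharacter N (fun n : N => ψ ⟨(n : G), hNH n.2⟩) := by
  intro n
  induction n using Nat.strong_induction_on with
  | _ n ih =>
    intro G _ _ N _ hn hsolv hHC χ hχ
    classical
    have hχc := isCharacter_of_isIrrCharacter hχ
    have hcf := isClassFunction_of_isCharacter hχc
    by_cases hχN : IsIrrCharacter N (fun x : N => χ x)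
    · exact ⟨⊤, le_top, fun h => χ h, isIrrCharacter_comp_mulEquiv Subgroup.topEquiv hχ,
        indFun_top χ hcf, hχN⟩
    -- a minimal normal subgroup `K ≥ N` to which `χ` restricts irreducibly
    have hex : ∃ m, ∃ K : Subgroup G, K.Normal ∧ N ≤ K ∧ IsIrrCharacter K (fun k : K => χ k) ∧
        Nat.card K = m :=
      ⟨_, ⊤, inferInstance, le_top, isIrrCharacter_comp_mulEquiv Subgroup.topEquiv hχ, rfl⟩
    obtain ⟨K, hKn, hNK, hχK, hKcard⟩ := Nat.find_spec hex
    have hKmin : ∀ K' : Subgroup G, K'.Normal → N ≤ K' → IsIrrCharacter K' (fun k : K' => χ k) →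
        Nat.card K ≤ Nat.card K' := by
      intro K' h1 h2 h3
      rw [hKcard]
      exact Nat.find_min' hex ⟨K', h1, h2, h3, rfl⟩
    haveI := hKn
    have hNK' : N < K := by
      apply lt_of_le_of_ne hNK
      intro h
      apply hχN
      have h2 : ∀ (A : Subgroup G), A = K → IsIrrCharacter A (fun x : A => χ x) := by
        intro A hA
        subst hA
        exact hχK
      exact h2 N h
    -- a maximal normal `L < K` containing `N` and the commutator subgroup of `K`
    obtain ⟨L0, hL0n, hNL0, hcL0, hL0K⟩ := exists_abelian_factor N K hsolv hNK'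
    obtain ⟨P, hPdef⟩ : ∃ P : ℕ → Prop, ∀ m, P m ↔ ∃ L : Subgroup G, L.Normal ∧ N ≤ L ∧
        ⁅K, K⁆ ≤ L ∧ L < K ∧ Nat.card L = m := ⟨_, fun m => Iff.rfl⟩
    have hP0 : P (Nat.card L0) := by
      rw [hPdef]
      exact ⟨L0, hL0n, hNL0, hcL0, hL0K, rfl⟩
    have hspec := Nat.findGreatest_spec (Subgroup.card_le_card_group L0) hP0
    obtain ⟨L, hLn, hNL, hcL, hLK, hLcard⟩ := (hPdef _).1 hspec
    have hLmax : ∀ L' : Subgroup G, L'.Normal → N ≤ L' → ⁅K, K⁆ ≤ L' → L' < K →
        Nat.card L' ≤ Nat.card L := by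
      intro L' h1 h2 h3 h4
      rw [hLcard]
      apply Nat.le_findGreatest (Subgroup.card_le_card_group L')
      rw [hPdef]
      exact ⟨L', h1, h2, h3, h4, rfl⟩
    haveI := hLn
    have hchief : ∀ M : Subgroup G, M.Normal → L ≤ M → M ≤ K → M = L ∨ M = K := by
      intro M hMn hLM hMK
      by_cases hMK' : M = K
      · right
        exact hMK'
      · left
        have h1 := hLmax M hMn (hNL.trans hLM) (hcL.trans hLM) (lt_of_le_of_ne hMK hMK')
        exact (Subgroup.eq_of_le_of_card_ge hLM h1).symm
    have hinv : ∀ (g : G) (k : K), (fun k : K => χ k) ⟨g * k * g⁻¹, hKn.conj_mem k k.2 g⟩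
        = (fun k : K => χ k) k := fun g k => hcf k g
    obtain ⟨e₀, he₀⟩ : ∃ e₀ : L.subgroupOf K ≃* L, e₀ = Subgroup.subgroupOfEquivOfLe hLK.le :=
      ⟨_, rfl⟩
    have he₀coe : ∀ x : L.subgroupOf K, ((e₀ x : L) : G) = ((x : K) : G) := by
      intro x
      rw [he₀]
      rfl
    letI : Fintype K := Fintype.ofFinite K
    letI : Fintype L := Fintype.ofFinite L
    letI : Fintype (L.subgroupOf K) := Fintype.ofFinite _
    rcases going_down K L hLK.le hchief hcL (fun k : K => χ k) hχK hinv with
      h | ⟨φ₀, e, -, -, he⟩ | ⟨F, hF, hFcard, hFsum⟩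
    · -- the restriction to `L` is irreducible: contradiction to minimality
      exfalso
      have hχL : IsIrrCharacter L (fun l : L => χ l) := by
        have h1 := isIrrCharacter_comp_mulEquiv e₀.symm h
        have h2 : (fun l : L => (fun x : L.subgroupOf K => (fun k : K => χ k) x) (e₀.symm l))
            = fun l : L => χ l := by
          funext l
          have := he₀coe (e₀.symm l)
          rw [MulEquiv.apply_symm_apply] at this
          simp only
          rw [this]
        rwa [h2] at h1
      have h3 := hKmin L hLn hNL hχL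
      exact hLK.ne (Subgroup.eq_of_le_of_card_ge hLK.le h3)
    · -- fully ramified: excluded by the nonsquare hypothesis
      exfalso
      apply hHC ⊤ K L hNL hLK le_top (fun a _ k hk => hKn.conj_mem k hk a)
        (fun a _ l hl => hLn.conj_mem l hl a) ?_ ⟨e, by rw [← he, sq]⟩
      intro M hLM hMK hMconj
      exact hchief M ⟨fun m hm g => hMconj g (Subgroup.mem_top g) m hm⟩ hLM hMK
    · -- the restriction splits: pass to an inertia group
      obtain ⟨res₀, hres₀⟩ : ∃ r : L.subgroupOf K → ℂ, r = fun x : L.subgroupOf K => χ x :=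
        ⟨_, rfl⟩
      have hFsum' : res₀ = ∑ φ ∈ F, φ := by rw [hres₀]; exact hFsum
      have hidx : 2 ≤ L.relIndex K := by
        have h1 : L.relIndex K ≠ 0 := by
          show (L.subgroupOf K).index ≠ 0
          exact Subgroup.index_ne_zero_of_finite
        have h2 : L.relIndex K ≠ 1 := by
          intro h
          exact (not_le_of_gt hLK) (Subgroup.relIndex_eq_one.1 h)
        omega
      have hinner : ∀ φ ∈ F, classInner res₀ φ = 1 := by
        intro φ hφ
        rw [hFsum', classInner_sum_left, Finset.sum_eq_single_of_mem φ hφ,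
          irr_classInner_self (hF φ hφ)]
        intro φ' hφ' hne
        exact irr_classInner_eq_zero (hF φ' hφ') (hF φ hφ) hne
      obtain ⟨φ₁, hφ₁⟩ : ∃ φ₁, φ₁ ∈ F := Finset.card_pos.1 (by rw [hFcard]; omega)
      obtain ⟨φ₂, hφ₂, hne⟩ := Finset.exists_mem_ne (by rw [hFcard]; omega) φ₁
      obtain ⟨φ, hφdef⟩ : ∃ φ : L → ℂ, φ = fun l => φ₁ (e₀.symm l) := ⟨_, rfl⟩
      have hφ : IsIrrCharacter L φ := by
        rw [hφdef]
        exact isIrrCharacter_comp_mulEquiv e₀.symm (hF φ₁ hφ₁)
      have hresL : (fun l : L => χ l) = fun l : L => res₀ (e₀.symm l) := by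
        funext l
        rw [hres₀]
        have := he₀coe (e₀.symm l)
        rw [MulEquiv.apply_symm_apply] at this
        simp only
        rw [this]
      have hcon : classInner (fun l : L => χ l) φ ≠ 0 := by
        rw [hresL, hφdef, classInner_comp_mulEquiv e₀.symm res₀ φ₁, hinner φ₁ hφ₁]
        exact one_ne_zero
      obtain ⟨T, hTdef⟩ : ∃ T : Subgroup G, T = inertia L φ := ⟨_, rfl⟩
      letI : Fintype T := Fintype.ofFinite T
      have hT : ∀ g : G, g ∈ T ↔ ∀ a : L, φ ⟨g * a * g⁻¹, hLn.conj_mem a a.2 g⟩ = φ a := by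
        intro g
        rw [hTdef]
        exact mem_inertia_iff L φ g
      have hLT : L ≤ T := by
        rw [hTdef]
        exact le_inertia L φ (isClassFunction_of_isCharacter (isCharacter_of_isIrrCharacter hφ))
      have hTne : T ≠ ⊤ := by
        intro htop
        have hinvφ : ∀ (g : G) (a : L), φ ⟨g * a * g⁻¹, hLn.conj_mem (a : G) a.2 g⟩ = φ a :=
          fun g a => (hT g).1 (htop ▸ Subgroup.mem_top g) a
        have h1 := restrict_eq_smul_of_invariant L χ hχ φ hφ hcon hinvφ
        have h2 : res₀ = classInner (fun l : L => χ l) φ • φ₁ := by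
          funext x
          have h3 := congrFun h1 (e₀ x)
          have h4 : φ (e₀ x) = φ₁ x := by rw [hφdef]; simp
          rw [Pi.smul_apply, h4] at h3
          rw [Pi.smul_apply, ← h3, hres₀]
          simp only
          rw [he₀coe x]
        have h4 := hinner φ₂ hφ₂
        rw [h2, classInner_smul_left, irr_classInner_eq_zero (hF φ₁ hφ₁) (hF φ₂ hφ₂) hne.symm,
          mul_zero] at h4
        exact zero_ne_one h4
      have hcardT : Nat.card T < n := by
        rw [← hn]
        apply lt_of_le_of_ne (Subgroup.card_le_card_group T)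
        intro h
        exact hTne (Subgroup.eq_top_of_card_eq T h)
      obtain ⟨ψ, hψ, hψind, -⟩ := clifford_corr_surjective L φ hφ T hT hLT χ hχ hcon
      have hNT : N ≤ T := hNL.trans hLT
      obtain ⟨H', hNH', ψ', hψ', hind', hres'⟩ := ih (Nat.card T) hcardT T (N.subgroupOf T) rfl
        (Cfsg.Agent.Lib.helper3.SolvExt.isSolvable_subgroupOf_quotient N T hsolv) (hHC.subgroupOf T hNT) ψ hψ
      have hNH : N ≤ H'.map T.subtype := by
        intro x hx
        exact Subgroup.mem_map.2 ⟨⟨x, hNT hx⟩, hNH' (Subgroup.mem_subgroupOf.2 hx), rfl⟩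
      refine ⟨H'.map T.subtype, hNH,
        fun h => ψ' ((H'.equivMapOfInjective T.subtype T.subtype_injective).symm h), ?_, ?_, ?_⟩
      · exact isIrrCharacter_comp_mulEquiv
          (H'.equivMapOfInjective T.subtype T.subtype_injective).symm hψ'
      · rw [← indFun_trans_map, hind', hψind]
      · have h5 := isIrrCharacter_comp_mulEquiv (Subgroup.subgroupOfEquivOfLe hNT).symm hres'
        have h6 : (fun n : N => (fun m : N.subgroupOf T => ψ' ⟨(m : T), hNH' m.2⟩)
              ((Subgroup.subgroupOfEquivOfLe hNT).symm n))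
            = fun n : N => ψ' ((H'.equivMapOfInjective T.subtype T.subtype_injective).symm
                ⟨(n : G), hNH n.2⟩) := by
          funext x
          simp only
          congr 1
          rw [MulEquiv.eq_symm_apply]
          apply Subtype.ext
          rw [Subgroup.coe_equivMapOfInjective_apply]
          simp
        rwa [h6] at h5

end Cfsg.Agent.Lib.helper3.RelM
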