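import Mathlib
import Cfsg.Agent.H1.FrattiniExtra
import Cfsg.Agent.S0043

set_option autoImplicit false

/-!
# Groups with abelian Sylow subgroups: inheritance, and an abelian normal noncentral subgroup
-/

namespace Cfsg.Agent.Lib.helper3.RelMon

/-- all Sylow subgroups are abelian -/
def AbSyl (N : Type*) [Group N] : Prop :=
  ∀ (p : ℕ) [Fact p.Prime] (P : Sylow p N), ∀ a ∈ P, ∀ b ∈ P, a * b = b * a

theorem AbSyl.comm_of_isPGroup {N : Type*} [Group N] [Finite N] (h : AbSyl N) (p : ℕ)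
    [Fact p.Prime] (P : Subgroup N) (hP : IsPGroup p P) : ∀ a ∈ P, ∀ b ∈ P, a * b = b * a := by
  obtain ⟨Q, hQ⟩ := hP.exists_le_sylow
  intro a ha b hb
  exact h p Q a (hQ ha) b (hQ hb)

theorem AbSyl.of_injective {N H : Type*} [Group N] [Group H] [Finite N] (h : AbSyl N)
    (f : H →* N) (hf : Function.Injective f) : AbSyl H := by
  intro p _ P a ha b hb
  apply hf
  rw [map_mul, map_mul]
  have hP : IsPGroup p ((P : Subgroup H).map f) := P.isPGroup'.map f
  exact h.comm_of_isPGroup p _ hP (f a) ⟨a, ha, rfl⟩ (f b) ⟨b, hb, rfl⟩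

theorem AbSyl.of_surjective {N H : Type*} [Group N] [Group H] [Finite N] (h : AbSyl N)
    (f : N →* H) (hf : Function.Surjective f) : AbSyl H := by
  intro p _ P a ha b hb
  obtain ⟨Q, hQ⟩ := Sylow.mapSurjective_surjective hf p P
  have hcoe : (P : Subgroup H) = (Q : Subgroup N).map f := by
    rw [← hQ, Sylow.coe_mapSurjective]
  have ha2 : a ∈ (P : Subgroup H) := ha
  have hb2 : b ∈ (P : Subgroup H) := hb
  rw [hcoe] at ha2 hb2
  obtain ⟨a', ha', rfl⟩ := ha2
  obtain ⟨b', hb', rfl⟩ := hb2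
  rw [← map_mul, ← map_mul, h p Q a' ha' b' hb']

variable {G : Type*} [Group G]

/-- In a finite solvable group, a nonabelian normal subgroup with abelian Sylow subgroups contains
an abelian normal subgroup of the whole group that is not central in it. -/
theorem exists_abelian_normal_noncentral_in [Finite G] [hsolv : Group.IsSolvable G]
    (N : Subgroup G) [hN : N.Normal] (hab : AbSyl N)
    (hna : ¬ ∀ a ∈ N, ∀ b ∈ N, a * b = b * a) :
    ∃ A : Subgroup G, A.Normal ∧ A ≤ N ∧ (∀ x ∈ A, ∀ y ∈ A, x * y = y * x) ∧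
      ¬ ∀ a ∈ A, ∀ n ∈ N, a * n = n * a := by
  classical
  -- the centre of `N`, as a normal subgroup of `G`
  obtain ⟨Z, hZdef⟩ : ∃ Z : Subgroup G, Z = (Subgroup.center N).map N.subtype := ⟨_, rfl⟩
  have hZmem : ∀ z : G, z ∈ Z ↔ z ∈ N ∧ ∀ n ∈ N, n * z = z * n := by
    intro z
    rw [hZdef]
    constructor
    · rintro ⟨z', hz', rfl⟩
      refine ⟨z'.2, ?_⟩
      intro n hn
      have := Subgroup.mem_center_iff.1 hz' ⟨n, hn⟩
      exact congrArg Subtype.val this
    · rintro ⟨hzN, hz⟩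
      refine ⟨⟨z, hzN⟩, ?_, rfl⟩
      show (⟨z, hzN⟩ : N) ∈ Subgroup.center N
      rw [Subgroup.mem_center_iff]
      intro n
      exact Subtype.ext (hz n n.2)
  have hZN : Z ≤ N := fun z hz => ((hZmem z).1 hz).1
  have hZn : Z.Normal := by
    constructor
    intro z hz g
    rw [hZmem] at hz ⊢
    refine ⟨hN.conj_mem z hz.1 g, ?_⟩
    intro n hn
    have h1 := hz.2 (g⁻¹ * n * g) (by
      have := hN.conj_mem n hn g⁻¹
      simpa using this)
    calc n * (g * z * g⁻¹) = g * ((g⁻¹ * n * g) * z) * g⁻¹ := by group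
      _ = g * (z * (g⁻¹ * n * g)) * g⁻¹ := by rw [h1]
      _ = g * z * g⁻¹ * n := by group
  have hNZ : ¬ N ≤ Z := by
    intro h
    apply hna
    intro a ha b hb
    exact ((hZmem b).1 (h hb)).2 a ha
  -- a minimal normal subgroup of `G ⧸ Z` inside the image of `N`
  have hNbar : N.map (QuotientGroup.mk' Z) ≠ ⊥ := by
    intro h
    apply hNZ
    intro n hn
    have : QuotientGroup.mk' Z n ∈ N.map (QuotientGroup.mk' Z) := ⟨n, hn, rfl⟩
    rw [h, Subgroup.mem_bot] at this
    exact (QuotientGroup.eq_one_iff n).1 this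
  have hNbarn : (N.map (QuotientGroup.mk' Z)).Normal :=
    hN.map _ (QuotientGroup.mk'_surjective Z)
  obtain ⟨K, hKn, hKne, hKN, hKmin⟩ :=
    Cfsg.Agent.H1.exists_minimal_normal_le (N.map (QuotientGroup.mk' Z)) hNbar
  have hsolvQ : Group.IsSolvable (G ⧸ Z) := inferInstance
  obtain ⟨hKcomm, p, hp, hKp⟩ := Cfsg.Agent.S0043.result K hKne hKmin
  have : Fact p.Prime := ⟨hp⟩
  obtain ⟨A, hAdef⟩ : ∃ A : Subgroup G, A = K.comap (QuotientGroup.mk' Z) := ⟨_, rfl⟩
  have hAn : A.Normal := hAdef ▸ hKn.comap _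
  have hZA : Z ≤ A := by
    intro z hz
    rw [hAdef, Subgroup.mem_comap]
    have : QuotientGroup.mk' Z z = 1 := (QuotientGroup.eq_one_iff z).2 hz
    rw [this]; exact K.one_mem
  have hAN : A ≤ N := by
    intro a ha
    rw [hAdef, Subgroup.mem_comap] at ha
    obtain ⟨n, hn, hna'⟩ := hKN ha
    have h1 : n⁻¹ * a ∈ Z := (QuotientGroup.eq (s := Z)).1 hna'
    have : a = n * (n⁻¹ * a) := by group
    rw [this]
    exact N.mul_mem hn (hZN h1)
  have hAmap : A.map (QuotientGroup.mk' Z) = K := by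
    rw [hAdef]
    exact Subgroup.map_comap_eq_self_of_surjective (QuotientGroup.mk'_surjective Z) K
  refine ⟨A, hAn, hAN, ?_, ?_⟩
  · -- `A` is abelian: `A = P Z` with `P` a `p`-subgroup
    obtain ⟨P₀⟩ : Nonempty (Sylow p ↥A) := inferInstance
    obtain ⟨P, hPdef⟩ : ∃ P : Subgroup G, P = (P₀ : Subgroup ↥A).map A.subtype := ⟨_, rfl⟩
    have hPA : P ≤ A := hPdef ▸ Subgroup.map_subtype_le _
    have hPp : IsPGroup p P := hPdef ▸ P₀.isPGroup'.map _
    -- elements of `P` commute
    have hPcomm : ∀ u ∈ P, ∀ v ∈ P, u * v = v * u := by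
      have hP' : IsPGroup p (P.subgroupOf N) := hPp.comap_subtype
      intro u hu v hv
      have := hab.comm_of_isPGroup p _ hP' ⟨u, hAN (hPA hu)⟩ (Subgroup.mem_subgroupOf.2 hu)
        ⟨v, hAN (hPA hv)⟩ (Subgroup.mem_subgroupOf.2 hv)
      exact congrArg Subtype.val this
    -- `A ≤ P ⊔ Z`
    have hAle : A ≤ P ⊔ Z := by
      rw [← Subgroup.relIndex_eq_one]
      have h1 : (P ⊔ Z).relIndex A ∣ P.relIndex A :=
        Subgroup.relIndex_dvd_of_le_left A le_sup_left
      have h2 : (P ⊔ Z).relIndex A ∣ Z.relIndex A :=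
        Subgroup.relIndex_dvd_of_le_left A le_sup_right
      have h3 : P.relIndex A = (P₀ : Subgroup ↥A).index := by
        rw [hPdef]
        unfold Subgroup.relIndex Subgroup.subgroupOf
        rw [Subgroup.comap_map_eq_self_of_injective A.subtype_injective]
      have h4 : Z.relIndex A = Nat.card K := by
        have hZker : Z = (⊥ : Subgroup (G ⧸ Z)).comap (QuotientGroup.mk' Z) := by
          ext z
          rw [Subgroup.mem_comap, Subgroup.mem_bot]
          exact (QuotientGroup.eq_one_iff z).symm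
        conv_lhs => rw [hZker]
        rw [Subgroup.relIndex_comap, hAmap, Subgroup.relIndex_bot_left]
      have hKpg : IsPGroup p K := by
        intro x
        refine ⟨1, ?_⟩
        rw [pow_one]
        exact Subtype.ext (hKp x x.2)
      obtain ⟨k, hk⟩ := IsPGroup.iff_card.1 hKpg
      rw [h4, hk] at h2
      rw [h3] at h1
      obtain ⟨j, -, hj⟩ := (Nat.dvd_prime_pow hp).1 h2
      rcases Nat.eq_zero_or_pos j with hj0 | hj0
      · rw [hj, hj0, pow_zero]
      · exfalso
        apply P₀.not_dvd_index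
        refine dvd_trans ?_ h1
        rw [hj]
        exact dvd_pow_self p hj0.ne'
    intro x hx y hy
    obtain ⟨u, hu, z, hz, rfl⟩ := Subgroup.mem_sup_of_normal_right.1 (hAle hx)
    obtain ⟨v, hv, w, hw, rfl⟩ := Subgroup.mem_sup_of_normal_right.1 (hAle hy)
    have hzc := ((hZmem z).1 hz).2
    have hwc := ((hZmem w).1 hw).2
    have huN : u ∈ N := hAN (hPA hu)
    have hvN : v ∈ N := hAN (hPA hv)
    have hzN : z ∈ N := hZN hz
    have hwN : w ∈ N := hZN hw
    calc u * z * (v * w) = u * (z * v) * w := by group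
      _ = u * (v * z) * w := by rw [← hzc v hvN]
      _ = (u * v) * (z * w) := by group
      _ = (v * u) * (w * z) := by rw [hPcomm u hu v hv, hwc z hzN]
      _ = v * (u * w) * z := by group
      _ = v * (w * u) * z := by rw [hwc u huN]
      _ = v * w * (u * z) := by group
  · intro hcent
    apply hKne
    rw [← hAmap, Subgroup.map_eq_bot_iff, QuotientGroup.ker_mk']
    intro a ha
    rw [hZmem]
    exact ⟨hAN ha, fun n hn => (hcent a ha n hn).symm⟩

end Cfsg.Agent.Lib.helper3.RelMon
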