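import Mathlib
import Cfsg.Prelude.Def_Characters
import Cfsg.Agent.Lib.helper3.Irr9
import Cfsg.Agent.Lib.helper3.IndLin

set_option autoImplicit false
set_option linter.style.haveILetI false
set_option linter.unusedSectionVars false

/-!
# An additive character map with irreducible image has irreducible argument
-/

namespace Cfsg.Agent.Lib.helper3.RelMon

open Cfsg Module Cfsg.Agent.Lib.helper3.IndFun Cfsg.Agent.Lib.helper3.CharBasic
open Cfsg.Agent.Lib.helper3.Irr
open scoped ComplexConjugate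

theorem eq_zero_of_isCharacter_of_apply_one {G : Type*} [Group G] {a : G → ℂ}
    (ha : IsCharacter G a) (h1 : a 1 = 0) : a = 0 := by
  obtain ⟨n, ρ, rfl⟩ := ha
  rw [Representation.char_one] at h1
  have hn : Module.finrank ℂ (Fin n → ℂ) = 0 := by exact_mod_cast h1
  have : Subsingleton (Fin n → ℂ) := Module.finrank_zero_iff.1 hn
  exact character_eq_zero_of_subsingleton ρ

/-- An irreducible character that is a sum of two characters, the first nonzero, has second
summand zero. -/
theorem eq_zero_of_irr_eq_add {G : Type*} [Group G] [Fintype G] {θ a b : G → ℂ}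
    (hθ : IsIrrCharacter G θ) (ha : IsCharacter G a) (hb : IsCharacter G b) (h : θ = a + b)
    (ha0 : a ≠ 0) : b = 0 := by
  obtain ⟨n, hn⟩ := exists_nat_classInner_of_isCharacter_of_isCharacter ha ha
  obtain ⟨m, hm⟩ := exists_nat_classInner_of_isCharacter_of_isCharacter ha hb
  obtain ⟨m', hm'⟩ := exists_nat_classInner_of_isCharacter_of_isCharacter hb ha
  obtain ⟨k, hk⟩ := exists_nat_classInner_of_isCharacter_of_isCharacter hb hb
  have h1 := irr_classInner_self hθ
  rw [h, classInner_add_left, classInner_add_right, classInner_add_right, hn, hm, hm', hk] at h1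
  have h2 : n + m + (m' + k) = 1 := by exact_mod_cast h1
  have hn0 : n ≠ 0 := by
    intro h0
    apply ha0
    apply eq_zero_of_classInner_self_eq_zero
    rw [hn, h0, Nat.cast_zero]
  have hk0 : k = 0 := by omega
  apply eq_zero_of_classInner_self_eq_zero
  rw [hk, hk0, Nat.cast_zero]

/-- If an additive map on functions sends characters to characters, kills no nonzero character,
and sends the character `φ` to an irreducible character, then `φ` is irreducible. -/
theorem isIrr_of_map_isIrr {H G : Type*} [Group H] [Fintype H] [Group G] [Fintype G]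
    (Φ : (H → ℂ) → (G → ℂ)) (hadd : ∀ a b, Φ (a + b) = Φ a + Φ b)
    (hchar : ∀ a, IsCharacter H a → IsCharacter G (Φ a))
    (hzero : ∀ a, IsCharacter H a → Φ a = 0 → a = 0)
    {φ : H → ℂ} (hφ : IsCharacter H φ) (hirr : IsIrrCharacter G (Φ φ)) : IsIrrCharacter H φ := by
  classical
  have hΦ0 : Φ 0 = 0 := by
    have := hadd 0 0
    rw [add_zero] at this
    have h2 : Φ 0 + 0 = Φ 0 + Φ 0 := by rw [add_zero]; exact this
    exact (add_left_cancel h2).symm
  have hφ0 : φ ≠ 0 := by
    intro h0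
    apply irr_ne_zero hirr
    rw [h0, hΦ0]
  obtain ⟨ζ₀, hζ₀⟩ := exists_constituent hφ hφ0
  obtain ⟨m, hm⟩ := exists_decomposition_of_isCharacter hφ
  have hmζ : (m ζ₀ : ℂ) = classInner φ (ζ₀ : H → ℂ) := by
    rw [hm, classInner_decomposition_left]
  have hm0 : m ζ₀ ≠ 0 := by
    intro h0
    apply hζ₀
    rw [← hmζ, h0, Nat.cast_zero]
  obtain ⟨r, hr⟩ : ∃ r : H → ℂ, r = ∑ ψ : IrrCharacter H,
      ((Function.update m ζ₀ (m ζ₀ - 1) ψ : ℕ) : ℂ) • (ψ : H → ℂ) := ⟨_, rfl⟩
  have hrc : IsCharacter H r := hr ▸ isCharacter_of_decomposition _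
  have hsplit : φ = (ζ₀ : H → ℂ) + r := by
    rw [hm, hr, ← Finset.add_sum_erase Finset.univ _ (Finset.mem_univ ζ₀),
      ← Finset.add_sum_erase Finset.univ
        (fun ψ : IrrCharacter H => ((Function.update m ζ₀ (m ζ₀ - 1) ψ : ℕ) : ℂ) • (ψ : H → ℂ))
        (Finset.mem_univ ζ₀)]
    have h1 : ∑ x ∈ Finset.univ.erase ζ₀,
        ((Function.update m ζ₀ (m ζ₀ - 1) x : ℕ) : ℂ) • (x : H → ℂ)
        = ∑ x ∈ Finset.univ.erase ζ₀, ((m x : ℕ) : ℂ) • (x : H → ℂ) := by
      apply Finset.sum_congr rfl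
      intro x hx
      rw [Function.update_of_ne (Finset.ne_of_mem_erase hx)]
    rw [h1, Function.update_self, ← add_assoc]
    congr 1
    have h2 : ((m ζ₀ : ℕ) : ℂ) = 1 + ((m ζ₀ - 1 : ℕ) : ℂ) := by
      have : m ζ₀ = 1 + (m ζ₀ - 1) := by omega
      conv_lhs => rw [this]
      push_cast
      rfl
    rw [h2, add_smul, one_smul]
  have hζc : IsCharacter H (ζ₀ : H → ℂ) := isCharacter_of_isIrrCharacter ζ₀.2
  have himg : Φ φ = Φ (ζ₀ : H → ℂ) + Φ r := by rw [hsplit, hadd]
  have hne : Φ (ζ₀ : H → ℂ) ≠ 0 := by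
    intro h0
    exact irr_ne_zero ζ₀.2 (hzero _ hζc h0)
  have hΦr := eq_zero_of_irr_eq_add hirr (hchar _ hζc) (hchar _ hrc) himg hne
  have hr0 : r = 0 := hzero r hrc hΦr
  rw [hsplit, hr0, add_zero]
  exact ζ₀.2

end Cfsg.Agent.Lib.helper3.RelMon
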