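import Mathlib
import Cfsg.Prelude.Def_Characters
import Cfsg.Agent.Lib.helper3.RelMon2
import Cfsg.Agent.Lib.helper3.RelMon3
import Cfsg.Agent.Lib.helper3.CliffCorr
import Cfsg.Agent.Lib.helper3.GalPow2
import Cfsg.Agent.Lib.helper3.Irr10

set_option autoImplicit false
set_option linter.style.haveILetI false
set_option linter.unusedSectionVars false

/-!
# Restriction of the Clifford correspondent to `N ∩ T`
-/

namespace Cfsg.Agent.Lib.helper3.RelMon

open Cfsg Module Cfsg.Agent.Lib.helper3.IndFun Cfsg.Agent.Lib.helper3.CharBasic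
open Cfsg.Agent.Lib.helper3.Irr Cfsg.Agent.Lib.helper3.GalPow
open scoped ComplexConjugate

variable {G : Type*} [Group G]

/-- If `χ` restricts irreducibly to `N`, then `G = N T` for the inertia group `T` of a constituent
of the restriction of `χ` to a normal subgroup `A ≤ N`. -/
theorem exists_mul_inertia [Fintype G] (N A : Subgroup G) [hN : N.Normal] [hA : A.Normal]
    [Fintype A] (hAN : A ≤ N) (χ : G → ℂ) (hχ : IsIrrCharacter G χ)
    (hχN : IsIrrCharacter N (fun n : N => χ n))
    (lam : A → ℂ) (hlam : IsIrrCharacter A lam) (hcon : classInner (fun a : A => χ a) lam ≠ 0)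
    (T : Subgroup G)
    (hT : ∀ g : G, g ∈ T ↔ ∀ a : A, lam ⟨g * a * g⁻¹, hA.conj_mem a a.2 g⟩ = lam a) (x : G) :
    ∃ y ∈ N, ∃ t ∈ T, y * t = x := by
  classical
  letI : Fintype N := Fintype.ofFinite N
  letI : Fintype (A.subgroupOf N) := Fintype.ofFinite _
  have hcf := isClassFunction_of_isCharacter (isCharacter_of_isIrrCharacter hχ)
  haveI hA'n : (A.subgroupOf N).Normal := hA.subgroupOf N
  -- the conjugate of `lam` by `x`
  have hlamx : IsIrrCharacter A (conjFun A lam x) := isIrrCharacter_conjFun A hlam x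
  have hconx : classInner (fun a : A => χ a) (conjFun A lam x) ≠ 0 := by
    rw [classInner_restrict_conjFun A χ hcf lam x]; exact hcon
  -- move to the ambient group `N`
  have h1 : classInner (fun a' : A.subgroupOf N => (fun n : N => χ n) a')
      (subFun A N lam) ≠ 0 := by
    have := classInner_subFun hAN (fun a : A => χ a) lam
    rw [← this] at hcon
    exact hcon
  have h2 : classInner (fun a' : A.subgroupOf N => (fun n : N => χ n) a')
      (subFun A N (conjFun A lam x)) ≠ 0 := by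
    have := classInner_subFun hAN (fun a : A => χ a) (conjFun A lam x)
    rw [← this] at hconx
    exact hconx
  obtain ⟨n, hn⟩ := exists_conj_of_constituents (A.subgroupOf N) (fun n : N => χ n) hχN
    ⟨subFun A N lam, isIrrCharacter_subFun hAN hlam⟩
    ⟨subFun A N (conjFun A lam x), isIrrCharacter_subFun hAN hlamx⟩ h1 h2
  -- `lam (x a x⁻¹) = lam (n a n⁻¹)` for all `a`
  have hkey : ∀ a : A, lam ⟨x * a * x⁻¹, hA.conj_mem a a.2 x⟩ =
      lam ⟨(n : G) * a * (n : G)⁻¹, hA.conj_mem a a.2 n⟩ := by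
    intro a
    have := congrFun hn ⟨⟨(a : G), hAN a.2⟩, Subgroup.mem_subgroupOf.2 a.2⟩
    exact this
  -- `x n⁻¹ ∈ T`
  have htT : x * (n : G)⁻¹ ∈ T := by
    rw [hT]
    intro b
    have := hkey ⟨(n : G)⁻¹ * b * (n : G), by
      have := hA.conj_mem b b.2 (n : G)⁻¹
      simpa using this⟩
    have e1 : (⟨x * (n : G)⁻¹ * b * (x * (n : G)⁻¹)⁻¹, hA.conj_mem b b.2 _⟩ : A) =
        ⟨x * ((n : G)⁻¹ * b * (n : G)) * x⁻¹, hA.conj_mem _ (by
          have := hA.conj_mem b b.2 (n : G)⁻¹
          simpa using this) x⟩ := by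
      apply Subtype.ext
      show x * (n : G)⁻¹ * b * (x * (n : G)⁻¹)⁻¹ = x * ((n : G)⁻¹ * b * (n : G)) * x⁻¹
      group
    rw [e1, this]
    congr 1
    apply Subtype.ext
    show (n : G) * ((n : G)⁻¹ * b * (n : G)) * (n : G)⁻¹ = b
    group
  refine ⟨(x * (n : G)⁻¹) * n * (x * (n : G)⁻¹)⁻¹, hN.conj_mem n n.2 _, x * (n : G)⁻¹, htT, ?_⟩
  group

/-- The Clifford correspondent of a character restricting irreducibly to `N` restricts
irreducibly to `N ∩ T`. -/
theorem isIrr_restrict_inertia [Fintype G] (N A : Subgroup G) [hN : N.Normal] [hA : A.Normal]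
    [Fintype A] (hAN : A ≤ N) (χ : G → ℂ) (hχ : IsIrrCharacter G χ)
    (hχN : IsIrrCharacter N (fun n : N => χ n))
    (lam : A → ℂ) (hlam : IsIrrCharacter A lam) (hcon : classInner (fun a : A => χ a) lam ≠ 0)
    (T : Subgroup G)
    (hT : ∀ g : G, g ∈ T ↔ ∀ a : A, lam ⟨g * a * g⁻¹, hA.conj_mem a a.2 g⟩ = lam a)
    (ψ : T → ℂ) (hψ : IsIrrCharacter T ψ) (hind : indFun T ψ = χ) :
    IsIrrCharacter (N.subgroupOf T) (fun x => ψ x) := by
  classical
  letI : Fintype N := Fintype.ofFinite N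
  letI : Fintype T := Fintype.ofFinite T
  letI : Fintype (T.subgroupOf N) := Fintype.ofFinite _
  have hψc := isCharacter_of_isIrrCharacter hψ
  have hNT := exists_mul_inertia N A hAN χ hχ hχN lam hlam hcon T hT
  -- the restriction of `ψ` to `T ∩ N`, as a function on a subgroup of `N`
  obtain ⟨f, hf⟩ : ∃ f : T.subgroupOf N →* T,
      ∀ x : T.subgroupOf N, f x = ⟨((x : N) : G), Subgroup.mem_subgroupOf.mp x.2⟩ :=
    ⟨{ toFun := fun x : T.subgroupOf N => ⟨((x : N) : G), Subgroup.mem_subgroupOf.mp x.2⟩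
       map_one' := rfl
       map_mul' := fun _ _ => rfl }, fun _ => rfl⟩
  obtain ⟨ψ₁, hψ₁⟩ : ∃ ψ₁ : T.subgroupOf N → ℂ,
      ψ₁ = fun x : T.subgroupOf N => ψ ⟨((x : N) : G), Subgroup.mem_subgroupOf.mp x.2⟩ :=
    ⟨_, rfl⟩
  have hψ₁c : IsCharacter (T.subgroupOf N) ψ₁ := by
    have := isCharacter_comp hψc f
    have e : (fun h : T.subgroupOf N => ψ (f h)) = ψ₁ := by
      rw [hψ₁]; funext x; rw [hf]
    rwa [e] at this
  have hmackey : (fun n : N => χ n) = indFun (T.subgroupOf N) ψ₁ := by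
    funext n
    rw [← hind, hψ₁]
    exact restrict_indFun_of_mul_eq_top N T hNT ψ (isClassFunction_of_isCharacter hψc) n
  have hirr₁ : IsIrrCharacter (T.subgroupOf N) ψ₁ := by
    apply isIrr_of_map_isIrr (indFun (T.subgroupOf N)) (indFun_add _) (isCharacter_indFun _)
      ?_ hψ₁c (hmackey ▸ hχN)
    intro a ha h0
    apply eq_zero_of_isCharacter_of_apply_one ha
    have := congrFun h0 1
    rw [indFun_apply_one] at this
    have hidx : ((T.subgroupOf N).index : ℂ) ≠ 0 := by
      have : (T.subgroupOf N).index ≠ 0 := Subgroup.index_ne_zero_of_finite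
      exact_mod_cast this
    exact (mul_eq_zero.1 this).resolve_left hidx
  -- transport to `N.subgroupOf T`
  obtain ⟨e, he⟩ : ∃ e : N.subgroupOf T ≃* T.subgroupOf N,
      ∀ x : N.subgroupOf T, ((e x : N) : G) = ((x : T) : G) :=
    ⟨{ toFun := fun x : N.subgroupOf T => ⟨⟨((x : T) : G), Subgroup.mem_subgroupOf.mp x.2⟩,
          Subgroup.mem_subgroupOf.mpr (x : T).2⟩
       invFun := fun y : T.subgroupOf N => ⟨⟨((y : N) : G), Subgroup.mem_subgroupOf.mp y.2⟩,
          Subgroup.mem_subgroupOf.mpr (y : N).2⟩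
       left_inv := fun _ => rfl
       right_inv := fun _ => rfl
       map_mul' := fun _ _ => rfl }, fun _ => rfl⟩
  have := isIrrCharacter_comp_mulEquiv e hirr₁
  have e2 : (fun h : N.subgroupOf T => ψ₁ (e h)) = fun x : N.subgroupOf T => ψ x := by
    funext x
    rw [hψ₁]
    simp only
    congr 1
    exact Subtype.ext (he x)
  rwa [e2] at this

end Cfsg.Agent.Lib.helper3.RelMon
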