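import Mathlib
import Cfsg.Prelude.Def_Characters
import Cfsg.Agent.Lib.helper3.RelMon1
import Cfsg.Agent.Lib.helper3.RelMon4
import Cfsg.Agent.Lib.helper3.NilpM3

set_option autoImplicit false
set_option linter.style.haveILetI false
set_option linter.unusedSectionVars false

/-!
# Relative M-groups over a normal subgroup with abelian Sylow subgroups
-/

namespace Cfsg.Agent.Lib.helper3.RelMon

open Cfsg Module Cfsg.Agent.Lib.helper3.IndFun Cfsg.Agent.Lib.helper3.CharBasic
open Cfsg.Agent.Lib.helper3.Irr
open Cfsg.Agent.Lib.helper3.Lin Cfsg.Agent.Lib.Helper4.Codegree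
open scoped ComplexConjugate

universe u

theorem relMon_aux : ∀ (n : ℕ) (G : Type u) [Group G] [Fintype G] (N : Subgroup G) [N.Normal],
    Nat.card G = n → Group.IsSolvable G → AbSyl N → ∀ χ : G → ℂ, IsIrrCharacter G χ →
    IsIrrCharacter N (fun x : N => χ x) →
    ∃ (H : Subgroup G) (lam : H →* ℂˣ), χ = indFun H (fun h => ((lam h : ℂˣ) : ℂ)) := by
  intro n
  induction n using Nat.strong_induction_on with
  | _ n ih =>
    intro G _ _ N hN hn hsolv hab χ hχ hχN
    classical
    haveI := hsolv
    have hχc := isCharacter_of_isIrrCharacter hχ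
    set K := charKer χ hχc with hK
    by_cases hKbot : K = ⊥
    · -- the faithful case
      have hfaith : ∀ g, χ g = χ 1 → g = 1 := by
        intro g hg
        have : g ∈ K := (mem_charKer hχc g).mpr hg
        rw [hKbot] at this
        exact Subgroup.mem_bot.mp this
      by_cases habN : ∀ a ∈ N, ∀ b ∈ N, a * b = b * a
      · have h1 : χ 1 = 1 :=
          apply_one_eq_one_of_comm (fun a b : N => Subtype.ext (habN a a.2 b b.2)) hχN
        refine ⟨⊤, (toUnitsHom hχc h1).comp (⊤ : Subgroup G).subtype, ?_⟩
        have h2 := indFun_top χ (isClassFunction_of_isCharacter hχc)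
        have h3 : (fun h : (⊤ : Subgroup G) =>
            ((((toUnitsHom hχc h1).comp (⊤ : Subgroup G).subtype) h : ℂˣ) : ℂ))
            = fun h : (⊤ : Subgroup G) => χ (h : G) := by
          funext h
          exact toUnitsHom_apply hχc h1 h
        rw [h3, h2]
      · obtain ⟨A, hAn, hAN, hAab, hAnc⟩ := exists_abelian_normal_noncentral_in N hab habN
        haveI := hAn
        letI : Fintype A := Fintype.ofFinite A
        have hres := isCharacter_restrict hχc A
        have hne0 : (fun a : A => χ a) ≠ 0 := by
          intro h0
          have := congrFun h0 1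
          exact apply_one_ne_zero hχ this
        obtain ⟨lam, hlam⟩ := exists_constituent hres hne0
        have hlam1 : (lam : A → ℂ) 1 = 1 :=
          apply_one_eq_one_of_comm (fun a b => Subtype.ext (hAab a a.2 b b.2)) lam.2
        set T := inertia A (lam : A → ℂ) with hTdef
        letI : Fintype T := Fintype.ofFinite T
        have hT : ∀ g : G, g ∈ T ↔ ∀ a : A,
            (lam : A → ℂ) ⟨g * a * g⁻¹, hAn.conj_mem a a.2 g⟩ = (lam : A → ℂ) a :=
          mem_inertia_iff A (lam : A → ℂ)
        have hAT : A ≤ T := le_inertia A (lam : A → ℂ)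
          (isClassFunction_of_isCharacter (isCharacter_of_isIrrCharacter lam.2))
        have hTne : T ≠ ⊤ := by
          intro htop
          apply hAnc
          have hcen : A ≤ Subgroup.center G := by
            apply le_center_of_faithful_of_invariant A χ hχ hfaith (lam : A → ℂ) lam.2 hlam1 hlam
            intro g a
            exact (hT g).mp (htop ▸ Subgroup.mem_top g) a
          intro a ha m _
          exact (Subgroup.mem_center_iff.1 (hcen ha) m).symm
        have hcardT : Nat.card T < n := by
          rw [← hn]
          apply lt_of_le_of_ne (Subgroup.card_le_card_group T)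
          intro h
          exact hTne (Subgroup.eq_top_of_card_eq T h)
        obtain ⟨ψ, hψ, hψind, -⟩ :=
          clifford_corr_surjective A (lam : A → ℂ) lam.2 T hT hAT χ hχ hlam
        have hψN : IsIrrCharacter (N.subgroupOf T) (fun x => ψ x) :=
          isIrr_restrict_inertia N A hAN χ hχ hχN (lam : A → ℂ) lam.2 hlam T hT ψ hψ hψind
        haveI : (N.subgroupOf T).Normal := hN.subgroupOf T
        have hsolvT : Group.IsSolvable T :=
          Group.isSolvable_of_isSolvable_injective T.subtype_injective
        have habT : AbSyl (N.subgroupOf T) := by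
          obtain ⟨f, hf⟩ : ∃ f : N.subgroupOf T →* N,
              ∀ x : N.subgroupOf T, ((f x : N) : G) = ((x : T) : G) :=
            ⟨{ toFun := fun x : N.subgroupOf T =>
                  ⟨((x : T) : G), Subgroup.mem_subgroupOf.mp x.2⟩
               map_one' := rfl
               map_mul' := fun _ _ => rfl }, fun _ => rfl⟩
          apply hab.of_injective f
          intro x y hxy
          apply Subtype.ext
          apply Subtype.ext
          rw [← hf x, ← hf y, hxy]
        obtain ⟨H', lam', hψeq⟩ :=
          ih (Nat.card T) hcardT T (N.subgroupOf T) rfl hsolvT habT ψ hψ hψN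
        refine ⟨H'.map T.subtype,
          lam'.comp (H'.equivMapOfInjective T.subtype T.subtype_injective).symm.toMonoidHom, ?_⟩
        rw [← hψind, hψeq, indFun_trans_map]
        rfl
    · -- the non-faithful case: pass to the quotient by the kernel
      letI : Fintype (G ⧸ K) := Fintype.ofFinite _
      have hcardQ : Nat.card (G ⧸ K) < n := by
        rw [← hn, card_eq_card_ker_mul K]
        have h1 : 1 < Nat.card K := by
          rw [Subgroup.one_lt_card_iff_ne_bot]
          exact hKbot
        have h2 : 0 < Nat.card (G ⧸ K) := Nat.card_pos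
        nlinarith
      obtain ⟨ψ, hinf, -, -⟩ := exists_faithful_quotient ⟨χ, hχ⟩ K (fun g => Iff.rfl)
      have hinf' : χ = inflate K (ψ : G ⧸ K → ℂ) := hinf
      have hsurj : Function.Surjective (QuotientGroup.mk' K) := QuotientGroup.mk'_surjective K
      haveI hNbar : (N.map (QuotientGroup.mk' K)).Normal := hN.map _ hsurj
      have hsolvQ : Group.IsSolvable (G ⧸ K) := inferInstance
      have habQ : AbSyl (N.map (QuotientGroup.mk' K)) :=
        hab.of_surjective ((QuotientGroup.mk' K).subgroupMap N)
          ((QuotientGroup.mk' K).subgroupMap_surjective N)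
      letI : Fintype N := Fintype.ofFinite N
      letI : Fintype (N.map (QuotientGroup.mk' K)) := Fintype.ofFinite _
      have hψN : IsIrrCharacter (N.map (QuotientGroup.mk' K))
          (fun x : N.map (QuotientGroup.mk' K) => (ψ : G ⧸ K → ℂ) x) := by
        have hψc := isCharacter_of_isIrrCharacter ψ.2
        apply isIrr_of_map_isIrr
          (fun (φ : N.map (QuotientGroup.mk' K) → ℂ) (m : N) =>
            φ ((QuotientGroup.mk' K).subgroupMap N m))
          (fun a b => rfl)
          (fun a ha => isCharacter_comp ha ((QuotientGroup.mk' K).subgroupMap N))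
          ?_ (isCharacter_restrict hψc _)
        · have e : (fun m : N => (fun x : N.map (QuotientGroup.mk' K) => (ψ : G ⧸ K → ℂ) x)
              ((QuotientGroup.mk' K).subgroupMap N m)) = fun m : N => χ m := by
            funext m
            exact (congrFun hinf' (m : G)).symm
          rw [e]
          exact hχN
        · intro a _ h0
          funext x
          obtain ⟨m, rfl⟩ := (QuotientGroup.mk' K).subgroupMap_surjective N x
          exact congrFun h0 m
      obtain ⟨H', lam', hψeq⟩ := ih (Nat.card (G ⧸ K)) hcardQ (G ⧸ K)
        (N.map (QuotientGroup.mk' K)) rfl hsolvQ habQ (ψ : G ⧸ K → ℂ) ψ.2 hψN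
      refine ⟨H'.comap (QuotientGroup.mk' K),
        lam'.comp ((QuotientGroup.mk' K).subgroupComap H'), ?_⟩
      refine hinf'.trans ?_
      rw [hψeq, inflate_indFun]
      rfl

/-- Isaacs 6.23, character form: if `N ⊴ G` has abelian Sylow subgroups, `G` is solvable and `χ`
restricts irreducibly to `N`, then `χ` is monomial. -/
theorem relMon {G : Type u} [Group G] [Fintype G] (N : Subgroup G) [N.Normal]
    (hsolv : Group.IsSolvable G) (hab : AbSyl N) (χ : G → ℂ) (hχ : IsIrrCharacter G χ)
    (hχN : IsIrrCharacter N (fun x : N => χ x)) :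
    ∃ (H : Subgroup G) (lam : H →* ℂˣ), χ = indFun H (fun h => ((lam h : ℂˣ) : ℂ)) :=
  relMon_aux (Nat.card G) G N rfl hsolv hab χ hχ hχN

end Cfsg.Agent.Lib.helper3.RelMon
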