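import Mathlib
import Cfsg.Prelude.Def_Blocks
import Cfsg.Agent.Lib.helper3.HeightZero5
import Cfsg.Agent.Lib.helper3.DefectOrder
import Cfsg.Agent.Lib.helper3.Clifford
import Cfsg.Agent.Lib.helper3.Inflate
import Cfsg.Agent.Lib.helper3.RankOne2
import Cfsg.Agent.Lib.Helper4.InflateEquiv
import Cfsg.Agent.Lib.Helper4.RobDefs
import Cfsg.Agent.Lib.Helper4.RobDefs2
import Cfsg.Agent.S0908

/-!
# Blocks with a normal defect group `D`: the characters with `D` in the kernel

For a block `B` with normal defect group `D` (of order `p^d`, `p^a` the `p`-part of `|G|`), the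
sum of the squares of the degrees of the members of `B` is `p^d` times the same sum over the
members having `D` in the kernel; hence every such member has degree exactly divisible by
`p^(a-d)` and the sum of the squares of the cofactors is prime to `p`.
-/

set_option autoImplicit false
set_option linter.style.haveILetI false
set_option linter.unusedSectionVars false

namespace Cfsg.Agent.Lib.helper3.RobD3

open Cfsg Cfsg.Agent.Lib.helper3.LocalM Cfsg.Agent.Lib.helper3.Irr
open Cfsg.Agent.Lib.helper3.CharBasic Cfsg.Agent.Lib.helper3.Central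
open Cfsg.Agent.Lib.helper3.IndFun Cfsg.Agent.Lib.helper3.Block
open Cfsg.Agent.Lib.Helper4.InflateEquiv Cfsg.Agent.Lib.Helper4
open scoped ComplexConjugate

universe u

variable {G : Type u} [Group G] {M : Ideal AlgInt}

/-- The sum of an irreducible character over a normal subgroup. -/
theorem sum_normal_irr [Fintype G] (D : Subgroup G) [hD : D.Normal] [Fintype D] {θ : G → ℂ}
    (hθ : IsIrrCharacter G θ) [Decidable (KerGE D θ)] :
    ∑ u : D, θ u = if KerGE D θ then (Nat.card D : ℂ) * θ 1 else 0 := by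
  classical
  split_ifs with hk
  · rw [Finset.sum_congr rfl (fun (u : D) _ => hk (u : G) u.2), Finset.sum_const, Finset.card_univ,
      nsmul_eq_mul, Nat.card_eq_fintype_card]
  · by_contra hne
    apply hk
    have hci : classInner (fun n : D => θ n) (fun _ => (1 : ℂ)) ≠ 0 := by
      rw [classInner_apply]
      simp only [map_one, mul_one]
      exact mul_ne_zero (inv_ne_zero (card_ne_zero_complex D)) hne
    have hcl := clifford D θ hθ (fun _ => 1) isIrrCharacter_one hci
    have hset : {ψ : D → ℂ | ∃ g : G, ψ = fun n : D =>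
        (fun _ : D => (1 : ℂ)) ⟨g * n * g⁻¹, hD.conj_mem n n.2 g⟩} = {fun _ => 1} := by
      ext ψ
      simp
    rw [hset, finsum_mem_singleton] at hcl
    intro n hn
    have h1 := congrFun hcl ⟨n, hn⟩
    have h2 := congrFun hcl 1
    simp only [Pi.smul_apply, smul_eq_mul, mul_one, OneMemClass.coe_one] at h1 h2
    rw [h1, h2]

theorem dvd_orderOf_of_mem {p : ℕ} [hp : Fact p.Prime] (D : Subgroup G) (hD : IsPGroup p D)
    {u : G} (hu : u ∈ D) (hu1 : u ≠ 1) : p ∣ orderOf u := by
  obtain ⟨k, hk⟩ := (IsPGroup.iff_orderOf.mp hD) ⟨u, hu⟩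
  rw [Subgroup.orderOf_mk] at hk
  rcases Nat.eq_zero_or_pos k with h0 | hpos
  · rw [h0, pow_zero, orderOf_eq_one_iff] at hk
    exact absurd hk hu1
  · rw [hk]
    exact dvd_pow_self p hpos.ne'

open Classical in
/-- Osima's vanishing and the sums over `D`: the dimension of a block is `|D|` times the part
coming from the characters with `D` in the kernel. -/
theorem sum_sq_eq [Fintype G] {p : ℕ} [hp : Fact p.Prime] (hM : IsPModular p M) (D : Subgroup G)
    [hDn : D.Normal] (hD : IsPGroup p D) (B : Set (IrrCharacter G)) (hB : IsPBlock M B) :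
    ∑ χ : IrrCharacter G, (if χ ∈ B then (χ : G → ℂ) 1 * (χ : G → ℂ) 1 else 0)
      = (Nat.card D : ℂ) * ∑ χ : IrrCharacter G,
          (if χ ∈ B ∧ KerGE D (χ : G → ℂ) then (χ : G → ℂ) 1 * (χ : G → ℂ) 1 else 0) := by
  haveI hMp := isPrime_of_isPModular hM
  obtain ⟨χ₀, hBeq⟩ := hB
  have hS : ∀ θ ∈ B, blockOf M (θ : G → ℂ) ⊆ B := by
    intro θ hθ ψ hψ
    rw [hBeq] at hθ ⊢
    exact sameBlock_trans hθ hψ
  letI : Fintype D := Fintype.ofFinite D
  -- the function `F u = ∑_{χ ∈ B} χ(1) χ(u)`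
  have hF : ∀ u : D, (u : G) ≠ 1 → ∑ χ : IrrCharacter G, (if χ ∈ B then (1 : ℂ) else 0)
      * ((χ : G → ℂ) 1 * (χ : G → ℂ) u) = 0 := by
    intro u hu
    exact sum_degree_mul_eq_zero hM B hS u (dvd_orderOf_of_mem D hD u.2 hu)
  have h1 : ∑ u : D, ∑ χ : IrrCharacter G, (if χ ∈ B then (1 : ℂ) else 0)
      * ((χ : G → ℂ) 1 * (χ : G → ℂ) u)
      = ∑ χ : IrrCharacter G, (if χ ∈ B then (χ : G → ℂ) 1 * (χ : G → ℂ) 1 else 0) := by
    rw [Finset.sum_eq_single (1 : D)]
    · apply Finset.sum_congr rfl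
      intro χ _
      split_ifs
      · rw [one_mul, OneMemClass.coe_one]
      · rw [zero_mul]
    · intro u _ hu
      apply hF u
      intro h
      apply hu
      exact Subtype.ext h
    · intro h
      exact absurd (Finset.mem_univ _) h
  rw [← h1, Finset.sum_comm, Finset.mul_sum]
  apply Finset.sum_congr rfl
  intro χ _
  rw [← Finset.mul_sum, ← Finset.mul_sum, sum_normal_irr D χ.2]
  by_cases hχ : χ ∈ B
  · by_cases hk : KerGE D (χ : G → ℂ)
    · have h3 : χ ∈ B ∧ KerGE D (χ : G → ℂ) := ⟨hχ, hk⟩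
      simp only [if_pos hχ, if_pos hk, if_pos h3]
      ring
    · have h3 : ¬ (χ ∈ B ∧ KerGE D (χ : G → ℂ)) := fun h => hk h.2
      simp only [if_pos hχ, if_neg hk, if_neg h3]
      ring
  · have h3 : ¬ (χ ∈ B ∧ KerGE D (χ : G → ℂ)) := fun h => hχ h.1
    simp only [if_neg hχ, if_neg h3]
    ring

theorem charDegree_inflate' (N : Subgroup G) [N.Normal] (ψ : G ⧸ N → ℂ) :
    charDegree (inflate N ψ) = charDegree ψ := by
  unfold charDegree
  rw [inflate_apply, QuotientGroup.mk_one]

/-- the inflation of an irreducible character of `G ⧸ D`, as an irreducible character of `G` -/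
noncomputable def inflI [Finite G] (D : Subgroup G) [D.Normal] (ψ : IrrCharacter (G ⧸ D)) :
    IrrCharacter G := (inflateIrr D ψ).1

theorem inflI_coe [Finite G] (D : Subgroup G) [D.Normal] (ψ : IrrCharacter (G ⧸ D)) :
    ((inflI D ψ : IrrCharacter G) : G → ℂ) = inflate D (ψ : G ⧸ D → ℂ) := rfl

theorem charDegree_inflI [Finite G] (D : Subgroup G) [D.Normal] (ψ : IrrCharacter (G ⧸ D)) :
    charDegree ((inflI D ψ : IrrCharacter G) : G → ℂ) = charDegree (ψ : G ⧸ D → ℂ) := by
  rw [inflI_coe, charDegree_inflate']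

open Classical in
/-- Reindexing the characters with `D` in the kernel by the characters of the quotient. -/
theorem sum_kerGE_eq [Finite G] (D : Subgroup G) [D.Normal] {A : Type*} [AddCommMonoid A]
    (B : Set (IrrCharacter G)) (f : IrrCharacter G → A) :
    ∑ χ : IrrCharacter G, (if χ ∈ B ∧ KerGE D (χ : G → ℂ) then f χ else 0)
      = ∑ ψ : IrrCharacter (G ⧸ D), (if inflI D ψ ∈ B then f (inflI D ψ) else 0) := by
  have h1 : ∑ χ : IrrCharacter G, (if χ ∈ B ∧ KerGE D (χ : G → ℂ) then f χ else 0)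
      = ∑ χ : IrrCharacter G, (if KerGE D (χ : G → ℂ) then (if χ ∈ B then f χ else 0) else 0) := by
    apply Finset.sum_congr rfl
    intro χ _
    by_cases h1 : χ ∈ B <;> by_cases h2 : KerGE D (χ : G → ℂ) <;> simp [h1, h2]
  rw [h1, ← Finset.sum_filter, ← Finset.sum_subtype_eq_sum_filter, Finset.subtype_univ]
  symm
  exact Fintype.sum_equiv (Equiv.ofBijective _ (inflateIrr_bijective D))
    (fun ψ : IrrCharacter (G ⧸ D) => if inflI D ψ ∈ B then f (inflI D ψ) else 0)
    (fun χ : {χ : IrrCharacter G // KerGE D (χ : G → ℂ)} =>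
      if (χ : IrrCharacter G) ∈ B then f (χ : IrrCharacter G) else 0)
    (fun ψ => rfl)

open Classical in
/-- **Piece D3.**  Let `B` be a block with the normal `p`-subgroup `D` as a defect group.  Every
irreducible character `ψ` of `G ⧸ D` whose inflation lies in `B` has degree exactly divisible by
`p ^ (a - d)`, and the sum of the squares of the cofactors `ψ(1) / p ^ (a - d)` over these `ψ` is
prime to `p`. -/
theorem d3 [Finite G] (p : ℕ) [hp : Fact p.Prime] (hM : IsPModular p M) (D : Subgroup G)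
    [hDn : D.Normal] (hD : IsPGroup p D) (B : Set (IrrCharacter G)) (hB : IsPBlock M B)
    (hBD : IsDefectGroup p M B D) :
    (∀ ψ : IrrCharacter (G ⧸ D), inflI D ψ ∈ B →
      (charDegree (ψ : G ⧸ D → ℂ)).factorization p = Rob.ad p D ∧
        p ^ Rob.ad p D ∣ charDegree (ψ : G ⧸ D → ℂ)) ∧
    ¬ p ∣ ∑ ψ : IrrCharacter (G ⧸ D),
      (if inflI D ψ ∈ B then (charDegree (ψ : G ⧸ D → ℂ) / p ^ Rob.ad p D) ^ 2 else 0) := by
  letI : Fintype G := Fintype.ofFinite G
  letI : Fintype (G ⧸ D) := Fintype.ofFinite _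
  have hpp : p.Prime := hp.out
  haveI hMp := isPrime_of_isPModular hM
  have hMtop : M ≠ ⊤ := hM.2.1.ne_top
  -- orders
  obtain ⟨a, ha⟩ : ∃ a, a = (Nat.card G).factorization p := ⟨_, rfl⟩
  obtain ⟨d, hd⟩ : ∃ d, d = (Nat.card D).factorization p := ⟨_, rfl⟩
  have hcardD : Nat.card D = p ^ d := by
    obtain ⟨n, hn⟩ := hD.exists_card_eq
    rw [hd, hn, Nat.factorization_pow, hpp.factorization]
    simp
  have hdef : Nat.card D = p ^ blockDefect p B := Cfsg.Agent.S0908.result p M hM B hB D hBD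
  have hdd : d = blockDefect p B := Nat.pow_right_injective hpp.two_le (hcardD.symm.trans hdef)
  obtain ⟨χ₀, hBeq⟩ := id hB
  have hχ₀ : χ₀ ∈ B := by
    rw [hBeq]
    exact sameBlock_refl hMtop _
  have hmin_le : minExp p B ≤ a := ha ▸ minExp_le_factorization_card hχ₀
  have hdefeq : blockDefect p B = a - minExp p B := by
    unfold blockDefect minExp
    rw [ha]
  have hmin : minExp p B = a - d := by omega
  have hda : d ≤ a := by omega
  have had : Rob.ad p D = a - d := by
    unfold Rob.ad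
    rw [ha, hd]
  -- the dimension of the block
  have hT := factorization_sum_sq hM B hB (Finset.univ.filter (fun χ : IrrCharacter G => χ ∈ B))
    (fun χ => by simp)
  rw [← ha, hmin] at hT
  -- degrees of the inflated members
  have hdeg_ge : ∀ ψ : IrrCharacter (G ⧸ D), inflI D ψ ∈ B →
      p ^ (a - d) ∣ charDegree (ψ : G ⧸ D → ℂ) := by
    intro ψ hψ
    have h1 := minExp_le (p := p) hψ
    rw [hmin, charDegree_inflI] at h1
    obtain ⟨n, hn1, hndvd, hnpos⟩ := irr_degree_dvd_card ψ.2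
    have hcd : charDegree (ψ : G ⧸ D → ℂ) = n := charDegree_eq hn1
    rw [hcd] at h1 ⊢
    exact (hpp.pow_dvd_iff_le_factorization hnpos.ne').2 h1
  -- the identity `T = p^d * Tbar`
  have hsum := sum_sq_eq hM D hD B hB
  rw [sum_kerGE_eq D B (fun χ => (χ : G → ℂ) 1 * (χ : G → ℂ) 1)] at hsum
  have hTnat : ∑ χ ∈ Finset.univ.filter (fun χ : IrrCharacter G => χ ∈ B),
      charDegree (χ : G → ℂ) ^ 2
      = p ^ d * ∑ ψ : IrrCharacter (G ⧸ D),
          (if inflI D ψ ∈ B then charDegree (ψ : G ⧸ D → ℂ) ^ 2 else 0) := by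
    have hinj : Function.Injective (Nat.cast : ℕ → ℂ) := Nat.cast_injective
    apply hinj
    rw [Finset.sum_filter]
    push_cast
    have hcD : (Nat.card D : ℂ) = (p : ℂ) ^ d := by
      rw [hcardD]
      push_cast
      rfl
    rw [← hcD]
    convert hsum using 2
    · rename_i χ _
      split_ifs
      · rw [apply_one_eq_charDegree χ]; ring
      · rfl
    · congr 1
      funext ψ
      split_ifs
      · rw [apply_one_eq_charDegree (inflI D ψ), charDegree_inflI]; ring
      · rfl
  -- factor out `p^(2(a-d))`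
  have hTbar : ∑ ψ : IrrCharacter (G ⧸ D),
      (if inflI D ψ ∈ B then charDegree (ψ : G ⧸ D → ℂ) ^ 2 else 0)
      = p ^ (2 * (a - d)) * ∑ ψ : IrrCharacter (G ⧸ D),
          (if inflI D ψ ∈ B then (charDegree (ψ : G ⧸ D → ℂ) / p ^ (a - d)) ^ 2 else 0) := by
    rw [Finset.mul_sum]
    apply Finset.sum_congr rfl
    intro ψ _
    split_ifs with h
    · obtain ⟨c, hc⟩ := hdeg_ge ψ h
      have hppos : 0 < p ^ (a - d) := pow_pos hpp.pos _
      rw [hc, Nat.mul_div_cancel_left c hppos]
      ring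
    · rw [mul_zero]
  -- positivity
  have hTpos : 0 < ∑ χ ∈ Finset.univ.filter (fun χ : IrrCharacter G => χ ∈ B),
      charDegree (χ : G → ℂ) ^ 2 := by
    apply Finset.sum_pos'
    · intro χ _; exact Nat.zero_le _
    · refine ⟨χ₀, by simp [hχ₀], ?_⟩
      obtain ⟨n, hn1, -, hnpos⟩ := irr_degree_dvd_card χ₀.2
      rw [charDegree_eq hn1]
      exact pow_pos hnpos 2
  constructor
  · intro ψ hψ
    rw [had]
    refine ⟨?_, hdeg_ge ψ hψ⟩
    obtain ⟨n, hn1, hndvd, hnpos⟩ := irr_degree_dvd_card ψ.2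
    have hcd : charDegree (ψ : G ⧸ D → ℂ) = n := charDegree_eq hn1
    have h1 := hdeg_ge ψ hψ
    rw [hcd] at h1 ⊢
    have hge : a - d ≤ n.factorization p := (hpp.pow_dvd_iff_le_factorization hnpos.ne').1 h1
    have hcardQ : Nat.card G = Nat.card D * Nat.card (G ⧸ D) := by
      rw [← Subgroup.index_eq_card, Subgroup.card_mul_index]
    have hQfac : (Nat.card (G ⧸ D)).factorization p = a - d := by
      have h2 : (Nat.card G).factorization p
          = (Nat.card D * Nat.card (G ⧸ D)).factorization p := by rw [← hcardQ]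
      rw [Nat.factorization_mul Nat.card_pos.ne' Nat.card_pos.ne', Finsupp.add_apply, ← ha, ← hd]
        at h2
      omega
    have hle : n.factorization p ≤ a - d := by
      rw [← hQfac]
      exact (Nat.factorization_le_iff_dvd hnpos.ne' Nat.card_pos.ne').2 hndvd p
    omega
  · rw [had]
    set s := ∑ ψ : IrrCharacter (G ⧸ D),
      (if inflI D ψ ∈ B then (charDegree (ψ : G ⧸ D → ℂ) / p ^ (a - d)) ^ 2 else 0) with hs
    rw [hTbar] at hTnat
    rw [hTnat] at hT hTpos
    have hs0 : s ≠ 0 := by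
      rintro h0
      rw [h0, mul_zero, mul_zero] at hTpos
      exact lt_irrefl _ hTpos
    have hpd0 : p ^ d ≠ 0 := pow_ne_zero _ hpp.ne_zero
    have hpa0 : p ^ (2 * (a - d)) ≠ 0 := pow_ne_zero _ hpp.ne_zero
    rw [Nat.factorization_mul hpd0 (mul_ne_zero hpa0 hs0), Nat.factorization_mul hpa0 hs0,
      Nat.factorization_pow, Nat.factorization_pow, hpp.factorization] at hT
    simp only [Finsupp.add_apply, Finsupp.smul_apply, Finsupp.single_eq_same, smul_eq_mul,
      mul_one] at hT
    have hs_fac : s.factorization p = 0 := by omega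
    rcases (Nat.factorization_eq_zero_iff s p).1 hs_fac with h | h | h
    · exact absurd hpp h
    · exact h
    · exact absurd h hs0

theorem inflI_eq_infl [Finite G] (D : Subgroup G) [D.Normal] (ψ : IrrCharacter (G ⧸ D)) :
    inflI D ψ = Rob.infl D ψ := rfl

open Classical in
/-- Piece D3 in the shape used by the assembly of S4443. -/
theorem exists_sB [Finite G] (p : ℕ) [Fact p.Prime] (M : Ideal AlgInt) (hM : IsPModular p M)
    (D : Subgroup G) [D.Normal] (hD : IsPGroup p D) (B : Set (IrrCharacter G))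
    (hB : IsPBlock M B) (hBD : IsDefectGroup p M B D) :
    (∀ ψ : IrrCharacter (G ⧸ D), Rob.infl D ψ ∈ B →
      (charDegree (ψ : G ⧸ D → ℂ)).factorization p = Rob.ad p D) ∧
    ∃ s : ℕ, ¬ p ∣ s ∧ (s : ℂ) = ∑ᶠ ψ ∈ {ψ : IrrCharacter (G ⧸ D) | Rob.infl D ψ ∈ B},
      ((charDegree (ψ : G ⧸ D → ℂ) / p ^ Rob.ad p D : ℕ) : ℂ) ^ 2 := by
  letI : Fintype G := Fintype.ofFinite G
  letI : Fintype (G ⧸ D) := Fintype.ofFinite _
  obtain ⟨h1, h2⟩ := d3 p hM D hD B hB hBD
  refine ⟨fun ψ hψ => (h1 ψ hψ).1, _, h2, ?_⟩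
  rw [finsum_mem_eq_sum_filter_irr, Finset.sum_filter]
  push_cast
  apply Finset.sum_congr rfl
  intro ψ _
  simp only [Set.mem_setOf_eq]
  by_cases h : Rob.infl D ψ ∈ B
  · have h' : inflI D ψ ∈ B := h
    rw [if_pos h, if_pos h']
  · have h' : ¬ inflI D ψ ∈ B := h
    rw [if_neg h, if_neg h']

end Cfsg.Agent.Lib.helper3.RobD3
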