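import Mathlib
import Cfsg.Agent.Lib.helper3.SP24
import Cfsg.Agent.Lib.helper3.NormalSupp

/-!
# Brauer pairs of a normal subgroup and of the whole group: the bridge
-/

set_option autoImplicit false
set_option linter.style.haveILetI false
set_option linter.unusedSectionVars false

namespace Cfsg.Agent.Lib.helper3.Block

open Cfsg Module Cfsg.Agent.Lib.helper3.CharBasic Cfsg.Agent.Lib.helper3.Irr
open Cfsg.Agent.Lib.helper3.Central Cfsg.Agent.Lib.helper3.LocalM Cfsg.Agent.Lib.helper3.IndFun
open Cfsg.Agent.Lib.helper3.Lin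
open scoped ComplexConjugate

universe u

variable {G : Type u} [Group G]

/-- An element of `N` centralizes `R'` iff its image centralizes the image of `R'`. -/
theorem coe_mem_centralizer_map_iff (N : Subgroup G) (R' : Subgroup ↥N) (x : ↥N) :
    x ∈ Subgroup.centralizer (R' : Set ↥N) ↔
      (x : G) ∈ Subgroup.centralizer ((R'.map N.subtype : Subgroup G) : Set G) := by
  rw [Subgroup.mem_centralizer_iff, Subgroup.mem_centralizer_iff]
  constructor
  · rintro h y ⟨r, hr, rfl⟩
    have := h r hr
    have h2 := congrArg (fun z : ↥N => (z : G)) this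
    exact h2
  · intro h r hr
    apply Subtype.ext
    exact h (r : G) ⟨r, hr, rfl⟩

/-- An element of `N` normalizes `R'` iff its image normalizes the image of `R'`. -/
theorem coe_mem_normalizer_map_iff (N : Subgroup G) (R' : Subgroup ↥N) (x : ↥N) :
    x ∈ Subgroup.normalizer (R' : Set ↥N) ↔
      (x : G) ∈ Subgroup.normalizer ((R'.map N.subtype : Subgroup G) : Set G) := by
  rw [Subgroup.mem_normalizer_iff, Subgroup.mem_normalizer_iff]
  constructor
  · intro h y
    constructor
    · rintro ⟨r, hr, rfl⟩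
      exact ⟨x * r * x⁻¹, (h r).mp hr, rfl⟩
    · rintro ⟨r, hr, hry⟩
      have hyN : y ∈ N := by
        have h1 : y = (x : G)⁻¹ * (r : G) * (x : G) := by
          have : (r : G) = (x : G) * y * (x : G)⁻¹ := hry
          rw [this]
          group
        rw [h1]
        exact N.mul_mem (N.mul_mem (N.inv_mem x.2) r.2) x.2
      refine ⟨⟨y, hyN⟩, ?_, rfl⟩
      show (⟨y, hyN⟩ : ↥N) ∈ R'
      rw [h]
      have : x * ⟨y, hyN⟩ * x⁻¹ = r := by
        apply Subtype.ext
        exact hry.symm
      rw [this]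
      exact hr
  · intro h r
    constructor
    · intro hr
      obtain ⟨r₂, hr₂, h2⟩ := (h (r : G)).mp ⟨r, hr, rfl⟩
      have : x * r * x⁻¹ = r₂ := by
        apply Subtype.ext
        exact h2.symm
      rw [this]
      exact hr₂
    · intro hr
      obtain ⟨r₂, hr₂, h2⟩ := (h (r : G)).mpr ⟨x * r * x⁻¹, hr, rfl⟩
      have : r = r₂ := by
        apply Subtype.ext
        exact h2.symm
      rw [this]
      exact hr₂

/-- The centralizer of `R'` in `N`, as a subgroup of the centralizer of the image of `R'`. -/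
noncomputable def cNEquiv (N : Subgroup G) (R' : Subgroup ↥N) :
    ↥(Subgroup.centralizer (R' : Set ↥N)) ≃*
      ↥(N.subgroupOf (Subgroup.centralizer ((R'.map N.subtype : Subgroup G) : Set G))) where
  toFun x := ⟨⟨((x : ↥N) : G), (coe_mem_centralizer_map_iff N R' x).mp x.2⟩,
    Subgroup.mem_subgroupOf.mpr (x : ↥N).2⟩
  invFun k := ⟨⟨((k : ↥(Subgroup.centralizer ((R'.map N.subtype : Subgroup G) : Set G))) : G),
      Subgroup.mem_subgroupOf.mp k.2⟩,
    (coe_mem_centralizer_map_iff N R' _).mpr
      (k : ↥(Subgroup.centralizer ((R'.map N.subtype : Subgroup G) : Set G))).2⟩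
  left_inv x := rfl
  right_inv k := rfl
  map_mul' x y := rfl

theorem cNEquiv_coe (N : Subgroup G) (R' : Subgroup ↥N)
    (x : ↥(Subgroup.centralizer (R' : Set ↥N))) :
    (((cNEquiv N R' x : ↥(N.subgroupOf
      (Subgroup.centralizer ((R'.map N.subtype : Subgroup G) : Set G)))) :
      ↥(Subgroup.centralizer ((R'.map N.subtype : Subgroup G) : Set G))) : G) = ((x : ↥N) : G) :=
  rfl

theorem cNEquiv_symm_coe (N : Subgroup G) (R' : Subgroup ↥N)
    (k : ↥(N.subgroupOf (Subgroup.centralizer ((R'.map N.subtype : Subgroup G) : Set G)))) :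
    ((((cNEquiv N R').symm k : ↥(Subgroup.centralizer (R' : Set ↥N))) : ↥N) : G)
      = ((k : ↥(Subgroup.centralizer ((R'.map N.subtype : Subgroup G) : Set G))) : G) :=
  rfl

/-- Transport of irreducible characters from `C_G(R) ∩ N` to `C_N(R')`. -/
noncomputable def irrN [Finite G] (N : Subgroup G) (R' : Subgroup ↥N) :
    IrrCharacter ↥(N.subgroupOf (Subgroup.centralizer ((R'.map N.subtype : Subgroup G) : Set G)))
      ≃ IrrCharacter ↥(Subgroup.centralizer (R' : Set ↥N)) :=
  @irrCongr _ _ _ _ (Fintype.ofFinite _) (Fintype.ofFinite _) (cNEquiv N R')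

theorem irrN_apply [Finite G] (N : Subgroup G) (R' : Subgroup ↥N)
    (θ : IrrCharacter ↥(N.subgroupOf
      (Subgroup.centralizer ((R'.map N.subtype : Subgroup G) : Set G))))
    (x : ↥(Subgroup.centralizer (R' : Set ↥N))) :
    (irrN N R' θ : ↥(Subgroup.centralizer (R' : Set ↥N)) → ℂ) x
      = (θ : ↥(N.subgroupOf
        (Subgroup.centralizer ((R'.map N.subtype : Subgroup G) : Set G))) → ℂ)
        (cNEquiv N R' x) := rfl

theorem irrN_symm_apply [Finite G] (N : Subgroup G) (R' : Subgroup ↥N)
    (χ : IrrCharacter ↥(Subgroup.centralizer (R' : Set ↥N)))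
    (k : ↥(N.subgroupOf (Subgroup.centralizer ((R'.map N.subtype : Subgroup G) : Set G)))) :
    ((irrN N R').symm χ : ↥(N.subgroupOf
        (Subgroup.centralizer ((R'.map N.subtype : Subgroup G) : Set G))) → ℂ) k
      = (χ : ↥(Subgroup.centralizer (R' : Set ↥N)) → ℂ) ((cNEquiv N R').symm k) := rfl

theorem isPBlock_image_irrN [Finite G] {M : Ideal AlgInt} (N : Subgroup G) (R' : Subgroup ↥N)
    (g : Set (IrrCharacter ↥(N.subgroupOf
      (Subgroup.centralizer ((R'.map N.subtype : Subgroup G) : Set G)))))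
    (hg : IsPBlock M g) : IsPBlock M (irrN N R' '' g) :=
  @isPBlock_image_irrCongr _ _ _ _ (Fintype.ofFinite _) (Fintype.ofFinite _) M
    (cNEquiv N R') g hg

theorem isPBlock_image_irrN_symm [Finite G] {M : Ideal AlgInt} (N : Subgroup G)
    (R' : Subgroup ↥N) (g' : Set (IrrCharacter ↥(Subgroup.centralizer (R' : Set ↥N))))
    (hg : IsPBlock M g') : IsPBlock M ((irrN N R').symm '' g') := by
  have h1 := @isPBlock_image_irrCongr _ _ _ _ (Fintype.ofFinite _) (Fintype.ofFinite _) M
    (cNEquiv N R').symm g' hg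
  convert h1 using 1
  apply Set.image_congr
  intro χ _
  apply Subtype.ext
  funext k
  rfl

/-- The Brauer functional of the whole group at a character over `θ` agrees with the Brauer
functional of the normal subgroup at the transported `θ`. -/
theorem brauerOmega_map_eq_of_over [Fintype G] (N : Subgroup G) [hN : N.Normal]
    (R' : Subgroup ↥N) (β : G → ℂ) (hβ : ∀ g x : G, β (x * g * x⁻¹) = β g)
    (hsupp : ∀ g, g ∉ N → β g = 0)
    (ξ : IrrCharacter ↥(Subgroup.centralizer ((R'.map N.subtype : Subgroup G) : Set G)))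
    (θ : IrrCharacter ↥(N.subgroupOf
      (Subgroup.centralizer ((R'.map N.subtype : Subgroup G) : Set G))))
    [Fintype ↥(N.subgroupOf (Subgroup.centralizer ((R'.map N.subtype : Subgroup G) : Set G)))]
    (h : ξ ∈ irrOver (N.subgroupOf
      (Subgroup.centralizer ((R'.map N.subtype : Subgroup G) : Set G)))
      (θ : ↥(N.subgroupOf
        (Subgroup.centralizer ((R'.map N.subtype : Subgroup G) : Set G))) → ℂ)) :
    brauerOmega (R'.map N.subtype) β
        (ξ : ↥(Subgroup.centralizer ((R'.map N.subtype : Subgroup G) : Set G)) → ℂ)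
      = brauerOmega R' (fun n : ↥N => β (n : G))
        (irrN N R' θ : ↥(Subgroup.centralizer (R' : Set ↥N)) → ℂ) := by
  classical
  haveI : Fintype ↥(Subgroup.centralizer ((R'.map N.subtype : Subgroup G) : Set G)) :=
    Fintype.ofFinite _
  haveI : Fintype ↥(Subgroup.centralizer (R' : Set ↥N)) := Fintype.ofFinite _
  rw [brauerOmega_eq_sum, brauerOmega_eq_sum]
  have h1 := sum_mul_div_of_over
    (N.subgroupOf (Subgroup.centralizer ((R'.map N.subtype : Subgroup G) : Set G)))
    (fun x : ↥(Subgroup.centralizer ((R'.map N.subtype : Subgroup G) : Set G)) => β (x : G))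
    (fun g x => hβ (g : G) (x : G))
    (fun g hg => hsupp (g : G) (fun hgN => hg (Subgroup.mem_subgroupOf.mpr hgN)))
    ξ θ h
  rw [h1]
  symm
  apply Fintype.sum_equiv (cNEquiv N R').toEquiv
  intro x
  rfl

theorem normalizer_le_normalizer_centralizer' (D : Subgroup G) :
    Subgroup.normalizer (D : Set G)
      ≤ Subgroup.normalizer ((Subgroup.centralizer (D : Set G) : Subgroup G) : Set G) := by
  intro u hu
  rw [Subgroup.mem_normalizer_iff] at hu ⊢
  have key : ∀ (v : G), (∀ q, q ∈ D ↔ v * q * v⁻¹ ∈ D) → ∀ h,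
      h ∈ Subgroup.centralizer (D : Set G) → v * h * v⁻¹ ∈ Subgroup.centralizer (D : Set G) := by
    intro v hv h hh
    rw [Subgroup.mem_centralizer_iff] at hh ⊢
    intro q hq
    have hq' : v⁻¹ * q * v ∈ D := by
      rw [hv]
      have : v * (v⁻¹ * q * v) * v⁻¹ = q := by group
      rw [this]
      exact hq
    have h1 := hh _ hq'
    calc q * (v * h * v⁻¹) = v * ((v⁻¹ * q * v) * h) * v⁻¹ := by group
      _ = v * (h * (v⁻¹ * q * v)) * v⁻¹ := by rw [h1]
      _ = v * h * v⁻¹ * q := by group
  intro h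
  constructor
  · exact key u hu h
  · intro hh
    have hinv : ∀ q, q ∈ D ↔ u⁻¹ * q * u⁻¹⁻¹ ∈ D := by
      intro q
      rw [hu (u⁻¹ * q * u⁻¹⁻¹)]
      have : u * (u⁻¹ * q * u⁻¹⁻¹) * u⁻¹ = q := by group
      rw [this]
    have := key u⁻¹ hinv _ hh
    have e : u⁻¹ * (u * h * u⁻¹) * u⁻¹⁻¹ = h := by group
    rwa [e] at this

/-- Conjugation by an element normalizing `R` maps `C_G(R) ∩ N` to itself. -/
def conjKFun (N : Subgroup G) [hN : N.Normal] (R' : Subgroup ↥N) (u : G)
    (hu : u ∈ Subgroup.normalizer ((R'.map N.subtype : Subgroup G) : Set G))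
    (k : ↥(N.subgroupOf (Subgroup.centralizer ((R'.map N.subtype : Subgroup G) : Set G)))) :
    ↥(N.subgroupOf (Subgroup.centralizer ((R'.map N.subtype : Subgroup G) : Set G))) :=
  ⟨⟨u * ((k : ↥(Subgroup.centralizer ((R'.map N.subtype : Subgroup G) : Set G))) : G) * u⁻¹,
      (Subgroup.mem_normalizer_iff.mp (normalizer_le_normalizer_centralizer' _ hu) _).mp
        (k : ↥(Subgroup.centralizer ((R'.map N.subtype : Subgroup G) : Set G))).2⟩,
    Subgroup.mem_subgroupOf.mpr (hN.conj_mem _ (Subgroup.mem_subgroupOf.mp k.2) u)⟩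

theorem conjKFun_coe (N : Subgroup G) [hN : N.Normal] (R' : Subgroup ↥N) (u : G)
    (hu : u ∈ Subgroup.normalizer ((R'.map N.subtype : Subgroup G) : Set G))
    (k : ↥(N.subgroupOf (Subgroup.centralizer ((R'.map N.subtype : Subgroup G) : Set G)))) :
    (((conjKFun N R' u hu k : ↥(N.subgroupOf
      (Subgroup.centralizer ((R'.map N.subtype : Subgroup G) : Set G)))) :
      ↥(Subgroup.centralizer ((R'.map N.subtype : Subgroup G) : Set G))) : G)
      = u * ((k : ↥(Subgroup.centralizer ((R'.map N.subtype : Subgroup G) : Set G))) : G)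
        * u⁻¹ := rfl

/-- Conjugation by the normalizer of `R`, acting on `C_G(R) ∩ N`. -/
noncomputable def conjK (N : Subgroup G) [hN : N.Normal] (R' : Subgroup ↥N) :
    ↥(Subgroup.normalizer ((R'.map N.subtype : Subgroup G) : Set G)) →*
      MulAut ↥(N.subgroupOf
        (Subgroup.centralizer ((R'.map N.subtype : Subgroup G) : Set G))) :=
  MonoidHom.mk' (fun n =>
    { toFun := conjKFun N R' (n : G) n.2
      invFun := conjKFun N R' ((n : G)⁻¹) (Subgroup.inv_mem _ n.2)
      left_inv := fun k => by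
        apply Subtype.ext
        apply Subtype.ext
        rw [conjKFun_coe, conjKFun_coe]
        group
      right_inv := fun k => by
        apply Subtype.ext
        apply Subtype.ext
        rw [conjKFun_coe, conjKFun_coe]
        group
      map_mul' := fun k l => by
        apply Subtype.ext
        apply Subtype.ext
        rw [conjKFun_coe]
        show _ = ((conjKFun N R' (n : G) n.2 k : ↥(N.subgroupOf
          (Subgroup.centralizer ((R'.map N.subtype : Subgroup G) : Set G)))) :
          ↥(Subgroup.centralizer ((R'.map N.subtype : Subgroup G) : Set G))).1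
          * ((conjKFun N R' (n : G) n.2 l : ↥(N.subgroupOf
          (Subgroup.centralizer ((R'.map N.subtype : Subgroup G) : Set G)))) :
          ↥(Subgroup.centralizer ((R'.map N.subtype : Subgroup G) : Set G))).1
        rw [conjKFun_coe, conjKFun_coe]
        show (n : G) * ((k : ↥(Subgroup.centralizer
          ((R'.map N.subtype : Subgroup G) : Set G))).1 * (l : ↥(Subgroup.centralizer
          ((R'.map N.subtype : Subgroup G) : Set G))).1) * (n : G)⁻¹ = _
        group })
    (fun n m => by
      apply MulEquiv.ext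
      intro k
      apply Subtype.ext
      apply Subtype.ext
      show ((n : G) * (m : G)) * _ * ((n : G) * (m : G))⁻¹ = (n : G) * ((m : G) * _ * (m : G)⁻¹) * (n : G)⁻¹
      group)

theorem conjK_coe (N : Subgroup G) [hN : N.Normal] (R' : Subgroup ↥N)
    (n : ↥(Subgroup.normalizer ((R'.map N.subtype : Subgroup G) : Set G)))
    (k : ↥(N.subgroupOf (Subgroup.centralizer ((R'.map N.subtype : Subgroup G) : Set G)))) :
    (((conjK N R' n k : ↥(N.subgroupOf
      (Subgroup.centralizer ((R'.map N.subtype : Subgroup G) : Set G)))) :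
      ↥(Subgroup.centralizer ((R'.map N.subtype : Subgroup G) : Set G))) : G)
      = (n : G) * ((k : ↥(Subgroup.centralizer ((R'.map N.subtype : Subgroup G) : Set G))) : G)
        * (n : G)⁻¹ := rfl

theorem conjK_inv_coe (N : Subgroup G) [hN : N.Normal] (R' : Subgroup ↥N)
    (n : ↥(Subgroup.normalizer ((R'.map N.subtype : Subgroup G) : Set G)))
    (k : ↥(N.subgroupOf (Subgroup.centralizer ((R'.map N.subtype : Subgroup G) : Set G)))) :
    ((((conjK N R' n)⁻¹ k : ↥(N.subgroupOf
      (Subgroup.centralizer ((R'.map N.subtype : Subgroup G) : Set G)))) :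
      ↥(Subgroup.centralizer ((R'.map N.subtype : Subgroup G) : Set G))) : G)
      = (n : G)⁻¹ * ((k : ↥(Subgroup.centralizer ((R'.map N.subtype : Subgroup G) : Set G))) : G)
        * (n : G) := by
  rw [← map_inv, conjK_coe]
  rw [Subgroup.coe_inv, inv_inv]

/-- Lying over is compatible with conjugation by the normalizer of `R`. -/
theorem irrOver_autIrr_conjK [Fintype G] (N : Subgroup G) [hN : N.Normal] (R' : Subgroup ↥N)
    [Fintype ↥(Subgroup.centralizer ((R'.map N.subtype : Subgroup G) : Set G))]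
    [Fintype ↥(N.subgroupOf (Subgroup.centralizer ((R'.map N.subtype : Subgroup G) : Set G)))]
    (n : ↥(Subgroup.normalizer ((R'.map N.subtype : Subgroup G) : Set G)))
    (ξ : IrrCharacter ↥(Subgroup.centralizer ((R'.map N.subtype : Subgroup G) : Set G)))
    (θ : IrrCharacter ↥(N.subgroupOf
      (Subgroup.centralizer ((R'.map N.subtype : Subgroup G) : Set G))))
    (h : ξ ∈ irrOver (N.subgroupOf
      (Subgroup.centralizer ((R'.map N.subtype : Subgroup G) : Set G)))
      (θ : ↥(N.subgroupOf
        (Subgroup.centralizer ((R'.map N.subtype : Subgroup G) : Set G))) → ℂ)) :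
    autIrr ((Subgroup.centralizer ((R'.map N.subtype : Subgroup G) : Set G)).normalizerMonoidHom
        ⟨(n : G), normalizer_le_normalizer_centralizer' _ n.2⟩) ξ
      ∈ irrOver (N.subgroupOf
        (Subgroup.centralizer ((R'.map N.subtype : Subgroup G) : Set G)))
        (autIrr (conjK N R' n) θ : ↥(N.subgroupOf
          (Subgroup.centralizer ((R'.map N.subtype : Subgroup G) : Set G))) → ℂ) := by
  unfold irrOver at h ⊢
  rw [Set.mem_setOf_eq] at h ⊢
  have h1 := classInner_comp_mulEquiv ((conjK N R' n)⁻¹ : MulAut ↥(N.subgroupOf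
      (Subgroup.centralizer ((R'.map N.subtype : Subgroup G) : Set G))))
    (fun k : ↥(N.subgroupOf
      (Subgroup.centralizer ((R'.map N.subtype : Subgroup G) : Set G))) =>
      (ξ : ↥(Subgroup.centralizer ((R'.map N.subtype : Subgroup G) : Set G)) → ℂ) k)
    (θ : ↥(N.subgroupOf
        (Subgroup.centralizer ((R'.map N.subtype : Subgroup G) : Set G))) → ℂ)
  rw [← h1] at h
  convert h using 2
  · funext k
    rw [autIrr_apply]
    congr 1
  · funext k
    rfl

/-- A block of `C_G(R) ∩ N` mapped into itself by conjugation gives a stabilized block of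
`C_N(R')`. -/
theorem stabilizesBlock_image_irrN [Fintype G] (N : Subgroup G) [hN : N.Normal]
    (R' : Subgroup ↥N)
    [Fintype ↥(N.subgroupOf (Subgroup.centralizer ((R'.map N.subtype : Subgroup G) : Set G)))]
    (t' : ↥N) (ht' : t' ∈ Subgroup.normalizer (R' : Set ↥N))
    (g : Set (IrrCharacter ↥(N.subgroupOf
      (Subgroup.centralizer ((R'.map N.subtype : Subgroup G) : Set G)))))
    (hg : ∀ θ ∈ g, autIrr (conjK N R'
      ⟨(t' : G), (coe_mem_normalizer_map_iff N R' t').mp ht'⟩) θ ∈ g) :
    StabilizesBlock (Subgroup.centralizer (R' : Set ↥N)) (irrN N R' '' g) t' := by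
  refine ⟨normalizer_le_normalizer_centralizer' R' ht', ?_⟩
  rintro χ ⟨θ, hθ, rfl⟩
  refine ⟨irrN N R' (autIrr (conjK N R'
      ⟨(t' : G), (coe_mem_normalizer_map_iff N R' t').mp ht'⟩) θ), ⟨_, hg θ hθ, rfl⟩, ?_⟩
  intro k k' hkk'
  rw [irrN_apply, irrN_apply, autIrr_apply]
  apply congrArg
  apply Subtype.ext
  apply Subtype.ext
  rw [conjK_inv_coe, cNEquiv_coe, cNEquiv_coe, hkk']
  show (t' : G)⁻¹ * ((t' : G) * ((k : ↥N) : G) * (t' : G)⁻¹) * (t' : G) = _
  group

/-- A stabilized block of `C_N(R')` gives a block of `C_G(R) ∩ N` mapped into itself by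
conjugation. -/
theorem autIrr_conjK_mem_of_stabilizesBlock [Fintype G] (N : Subgroup G) [hN : N.Normal]
    (R' : Subgroup ↥N)
    [Fintype ↥(N.subgroupOf (Subgroup.centralizer ((R'.map N.subtype : Subgroup G) : Set G)))]
    (t' : ↥N) (ht' : t' ∈ Subgroup.normalizer (R' : Set ↥N))
    (g' : Set (IrrCharacter ↥(Subgroup.centralizer (R' : Set ↥N))))
    (hg : StabilizesBlock (Subgroup.centralizer (R' : Set ↥N)) g' t') :
    ∀ θ ∈ (irrN N R').symm '' g', autIrr (conjK N R'
      ⟨(t' : G), (coe_mem_normalizer_map_iff N R' t').mp ht'⟩) θ ∈ (irrN N R').symm '' g' := by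
  rintro θ ⟨χ, hχ, rfl⟩
  obtain ⟨χ', hχ', hconj⟩ := hg.2 χ hχ
  refine ⟨χ', hχ', ?_⟩
  apply Subtype.ext
  funext k
  rw [irrN_symm_apply, autIrr_apply, irrN_symm_apply]
  apply hconj
  apply Subtype.ext
  rw [Subgroup.coe_mul, Subgroup.coe_mul, Subgroup.coe_inv, cNEquiv_symm_coe, cNEquiv_symm_coe,
    conjK_inv_coe]
  show _ = (t' : G) * ((t' : G)⁻¹ * _ * (t' : G)) * (t' : G)⁻¹
  group

end Cfsg.Agent.Lib.helper3.Block
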