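import Mathlib
import Cfsg.Agent.Lib.helper3.SP25
import Cfsg.Agent.S0966
import Cfsg.Agent.S0964

/-!
# Nilpotent blocks and normal subgroups of `p`-power index: from the group to the subgroup
-/

set_option autoImplicit false
set_option linter.style.haveILetI false
set_option linter.unusedSectionVars false

namespace Cfsg.Agent.Lib.helper3.Block

open Cfsg Module Cfsg.Agent.Lib.helper3.CharBasic Cfsg.Agent.Lib.helper3.Irr
open Cfsg.Agent.Lib.helper3.Central Cfsg.Agent.Lib.helper3.LocalM Cfsg.Agent.Lib.helper3.IndFun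
open Cfsg.Agent.Lib.helper3.Lin
open scoped ComplexConjugate

universe u

variable {G : Type u} [Group G] [Fintype G] {M : Ideal AlgInt}

/-- The index of `C_G(R) ∩ N` in `C_G(R)` is a power of `p`. -/
theorem index_subgroupOf_pow {p : ℕ} [hp : Fact p.Prime] (N : Subgroup G) [hN : N.Normal]
    (hidx : ∃ k : ℕ, N.index = p ^ k) (C : Subgroup G) :
    ∃ k : ℕ, (N.subgroupOf C).index = p ^ k := by
  obtain ⟨k, hk⟩ := hidx
  have h1 : N.relIndex C ∣ N.index := Subgroup.relIndex_dvd_index_of_normal N C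
  rw [hk] at h1
  obtain ⟨j, -, hj⟩ := (Nat.dvd_prime_pow hp.out).mp h1
  exact ⟨j, hj⟩

set_option maxHeartbeats 1600000 in
open Classical in
/-- If the block of `G` with the idempotent of `c` is nilpotent, so is `c`: the key step. -/
theorem mem_centralizer_of_nilpotent_over {p : ℕ} [hp : Fact p.Prime] (hM : IsPModular p M)
    (N : Subgroup G) [hN : N.Normal] (hidx : ∃ k : ℕ, N.index = p ^ k)
    (c : Set (IrrCharacter N)) (hc : IsPBlock M c)
    (B : Set (IrrCharacter G)) (hB : IsPBlock M B)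
    (hBc : ∀ g : G, blockCoeff B g = subgroupBlockCoeff N c g)
    (hnil : IsNilpotentBlock p M B)
    (R' : Subgroup ↥N) (g' : Set (IrrCharacter ↥(Subgroup.centralizer (R' : Set ↥N))))
    (hpair : IsBrauerPairOf p M c R' g') (t' : ↥N)
    (ht' : t' ∈ Subgroup.normalizer (R' : Set ↥N))
    (hst : StabilizesBlock (Subgroup.centralizer (R' : Set ↥N)) g' t')
    (hreg : IsPRegular p t') : t' ∈ Subgroup.centralizer (R' : Set ↥N) := by
  haveI : Fintype N := Fintype.ofFinite _
  haveI hMp := isPrime_of_isPModular hM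
  have hMtop : M ≠ ⊤ := hM.2.1.ne_top
  haveI : Fintype ↥(Subgroup.centralizer ((R'.map N.subtype : Subgroup G) : Set G)) :=
    Fintype.ofFinite _
  haveI : Fintype ↥(N.subgroupOf
    (Subgroup.centralizer ((R'.map N.subtype : Subgroup G) : Set G))) := Fintype.ofFinite _
  obtain ⟨⟨hR'p, hg'⟩, -, hω⟩ := hpair
  obtain ⟨g, hgdef⟩ : ∃ g, g = (irrN N R').symm '' g' := ⟨_, rfl⟩
  have hgblock : IsPBlock M g := by
    rw [hgdef]
    exact isPBlock_image_irrN_symm N R' g' hg'
  have hidxK := index_subgroupOf_pow N hidx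
    (Subgroup.centralizer ((R'.map N.subtype : Subgroup G) : Set G))
  obtain ⟨h, ⟨hh, ξ₀, hξ₀, θ₀, hθ₀, hover⟩, huniq⟩ := Cfsg.Agent.S0966.result p M hM
    (N.subgroupOf (Subgroup.centralizer ((R'.map N.subtype : Subgroup G) : Set G))) hidxK g hgblock
  -- the element `t`
  have htN : (t' : G) ∈ Subgroup.normalizer ((R'.map N.subtype : Subgroup G) : Set G) :=
    (coe_mem_normalizer_map_iff N R' t').mp ht'
  -- `(R, h)` is a Brauer pair of `B`
  have hloc : ∀ x, MemLocalRing M (blockCoeff B x) := fun x => osima hM B hB x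
  have hconj : ∀ x y : G, blockCoeff B (y * x * y⁻¹) = blockCoeff B x :=
    fun x y => blockCoeff_conj' B x y
  have hsupp : ∀ x, x ∉ N → blockCoeff B x = 0 := by
    intro x hx
    rw [hBc, subgroupBlockCoeff_of_notMem N c hx]
  have hres : (fun n : ↥N => blockCoeff B (n : G)) = blockCoeff c := by
    funext n
    rw [hBc, subgroupBlockCoeff_of_mem N c n.2]
  have hpairB : IsBrauerPairOf p M B (R'.map N.subtype) h := by
    refine ⟨⟨hR'p.map N.subtype, hh⟩, hB, ?_⟩
    have hheq : h = blockOf M (ξ₀ : ↥(Subgroup.centralizer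
        ((R'.map N.subtype : Subgroup G) : Set G)) → ℂ) :=
      block_eq_of_mem hh ⟨ξ₀, rfl⟩ ξ₀ hξ₀ (sameBlock_refl hMtop _)
    rw [hheq]
    rw [forall_blockOf_brauerOmega_iff hM (R'.map N.subtype) (blockCoeff B) hloc
      (fun c _ x => hconj x c) ξ₀]
    rw [brauerOmega_map_eq_of_over N R' (blockCoeff B) hconj hsupp ξ₀ θ₀ hover, hres]
    apply hω
    rw [hgdef] at hθ₀
    obtain ⟨χ₀, hχ₀, rfl⟩ := hθ₀
    rw [Equiv.apply_symm_apply]
    exact hχ₀
  -- `t` stabilizes `h`
  have hstab : StabilizesBlock (Subgroup.centralizer ((R'.map N.subtype : Subgroup G) : Set G))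
      h (t' : G) := by
    have h1 := stabilizesBlock_iff
      (Subgroup.centralizer ((R'.map N.subtype : Subgroup G) : Set G)) h hh
      ⟨(t' : G), normalizer_le_normalizer_centralizer' _ htN⟩
    rw [h1]
    apply huniq
    refine ⟨isPBlock_image_autIrr _ h hh, _, ⟨ξ₀, hξ₀, rfl⟩,
      autIrr (conjK N R' ⟨(t' : G), htN⟩) θ₀, ?_, ?_⟩
    · rw [hgdef]
      apply autIrr_conjK_mem_of_stabilizesBlock N R' t' ht' g' hst
      rw [← hgdef]
      exact hθ₀
    · exact irrOver_autIrr_conjK N R' ⟨(t' : G), htN⟩ ξ₀ θ₀ hover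
  have hreg' : IsPRegular p (t' : G) := by
    unfold IsPRegular at hreg ⊢
    rw [Subgroup.orderOf_coe]
    exact hreg
  have hmem := hnil.2 (R'.map N.subtype) h hpairB (t' : G) htN hstab hreg'
  exact (coe_mem_centralizer_map_iff N R' t').mpr hmem

end Cfsg.Agent.Lib.helper3.Block
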