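import Mathlib
import Cfsg.Agent.Lib.helper3.SP26

/-!
# Blocks of a normal subgroup of `p`-power index covered by a block: orbit and count
-/

set_option autoImplicit false
set_option linter.style.haveILetI false
set_option linter.unusedSectionVars false

namespace Cfsg.Agent.Lib.helper3.Block

open Cfsg Module Cfsg.Agent.Lib.helper3.CharBasic Cfsg.Agent.Lib.helper3.Irr
open Cfsg.Agent.Lib.helper3.Central Cfsg.Agent.Lib.helper3.LocalM Cfsg.Agent.Lib.helper3.IndFun
open Cfsg.Agent.Lib.helper3.Lin
open scoped ComplexConjugate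

universe u

variable {A : Type u} [Group A] [Fintype A] {M : Ideal AlgInt}

/-- The blocks of `K` covered by the block `h`. -/
def coveredBlocks (M : Ideal AlgInt) (K : Subgroup A) [Fintype K] (h : Set (IrrCharacter A)) :
    Set (Set (IrrCharacter K)) :=
  {g | IsPBlock M g ∧ ∃ ξ ∈ h, ∃ θ ∈ g, classInner (fun n : K => (ξ : A → ℂ) n) (θ : K → ℂ) ≠ 0}

theorem coveredBlocks_nonempty [hMp : M.IsPrime] (K : Subgroup A) [Fintype K]
    (h : Set (IrrCharacter A)) (hh : IsPBlock M h) : (coveredBlocks M K h).Nonempty := by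
  have hMtop : M ≠ ⊤ := hMp.ne_top
  obtain ⟨ξ, hξ⟩ := isPBlock_nonempty hh
  have hres : IsCharacter K (fun n : K => (ξ : A → ℂ) n) :=
    isCharacter_restrict (isCharacter_of_isIrrCharacter ξ.2) K
  have hne : (fun n : K => (ξ : A → ℂ) n) ≠ 0 := by
    intro h0
    have := congrFun h0 1
    exact apply_one_ne_zero ξ.2 this
  obtain ⟨θ, hθ⟩ := exists_constituent hres hne
  exact ⟨blockOf M (θ : K → ℂ), ⟨θ, rfl⟩, ξ, hξ, θ, sameBlock_refl hMtop _, hθ⟩

/-- Conjugation by an element of the normal subgroup fixes its irreducible characters. -/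
theorem autIrr_conjNormal_of_mem (K : Subgroup A) [hK : K.Normal] [Fintype K] (k : A)
    (hk : k ∈ K) (θ : IrrCharacter K) : autIrr (MulAut.conjNormal k : MulAut K) θ = θ := by
  apply Subtype.ext
  funext n
  rw [autIrr_apply]
  have hcf := isClassFunction_of_isCharacter (isCharacter_of_isIrrCharacter θ.2)
  have h1 : (MulAut.conjNormal k : MulAut K)⁻¹ n = (⟨k, hk⟩ : K)⁻¹ * n * (⟨k, hk⟩ : K)⁻¹⁻¹ := by
    apply Subtype.ext
    rw [← map_inv, MulAut.conjNormal_apply]
    simp
  rw [h1]
  exact hcf n _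

open Classical in
/-- The number of blocks of a normal subgroup of `p`-power index covered by a block is a power
of `p`. -/
theorem card_coveredBlocks_pow {p : ℕ} [hp : Fact p.Prime] (hM : IsPModular p M)
    (K : Subgroup A) [hK : K.Normal] [Fintype K] (hidx : ∃ k : ℕ, K.index = p ^ k)
    (h : Set (IrrCharacter A)) (hh : IsPBlock M h) :
    ∃ j : ℕ, (coveredBlocks M K h).ncard = p ^ j := by
  haveI hMp := isPrime_of_isPModular hM
  have hMtop : M ≠ ⊤ := hM.2.1.ne_top
  letI act : MulAction A (Set (IrrCharacter K)) :=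
    { smul := fun a S => autIrr (MulAut.conjNormal a : MulAut K) '' S
      one_smul := fun S => by
        show autIrr (MulAut.conjNormal (1 : A) : MulAut K) '' S = S
        rw [map_one]
        have : autIrr (1 : MulAut K) = id := by
          funext θ
          exact autIrr_one θ
        rw [this, Set.image_id]
      mul_smul := fun u v S => by
        show autIrr (MulAut.conjNormal (u * v) : MulAut K) '' S
          = autIrr (MulAut.conjNormal u : MulAut K) ''
            (autIrr (MulAut.conjNormal v : MulAut K) '' S)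
        rw [map_mul, Set.image_image]
        apply Set.image_congr
        intro θ _
        exact autIrr_mul _ _ θ }
  have hsmul : ∀ (a : A) (S : Set (IrrCharacter K)),
      a • S = autIrr (MulAut.conjNormal a : MulAut K) '' S := fun _ _ => rfl
  obtain ⟨g₀, hg₀b, ξ₀, hξ₀, θ₀, hθ₀, hov₀⟩ := coveredBlocks_nonempty K h hh
  have horb : coveredBlocks M K h = MulAction.orbit A g₀ := by
    ext g
    constructor
    · rintro ⟨hgb, ξ, hξ, θ, hθ, hov⟩
      obtain ⟨y, θ', hθ', hconj⟩ := Cfsg.Agent.S0964.result p M hM K h hh g₀ hg₀b ξ₀ hξ₀ θ₀ hθ₀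
        hov₀ ξ hξ θ hov
      rw [MulAction.mem_orbit_iff]
      refine ⟨y⁻¹, ?_⟩
      rw [hsmul]
      apply block_eq_of_mem (isPBlock_image_autIrr _ g₀ hg₀b) hgb θ
      · refine ⟨θ', hθ', ?_⟩
        apply Subtype.ext
        funext n
        rw [autIrr_apply, hconj n]
        apply congrArg
        apply Subtype.ext
        rw [← map_inv, inv_inv, MulAut.conjNormal_apply]
      · exact hθ
    · intro hg
      rw [MulAction.mem_orbit_iff] at hg
      obtain ⟨y, rfl⟩ := hg
      rw [hsmul]
      refine ⟨isPBlock_image_autIrr _ g₀ hg₀b, ξ₀, hξ₀,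
        autIrr (MulAut.conjNormal y : MulAut K) θ₀, ⟨θ₀, hθ₀, rfl⟩, ?_⟩
      have hcf := isClassFunction_of_isCharacter (isCharacter_of_isIrrCharacter ξ₀.2)
      have h1 := classInner_restrict_conjFun K (ξ₀ : A → ℂ) hcf (θ₀ : K → ℂ) y⁻¹
      have h2 : Cfsg.Agent.Lib.helper3.Irr.conjFun K (θ₀ : K → ℂ) y⁻¹
          = (autIrr (MulAut.conjNormal y : MulAut K) θ₀ : K → ℂ) := by
        funext n
        rw [autIrr_apply]
        unfold Cfsg.Agent.Lib.helper3.Irr.conjFun
        apply congrArg
        apply Subtype.ext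
        rw [← map_inv, MulAut.conjNormal_apply]
      rw [h2] at h1
      rw [h1]
      exact hov₀
  rw [horb, ← MulAction.index_stabilizer]
  have hle : K ≤ MulAction.stabilizer A g₀ := by
    intro k hk
    rw [MulAction.mem_stabilizer_iff, hsmul]
    conv_rhs => rw [← Set.image_id g₀]
    apply Set.image_congr
    intro θ _
    exact autIrr_conjNormal_of_mem K k hk θ
  obtain ⟨k, hk⟩ := hidx
  have hdvd : (MulAction.stabilizer A g₀).index ∣ K.index := Subgroup.index_dvd_of_le hle
  rw [hk] at hdvd
  obtain ⟨j, -, hj⟩ := (Nat.dvd_prime_pow hp.out).mp hdvd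
  exact ⟨j, hj⟩

end Cfsg.Agent.Lib.helper3.Block
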