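import Mathlib
import Cfsg.Agent.Lib.helper3.SP27

/-!
# Nilpotent blocks and normal subgroups of `p`-power index: from the subgroup to the group
-/

set_option autoImplicit false
set_option linter.style.haveILetI false
set_option linter.unusedSectionVars false

namespace Cfsg.Agent.Lib.helper3.Block

open Cfsg Module Cfsg.Agent.Lib.helper3.CharBasic Cfsg.Agent.Lib.helper3.Irr
open Cfsg.Agent.Lib.helper3.Central Cfsg.Agent.Lib.helper3.LocalM Cfsg.Agent.Lib.helper3.IndFun
open Cfsg.Agent.Lib.helper3.Lin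
open scoped ComplexConjugate

universe u

variable {G : Type u} [Group G] [Fintype G] {M : Ideal AlgInt}

set_option maxHeartbeats 1600000 in
open Classical in
/-- If `c` is nilpotent, an element of prime power order prime to `p` stabilizing a Brauer pair
`(R, h)` of the block of `G` with the idempotent of `c`, where `R ≤ N`, centralizes `R`. -/
theorem mem_centralizer_of_nilpotent_under {p q a : ℕ} [hp : Fact p.Prime] [hq : Fact q.Prime]
    (hqp : q ≠ p) (hM : IsPModular p M)
    (N : Subgroup G) [hN : N.Normal] (hidx : ∃ k : ℕ, N.index = p ^ k)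
    (c : Set (IrrCharacter N)) (hc : IsPBlock M c)
    (B : Set (IrrCharacter G)) (hB : IsPBlock M B)
    (hBc : ∀ g : G, blockCoeff B g = subgroupBlockCoeff N c g)
    (hnil : IsNilpotentBlock p M c)
    (R' : Subgroup ↥N)
    (h : Set (IrrCharacter ↥(Subgroup.centralizer ((R'.map N.subtype : Subgroup G) : Set G))))
    (hpair : IsBrauerPairOf p M B (R'.map N.subtype) h) (t' : ↥N)
    (ht' : t' ∈ Subgroup.normalizer (R' : Set ↥N))
    (hst : StabilizesBlock (Subgroup.centralizer ((R'.map N.subtype : Subgroup G) : Set G)) h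
      (t' : G))
    (hord : t' ^ (q ^ a) = 1) : t' ∈ Subgroup.centralizer (R' : Set ↥N) := by
  haveI : Fintype N := Fintype.ofFinite _
  haveI hMp := isPrime_of_isPModular hM
  have hMtop : M ≠ ⊤ := hM.2.1.ne_top
  haveI : Fintype ↥(Subgroup.centralizer ((R'.map N.subtype : Subgroup G) : Set G)) :=
    Fintype.ofFinite _
  haveI : Fintype ↥(N.subgroupOf
    (Subgroup.centralizer ((R'.map N.subtype : Subgroup G) : Set G))) := Fintype.ofFinite _
  haveI : Fintype ↥(Subgroup.centralizer (R' : Set ↥N)) := Fintype.ofFinite _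
  obtain ⟨⟨hRp, hh⟩, -, hω⟩ := hpair
  have hidxK := index_subgroupOf_pow N hidx
    (Subgroup.centralizer ((R'.map N.subtype : Subgroup G) : Set G))
  have htN : (t' : G) ∈ Subgroup.normalizer ((R'.map N.subtype : Subgroup G) : Set G) :=
    (coe_mem_normalizer_map_iff N R' t').mp ht'
  obtain ⟨n, hn⟩ : ∃ n : ↥(Subgroup.normalizer ((R'.map N.subtype : Subgroup G) : Set G)),
      n = ⟨(t' : G), htN⟩ := ⟨_, rfl⟩
  have hnpow : n ^ (q ^ a) = 1 := by
    apply Subtype.ext
    rw [Subgroup.coe_pow, hn]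
    show (t' : G) ^ (q ^ a) = 1
    rw [← Subgroup.coe_pow, hord]
    rfl
  -- `t` fixes `h`
  have hfixh : autIrr ((Subgroup.centralizer
      ((R'.map N.subtype : Subgroup G) : Set G)).normalizerMonoidHom
        ⟨(n : G), normalizer_le_normalizer_centralizer' _ n.2⟩) '' h = h := by
    have h1 := stabilizesBlock_iff
      (Subgroup.centralizer ((R'.map N.subtype : Subgroup G) : Set G)) h hh
      ⟨(n : G), normalizer_le_normalizer_centralizer' _ n.2⟩
    rw [← h1, hn]
    exact hst
  -- the set of covered blocks and the action of `t` on it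
  obtain ⟨X, hX⟩ : ∃ X, X = coveredBlocks M (N.subgroupOf
    (Subgroup.centralizer ((R'.map N.subtype : Subgroup G) : Set G))) h := ⟨_, rfl⟩
  have hmapX : ∀ g ∈ X, autIrr (conjK N R' n) '' g ∈ X := by
    intro g hg
    rw [hX] at hg ⊢
    obtain ⟨hgb, ξ, hξ, θ, hθ, hov⟩ := hg
    refine ⟨isPBlock_image_autIrr _ g hgb, _, ?_, autIrr (conjK N R' n) θ, ⟨θ, hθ, rfl⟩,
      irrOver_autIrr_conjK N R' n ξ θ hov⟩
    rw [← hfixh]
    exact ⟨ξ, hξ, rfl⟩
  obtain ⟨σ, hσ⟩ : ∃ σ : Function.End ↥X,
      σ = fun g => ⟨autIrr (conjK N R' n) '' g.1, hmapX g.1 g.2⟩ := ⟨_, rfl⟩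
  have hσpow : ∀ (m : ℕ) (g : ↥X), ((σ ^ m) g).1 = autIrr ((conjK N R' n) ^ m) '' g.1 := by
    intro m
    induction m with
    | zero =>
      intro g
      rw [pow_zero, pow_zero]
      have : autIrr (1 : MulAut ↥(N.subgroupOf
          (Subgroup.centralizer ((R'.map N.subtype : Subgroup G) : Set G)))) = id := by
        funext θ
        exact autIrr_one θ
      rw [this, Set.image_id]
      rfl
    | succ m ih =>
      intro g
      rw [pow_succ, pow_succ]
      have h1 : ((σ ^ m * σ) g) = (σ ^ m) (σ g) := rfl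
      rw [h1, ih, hσ]
      show autIrr (conjK N R' n ^ m) '' (autIrr (conjK N R' n) '' g.1) = _
      rw [Set.image_image]
      apply Set.image_congr
      intro θ _
      exact (autIrr_mul _ _ θ).symm
  have hσone : σ ^ (q ^ a) = 1 := by
    funext g
    apply Subtype.ext
    rw [hσpow, ← map_pow, hnpow, map_one]
    have : autIrr (1 : MulAut ↥(N.subgroupOf
        (Subgroup.centralizer ((R'.map N.subtype : Subgroup G) : Set G)))) = id := by
      funext θ
      exact autIrr_one θ
    rw [this, Set.image_id]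
    rfl
  -- a fixed point
  haveI : Fintype ↥X := Fintype.ofFinite _
  obtain ⟨j, hj⟩ := card_coveredBlocks_pow hM (N.subgroupOf
    (Subgroup.centralizer ((R'.map N.subtype : Subgroup G) : Set G))) hidxK h hh
  rw [← hX] at hj
  have hcardX : Fintype.card ↥X = p ^ j := by
    rw [← Nat.card_eq_fintype_card, Nat.card_coe_set_eq, hj]
  obtain ⟨g₁, hg₁⟩ : ∃ g : ↥X, σ g = g := by
    by_contra hno
    push Not at hno
    have hmod := Equiv.Perm.card_fixedPoints_modEq (f := σ) (p := q) (n := a) hσone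
    have hempty : IsEmpty ↥(Function.fixedPoints σ) := ⟨fun x => hno x.1 x.2⟩
    have hzero : ∀ (inst : Fintype ↥(Function.fixedPoints σ)),
        @Fintype.card _ inst = 0 := by
      intro inst
      exact @Fintype.card_eq_zero _ inst hempty
    rw [hzero, hcardX] at hmod
    have hdvd : q ∣ p ^ j := (Nat.modEq_zero_iff_dvd).mp hmod
    have := (Nat.prime_dvd_prime_iff_eq hq.out hp.out).mp (hq.out.dvd_of_dvd_pow hdvd)
    exact hqp this
  have hg₁fix : autIrr (conjK N R' n) '' g₁.1 = g₁.1 := by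
    have := congrArg Subtype.val hg₁
    rw [hσ] at this
    exact this
  obtain ⟨hg₁b, ξ₁, hξ₁, θ₁, hθ₁, hov₁⟩ : g₁.1 ∈ coveredBlocks M (N.subgroupOf
      (Subgroup.centralizer ((R'.map N.subtype : Subgroup G) : Set G))) h := by
    rw [← hX]
    exact g₁.2
  -- the Brauer pair of `c`
  have hloc : ∀ x, MemLocalRing M (blockCoeff c x) := fun x => osima hM c hc x
  have hconjc : ∀ x y : ↥N, blockCoeff c (y * x * y⁻¹) = blockCoeff c x :=
    fun x y => blockCoeff_conj' c x y
  have hconj : ∀ x y : G, blockCoeff B (y * x * y⁻¹) = blockCoeff B x :=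
    fun x y => blockCoeff_conj' B x y
  have hsupp : ∀ x, x ∉ N → blockCoeff B x = 0 := by
    intro x hx
    rw [hBc, subgroupBlockCoeff_of_notMem N c hx]
  have hres : (fun n : ↥N => blockCoeff B (n : G)) = blockCoeff c := by
    funext n
    rw [hBc, subgroupBlockCoeff_of_mem N c n.2]
  have hR'p : IsPGroup p R' := by
    have h1 := hRp.comap_of_injective N.subtype N.subtype_injective
    rwa [Subgroup.comap_map_eq_self_of_injective N.subtype_injective] at h1
  have hg'b : IsPBlock M (irrN N R' '' g₁.1) := isPBlock_image_irrN N R' g₁.1 hg₁b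
  have hpairc : IsBrauerPairOf p M c R' (irrN N R' '' g₁.1) := by
    refine ⟨⟨hR'p, hg'b⟩, hc, ?_⟩
    have hheq : irrN N R' '' g₁.1 = blockOf M (irrN N R' θ₁ :
        ↥(Subgroup.centralizer (R' : Set ↥N)) → ℂ) :=
      block_eq_of_mem hg'b ⟨irrN N R' θ₁, rfl⟩ (irrN N R' θ₁) ⟨θ₁, hθ₁, rfl⟩
        (sameBlock_refl hMtop _)
    rw [hheq]
    rw [forall_blockOf_brauerOmega_iff hM R' (blockCoeff c) hloc
      (fun y _ x => hconjc x y) (irrN N R' θ₁)]
    rw [← hres, ← brauerOmega_map_eq_of_over N R' (blockCoeff B) hconj hsupp ξ₁ θ₁ hov₁]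
    exact hω ξ₁ hξ₁
  have hstabc : StabilizesBlock (Subgroup.centralizer (R' : Set ↥N)) (irrN N R' '' g₁.1) t' := by
    apply stabilizesBlock_image_irrN N R' t' ht' g₁.1
    intro θ hθ
    have h1 : autIrr (conjK N R' n) θ ∈ autIrr (conjK N R' n) '' g₁.1 := ⟨θ, hθ, rfl⟩
    rw [hg₁fix, hn] at h1
    exact h1
  have hreg : IsPRegular p t' := by
    unfold IsPRegular
    intro hdvd
    have h1 : orderOf t' ∣ q ^ a := orderOf_dvd_of_pow_eq_one hord
    have h2 : p ∣ q ^ a := dvd_trans hdvd h1
    have := (Nat.prime_dvd_prime_iff_eq hp.out hq.out).mp (hp.out.dvd_of_dvd_pow h2)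
    exact hqp this.symm
  exact hnil.2 R' (irrN N R' '' g₁.1) hpairc t' ht' hstabc hreg

end Cfsg.Agent.Lib.helper3.Block
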