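import Mathlib

/-!
# Small group-theoretic lemmas on coprime orders
-/

set_option autoImplicit false
set_option linter.style.haveILetI false
set_option linter.unusedSectionVars false

namespace Cfsg.Agent.Lib.helper3.Block

universe u

variable {G : Type u} [Group G]

/-- Reduction of a statement on `p`-regular elements to elements of prime power order. -/
theorem forall_mem_of_prime_pow [Finite G] (p : ℕ) (P : G → Prop)
    (hpow : ∀ (x : G) (k : ℕ), P x → P (x ^ k)) (H : Subgroup G)
    (hkey : ∀ (q a : ℕ), q.Prime → q ≠ p → ∀ x, P x → x ^ (q ^ a) = 1 → x ∈ H) :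
    ∀ x, P x → ¬ p ∣ orderOf x → x ∈ H := by
  have main : ∀ (n : ℕ) (x : G), orderOf x = n → P x → ¬ p ∣ n → x ∈ H := by
    intro n
    induction n using Nat.strong_induction_on with
    | _ n ih =>
      intro x hxn hPx hpn
      have hnpos : 0 < n := by
        rw [← hxn]
        exact orderOf_pos x
      by_cases hn1 : n = 1
      · rw [hn1, orderOf_eq_one_iff] at hxn
        rw [hxn]
        exact H.one_mem
      obtain ⟨q, hq, hqn⟩ := Nat.exists_prime_and_dvd hn1
      have hqp : q ≠ p := by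
        rintro rfl
        exact hpn hqn
      obtain ⟨a, ha⟩ : ∃ a, a = n.factorization q := ⟨_, rfl⟩
      obtain ⟨m, hm⟩ : ∃ m, m = n / q ^ a := ⟨_, rfl⟩
      have hdvd : q ^ a ∣ n := by
        rw [ha]
        exact Nat.ordProj_dvd n q
      have hnm : q ^ a * m = n := by
        rw [hm]
        exact Nat.mul_div_cancel' hdvd
      have hmpos : 0 < m := by
        rcases Nat.eq_zero_or_pos m with h0 | h0
        · rw [h0, mul_zero] at hnm
          omega
        · exact h0
      have hapos : 0 < a := by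
        rw [ha]
        exact hq.factorization_pos_of_dvd hnpos.ne' hqn
      have hcop : Nat.Coprime m (q ^ a) := by
        rw [hm, ha]
        exact (Nat.coprime_ordCompl hq hnpos.ne').symm.pow_right _ |>.symm.symm
      -- the two parts
      have h1 : x ^ m ∈ H := by
        apply hkey q a hq hqp (x ^ m) (hpow x m hPx)
        rw [← pow_mul, mul_comm, hnm, ← hxn]
        exact pow_orderOf_eq_one x
      have h2 : x ^ (q ^ a) ∈ H := by
        have hord : orderOf (x ^ (q ^ a)) ∣ m := by
          apply orderOf_dvd_of_pow_eq_one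
          rw [← pow_mul, hnm, ← hxn]
          exact pow_orderOf_eq_one x
        have hle : orderOf (x ^ (q ^ a)) ≤ m := Nat.le_of_dvd hmpos hord
        have hlt : m < n := by
          rw [← hnm]
          have : 1 < q ^ a := Nat.one_lt_pow hapos.ne' hq.one_lt
          nlinarith
        apply ih (orderOf (x ^ (q ^ a))) (lt_of_le_of_lt hle hlt) (x ^ (q ^ a)) rfl
          (hpow x _ hPx)
        intro hp
        apply hpn
        rw [← hxn]
        exact dvd_trans hp (orderOf_pow_dvd _)
      -- Bezout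
      obtain ⟨u, v, huv⟩ := (Nat.isCoprime_iff_coprime.mpr hcop)
      have hx : x = (x ^ m) ^ u * (x ^ (q ^ a)) ^ v := by
        rw [← zpow_natCast x m, ← zpow_natCast x (q ^ a), ← zpow_mul, ← zpow_mul, ← zpow_add]
        have : (m : ℤ) * u + ((q ^ a : ℕ) : ℤ) * v = 1 := by
          rw [← huv]
          ring
        rw [this, zpow_one]
      rw [hx]
      exact H.mul_mem (H.zpow_mem h1 u) (H.zpow_mem h2 v)
  intro x hPx hpx
  exact main (orderOf x) x rfl hPx hpx

/-- An element of order prime to the index of a normal subgroup lies in it. -/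
theorem mem_of_pow_eq_one_of_coprime_index (N : Subgroup G) [hN : N.Normal] (x : G) (k : ℕ)
    (hx : x ^ k = 1) (hcop : Nat.Coprime k N.index) : x ∈ N := by
  obtain ⟨u, v, huv⟩ := (Nat.isCoprime_iff_coprime.mpr hcop)
  have h1 : x ^ N.index ∈ N := N.pow_index_mem x
  have hx' : x = (x ^ k) ^ u * (x ^ N.index) ^ v := by
    rw [← zpow_natCast x k, ← zpow_natCast x N.index, ← zpow_mul, ← zpow_mul, ← zpow_add]
    have : (k : ℤ) * u + (N.index : ℤ) * v = 1 := by
      rw [← huv]
      ring
    rw [this, zpow_one]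
  rw [hx', hx, one_zpow, one_mul]
  exact N.zpow_mem h1 v

/-- An element of order prime to `p` that centralizes `R` and acts trivially on `Q / R`, for a
`p`-group `Q`, centralizes `Q`. -/
theorem mem_centralizer_of_commutator_mem {p : ℕ} [hp : Fact p.Prime] (Q R : Subgroup G)
    (hQ : IsPGroup p Q) (hRQ : R ≤ Q) (x : G) (k : ℕ) (hxk : x ^ k = 1)
    (hcop : Nat.Coprime k p)
    (hxR : x ∈ Subgroup.centralizer (R : Set G))
    (hcomm : ∀ u ∈ Q, x * u * x⁻¹ * u⁻¹ ∈ R) : x ∈ Subgroup.centralizer (Q : Set G) := by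
  rw [Subgroup.mem_centralizer_iff]
  intro u hu
  obtain ⟨r, hr⟩ : ∃ r, r = x * u * x⁻¹ * u⁻¹ := ⟨_, rfl⟩
  have hrR : r ∈ R := by
    rw [hr]
    exact hcomm u hu
  have hxr : r * x = x * r := (Subgroup.mem_centralizer_iff.mp hxR) r hrR
  have hxrm : ∀ m : ℕ, r ^ m * x = x * r ^ m := by
    intro m
    induction m with
    | zero => simp
    | succ m ih =>
      rw [pow_succ, mul_assoc, hxr, ← mul_assoc, ih, mul_assoc]
  have hpow : ∀ m : ℕ, x ^ m * u * (x ^ m)⁻¹ = r ^ m * u := by
    intro m
    induction m with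
    | zero => simp
    | succ m ih =>
      have e1 : x ^ (m + 1) * u * (x ^ (m + 1))⁻¹ = x * (x ^ m * u * (x ^ m)⁻¹) * x⁻¹ := by
        rw [pow_succ']
        group
      rw [e1, ih]
      have e2 : x * (r ^ m * u) * x⁻¹ = (x * r ^ m) * (u * x⁻¹) := by group
      rw [e2, ← hxrm m]
      have e3 : r ^ m * x * (u * x⁻¹) = r ^ m * (x * u * x⁻¹ * u⁻¹) * u := by group
      rw [e3, ← hr, pow_succ]
  have hrk : r ^ k = 1 := by
    have h1 := hpow k
    rw [hxk, inv_one, mul_one, one_mul] at h1
    have h2 : r ^ k * u = 1 * u := by rw [one_mul]; exact h1.symm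
    exact mul_right_cancel h2
  obtain ⟨b, hb⟩ := (IsPGroup.iff_orderOf.mp hQ) ⟨r, hRQ hrR⟩
  have hrp : r ^ (p ^ b) = 1 := by
    have h1 := pow_orderOf_eq_one (⟨r, hRQ hrR⟩ : ↥Q)
    rw [hb] at h1
    have h2 := congrArg (fun z : ↥Q => (z : G)) h1
    exact h2
  have hr1 : r = 1 := by
    have h1 : orderOf r ∣ k := orderOf_dvd_of_pow_eq_one hrk
    have h2 : orderOf r ∣ p ^ b := orderOf_dvd_of_pow_eq_one hrp
    have h3 : orderOf r ∣ Nat.gcd k (p ^ b) := Nat.dvd_gcd h1 h2
    have h4 : Nat.gcd k (p ^ b) = 1 := Nat.Coprime.pow_right b hcop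
    rw [h4, Nat.dvd_one, orderOf_eq_one_iff] at h3
    exact h3
  rw [hr1] at hr
  have : x * u = u * x := by
    have h1 : x * u * x⁻¹ * u⁻¹ * (u * x) = 1 * (u * x) := by rw [← hr]
    rw [one_mul] at h1
    rw [← h1]
    group
  exact this.symm

end Cfsg.Agent.Lib.helper3.Block
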