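import Mathlib
import Cfsg.Prelude.Def_Blocks
import Cfsg.Agent.Lib.helper3.SecMain12
import Cfsg.Agent.Lib.helper3.HeightZero1
import Cfsg.Agent.Lib.helper3.RankOne2

/-!
# Sums over the intersection of a `p`-block and a `q`-block
-/

set_option autoImplicit false
set_option linter.style.haveILetI false
set_option linter.unusedSectionVars false
set_option maxHeartbeats 1000000

namespace Cfsg.Agent.Lib.helper3.Block

open Cfsg Module Cfsg.Agent.Lib.helper3.CharBasic Cfsg.Agent.Lib.helper3.Irr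
open Cfsg.Agent.Lib.helper3.Central Cfsg.Agent.Lib.helper3.LocalM Cfsg.Agent.Lib.helper3.IndFun
open Cfsg.Agent.Lib.helper3.Lin
open scoped ComplexConjugate

variable {G : Type*} [Group G] [Fintype G]

/-- The degree of an algebraic integer combination of irreducible characters vanishing at all
`q`-singular elements is divisible by the full power of `q` dividing `|G|`. -/
theorem exists_algInt_of_comb_vanish {q : ℕ} [hq : Fact q.Prime] (z : IrrCharacter G → ℂ)
    (hz : ∀ ξ, IsIntegral ℤ (z ξ))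
    (hvan : ∀ y : G, q ∣ orderOf y → ∑ ξ : IrrCharacter G, z ξ * (ξ : G → ℂ) y = 0) :
    ∃ ω : AlgInt, ∑ ξ : IrrCharacter G, z ξ * (ξ : G → ℂ) 1
      = (q : ℂ) ^ (Nat.card G).factorization q * (ω : ℂ) := by
  classical
  obtain ⟨S⟩ : Nonempty (Sylow q G) := inferInstance
  letI : Fintype (S : Subgroup G) := Fintype.ofFinite _
  have hSC : (Nat.card (S : Subgroup G) : ℂ) ≠ 0 := card_ne_zero_complex _
  have hm : ∀ ξ : IrrCharacter G, ∃ m : ℕ,
      ∑ s : (S : Subgroup G), (ξ : G → ℂ) (s : G) = (Nat.card (S : Subgroup G) : ℂ) * (m : ℂ) := by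
    intro ξ
    have hξS := isCharacter_restrict (isCharacter_of_isIrrCharacter ξ.2) (S : Subgroup G)
    obtain ⟨n, hn⟩ := exists_nat_classInner_of_isCharacter hξS
      (⟨fun _ => (1 : ℂ), isIrrCharacter_one⟩ : IrrCharacter (S : Subgroup G))
    rw [classInner_apply] at hn
    refine ⟨n, ?_⟩
    rw [← hn]
    field_simp
    apply Finset.sum_congr rfl
    intro s _
    simp
  choose m hm using hm
  have hsum : ∑ s : (S : Subgroup G), ∑ ξ : IrrCharacter G, z ξ * (ξ : G → ℂ) (s : G)
      = ∑ ξ : IrrCharacter G, z ξ * (ξ : G → ℂ) 1 := by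
    rw [Finset.sum_eq_single_of_mem (1 : (S : Subgroup G)) (Finset.mem_univ _)]
    · rfl
    · intro s _ hs
      apply hvan
      obtain ⟨k, hk⟩ := (IsPGroup.iff_orderOf.mp S.isPGroup') s
      rw [Subgroup.orderOf_coe, hk]
      rcases Nat.eq_zero_or_pos k with h0 | h0
      · exfalso
        rw [h0, pow_zero] at hk
        exact hs (orderOf_eq_one_iff.mp hk)
      · exact dvd_pow_self q h0.ne'
  rw [Finset.sum_comm] at hsum
  have h1 : ∀ ξ : IrrCharacter G, ∑ s : (S : Subgroup G), z ξ * (ξ : G → ℂ) (s : G)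
      = (Nat.card (S : Subgroup G) : ℂ) * (z ξ * (m ξ : ℂ)) := by
    intro ξ
    rw [← Finset.mul_sum, hm ξ]
    ring
  rw [Finset.sum_congr rfl (fun ξ _ => h1 ξ), ← Finset.mul_sum] at hsum
  have hcard : Nat.card (S : Subgroup G) = q ^ (Nat.card G).factorization q :=
    Sylow.card_eq_multiplicity S
  have hint : IsIntegral ℤ (∑ ξ : IrrCharacter G, z ξ * (m ξ : ℂ)) :=
    IsIntegral.sum _ (fun ξ _ => (hz ξ).mul (isIntegral_natCast (m ξ)))
  refine ⟨⟨_, hint⟩, ?_⟩
  rw [← hsum, hcard]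
  push_cast
  rfl

theorem isIntegral_natCast' (n : ℕ) : IsIntegral ℤ (n : ℂ) := by
  have : (n : ℂ) = ((n : ℤ) : ℂ) := by push_cast; rfl
  rw [this]
  exact isIntegral_algebraMap

variable {Mp Mq : Ideal AlgInt}

open Classical in
/-- If `G` has no element of order `pq`, the sum of `χ(1) χ(y)` over the intersection of a
`p`-block and a `q`-block is divisible by the `q`-part of `|G|` for `p`-singular `y`. -/
theorem exists_algInt_sum_inter {p q : ℕ} [hp : Fact p.Prime] [hq : Fact q.Prime] (hpq : p ≠ q)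
    (hMp : IsPModular p Mp) (hMq : IsPModular q Mq) (hno : ∀ g : G, orderOf g ≠ p * q)
    (Bp : Set (IrrCharacter G)) (hBp : IsPBlock Mp Bp) (Bq : Set (IrrCharacter G))
    (hBq : IsPBlock Mq Bq) (y : G) (hy : p ∣ orderOf y)
    (hsec : ∀ (ϑ : G → ℂ), IsClassFunction G ϑ → ∀ x : G, (∃ k : ℕ, orderOf x = q ^ k) →
      (∀ u z : G, IsPPart q u z → IsConj x z → ϑ u = 0) →
      ∀ u z : G, IsPPart q u z → IsConj x z → blockPart Bq ϑ u = 0) :
    ∃ ω : AlgInt, ∑ χ : IrrCharacter G, (if χ ∈ Bp ∩ Bq then (1 : ℂ) else 0)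
        * ((charDegree (χ : G → ℂ) : ℂ) * (χ : G → ℂ) y)
      = (q : ℂ) ^ (Nat.card G).factorization q * (ω : ℂ) := by
  have hG0 : (Nat.card G : ℂ) ≠ 0 := card_ne_zero_complex G
  -- `q`-singular elements are `p`-regular
  have hreg : ∀ u : G, q ∣ orderOf u → ¬ p ∣ orderOf u := by
    intro u hqu hpu
    have hcop : Nat.Coprime p q := (Nat.coprime_primes hp.out hq.out).mpr hpq
    have hdvd : p * q ∣ orderOf u := hcop.mul_dvd_of_dvd_of_dvd hpu hqu
    have hpos : 0 < orderOf u := orderOf_pos u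
    obtain ⟨n, hn⟩ := hdvd
    have hn0 : n ≠ 0 := by
      rintro rfl
      rw [mul_zero] at hn
      omega
    apply hno (u ^ n)
    rw [orderOf_pow_of_dvd hn0 ⟨p * q, by rw [hn, mul_comm]⟩, hn, Nat.mul_div_cancel _
      (Nat.pos_of_ne_zero hn0)]
  -- the `p`-part of `y` is nontrivial
  obtain ⟨xy, hxy⟩ := exists_isPPart p hp.out y
  have hxy1 : ¬ IsConj xy 1 := by
    intro hc
    have h1 : xy = 1 := isConj_one_left.mp hc
    obtain ⟨y', hy', -, -, hreg'⟩ := hxy
    rw [h1, one_mul] at hy'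
    rw [hy'] at hreg'
    exact hreg' hy
  -- the auxiliary class function
  obtain ⟨ϑ, hϑ⟩ : ∃ ϑ : G → ℂ, ϑ = fun g => ∑ χ : IrrCharacter G,
      (if χ ∈ Bp then (1 : ℂ) else 0) * ((χ : G → ℂ) y * (χ : G → ℂ) g) := ⟨_, rfl⟩
  have hϑapp : ∀ g, ϑ g = ∑ χ : IrrCharacter G,
      (if χ ∈ Bp then (1 : ℂ) else 0) * ((χ : G → ℂ) y * (χ : G → ℂ) g) := by
    intro g
    rw [hϑ]
  have hϑcf : IsClassFunction G ϑ := by
    intro g h
    rw [hϑapp, hϑapp]
    apply Finset.sum_congr rfl
    intro χ _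
    rw [isClassFunction_of_isCharacter (isCharacter_of_isIrrCharacter χ.2) g h]
  have hϑreg : ∀ u : G, ¬ p ∣ orderOf u → ϑ u = 0 := by
    intro u hu
    rw [hϑapp]
    have h1 : IsPPart p u⁻¹ 1 :=
      ⟨u⁻¹, one_mul _, Commute.one_left _, ⟨0, by rw [orderOf_one, pow_zero]⟩,
        by rw [orderOf_inv]; exact hu⟩
    have := block_orthogonality hMp Bp hBp y u⁻¹ xy 1 hxy h1 hxy1
    rw [inv_inv] at this
    exact this
  have hinner : ∀ χ' : IrrCharacter G, classInner ϑ (χ' : G → ℂ)
      = (if χ' ∈ Bp then (1 : ℂ) else 0) * (χ' : G → ℂ) y := by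
    intro χ'
    rw [classInner_apply]
    simp_rw [hϑapp, Finset.sum_mul]
    rw [Finset.sum_comm, Finset.mul_sum]
    have h1 : ∀ χ : IrrCharacter G, (Nat.card G : ℂ)⁻¹ * ∑ g : G,
        (if χ ∈ Bp then (1 : ℂ) else 0) * ((χ : G → ℂ) y * (χ : G → ℂ) g)
          * conj ((χ' : G → ℂ) g)
        = (if χ ∈ Bp then (1 : ℂ) else 0) * (χ : G → ℂ) y
          * classInner (χ : G → ℂ) (χ' : G → ℂ) := by
      intro χ
      rw [classInner_apply, Finset.mul_sum, Finset.mul_sum, Finset.mul_sum]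
      apply Finset.sum_congr rfl
      intro g _
      ring
    rw [Finset.sum_congr rfl (fun χ _ => h1 χ)]
    rw [Finset.sum_eq_single χ']
    · rw [irr_classInner_eq χ'.2 χ'.2, if_pos rfl, mul_one]
    · intro χ _ hne
      rw [irr_classInner_eq χ.2 χ'.2, if_neg (fun h => hne (Subtype.ext h)), mul_zero]
    · intro h'
      exact absurd (Finset.mem_univ _) h'
  -- apply the divisibility lemma
  obtain ⟨ω, hω⟩ := exists_algInt_of_comb_vanish (q := q)
    (fun χ : IrrCharacter G => (if χ ∈ Bp ∩ Bq then (1 : ℂ) else 0) * (χ : G → ℂ) y)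
    (by
      intro χ
      have hint := isIntegral_of_isCharacter (isCharacter_of_isIrrCharacter χ.2) y
      split_ifs
      · rw [one_mul]; exact hint
      · rw [zero_mul]; exact isIntegral_zero)
    (by
      intro u hu
      obtain ⟨zu, hzu⟩ := exists_isPPart q hq.out u
      have hzu' := hzu
      obtain ⟨yu, hzy, hcomm, ⟨k, hk⟩, hyreg⟩ := hzu'
      have h1 := hsec ϑ hϑcf zu ⟨k, hk⟩ (by
        intro u' z' hu' hc
        apply hϑreg
        apply hreg
        -- `u'` is `q`-singular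
        obtain ⟨y', hzy', hcomm', ⟨k', hk'⟩, hyreg'⟩ := hu'
        have hk0 : k ≠ 0 := by
          rintro rfl
          rw [pow_zero, orderOf_eq_one_iff] at hk
          rw [hk, one_mul] at hzy
          rw [hzy] at hyreg
          exact hyreg hu
        have hord : orderOf z' = orderOf zu := by
          obtain ⟨c, hc'⟩ := isConj_iff.mp hc
          rw [← hc']
          have : c * zu * c⁻¹ = MulAut.conj c zu := rfl
          rw [this, MulEquiv.orderOf_eq]
        have hqz : q ∣ orderOf z' := by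
          rw [hord, hk]
          exact dvd_pow_self q hk0
        have hcop : Nat.Coprime (orderOf z') (orderOf y') := by
          rw [hk']
          exact Nat.Coprime.pow_left k' ((Nat.Prime.coprime_iff_not_dvd hq.out).mpr hyreg')
        rw [← hzy', hcomm'.orderOf_mul_eq_mul_orderOf_of_coprime hcop]
        exact dvd_mul_of_dvd_left hqz _) u zu hzu (IsConj.refl zu)
      unfold blockPart at h1
      have h2 : ∑ᶠ χ ∈ Bq, classInner ϑ (χ : G → ℂ) * (χ : G → ℂ) u = 0 := by
        convert h1 using 6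
      rw [finsum_mem_set_eq_sum_ite] at h2
      refine Eq.trans ?_ h2
      apply Finset.sum_congr rfl
      intro χ _
      rw [hinner]
      by_cases h1 : χ ∈ Bp <;> by_cases h2 : χ ∈ Bq <;> simp [Set.mem_inter_iff, h1, h2])
  refine ⟨ω, ?_⟩
  rw [← hω]
  apply Finset.sum_congr rfl
  intro χ _
  rw [apply_one_eq_charDegree]
  ring

end Cfsg.Agent.Lib.helper3.Block
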