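import Mathlib
import Cfsg.Agent.Lib.helper3.PRes1

set_option autoImplicit false
set_option linter.style.haveILetI false
set_option linter.unusedSectionVars false

/-!
# Weighted orbit counting for a self-map of prime power order
-/

namespace Cfsg.Agent.Lib.helper3.SigBlock

open Cfsg.Agent.Lib.helper3.PRes

/-- If `f` has `p`-power order, `w` is `f`-invariant and the weight of every fixed point of `f` is
divisible by `p`, then the total weight is divisible by `p`. -/
theorem dvd_sum_of_iterate {X : Type*} [Fintype X] (p : ℕ) [hp : Fact p.Prime] (f : X → X) (a : ℕ)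
    (hf : ∀ x, f^[p ^ a] x = x) (w : X → ℤ) (hw : ∀ x, w (f x) = w x)
    (hfix : ∀ x, f x = x → (p : ℤ) ∣ w x) : (p : ℤ) ∣ ∑ x, w x := by
  classical
  have hN : 0 < p ^ a := pow_pos hp.out.pos a
  obtain ⟨N, hNdef⟩ : ∃ N : ℕ, N = p ^ a := ⟨_, rfl⟩
  rw [← hNdef] at hf hN
  let σ : Equiv.Perm X :=
    { toFun := f
      invFun := f^[N - 1]
      left_inv := by
        intro x
        have : f^[N - 1] (f x) = f^[N - 1 + 1] x := (Function.iterate_succ_apply f (N - 1) x).symm
        rw [this, Nat.sub_add_cancel hN, hf]
      right_inv := by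
        intro x
        have : f (f^[N - 1] x) = f^[N - 1 + 1] x := (Function.iterate_succ_apply' f (N - 1) x).symm
        rw [this, Nat.sub_add_cancel hN, hf] }
  have hσf : ∀ x, σ x = f x := fun _ => rfl
  have hσN : σ ^ N = 1 := by
    ext x
    rw [← Equiv.Perm.iterate_eq_pow]
    have : (⇑σ)^[N] = f^[N] := by
      congr 1
    rw [this, hf]
    rfl
  have hP : IsPGroup p (Subgroup.zpowers σ) := by
    intro s
    refine ⟨a, ?_⟩
    obtain ⟨z, hz⟩ := Subgroup.mem_zpowers_iff.mp s.2
    apply Subtype.ext
    rw [Subgroup.coe_pow, ← hz, ← hNdef, ← zpow_natCast, ← zpow_mul, mul_comm, zpow_mul,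
      zpow_natCast, hσN, one_zpow]
    rfl
  -- the invariance of `w` under the group
  have hle : Subgroup.zpowers σ ≤
      { carrier := {τ : Equiv.Perm X | ∀ x, w (τ x) = w x}
        one_mem' := fun x => rfl
        mul_mem' := by
          intro τ τ' h h' x
          show w (τ (τ' x)) = w x
          rw [h, h']
        inv_mem' := by
          intro τ h x
          have := h (τ⁻¹ x)
          have h2 : τ (τ⁻¹ x) = x := by
            rw [← Equiv.Perm.mul_apply, mul_inv_cancel, Equiv.Perm.one_apply]
          rw [h2] at this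
          exact this.symm } := by
    rw [Subgroup.zpowers_le]
    intro x
    exact hw x
  apply dvd_sum_of_orbits (Γ := Subgroup.zpowers σ) p w
  · intro s x
    exact hle s.2 x
  · intro x
    exact hP.card_orbit x
  · intro x hx
    apply hfix
    exact hx ⟨σ, Subgroup.mem_zpowers σ⟩

end Cfsg.Agent.Lib.helper3.SigBlock
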