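import Mathlib
import Cfsg.Prelude.Def_Blocks
import Cfsg.Agent.Lib.helper3.BlockMinMax3
import Cfsg.Agent.Lib.helper3.BlockCover2
import Cfsg.Agent.Lib.helper3.RankOne2

set_option autoImplicit false
set_option linter.style.haveILetI false
set_option linter.unusedSectionVars false

/-!
# Pairing the idempotent coefficients of a set of characters with a function on a subgroup
-/

namespace Cfsg.Agent.Lib.helper3.SigBlock

open Cfsg Module Cfsg.Agent.Lib.helper3.IndFun Cfsg.Agent.Lib.helper3.CharBasic
open Cfsg.Agent.Lib.helper3.Irr Cfsg.Agent.Lib.helper3.Block Cfsg.Agent.Lib.helper3.LocalM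
open scoped ComplexConjugate

universe u

variable {G : Type u} [Group G] [Fintype G] {M : Ideal AlgInt}

open Classical in
/-- Pairing the idempotent coefficients of `S` with a function on a subgroup. -/
theorem sum_blockCoeff_restrict (N : Subgroup G) [Fintype N] (S : Set (IrrCharacter G))
    (A : N → ℂ) :
    ∑ n : N, blockCoeff S (n : G) * A n
      = ((Nat.card N : ℂ) / (Nat.card G : ℂ)) * ∑ ψ : IrrCharacter G,
          (if ψ ∈ S then (1 : ℂ) else 0) * ((ψ : G → ℂ) 1
            * classInner A (fun n : N => (ψ : G → ℂ) n)) := by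
  have hN0 : (Nat.card N : ℂ) ≠ 0 := card_ne_zero_complex N
  have h1 : ∀ n : N, blockCoeff S (n : G) * A n
      = ∑ ψ : IrrCharacter G, (if ψ ∈ S then (1 : ℂ) else 0) * ((ψ : G → ℂ) 1
          * ((Nat.card G : ℂ)⁻¹ * (A n * conj ((ψ : G → ℂ) n)))) := by
    intro n
    unfold blockCoeff
    rw [finsum_mem_eq_sum_filter_irr, Finset.sum_filter, Finset.mul_sum, Finset.sum_mul]
    apply Finset.sum_congr rfl
    intro ψ _
    split_ifs
    · ring
    · ring
  rw [Finset.sum_congr rfl (fun n _ => h1 n), Finset.sum_comm, Finset.mul_sum]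
  apply Finset.sum_congr rfl
  intro ψ _
  rw [← Finset.mul_sum, ← Finset.mul_sum, ← Finset.mul_sum, classInner_apply]
  field_simp

/-- For a union of blocks `S` of `G`, the pairing of its idempotent coefficients with `θ / θ 1`
depends, modulo the local ideal, only on the block of `θ`. -/
theorem memLocalIdeal_pairing_sub {p : ℕ} (hM : IsPModular p M) (N : Subgroup G) [Fintype N]
    (S : Set (IrrCharacter G)) (hS : ∀ θ ∈ S, blockOf M (θ : G → ℂ) ⊆ S)
    (θ θ' : N → ℂ) (hθ : IsClassFunction N θ) (hθ' : IsClassFunction N θ')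
    (hsame : SameBlock M θ θ') :
    MemLocalIdeal M (∑ n : N, blockCoeff S (n : G) * (θ n / θ 1)
      - ∑ n : N, blockCoeff S (n : G) * (θ' n / θ' 1)) := by
  haveI hMp := isPrime_of_isPModular hM
  rw [← Finset.sum_sub_distrib]
  have h1 : ∀ n : N, blockCoeff S (n : G) * (θ n / θ 1) - blockCoeff S (n : G) * (θ' n / θ' 1)
      = blockCoeff S (n : G) * (θ n / θ 1 - θ' n / θ' 1) := by
    intro n
    ring
  rw [Finset.sum_congr rfl (fun n _ => h1 n)]
  apply memLocalIdeal_sum_class_fun (G := N)
  · intro g h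
    have e1 : blockCoeff S (((h * g * h⁻¹ : N) : N) : G) = blockCoeff S (g : G) := by
      have : (((h * g * h⁻¹ : N) : N) : G) = (h : G) * (g : G) * (h : G)⁻¹ := by simp
      rw [this, blockCoeff_conj]
    have e2 : θ (h * g * h⁻¹) = θ g := hθ g h
    have e3 : θ' (h * g * h⁻¹) = θ' g := hθ' g h
    rw [e1, e2, e3]
  · intro g
    have h2 := hsame g
    unfold centralChar at h2
    have h3 := memLocalIdeal_mul_localRing (memLocalRing_blockCoeff_of_closed hM S hS (g : G)) h2
    convert h3 using 1
    ring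

end Cfsg.Agent.Lib.helper3.SigBlock
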