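import Mathlib
import Cfsg.Prelude.Def_Blocks
import Cfsg.Agent.Lib.helper3.SigBlock1
import Cfsg.Agent.Lib.helper3.SigBlock2
import Cfsg.Agent.Lib.helper3.GalFix2
import Cfsg.Agent.Lib.helper3.Pdeg1
import Cfsg.Agent.Lib.helper3.Inflate2
import Cfsg.Agent.Lib.helper3.HeightZero3
import Cfsg.Agent.Lib.helper3.RegPairInd
import Cfsg.Agent.S4517
import Cfsg.Agent.S4519

set_option autoImplicit false
set_option linter.style.haveILetI false
set_option linter.unusedSectionVars false

/-!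
# A fixed character over a fixed character of the principal `2`-block of a normal subgroup of odd
index lies in the principal `2`-block
-/

namespace Cfsg.Agent.Lib.helper3.SigBlock

open Cfsg Module Cfsg.Agent.Lib.helper3.IndFun Cfsg.Agent.Lib.helper3.CharBasic
open Cfsg.Agent.Lib.helper3.Irr Cfsg.Agent.Lib.helper3.Block Cfsg.Agent.Lib.helper3.LocalM
open Cfsg.Agent.Lib.helper3.GalFix Cfsg.Agent.Lib.helper3.GalPow
open scoped ComplexConjugate

universe u

theorem mem_principalBlock_of_fixed {G : Type u} [Group G] [Fintype G] (M : Ideal AlgInt)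
    (hM : IsPModular 2 M) (N : Subgroup G) [hN : N.Normal] [Fintype N] (hidx : Odd N.index)
    (k e : ℕ) (hk : k.Coprime (Nat.card G)) (hke : k ^ (2 ^ e) ≡ 1 [MOD Nat.card G])
    (hk₂ : ∀ g : G, Odd (orderOf g) → g ^ k = g⁻¹)
    (θ : IrrCharacter N) (hθ : ∀ n : N, (θ : N → ℂ) (n ^ k) = (θ : N → ℂ) n)
    (χ : IrrCharacter G) (hχ : ∀ g : G, (χ : G → ℂ) (g ^ k) = (χ : G → ℂ) g)
    (hover : classInner (fun n : N => (χ : G → ℂ) n) (θ : N → ℂ) ≠ 0)
    (hθB : θ ∈ principalBlock M N) : χ ∈ principalBlock M G := by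
  classical
  haveI : Fact (Nat.Prime 2) := ⟨Nat.prime_two⟩
  haveI hMp := isPrime_of_isPModular hM
  have hMtop : M ≠ ⊤ := hM.2.1.ne_top
  have hkN : k.Coprime (Nat.card N) :=
    Nat.Coprime.coprime_dvd_right (Subgroup.card_subgroup_dvd_card N) hk
  -- the block of `χ`
  obtain ⟨B, hBdef⟩ : ∃ B : Set (IrrCharacter G), B = blockOf M (χ : G → ℂ) := ⟨_, rfl⟩
  have hB : IsPBlock M B := ⟨χ, hBdef⟩
  have hχB : χ ∈ B := by rw [hBdef]; exact sameBlock_refl hMtop _
  have hclosed : ∀ ψ ∈ B, blockOf M (ψ : G → ℂ) ⊆ B := by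
    intro ψ hψ φ hφ
    rw [hBdef] at hψ ⊢
    exact sameBlock_trans hψ hφ
  -- the power map
  have hord : ∀ g : G, g ^ (k ^ (2 ^ e)) = g := by
    intro g
    have h1 : k ^ (2 ^ e) ≡ 1 [MOD orderOf g] := hke.of_dvd (orderOf_dvd_natCard g)
    have := (pow_eq_pow_iff_modEq (x := g)).2 h1
    rw [this, pow_one]
  obtain ⟨f, hfdef⟩ : ∃ f : IrrCharacter G → IrrCharacter G, f = powIrr k hk := ⟨_, rfl⟩
  have hfapply : ∀ (ψ : IrrCharacter G) (g : G), (f ψ : G → ℂ) g = (ψ : G → ℂ) (g ^ k) := by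
    intro ψ g; rw [hfdef]; rfl
  have hfid : ∀ ψ : IrrCharacter G, f^[2 ^ e] ψ = ψ := by
    intro ψ
    apply Subtype.ext
    funext g
    rw [hfdef, powIrr_iterate, hord]
  have hfinj : Function.Injective f := by
    intro ψ ψ' h
    have h1 : f^[2 ^ e] ψ = f^[2 ^ e] ψ' := by
      have hpos : 0 < 2 ^ e := pow_pos (by norm_num) e
      obtain ⟨j, hj⟩ : ∃ j, 2 ^ e = j + 1 := ⟨2 ^ e - 1, by omega⟩
      rw [hj, Function.iterate_succ_apply, Function.iterate_succ_apply, h]
    rwa [hfid, hfid] at h1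
  have hfχ : f χ = χ := by
    apply Subtype.ext
    funext g
    rw [hfapply, hχ]
  have hstab : ∀ ψ : IrrCharacter G, ψ ∈ B → f ψ ∈ B := by
    intro ψ hψ
    rw [hBdef] at hψ ⊢
    intro g
    have h1 := hψ (g ^ k)
    unfold centralChar at h1 ⊢
    rw [centralizer_pow_eq k hk g, hχ g] at h1
    rw [hfapply, hfapply, one_pow]
    exact h1
  have hstabit : ∀ (j : ℕ) (ψ : IrrCharacter G), ψ ∈ B → f^[j] ψ ∈ B := by
    intro j
    induction j with
    | zero => intro ψ hψ; exact hψ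
    | succ j ih =>
      intro ψ hψ
      rw [Function.iterate_succ_apply]
      exact ih _ (hstab ψ hψ)
  have hstab' : ∀ ψ : IrrCharacter G, f ψ ∈ B ↔ ψ ∈ B := by
    intro ψ
    constructor
    · intro h
      obtain ⟨j, hj⟩ : ∃ j, 2 ^ e = j + 1 :=
        ⟨2 ^ e - 1, by have : 0 < 2 ^ e := pow_pos (by norm_num) e; omega⟩
      have h1 := hstabit j _ h
      have h2 : f^[j] (f ψ) = f^[2 ^ e] ψ := by
        rw [hj, Function.iterate_succ_apply]
      rw [h2, hfid] at h1
      exact h1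
    · exact hstab ψ
  -- multiplicities and weights
  have hres : ∀ ψ : IrrCharacter G, IsCharacter N (fun n : N => (ψ : G → ℂ) n) :=
    fun ψ => isCharacter_restrict (isCharacter_of_isIrrCharacter ψ.2) N
  choose m hm using fun ψ : IrrCharacter G => exists_nat_classInner_of_isCharacter (hres ψ) θ
  have hθ1 : (θ : N → ℂ) 1 = ((charDegree (θ : N → ℂ) : ℕ) : ℂ) := apply_one_eq_charDegree θ
  have hθ0 : charDegree (θ : N → ℂ) ≠ 0 := Cfsg.Agent.Lib.helper3.Block.charDegree_ne_zero θ
  have hdvd : ∀ ψ : IrrCharacter G, m ψ ≠ 0 →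
      charDegree (θ : N → ℂ) ∣ charDegree (ψ : G → ℂ) := by
    intro ψ hmψ
    exact constituent_degree_dvd N (ψ : G → ℂ) ψ.2 (θ : N → ℂ) θ.2
      (by rw [hm ψ]; exact_mod_cast hmψ) _ _ (apply_one_eq_charDegree ψ) hθ1
  obtain ⟨w, hwdef⟩ : ∃ w : IrrCharacter G → ℤ, w = fun ψ : IrrCharacter G =>
      ((charDegree (ψ : G → ℂ) / charDegree (θ : N → ℂ) * m ψ : ℕ) : ℤ) := ⟨_, rfl⟩
  have hwkey : ∀ ψ : IrrCharacter G,
      ((w ψ : ℤ) : ℂ) * (θ : N → ℂ) 1 = (ψ : G → ℂ) 1 * (m ψ : ℂ) := by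
    intro ψ
    have hwψ : w ψ = ((charDegree (ψ : G → ℂ) / charDegree (θ : N → ℂ) * m ψ : ℕ) : ℤ) := by
      rw [hwdef]
    rw [hwψ, hθ1, apply_one_eq_charDegree ψ]
    by_cases hmψ : m ψ = 0
    · rw [hmψ]; simp
    · obtain ⟨c, hc⟩ := hdvd ψ hmψ
      rw [hc, Nat.mul_div_cancel_left c (Nat.pos_of_ne_zero hθ0)]
      push_cast
      ring
  -- invariance under the power map
  have hminv : ∀ ψ : IrrCharacter G, m (f ψ) = m ψ := by
    intro ψ
    have h1 : classInner (fun n : N => (f ψ : G → ℂ) n) (θ : N → ℂ)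
        = classInner (fun n : N => (ψ : G → ℂ) n) (θ : N → ℂ) := by
      have e1 : (fun n : N => (f ψ : G → ℂ) n)
          = fun n : N => (fun n' : N => (ψ : G → ℂ) n') (n ^ k) := by
        funext n
        rw [hfapply]
        simp
      have e2 : (θ : N → ℂ) = fun n : N => (θ : N → ℂ) (n ^ k) := by
        funext n
        exact (hθ n).symm
      have h0 := classInner_pow_pow (fun n' : N => (ψ : G → ℂ) n') (θ : N → ℂ) k hkN
      rw [← e1, ← e2] at h0
      exact h0
    rw [hm, hm] at h1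
    exact_mod_cast h1
  have hdeginv : ∀ ψ : IrrCharacter G, charDegree (f ψ : G → ℂ) = charDegree (ψ : G → ℂ) := by
    intro ψ
    rw [hfdef]
    exact powIrr_charDegree k hk ψ
  have hwinv : ∀ ψ : IrrCharacter G, w (f ψ) = w ψ := by
    intro ψ
    rw [hwdef]
    simp only [hminv, hdeginv]
  -- uniqueness of the fixed character over `θ`
  have huniq : ∀ ψ : IrrCharacter G, m ψ ≠ 0 → f ψ = ψ → ψ = χ := by
    intro ψ hmψ hfψ
    obtain ⟨χ₀, -, hχ₀⟩ := Cfsg.Agent.S4519.result N hidx k e hk hke hk₂ θ hθ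
    have h1 : ψ = χ₀ := by
      apply hχ₀ ψ
      · rw [hm ψ]
        exact_mod_cast hmψ
      · intro g
        have := congrArg (fun φ : IrrCharacter G => (φ : G → ℂ) g) hfψ
        simp only [hfapply] at this
        exact this
    have h2 : χ = χ₀ := hχ₀ χ hover hχ
    rw [h1, h2]
  have hw0 : ∀ ψ : IrrCharacter G, m ψ = 0 → w ψ = 0 := by
    intro ψ h
    rw [hwdef]
    simp [h]
  -- the total weight
  have htotal : ∑ ψ : IrrCharacter G, w ψ = (N.index : ℤ) := by
    have hind := isCharacter_indFun N (θ : N → ℂ) (isCharacter_of_isIrrCharacter θ.2)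
    have hdec := isCharacter_eq_sum_classInner hind
    have h1 := congrFun hdec 1
    rw [indFun_apply_one, Finset.sum_apply] at h1
    have h2 : ∀ ψ : IrrCharacter G,
        (classInner (indFun N (θ : N → ℂ)) (ψ : G → ℂ) • (ψ : G → ℂ)) 1
        = ((w ψ : ℤ) : ℂ) * (θ : N → ℂ) 1 := by
      intro ψ
      rw [Pi.smul_apply, smul_eq_mul, hwkey,
        frobenius_reciprocity N _ _ (isClassFunction_of_isCharacter
          (isCharacter_of_isIrrCharacter ψ.2)), ← classInner_conj_symm, hm ψ, Complex.conj_natCast]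
      ring
    rw [Finset.sum_congr rfl (fun ψ _ => h2 ψ), ← Finset.sum_mul] at h1
    have h3 := mul_right_cancel₀ (apply_one_ne_zero θ.2) h1
    have h4 : ((N.index : ℤ) : ℂ) = ((∑ ψ : IrrCharacter G, w ψ : ℤ) : ℂ) := by
      push_cast
      exact h3
    exact_mod_cast h4.symm
  -- first count: the weight of `χ` is odd
  have hcount1 : (2 : ℤ) ∣ ∑ ψ : IrrCharacter G, (if ψ = χ then 0 else w ψ) := by
    have := dvd_sum_of_iterate 2 f e hfid (fun ψ => if ψ = χ then 0 else w ψ) ?_ ?_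
    · exact_mod_cast this
    · intro ψ
      have hiff : f ψ = χ ↔ ψ = χ := by
        constructor
        · intro h
          apply hfinj
          rw [h, hfχ]
        · intro h
          rw [h, hfχ]
      simp only [hiff, hwinv]
    · intro ψ hfψ
      split_ifs with h
      · exact dvd_zero _
      · have : m ψ = 0 := by
          by_contra hne
          exact h (huniq ψ hne hfψ)
        rw [hw0 ψ this]
        exact dvd_zero _
  have hwχ : ¬ (2 : ℤ) ∣ w χ := by
    intro h2
    have hsplit : ∑ ψ : IrrCharacter G, w ψ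
        = w χ + ∑ ψ : IrrCharacter G, (if ψ = χ then 0 else w ψ) := by
      rw [← Finset.add_sum_erase _ _ (Finset.mem_univ χ)]
      congr 1
      rw [← Finset.add_sum_erase _ (fun ψ => if ψ = χ then 0 else w ψ) (Finset.mem_univ χ)]
      rw [if_pos rfl, zero_add]
      apply Finset.sum_congr rfl
      intro ψ hψ
      rw [if_neg (Finset.ne_of_mem_erase hψ)]
    have h3 : (2 : ℤ) ∣ (N.index : ℤ) := by
      rw [← htotal, hsplit]
      exact dvd_add h2 hcount1
    have h4 : 2 ∣ N.index := by exact_mod_cast h3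
    exact (Nat.not_even_iff_odd.mpr hidx) (even_iff_two_dvd.mpr h4)
  -- second count: the weight of the block is odd
  have hcount2 : (2 : ℤ) ∣ ∑ ψ : IrrCharacter G, (if ψ ∈ B ∧ ψ ≠ χ then w ψ else 0) := by
    have := dvd_sum_of_iterate 2 f e hfid (fun ψ => if ψ ∈ B ∧ ψ ≠ χ then w ψ else 0) ?_ ?_
    · exact_mod_cast this
    · intro ψ
      have hiff : f ψ = χ ↔ ψ = χ := by
        constructor
        · intro h
          apply hfinj
          rw [h, hfχ]
        · intro h
          rw [h, hfχ]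
      simp only [hstab', hwinv, ne_eq, hiff]
    · intro ψ hfψ
      split_ifs with h
      · have : m ψ = 0 := by
          by_contra hne
          exact h.2 (huniq ψ hne hfψ)
        rw [hw0 ψ this]
        exact dvd_zero _
      · exact dvd_zero _
  have hWB : ¬ (2 : ℤ) ∣ ∑ ψ : IrrCharacter G, (if ψ ∈ B then w ψ else 0) := by
    intro h2
    have hsplit : ∑ ψ : IrrCharacter G, (if ψ ∈ B then w ψ else 0)
        = w χ + ∑ ψ : IrrCharacter G, (if ψ ∈ B ∧ ψ ≠ χ then w ψ else 0) := by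
      rw [← Finset.add_sum_erase _ _ (Finset.mem_univ χ)]
      rw [← Finset.add_sum_erase _ (fun ψ => if ψ ∈ B ∧ ψ ≠ χ then w ψ else 0)
        (Finset.mem_univ χ)]
      rw [if_pos hχB, if_neg (by tauto), zero_add]
      congr 1
      apply Finset.sum_congr rfl
      intro ψ hψ
      have hne := Finset.ne_of_mem_erase hψ
      by_cases hψB : ψ ∈ B
      · rw [if_pos hψB, if_pos ⟨hψB, hne⟩]
      · rw [if_neg hψB, if_neg (by tauto)]
    rw [hsplit] at h2
    exact hwχ ((dvd_add_left hcount2).mp h2)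
  -- the pairings
  have hNG : (Nat.card N : ℂ) / (Nat.card G : ℂ) * (N.index : ℂ) = 1 := by
    have h1 : (Nat.card N : ℂ) * (N.index : ℂ) = (Nat.card G : ℂ) := by
      exact_mod_cast N.card_mul_index
    have h2 : (Nat.card G : ℂ) ≠ 0 := card_ne_zero_complex G
    rw [div_mul_eq_mul_div, h1, div_self h2]
  have hpairθ : (N.index : ℂ) * ∑ n : N, blockCoeff B (n : G) * ((θ : N → ℂ) n / (θ : N → ℂ) 1)
      = ((∑ ψ : IrrCharacter G, (if ψ ∈ B then w ψ else 0) : ℤ) : ℂ) := by
    rw [sum_blockCoeff_restrict N B]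
    have h1 : ∀ ψ : IrrCharacter G, (if ψ ∈ B then (1 : ℂ) else 0) * ((ψ : G → ℂ) 1
          * classInner (fun n : N => (θ : N → ℂ) n / (θ : N → ℂ) 1) (fun n : N => (ψ : G → ℂ) n))
        = (((if ψ ∈ B then w ψ else 0 : ℤ)) : ℂ) := by
      intro ψ
      have h2 : classInner (fun n : N => (θ : N → ℂ) n / (θ : N → ℂ) 1)
          (fun n : N => (ψ : G → ℂ) n) = ((θ : N → ℂ) 1)⁻¹ * (m ψ : ℂ) := by
        have e1 : (fun n : N => (θ : N → ℂ) n / (θ : N → ℂ) 1)
            = ((θ : N → ℂ) 1)⁻¹ • (θ : N → ℂ) := by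
          funext n
          rw [Pi.smul_apply, smul_eq_mul]
          ring
        rw [e1, classInner_smul_left, ← classInner_conj_symm, hm ψ, Complex.conj_natCast]
      rw [h2]
      split_ifs with hψB
      · rw [one_mul]
        have := hwkey ψ
        have h0 := apply_one_ne_zero θ.2
        field_simp
        rw [← this]
        ring
      · simp
    rw [Finset.sum_congr rfl (fun ψ _ => h1 ψ)]
    push_cast
    rw [← mul_assoc, mul_comm (N.index : ℂ), hNG, one_mul]
  have hnotLI : ¬ MemLocalIdeal M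
      (∑ n : N, blockCoeff B (n : G) * ((θ : N → ℂ) n / (θ : N → ℂ) 1)) := by
    intro h
    have h1 := memLocalIdeal_mul_localRing
      (memLocalRing_of_integral (M := M) (z := (N.index : ℂ)) (by
        have : IsIntegral ℤ ((N.index : ℤ) : ℂ) := isIntegral_algebraMap
        simpa using this)) h
    rw [hpairθ] at h1
    exact not_memLocalIdeal_intCast hM _ hWB h1
  have hsub := memLocalIdeal_pairing_sub hM N B hclosed (θ : N → ℂ) (fun _ : N => (1 : ℂ))
    (isClassFunction_of_isCharacter (isCharacter_of_isIrrCharacter θ.2)) (fun _ _ => rfl)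
    (sameBlock_symm (show SameBlock M (fun _ : N => (1 : ℂ)) (θ : N → ℂ) from hθB))
  have hone_ne : ∑ n : N, blockCoeff B (n : G) * ((fun _ : N => (1 : ℂ)) n / (fun _ : N => (1 : ℂ)) 1)
      ≠ 0 := by
    intro h0
    rw [h0, sub_zero] at hsub
    exact hnotLI hsub
  -- a member of the block trivial on `N`
  rw [sum_blockCoeff_restrict N B] at hone_ne
  have hex : ∃ ψ : IrrCharacter G, ψ ∈ B ∧
      classInner (fun n : N => (fun _ : N => (1 : ℂ)) n / (fun _ : N => (1 : ℂ)) 1)
        (fun n : N => (ψ : G → ℂ) n) ≠ 0 := by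
    by_contra hcon
    push Not at hcon
    apply hone_ne
    rw [Finset.sum_eq_zero, mul_zero]
    intro ψ _
    by_cases hψB : ψ ∈ B
    · rw [hcon ψ hψB]
      ring
    · rw [if_neg hψB]
      ring
  obtain ⟨ψ, hψB, hψ1⟩ := hex
  have hψtriv : classInner (fun n : N => (ψ : G → ℂ) n) (fun _ : N => (1 : ℂ)) ≠ 0 := by
    intro h0
    apply hψ1
    have e1 : (fun n : N => (fun _ : N => (1 : ℂ)) n / (fun _ : N => (1 : ℂ)) 1)
        = fun _ : N => (1 : ℂ) := by
      funext n
      simp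
    rw [e1, ← classInner_conj_symm, h0, map_zero]
  have hker := Cfsg.Agent.Lib.helper3.Pdeg.apply_eq_apply_one_of_trivial_constituent N
    (ψ : G → ℂ) ψ.2 hψtriv
  obtain ⟨ψ', hψ', hψeq⟩ := exists_eq_inflate ψ.2 N
    (fun g n hn => apply_mul_of_apply_eq_one (isCharacter_of_isIrrCharacter ψ.2)
      (by have := hker ⟨n, hn⟩; simpa using this) g)
  obtain ⟨d, hd1, hddvd, hdpos⟩ := Cfsg.Agent.Lib.helper3.Central.irr_degree_dvd_card hψ'
  have hψ1' : (ψ : G → ℂ) 1 = d := by
    rw [hψeq, inflate_apply, ← hd1]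
    rfl
  have hcd : charDegree (ψ : G → ℂ) = d := charDegree_eq hψ1'
  have hdodd : Odd d := by
    have : Nat.card (G ⧸ N) = N.index := (Subgroup.index_eq_card N).symm
    rw [this] at hddvd
    exact hidx.of_dvd_nat hddvd
  -- full defect
  have hmin : minExp 2 B = 0 := by
    have h1 := minExp_le (p := 2) hψB
    rw [hcd] at h1
    have h2 : d.factorization 2 = 0 := by
      apply Nat.factorization_eq_zero_of_not_dvd
      intro h
      exact (Nat.not_even_iff_odd.mpr hdodd) (even_iff_two_dvd.mpr h)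
    omega
  have hdef : blockDefect 2 B = (Nat.card G).factorization 2 := by
    rw [blockDefect_eq, hmin, Nat.sub_zero]
  have hBprinc := Cfsg.Agent.S4517.result M hM k hk hk₂ B hB hdef
    (fun φ hφ => ⟨f φ, hstab φ hφ, fun g => hfapply φ g⟩)
  rw [← hBprinc]
  exact hχB

end Cfsg.Agent.Lib.helper3.SigBlock
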