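import Mathlib
import Cfsg.Prelude.Def_Blocks
import Cfsg.Agent.Lib.helper3.GlCyc3
import Cfsg.Agent.Lib.helper3.BlockPart
import Cfsg.Agent.Lib.helper3.PrincIdem2
import Cfsg.Agent.Lib.helper3.RankOne2

/-!
# Faithful characters of small degree in the principal block of a perfect group
-/

set_option autoImplicit false
set_option linter.style.haveILetI false
set_option linter.unusedSectionVars false

namespace Cfsg.Agent.Lib.helper3.Block

open Cfsg Module Cfsg.Agent.Lib.helper3.CharBasic Cfsg.Agent.Lib.helper3.Irr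
open Cfsg.Agent.Lib.helper3.LocalM Cfsg.Agent.Lib.helper3.Det Cfsg.Agent.Lib.helper3.GlCyc
open scoped ComplexConjugate

universe u

/-- A family of fewer than `2p` roots of unity of order prime to `p`, in which every value other
than `1` is taken a multiple of `p` times and with product `1`, is constant `1`. -/
theorem all_one_of_mult {I : Type*} [Fintype I] [DecidableEq I] [DecidableEq ℂ] (μ : I → ℂ) (p m : ℕ)
    (hp : p.Prime) (hpm : ¬ p ∣ m) (hμ : ∀ i, μ i ^ m = 1) (hcard : Fintype.card I < 2 * p)
    (hmult : ∀ ω : ℂ, ω ≠ 1 → p ∣ (Finset.univ.filter (fun i => μ i = ω)).card)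
    (hprod : ∏ i, μ i = 1) : ∀ i, μ i = 1 := by
  by_contra hcon
  push Not at hcon
  obtain ⟨i₀, hi₀⟩ := hcon
  obtain ⟨ω₀, hω₀⟩ : ∃ ω₀ : ℂ, ω₀ = μ i₀ := ⟨_, rfl⟩
  have hω₀1 : ω₀ ≠ 1 := by rw [hω₀]; exact hi₀
  obtain ⟨F₀, hF₀⟩ : ∃ F₀ : Finset I, F₀ = Finset.univ.filter (fun i => μ i = ω₀) := ⟨_, rfl⟩
  have hF₀p : p ∣ F₀.card := by rw [hF₀]; exact hmult ω₀ hω₀1
  have hF₀pos : 0 < F₀.card := by
    apply Finset.card_pos.2
    exact ⟨i₀, by rw [hF₀, Finset.mem_filter]; exact ⟨Finset.mem_univ _, hω₀.symm⟩⟩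
  have hF₀ge : p ≤ F₀.card := Nat.le_of_dvd hF₀pos hF₀p
  have hF₀le : F₀.card ≤ Fintype.card I := Finset.card_le_univ F₀
  have hF₀eq : F₀.card = p := by
    obtain ⟨k, hk⟩ := hF₀p
    have hk1 : k < 2 := by
      by_contra h
      have : 2 ≤ k := by omega
      have : p * 2 ≤ p * k := Nat.mul_le_mul_left p this
      omega
    have hk0 : k ≠ 0 := by
      intro h
      rw [h, mul_zero] at hk
      omega
    have : k = 1 := by omega
    rw [hk, this, mul_one]
  have hall : ∀ i, μ i = ω₀ ∨ μ i = 1 := by
    intro i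
    by_contra hi
    push Not at hi
    obtain ⟨F₁, hF₁⟩ : ∃ F₁ : Finset I, F₁ = Finset.univ.filter (fun j => μ j = μ i) := ⟨_, rfl⟩
    have hF₁p : p ∣ F₁.card := by rw [hF₁]; exact hmult (μ i) hi.2
    have hF₁pos : 0 < F₁.card := by
      apply Finset.card_pos.2
      exact ⟨i, by rw [hF₁, Finset.mem_filter]; exact ⟨Finset.mem_univ _, rfl⟩⟩
    have hF₁ge : p ≤ F₁.card := Nat.le_of_dvd hF₁pos hF₁p
    have hdisj : Disjoint F₀ F₁ := by
      rw [hF₀, hF₁, Finset.disjoint_filter]
      intro j _ hj hj'
      exact hi.1 (hj'.symm.trans hj)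
    have hun := Finset.card_union_of_disjoint hdisj
    have hle : (F₀ ∪ F₁).card ≤ Fintype.card I := Finset.card_le_univ _
    omega
  have hsplit := Finset.prod_filter_mul_prod_filter_not (Finset.univ : Finset I)
    (fun i => μ i = ω₀) μ
  rw [hprod, ← hF₀] at hsplit
  have h1 : ∏ i ∈ F₀, μ i = ω₀ ^ p := by
    rw [← hF₀eq, ← Finset.prod_const]
    apply Finset.prod_congr rfl
    intro i hi
    rw [hF₀, Finset.mem_filter] at hi
    exact hi.2
  have h2 : ∏ i ∈ Finset.univ.filter (fun i => ¬ μ i = ω₀), μ i = 1 := by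
    apply Finset.prod_eq_one
    intro i hi
    rw [Finset.mem_filter] at hi
    rcases hall i with h | h
    · exact absurd h hi.2
    · exact h
  rw [h1, h2, mul_one] at hsplit
  have hcop : Nat.gcd p m = 1 := (Nat.Prime.coprime_iff_not_dvd hp).2 hpm
  have := pow_gcd_eq_one.2 ⟨hsplit, by rw [hω₀]; exact hμ i₀⟩
  rw [hcop, pow_one] at this
  exact hω₀1 this

variable {G : Type u} [Group G] [Fintype G] {M : Ideal AlgInt}

open Classical in
/-- In a perfect group with a faithful irreducible character of degree less than `2p` in the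
principal `p`-block, a `p`-regular element centralizing a Sylow `p`-subgroup is trivial. -/
theorem eq_one_of_centralizes_sylow {p : ℕ} [hpf : Fact p.Prime] (hM : IsPModular p M)
    (hperf : commutator G = ⊤) (P : Sylow p G) (χ : IrrCharacter G)
    (hχ : χ ∈ principalBlock M G)
    (hfaith : ∀ g : G, (χ : G → ℂ) g = (χ : G → ℂ) 1 → g = 1)
    (hdeg : charDegree (χ : G → ℂ) < 2 * p) (x : G)
    (hx : x ∈ Subgroup.centralizer ((P : Subgroup G) : Set G)) (hpx : ¬ p ∣ orderOf x) :
    x = 1 := by
  haveI hMp := isPrime_of_isPModular hM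
  have hp : p.Prime := hpf.out
  obtain ⟨n, ρ, hρ⟩ := isCharacter_of_isIrrCharacter χ.2
  obtain ⟨I, _, v, μ, hf, hμ⟩ := exists_eigenbasis ρ x
  obtain ⟨m, hm⟩ : ∃ m : ℕ, m = orderOf x := ⟨_, rfl⟩
  have hmpos : 0 < m := by rw [hm]; exact orderOf_pos x
  rw [← hm] at hμ hpx
  have hchar : ∀ t : ℕ, (χ : G → ℂ) (x ^ t) = ∑ i, μ i ^ t := by
    intro t
    rw [← hρ]
    exact character_eq_sum_of_eigenbasis ρ (x ^ t) v (fun i => μ i ^ t)
      (fun i => rho_pow_apply_eigen ρ x v μ hf t i)
  have h1 : (χ : G → ℂ) 1 = (Fintype.card I : ℂ) := by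
    have := hchar 0
    simpa using this
  have hdegI : charDegree (χ : G → ℂ) = Fintype.card I := by
    have := apply_one_eq_charDegree χ
    rw [h1] at this
    exact_mod_cast this.symm
  have hd0 : Fintype.card I ≠ 0 := by
    rw [← hdegI]
    exact charDegree_ne_zero χ
  have hd0C : (Fintype.card I : ℂ) ≠ 0 := by exact_mod_cast hd0
  -- the congruences for the values at the powers of `x`
  have hz : ∀ t : ℕ, MemLocalIdeal M (1 - (χ : G → ℂ) (x ^ t) / (Fintype.card I : ℂ)) := by
    intro t
    have h := hχ (x ^ t)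
    unfold centralChar at h
    have hidx : ¬ p ∣ (Subgroup.centralizer ({x ^ t} : Set G)).index := by
      have hle : (P : Subgroup G) ≤ Subgroup.centralizer ({x ^ t} : Set G) := by
        intro u hu
        rw [Subgroup.mem_centralizer_singleton_iff]
        have hux : u * x = x * u := (Subgroup.mem_centralizer_iff.1 hx u hu)
        exact ((Commute.pow_right (show Commute u x from hux) t).eq)
      intro hdvd
      exact P.not_dvd_index (dvd_trans hdvd (Subgroup.index_dvd_of_le hle))
    have := memLocalIdeal_div_natCast hM h _ hidx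
    have hidx0 : ((Subgroup.centralizer ({x ^ t} : Set G)).index : ℂ) ≠ 0 := by
      have : (Subgroup.centralizer ({x ^ t} : Set G)).index ≠ 0 := by
        intro h0
        exact hidx (by rw [h0]; exact dvd_zero p)
      exact_mod_cast this
    rw [h1] at this
    convert this using 1
    field_simp
  -- the multiplicities
  have hmult : ∀ ω : ℂ, ω ≠ 1 → p ∣ (Finset.univ.filter (fun i => μ i = ω)).card := by
    intro ω hω1
    by_cases hω : ω ^ m = 1
    · have hω0 : ω ≠ 0 := by
        intro h0
        rw [h0, zero_pow hmpos.ne'] at hω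
        exact zero_ne_one hω
      have hmp := mult_of_pow_sums μ m hmpos hμ ω hω
      have hωinv : (ω⁻¹) ^ m = 1 := by rw [inv_pow, hω, inv_one]
      have hint : IsIntegral ℤ ω⁻¹ := by
        apply IsIntegral.of_pow hmpos
        rw [hωinv]
        exact isIntegral_one
      have hgeom : ∑ t ∈ Finset.range m, (ω⁻¹) ^ t = 0 := by
        have := geom_sum_mul ω⁻¹ m
        rw [hωinv, sub_self] at this
        rcases mul_eq_zero.1 this with h | h
        · exact h
        · exfalso
          apply hω1
          have h2 : ω⁻¹ = 1 := sub_eq_zero.1 h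
          exact inv_inj.1 (h2.trans inv_one.symm)
      have hkey : (((Finset.univ.filter (fun i => μ i = ω)).card * m : ℕ) : ℂ)
          / ((Fintype.card I : ℕ) : ℂ)
          = ∑ t ∈ Finset.range m, -((ω⁻¹) ^ t
            * (1 - (χ : G → ℂ) (x ^ t) / (Fintype.card I : ℂ))) := by
        push_cast
        rw [hmp, Finset.sum_div]
        have h3 : ∑ t ∈ Finset.range m, -((ω⁻¹) ^ t
            * (1 - (χ : G → ℂ) (x ^ t) / (Fintype.card I : ℂ)))
            = ∑ t ∈ Finset.range m, ((ω⁻¹) ^ t * ((χ : G → ℂ) (x ^ t) / (Fintype.card I : ℂ)))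
              - ∑ t ∈ Finset.range m, (ω⁻¹) ^ t := by
          rw [← Finset.sum_sub_distrib]
          apply Finset.sum_congr rfl
          intro t _
          ring
        rw [h3, hgeom, sub_zero]
        apply Finset.sum_congr rfl
        intro t _
        rw [hchar t]
        ring
      have hloc : MemLocalIdeal M ((((Finset.univ.filter (fun i => μ i = ω)).card * m : ℕ) : ℂ)
          / ((Fintype.card I : ℕ) : ℂ)) := by
        rw [hkey]
        apply memLocalIdeal_sum
        intro t _
        exact memLocalIdeal_neg (memLocalIdeal_mul_integral (hz t) (hint.pow t))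
      rcases natCast_div_memLocalIdeal hM _ _ hd0 hloc with h0 | hlt
      · rcases Nat.mul_eq_zero.1 h0 with h | h
        · rw [h]
          exact dvd_zero p
        · omega
      · by_cases hN0 : (Finset.univ.filter (fun i => μ i = ω)).card = 0
        · rw [hN0]
          exact dvd_zero p
        · rw [Nat.factorization_mul hN0 hmpos.ne', Finsupp.add_apply,
            Nat.factorization_eq_zero_of_not_dvd hpx, add_zero] at hlt
          exact Nat.dvd_of_factorization_pos (by omega)
    · have : Finset.univ.filter (fun i => μ i = ω) = ∅ := by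
        rw [Finset.filter_eq_empty_iff]
        intro i _ hi
        apply hω
        rw [← hi]
        exact hμ i
      rw [this, Finset.card_empty]
      exact dvd_zero p
  -- the determinant
  have hdet : ∏ i, μ i = 1 := by
    rw [← det_eq_prod_of_eigenbasis v μ (ρ x) hf]
    have hker : commutator G ≤ (detHom ρ).ker := Abelianization.commutator_subset_ker _
    have hxk : x ∈ (detHom ρ).ker := hker (by rw [hperf]; exact Subgroup.mem_top x)
    have h2 := detHom_apply ρ x
    rw [MonoidHom.mem_ker] at hxk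
    rw [hxk] at h2
    rw [← h2]
    rfl
  have hall := all_one_of_mult μ p m hp hpx hμ (by rw [← hdegI]; exact hdeg) hmult hdet
  apply hfaith
  have h3 := hchar 1
  rw [pow_one] at h3
  rw [h3, h1]
  rw [Finset.sum_congr rfl (fun i _ => by rw [pow_one, hall i])]
  simp

open Classical in
/-- In a perfect group with a faithful irreducible character of degree less than `2p` in the
principal `p`-block, the centralizer of a Sylow `p`-subgroup is a `p`-group. -/
theorem isPGroup_centralizer_of_small_faithful {p : ℕ} [hpf : Fact p.Prime]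
    (hM : IsPModular p M) (hperf : commutator G = ⊤) (P : Sylow p G) (χ : IrrCharacter G)
    (hχ : χ ∈ principalBlock M G)
    (hfaith : ∀ g : G, (χ : G → ℂ) g = (χ : G → ℂ) 1 → g = 1)
    (hdeg : charDegree (χ : G → ℂ) < 2 * p) :
    IsPGroup p ↥(Subgroup.centralizer ((P : Subgroup G) : Set G)) := by
  intro g
  have hp : p.Prime := hpf.out
  obtain ⟨e, m', hm', hord⟩ := Nat.exists_eq_pow_mul_and_not_dvd
    (orderOf_pos (g : G)).ne' p hp.ne_one
  refine ⟨e, ?_⟩
  apply Subtype.ext
  rw [Subgroup.coe_pow, Subgroup.coe_one]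
  apply eq_one_of_centralizes_sylow hM hperf P χ hχ hfaith hdeg
  · exact Subgroup.pow_mem _ g.2 _
  · intro hdvd
    apply hm'
    apply dvd_trans hdvd
    apply orderOf_dvd_of_pow_eq_one
    rw [← pow_mul, ← hord, pow_orderOf_eq_one]

end Cfsg.Agent.Lib.helper3.Block
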