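import Mathlib
import Cfsg.Prelude.Def_Characters
import Cfsg.Agent.Lib.helper3.RepEquiv

/-!
# Representations over a subfield of the complex numbers: basics
-/

set_option autoImplicit false
set_option linter.style.haveILetI false
set_option linter.unusedSectionVars false

namespace Cfsg.Agent.Lib.helper3.SplitK

open Cfsg Module Cfsg.Agent.Lib.helper3.IndFun Cfsg.Agent.Lib.helper3.CharBasic
open Cfsg.Agent.Lib.helper3.Irr
open Representation
open scoped ComplexConjugate

variable {K : Type} [Field K] [Algebra K ℂ]
variable {G : Type*} [Group G]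

section basic

variable {V : Type*} [AddCommGroup V] [Module K V]
variable {W : Type*} [AddCommGroup W] [Module K W]

/-- The complex character of a representation over `K`. -/
noncomputable def cchar (ρ : Representation K G V) : G → ℂ :=
  fun g => algebraMap K ℂ (ρ.character g)

theorem cchar_apply (ρ : Representation K G V) (g : G) :
    cchar ρ g = algebraMap K ℂ (ρ.character g) := rfl

variable [FiniteDimensional K V] [FiniteDimensional K W]

theorem character_prod (ρ : Representation K G V) (σ : Representation K G W) :
    (ρ.prod σ).character = ρ.character + σ.character := by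
  funext g
  simp only [Representation.character, Pi.add_apply]
  have : (ρ.prod σ) g = (ρ g).prodMap (σ g) := rfl
  rw [this]
  exact LinearMap.trace_prodMap' (ρ g) (σ g)

theorem cchar_prod (ρ : Representation K G V) (σ : Representation K G W) :
    cchar (ρ.prod σ) = cchar ρ + cchar σ := by
  funext g
  simp only [cchar, character_prod, Pi.add_apply, map_add]

theorem cchar_equiv {ρ : Representation K G V} {σ : Representation K G W} (φ : ρ.Equiv σ) :
    cchar ρ = cchar σ := by
  funext g
  simp only [cchar, Representation.char_iso φ]

theorem cchar_one (ρ : Representation K G V) : cchar ρ 1 = (finrank K V : ℂ) := by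
  simp only [cchar, Representation.char_one, map_natCast]

end basic

section complexify

variable {V : Type*} [AddCommGroup V] [Module K V] [FiniteDimensional K V]

/-- A representation over `K` gives a complex matrix representation with entries in `K`. -/
theorem exists_complexification (ρ : Representation K G V) :
    ∃ ρ' : Representation ℂ G (Fin (finrank K V) → ℂ),
      (∀ g i j, LinearMap.toMatrix' (ρ' g) i j ∈ Set.range (algebraMap K ℂ)) ∧
      ρ'.character = cchar ρ := by
  classical
  let b := Module.finBasis K V
  let f₁ : (V →ₗ[K] V) →* Matrix (Fin (finrank K V)) (Fin (finrank K V)) K :=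
    (LinearMap.toMatrixAlgEquiv b : (V →ₗ[K] V) →* _)
  let f₂ : Matrix (Fin (finrank K V)) (Fin (finrank K V)) K →*
      Matrix (Fin (finrank K V)) (Fin (finrank K V)) ℂ :=
    ((algebraMap K ℂ).mapMatrix : _ →+* _).toMonoidHom
  let f₃ : Matrix (Fin (finrank K V)) (Fin (finrank K V)) ℂ →*
      ((Fin (finrank K V) → ℂ) →ₗ[ℂ] (Fin (finrank K V) → ℂ)) :=
    MonoidHomClass.toMonoidHom (Matrix.toLinAlgEquiv' :
      Matrix (Fin (finrank K V)) (Fin (finrank K V)) ℂ ≃ₐ[ℂ] _)
  have hmat : ∀ g, LinearMap.toMatrix' ((f₃.comp (f₂.comp f₁)).comp ρ g)
      = (LinearMap.toMatrix b b (ρ g)).map (algebraMap K ℂ) := by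
    intro g
    show LinearMap.toMatrix' (Matrix.toLin' ((LinearMap.toMatrix b b (ρ g)).map (algebraMap K ℂ)))
      = _
    rw [LinearMap.toMatrix'_toLin']
  refine ⟨(f₃.comp (f₂.comp f₁)).comp ρ, ?_, ?_⟩
  · intro g i j
    rw [hmat]
    exact ⟨_, rfl⟩
  · funext g
    unfold Representation.character cchar Representation.character
    rw [LinearMap.trace_eq_matrix_trace ℂ (Pi.basisFun ℂ (Fin (finrank K V))),
      LinearMap.trace_eq_matrix_trace K b]
    have : LinearMap.toMatrix (Pi.basisFun ℂ (Fin (finrank K V)))
        (Pi.basisFun ℂ (Fin (finrank K V))) ((f₃.comp (f₂.comp f₁)).comp ρ g)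
        = (LinearMap.toMatrix b b (ρ g)).map (algebraMap K ℂ) := by
      rw [← hmat g]
      rfl
    rw [this]
    simp only [Matrix.trace, Matrix.diag_apply, Matrix.map_apply, map_sum]

theorem isCharacter_cchar (ρ : Representation K G V) : IsCharacter G (cchar ρ) := by
  obtain ⟨ρ', -, h⟩ := exists_complexification ρ
  exact ⟨_, ρ', h⟩

end complexify

section inner

variable [Fintype G]
variable {V : Type*} [AddCommGroup V] [Module K V] [FiniteDimensional K V]
variable {W : Type*} [AddCommGroup W] [Module K W] [FiniteDimensional K W]

theorem charZero_K : CharZero K :=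
  (algebraMap K ℂ).charZero

theorem card_ne_zero_K : (Nat.card G : K) ≠ 0 := by
  haveI : CharZero K := charZero_K
  have : Nat.card G ≠ 0 := Nat.card_pos.ne'
  exact_mod_cast this

theorem conj_cchar (σ : Representation K G W) (g : G) : conj (cchar σ g) = cchar σ g⁻¹ := by
  obtain ⟨n, σ', hσ'⟩ := isCharacter_cchar σ
  rw [← hσ', character_inv σ' g]

/-- The inner product of complex characters is the dimension of the space of intertwiners. -/
theorem classInner_cchar (ρ : Representation K G V) (σ : Representation K G W) :
    classInner (cchar ρ) (cchar σ) = (finrank K (Representation.IntertwiningMap σ ρ) : ℂ) := by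
  haveI : Invertible (Nat.card G : K) := invertibleOfNonzero card_ne_zero_K
  have h := Representation.card_inv_mul_sum_char_mul_char_eq_finrank σ ρ
  have h2 := congrArg (algebraMap K ℂ) h
  simp only [map_mul, map_inv₀, map_natCast, map_sum] at h2
  rw [← h2, classInner_apply]
  congr 1
  apply Finset.sum_congr rfl
  intro g _
  rw [conj_cchar]
  rfl

end inner

end Cfsg.Agent.Lib.helper3.SplitK
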