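import Mathlib
import Cfsg.Prelude.Def_Characters
import Cfsg.Agent.Lib.helper3.SplitK1

/-!
# Monomial representations over a field
-/

set_option autoImplicit false
set_option linter.style.haveILetI false
set_option linter.unusedSectionVars false

namespace Cfsg.Agent.Lib.helper3.SplitK

open Cfsg Module Cfsg.Agent.Lib.helper3.IndFun Cfsg.Agent.Lib.helper3.CharBasic
open Cfsg.Agent.Lib.helper3.Irr
open Representation
open scoped ComplexConjugate
open Classical

section mono

variable {K : Type*} [Field K] {G : Type*} [Group G] (E : Subgroup G) (lam : ↥E →* Kˣ)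

/-- Extension by zero of a linear character. -/
noncomputable def lamz (g : G) : K := if h : g ∈ E then ((lam ⟨g, h⟩ : Kˣ) : K) else 0

theorem lamz_mem {g : G} (h : g ∈ E) : lamz E lam g = ((lam ⟨g, h⟩ : Kˣ) : K) := by
  unfold lamz
  rw [dif_pos h]

theorem lamz_not_mem {g : G} (h : g ∉ E) : lamz E lam g = 0 := by
  unfold lamz
  rw [dif_neg h]

theorem lamz_mul_left {e : G} (he : e ∈ E) (g : G) :
    lamz E lam (e * g) = ((lam ⟨e, he⟩ : Kˣ) : K) * lamz E lam g := by
  by_cases hg : g ∈ E
  · rw [lamz_mem E lam hg, lamz_mem E lam (E.mul_mem he hg), ← Units.val_mul, ← map_mul]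
    rfl
  · have : e * g ∉ E := fun h => hg ((Subgroup.mul_mem_cancel_left E he).mp h)
    rw [lamz_not_mem E lam hg, lamz_not_mem E lam this, mul_zero]

theorem lamz_mul_right {e : G} (he : e ∈ E) (g : G) :
    lamz E lam (g * e) = lamz E lam g * ((lam ⟨e, he⟩ : Kˣ) : K) := by
  by_cases hg : g ∈ E
  · rw [lamz_mem E lam hg, lamz_mem E lam (E.mul_mem hg he), ← Units.val_mul, ← map_mul]
    rfl
  · have : g * e ∉ E := fun h => hg ((Subgroup.mul_mem_cancel_right E he).mp h)
    rw [lamz_not_mem E lam hg, lamz_not_mem E lam this, zero_mul]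

theorem lamz_conj {e : G} (he : e ∈ E) (g : G) :
    lamz E lam (e⁻¹ * g * e) = lamz E lam g := by
  rw [lamz_mul_right E lam he, lamz_mul_left E lam (E.inv_mem he)]
  have : (⟨e⁻¹, E.inv_mem he⟩ : ↥E) = (⟨e, he⟩ : ↥E)⁻¹ := rfl
  rw [this, map_inv, mul_comm, ← mul_assoc, Units.val_inv_eq_inv_val,
    mul_inv_cancel₀ (Units.ne_zero _), one_mul]

theorem out_inv_mul_mem (x : G) : ((x : G ⧸ E).out)⁻¹ * x ∈ E := by
  rw [← QuotientGroup.eq, QuotientGroup.out_eq']

variable [Fintype G]

/-- The key multiplicativity of the coefficients. -/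
theorem sum_lamz_mul (a b : G) :
    ∑ q : G ⧸ E, lamz E lam (a * q.out) * lamz E lam (q.out⁻¹ * b) = lamz E lam (a * b) := by
  obtain ⟨q₀, hq₀⟩ : ∃ q₀ : G ⧸ E, q₀ = ((a⁻¹ : G) : G ⧸ E) := ⟨_, rfl⟩
  have hmem : ∀ q : G ⧸ E, a * q.out ∈ E ↔ q = q₀ := by
    intro q
    rw [hq₀]
    constructor
    · intro h
      have h2 : ((a⁻¹ : G) : G ⧸ E) = ((q.out : G) : G ⧸ E) := by
        rw [QuotientGroup.eq, inv_inv]
        exact h
      rw [h2, QuotientGroup.out_eq']
    · intro h
      have h2 : ((a⁻¹ : G) : G ⧸ E) = ((q.out : G) : G ⧸ E) := by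
        rw [QuotientGroup.out_eq', h]
      rw [QuotientGroup.eq, inv_inv] at h2
      exact h2
  rw [Finset.sum_eq_single q₀]
  · have he : a * q₀.out ∈ E := (hmem q₀).mpr rfl
    have e1 : q₀.out⁻¹ * b = (a * q₀.out)⁻¹ * (a * b) := by group
    rw [e1, lamz_mul_left E lam (E.inv_mem he), lamz_mem E lam he, ← mul_assoc, ← Units.val_mul,
      ← map_mul]
    have : (⟨a * q₀.out, he⟩ : ↥E) * ⟨(a * q₀.out)⁻¹, E.inv_mem he⟩ = 1 := by
      apply Subtype.ext
      simp
    rw [this, map_one, Units.val_one, one_mul]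
  · intro q _ hq
    have : a * q.out ∉ E := fun h => hq ((hmem q).mp h)
    rw [lamz_not_mem E lam this, zero_mul]
  · intro h
    exact absurd (Finset.mem_univ _) h

/-- The monomial matrices. -/
noncomputable def monMat (g : G) : Matrix (G ⧸ E) (G ⧸ E) K :=
  fun q q' => lamz E lam (q.out⁻¹ * g * q'.out)

theorem monMat_one : monMat E lam 1 = 1 := by
  ext q q'
  simp only [monMat, mul_one, Matrix.one_apply]
  split_ifs with h
  · rw [h, inv_mul_cancel, lamz_mem E lam E.one_mem]
    have : (⟨1, E.one_mem⟩ : ↥E) = 1 := rfl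
    rw [this, map_one, Units.val_one]
  · apply lamz_not_mem
    intro hmem
    apply h
    rw [← QuotientGroup.eq, QuotientGroup.out_eq', QuotientGroup.out_eq'] at hmem
    exact hmem

theorem monMat_mul (g h : G) : monMat E lam (g * h) = monMat E lam g * monMat E lam h := by
  ext q q''
  simp only [monMat, Matrix.mul_apply]
  have := sum_lamz_mul E lam (q.out⁻¹ * g) (h * q''.out)
  have e1 : q.out⁻¹ * (g * h) * q''.out = q.out⁻¹ * g * (h * q''.out) := by group
  rw [e1, ← this]
  apply Finset.sum_congr rfl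
  intro q' _
  rw [mul_assoc q'.out⁻¹]

/-- The monomial representation. -/
noncomputable def monRep : Representation K G ((G ⧸ E) → K) :=
  (MonoidHomClass.toMonoidHom (Matrix.toLinAlgEquiv' :
      Matrix (G ⧸ E) (G ⧸ E) K ≃ₐ[K] _)).comp
    { toFun := monMat E lam
      map_one' := monMat_one E lam
      map_mul' := monMat_mul E lam }

theorem monRep_character (g : G) :
    (monRep E lam).character g = ∑ q : G ⧸ E, lamz E lam (q.out⁻¹ * g * q.out) := by
  unfold Representation.character
  rw [LinearMap.trace_eq_matrix_trace K (Pi.basisFun K (G ⧸ E))]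
  have : LinearMap.toMatrix (Pi.basisFun K (G ⧸ E)) (Pi.basisFun K (G ⧸ E)) (monRep E lam g)
      = monMat E lam g := by
    show LinearMap.toMatrix' (Matrix.toLin' (monMat E lam g)) = _
    rw [LinearMap.toMatrix'_toLin']
  rw [this]
  rfl

end mono

section monoC

variable {K : Type} [Field K] [Algebra K ℂ] {G : Type*} [Group G] [Fintype G]
  (E : Subgroup G) (lam : ↥E →* Kˣ)

theorem prod_bijective :
    Function.Bijective (fun p : (G ⧸ E) × ↥E => p.1.out * (p.2 : G)) := by
  constructor
  · rintro ⟨q, e⟩ ⟨q', e'⟩ h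
    simp only at h
    have hq : q = q' := by
      have h1 : ((q.out * (e : G) : G) : G ⧸ E) = ((q'.out * (e' : G) : G) : G ⧸ E) := by rw [h]
      rw [QuotientGroup.mk_mul_of_mem _ e.2, QuotientGroup.mk_mul_of_mem _ e'.2,
        QuotientGroup.out_eq', QuotientGroup.out_eq'] at h1
      exact h1
    subst hq
    have he : (e : G) = e' := mul_left_cancel h
    rw [Subtype.ext he]
  · intro x
    refine ⟨((x : G ⧸ E), ⟨((x : G ⧸ E).out)⁻¹ * x, out_inv_mul_mem E x⟩), ?_⟩
    simp

/-- The complex character of the monomial representation is the induced function. -/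
theorem cchar_monRep :
    cchar (monRep E lam) = indFun E (fun e => algebraMap K ℂ ((lam e : Kˣ) : K)) := by
  funext g
  rw [cchar_apply, monRep_character, map_sum, indFun_apply]
  obtain ⟨F, hF⟩ : ∃ F : G → ℂ, F = fun y => algebraMap K ℂ (lamz E lam y) := ⟨_, rfl⟩
  have hext : ∀ y : G, extendByZero E (fun e => algebraMap K ℂ ((lam e : Kˣ) : K)) y = F y := by
    intro y
    rw [hF]
    beta_reduce
    by_cases hy : y ∈ E
    · rw [extendByZero_mem E _ hy, lamz_mem E lam hy]
    · rw [extendByZero_not_mem E _ hy, lamz_not_mem E lam hy, map_zero]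
  have hFconj : ∀ (e : ↥E) (y : G), F ((e : G)⁻¹ * y * e) = F y := by
    intro e y
    rw [hF]
    beta_reduce
    rw [lamz_conj E lam e.2]
  simp_rw [hext]
  rw [← Function.Bijective.sum_comp (prod_bijective E) (fun x => F (x⁻¹ * g * x)),
    Fintype.sum_prod_type]
  have h1 : ∀ q : G ⧸ E, ∑ e : ↥E, F ((q.out * (e : G))⁻¹ * g * (q.out * (e : G)))
      = (Nat.card ↥E : ℂ) * F (q.out⁻¹ * g * q.out) := by
    intro q
    have h2 : ∀ e : ↥E, F ((q.out * (e : G))⁻¹ * g * (q.out * (e : G)))
        = F (q.out⁻¹ * g * q.out) := by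
      intro e
      rw [← hFconj e (q.out⁻¹ * g * q.out)]
      congr 1
      group
    rw [Finset.sum_congr rfl (fun e _ => h2 e), Finset.sum_const, Finset.card_univ,
      nsmul_eq_mul, Nat.card_eq_fintype_card]
  simp only at h1 ⊢
  rw [Finset.sum_congr rfl (fun q _ => h1 q), ← Finset.mul_sum, ← mul_assoc,
    inv_mul_cancel₀, one_mul, hF]
  have : Nat.card ↥E ≠ 0 := Nat.card_pos.ne'
  exact_mod_cast this

end monoC

end Cfsg.Agent.Lib.helper3.SplitK
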