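import Mathlib
import Cfsg.Prelude.Def_Characters
import Cfsg.Agent.Lib.helper3.SplitK1
import Cfsg.Agent.Lib.helper3.Irr9

/-!
# Representations over a subfield of the complex numbers: subrepresentations and Schur indices
-/

set_option autoImplicit false
set_option linter.style.haveILetI false
set_option linter.unusedSectionVars false

namespace Cfsg.Agent.Lib.helper3.SplitK

open Cfsg Module Cfsg.Agent.Lib.helper3.IndFun Cfsg.Agent.Lib.helper3.CharBasic
open Cfsg.Agent.Lib.helper3.Irr
open Representation
open scoped ComplexConjugate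

universe v

section transport

variable {K : Type*} [Field K] {G : Type*} [Group G]
variable {V : Type*} [AddCommGroup V] [Module K V]
variable {W : Type*} [AddCommGroup W] [Module K W]

/-- Transport a representation along a linear equivalence. -/
noncomputable def transportK (ρ : Representation K G V) (e : V ≃ₗ[K] W) : Representation K G W where
  toFun g := e.conj (ρ g)
  map_one' := by
    ext w
    simp [LinearEquiv.conj_apply]
  map_mul' g h := by
    ext w
    simp [LinearEquiv.conj_apply]

theorem transportK_apply (ρ : Representation K G V) (e : V ≃ₗ[K] W) (g : G) (w : W) :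
    transportK ρ e g w = e (ρ g (e.symm w)) := by
  simp [transportK, LinearEquiv.conj_apply]

/-- The tautological equivalence between a representation and its transport. -/
noncomputable def transportKEquiv (ρ : Representation K G V) (e : V ≃ₗ[K] W) :
    ρ.Equiv (transportK ρ e) :=
  Representation.Equiv.mk e (by
    intro g
    ext v
    simp [transportK_apply])

theorem isCompl_toSubmoduleK {ρ : Representation K G V} {U U' : Subrepresentation ρ}
    (h : IsCompl U U') : IsCompl U.toSubmodule U'.toSubmodule := by
  constructor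
  · rw [disjoint_iff]
    have := h.inf_eq_bot
    have h2 : (U ⊓ U').toSubmodule = (⊥ : Subrepresentation ρ).toSubmodule := by rw [this]
    exact h2
  · rw [codisjoint_iff]
    have := h.sup_eq_top
    have h2 : (U ⊔ U').toSubmodule = (⊤ : Subrepresentation ρ).toSubmodule := by rw [this]
    exact h2

/-- A representation is equivalent to the product of two complementary subrepresentations. -/
noncomputable def prodEquivOfIsComplK {ρ : Representation K G V} {U U' : Subrepresentation ρ}
    (h : IsCompl U U') : (U.toRepresentation.prod U'.toRepresentation).Equiv ρ :=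
  Representation.Equiv.mk (Submodule.prodEquivOfIsCompl _ _ (isCompl_toSubmoduleK h)) (by
    intro g
    ext x
    · simp [Subrepresentation.toRepresentation]
    · simp [Subrepresentation.toRepresentation])

/-- An injective intertwining map induces an equivalence onto its range. -/
noncomputable def equivRangeK {ρ : Representation K G V} {σ : Representation K G W}
    (f : Representation.IntertwiningMap ρ σ) (hf : Function.Injective f) :
    ρ.Equiv f.range.toRepresentation :=
  Representation.Equiv.mk (LinearEquiv.ofInjective f.toLinearMap hf) (by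
    intro g
    apply LinearMap.ext
    intro x
    apply Subtype.ext
    exact Representation.IntertwiningMap.isIntertwining _ _ f g x)

end transport

section schur

variable {K : Type} [Field K] [Algebra K ℂ] {G : Type*} [Group G] [Fintype G]

theorem exists_nat_classInner_ge {θ₁ θ₂ : G → ℂ} (h₁ : IsCharacter G θ₁) (h₂ : IsCharacter G θ₂)
    (χ : IrrCharacter G) (k₁ k₂ : ℕ) (hk₁ : classInner θ₁ (χ : G → ℂ) = k₁)
    (hk₂ : classInner θ₂ (χ : G → ℂ) = k₂) :
    ∃ N : ℕ, classInner θ₁ θ₂ = N ∧ k₁ * k₂ ≤ N := by
  obtain ⟨m, rfl⟩ := exists_decomposition_of_isCharacter h₁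
  obtain ⟨m', rfl⟩ := exists_decomposition_of_isCharacter h₂
  rw [classInner_decomposition_left] at hk₁ hk₂
  have e1 : m χ = k₁ := by exact_mod_cast hk₁
  have e2 : m' χ = k₂ := by exact_mod_cast hk₂
  refine ⟨∑ ψ : IrrCharacter G, m ψ * m' ψ, ?_, ?_⟩
  · rw [classInner_decomposition]
    push_cast
    apply Finset.sum_congr rfl
    intro ψ _
    rw [Complex.conj_natCast]
  · rw [← e1, ← e2]
    exact Finset.single_le_sum (f := fun ψ => m ψ * m' ψ) (fun ψ _ => Nat.zero_le _)
      (Finset.mem_univ χ)

variable {V : Type*} [AddCommGroup V] [Module K V] [FiniteDimensional K V]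

theorem exists_nat_mult (ρ : Representation K G V) (χ : IrrCharacter G) :
    ∃ k : ℕ, classInner (cchar ρ) (χ : G → ℂ) = k :=
  exists_nat_classInner_of_isCharacter (isCharacter_cchar ρ) χ

/-- Every finite-dimensional representation has a model on a coordinate space. -/
theorem exists_fin_model (ρ : Representation K G V) :
    ∃ ρ' : Representation K G (Fin (finrank K V) → K), cchar ρ' = cchar ρ := by
  let b := Module.finBasis K V
  exact ⟨transportK ρ b.equivFun, (cchar_equiv (transportKEquiv ρ b.equivFun)).symm⟩

theorem mult_le_finrank (ρ : Representation K G V) (χ : IrrCharacter G) (k : ℕ)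
    (hk : classInner (cchar ρ) (χ : G → ℂ) = k) : k ≤ finrank K V := by
  obtain ⟨m, hm⟩ := exists_decomposition_of_isCharacter (isCharacter_cchar ρ)
  rw [hm, classInner_decomposition_left] at hk
  have e1 : m χ = k := by exact_mod_cast hk
  have h1 := congrFun hm 1
  rw [cchar_one] at h1
  simp only [Finset.sum_apply, Pi.smul_apply, smul_eq_mul] at h1
  choose n hn0 hn using fun ψ : IrrCharacter G => exists_pos_nat_apply_one ψ.2
  have h2 : (finrank K V : ℂ) = ((∑ ψ : IrrCharacter G, m ψ * n ψ : ℕ) : ℂ) := by
    rw [h1]
    push_cast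
    apply Finset.sum_congr rfl
    intro ψ _
    rw [hn ψ]
  have h3 : finrank K V = ∑ ψ : IrrCharacter G, m ψ * n ψ := by exact_mod_cast h2
  rw [h3, ← e1]
  calc m χ ≤ m χ * n χ := Nat.le_mul_of_pos_right _ (hn0 χ)
    _ ≤ ∑ ψ : IrrCharacter G, m ψ * n ψ :=
      Finset.single_le_sum (f := fun ψ => m ψ * n ψ) (fun ψ _ => Nat.zero_le _)
        (Finset.mem_univ χ)

/-- Minimality data for the Schur index argument. -/
structure MinData (χ : IrrCharacter G) (m d : ℕ) (ρ₀ : Representation K G (Fin d → K)) :
    Prop where
  pos : 0 < m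
  mult : classInner (cchar ρ₀) (χ : G → ℂ) = m
  min : ∀ (n : ℕ) (ρ : Representation K G (Fin n → K)) (k : ℕ),
    classInner (cchar ρ) (χ : G → ℂ) = k → 0 < k → m ≤ k ∧ (k = m → d ≤ n)

theorem MinData.min' {χ : IrrCharacter G} {m d : ℕ} {ρ₀ : Representation K G (Fin d → K)}
    (h : MinData χ m d ρ₀) (ρ : Representation K G V) (k : ℕ)
    (hk : classInner (cchar ρ) (χ : G → ℂ) = k) (hk0 : 0 < k) :
    m ≤ k ∧ (k = m → d ≤ finrank K V) := by
  obtain ⟨ρ', hρ'⟩ := exists_fin_model ρ
  exact h.min _ ρ' k (by rw [hρ', hk]) hk0

theorem MinData.irreducible {χ : IrrCharacter G} {m d : ℕ} {ρ₀ : Representation K G (Fin d → K)}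
    (h : MinData χ m d ρ₀) : ρ₀.IsIrreducible := by
  haveI : NeZero (Nat.card G : K) := ⟨card_ne_zero_K⟩
  have hd : m ≤ d := by
    have := mult_le_finrank ρ₀ χ m h.mult
    simpa using this
  refine { exists_pair_ne := ⟨⊥, ⊤, ?_⟩, eq_bot_or_eq_top := ?_ }
  · intro hbt
    have h2 : (⊥ : Subrepresentation ρ₀).toSubmodule = (⊤ : Subrepresentation ρ₀).toSubmodule := by
      rw [hbt]
    have h3 : (⊥ : Submodule K (Fin d → K)) = ⊤ := h2
    have h4 : finrank K (Fin d → K) = 0 := by
      rw [← finrank_top, ← h3, finrank_bot]
    have h5 : d = 0 := by simpa using h4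
    have := h.pos
    omega
  · intro U
    obtain ⟨U', hU'⟩ := exists_isCompl U
    have e1 := prodEquivOfIsComplK hU'
    have hchar : cchar ρ₀ = cchar U.toRepresentation + cchar U'.toRepresentation := by
      rw [← cchar_equiv e1, cchar_prod]
    obtain ⟨kU, hkU⟩ := exists_nat_mult U.toRepresentation χ
    obtain ⟨kU', hkU'⟩ := exists_nat_mult U'.toRepresentation χ
    have hsum : kU + kU' = m := by
      have := h.mult
      rw [hchar, classInner_add_left, hkU, hkU'] at this
      exact_mod_cast this
    have hc := isCompl_toSubmoduleK hU'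
    have hfr := Submodule.finrank_add_eq_of_isCompl hc
    have hfin : finrank K (Fin d → K) = d := by simp
    rw [hfin] at hfr
    by_cases hk0 : kU = 0
    · left
      have hk' : kU' = m := by omega
      have := (h.min' U'.toRepresentation kU' hkU' (by rw [hk']; exact h.pos)).2 hk'
      have h0 : finrank K U.toSubmodule = 0 := by omega
      apply Subrepresentation.toSubmodule_injective
      exact Submodule.finrank_eq_zero.mp h0
    · right
      have hpos : 0 < kU := Nat.pos_of_ne_zero hk0
      have h1 := h.min' U.toRepresentation kU hkU hpos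
      have hk' : kU = m := by omega
      have h2 := h1.2 hk'
      have h3 : finrank K U.toSubmodule = finrank K (Fin d → K) := by
        rw [hfin]
        omega
      apply Subrepresentation.toSubmodule_injective
      exact Submodule.eq_top_of_finrank_eq h3

theorem MinData.dvd {χ : IrrCharacter G} {m d : ℕ} {ρ₀ : Representation K G (Fin d → K)}
    (h : MinData χ m d ρ₀) :
    ∀ (N : ℕ) (W : Type v) [AddCommGroup W] [Module K W] [FiniteDimensional K W]
      (ρ : Representation K G W), finrank K W = N → ∀ k : ℕ,
      classInner (cchar ρ) (χ : G → ℂ) = k → m ∣ k := by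
  haveI : NeZero (Nat.card G : K) := ⟨card_ne_zero_K⟩
  haveI := h.irreducible
  have hd : m ≤ d := by
    have := mult_le_finrank ρ₀ χ m h.mult
    simpa using this
  intro N
  induction N using Nat.strong_induction_on with
  | _ N ih =>
    intro W _ _ _ ρ hN k hk
    by_cases hk0 : k = 0
    · rw [hk0]
      exact dvd_zero m
    · obtain ⟨N', hN', hge⟩ := exists_nat_classInner_ge (isCharacter_cchar ρ)
        (isCharacter_cchar ρ₀) χ k m hk h.mult
      rw [classInner_cchar ρ ρ₀] at hN'
      have hpos : 0 < finrank K (Representation.IntertwiningMap ρ₀ ρ) := by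
        have e : finrank K (Representation.IntertwiningMap ρ₀ ρ) = N' := by exact_mod_cast hN'
        rw [e]
        have : 0 < k * m := Nat.mul_pos (Nat.pos_of_ne_zero hk0) h.pos
        omega
      obtain ⟨f, hf⟩ := Module.finrank_pos_iff_exists_ne_zero.mp hpos
      have hinj := (Representation.IsIrreducible.injective_or_eq_zero f).resolve_right hf
      have e2 := equivRangeK f hinj
      obtain ⟨T', hT'⟩ := exists_isCompl f.range
      have e3 := prodEquivOfIsComplK hT'
      have hσ : cchar ρ = cchar ρ₀ + cchar T'.toRepresentation := by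
        rw [← cchar_equiv e3, cchar_prod, ← cchar_equiv e2]
      obtain ⟨k', hk'⟩ := exists_nat_mult T'.toRepresentation χ
      have hsum : k = m + k' := by
        have := hk
        rw [hσ, classInner_add_left, h.mult, hk'] at this
        exact_mod_cast this.symm
      have hc := isCompl_toSubmoduleK hT'
      have hfr := Submodule.finrank_add_eq_of_isCompl hc
      have hrange : finrank K f.range.toSubmodule = d := by
        have := e2.toLinearEquiv.finrank_eq
        rw [← this]
        simp
      have hlt : finrank K T'.toSubmodule < N := by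
        have := h.pos
        omega
      have := ih _ hlt T'.toSubmodule T'.toRepresentation rfl k' hk'
      rw [hsum]
      exact Dvd.dvd.add (dvd_refl m) this

open Classical in
theorem exists_minData (χ : IrrCharacter G) (ρ : Representation K G V) (k : ℕ)
    (hk : classInner (cchar ρ) (χ : G → ℂ) = k) (hk0 : 0 < k) :
    ∃ (m d : ℕ) (ρ₀ : Representation K G (Fin d → K)), MinData χ m d ρ₀ := by
  have hP : ∃ m : ℕ, 0 < m ∧ ∃ (n : ℕ) (σ : Representation K G (Fin n → K)),
      classInner (cchar σ) (χ : G → ℂ) = m := by
    obtain ⟨ρ', hρ'⟩ := exists_fin_model ρ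
    exact ⟨k, hk0, _, ρ', by rw [hρ', hk]⟩
  obtain ⟨hm0, hQ⟩ := Nat.find_spec hP
  obtain ⟨ρ₀, hρ₀⟩ := Nat.find_spec hQ
  refine ⟨Nat.find hP, Nat.find hQ, ρ₀, hm0, hρ₀, ?_⟩
  intro n σ j hj hj0
  have h1 : Nat.find hP ≤ j := Nat.find_min' hP ⟨hj0, n, σ, hj⟩
  refine ⟨h1, ?_⟩
  intro hjm
  exact Nat.find_min' hQ ⟨σ, by rw [hj, hjm]⟩

end schur

end Cfsg.Agent.Lib.helper3.SplitK
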