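import Mathlib
import Cfsg.Prelude.Def_Characters
import Cfsg.Agent.Lib.helper3.SplitK3
import Cfsg.Agent.Lib.helper3.BlockIdem

/-!
# Representations over a subfield of the complex numbers: the isotypic projection
-/

set_option autoImplicit false
set_option linter.style.haveILetI false
set_option linter.unusedSectionVars false

namespace Cfsg.Agent.Lib.helper3.SplitK

open Cfsg Module Cfsg.Agent.Lib.helper3.IndFun Cfsg.Agent.Lib.helper3.CharBasic
open Cfsg.Agent.Lib.helper3.Irr
open Representation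
open scoped ComplexConjugate

section proj

variable {K : Type*} [Field K] {G : Type*} [Group G] [Fintype G]
variable {V : Type*} [AddCommGroup V] [Module K V]

/-- A linear combination of the operators of a representation. -/
noncomputable def proj (c : G → K) (ρ : Representation K G V) : V →ₗ[K] V := ∑ g, c g • ρ g

theorem proj_comm (c : G → K) (hc : ∀ g h, c (h * g * h⁻¹) = c g) (ρ : Representation K G V)
    (h : G) : ρ h * proj c ρ = proj c ρ * ρ h := by
  unfold proj
  rw [Finset.mul_sum, Finset.sum_mul]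
  rw [← Equiv.sum_comp (MulAut.conj h).toEquiv (fun g => c g • ρ g * ρ h)]
  apply Finset.sum_congr rfl
  intro g _
  simp only [MulEquiv.toEquiv_eq_coe, EquivLike.coe_coe, MulAut.conj_apply]
  rw [hc g h, mul_smul_comm, smul_mul_assoc, ← map_mul, ← map_mul]
  congr 2
  group

theorem proj_mul (c : G → K) (hconv : ∀ x, ∑ h, c (x * h⁻¹) * c h = c x)
    (ρ : Representation K G V) : proj c ρ * proj c ρ = proj c ρ := by
  unfold proj
  rw [Finset.sum_mul]
  simp_rw [Finset.mul_sum]
  rw [Finset.sum_comm]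
  have h1 : ∀ h : G, ∑ g : G, c g • ρ g * c h • ρ h
      = ∑ x : G, (c (x * h⁻¹) * c h) • ρ x := by
    intro h
    rw [← Equiv.sum_comp (Equiv.mulRight h⁻¹) (fun g => c g • ρ g * c h • ρ h)]
    apply Finset.sum_congr rfl
    intro x _
    simp only [Equiv.coe_mulRight]
    rw [smul_mul_smul_comm, ← map_mul, inv_mul_cancel_right]
  rw [Finset.sum_congr rfl (fun h _ => h1 h), Finset.sum_comm]
  apply Finset.sum_congr rfl
  intro x _
  rw [← Finset.sum_smul, hconv x]

variable [FiniteDimensional K V]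

theorem trace_proj (c : G → K) (ρ : Representation K G V) :
    LinearMap.trace K V (proj c ρ) = ∑ g, c g * ρ.character g := by
  unfold proj
  rw [map_sum]
  apply Finset.sum_congr rfl
  intro g _
  rw [map_smul, smul_eq_mul]
  rfl

end proj

section main

variable {K : Type} [Field K] [Algebra K ℂ] {G : Type*} [Group G] [Fintype G]
variable {V : Type*} [AddCommGroup V] [Module K V] [FiniteDimensional K V]

theorem irr_apply_inv (χ : IrrCharacter G) (g : G) :
    (χ : G → ℂ) g⁻¹ = conj ((χ : G → ℂ) g) := by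
  obtain ⟨n, σ, -, hσ⟩ := χ.2
  rw [← hσ, character_inv σ g]

/-- An irreducible representation over `K` containing once a `K`-valued irreducible complex
character affords that character. -/
theorem cchar_eq_of_mult_one (χ : IrrCharacter G)
    (hval : ∀ g, (χ : G → ℂ) g ∈ Set.range (algebraMap K ℂ))
    (ρ : Representation K G V) [hirr : ρ.IsIrreducible]
    (h1 : classInner (cchar ρ) (χ : G → ℂ) = 1) : cchar ρ = (χ : G → ℂ) := by
  classical
  have inj := (algebraMap K ℂ).injective
  choose kk hkk using hval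
  obtain ⟨dχ, hd0, hdχ⟩ := exists_pos_nat_apply_one χ.2
  have hN0 : (Nat.card G : ℂ) ≠ 0 := by
    have : Nat.card G ≠ 0 := Nat.card_pos.ne'
    exact_mod_cast this
  have hd0' : (dχ : ℂ) ≠ 0 := by
    have : dχ ≠ 0 := hd0.ne'
    exact_mod_cast this
  have hcf := isClassFunction_of_isCharacter (isCharacter_of_isIrrCharacter χ.2)
  obtain ⟨c, hc⟩ : ∃ c : G → K, c = fun g => ((dχ : K) / (Nat.card G : K)) * kk g⁻¹ := ⟨_, rfl⟩
  have hιc : ∀ g, algebraMap K ℂ (c g) = (dχ : ℂ) / (Nat.card G : ℂ) * (χ : G → ℂ) g⁻¹ := by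
    intro g
    rw [hc]
    simp only [map_mul, map_div₀, map_natCast, hkk]
  have hclass : ∀ g h, c (h * g * h⁻¹) = c g := by
    intro g h
    apply inj
    rw [hιc, hιc]
    congr 1
    have : (h * g * h⁻¹)⁻¹ = h * g⁻¹ * h⁻¹ := by group
    rw [this, hcf]
  have hconv : ∀ x, ∑ h, c (x * h⁻¹) * c h = c x := by
    intro x
    apply inj
    rw [map_sum]
    simp_rw [map_mul, hιc]
    have hgo := Cfsg.Agent.Lib.helper3.Block.gen_orthogonality χ χ x⁻¹
    rw [if_pos rfl] at hgo
    have h2 : ∑ h : G, (χ : G → ℂ) (x * h⁻¹)⁻¹ * (χ : G → ℂ) h⁻¹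
        = (Nat.card G : ℂ) * (χ : G → ℂ) x⁻¹ / (χ : G → ℂ) 1 := by
      rw [← hgo, ← Equiv.sum_comp (Equiv.inv G)]
      apply Finset.sum_congr rfl
      intro h _
      simp only [Equiv.inv_apply]
      rw [mul_comm]
      congr 2
      group
    have h3 : ∑ h : G, (dχ : ℂ) / (Nat.card G : ℂ) * (χ : G → ℂ) (x * h⁻¹)⁻¹
        * ((dχ : ℂ) / (Nat.card G : ℂ) * (χ : G → ℂ) h⁻¹)
        = ((dχ : ℂ) / (Nat.card G : ℂ)) ^ 2
          * ∑ h : G, (χ : G → ℂ) (x * h⁻¹)⁻¹ * (χ : G → ℂ) h⁻¹ := by
      rw [Finset.mul_sum]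
      apply Finset.sum_congr rfl
      intro h _
      ring
    rw [h3, h2, hdχ]
    field_simp
  have hE2 := proj_mul c hconv ρ
  have hEcomm := proj_comm c hclass ρ
  have htrace : algebraMap K ℂ (LinearMap.trace K V (proj c ρ)) = (dχ : ℂ) := by
    rw [trace_proj, map_sum]
    simp_rw [map_mul, hιc]
    have h2 : ∑ g : G, (dχ : ℂ) / (Nat.card G : ℂ) * (χ : G → ℂ) g⁻¹
        * algebraMap K ℂ (ρ.character g)
        = (dχ : ℂ) * classInner (cchar ρ) (χ : G → ℂ) := by
      rw [classInner_apply, Finset.mul_sum, Finset.mul_sum]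
      apply Finset.sum_congr rfl
      intro g _
      rw [← irr_apply_inv, cchar_apply]
      field_simp
    rw [h2, h1, mul_one]
  obtain ⟨F, hF⟩ : ∃ F : Representation.IntertwiningMap ρ ρ, F.toLinearMap = proj c ρ := by
    refine ⟨(proj c ρ).intertwiningMap_of_isIntertwiningMap ρ ρ ?_, rfl⟩
    intro g v
    have := congrArg (fun T : V →ₗ[K] V => T v) (hEcomm g)
    exact this.symm
  have hFne : F ≠ 0 := by
    intro h0
    have : proj c ρ = 0 := by
      rw [← hF, h0]
      rfl
    rw [this, map_zero, map_zero] at htrace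
    exact hd0' htrace.symm
  have hinj := (Representation.IsIrreducible.injective_or_eq_zero F).resolve_right hFne
  have hid : proj c ρ = LinearMap.id := by
    apply LinearMap.ext
    intro v
    have h2 : F (proj c ρ v - v) = 0 := by
      have h3 : F (proj c ρ v - v) = (proj c ρ * proj c ρ) v - proj c ρ v := by
        rw [map_sub]
        have : ∀ w, F w = proj c ρ w := fun w => by rw [← hF]; rfl
        rw [this, this]
        rfl
      rw [h3, hE2, sub_self]
    have h4 := hinj (h2.trans (map_zero F).symm)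
    simpa [sub_eq_zero] using h4
  rw [hid, LinearMap.trace_id, map_natCast] at htrace
  have hdim : finrank K V = dχ := by exact_mod_cast htrace
  obtain ⟨m, hm⟩ := exists_decomposition_of_isCharacter (isCharacter_cchar ρ)
  have hmχ : m χ = 1 := by
    rw [hm, classInner_decomposition_left] at h1
    exact_mod_cast h1
  choose n hn0 hn using fun ψ : IrrCharacter G => exists_pos_nat_apply_one ψ.2
  have hnχ : n χ = dχ := by
    have := hn χ
    rw [hdχ] at this
    exact_mod_cast this.symm
  have h5 := congrFun hm 1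
  rw [cchar_one] at h5
  simp only [Finset.sum_apply, Pi.smul_apply, smul_eq_mul] at h5
  have h6 : (finrank K V : ℂ) = ((∑ ψ : IrrCharacter G, m ψ * n ψ : ℕ) : ℂ) := by
    rw [h5]
    push_cast
    apply Finset.sum_congr rfl
    intro ψ _
    rw [hn ψ]
  have h7 : finrank K V = ∑ ψ : IrrCharacter G, m ψ * n ψ := by exact_mod_cast h6
  rw [hdim, ← Finset.add_sum_erase Finset.univ _ (Finset.mem_univ χ), hmχ, hnχ, one_mul] at h7
  have h8 : ∑ ψ ∈ Finset.univ.erase χ, m ψ * n ψ = 0 := by omega
  have h9 : ∀ ψ, ψ ≠ χ → m ψ = 0 := by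
    intro ψ hψ
    have := (Finset.sum_eq_zero_iff.mp h8) ψ (Finset.mem_erase.mpr ⟨hψ, Finset.mem_univ ψ⟩)
    rcases Nat.mul_eq_zero.mp this with h | h
    · exact h
    · have := hn0 ψ
      omega
  rw [hm, Finset.sum_eq_single χ]
  · rw [hmχ, Nat.cast_one, one_smul]
  · intro ψ _ hψ
    rw [h9 ψ hψ, Nat.cast_zero, zero_smul]
  · intro h
    exact absurd (Finset.mem_univ _) h

end main

end Cfsg.Agent.Lib.helper3.SplitK
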