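import Mathlib
import Cfsg.Prelude.Def_Characters
import Cfsg.Agent.Lib.helper3.SplitK2
import Cfsg.Agent.Lib.helper3.SplitK4
import Cfsg.Agent.Lib.helper3.BrauerInd5

/-!
# Representations over a subfield of the complex numbers: irreducible characters are afforded
-/

set_option autoImplicit false
set_option linter.style.haveILetI false
set_option linter.unusedSectionVars false

namespace Cfsg.Agent.Lib.helper3.SplitK

open Cfsg Module Cfsg.Agent.Lib.helper3.IndFun Cfsg.Agent.Lib.helper3.CharBasic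
open Cfsg.Agent.Lib.helper3.Irr Cfsg.Agent.Lib.helper3.BrauerInd
open Representation
open scoped ComplexConjugate

universe u

variable {K : Type} [Field K] [Algebra K ℂ] {G : Type u} [Group G] [Fintype G]

/-- Values of characters are sums of roots of unity. -/
theorem apply_mem_range (hroots : ∀ z : ℂ, z ^ (Monoid.exponent G) = 1 →
    z ∈ Set.range (algebraMap K ℂ)) {χ : G → ℂ} (hχ : IsCharacter G χ) (g : G) :
    χ g ∈ Set.range (algebraMap K ℂ) := by
  obtain ⟨n, ρ, rfl⟩ := hχ
  obtain ⟨I, hI, v, μ, hf, hμ⟩ := exists_eigenbasis ρ g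
  rw [character_eq_sum_of_eigenbasis ρ g v μ hf]
  have : ∀ i, μ i ∈ (algebraMap K ℂ).range := by
    intro i
    apply hroots
    obtain ⟨k, hk⟩ := Monoid.order_dvd_exponent g
    rw [hk, pow_mul, hμ i, one_pow]
  exact Subring.sum_mem _ (fun i _ => this i)

/-- A complex linear character has a model over `K`. -/
theorem exists_lamK (hroots : ∀ z : ℂ, z ^ (Monoid.exponent G) = 1 →
    z ∈ Set.range (algebraMap K ℂ)) (E : Subgroup G) (lam : ↥E →* ℂˣ) :
    ∃ lamK : ↥E →* Kˣ, ∀ e, algebraMap K ℂ ((lamK e : Kˣ) : K) = ((lam e : ℂˣ) : ℂ) := by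
  have inj := (algebraMap K ℂ).injective
  have hmem : ∀ e : ↥E, ((lam e : ℂˣ) : ℂ) ∈ Set.range (algebraMap K ℂ) := by
    intro e
    apply hroots
    rw [← Units.val_pow_eq_pow_val, ← map_pow]
    have : e ^ Monoid.exponent G = 1 := by
      apply Subtype.ext
      simp only [Subgroup.coe_pow, Subgroup.coe_one]
      exact Monoid.pow_exponent_eq_one _
    rw [this, map_one, Units.val_one]
  choose k hk using hmem
  let f : ↥E →* K :=
    { toFun := k
      map_one' := by
        apply inj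
        rw [hk, map_one, map_one, Units.val_one]
      map_mul' := by
        intro a b
        apply inj
        rw [hk, map_mul, map_mul, hk, hk, Units.val_mul] }
  refine ⟨f.toHomUnits, ?_⟩
  intro e
  rw [MonoidHom.coe_toHomUnits]
  exact hk e

/-- Functions induced from linear characters are afforded by representations over `K`. -/
theorem exists_rep_indFun (hroots : ∀ z : ℂ, z ^ (Monoid.exponent G) = 1 →
    z ∈ Set.range (algebraMap K ℂ)) (E : Subgroup G) (lam : ↥E →* ℂˣ) :
    ∃ σ : Representation K G ((G ⧸ E) → K),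
      cchar σ = indFun E (fun e => ((lam e : ℂˣ) : ℂ)) := by
  obtain ⟨lamK, hlamK⟩ := exists_lamK hroots E lam
  refine ⟨monRep E lamK, ?_⟩
  rw [cchar_monRep]
  congr 1
  funext e
  exact hlamK e

theorem classInner_neg_left' (φ ψ : G → ℂ) : classInner (-φ) ψ = - classInner φ ψ := by
  have := classInner_sub_left (0 : G → ℂ) φ ψ
  rw [zero_sub] at this
  rw [this]
  simp [classInner_apply]

/-- Divisibility of the multiplicities in Brauer's span. -/
theorem lspan_inner (χ : IrrCharacter G) (m : ℕ)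
    (hgen : ∀ (E : Subgroup G) (lam : ↥E →* ℂˣ), ∃ k : ℕ,
      classInner (indFun E (fun e => ((lam e : ℂˣ) : ℂ))) (χ : G → ℂ) = k ∧ m ∣ k)
    (f : G → ℂ) (hf : f ∈ LSpan G) : ∃ z : ℤ, classInner f (χ : G → ℂ) = (m : ℂ) * z := by
  induction hf using AddSubgroup.closure_induction with
  | mem f hf =>
    obtain ⟨p, E, lam, -, -, rfl⟩ := hf
    obtain ⟨k, hk, ⟨j, rfl⟩⟩ := hgen E lam
    exact ⟨j, by rw [hk]; push_cast; ring⟩
  | zero =>
    refine ⟨0, ?_⟩
    simp [classInner_apply]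
  | add f₁ f₂ _ _ h₁ h₂ =>
    obtain ⟨z₁, hz₁⟩ := h₁
    obtain ⟨z₂, hz₂⟩ := h₂
    refine ⟨z₁ + z₂, ?_⟩
    rw [classInner_add_left, hz₁, hz₂]
    push_cast
    ring
  | neg f _ h =>
    obtain ⟨z, hz⟩ := h
    refine ⟨-z, ?_⟩
    rw [classInner_neg_left', hz]
    push_cast
    ring

/-- Every irreducible complex character is afforded by a representation over `K`. -/
theorem exists_rep_of_irr (hroots : ∀ z : ℂ, z ^ (Monoid.exponent G) = 1 →
    z ∈ Set.range (algebraMap K ℂ)) (χ : IrrCharacter G) :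
    ∃ (d : ℕ) (ρ₀ : Representation K G (Fin d → K)), cchar ρ₀ = (χ : G → ℂ) := by
  have hχc := isCharacter_of_isIrrCharacter χ.2
  have hbr := brauer_induction (χ : G → ℂ) hχc
  have hself := irr_classInner_self χ.2
  have hmult : ∀ (E : Subgroup G) (lam : ↥E →* ℂˣ), ∃ (σ : Representation K G ((G ⧸ E) → K))
      (k : ℕ), cchar σ = indFun E (fun e => ((lam e : ℂˣ) : ℂ)) ∧
        classInner (cchar σ) (χ : G → ℂ) = k := by
    intro E lam
    obtain ⟨σ, hσ⟩ := exists_rep_indFun hroots E lam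
    obtain ⟨k, hk⟩ := exists_nat_mult σ χ
    exact ⟨σ, k, hσ, hk⟩
  by_cases hex : ∃ (E : Subgroup G) (lam : ↥E →* ℂˣ),
      classInner (indFun E (fun e => ((lam e : ℂˣ) : ℂ))) (χ : G → ℂ) ≠ 0
  · obtain ⟨E, lam, hne⟩ := hex
    obtain ⟨σ, k, hσ, hk⟩ := hmult E lam
    have hk0 : 0 < k := by
      rcases Nat.eq_zero_or_pos k with h | h
      · exfalso
        apply hne
        rw [← hσ, hk, h, Nat.cast_zero]
      · exact h
    obtain ⟨m, d, ρ₀, hmin⟩ := exists_minData χ σ k hk hk0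
    have hgen : ∀ (E : Subgroup G) (lam : ↥E →* ℂˣ), ∃ k : ℕ,
        classInner (indFun E (fun e => ((lam e : ℂˣ) : ℂ))) (χ : G → ℂ) = k ∧ m ∣ k := by
      intro E' lam'
      obtain ⟨σ', k', hσ', hk'⟩ := hmult E' lam'
      refine ⟨k', by rw [← hσ', hk'], ?_⟩
      exact hmin.dvd _ _ σ' rfl k' hk'
    obtain ⟨z, hz⟩ := lspan_inner χ m hgen _ hbr
    rw [hself] at hz
    have hz' : (m : ℤ) * z = 1 := by exact_mod_cast hz.symm
    have hm1 : m = 1 := by
      have h1 : (m : ℤ) ∣ 1 := ⟨z, hz'.symm⟩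
      have h2 : (m : ℤ) = 1 := by
        have hpos : (0 : ℤ) ≤ m := Int.natCast_nonneg m
        exact Int.eq_one_of_dvd_one hpos h1
      exact_mod_cast h2
    have hmult1 : classInner (cchar ρ₀) (χ : G → ℂ) = 1 := by
      rw [hmin.mult, hm1, Nat.cast_one]
    haveI := hmin.irreducible
    exact ⟨d, ρ₀, cchar_eq_of_mult_one χ (apply_mem_range hroots hχc) ρ₀ hmult1⟩
  · exfalso
    push Not at hex
    have hgen : ∀ (E : Subgroup G) (lam : ↥E →* ℂˣ), ∃ k : ℕ,
        classInner (indFun E (fun e => ((lam e : ℂˣ) : ℂ))) (χ : G → ℂ) = k ∧ 0 ∣ k := by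
      intro E lam
      exact ⟨0, by rw [hex E lam, Nat.cast_zero], dvd_refl 0⟩
    obtain ⟨z, hz⟩ := lspan_inner χ 0 hgen _ hbr
    rw [hself] at hz
    simp at hz

end Cfsg.Agent.Lib.helper3.SplitK
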