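import Mathlib
import Cfsg.Prelude.Def_Characters
import Cfsg.Agent.Lib.helper3.SplitK5

/-!
# Brauer's splitting field theorem for a subfield containing enough roots of unity
-/

set_option autoImplicit false
set_option linter.style.haveILetI false
set_option linter.unusedSectionVars false

namespace Cfsg.Agent.Lib.helper3.SplitK

open Cfsg Module Cfsg.Agent.Lib.helper3.IndFun Cfsg.Agent.Lib.helper3.CharBasic
open Cfsg.Agent.Lib.helper3.Irr Cfsg.Agent.Lib.helper3.BrauerInd
open Representation
open scoped ComplexConjugate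

universe u

variable (K : Type) [Field K] [Algebra K ℂ] {G : Type u} [Group G] [Fintype G]

/-- A complex function afforded by a representation over `K` on a coordinate space. -/
def KReal (θ : G → ℂ) : Prop :=
  ∃ (d : ℕ) (σ : Representation K G (Fin d → K)), cchar σ = θ

variable {K}

theorem KReal.zero : KReal K (0 : G → ℂ) := by
  refine ⟨0, 1, ?_⟩
  funext g
  rw [cchar_apply]
  unfold Representation.character
  have : ((1 : Representation K G (Fin 0 → K)) g) = 0 := Subsingleton.elim _ _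
  rw [this, map_zero, map_zero]
  rfl

theorem KReal.add {θ₁ θ₂ : G → ℂ} (h₁ : KReal K θ₁) (h₂ : KReal K θ₂) : KReal K (θ₁ + θ₂) := by
  obtain ⟨d₁, σ₁, rfl⟩ := h₁
  obtain ⟨d₂, σ₂, rfl⟩ := h₂
  obtain ⟨σ, hσ⟩ := exists_fin_model (σ₁.prod σ₂)
  exact ⟨_, σ, by rw [hσ, cchar_prod]⟩

theorem KReal.nsmul {θ : G → ℂ} (h : KReal K θ) (n : ℕ) : KReal K ((n : ℂ) • θ) := by
  induction n with
  | zero =>
    rw [Nat.cast_zero, zero_smul]
    exact KReal.zero
  | succ n ih =>
    rw [Nat.cast_succ, add_smul, one_smul]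
    exact ih.add h

theorem KReal.sum {ι : Type*} (s : Finset ι) (f : ι → G → ℂ) (h : ∀ i ∈ s, KReal K (f i)) :
    KReal K (∑ i ∈ s, f i) := by
  classical
  induction s using Finset.induction_on with
  | empty =>
    rw [Finset.sum_empty]
    exact KReal.zero
  | insert a s ha ih =>
    rw [Finset.sum_insert ha]
    exact (h a (Finset.mem_insert_self a s)).add
      (ih (fun i hi => h i (Finset.mem_insert_of_mem hi)))

theorem kreal_of_isCharacter (hroots : ∀ z : ℂ, z ^ (Monoid.exponent G) = 1 →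
    z ∈ Set.range (algebraMap K ℂ)) {θ : G → ℂ} (hθ : IsCharacter G θ) : KReal K θ := by
  obtain ⟨m, rfl⟩ := exists_decomposition_of_isCharacter hθ
  apply KReal.sum
  intro ψ _
  apply KReal.nsmul
  obtain ⟨d, ρ₀, h⟩ := exists_rep_of_irr hroots ψ
  exact ⟨d, ρ₀, h⟩

/-- Brauer's splitting field theorem for `K`. -/
theorem splitting (hroots : ∀ z : ℂ, z ^ (Monoid.exponent G) = 1 →
    z ∈ Set.range (algebraMap K ℂ)) (n : ℕ) (ρ : Representation ℂ G (Fin n → ℂ)) :
    ∃ σ : Representation ℂ G (Fin n → ℂ), Nonempty (ρ.Equiv σ) ∧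
      ∀ g : G, ∀ i j : Fin n, LinearMap.toMatrix' (σ g) i j ∈ Set.range (algebraMap K ℂ) := by
  obtain ⟨d, σK, hσK⟩ := kreal_of_isCharacter hroots (⟨n, ρ, rfl⟩ : IsCharacter G ρ.character)
  obtain ⟨ρ', hmat, hchar⟩ := exists_complexification σK
  have hfin : finrank K (Fin d → K) = n := by
    have h1 := congrFun hσK 1
    rw [cchar_one, Representation.char_one] at h1
    have h2 : finrank ℂ (Fin n → ℂ) = n := by simp
    rw [h2] at h1
    exact_mod_cast h1
  generalize finrank K (Fin d → K) = n' at ρ' hmat hchar hfin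
  subst hfin
  refine ⟨ρ', ?_, hmat⟩
  exact nonempty_equiv_of_character_eq _ _ _ ρ ρ' rfl (by rw [hchar, hσK])

end Cfsg.Agent.Lib.helper3.SplitK
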