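import Mathlib

/-!
# Derived series of Sylow subgroups under quotients

Group-theoretic tools for "the derived length of a Sylow `p`-subgroup of a `p`-solvable group is
at most one more than the number of irreducible characters of degree divisible by `p`".
-/

set_option autoImplicit false
set_option linter.style.haveILetI false

namespace Cfsg.Agent.Lib.helper3.SylDL

open scoped commutatorElement

variable {G : Type*} [Group G]

/-- If the derived series of the image of `P` vanishes at `k`, the `k`-th derived subgroup of `P`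
maps to `1`. -/
theorem map_eq_one_of_derivedSeries_map {G' : Type*} [Group G'] (f : G →* G') (P : Subgroup G)
    (k : ℕ) (h : derivedSeries ↥(P.map f) k = ⊥) :
    ∀ x ∈ derivedSeries ↥P k, f (x : G) = 1 := by
  intro x hx
  have h1 : (f.subgroupMap P) x ∈ (derivedSeries ↥P k).map (f.subgroupMap P) :=
    Subgroup.mem_map_of_mem _ hx
  have h2 := map_derivedSeries_le_derivedSeries (f.subgroupMap P) k h1
  rw [h, Subgroup.mem_bot] at h2
  exact congrArg Subtype.val h2

/-- If `f` is injective on `P`, the derived length does not grow. -/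
theorem derivedSeries_eq_bot_of_injOn {G' : Type*} [Group G'] (f : G →* G') (P : Subgroup G)
    (k : ℕ) (h : derivedSeries ↥(P.map f) k = ⊥) (hinj : ∀ x ∈ P, f x = 1 → x = 1) :
    derivedSeries ↥P k = ⊥ := by
  rw [eq_bot_iff]
  intro x hx
  rw [Subgroup.mem_bot]
  have h1 := map_eq_one_of_derivedSeries_map f P k h x hx
  exact Subtype.ext (hinj x x.2 h1)

/-- If the kernel of `f` is abelian, the derived length grows by at most one. -/
theorem derivedSeries_succ_eq_bot_of_ker_comm {G' : Type*} [Group G'] (f : G →* G')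
    (P : Subgroup G) (k : ℕ) (h : derivedSeries ↥(P.map f) k = ⊥)
    (hc : ∀ a b : G, f a = 1 → f b = 1 → a * b = b * a) :
    derivedSeries ↥P (k + 1) = ⊥ := by
  rw [derivedSeries_succ, eq_bot_iff, Subgroup.commutator_le]
  intro a ha b hb
  rw [Subgroup.mem_bot, commutatorElement_def]
  have h1 := map_eq_one_of_derivedSeries_map f P k h a ha
  have h2 := map_eq_one_of_derivedSeries_map f P k h b hb
  have h3 := hc a b h1 h2
  apply Subtype.ext
  push_cast
  calc (a : G) * b * (a : G)⁻¹ * (b : G)⁻¹ = (a : G) * b * ((b : G) * a)⁻¹ := by group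
    _ = 1 := by rw [← h3]; group

/-- The derived series is antitone: vanishing at `k` gives vanishing at `k' ≥ k`. -/
theorem derivedSeries_eq_bot_of_le (H : Type*) [Group H] {k k' : ℕ} (hk : k ≤ k')
    (h : derivedSeries H k = ⊥) : derivedSeries H k' = ⊥ := by
  rw [eq_bot_iff, ← h]
  exact derivedSeries_antitone H hk

/-- A trivial group has trivial derived series. -/
theorem derivedSeries_eq_bot_of_subsingleton (H : Type*) [Group H] [Subsingleton H] (k : ℕ) :
    derivedSeries H k = ⊥ := Subsingleton.elim _ _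

/-- In a finite group, a nontrivial normal `p`-subgroup `W` contains a nontrivial abelian subgroup
which is normal in the whole group. -/
theorem exists_normal_abelian_le [Finite G] (p : ℕ) [hp : Fact p.Prime] (W : Subgroup G)
    [hW : W.Normal] (hWp : IsPGroup p W) (hne : W ≠ ⊥) :
    ∃ A : Subgroup G, A.Normal ∧ A ≠ ⊥ ∧ A ≤ W ∧ ∀ a ∈ A, ∀ b ∈ A, a * b = b * a := by
  classical
  -- choose `A` of minimal order
  let S : Set ℕ := {n | ∃ A : Subgroup G, A.Normal ∧ A ≠ ⊥ ∧ A ≤ W ∧ Nat.card A = n}
  have hS : S.Nonempty := ⟨Nat.card W, W, hW, hne, le_rfl, rfl⟩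
  obtain ⟨A, hAn, hAne, hAW, hAcard⟩ := Nat.sInf_mem hS
  haveI := hAn
  have hmin : ∀ B : Subgroup G, B.Normal → B ≠ ⊥ → B ≤ W → Nat.card A ≤ Nat.card B := by
    intro B hBn hBne hBW
    rw [hAcard]
    exact Nat.sInf_le ⟨B, hBn, hBne, hBW, rfl⟩
  refine ⟨A, hAn, hAne, hAW, ?_⟩
  have hcomm : ⁅A, A⁆ = ⊥ := by
    by_contra hcne
    haveI hcn : (⁅A, A⁆ : Subgroup G).Normal := Subgroup.commutator_normal A A
    have hle : ⁅A, A⁆ ≤ A := Subgroup.commutator_le_left A A
    have h1 := hmin ⁅A, A⁆ hcn hcne (hle.trans hAW)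
    have heq : ⁅A, A⁆ = A := by
      apply Subgroup.eq_of_le_of_card_ge hle h1
    -- but `A` is a nontrivial `p`-group
    have hAp : IsPGroup p A := hWp.to_le hAW
    haveI : Group.IsNilpotent A := hAp.isNilpotent
    haveI : Nontrivial A := (Subgroup.nontrivial_iff_ne_bot A).2 hAne
    have h2 := IsSolvable.commutator_lt_top_of_nontrivial (G := A)
    apply h2.ne
    have h3 : (commutator A).map A.subtype = (⊤ : Subgroup A).map A.subtype := by
      rw [Subgroup.map_subtype_commutator, heq, ← MonoidHom.range_eq_map, Subgroup.range_subtype]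
    exact Subgroup.map_injective A.subtype_injective h3
  intro a ha b hb
  have h1 : ⁅a, b⁆ ∈ ⁅A, A⁆ := Subgroup.commutator_mem_commutator ha hb
  rw [hcomm, Subgroup.mem_bot, commutatorElement_def] at h1
  calc a * b = a * b * a⁻¹ * b⁻¹ * (b * a) := by group
    _ = b * a := by rw [h1, one_mul]

end Cfsg.Agent.Lib.helper3.SylDL
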