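import Mathlib
import Cfsg.Prelude.Def_Characters
import Cfsg.Prelude.Def_Blocks
import Cfsg.Agent.Lib.helper3.NormalSylow2
import Cfsg.Agent.Lib.helper3.Pdeg2
import Cfsg.Agent.Lib.helper3.Inflate2
import Cfsg.Agent.Lib.helper3.Irr11
import Cfsg.Agent.Lib.helper3.TransferChar

/-!
# Characters of degree divisible by `p`: counting under quotients, invariant constituents
-/

set_option autoImplicit false
set_option linter.style.haveILetI false
set_option linter.unusedSectionVars false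

namespace Cfsg.Agent.Lib.helper3.SylDL

open Cfsg Module Cfsg.Agent.Lib.helper3.Irr Cfsg.Agent.Lib.helper3.CharBasic
open Cfsg.Agent.Lib.helper3.IndFun Cfsg.Agent.Lib.helper3.PRes Cfsg.Agent.Lib.helper3.GalPow
open Cfsg.Agent.Lib.helper3.NormalSylow Cfsg.Agent.Lib.helper3.Pdeg Cfsg.Agent.Lib.helper3.Lin
open scoped commutatorElement ComplexConjugate

universe u

variable {G : Type u} [Group G]

/-- The number of irreducible characters of degree divisible by `p`. -/
noncomputable def nS (p : ℕ) (G : Type u) [Group G] : ℕ :=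
  Nat.card {χ : IrrCharacter G // p ∣ charDegree (χ : G → ℂ)}

theorem charDegree_inflate (N : Subgroup G) [N.Normal] (ψ : G ⧸ N → ℂ) :
    charDegree (inflate N ψ) = charDegree ψ := by
  unfold charDegree
  rw [inflate_apply, QuotientGroup.mk_one]

/-- Inflation on the characters of degree divisible by `p`. -/
noncomputable def inflSub [Finite G] (p : ℕ) (N : Subgroup G) [N.Normal] :
    {ψ : IrrCharacter (G ⧸ N) // p ∣ charDegree (ψ : G ⧸ N → ℂ)} →
      {χ : IrrCharacter G // p ∣ charDegree (χ : G → ℂ)} :=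
  fun ψ => ⟨⟨inflate N (ψ.1 : G ⧸ N → ℂ), isIrrCharacter_inflate N ψ.1.2⟩, by
    show p ∣ charDegree (inflate N (ψ.1 : G ⧸ N → ℂ))
    rw [charDegree_inflate]
    exact ψ.2⟩

theorem inflSub_injective [Finite G] (p : ℕ) (N : Subgroup G) [N.Normal] :
    Function.Injective (inflSub p N) := by
  intro ψ φ h
  have h1 : inflate N (ψ.1 : G ⧸ N → ℂ) = inflate N (φ.1 : G ⧸ N → ℂ) :=
    congrArg (fun χ : {χ : IrrCharacter G // p ∣ charDegree (χ : G → ℂ)} => ((χ.1 : IrrCharacter G) : G → ℂ)) h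
  exact Subtype.ext (Subtype.ext (inflate_injective N h1))

theorem nS_quotient_le [Finite G] (p : ℕ) (N : Subgroup G) [N.Normal] :
    nS p (G ⧸ N) ≤ nS p G :=
  Nat.card_le_card_of_injective _ (inflSub_injective p N)

theorem nS_quotient_succ_le [Finite G] (p : ℕ) (N : Subgroup G) [N.Normal]
    (h : ∃ χ : IrrCharacter G, p ∣ charDegree (χ : G → ℂ) ∧ ∃ x ∈ N, (χ : G → ℂ) x ≠ (χ : G → ℂ) 1) :
    nS p (G ⧸ N) + 1 ≤ nS p G := by
  classical
  obtain ⟨χ, hχ, x, hx, hne⟩ := h
  unfold nS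
  rw [Nat.card_eq_fintype_card, Nat.card_eq_fintype_card]
  apply Fintype.card_lt_of_injective_of_notMem (inflSub p N) (inflSub_injective p N)
    (b := ⟨χ, hχ⟩)
  rintro ⟨ψ, hψ⟩
  apply hne
  have h1 : (χ : G → ℂ) = inflate N (ψ.1 : G ⧸ N → ℂ) :=
    (congrArg (fun χ : {χ : IrrCharacter G // p ∣ charDegree (χ : G → ℂ)} => ((χ.1 : IrrCharacter G) : G → ℂ)) hψ).symm
  rw [h1]
  exact inflate_apply_of_mem N _ hx

/-- A character of `p'`-degree has an irreducible constituent on the normal subgroup `N` invariant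
under the subgroup `Y ≥ N` when `Y / N` is a `p`-group. -/
theorem exists_invariant_constituent_sub [Finite G] (N : Subgroup G) [hN : N.Normal] [Fintype N]
    (Y : Subgroup G) (p k : ℕ) (hp : p.Prime) (hidx : N.relIndex Y = p ^ k)
    (χ : G → ℂ) (hχ : IsCharacter G χ) (dχ : ℕ) (hdχ : χ 1 = dχ) (hpd : ¬ p ∣ dχ) :
    ∃ ψ : IrrCharacter N, classInner (fun n : N => χ n) (ψ : N → ℂ) ≠ 0 ∧
      (∀ g ∈ Y, ∀ n : N,
        (ψ : N → ℂ) ⟨g * n * g⁻¹, hN.conj_mem (n : G) n.2 g⟩ = (ψ : N → ℂ) n) := by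
  classical
  letI : Fintype G := Fintype.ofFinite G
  letI := conjAction N
  letI : MulAction Y (IrrCharacter N) := MulAction.compHom (IrrCharacter N) Y.subtype
  have hsm : ∀ (y : Y) (φ : IrrCharacter N), y • φ = (y : G) • φ := fun _ _ => rfl
  have hres : IsCharacter N (fun n : N => χ n) := isCharacter_restrict hχ N
  have hcf := isClassFunction_of_isCharacter hχ
  choose m hm using fun φ : IrrCharacter N => exists_nat_classInner_of_isCharacter hres φ
  choose deg hdeg using fun φ : IrrCharacter N =>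
    Cfsg.Agent.Lib.helper3.Central.irr_degree_dvd_card φ.2
  by_contra hcon
  push Not at hcon
  have hsum : ((∑ φ : IrrCharacter N, ((m φ : ℤ) * (deg φ : ℤ)) : ℤ) : ℂ) = (dχ : ℂ) := by
    have h1 := congrFun (isCharacter_eq_sum_classInner hres) 1
    simp only [Finset.sum_apply, Pi.smul_apply, smul_eq_mul] at h1
    rw [← hdχ]
    push_cast
    rw [show χ 1 = χ ((1 : N) : G) from rfl, h1]
    apply Finset.sum_congr rfl
    intro φ _
    rw [hm φ, (hdeg φ).1]
  have hdvd : (p : ℤ) ∣ ∑ φ : IrrCharacter N, ((m φ : ℤ) * (deg φ : ℤ)) := by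
    apply dvd_sum_of_orbits (Γ := Y) p (fun φ : IrrCharacter N => (m φ : ℤ) * (deg φ : ℤ))
    · intro y φ
      rw [hsm]
      have e1 : m ((y : G) • φ) = m φ := by
        have h1 : ((m ((y : G) • φ) : ℕ) : ℂ) = (m φ : ℂ) := by
          rw [← hm, ← hm]
          have h2 : (((y : G) • φ : IrrCharacter N) : N → ℂ) = conjFun N (φ : N → ℂ) (y : G)⁻¹ := by
            rw [conjFun_eq_comp]
            rfl
          rw [h2]
          exact classInner_restrict_conjFun N χ hcf (φ : N → ℂ) (y : G)⁻¹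
        exact_mod_cast h1
      have e2 : deg ((y : G) • φ) = deg φ := by
        have h1 : ((deg ((y : G) • φ) : ℕ) : ℂ) = (deg φ : ℂ) := by
          rw [← (hdeg _).1, ← (hdeg _).1]
          exact conjAction_apply_one N (y : G) φ
        exact_mod_cast h1
      simp only [e1, e2]
    · intro φ
      have h1 : N.subgroupOf Y ≤ MulAction.stabilizer Y φ := by
        intro y hy
        rw [Subgroup.mem_subgroupOf] at hy
        rw [MulAction.mem_stabilizer_iff, hsm]
        apply Subtype.ext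
        funext n
        rw [conjAction_apply]
        have hcfφ := isClassFunction_of_isCharacter (isCharacter_of_isIrrCharacter φ.2)
        have := hcfφ n ⟨(y : G)⁻¹, N.inv_mem hy⟩
        rw [← this]
        apply congrArg (φ : N → ℂ)
        apply Subtype.ext
        simp
      have h2 := Subgroup.index_dvd_of_le h1
      rw [MulAction.index_stabilizer, ← Nat.card_coe_set_eq] at h2
      have h3 : (N.subgroupOf Y).index = p ^ k := hidx
      rw [h3] at h2
      obtain ⟨j, _, hj⟩ := (Nat.dvd_prime_pow hp).mp h2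
      exact ⟨j, hj⟩
    · intro φ hφ
      by_cases h0 : m φ = 0
      · rw [h0]
        simp
      · exfalso
        have hne : classInner (fun n : N => χ n) (φ : N → ℂ) ≠ 0 := by
          rw [hm φ]
          exact_mod_cast h0
        obtain ⟨g, hg, n, hgn⟩ := hcon φ hne
        apply hgn
        have h1 := hφ ⟨g⁻¹, Y.inv_mem hg⟩
        rw [hsm] at h1
        have h2 := congrArg (fun ψ : IrrCharacter N => (ψ : N → ℂ) n) h1
        simp only at h2
        rw [conjAction_apply] at h2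
        rw [← h2]
        apply congrArg (φ : N → ℂ)
        apply Subtype.ext
        simp
  apply hpd
  have h3 : (∑ φ : IrrCharacter N, ((m φ : ℤ) * (deg φ : ℤ)) : ℤ) = (dχ : ℤ) := by
    exact_mod_cast hsum
  rw [h3] at hdvd
  exact_mod_cast hdvd

/-- If `χ` has `p'`-degree, `Y ⊵ K` are normal with `Y / K` a `p`-group, then every irreducible
constituent of `χ` on `K` is `Y`-invariant. -/
theorem invariant_of_pdeg_over [Finite G] (K : Subgroup G) [hK : K.Normal] [Fintype K]
    (Y : Subgroup G) [hY : Y.Normal] (p k : ℕ) (hp : p.Prime) (hidx : K.relIndex Y = p ^ k)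
    (χ : IrrCharacter G) (dχ : ℕ) (hdχ : (χ : G → ℂ) 1 = dχ) (hpd : ¬ p ∣ dχ)
    (θ : IrrCharacter K)
    (hθ : classInner (fun n : K => (χ : G → ℂ) n) (θ : K → ℂ) ≠ 0) :
    ∀ y ∈ Y, ∀ m : K, (θ : K → ℂ) ⟨y * m * y⁻¹, hK.conj_mem (m : G) m.2 y⟩ = (θ : K → ℂ) m := by
  classical
  letI : Fintype G := Fintype.ofFinite G
  obtain ⟨ψ, hψ, hinv⟩ := exists_invariant_constituent_sub K Y p k hp hidx (χ : G → ℂ)
    (isCharacter_of_isIrrCharacter χ.2) dχ hdχ hpd
  obtain ⟨g₀, hg₀⟩ := exists_conj_of_constituents K (χ : G → ℂ) χ.2 ψ θ hψ hθ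
  intro y hy m
  rw [hg₀]
  unfold conjFun
  have hy' : g₀ * y * g₀⁻¹ ∈ Y := hY.conj_mem y hy g₀
  have := hinv (g₀ * y * g₀⁻¹) hy' ⟨g₀ * m * g₀⁻¹, hK.conj_mem (m : G) m.2 g₀⟩
  rw [← this]
  apply congrArg (ψ : K → ℂ)
  apply Subtype.ext
  show g₀ * (y * (m : G) * y⁻¹) * g₀⁻¹ = g₀ * y * g₀⁻¹ * (g₀ * (m : G) * g₀⁻¹) * (g₀ * y * g₀⁻¹)⁻¹
  group

/-- If `χ` is trivial on `K`, its only irreducible constituent on `K` is the trivial character. -/
theorem eq_one_of_trivial_over [Finite G] (K : Subgroup G) [Fintype K]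
    (χ : G → ℂ) (htriv : ∀ x ∈ K, χ x = χ 1) (θ : IrrCharacter K)
    (hθ : classInner (fun n : K => χ n) (θ : K → ℂ) ≠ 0) :
    (θ : K → ℂ) = fun _ => 1 := by
  by_contra hne
  apply hθ
  have h1 : (fun n : K => χ n) = (χ 1) • (fun _ : K => (1 : ℂ)) := by
    funext n
    rw [Pi.smul_apply, smul_eq_mul, mul_one]
    exact htriv n n.2
  rw [h1, classInner_smul_left,
    irr_classInner_eq_zero isIrrCharacter_one θ.2 (fun h => hne h.symm), mul_zero]

/-- The key step: if a `p`-element outside the normal `p'`-subgroup `K ≥ C_G(K)` lies in a normal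
subgroup `Y` with `Y / K` a `p`-group, then some irreducible character of degree divisible by `p`
is nontrivial on `K`. -/
theorem exists_pdvd_nontrivial [Finite G] (p : ℕ) [hp : Fact p.Prime] (K : Subgroup G)
    [hK : K.Normal] (hcop : (Nat.card K).Coprime p)
    (hcent : Subgroup.centralizer (K : Set G) ≤ K)
    (Y : Subgroup G) [hY : Y.Normal] (k : ℕ) (hidx : K.relIndex Y = p ^ k)
    (Q : Subgroup G) (hQ : IsPGroup p Q) (hQY : Q ≤ Y) (x : G) (hxQ : x ∈ Q) (hxK : x ∉ K) :
    ∃ χ : IrrCharacter G, p ∣ charDegree (χ : G → ℂ) ∧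
      ∃ x ∈ K, (χ : G → ℂ) x ≠ (χ : G → ℂ) 1 := by
  classical
  letI : Fintype G := Fintype.ofFinite G
  letI : Fintype K := Fintype.ofFinite K
  by_contra hcon
  push Not at hcon
  -- every irreducible character of `K` is `Y`-invariant
  have hinv : ∀ (θ : IrrCharacter K), ∀ y ∈ Y, ∀ m : K,
      (θ : K → ℂ) ⟨y * m * y⁻¹, hK.conj_mem (m : G) m.2 y⟩ = (θ : K → ℂ) m := by
    intro θ
    obtain ⟨χ, hχ⟩ := exists_irr_over K (θ : K → ℂ) θ.2
    obtain ⟨n, hn, -, -⟩ := Cfsg.Agent.Lib.helper3.Central.irr_degree_dvd_card χ.2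
    by_cases hpn : p ∣ n
    · have htriv : ∀ x ∈ K, (χ : G → ℂ) x = (χ : G → ℂ) 1 := by
        apply hcon χ
        rw [charDegree_eq' hn]
        exact hpn
      have h1 := eq_one_of_trivial_over K (χ : G → ℂ) htriv θ hχ
      intro y _ m
      rw [h1]
    · exact invariant_of_pdeg_over K Y p k hp.out hidx χ n hn hpn θ hχ
  have hcl : ∀ y ∈ Q, ∀ m : K, IsConj (MulAut.conjNormal y m) m := by
    intro y hy m
    apply isConj_conjNormal_of_invariant K y
    intro θ m'
    have := hinv θ y (hQY hy) m'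
    rw [← this]
    apply congrArg (θ : K → ℂ)
    apply Subtype.ext
    rw [MulAut.conjNormal_apply]
  have hcomm := commute_of_class_fixed p K hcop Q hQ hcl
  apply hxK
  apply hcent
  rw [Subgroup.mem_centralizer_iff]
  intro m hm
  exact (hcomm x hxQ m hm).symm

/-- A character of `p'`-degree is trivial on the derived subgroup of a normal `p`-subgroup. -/
theorem apply_eq_of_mem_commutator [Finite G] (p : ℕ) [hp : Fact p.Prime] (U : Subgroup G)
    [hU : U.Normal] (hUp : IsPGroup p U) (χ : IrrCharacter G) (dχ : ℕ)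
    (hdχ : (χ : G → ℂ) 1 = dχ) (hpd : ¬ p ∣ dχ) (u : G) (hu : u ∈ ⁅U, U⁆) :
    (χ : G → ℂ) u = (χ : G → ℂ) 1 := by
  classical
  letI : Fintype G := Fintype.ofFinite G
  letI : Fintype U := Fintype.ofFinite U
  have huU : u ∈ U := Subgroup.commutator_le_left U U hu
  have hres : IsCharacter U (fun n : U => (χ : G → ℂ) n) :=
    isCharacter_restrict (isCharacter_of_isIrrCharacter χ.2) U
  have hdec := isCharacter_eq_sum_classInner hres
  have h1 := congrFun hdec ⟨u, huU⟩
  have h2 := congrFun hdec 1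
  simp only [Finset.sum_apply, Pi.smul_apply, smul_eq_mul] at h1 h2
  have hu' : (⟨u, huU⟩ : U) ∈ commutator U := by
    have h3 : u ∈ (commutator U).map U.subtype := by
      rw [Subgroup.map_subtype_commutator]
      exact hu
    obtain ⟨v, hv, hvu⟩ := h3
    have : v = ⟨u, huU⟩ := Subtype.ext hvu
    rw [← this]
    exact hv
  show (χ : G → ℂ) u = (χ : G → ℂ) ((1 : U) : G)
  rw [h1, h2]
  apply Finset.sum_congr rfl
  intro ψ _
  by_cases h0 : classInner (fun n : U => (χ : G → ℂ) n) (ψ : U → ℂ) = 0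
  · rw [h0, zero_mul, zero_mul]
  · congr 1
    obtain ⟨d, hd, hdvd, hpos⟩ := Cfsg.Agent.Lib.helper3.Central.irr_degree_dvd_card ψ.2
    have hd1 : d ∣ dχ := constituent_degree_dvd U (χ : G → ℂ) χ.2 (ψ : U → ℂ) ψ.2 h0 dχ d hdχ hd
    obtain ⟨a, ha⟩ := IsPGroup.iff_card.1 hUp
    rw [ha] at hdvd
    obtain ⟨j, -, hj⟩ := (Nat.dvd_prime_pow hp.out).1 hdvd
    have hj0 : j = 0 := by
      by_contra hj0
      apply hpd
      refine dvd_trans ?_ hd1
      rw [hj]
      exact dvd_pow_self p hj0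
    rw [hj0, pow_zero] at hj
    rw [hj, Nat.cast_one] at hd
    -- `ψ` is linear
    have hc := isCharacter_of_isIrrCharacter ψ.2
    have hker : (⟨u, huU⟩ : U) ∈ (toUnitsHom hc hd).ker :=
      Abelianization.commutator_subset_ker _ hu'
    rw [MonoidHom.mem_ker] at hker
    have h4 := toUnitsHom_apply hc hd ⟨u, huU⟩
    rw [hker] at h4
    rw [hd, ← h4]
    rfl

end Cfsg.Agent.Lib.helper3.SylDL
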