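import Mathlib
import Cfsg.Prelude.Def_Characters
import Cfsg.Prelude.Def_Blocks
import Cfsg.Prelude.Def_Local
import Cfsg.Agent.Lib.helper3.SylDL1
import Cfsg.Agent.Lib.helper3.SylDL2
import Cfsg.Agent.Lib.Lead.PSolvable
import Cfsg.Agent.Lib.Lead.PiCore
import Cfsg.Agent.Lib.Lead.ExpSix
import Cfsg.Agent.H1.QuadThree
import Cfsg.Agent.H9.Cores

/-!
# Derived length of a Sylow `p`-subgroup of a `p`-solvable group

`dl(P) ≤ n + 1` where `n` is the number of irreducible characters of degree divisible by `p`.
-/

set_option autoImplicit false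
set_option linter.style.haveILetI false
set_option linter.unusedSectionVars false

namespace Cfsg.Agent.Lib.helper3.SylDL

open Cfsg Module Cfsg.Agent.Lib.helper3.Irr Cfsg.Agent.Lib.helper3.CharBasic
open Cfsg.Agent.Lib.helper3.Pdeg
open Cfsg.Agent.Lib.Lead.PSolvable Cfsg.Agent.Lib.Lead.PiCore
open scoped commutatorElement

universe u

variable {G : Type u} [Group G]

/-- Passing from the quotient by a normal `p'`-subgroup. -/
theorem step_coprime [Finite G] (p : ℕ) [hp : Fact p.Prime] (N : Subgroup G) [N.Normal]
    (hcop : (Nat.card N).Coprime p) (k : ℕ)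
    (hQ : ∀ Q : Sylow p (G ⧸ N), derivedSeries ↥(Q : Subgroup (G ⧸ N)) k = ⊥) (P : Sylow p G) :
    derivedSeries ↥(P : Subgroup G) k = ⊥ := by
  apply derivedSeries_eq_bot_of_injOn (QuotientGroup.mk' N) (P : Subgroup G) k
    (hQ (P.mapSurjective (QuotientGroup.mk'_surjective N)))
  intro x hxP hx1
  have hxN : x ∈ N := (QuotientGroup.eq_one_iff x).1 hx1
  obtain ⟨j, hj⟩ := P.isPGroup' ⟨x, hxP⟩
  have hj' : x ^ p ^ j = 1 := by
    have := congrArg Subtype.val hj
    simpa using this
  have h1 : orderOf x ∣ p ^ j := orderOf_dvd_of_pow_eq_one hj'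
  have h2 : orderOf x ∣ Nat.card N := by
    have h3 : orderOf (⟨x, hxN⟩ : N) ∣ Nat.card N := orderOf_dvd_natCard _
    rwa [Subgroup.orderOf_mk] at h3
  have h4 : (Nat.card N).Coprime (p ^ j) := Nat.Coprime.pow_right j hcop
  have h5 : orderOf x = 1 := Nat.eq_one_of_dvd_coprimes h4 h2 h1
  exact orderOf_eq_one_iff.1 h5

/-- Passing from the quotient by a normal abelian subgroup. -/
theorem step_abelian [Finite G] (p : ℕ) [hp : Fact p.Prime] (N : Subgroup G) [N.Normal]
    (hc : ∀ a ∈ N, ∀ b ∈ N, a * b = b * a) (k : ℕ)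
    (hQ : ∀ Q : Sylow p (G ⧸ N), derivedSeries ↥(Q : Subgroup (G ⧸ N)) k = ⊥) (P : Sylow p G) :
    derivedSeries ↥(P : Subgroup G) (k + 1) = ⊥ := by
  apply derivedSeries_succ_eq_bot_of_ker_comm (QuotientGroup.mk' N) (P : Subgroup G) k
    (hQ (P.mapSurjective (QuotientGroup.mk'_surjective N)))
  intro a b ha hb
  exact hc a ((QuotientGroup.eq_one_iff a).1 ha) b ((QuotientGroup.eq_one_iff b).1 hb)

/-- The main induction. -/
theorem main (p : ℕ) [hp : Fact p.Prime] : ∀ n : ℕ, ∀ (G : Type u) [Group G] [Finite G],
    Nat.card G = n → IsPSolvable p G →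
    (∀ P : Sylow p G, derivedSeries ↥(P : Subgroup G) (nS p G + 1) = ⊥) ∧
    (pCore p G = ⊥ → ∀ P : Sylow p G, derivedSeries ↥(P : Subgroup G) (nS p G) = ⊥) := by
  intro n
  induction n using Nat.strong_induction_on with
  | _ n ih =>
    intro G _ _ hn hsol
    classical
    letI : Fintype G := Fintype.ofFinite G
    have hquot_lt : ∀ (N : Subgroup G) [N.Normal], N ≠ ⊥ → Nat.card (G ⧸ N) < n := by
      intro N _ hN
      rw [← hn, ← Subgroup.index_eq_card, ← Subgroup.index_mul_card N]
      have h1 : 1 < Nat.card N := by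
        rw [Subgroup.one_lt_card_iff_ne_bot]
        exact hN
      have h2 : 0 < N.index := Nat.pos_of_ne_zero Subgroup.index_ne_zero_of_finite
      nlinarith
    have IHA : ∀ (N : Subgroup G) [N.Normal], N ≠ ⊥ → ∀ Q : Sylow p (G ⧸ N),
        derivedSeries ↥(Q : Subgroup (G ⧸ N)) (nS p (G ⧸ N) + 1) = ⊥ := by
      intro N _ hN
      exact (ih _ (hquot_lt N hN) (G ⧸ N) rfl (IsPSolvable.quotient N hsol)).1
    have IHB : ∀ (N : Subgroup G) [N.Normal], N ≠ ⊥ → pCore p (G ⧸ N) = ⊥ →
        ∀ Q : Sylow p (G ⧸ N), derivedSeries ↥(Q : Subgroup (G ⧸ N)) (nS p (G ⧸ N)) = ⊥ := by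
      intro N _ hN
      exact (ih _ (hquot_lt N hN) (G ⧸ N) rfl (IsPSolvable.quotient N hsol)).2
    haveI hKn : (pPrimeCore p G).Normal := Cfsg.Agent.Lib.Lead.PiCore.pPrimeCore_normal p
    have hKcop : (Nat.card (pPrimeCore p G)).Coprime p := pPrimeCore_coprime hp.out
    haveI hUn : (pCore p G).Normal := Cfsg.Agent.H9.pCore_normal p G
    have hUp : IsPGroup p (pCore p G) := Cfsg.Agent.H9.pCore_isPGroup p G
    constructor
    · -- part (A)
      by_cases hK : pPrimeCore p G = ⊥
      · rcases subsingleton_or_nontrivial G with hs | hnt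
        · intro P
          exact derivedSeries_eq_bot_of_subsingleton _ _
        · have hUne : pCore p G ≠ ⊥ := pCore_ne_bot hsol hK
          by_cases hUab : ∀ a ∈ pCore p G, ∀ b ∈ pCore p G, a * b = b * a
          · have hB := IHB (pCore p G) hUne
              (Cfsg.Agent.Lead.ExpSix.pCore_quotient_self_eq_bot (pCore p G) rfl)
            have hB' : ∀ Q : Sylow p (G ⧸ pCore p G),
                derivedSeries ↥(Q : Subgroup (G ⧸ pCore p G)) (nS p G) = ⊥ :=
              fun Q => derivedSeries_eq_bot_of_le _ (nS_quotient_le p (pCore p G)) (hB Q)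
            exact step_abelian p (pCore p G) hUab (nS p G) hB'
          · have hWne : ⁅pCore p G, pCore p G⁆ ≠ ⊥ := by
              intro h
              apply hUab
              intro a ha b hb
              have h1 : ⁅a, b⁆ ∈ ⁅pCore p G, pCore p G⁆ := Subgroup.commutator_mem_commutator ha hb
              rw [h, Subgroup.mem_bot, commutatorElement_def] at h1
              calc a * b = a * b * a⁻¹ * b⁻¹ * (b * a) := by group
                _ = b * a := by rw [h1, one_mul]
            haveI hWn : (⁅pCore p G, pCore p G⁆ : Subgroup G).Normal :=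
              Subgroup.commutator_normal _ _
            have hWle : ⁅pCore p G, pCore p G⁆ ≤ pCore p G := Subgroup.commutator_le_left _ _
            obtain ⟨A, hAn, hAne, hAW, hAc⟩ := exists_normal_abelian_le p
              ⁅pCore p G, pCore p G⁆ (hUp.to_le hWle) hWne
            haveI := hAn
            by_cases hex : ∃ χ : IrrCharacter G, p ∣ charDegree (χ : G → ℂ) ∧
                ∃ x ∈ A, (χ : G → ℂ) x ≠ (χ : G → ℂ) 1
            · have h1 := nS_quotient_succ_le p A hex
              have hA' := IHA A hAne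
              have h2 : ∀ Q : Sylow p (G ⧸ A),
                  derivedSeries ↥(Q : Subgroup (G ⧸ A)) (nS p G) = ⊥ :=
                fun Q => derivedSeries_eq_bot_of_le _ h1 (hA' Q)
              exact step_abelian p A hAc (nS p G) h2
            · exfalso
              push Not at hex
              obtain ⟨a, ha1⟩ := (Subgroup.ne_bot_iff_exists_ne_one.1 hAne)
              apply ha1
              have : (a : G) = 1 := by
                apply eq_one_of_forall_irr_apply_eq (a : G)
                intro ψ
                obtain ⟨d, hd, -, -⟩ := Cfsg.Agent.Lib.helper3.Central.irr_degree_dvd_card ψ.2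
                by_cases hpd : p ∣ d
                · exact hex ψ (by rw [charDegree_eq' hd]; exact hpd) a a.2
                · exact apply_eq_of_mem_commutator p (pCore p G) hUp ψ d hd hpd a (hAW a.2)
              exact Subtype.ext this
      · have h1 := IHA (pPrimeCore p G) hK
        have h2 : ∀ Q : Sylow p (G ⧸ pPrimeCore p G),
            derivedSeries ↥(Q : Subgroup (G ⧸ pPrimeCore p G)) (nS p G + 1) = ⊥ :=
          fun Q => derivedSeries_eq_bot_of_le _
            (Nat.succ_le_succ (nS_quotient_le p (pPrimeCore p G))) (h1 Q)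
        exact step_coprime p (pPrimeCore p G) hKcop (nS p G + 1) h2
    · -- part (B)
      intro hO P
      have hcent := Cfsg.Agent.H1.centralizer_pPrimeCore_le hsol hO
      by_cases hKtop : pPrimeCore p G = ⊤
      · -- `G` is a `p'`-group
        have hPbot : ∀ x ∈ (P : Subgroup G), x = 1 := by
          intro x hxP
          have hxN : x ∈ pPrimeCore p G := by rw [hKtop]; trivial
          obtain ⟨j, hj⟩ := P.isPGroup' ⟨x, hxP⟩
          have hj' : x ^ p ^ j = 1 := by
            have := congrArg Subtype.val hj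
            simpa using this
          have h1 : orderOf x ∣ p ^ j := orderOf_dvd_of_pow_eq_one hj'
          have h2 : orderOf x ∣ Nat.card (pPrimeCore p G) := by
            have h3 : orderOf (⟨x, hxN⟩ : pPrimeCore p G) ∣ Nat.card (pPrimeCore p G) :=
              orderOf_dvd_natCard _
            rwa [Subgroup.orderOf_mk] at h3
          have h4 : (Nat.card (pPrimeCore p G)).Coprime (p ^ j) := Nat.Coprime.pow_right j hKcop
          have h5 : orderOf x = 1 := Nat.eq_one_of_dvd_coprimes h4 h2 h1
          exact orderOf_eq_one_iff.1 h5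
        haveI : Subsingleton (P : Subgroup G) :=
          ⟨fun a b => Subtype.ext ((hPbot a a.2).trans (hPbot b b.2).symm)⟩
        exact derivedSeries_eq_bot_of_subsingleton _ _
      · have hKne : pPrimeCore p G ≠ ⊥ := by
          intro hK
          haveI : Nontrivial G := by
            rw [← Subgroup.nontrivial_iff]
            refine ⟨⊥, ⊤, ?_⟩
            rw [← hK]
            exact hKtop
          exact pCore_ne_bot hsol hK hO
        haveI : Nontrivial (G ⧸ pPrimeCore p G) := by
          rw [QuotientGroup.nontrivial_iff]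
          exact hKtop
        have hOq : pPrimeCore p (G ⧸ pPrimeCore p G) = ⊥ := pPrimeCore_quotient_eq_bot hp.out
        have hUq : pCore p (G ⧸ pPrimeCore p G) ≠ ⊥ :=
          pCore_ne_bot (IsPSolvable.quotient (pPrimeCore p G) hsol) hOq
        haveI hUqn : (pCore p (G ⧸ pPrimeCore p G)).Normal := Cfsg.Agent.H9.pCore_normal p _
        have hUqp : IsPGroup p (pCore p (G ⧸ pPrimeCore p G)) := Cfsg.Agent.H9.pCore_isPGroup p _
        obtain ⟨Y, hYdef⟩ : ∃ Y : Subgroup G,
            Y = (pCore p (G ⧸ pPrimeCore p G)).comap (QuotientGroup.mk' (pPrimeCore p G)) :=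
          ⟨_, rfl⟩
        haveI hYn : Y.Normal := by rw [hYdef]; exact hUqn.comap _
        obtain ⟨ybar, hy1⟩ := (Subgroup.ne_bot_iff_exists_ne_one.1 hUq)
        have hsurj := QuotientGroup.mk'_surjective (pPrimeCore p G)
        have hle : pCore p (G ⧸ pPrimeCore p G) ≤
            ((P.mapSurjective hsurj : Sylow p (G ⧸ pPrimeCore p G)) :
              Subgroup (G ⧸ pPrimeCore p G)) :=
          hUqp.le_sylow_of_normal _
        obtain ⟨x, hxP, hxy⟩ := hle ybar.2
        have hxY : x ∈ Y := by
          rw [hYdef, Subgroup.mem_comap, hxy]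
          exact ybar.2
        have hxK : x ∉ pPrimeCore p G := by
          intro h
          apply hy1
          apply Subtype.ext
          rw [← hxy]
          exact (QuotientGroup.eq_one_iff x).2 h
        obtain ⟨k, hk⟩ : ∃ k : ℕ, (pPrimeCore p G).relIndex Y = p ^ k := by
          obtain ⟨k, hk⟩ := IsPGroup.iff_card.1 hUqp
          refine ⟨k, ?_⟩
          have h1 := Subgroup.relIndex_ker (K := Y) (QuotientGroup.mk' (pPrimeCore p G))
          rw [QuotientGroup.ker_mk'] at h1
          rw [h1, hYdef, Subgroup.map_comap_eq_self_of_surjective hsurj]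
          exact hk
        have hex := exists_pdvd_nontrivial p (pPrimeCore p G) hKcop hcent Y k hk
          ((P : Subgroup G) ⊓ Y) (P.isPGroup'.to_le inf_le_left) inf_le_right x ⟨hxP, hxY⟩ hxK
        have h1 := nS_quotient_succ_le p (pPrimeCore p G) hex
        have hA' := IHA (pPrimeCore p G) hKne
        have h2 : ∀ Q : Sylow p (G ⧸ pPrimeCore p G),
            derivedSeries ↥(Q : Subgroup (G ⧸ pPrimeCore p G)) (nS p G) = ⊥ :=
          fun Q => derivedSeries_eq_bot_of_le _ h1 (hA' Q)
        exact step_coprime p (pPrimeCore p G) hKcop (nS p G) h2 P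

end Cfsg.Agent.Lib.helper3.SylDL
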