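import Mathlib

set_option autoImplicit false
set_option linter.style.haveILetI false
set_option linter.unusedSectionVars false

/-!
# A `p`-subgroup of index prime to `p` in its normalizer is a Sylow subgroup
-/

namespace Cfsg.Agent.Lib.helper3.SylowNormIdx

variable {G : Type*} [Group G] [Finite G]

/-- A `p`-subgroup whose index in its normalizer is prime to `p` is a Sylow `p`-subgroup. -/
theorem exists_sylow_eq_of_normalizer (p : ℕ) [Fact p.Prime] (K : Subgroup G)
    (hK : IsPGroup p K)
    (hp : ¬ p ∣ (K.subgroupOf (Subgroup.normalizer (K : Set G))).index) :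
    ∃ P : Sylow p G, (P : Subgroup G) = K := by
  obtain ⟨P, hKP⟩ := hK.exists_le_sylow
  refine ⟨P, ?_⟩
  by_contra hne
  have hlt : K < (P : Subgroup G) := lt_of_le_of_ne hKP (fun h => hne h.symm)
  -- the normalizer condition in the nilpotent group `P`
  haveI : Group.IsNilpotent ↥(P : Subgroup G) := P.isPGroup'.isNilpotent
  have hnc := normalizerCondition_of_isNilpotent (G := ↥(P : Subgroup G))
  have hlt' : K.subgroupOf (P : Subgroup G) < ⊤ := by
    rw [lt_top_iff_ne_top, Ne, Subgroup.subgroupOf_eq_top]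
    exact fun h => hne (le_antisymm h hKP)
  have hgrow := hnc (K.subgroupOf (P : Subgroup G)) hlt'
  obtain ⟨x, hxN, hxK⟩ := SetLike.exists_of_lt hgrow
  -- `x` normalizes `K` in `G`
  have hxG : (x : G) ∈ Subgroup.normalizer (K : Set G) := by
    rw [Subgroup.mem_normalizer_iff] at hxN ⊢
    intro k
    constructor
    · intro hk
      have h1 : (⟨k, hKP hk⟩ : ↥(P : Subgroup G)) ∈ K.subgroupOf (P : Subgroup G) :=
        Subgroup.mem_subgroupOf.mpr hk
      have h2 := (hxN _).mp h1
      exact Subgroup.mem_subgroupOf.mp h2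
    · intro hk
      have hkP : k ∈ (P : Subgroup G) := by
        have h3 : (x : G)⁻¹ * ((x : G) * k * (x : G)⁻¹) * (x : G) = k := by group
        rw [← h3]
        exact (P : Subgroup G).mul_mem ((P : Subgroup G).mul_mem
          ((P : Subgroup G).inv_mem x.2) (hKP hk)) x.2
      have h1 : x * (⟨k, hkP⟩ : ↥(P : Subgroup G)) * x⁻¹ ∈ K.subgroupOf (P : Subgroup G) :=
        Subgroup.mem_subgroupOf.mpr hk
      have h2 := (hxN _).mpr h1
      exact Subgroup.mem_subgroupOf.mp h2
  have hxK' : (x : G) ∉ K := fun h => hxK (Subgroup.mem_subgroupOf.mpr h)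
  -- the subgroup `R = P ⊓ N_G(K)` is a `p`-group strictly containing `K`
  obtain ⟨R, hR⟩ : ∃ R : Subgroup G, R = (P : Subgroup G) ⊓ Subgroup.normalizer (K : Set G) :=
    ⟨_, rfl⟩
  have hKR : K ≤ R := by
    rw [hR]
    exact le_inf hKP Subgroup.le_normalizer
  have hRN : R ≤ Subgroup.normalizer (K : Set G) := by
    rw [hR]
    exact inf_le_right
  have hxR : (x : G) ∈ R := by
    rw [hR]
    exact ⟨x.2, hxG⟩
  have hRp : IsPGroup p R := by
    rw [hR]
    exact P.isPGroup'.to_le inf_le_left
  have hmul := Subgroup.relIndex_mul_relIndex K R (Subgroup.normalizer (K : Set G)) hKR hRN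
  have hne1 : K.relIndex R ≠ 1 := by
    intro h
    rw [Subgroup.relIndex_eq_one] at h
    exact hxK' (h hxR)
  have hpow : ∃ n : ℕ, K.relIndex R = p ^ n := by
    obtain ⟨a, ha⟩ := IsPGroup.iff_card.mp hRp
    have hdvd : K.relIndex R ∣ Nat.card R := by
      rw [← Subgroup.card_mul_index (K.subgroupOf R)]
      exact Dvd.intro_left _ rfl
    rw [ha] at hdvd
    obtain ⟨n, -, hn⟩ := (Nat.dvd_prime_pow (Fact.out : p.Prime)).mp hdvd
    exact ⟨n, hn⟩
  obtain ⟨n, hn⟩ := hpow
  have hn0 : n ≠ 0 := by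
    intro h
    rw [h, pow_zero] at hn
    exact hne1 hn
  apply hp
  show p ∣ K.relIndex (Subgroup.normalizer (K : Set G))
  rw [← hmul, hn]
  exact Dvd.dvd.mul_right (dvd_pow_self p hn0) _

end Cfsg.Agent.Lib.helper3.SylowNormIdx
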