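import Mathlib
import Cfsg.Prelude.Def_Blocks
import Cfsg.Prelude.Def_BlockRank
import Cfsg.Agent.Lib.helper3.TwoDefOne1
import Cfsg.Agent.Lib.helper3.ExtFirstMain1
import Cfsg.Agent.Lib.helper3.FirstMain2
import Cfsg.Agent.Lib.helper3.BlockSection

/-!
# `2`-blocks whose defect group is generated by an involution: the local block
-/

set_option autoImplicit false
set_option linter.style.haveILetI false
set_option linter.unusedSectionVars false

namespace Cfsg.Agent.Lib.helper3.Block

open Cfsg Cfsg.Agent.Lib.helper3.LocalM Cfsg.Agent.Lib.helper3.Irr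
open Cfsg.Agent.Lib.helper3.CharBasic Cfsg.Agent.Lib.helper3.Lin Cfsg.Agent.Lib.helper3.Central
open Cfsg.Agent.Lib.helper3.IndFun Cfsg.Agent.Lib.helper3.HallNilp Cfsg.Agent.Lib.helper3.BrauerInd
open scoped ComplexConjugate

universe u

variable {G : Type u} [Group G] [Fintype G] {M : Ideal AlgInt}

theorem mem_zpowers_of_orderOf_two (x : G) (hx : orderOf x = 2) (h : G) :
    h ∈ Subgroup.zpowers x ↔ h = 1 ∨ h = x := by
  constructor
  · intro hh
    obtain ⟨k, rfl⟩ := Subgroup.mem_zpowers_iff.1 hh
    rw [← zpow_mod_orderOf, hx]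
    have h1 : k % ((2 : ℕ) : ℤ) = 0 ∨ k % ((2 : ℕ) : ℤ) = 1 := by
      push_cast
      omega
    rcases h1 with h1 | h1
    · left
      rw [h1, zpow_zero]
    · right
      rw [h1, zpow_one]
  · rintro (rfl | rfl)
    · exact Subgroup.one_mem _
    · exact Subgroup.mem_zpowers _

theorem centralizer_eq_normalizer_zpowers (x : G) (hx : orderOf x = 2) :
    Subgroup.centralizer ({x} : Set G) = Subgroup.normalizer (Subgroup.zpowers x : Set G) := by
  have hx1 : x ≠ 1 := by
    intro h
    rw [h, orderOf_one] at hx
    omega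
  ext g
  rw [Subgroup.mem_centralizer_singleton_iff, Subgroup.mem_normalizer_iff]
  constructor
  · intro hg h
    rw [mem_zpowers_of_orderOf_two x hx, mem_zpowers_of_orderOf_two x hx]
    constructor
    · rintro (rfl | rfl)
      · left
        group
      · right
        rw [hg, mul_inv_cancel_right]
    · rintro (h1 | h1)
      · left
        have : h = g⁻¹ * (g * h * g⁻¹) * g := by group
        rw [this, h1]
        group
      · right
        have : h = g⁻¹ * (g * h * g⁻¹) * g := by group
        rw [this, h1, mul_assoc, ← hg]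
        group
  · intro hg
    have h1 := (hg x).1 (Subgroup.mem_zpowers x)
    rw [mem_zpowers_of_orderOf_two x hx] at h1
    rcases h1 with h1 | h1
    · exfalso
      apply hx1
      have : x = g⁻¹ * (g * x * g⁻¹) * g := by group
      rw [this, h1]
      group
    · have : g * x = (g * x * g⁻¹) * g := by group
      rw [this, h1]

/-- A block of a subgroup equal to `N_G(D)` inducing a block with defect group `D` is unique. -/
theorem induced_unique_of_eq_normalizer {p : ℕ} [hp : Fact p.Prime] (hM : IsPModular p M)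
    (D H : Subgroup G) (hH : H = Subgroup.normalizer (D : Set G)) (hD : IsPGroup p D)
    (B : Set (IrrCharacter G)) (hB : IsPBlock M B) (hDB : IsDefectGroup p M B D)
    (b₁ b₂ : Set (IrrCharacter H)) (h₁ : IsInducedBlock M H b₁ B)
    (h₂ : IsInducedBlock M H b₂ B) : b₁ = b₂ := by
  subst hH
  have hD₁ := isDefectGroup_of_induced_le_normalizer hM D _ hD Subgroup.le_normalizer le_rfl
    B hB hDB b₁ h₁
  have hD₂ := isDefectGroup_of_induced_le_normalizer hM D _ hD Subgroup.le_normalizer le_rfl
    B hB hDB b₂ h₂
  exact induced_normalizer_unique hM D hD b₁ b₂ hD₁ hD₂ B h₁ h₂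

theorem isPGroup_zpowers_of_orderOf_two (x : G) (hx : orderOf x = 2) :
    IsPGroup 2 (Subgroup.zpowers x) := by
  apply IsPGroup.of_card (n := 1)
  rw [Nat.card_zpowers, hx, pow_one]

/-- The blocks of `C_G(x)` inducing a `2`-block with defect group `⟨x⟩`, `x` an involution:
there is only one. -/
theorem secSet_eq_of_involution_defect (hM : IsPModular 2 M) (x : G) (hx : orderOf x = 2)
    (B : Set (IrrCharacter G)) (hB : IsPBlock M B)
    (hBD : IsDefectGroup 2 M B (Subgroup.zpowers x))
    (b : Set (IrrCharacter (Subgroup.centralizer ({x} : Set G))))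
    (hb : IsInducedBlock M (Subgroup.centralizer ({x} : Set G)) b B) :
    secSet M x B = b := by
  classical
  haveI hp : Fact (Nat.Prime 2) := ⟨Nat.prime_two⟩
  haveI hMp := isPrime_of_isPModular hM
  have hMtop : M ≠ ⊤ := hM.2.1.ne_top
  haveI : Fintype (Subgroup.centralizer ({x} : Set G)) := Fintype.ofFinite _
  ext ψ
  constructor
  · intro hψ
    have h1 : IsInducedBlock M (Subgroup.centralizer ({x} : Set G))
        (blockOf M (ψ : Subgroup.centralizer ({x} : Set G) → ℂ)) B := hψ
    have h2 := induced_unique_of_eq_normalizer hM (Subgroup.zpowers x)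
      (Subgroup.centralizer ({x} : Set G)) (centralizer_eq_normalizer_zpowers x hx)
      (isPGroup_zpowers_of_orderOf_two x hx) B hB hBD _ _ h1 hb
    rw [← h2]
    exact sameBlock_refl hMtop _
  · intro hψ
    show IsInducedBlock M (Subgroup.centralizer ({x} : Set G))
        (blockOf M (ψ : Subgroup.centralizer ({x} : Set G) → ℂ)) B
    rw [isPBlock_eq_of_mem ⟨ψ, rfl⟩ hb.1 ψ (sameBlock_refl hMtop _) hψ]
    exact hb

/-- The local block has defect one. -/
theorem blockDefect_local_of_involution_defect (hM : IsPModular 2 M) (x : G)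
    (hx : orderOf x = 2) (B : Set (IrrCharacter G)) (hB : IsPBlock M B)
    (hBD : IsDefectGroup 2 M B (Subgroup.zpowers x))
    [Fintype (Subgroup.centralizer ({x} : Set G))]
    (b : Set (IrrCharacter (Subgroup.centralizer ({x} : Set G))))
    (hb : IsInducedBlock M (Subgroup.centralizer ({x} : Set G)) b B) :
    blockDefect 2 B = 1 ∧ blockDefect 2 b = 1 := by
  classical
  haveI hp : Fact (Nat.Prime 2) := ⟨Nat.prime_two⟩
  have hcard : Nat.card (Subgroup.zpowers x) = 2 := by rw [Nat.card_zpowers, hx]
  constructor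
  · have h1 := card_of_isDefectGroup hM B hB _ hBD
    rw [hcard] at h1
    have h2 : (2 : ℕ) ^ 1 = 2 ^ blockDefect 2 B := by rw [pow_one]; exact h1
    exact (Nat.pow_right_injective le_rfl h2).symm
  · have hle : Subgroup.zpowers x ≤ Subgroup.centralizer ({x} : Set G) := by
      rw [Subgroup.zpowers_le]
      exact Subgroup.mem_centralizer_singleton_iff.mpr rfl
    have hD := isDefectGroup_of_induced_le_normalizer hM (Subgroup.zpowers x)
      (Subgroup.centralizer ({x} : Set G)) (isPGroup_zpowers_of_orderOf_two x hx) hle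
      (by rw [centralizer_eq_normalizer_zpowers x hx]) B hB hBD b hb
    have h1 := card_of_isDefectGroup hM b hb.1 _ hD
    rw [Nat.card_congr (Subgroup.subgroupOfEquivOfLe hle).toEquiv, hcard] at h1
    have h2 : (2 : ℕ) ^ 1 = 2 ^ blockDefect 2 b := by rw [pow_one]; exact h1
    exact (Nat.pow_right_injective le_rfl h2).symm

end Cfsg.Agent.Lib.helper3.Block
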