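import Mathlib
import Cfsg.Prelude.Def_Blocks
import Cfsg.Prelude.Def_BlockRank
import Cfsg.Agent.Lib.helper3.TwoDefOne2
import Cfsg.Agent.Lib.helper3.SecMain5
import Cfsg.Agent.S0944

/-!
# `2`-blocks whose defect group is generated by an involution
-/

set_option autoImplicit false
set_option linter.style.haveILetI false
set_option linter.unusedSectionVars false

namespace Cfsg.Agent.Lib.helper3.Block

open Cfsg Cfsg.Agent.Lib.helper3.LocalM Cfsg.Agent.Lib.helper3.Irr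
open Cfsg.Agent.Lib.helper3.CharBasic Cfsg.Agent.Lib.helper3.Lin Cfsg.Agent.Lib.helper3.Central
open Cfsg.Agent.Lib.helper3.IndFun Cfsg.Agent.Lib.helper3.HallNilp Cfsg.Agent.Lib.helper3.BrauerInd
open scoped ComplexConjugate

universe u

open Classical in
theorem sum_ite_pair {α : Type*} [Fintype α] (S : Set α) (a b : α) (hab : a ≠ b)
    (hS : S = {a, b}) (f : α → ℂ) :
    ∑ ψ : α, (if ψ ∈ S then (1 : ℂ) else 0) * f ψ = f a + f b := by
  have h1 : ∀ ψ : α, (if ψ ∈ S then (1 : ℂ) else 0) * f ψ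
      = (if ψ = a then f a else 0) + (if ψ = b then f b else 0) := by
    intro ψ
    by_cases h1 : ψ = a
    · have hm : ψ ∈ S := by rw [hS, h1]; simp
      rw [if_pos hm, if_pos h1, if_neg (by rw [h1]; exact hab), h1]
      ring
    · by_cases h2 : ψ = b
      · have hm : ψ ∈ S := by rw [hS, h2]; simp
        rw [if_pos hm, if_neg h1, if_pos h2, h2]
        ring
      · have hm : ψ ∉ S := by
          rw [hS]
          simp [h1, h2]
        rw [if_neg hm, if_neg h1, if_neg h2]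
        ring
  simp_rw [h1]
  rw [Finset.sum_add_distrib, Finset.sum_ite_eq', Finset.sum_ite_eq']
  simp

theorem exists_pair_of_card_two {α : Type*} (S : Set α) (h : Nat.card S = 2) :
    ∃ a b : α, a ≠ b ∧ S = {a, b} := by
  rw [Nat.card_coe_set_eq] at h
  exact Set.ncard_eq_two.1 h

variable {G : Type u} [Group G] [Fintype G] {M : Ideal AlgInt}

/-- **Brauer: `2`-blocks of defect one.** -/
theorem two_block_defect_one (hM : IsPModular 2 M) (x : G) (hx : orderOf x = 2)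
    (B : Set (IrrCharacter G)) (hB : IsPBlock M B)
    (hBD : IsDefectGroup 2 M B (Subgroup.zpowers x))
    (b : Set (IrrCharacter (Subgroup.centralizer ({x} : Set G))))
    (hb : IsInducedBlock M (Subgroup.centralizer ({x} : Set G)) b B)
    (θ : IrrCharacter (Subgroup.centralizer ({x} : Set G))) (hθ : θ ∈ b) :
    Nat.card B = 2 ∧
      (∀ χ ∈ B, ∀ ψ ∈ B, ∀ g : G, ¬ 2 ∣ orderOf g → (χ : G → ℂ) g = (ψ : G → ℂ) g) ∧
      ∃ χ₁ ∈ B, ∃ χ₂ ∈ B, χ₁ ≠ χ₂ ∧ ∃ ε₁ ε₂ : ℤ, (ε₁ = 1 ∨ ε₁ = -1) ∧ (ε₂ = 1 ∨ ε₂ = -1) ∧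
        ε₁ * ε₂ = -1 ∧
        ∀ y : Subgroup.centralizer ({x} : Set G), ¬ 2 ∣ orderOf y →
          (χ₁ : G → ℂ) (x * y) = (ε₁ : ℂ) * (θ : Subgroup.centralizer ({x} : Set G) → ℂ) y ∧
          (χ₂ : G → ℂ) (x * y) = (ε₂ : ℂ) * (θ : Subgroup.centralizer ({x} : Set G) → ℂ) y := by
  classical
  haveI hp : Fact (Nat.Prime 2) := ⟨Nat.prime_two⟩
  haveI hMp := isPrime_of_isPModular hM
  have hMtop : M ≠ ⊤ := hM.2.1.ne_top
  haveI : Fintype (Subgroup.centralizer ({x} : Set G)) := Fintype.ofFinite _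
  obtain ⟨hdB, hdb⟩ := blockDefect_local_of_involution_defect hM x hx B hB hBD b hb
  have hcardB : Nat.card B = 2 := by
    have := card_block_two hM B hB 1 hdB le_rfl (by norm_num)
    rw [this, pow_one]
  have hcardb : Nat.card b = 2 := by
    have := card_block_two hM b hb.1 1 hdb le_rfl (by norm_num)
    rw [this, pow_one]
  have hagreeB := agree_regular_of_defect_one hM B hB hdB
  have hagreeb := agree_regular_of_defect_one hM b hb.1 hdb
  refine ⟨hcardB, fun χ hχ ψ hψ g hg => hagreeB χ ψ hχ hψ g hg, ?_⟩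
  obtain ⟨χ₁, χ₂, hχne, hBeq⟩ := exists_pair_of_card_two B hcardB
  obtain ⟨θ₁, θ₂, hθne, hbeq⟩ := exists_pair_of_card_two b hcardb
  have hχ₁ : χ₁ ∈ B := by rw [hBeq]; simp
  have hχ₂ : χ₂ ∈ B := by rw [hBeq]; simp
  have hθ₁ : θ₁ ∈ b := by rw [hbeq]; simp
  have hθ₂ : θ₂ ∈ b := by rw [hbeq]; simp
  have hsec : secSet M x B = b := secSet_eq_of_involution_defect hM x hx B hB hBD b hb
  have hx' : orderOf x = 2 ^ 1 := by rw [hx, pow_one]
  -- the coefficients
  obtain ⟨e, he⟩ : ∃ e : IrrCharacter G → ℂ, e = fun ζ : IrrCharacter G =>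
      classInner (fun c : Subgroup.centralizer ({x} : Set G) => (ζ : G → ℂ) (x * (c : G)))
          (θ₁ : Subgroup.centralizer ({x} : Set G) → ℂ)
      + classInner (fun c : Subgroup.centralizer ({x} : Set G) => (ζ : G → ℂ) (x * (c : G)))
          (θ₂ : Subgroup.centralizer ({x} : Set G) → ℂ) := ⟨_, rfl⟩
  have hval : ∀ ζ ∈ B, ∀ y : Subgroup.centralizer ({x} : Set G), ¬ 2 ∣ orderOf y →
      (ζ : G → ℂ) (x * y) = e ζ * (θ : Subgroup.centralizer ({x} : Set G) → ℂ) y := by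
    intro ζ hζ y hy
    have h1 := block_section hM x 1 hx' B hB ζ y hy
    rw [if_pos hζ, hsec, sum_ite_pair b θ₁ θ₂ hθne hbeq] at h1
    rw [← h1, hagreeb θ₁ θ hθ₁ hθ y hy, hagreeb θ₂ θ hθ₂ hθ y hy, he]
    ring
  have h1reg : ¬ 2 ∣ orderOf (1 : Subgroup.centralizer ({x} : Set G)) := by
    rw [orderOf_one]
    norm_num
  have hvalx : ∀ ζ ∈ B, (ζ : G → ℂ) x
      = e ζ * (θ : Subgroup.centralizer ({x} : Set G) → ℂ) 1 := by
    intro ζ hζ
    have := hval ζ hζ 1 h1reg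
    rw [OneMemClass.coe_one, mul_one] at this
    exact this
  obtain ⟨dθ, hdθpos, hdθ⟩ := exists_pos_nat_apply_one θ.2
  obtain ⟨d1, hd1pos, hd1⟩ := exists_pos_nat_apply_one χ₁.2
  have hd2 : (χ₂ : G → ℂ) 1 = (d1 : ℂ) := by
    rw [← hd1]
    exact hagreeB χ₂ χ₁ hχ₂ hχ₁ 1 (by rw [orderOf_one]; norm_num)
  have hdθC : (dθ : ℂ) ≠ 0 := by exact_mod_cast hdθpos.ne'
  have hd1C : (d1 : ℂ) ≠ 0 := by exact_mod_cast hd1pos.ne'
  -- orthogonality with the identity
  have horth : e χ₁ + e χ₂ = 0 := by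
    have h1 := block_orthogonality hM B hB x 1 x 1
      ⟨1, mul_one x, Commute.one_right x, ⟨1, hx'⟩, by rw [orderOf_one]; norm_num⟩
      ⟨1, mul_one 1, Commute.one_right 1, ⟨0, by rw [orderOf_one, pow_zero]⟩,
        by rw [orderOf_one]; norm_num⟩
      (by
        intro hc
        have := isConj_one_left.1 hc
        rw [this, orderOf_one] at hx
        omega)
    rw [sum_ite_pair B χ₁ χ₂ hχne hBeq, inv_one, hd1, hd2, hvalx χ₁ hχ₁, hvalx χ₂ hχ₂,
      hdθ] at h1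
    have h2 : (e χ₁ + e χ₂) * ((dθ : ℂ) * (d1 : ℂ)) = 0 := by linear_combination h1
    rcases mul_eq_zero.1 h2 with h | h
    · exact h
    · exact absurd h (mul_ne_zero hdθC hd1C)
  -- the squares
  obtain ⟨n1, hn1, -⟩ := Cfsg.Agent.S0944.result χ₁ x hx
  obtain ⟨n2, hn2, -⟩ := Cfsg.Agent.S0944.result χ₂ x hx
  have hsq : e χ₁ * e χ₁ = 1 := by
    have h1 := sum_block_section_sq hM x 1 hx' B hB 1 h1reg
    rw [hsec, sum_ite_pair B χ₁ χ₂ hχne hBeq, sum_ite_pair b θ₁ θ₂ hθne hbeq,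
      OneMemClass.coe_one, mul_one, hagreeb θ₁ θ hθ₁ hθ 1 h1reg, hagreeb θ₂ θ hθ₂ hθ 1 h1reg,
      hdθ, Complex.conj_natCast] at h1
    have c1 : conj ((χ₁ : G → ℂ) x) = (χ₁ : G → ℂ) x := by
      rw [hn1]
      exact map_intCast (starRingEnd ℂ) n1
    have c2 : conj ((χ₂ : G → ℂ) x) = (χ₂ : G → ℂ) x := by
      rw [hn2]
      exact map_intCast (starRingEnd ℂ) n2
    rw [c1, c2, hvalx χ₁ hχ₁, hvalx χ₂ hχ₂, hdθ] at h1
    have h2 : e χ₂ = - e χ₁ := by linear_combination horth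
    rw [h2] at h1
    have h3 : (e χ₁ * e χ₁ - 1) * ((dθ : ℂ) * (dθ : ℂ)) = 0 := by linear_combination h1 / 2
    rcases mul_eq_zero.1 h3 with h | h
    · linear_combination h
    · exact absurd h (mul_ne_zero hdθC hdθC)
  have hcases : e χ₁ = 1 ∨ e χ₁ = -1 := by
    have h2 : (e χ₁ - 1) * (e χ₁ + 1) = 0 := by linear_combination hsq
    rcases mul_eq_zero.1 h2 with h | h
    · left
      linear_combination h
    · right
      linear_combination h
  refine ⟨χ₁, hχ₁, χ₂, hχ₂, hχne, ?_⟩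
  rcases hcases with h | h
  · refine ⟨1, -1, Or.inl rfl, Or.inr rfl, by norm_num, ?_⟩
    intro y hy
    have h2 : e χ₂ = -1 := by linear_combination horth - h
    rw [hval χ₁ hχ₁ y hy, hval χ₂ hχ₂ y hy, h, h2]
    push_cast
    exact ⟨rfl, rfl⟩
  · refine ⟨-1, 1, Or.inr rfl, Or.inl rfl, by norm_num, ?_⟩
    intro y hy
    have h2 : e χ₂ = 1 := by linear_combination horth - h
    rw [hval χ₁ hχ₁ y hy, hval χ₂ hχ₂ y hy, h, h2]
    push_cast
    exact ⟨rfl, rfl⟩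

end Cfsg.Agent.Lib.helper3.Block
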