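import Mathlib
import Cfsg.Agent.Lib.Helper4.UniqSylC
import Cfsg.Agent.Lib.helper3.UniqSylG

/-!
S4349 pieces (C4) `restrict_good` and (C5) `sq_full_cycle` (helper3), statements verbatim from
helper9's stub list, assembled from helper4's combinatorial lemmas and `exists_halves`.
-/

set_option autoImplicit false

namespace Cfsg.Agent.Lib.helper3.UniqSylCb

open Equiv Equiv.Perm
open Cfsg.Agent.Lib.Helper4.UniqSyl

universe u

theorem congr_apply_mem {α : Type u} (p : α → Prop) [DecidablePred p]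
    (y1 : Perm {a // p a}) (y2 : Perm {a // ¬ p a}) (a : α) (ha : p a) :
    Equiv.Perm.subtypeCongrHom p (y1, y2) a = y1 ⟨a, ha⟩ := by
  rw [Equiv.Perm.subtypeCongrHom_apply]
  exact Equiv.Perm.subtypeCongr.left_apply y1 y2 ha

theorem congr_apply_not_mem {α : Type u} (p : α → Prop) [DecidablePred p]
    (y1 : Perm {a // p a}) (y2 : Perm {a // ¬ p a}) (a : α) (ha : ¬ p a) :
    Equiv.Perm.subtypeCongrHom p (y1, y2) a = y2 ⟨a, ha⟩ := by
  rw [Equiv.Perm.subtypeCongrHom_apply]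
  exact Equiv.Perm.subtypeCongr.right_apply y1 y2 ha

theorem eq_subtypePerm_of_congr {α : Type u} (p : α → Prop) [DecidablePred p] (x : Perm α)
    (y1 : Perm {a // p a}) (y2 : Perm {a // ¬ p a})
    (h : Equiv.Perm.subtypeCongrHom p (y1, y2) = x) :
    ∃ (hp : ∀ a, p (x a) ↔ p a), y1 = x.subtypePerm hp ∧
      y2 = x.subtypePerm (p := fun a => ¬ p a) (fun a => not_congr (hp a)) := by
  have hp : ∀ a, p (x a) ↔ p a := by
    intro a
    by_cases ha : p a
    · rw [← h, congr_apply_mem p y1 y2 a ha]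
      exact ⟨fun _ => ha, fun _ => (y1 ⟨a, ha⟩).2⟩
    · rw [← h, congr_apply_not_mem p y1 y2 a ha]
      exact ⟨fun h' => absurd h' (y2 ⟨a, ha⟩).2, fun h' => absurd h' ha⟩
  refine ⟨hp, ?_, ?_⟩
  · ext ⟨a, ha⟩
    rw [Equiv.Perm.subtypePerm_apply]
    simp only
    rw [← h, congr_apply_mem p y1 y2 a ha]
  · ext ⟨a, ha⟩
    rw [Equiv.Perm.subtypePerm_apply]
    simp only
    rw [← h, congr_apply_not_mem p y1 y2 a ha]

/-- (C4), general invariant predicate -/
theorem restrict_good_gen {α : Type u} [Fintype α] [DecidableEq α] (p : α → Prop)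
    [DecidablePred p] [Fintype {a // p a}] [Fintype {a // ¬ p a}] (x : Perm α)
    (hx : ∃ k : ℕ, orderOf x = 2 ^ k) (h1 : Fintype.card α ≤ x.support.card + 2)
    (h2 : x.cycleType.Nodup)
    (x1 : Perm {a // p a}) (x2 : Perm {a // ¬ p a})
    (h : Equiv.Perm.subtypeCongrHom p (x1, x2) = x) :
    ((∃ k : ℕ, orderOf x1 = 2 ^ k) ∧ Fintype.card {a // p a} ≤ x1.support.card + 2 ∧
        x1.cycleType.Nodup) ∧
    ((∃ k : ℕ, orderOf x2 = 2 ^ k) ∧ Fintype.card {a // ¬ p a} ≤ x2.support.card + 2 ∧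
        x2.cycleType.Nodup) := by
  obtain ⟨hp, e1, e2⟩ := eq_subtypePerm_of_congr p x x1 x2 h
  refine ⟨⟨?_, ?_⟩, ⟨?_, ?_⟩⟩
  · rw [e1]; exact orderOf_subtypePerm_pow2 x p hp hx
  · rw [e1]; exact star_subtypePerm x p hp ⟨h1, h2⟩
  · rw [e2]; exact orderOf_subtypePerm_pow2 x (fun a => ¬ p a) _ hx
  · rw [e2]; exact star_subtypePerm x (fun a => ¬ p a) _ ⟨h1, h2⟩

/-- (C4) the two restrictions of `x` (to the longest cycle and to the rest) satisfy (*) -/
theorem restrict_good {α : Type u} [Fintype α] [DecidableEq α] (x : Perm α)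
    (hx : ∃ k : ℕ, orderOf x = 2 ^ k) (h1 : Fintype.card α ≤ x.support.card + 2)
    (h2 : x.cycleType.Nodup) (σ : Perm α) (hσ : σ ∈ x.cycleFactorsFinset)
    (x1 : Perm {a // a ∈ σ.support}) (x2 : Perm {a // ¬ a ∈ σ.support})
    (h : Equiv.Perm.subtypeCongrHom (fun a => a ∈ σ.support) (x1, x2) = x) :
    ((∃ k : ℕ, orderOf x1 = 2 ^ k) ∧ Fintype.card {a // a ∈ σ.support} ≤ x1.support.card + 2 ∧
        x1.cycleType.Nodup) ∧
    ((∃ k : ℕ, orderOf x2 = 2 ^ k) ∧ Fintype.card {a // ¬ a ∈ σ.support} ≤ x2.support.card + 2 ∧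
        x2.cycleType.Nodup) :=
  restrict_good_gen (fun a => a ∈ σ.support) x hx h1 h2 x1 x2 h

/-- (C5) the square of a full cycle of even length `≥ 4` -/
theorem sq_full_cycle {α : Type u} [Fintype α] [DecidableEq α] (x : Perm α)
    (hx : ∃ k : ℕ, orderOf x = 2 ^ k) (hc : x.IsCycle) (hs : x.support = Finset.univ)
    (h4 : 4 ≤ Fintype.card α) :
    ∃ H0 : Finset α, (∀ a, (x ^ 2) a ∈ H0 ↔ a ∈ H0) ∧ 2 * H0.card = Fintype.card α ∧
      (∀ H : Finset α, (∀ a, (x ^ 2) a ∈ H ↔ a ∈ H) → 2 * H.card = Fintype.card α →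
        H = H0 ∨ H = H0ᶜ) ∧
      ∀ (y1 : Perm {a // a ∈ H0}) (y2 : Perm {a // ¬ a ∈ H0}),
        Equiv.Perm.subtypeCongrHom (fun a => a ∈ H0) (y1, y2) = x ^ 2 →
        ((∃ k : ℕ, orderOf y1 = 2 ^ k) ∧ Fintype.card {a // a ∈ H0} ≤ y1.support.card + 2 ∧
            y1.cycleType.Nodup) ∧
        ((∃ k : ℕ, orderOf y2 = 2 ^ k) ∧ Fintype.card {a // ¬ a ∈ H0} ≤ y2.support.card + 2 ∧
            y2.cycleType.Nodup) := by
  classical
  have hmoved : ∀ a : α, x a ≠ a := by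
    intro a
    have : a ∈ x.support := by rw [hs]; exact Finset.mem_univ a
    exact Equiv.Perm.mem_support.mp this
  have htr : ∀ a b : α, ∃ i : ℕ, (x ^ i) a = b := fun a b =>
    hc.exists_pow_eq (hmoved a) (hmoved b)
  -- the 2-group generated by `x`
  obtain ⟨k, hk⟩ := hx
  have hP : IsPGroup 2 (Subgroup.zpowers x) := by
    haveI : Fact (Nat.Prime 2) := ⟨Nat.prime_two⟩
    apply IsPGroup.of_card (n := k)
    rw [Nat.card_zpowers, hk]
  have htrP : ∀ a b : α, ∃ g ∈ Subgroup.zpowers x, g a = b := by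
    intro a b
    obtain ⟨i, hi⟩ := htr a b
    exact ⟨x ^ i, Subgroup.pow_mem _ (Subgroup.mem_zpowers x) i, hi⟩
  obtain ⟨M, H0, hMP, hidx, hcard, hMiff, hswap, -, -⟩ :=
    Cfsg.Agent.Lib.helper3.UniqSylG.exists_halves (Subgroup.zpowers x) hP htrP (by omega)
  have hxM : x ∉ M := by
    intro hxM
    have hle : Subgroup.zpowers x ≤ M := by
      rw [Subgroup.zpowers_le]; exact hxM
    have : M = Subgroup.zpowers x := le_antisymm hMP hle
    rw [this, Subgroup.relIndex_self] at hidx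
    omega
  have hH0 : ∀ a, x a ∈ H0 ↔ a ∉ H0 := hswap x (Subgroup.mem_zpowers x) hxM
  have hsq : x ^ 2 = x * x := pow_two x
  have hinv : ∀ a, (x * x) a ∈ H0 ↔ a ∈ H0 := sq_mem_iff x H0 hH0
  have hx2 : ∃ k : ℕ, orderOf (x * x) = 2 ^ k := by
    have hdvd : orderOf (x * x) ∣ 2 ^ k := by
      rw [← hk, ← hsq]
      exact orderOf_pow_dvd 2
    obtain ⟨m, -, hm⟩ := (Nat.dvd_prime_pow Nat.prime_two).mp hdvd
    exact ⟨m, hm⟩
  refine ⟨H0, ?_, hcard, ?_, ?_⟩
  · rw [hsq]; exact hinv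
  · intro H hHinv hHcard
    rw [hsq] at hHinv
    have hc0 : H0ᶜ.card = H0.card := by
      have := Finset.card_compl H0
      omega
    by_cases hex : ∃ a, a ∈ H ∧ a ∈ H0
    · left
      obtain ⟨a, haH, haH0⟩ := hex
      have hsub : H0 ⊆ H := by
        intro b hb
        obtain ⟨i, hi⟩ := sq_transitive_on x htr H0 hH0 a haH0 b hb
        rw [← hi, pow_mem_iff (x * x) H hHinv]
        exact haH
      exact (Finset.eq_of_subset_of_card_le hsub (by omega)).symm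
    · right
      push_neg at hex
      have hsub : H ⊆ H0ᶜ := by
        intro b hb
        rw [Finset.mem_compl]
        exact hex b hb
      exact Finset.eq_of_subset_of_card_le hsub (by omega)
  · intro y1 y2 hy
    rw [hsq] at hy
    obtain ⟨hp, e1, e2⟩ := eq_subtypePerm_of_congr (fun a => a ∈ H0) (x * x) y1 y2 hy
    refine ⟨⟨?_, ?_⟩, ⟨?_, ?_⟩⟩
    · rw [e1]; exact orderOf_subtypePerm_pow2 (x * x) (fun a => a ∈ H0) hp hx2
    · rw [e1]
      apply star_of_transitive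
      rintro ⟨a, ha⟩ ⟨b, hb⟩
      obtain ⟨i, hi⟩ := sq_transitive_on x htr H0 hH0 a ha b hb
      refine ⟨i, ?_⟩
      rw [Equiv.Perm.subtypePerm_pow]
      apply Subtype.ext
      rw [Equiv.Perm.subtypePerm_apply]
      exact hi
    · rw [e2]; exact orderOf_subtypePerm_pow2 (x * x) (fun a => ¬ a ∈ H0) _ hx2
    · rw [e2]
      apply star_of_transitive
      rintro ⟨a, ha⟩ ⟨b, hb⟩
      obtain ⟨i, hi⟩ := sq_transitive_on x htr H0ᶜ (compl_swap x H0 hH0) a
        (Finset.mem_compl.mpr ha) b (Finset.mem_compl.mpr hb)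
      refine ⟨i, ?_⟩
      rw [Equiv.Perm.subtypePerm_pow]
      apply Subtype.ext
      rw [Equiv.Perm.subtypePerm_apply]
      exact hi

end Cfsg.Agent.Lib.helper3.UniqSylCb
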