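import Mathlib
import Cfsg.Prelude.Def_Characters
import Cfsg.Agent.Lib.helper3.UniqueP1
import Cfsg.Agent.Lib.helper3.Glaub3
import Cfsg.Agent.Lib.helper3.Gallagher2
import Cfsg.Agent.Lib.helper3.GalCount2
import Cfsg.Agent.Lib.helper3.MackeyLin
import Cfsg.Agent.Lib.helper3.PiSection

set_option autoImplicit false
set_option linter.style.haveILetI false
set_option linter.unusedSectionVars false

/-!
# The sum over the characters other than a distinguished one, for an abelian quotient acting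
freely by multiplication
-/

namespace Cfsg.Agent.Lib.helper3.UniqueP

open Cfsg Cfsg.Agent.Lib.helper3.Irr Cfsg.Agent.Lib.helper3.CharBasic
open Cfsg.Agent.Lib.helper3.IndFun Cfsg.Agent.Lib.helper3.Lin Cfsg.Agent.Lib.helper3.Glaub
open Cfsg.Agent.Lib.helper3.GalCount Cfsg.Agent.Lib.helper3.MackeyLin
open scoped ComplexConjugate

universe u

variable {G : Type u} [Group G] [Fintype G]

/-- Multiplication of irreducible characters of `G` by the linear characters of `G ⧸ N`. -/
noncomputable def quotAction (N : Subgroup G) [N.Normal] :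
    MulAction ((G ⧸ N) →* ℂˣ) (IrrCharacter G) :=
  letI := linAction (K := G)
  MulAction.compHom (IrrCharacter G) (MonoidHom.compHom' (QuotientGroup.mk' N))

theorem quotAction_apply (N : Subgroup G) [N.Normal] (lam : (G ⧸ N) →* ℂˣ) (ψ : IrrCharacter G)
    (g : G) :
    letI := quotAction N
    ((lam • ψ : IrrCharacter G) : G → ℂ) g = ((lam (g : G ⧸ N) : ℂˣ) : ℂ) * (ψ : G → ℂ) g := rfl

/-- Gallagher: the action is free at characters restricting irreducibly. -/
theorem quotAction_free (N : Subgroup G) [hN : N.Normal] (ψ : IrrCharacter G)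
    (hres : IsIrrCharacter N (fun n : N => (ψ : G → ℂ) n)) (lam : (G ⧸ N) →* ℂˣ)
    (hfix : (letI := quotAction N; lam • ψ) = ψ) : lam = 1 := by
  classical
  letI : Fintype N := Fintype.ofFinite N
  have hg := (gallagher_inflate N (ψ : G → ℂ) (isCharacter_of_isIrrCharacter ψ.2)
    (apply_one_ne_zero ψ.2) hres).2 (irrOfHom lam) (irrOfHom 1)
  apply irrOfHom_injective
  apply hg
  funext g
  have h1 := congrFun (congrArg Subtype.val hfix) g
  rw [quotAction_apply] at h1
  simp only [Pi.mul_apply, inflate_apply, irrOfHom_apply, MonoidHom.one_apply, Units.val_one,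
    one_mul]
  exact h1

/-- The set of multiples of `m` by algebraic integers. -/
def mulInt (m : ℂ) : AddSubmonoid ℂ where
  carrier := {x | ∃ a : ℂ, IsIntegral ℤ a ∧ x = m * a}
  add_mem' := by
    rintro x y ⟨a, ha, rfl⟩ ⟨b, hb, rfl⟩
    exact ⟨a + b, ha.add hb, by ring⟩
  zero_mem' := ⟨0, isIntegral_zero, by ring⟩

theorem mem_mulInt (m x : ℂ) : x ∈ mulInt m ↔ ∃ a : ℂ, IsIntegral ℤ a ∧ x = m * a := Iff.rfl

/-- The sum of `ψ(g) conj ψ(h)` over the irreducible characters other than `χ₀` is a multiple of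
`|G : N|` by an algebraic integer, when `G ⧸ N` is abelian, the characters other than `χ₀`
restrict irreducibly to `N` and `χ₀` is fixed by multiplication with the characters of
`G ⧸ N`. -/
theorem sum_ne_mem (N : Subgroup G) [hN : N.Normal] (hcomm : ∀ a b : G ⧸ N, a * b = b * a)
    (χ₀ : IrrCharacter G)
    (hres : ∀ ψ : IrrCharacter G, ψ ≠ χ₀ → IsIrrCharacter N (fun n : N => (ψ : G → ℂ) n))
    (hfix : ∀ lam : (G ⧸ N) →* ℂˣ, (letI := quotAction N; lam • χ₀) = χ₀)
    (g h : G) [DecidableEq (IrrCharacter G)] :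
    ∃ a : ℂ, IsIntegral ℤ a ∧
      ∑ ψ : IrrCharacter G, (if ψ = χ₀ then 0 else (ψ : G → ℂ) g * conj ((ψ : G → ℂ) h))
        = (N.index : ℂ) * a := by
  classical
  haveI : Finite ((G ⧸ N) →* ℂˣ) := finite_dual (G ⧸ N) hcomm
  letI : Fintype ((G ⧸ N) →* ℂˣ) := Fintype.ofFinite _
  letI := quotAction N
  rw [← mem_mulInt]
  apply sum_mem_of_orbits (Γ := (G ⧸ N) →* ℂˣ) (mulInt (N.index : ℂ))
    (fun ψ : IrrCharacter G => if ψ = χ₀ then 0 else (ψ : G → ℂ) g * conj ((ψ : G → ℂ) h))
  · intro x _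
    by_cases hx : x = χ₀
    · have h0 : ∀ γ : (G ⧸ N) →* ℂˣ, (if γ • x = χ₀ then (0 : ℂ)
          else ((γ • x : IrrCharacter G) : G → ℂ) g * conj (((γ • x : IrrCharacter G) : G → ℂ) h))
          = 0 := by
        intro γ
        rw [if_pos]
        rw [hx]
        exact hfix γ
      rw [Finset.sum_congr rfl (fun γ _ => h0 γ), Finset.sum_const_zero]
      exact (mulInt _).zero_mem
    · have hne : ∀ γ : (G ⧸ N) →* ℂˣ, γ • x ≠ χ₀ := by
        intro γ hγ
        apply hx
        have h1 : γ⁻¹ • (γ • x) = γ⁻¹ • χ₀ := by rw [hγ]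
        rw [show γ⁻¹ • (γ • x) = x from inv_smul_smul γ x] at h1
        rw [h1]
        exact hfix γ⁻¹
      have h1 : ∀ γ : (G ⧸ N) →* ℂˣ, (if γ • x = χ₀ then (0 : ℂ)
          else ((γ • x : IrrCharacter G) : G → ℂ) g * conj (((γ • x : IrrCharacter G) : G → ℂ) h))
          = ((γ ((g : G ⧸ N) * (h : G ⧸ N)⁻¹) : ℂˣ) : ℂ)
            * ((x : G → ℂ) g * conj ((x : G → ℂ) h)) := by
        intro γ
        rw [if_neg (hne γ), quotAction_apply, quotAction_apply, map_mul, map_mul, map_inv]
        have h2 := mul_conj_eq_one_of_linear (isCharacter_of_hom γ) (by simp) (h : G ⧸ N)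
        have h3 : conj ((γ (h : G ⧸ N) : ℂˣ) : ℂ) = (((γ (h : G ⧸ N))⁻¹ : ℂˣ) : ℂ) := by
          rw [Units.val_inv_eq_inv_val]
          have hne0 : ((γ (h : G ⧸ N) : ℂˣ) : ℂ) ≠ 0 := Units.ne_zero _
          field_simp
          rw [mul_comm]
          exact h2
        rw [h3]
        push_cast
        ring
      rw [Finset.sum_congr rfl (fun γ _ => h1 γ), ← Finset.sum_mul]
      have hint : IsIntegral ℤ ((x : G → ℂ) g * conj ((x : G → ℂ) h)) :=
        (isIntegral_of_isCharacter (isCharacter_of_isIrrCharacter x.2) g).mul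
          (Cfsg.Agent.Lib.helper3.PiSection.isIntegral_conj'
            (isIntegral_of_isCharacter (isCharacter_of_isIrrCharacter x.2) h))
      have hq := sum_dual_apply (Q := G ⧸ N) hcomm ((g : G ⧸ N) * (h : G ⧸ N)⁻¹)
      by_cases hq1 : (g : G ⧸ N) * (h : G ⧸ N)⁻¹ = 1
      · rw [hq.1 hq1, ← Subgroup.index_eq_card]
        exact ⟨_, hint, rfl⟩
      · rw [hq.2 hq1, zero_mul]
        exact (mulInt _).zero_mem
  · rintro x ⟨γ, hγ1, hγx⟩
    have hx : x = χ₀ := by
      by_contra hx
      exact hγ1 (quotAction_free N x (hres x hx) γ hγx)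
    rw [if_pos hx]
    exact (mulInt _).zero_mem

end Cfsg.Agent.Lib.helper3.UniqueP
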