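import Mathlib
import Cfsg.Prelude.Def_Characters
import Cfsg.Agent.Lib.helper3.UniqueP2

set_option autoImplicit false
set_option linter.style.haveILetI false
set_option linter.unusedSectionVars false

/-!
# Arithmetic core for the unique class of size divisible by `p`
-/

namespace Cfsg.Agent.Lib.helper3.UniqueP

open Cfsg
open scoped ComplexConjugate

universe u

variable {G : Type u} [Group G]

theorem card_carrier_eq_index [Finite G] (g : G) :
    Nat.card (ConjClasses.mk g).carrier = (Subgroup.centralizer ({g} : Set G)).index := by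
  have h1 : (Subgroup.centralizer ({g} : Set G)).index
      = (MulAction.stabilizer (ConjAct G) g).index := by
    rw [Subgroup.centralizer_eq_comap_stabilizer]
    exact Subgroup.index_comap_of_surjective _ (ConjAct.toConjAct (G := G)).surjective
  rw [h1, MulAction.index_stabilizer, ConjAct.orbit_eq_carrier_conjClasses]
  exact Nat.card_coe_set_eq _

/-- The arithmetic core: two non-conjugate elements cannot both have centralizer orders not
divisible by `p ^ n`. -/
theorem arith_core (p n : ℕ) (hp : p.Prime) (c d : ℕ) (hc0 : c ≠ 0) (hd0 : d ≠ 0)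
    (hc : ¬ p ^ n ∣ c) (hd : ¬ p ^ n ∣ d)
    (x y a ag ah : ℂ) (ha : IsIntegral ℤ a) (hag : IsIntegral ℤ ag) (hah : IsIntegral ℤ ah)
    (E1 : x * conj y + ((p : ℂ) ^ n) * a = 0)
    (E2 : x * conj x + ((p : ℂ) ^ n) * ag = (c : ℂ))
    (E3 : y * conj y + ((p : ℂ) ^ n) * ah = (d : ℂ)) : False := by
  set i := c.factorization p with hi
  set j := d.factorization p with hj
  have hin : i < n := by
    by_contra h
    push Not at h
    exact hc ((hp.pow_dvd_iff_le_factorization hc0).2 h)
  have hjn : j < n := by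
    by_contra h
    push Not at h
    exact hd ((hp.pow_dvd_iff_le_factorization hd0).2 h)
  obtain ⟨i', hi'⟩ : ∃ i', n = i + 1 + i' := ⟨n - (i + 1), by omega⟩
  obtain ⟨j', hj'⟩ : ∃ j', n = j + 1 + j' := ⟨n - (j + 1), by omega⟩
  obtain ⟨u, hu⟩ : ∃ u, c = p ^ i * u := ⟨_, (Nat.ordProj_mul_ordCompl_eq_self c p).symm⟩
  obtain ⟨v, hv⟩ : ∃ v, d = p ^ j * v := ⟨_, (Nat.ordProj_mul_ordCompl_eq_self d p).symm⟩
  have hca : IsIntegral ℤ (conj a) := Cfsg.Agent.Lib.helper3.PiSection.isIntegral_conj' ha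
  have hP : IsIntegral ℤ (p : ℂ) := by
    have : (p : ℂ) = ((p : ℤ) : ℂ) := by push_cast; rfl
    rw [this]
    exact isIntegral_algebraMap
  have hnat : ∀ m : ℕ, IsIntegral ℤ (m : ℂ) := by
    intro m
    have : (m : ℂ) = ((m : ℤ) : ℂ) := by push_cast; rfl
    rw [this]
    exact isIntegral_algebraMap
  -- the conjugate of `E1`
  have E1' : conj x * y + ((p : ℂ) ^ n) * conj a = 0 := by
    have := congrArg conj E1
    simpa [map_add, map_mul, map_pow, Complex.conj_natCast] using this
  have hprod : ((c : ℂ) - (p : ℂ) ^ n * ag) * ((d : ℂ) - (p : ℂ) ^ n * ah)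
      = ((p : ℂ) ^ n * a) * ((p : ℂ) ^ n * conj a) := by
    have e1 : x * conj y = -((p : ℂ) ^ n * a) := by linear_combination E1
    have e1' : conj x * y = -((p : ℂ) ^ n * conj a) := by linear_combination E1'
    have e2 : (c : ℂ) - (p : ℂ) ^ n * ag = x * conj x := by linear_combination -E2
    have e3 : (d : ℂ) - (p : ℂ) ^ n * ah = y * conj y := by linear_combination -E3
    rw [e2, e3]
    calc x * conj x * (y * conj y) = (x * conj y) * (conj x * y) := by ring
      _ = _ := by rw [e1, e1']; ring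
  set A : ℂ := (p : ℂ) ^ i' * ag * v + (p : ℂ) ^ j' * ah * u
    + (p : ℂ) ^ (i' + j' + 1) * (a * conj a - ag * ah) with hA
  have hAint : IsIntegral ℤ A := by
    rw [hA]
    exact (((hP.pow _).mul hag).mul (hnat v)).add (((hP.pow _).mul hah).mul (hnat u)) |>.add
      ((hP.pow _).mul ((ha.mul hca).sub (hag.mul hah)))
  have hkey : ((c * d : ℕ) : ℂ) = ((p ^ (i + j + 1) : ℕ) : ℂ) * A := by
    have h12 : (p : ℂ) ^ i * (p : ℂ) * (p : ℂ) ^ i' = (p : ℂ) ^ j * (p : ℂ) * (p : ℂ) ^ j' := by
      rw [← pow_succ, ← pow_add, ← pow_succ, ← pow_add, ← hi', ← hj']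
    have hcC : (c : ℂ) = (p : ℂ) ^ i * u := by rw [hu]; push_cast; ring
    have hdC : (d : ℂ) = (p : ℂ) ^ j * v := by rw [hv]; push_cast; ring
    have hn1 : (p : ℂ) ^ n = (p : ℂ) ^ i * (p : ℂ) * (p : ℂ) ^ i' := by
      rw [← pow_succ, ← pow_add, ← hi']
    rw [hn1, hcC, hdC] at hprod
    push_cast
    rw [hA, hcC, hdC]
    simp only [pow_add, pow_one]
    linear_combination hprod + ((p : ℂ) ^ i * u * ah
      - (ag * ah - a * conj a) * ((p : ℂ) ^ i * (p : ℂ) * (p : ℂ) ^ i')) * h12
  have hpk : p ^ (i + j + 1) ≠ 0 := pow_ne_zero _ hp.ne_zero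
  have hdvd : p ^ (i + j + 1) ∣ c * d := nat_dvd_of_eq_mul_isIntegral hpk hAint hkey
  have hle := (hp.pow_dvd_iff_le_factorization (Nat.mul_ne_zero hc0 hd0)).1 hdvd
  rw [Nat.factorization_mul hc0 hd0] at hle
  simp only [Finsupp.coe_add, Pi.add_apply] at hle
  omega

end Cfsg.Agent.Lib.helper3.UniqueP
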