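import Mathlib
import Cfsg.Prelude.Def_Characters
import Cfsg.Agent.Lib.helper3.UniqueP3
import Cfsg.Agent.Lib.helper3.Pdeg2
import Cfsg.Agent.Lib.helper3.PRes2
import Cfsg.Agent.Lib.helper3.ClassBound
import Cfsg.Agent.Lib.helper3.Degrees
import Cfsg.Agent.Lib.helper3.Inflate
import Cfsg.Agent.Lib.helper3.ClassSz1
import Cfsg.Agent.Lib.helper3.NormalSylow1
import Cfsg.Agent.Lib.helper3.Ito
import Cfsg.Agent.Lib.helper3.Irr7

set_option autoImplicit false
set_option linter.style.haveILetI false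
set_option linter.unusedSectionVars false

/-!
# A group with a normal `p`-complement and a unique irreducible character of degree divisible by
`p` has a unique conjugacy class of size divisible by `p`
-/

namespace Cfsg.Agent.Lib.helper3.UniqueP

open Cfsg Cfsg.Agent.Lib.helper3.Irr Cfsg.Agent.Lib.helper3.CharBasic
open Cfsg.Agent.Lib.helper3.IndFun
open scoped ComplexConjugate

universe u

variable {G : Type u} [Group G]

theorem main [Finite G] (p : ℕ) [hpf : Fact p.Prime] (hnil : ¬ Group.IsNilpotent G)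
    (N : Subgroup G) [hNn : N.Normal] (hN : (Nat.card N).Coprime p) (n : ℕ)
    (hidx : N.index = p ^ n)
    (hone : Nat.card {χ : IrrCharacter G // p ∣ charDegree (χ : G → ℂ)} = 1) :
    Nat.card {C : ConjClasses G // p ∣ Nat.card C.carrier} = 1 := by
  classical
  letI : Fintype G := Fintype.ofFinite G
  letI : Fintype N := Fintype.ofFinite N
  have hp : p.Prime := hpf.out
  obtain ⟨hsub, ⟨⟨χ₀, hχ₀⟩⟩⟩ := Nat.card_eq_one_iff_unique.1 hone
  have huniq : ∀ ψ : IrrCharacter G, p ∣ charDegree (ψ : G → ℂ) → ψ = χ₀ :=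
    fun ψ hψ => congrArg Subtype.val (hsub.elim ⟨ψ, hψ⟩ ⟨χ₀, hχ₀⟩)
  have hdeg : ∀ ψ : IrrCharacter G, ∃ d : ℕ, (ψ : G → ℂ) 1 = d ∧
      charDegree (ψ : G → ℂ) = d ∧ 0 < d := by
    intro ψ
    obtain ⟨d, hd, _, hpos⟩ := Cfsg.Agent.Lib.helper3.Central.irr_degree_dvd_card ψ.2
    exact ⟨d, hd, Cfsg.Agent.Lib.helper3.Pdeg.charDegree_eq' hd, hpos⟩
  have hcop : (Nat.card N).Coprime N.index := by
    rw [hidx]
    exact Nat.Coprime.pow_right n hN
  have hsolv : Group.IsSolvable (G ⧸ N) :=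
    Cfsg.Agent.Lib.helper3.PRes.isSolvable_quotient_of_index_pow p n hp N hidx
  have hres : ∀ ψ : IrrCharacter G, ψ ≠ χ₀ →
      IsIrrCharacter N (fun k : N => (ψ : G → ℂ) k) := by
    intro ψ hψ
    obtain ⟨d, hd, hcd, _⟩ := hdeg ψ
    have hpd : ¬ p ∣ d := by
      rw [← hcd]
      exact fun h => hψ (huniq ψ h)
    apply Cfsg.Agent.Lib.helper3.Pdeg.restrict_irr_of_coprime_degree N hcop hsolv
      (ψ : G → ℂ) ψ.2 d hd
    rw [hidx]
    exact Nat.Coprime.pow_right n ((Nat.Prime.coprime_iff_not_dvd hp).2 hpd).symm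
  have hNbot : N ≠ ⊥ := by
    intro h
    apply hnil
    have hcard : Nat.card G = p ^ n := by
      rw [← Subgroup.index_bot (G := G), ← h, hidx]
    have hpg : IsPGroup p G := IsPGroup.of_card hcard
    exact hpg.isNilpotent
  -- the quotient is abelian
  have hcomm : ∀ a b : G ⧸ N, a * b = b * a := by
    letI : Fintype (G ⧸ N) := Fintype.ofFinite _
    by_contra hcon
    have hex : ∃ β : IrrCharacter (G ⧸ N), (β : G ⧸ N → ℂ) 1 ≠ 1 := by
      by_contra hall
      push Not at hall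
      apply hcon
      exact comm_of_all_linear hall
    obtain ⟨β, hβ⟩ := hex
    obtain ⟨b, hb, hbdvd, hbpos⟩ := Cfsg.Agent.Lib.helper3.Central.irr_degree_dvd_card β.2
    have hcardQ : Nat.card (G ⧸ N) = p ^ n := by
      rw [← Subgroup.index_eq_card]
      exact hidx
    rw [hcardQ] at hbdvd
    have hpb : p ∣ b := by
      obtain ⟨j, _, hj⟩ := (Nat.dvd_prime_pow hp).1 hbdvd
      rcases Nat.eq_zero_or_pos j with h0 | hpos
      · exfalso
        apply hβ
        rw [hb, hj, h0]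
        simp
      · rw [hj]
        exact dvd_pow_self p hpos.ne'
    have hinfl1 : inflate N (β : G ⧸ N → ℂ) 1 = b := by
      rw [inflate_apply, QuotientGroup.mk_one]
      exact hb
    obtain ⟨ι, hι⟩ : ∃ ι : IrrCharacter G, (ι : G → ℂ) = inflate N (β : G ⧸ N → ℂ) :=
      ⟨⟨_, isIrrCharacter_inflate N β.2⟩, rfl⟩
    have hι1 : (ι : G → ℂ) 1 = b := by rw [hι]; exact hinfl1
    have hιχ₀ : ι = χ₀ :=
      huniq ι (by rw [Cfsg.Agent.Lib.helper3.Pdeg.charDegree_eq' hι1]; exact hpb)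
    obtain ⟨⟨n₀, hn₀N⟩, hn₀1⟩ := (Subgroup.ne_bot_iff_exists_ne_one).1 hNbot
    have hn₀1' : n₀ ≠ 1 := fun h => hn₀1 (Subtype.ext h)
    have hexψ : ∃ ψ : IrrCharacter G, (ψ : G → ℂ) n₀ ≠ (ψ : G → ℂ) 1 := by
      by_contra hall
      push Not at hall
      exact hn₀1' (eq_one_of_forall_irr_apply_eq n₀ hall)
    obtain ⟨ψ, hψ⟩ := hexψ
    have hinfln : inflate N (β : G ⧸ N → ℂ) n₀ = b := by
      rw [inflate_apply_of_mem N _ hn₀N]
      exact hinfl1
    have hψχ₀ : ψ ≠ χ₀ := by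
      intro h
      apply hψ
      rw [h, ← hιχ₀, hι, hinfln, hinfl1]
    have hψN := hres ψ hψχ₀
    have hgal := (gallagher_inflate N (ψ : G → ℂ) (isCharacter_of_isIrrCharacter ψ.2)
      (apply_one_ne_zero ψ.2) hψN).1 β
    obtain ⟨π, hπ⟩ : ∃ π : IrrCharacter G,
        (π : G → ℂ) = inflate N (β : G ⧸ N → ℂ) * (ψ : G → ℂ) := ⟨⟨_, hgal⟩, rfl⟩
    obtain ⟨d, hd, hcd, hdpos⟩ := hdeg ψ
    have hπ1 : (π : G → ℂ) 1 = ((b * d : ℕ) : ℂ) := by
      rw [hπ, Pi.mul_apply, hinfl1, hd]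
      push_cast
      rfl
    have hπχ₀ : π = χ₀ :=
      huniq π (by
        rw [Cfsg.Agent.Lib.helper3.Pdeg.charDegree_eq' hπ1]
        exact Dvd.dvd.mul_right hpb d)
    have hπι : (π : G → ℂ) = (ι : G → ℂ) := by rw [hπχ₀, hιχ₀]
    rw [hπ, hι] at hπι
    have e1 := congrFun hπι 1
    have e2 := congrFun hπι n₀
    rw [Pi.mul_apply, hinfl1] at e1
    rw [Pi.mul_apply, hinfln] at e2
    have hb0 : (b : ℂ) ≠ 0 := by
      have : b ≠ 0 := hbpos.ne'
      exact_mod_cast this
    apply hψ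
    have h1 : (ψ : G → ℂ) 1 = 1 := mul_left_cancel₀ hb0 (by rw [e1, mul_one])
    have h2 : (ψ : G → ℂ) n₀ = 1 := mul_left_cancel₀ hb0 (by rw [e2, mul_one])
    rw [h1, h2]
  -- `χ₀` is fixed by multiplication with the characters of the quotient
  have hfix : ∀ lam : (G ⧸ N) →* ℂˣ, (letI := quotAction N; lam • χ₀) = χ₀ := by
    intro lam
    letI := quotAction N
    apply huniq
    obtain ⟨d, hd, hcd, _⟩ := hdeg χ₀
    have h1 : ((lam • χ₀ : IrrCharacter G) : G → ℂ) 1 = d := by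
      rw [quotAction_apply, QuotientGroup.mk_one, map_one, Units.val_one, one_mul, hd]
    rw [Cfsg.Agent.Lib.helper3.Pdeg.charDegree_eq' h1, ← hcd]
    exact hχ₀
  -- the key congruences
  have hS : ∀ g h : G, ∃ a : ℂ, IsIntegral ℤ a ∧
      (χ₀ : G → ℂ) g * conj ((χ₀ : G → ℂ) h) + (p : ℂ) ^ n * a
        = ∑ ψ : IrrCharacter G, (ψ : G → ℂ) g * conj ((ψ : G → ℂ) h) := by
    intro g h
    obtain ⟨a, ha, hsum⟩ := sum_ne_mem N hcomm χ₀ hres hfix g h
    refine ⟨a, ha, ?_⟩
    rw [hidx] at hsum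
    push_cast at hsum
    rw [← hsum]
    have hsplit : ∀ ψ : IrrCharacter G, (ψ : G → ℂ) g * conj ((ψ : G → ℂ) h)
        = (if ψ = χ₀ then (ψ : G → ℂ) g * conj ((ψ : G → ℂ) h) else 0)
          + (if ψ = χ₀ then 0 else (ψ : G → ℂ) g * conj ((ψ : G → ℂ) h)) := by
      intro ψ
      split_ifs <;> simp
    rw [Finset.sum_congr rfl (fun ψ _ => hsplit ψ), Finset.sum_add_distrib,
      Finset.sum_ite_eq' Finset.univ χ₀, if_pos (Finset.mem_univ _)]
  have hcardG : Nat.card G = Nat.card N * p ^ n := by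
    rw [← hidx]
    exact (Subgroup.card_mul_index N).symm
  have hcent : ∀ g : G, p ∣ Nat.card (ConjClasses.mk g).carrier →
      ¬ p ^ n ∣ Nat.card (Subgroup.centralizer ({g} : Set G)) := by
    intro g hg hdvd
    rw [card_carrier_eq_index] at hg
    have h1 := Subgroup.card_mul_index (Subgroup.centralizer ({g} : Set G))
    have h2 : p ^ n * p ∣ Nat.card N * p ^ n := by
      rw [← hcardG, ← h1]
      exact Nat.mul_dvd_mul hdvd hg
    have h3 : p ∣ Nat.card N := by
      rw [mul_comm (Nat.card N)] at h2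
      exact (Nat.mul_dvd_mul_iff_left (pow_pos hp.pos n)).1 h2
    exact (Nat.Prime.coprime_iff_not_dvd hp).1 hN.symm h3
  have hsubs : ∀ g h : G, p ∣ Nat.card (ConjClasses.mk g).carrier →
      p ∣ Nat.card (ConjClasses.mk h).carrier → IsConj g h := by
    intro g h hg hh
    by_contra hngh
    obtain ⟨a, ha, E1⟩ := hS g h
    obtain ⟨ag, hag, E2⟩ := hS g g
    obtain ⟨ah, hah, E3⟩ := hS h h
    rw [(column_orthogonality g h).2 hngh] at E1
    rw [(column_orthogonality g g).1 (IsConj.refl g)] at E2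
    rw [(column_orthogonality h h).1 (IsConj.refl h)] at E3
    exact arith_core p n hp _ _ (Nat.card_pos.ne') (Nat.card_pos.ne') (hcent g hg) (hcent h hh)
      _ _ a ag ah ha hag hah E1 E2 E3
  -- existence
  have hexists : ∃ g : G, p ∣ Nat.card (ConjClasses.mk g).carrier := by
    by_contra hcon
    push Not at hcon
    obtain ⟨P⟩ : Nonempty (Sylow p G) := inferInstance
    have hcentP : Subgroup.centralizer ((P : Subgroup G) : Set G) = ⊤ := by
      apply Cfsg.Agent.Lib.helper3.NormalSylow.eq_top_of_forall_conj_mem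
      intro g
      have hg := hcon g
      rw [card_carrier_eq_index] at hg
      obtain ⟨P', hP'⟩ := Cfsg.Agent.Lib.helper3.ClassSz.exists_sylow_le_of_not_dvd_index p _ hg
      obtain ⟨x, hx⟩ := MulAction.exists_smul_eq G P' P
      refine ⟨x⁻¹, ?_⟩
      rw [inv_inv, Subgroup.mem_centralizer_iff]
      intro y hy
      have hy' : y ∈ ((x • P' : Sylow p G) : Subgroup G) := by rw [hx]; exact hy
      rw [Sylow.coe_subgroup_smul, Subgroup.mem_pointwise_smul_iff_inv_smul_mem] at hy'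
      have hy2 : x⁻¹ * y * x ∈ (P' : Subgroup G) := by
        have : (MulAut.conj x)⁻¹ • y = x⁻¹ * y * x := by
          rw [MulAut.smul_def, ← map_inv, MulAut.conj_apply, inv_inv]
        rw [this] at hy'
        exact hy'
      have hy3 := hP' hy2
      rw [Subgroup.mem_centralizer_iff] at hy3
      have hy4 := hy3 g (Set.mem_singleton g)
      calc y * (x * g * x⁻¹) = x * ((x⁻¹ * y * x) * g) * x⁻¹ := by group
        _ = x * (g * (x⁻¹ * y * x)) * x⁻¹ := by rw [hy4]
        _ = x * g * x⁻¹ * y := by group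
    have hcentral : ∀ y ∈ (P : Subgroup G), ∀ g : G, g * y = y * g := by
      intro y hy g
      have hg : g ∈ Subgroup.centralizer ((P : Subgroup G) : Set G) := by
        rw [hcentP]
        exact Subgroup.mem_top g
      rw [Subgroup.mem_centralizer_iff] at hg
      exact (hg y hy).symm
    haveI hPn : (P : Subgroup G).Normal := by
      constructor
      intro y hy g
      rw [hcentral y hy g, mul_inv_cancel_right]
      exact hy
    obtain ⟨d, ρ, hirr, hρ⟩ := χ₀.2
    haveI := hirr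
    have hito := ito ρ (P : Subgroup G) (fun a ha b _ => (hcentral a ha b).symm)
    have h1 : (χ₀ : G → ℂ) 1 = (Module.finrank ℂ (Fin d → ℂ) : ℕ) := by
      rw [← hρ]
      exact Representation.char_one ρ
    have h2 := hχ₀
    rw [Cfsg.Agent.Lib.helper3.Pdeg.charDegree_eq' h1] at h2
    exact P.not_dvd_index (dvd_trans h2 hito)
  rw [Nat.card_eq_one_iff_unique]
  constructor
  · constructor
    rintro ⟨C, hC⟩ ⟨D, hD⟩
    apply Subtype.ext
    obtain ⟨g, rfl⟩ := ConjClasses.mk_surjective C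
    obtain ⟨h, rfl⟩ := ConjClasses.mk_surjective D
    exact ConjClasses.mk_eq_mk_iff_isConj.2 (hsubs g h hC hD)
  · obtain ⟨g, hg⟩ := hexists
    exact ⟨⟨ConjClasses.mk g, hg⟩⟩

end Cfsg.Agent.Lib.helper3.UniqueP
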